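import Cfsg.Agent.Lib.Helper28.OutM11

set_option autoImplicit false

/-!
`M12` is generated by `t ↦ 2t`, `cubeTwist`, an element of order 4 and an involution; its
automorphisms are inner or inner composed with conjugation by `projInv`; the outer automorphism
group has order 2.
-/

namespace Cfsg.Agent.Lib.Helper28

open Cfsg MulAction
open scoped Pointwise

def o12_ztab : Fin 24 → Fin 24 :=
  ![3, 12, 13, 0, 16, 19, 9, 11, 18, 6, 17, 7, 1, 2, 20, 23, 4, 10, 8, 5, 14, 22, 21, 15]

/-- the seven letters -/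
def o12_tabs : Fin 7 → Fin 24 → Fin 24 :=
  ![o11_btab, o11_binvtab, cubeTwistTab, cubeTwistInvTab, o11m_xtab, o11m_xinvtab, o12_ztab]

set_option maxRecDepth 100000 in
theorem o12_tabs_inj : ∀ i, TabInj (o12_tabs i) := by decide +kernel

set_option maxRecDepth 100000 in
set_option maxHeartbeats 4000000 in
theorem o12_tabs_check : ∀ i, TabCheck (o12_tabs i) := by decide +kernel

set_option maxRecDepth 100000 in
theorem o12_tabs_sq : ∀ (i : Fin 7) (a : Fin 24), sqMask.testBit a.val = true →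
    sqMask.testBit (o12_tabs i a).val = true := by
  decide +kernel

/-- the involution of `M12` centralizing `cubeTwist` -/
noncomputable def o12_z : Equiv.Perm GolayPt := tabPerm o12_ztab (o12_tabs_inj 6)

theorem o12_z_acts : TActs o12_z o12_ztab := tabPerm_pt _ _

theorem o12_gen_mem (i : Fin 7) : tabPerm (o12_tabs i) (o12_tabs_inj i) ∈ Spor.M12 := by
  rw [mem_sporM12]
  exact ⟨tabPerm_mem_M24 _ _ (o12_tabs_check i), smul_sq_of_tab (tabPerm_pt _ _) (o12_tabs_sq i)⟩

def o12_b : Fin 5 → Fin 24 := ![0, 1, 2, 3, 4]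

def o12_om : Fin 5 → ℕ := ![340831, 340830, 340828, 340824, 340816]

def o12_tr : Fin 5 → Fin 24 → List (Fin 7) := ![
  ![[],
    [2, 0, 6],
    [3, 0, 6],
    [6],
    [4, 2, 0, 6],
    [],
    [0, 6],
    [],
    [2, 0, 0, 6],
    [6, 0, 6],
    [],
    [],
    [0, 0, 6],
    [1, 6],
    [],
    [],
    [3, 1, 6],
    [],
    [5, 0, 6],
    [],
    [],
    [],
    [],
    []],
  ![[],
    [],
    [0],
    [1, 3],
    [4],
    [],
    [3],
    [],
    [2, 1],
    [3, 1],
    [],
    [],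
    [1],
    [0, 2],
    [],
    [],
    [4, 1],
    [],
    [2],
    [],
    [],
    [],
    [],
    []],
  ![[],
    [],
    [],
    [1, 2, 4],
    [5, 3, 0],
    [],
    [2, 5],
    [],
    [2, 1, 1],
    [1, 4, 0],
    [],
    [],
    [1, 5, 0],
    [3, 4, 0, 0],
    [],
    [],
    [5, 0, 0],
    [],
    [4, 3],
    [],
    [],
    [],
    [],
    []],
  ![[],
    [],
    [],
    [],
    [4, 2, 0],
    [],
    [1, 1, 4, 4, 1, 1],
    [],
    [4, 2, 0, 4, 2, 0],
    [0, 4, 4, 2, 1],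
    [],
    [],
    [4, 2, 4, 1, 4],
    [1, 3, 5],
    [],
    [],
    [0, 4, 3, 1],
    [],
    [0, 2, 5, 1],
    [],
    [],
    [],
    [],
    []],
  ![[],
    [],
    [],
    [],
    [],
    [],
    [4, 1, 1, 5, 1, 2, 1],
    [],
    [3, 0, 5, 1, 2, 5],
    [5, 1, 3, 4, 0, 4, 2],
    [],
    [],
    [2, 0, 4, 4, 1, 3],
    [2, 0, 5, 1, 3],
    [],
    [],
    [4, 3, 0, 4, 1, 2],
    [],
    [2, 0, 4, 1, 3],
    [],
    [],
    [],
    [],
    []]]

set_option maxRecDepth 1000000 in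
set_option maxHeartbeats 4000000 in
theorem o12_tr_spec : ∀ (k : Fin 5) (p : Fin 24), (o12_om k).testBit p.val = true →
    (∀ j : Fin 5, j < k → twordTab o12_tabs (o12_tr k p) (o12_b j) = o12_b j) ∧
      twordTab o12_tabs (o12_tr k p) (o12_b k) = p := by
  decide +kernel

set_option maxRecDepth 100000 in
theorem o12_om_card : ∀ k : Fin 5,
    (Finset.univ.filter fun a : Fin 24 => (o12_om k).testBit a.val = true).card =
      (![12, 11, 10, 9, 8] : Fin 5 → ℕ) k := by
  decide +kernel

set_option maxRecDepth 100000 in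
theorem o12_om_spec : ∀ (k : Fin 5) (c : Fin 24), sqMask.testBit c.val = true →
    (∀ j : Fin 5, j < k → c ≠ o12_b j) → (o12_om k).testBit c.val = true := by
  decide +kernel

theorem o12_b_inj : ∀ i j : Fin 5, o12_b i = o12_b j → i = j := by decide

theorem o12_b_sq : ∀ k : Fin 5, sqMask.testBit (o12_b k).val = true := by decide

theorem M12_upper (k : Fin 5) (g : Equiv.Perm GolayPt) (hg : g ∈ Spor.M12)
    (hfix : ∀ j : Fin 5, j < k → g (Helper4.pt (o12_b j)) = Helper4.pt (o12_b j)) :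
    (o12_om k).testBit (ptInv (g (Helper4.pt (o12_b k)))).val = true := by
  rw [mem_sporM12] at hg
  have hT := tActs_tabOf g
  apply o12_om_spec
  · exact tab_sq_of_smul hT hg.2 _ (o12_b_sq k)
  · intro j hj hc
    have h1 : g (Helper4.pt (o12_b k)) = Helper4.pt (o12_b j) := by
      rw [hT, show tabOf g (o12_b k) = o12_b j from hc]
    rw [← hfix j hj] at h1
    have := o12_b_inj _ _ (Helper4.pt_bijective.1 (g.injective h1))
    exact absurd this (ne_of_gt hj)

theorem M12_rigid (g : Equiv.Perm GolayPt) (hg : g ∈ Spor.M12)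
    (hfix : ∀ j : Fin 5, g (Helper4.pt (o12_b j)) = Helper4.pt (o12_b j)) : g = 1 := by
  rw [mem_sporM12] at hg
  exact sq_rigid hg.1 hg.2 o12_b o12_b_sq (fun i j h => o12_b_inj i j h) hfix

theorem M12_chain : Nat.card Spor.M12 = ∏ k : Fin 5, (![12, 11, 10, 9, 8] : Fin 5 → ℕ) k ∧
    Spor.M12 ≤ Subgroup.closure (Set.range fun i => tabPerm (o12_tabs i) (o12_tabs_inj i)) :=
  closure_eq_of_chain Spor.M12 o12_tabs o12_tabs_inj o12_gen_mem o12_b o12_om _
    M12_upper o12_tr o12_tr_spec o12_om_card M12_rigid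

theorem card_sporM12 : Nat.card Spor.M12 = 95040 := by
  rw [M12_chain.1]
  decide

theorem M11_le_M12 : Spor.M11 ≤ Spor.M12 := inf_le_left

theorem o12_z_mem_M12 : o12_z ∈ Spor.M12 := o12_gen_mem 6

theorem o12_letter (i : Fin 7) : tabPerm (o12_tabs i) (o12_tabs_inj i) ∈
    Subgroup.closure (insert o11_b (insert cubeTwist (Set.range ![o11m_x, o12_z]))) := by
  have h1 : o11_b ∈
      Subgroup.closure (insert o11_b (insert cubeTwist (Set.range ![o11m_x, o12_z]))) :=
    Subgroup.subset_closure (Set.mem_insert _ _)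
  have h2 : cubeTwist ∈
      Subgroup.closure (insert o11_b (insert cubeTwist (Set.range ![o11m_x, o12_z]))) :=
    Subgroup.subset_closure (Set.mem_insert_of_mem _ (Set.mem_insert _ _))
  have h3 : o11m_x ∈
      Subgroup.closure (insert o11_b (insert cubeTwist (Set.range ![o11m_x, o12_z]))) :=
    Subgroup.subset_closure (Set.mem_insert_of_mem _ (Set.mem_insert_of_mem _ ⟨0, rfl⟩))
  have h4 : o12_z ∈
      Subgroup.closure (insert o11_b (insert cubeTwist (Set.range ![o11m_x, o12_z]))) :=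
    Subgroup.subset_closure (Set.mem_insert_of_mem _ (Set.mem_insert_of_mem _ ⟨1, rfl⟩))
  have hT := tActs_tabPerm (o12_tabs i) (o12_tabs_inj i)
  fin_cases i
  · rw [TActs.ext hT o11_b_acts (fun _ => rfl)]
    exact h1
  · rw [TActs.ext hT o11_binv_acts (fun _ => rfl)]
    exact Subgroup.inv_mem _ h1
  · rw [TActs.ext hT cubeTwist_acts (fun _ => rfl)]
    exact h2
  · rw [TActs.ext hT (cubeTwist_acts.inv cubeTwistInvTab o23_tab_inv.2.2) (fun _ => rfl)]
    exact Subgroup.inv_mem _ h2
  · rw [TActs.ext hT o11m_x_acts (fun _ => rfl)]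
    exact h3
  · rw [TActs.ext hT (o11m_x_acts.inv o11m_xinvtab o11m_tab_inv) (fun _ => rfl)]
    exact Subgroup.inv_mem _ h3
  · rw [TActs.ext hT o12_z_acts (fun _ => rfl)]
    exact h4

theorem o12_gen :
    Subgroup.closure (insert o11_b (insert cubeTwist (Set.range ![o11m_x, o12_z]))) =
      Spor.M12 := by
  apply le_antisymm
  · rw [Subgroup.closure_le]
    intro g hg
    simp only [Set.mem_insert_iff, Set.mem_range] at hg
    rcases hg with rfl | rfl | ⟨k, rfl⟩
    · exact M11_le_M12 o11_b_mem_M11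
    · exact M11_le_M12 cubeTwist_mem_M11
    · fin_cases k
      · exact M11_le_M12 o11m_x_mem_M11
      · exact o12_z_mem_M12
  · refine M12_chain.2.trans ?_
    rw [Subgroup.closure_le]
    rintro _ ⟨i, rfl⟩
    exact o12_letter i

/-! ### relations -/

set_option maxRecDepth 100000 in
theorem o12_hzd : o12_z * cubeTwist * o12_z⁻¹ = cubeTwist ^ 1 := by
  rw [mul_inv_eq_iff_eq_mul]
  exact TActs.ext (o12_z_acts.mul cubeTwist_acts) ((cubeTwist_acts.pow 1).mul o12_z_acts)
    (by decide +kernel)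

set_option maxRecDepth 100000 in
theorem projInv_conj_x : projInv * o11m_x * projInv⁻¹ = o11m_x * o12_z := by
  rw [mul_inv_eq_iff_eq_mul]
  exact TActs.ext (projInv_acts.mul o11m_x_acts) ((o11m_x_acts.mul o12_z_acts).mul projInv_acts)
    (by decide +kernel)

set_option maxRecDepth 100000 in
theorem projInv_comm_z : projInv * o12_z * projInv⁻¹ = o12_z := by
  rw [mul_inv_eq_iff_eq_mul]
  exact TActs.ext (projInv_acts.mul o12_z_acts) (o12_z_acts.mul projInv_acts)
    (by decide +kernel)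

/-- the relations `(a a z a x)⁵ = 1` and `(a x)⁵ = 1` -/
def o12_rels : List (List (Fin 3)) :=
  [[0, 0, 2, 0, 1, 0, 0, 2, 0, 1, 0, 0, 2, 0, 1, 0, 0, 2, 0, 1, 0, 0, 2, 0, 1],
   [0, 1, 0, 1, 0, 1, 0, 1, 0, 1]]

def o12_etab : Fin 2 → Fin 24 → Fin 24 := ![o11m_xtab, o12_ztab]

/-- the tables of the centralizer of `cubeTwist` in `M12` -/
def o12_cbtab : Fin 10 → Fin 24 → Fin 24 :=
  fun j x => cubeTwistInvTab^[j.val % 5] ((fun y => cubeTwistTab (o12_ztab y))^[j.val / 5] x)

set_option maxRecDepth 100000 in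
theorem o12_rel_hold : ∀ w ∈ o12_rels, ∀ p : Fin 24,
    w.foldr (fun k y => (Fin.cons o11_btab o12_etab : Fin (2 + 1) → Fin 24 → Fin 24) k y) p =
      p := by
  decide +kernel

set_option maxRecDepth 1000000 in
set_option maxHeartbeats 4000000 in
theorem o12_rel_check : ∀ (ε : Bool) (i0 i1 : Fin 10),
    (∀ w ∈ o12_rels, ∀ p : Fin 24,
      w.foldr (fun k y => (Fin.cons (if ε then o11_btab else o11_binvtab)
        (fun k x => o12_etab k (o12_cbtab ((![i0, i1] : Fin 2 → Fin 10) k) x)) :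
          Fin (2 + 1) → Fin 24 → Fin 24) k y) p = p) →
      (ε = true ∧ i0 = 0 ∧ i1 = 0) ∨ (ε = false ∧ i0 = 6 ∧ i1 = 0) := by
  decide +kernel

/-! ### the centralizer of `cubeTwist` in `M12` -/

set_option maxRecDepth 100000 in
theorem o12_cos_fix : ∀ i : Fin 12,
    (∀ a : Fin 24, sqMask.testBit a.val = true → sqMask.testBit (o5_cos i a).val = true) →
      (∀ a, o5_cos i a = a) ∨ (∀ a, o5_cos i a = cubeTwistTab (o12_ztab a)) := by
  decide +kernel

/-- the elements of the centralizer of `cubeTwist` in `M12` -/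
noncomputable def o12_cb (j : Fin 10) : Equiv.Perm GolayPt :=
  cubeTwist⁻¹ ^ (j.val % 5) * (cubeTwist * o12_z) ^ (j.val / 5)

theorem o12_cb_acts (j : Fin 10) : TActs (o12_cb j) (o12_cbtab j) :=
  ((cubeTwist_acts.inv cubeTwistInvTab o23_tab_inv.2.2).pow (j.val % 5)).mul
    ((cubeTwist_acts.mul o12_z_acts).pow (j.val / 5))

theorem o12_cb_mem (j : Fin 10) : o12_cb j ∈ Spor.M12 :=
  Spor.M12.mul_mem (Subgroup.pow_mem _ (Subgroup.inv_mem _ (M11_le_M12 cubeTwist_mem_M11)) _)
    (Subgroup.pow_mem _ (Spor.M12.mul_mem (M11_le_M12 cubeTwist_mem_M11) o12_z_mem_M12) _)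

theorem cent_cubeTwist_M12 {g : Equiv.Perm GolayPt} (hg : g ∈ Spor.M12)
    (hc : g * cubeTwist = cubeTwist * g) : ∃ j : Fin 10, g = o12_cb j := by
  have hg' := mem_sporM12.mp hg
  obtain ⟨j, i, hji⟩ := cent_cubeTwist hg'.1 hc
  have hmem : cubeTwist ^ j.val * g ∈ Spor.M12 :=
    Spor.M12.mul_mem (Spor.M12.pow_mem (M11_le_M12 cubeTwist_mem_M11) _) hg
  have hmem' := mem_sporM12.mp hmem
  rcases o12_cos_fix i (tab_sq_of_smul hji hmem'.2) with h | h
  · have h1 : cubeTwist ^ j.val * g = 1 := TActs.ext hji TActs.one h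
    refine ⟨⟨j.val, by omega⟩, ?_⟩
    unfold o12_cb
    have e1 : j.val % 5 = j.val := Nat.mod_eq_of_lt j.2
    have e2 : j.val / 5 = 0 := Nat.div_eq_of_lt j.2
    simp only [e1, e2, pow_zero, mul_one]
    rw [inv_pow]
    exact eq_inv_of_mul_eq_one_right h1
  · have h1 : cubeTwist ^ j.val * g = cubeTwist * o12_z :=
      TActs.ext hji (cubeTwist_acts.mul o12_z_acts) h
    refine ⟨⟨j.val + 5, by omega⟩, ?_⟩
    unfold o12_cb
    have e1 : (j.val + 5) % 5 = j.val := by
      rw [Nat.add_mod_right]; exact Nat.mod_eq_of_lt j.2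
    have e2 : (j.val + 5) / 5 = 1 := by
      have := j.2
      omega
    simp only [e1, e2, pow_one]
    rw [← h1, inv_pow]
    group

/-! ### the outer automorphism -/

set_option maxRecDepth 100000 in
theorem o12_projInv_sq : ∀ a : Fin 24, sqMask.testBit a.val = true →
    ¬ sqMask.testBit (projInvTab a).val = true := by
  decide +kernel

theorem projInv_smul_sq : projInv • Spor.squareDodecad = Spor.squareDodecadᶜ := by
  apply Finset.eq_of_subset_of_card_le
  · intro x hx
    rw [Finset.mem_smul_finset] at hx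
    obtain ⟨y, hy, rfl⟩ := hx
    obtain ⟨a, rfl⟩ := Helper4.pt_bijective.2 y
    rw [Finset.mem_compl]
    show projInv (Helper4.pt a) ∉ _
    rw [projInv_acts a, pt_mem_squareDodecad]
    rw [pt_mem_squareDodecad] at hy
    exact o12_projInv_sq a hy
  · rw [Finset.card_smul_finset, Finset.card_compl, card_squareDodecad, card_golayPt]

theorem projInv_norm_M12 : ∀ g ∈ Spor.M12, projInv * g * projInv⁻¹ ∈ Spor.M12 := by
  intro g hg
  rw [mem_sporM12] at hg ⊢
  refine ⟨M24.mul_mem (M24.mul_mem projInv_mem_M24 hg.1) (M24.inv_mem projInv_mem_M24), ?_⟩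
  rw [mul_smul, mul_smul, projInv_inv, projInv_smul_sq, smul_finset_compl', hg.2,
    smul_finset_compl', projInv_smul_sq, compl_compl]

theorem projInv_norm_M12' : ∀ g ∈ Spor.M12, projInv⁻¹ * g * projInv ∈ Spor.M12 := by
  intro g hg
  have := projInv_norm_M12 g hg
  rw [projInv_inv] at this ⊢
  exact this

/-- conjugation by `projInv` on `M12` -/
noncomputable def o12_tau : MulAut ↥Spor.M12 :=
  conjAut Spor.M12 projInv projInv_norm_M12 projInv_norm_M12'

theorem projInv_not_mem_M12 : projInv ∉ Spor.M12 := by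
  intro h
  rw [mem_sporM12] at h
  have h1 := h.2
  rw [projInv_smul_sq] at h1
  have h2 : (some 0 : GolayPt) ∈ Spor.squareDodecadᶜ := by
    rw [h1]; exact some_zero_mem_squareDodecad
  rw [Finset.mem_compl] at h2
  exact h2 some_zero_mem_squareDodecad

theorem o12_tau_not_inner :
    o12_tau ∉ (MulAut.conj : ↥Spor.M12 →* MulAut ↥Spor.M12).range := by
  apply conjAut_not_inner Spor.M12 M24 inf_le_left projInv projInv_mem_M24
    projInv_norm_M12 projInv_norm_M12' o11_b (M11_le_M12 o11_b_mem_M11) _ projInv_not_mem_M12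
  intro g hg hc
  exact Subgroup.zpowers_le.mpr (M11_le_M12 o11_b_mem_M11) (cent_o11_b hg hc)

/-- the automorphisms of `M12` up to inner automorphisms -/
theorem aut_M12 (φ : MulAut ↥Spor.M12) : ∃ σ ∈ ({1, o12_tau} : Set (MulAut ↥Spor.M12)),
    φ * σ⁻¹ ∈ (MulAut.conj : ↥Spor.M12 →* MulAut ↥Spor.M12).range := by
  refine out_coset_of_data11 Spor.M12 inf_le_left (M11_le_M12 o11_b_mem_M11)
    (M11_le_M12 cubeTwist_mem_M11) ![o11m_x, o12_z]
    (fun k => by
      fin_cases k
      · exact M11_le_M12 o11m_x_mem_M11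
      · exact o12_z_mem_M12)
    o12_etab
    (fun k => by
      fin_cases k
      · exact o11m_x_acts
      · exact o12_z_acts)
    ![2, 1]
    (fun k => by
      fin_cases k
      · exact o11m_hxd
      · exact o12_hzd)
    o12_cb o12_cb_mem o12_cbtab o12_cb_acts
    (fun g hg hc => cent_cubeTwist_M12 hg hc)
    (factorization_eq_one_of_card (m := 8640) (by norm_num)
      (by rw [card_sporM12]) (by norm_num))
    o12_gen o12_rels o12_rel_hold _ ?_ φ
  intro ε i hw
  have hieq : i = ![i 0, i 1] := by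
    funext k
    fin_cases k <;> rfl
  rw [hieq] at hw
  have hcb0 : o12_cb 0 = 1 := by
    unfold o12_cb
    simp
  have hcb5 : o12_cb 6 = o12_z := by
    unfold o12_cb
    simp
  rcases o12_rel_check ε (i 0) (i 1) hw with ⟨hε, h0, h1⟩ | ⟨hε, h0, h1⟩
  · subst hε
    refine ⟨1, Or.inl rfl, ?_, rfl, fun k => ?_⟩
    · rw [if_pos rfl]
      rfl
    · apply Subtype.ext
      rw [Subgroup.coe_mul]
      show ![o11m_x, o12_z] k = ![o11m_x, o12_z] k * o12_cb (i k)
      have hk : i k = 0 := by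
        fin_cases k
        · exact h0
        · exact h1
      rw [hk, hcb0, mul_one]
  · subst hε
    refine ⟨o12_tau, Or.inr rfl, ?_, ?_, fun k => ?_⟩
    · apply Subtype.ext
      rw [if_neg (by decide), Subgroup.coe_inv]
      exact projInv_inv_o11_b
    · apply Subtype.ext
      exact projInv_comm_cubeTwist
    · apply Subtype.ext
      rw [Subgroup.coe_mul]
      fin_cases k
      · show projInv * o11m_x * projInv⁻¹ = o11m_x * o12_cb (i 0)
        rw [h0, hcb5, projInv_conj_x]
      · show projInv * o12_z * projInv⁻¹ = o12_z * o12_cb (i 1)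
        rw [h1, hcb0, projInv_comm_z, mul_one]

/-- the outer automorphism group of `M12` has order 2 -/
theorem out_M12 :
    Nat.card (MulAut ↥Spor.M12 ⧸ (MulAut.conj : ↥Spor.M12 →* MulAut ↥Spor.M12).range) = 2 :=
  card_out_eq_two o12_tau o12_tau_not_inner aut_M12

end Cfsg.Agent.Lib.Helper28
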