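import Cfsg.Agent.Lib.Helper28.FamCheck

set_option autoImplicit false

/-!
Permutations of the 24 points coded by their lists of images, and the certificate model whose
objects are the permutations themselves (acted on by left multiplication): breadth-first-search
certificates then enumerate the elements of a subgroup.
-/

namespace Cfsg.Agent.Lib.Helper28

open Cfsg MulAction
open scoped Pointwise

/-- the function on points coded by a list of images -/
def listFun (l : List ℕ) (x : GolayPt) : GolayPt := ptN (l.getD (ptInv x).val 0)

/-- admissible image lists: the arrangements of `0, …, 23` -/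
def GoodPerm (l : List ℕ) : Prop := l.length = 24 ∧ GoodSet l

instance (l : List ℕ) : Decidable (GoodPerm l) := by unfold GoodPerm; infer_instance

theorem getD_lt {l : List ℕ} (hl : GoodPerm l) {i : ℕ} (hi : i < 24) : l.getD i 0 < 24 := by
  rw [List.getD_eq_getElem l 0 (by rw [hl.1]; exact hi)]
  exact hl.2.2 _ (List.getElem_mem _)

theorem listFun_injective {l : List ℕ} (hl : GoodPerm l) : Function.Injective (listFun l) := by
  intro x y hxy
  unfold listFun at hxy
  have hx : (ptInv x).val < l.length := by rw [hl.1]; exact (ptInv x).2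
  have hy : (ptInv y).val < l.length := by rw [hl.1]; exact (ptInv y).2
  have h1 := ptN_inj (getD_lt hl (ptInv x).2) (getD_lt hl (ptInv y).2) hxy
  rw [List.getD_eq_getElem l 0 hx, List.getD_eq_getElem l 0 hy] at h1
  have h2 := (List.Nodup.getElem_inj_iff hl.2.1).mp h1
  rw [← pt_ptInv x, ← pt_ptInv y]
  congr 1
  exact Fin.ext h2

theorem listFun_bijective {l : List ℕ} (hl : GoodPerm l) : Function.Bijective (listFun l) :=
  (Finite.injective_iff_bijective).mp (listFun_injective hl)

open Classical in
/-- the permutation coded by a list of images -/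
noncomputable def permOfList (l : List ℕ) : Equiv.Perm GolayPt :=
  if h : Function.Bijective (listFun l) then Equiv.ofBijective _ h else 1

theorem permOfList_apply {l : List ℕ} (hl : GoodPerm l) (x : GolayPt) :
    permOfList l x = listFun l x := by
  unfold permOfList
  rw [dif_pos (listFun_bijective hl)]
  rfl

theorem permOfList_ptN {l : List ℕ} (hl : GoodPerm l) {a : ℕ} (ha : a < 24) :
    permOfList l (ptN a) = ptN (l.getD a 0) := by
  rw [permOfList_apply hl]
  unfold listFun
  rw [ptInv_ptN ha]

/-- the list of images of a permutation -/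
def imgList (g : Equiv.Perm GolayPt) : List ℕ :=
  (List.range 24).map (fun a => (ptInv (g (ptN a))).val)

theorem imgList_permOfList {l : List ℕ} (hl : GoodPerm l) : imgList (permOfList l) = l := by
  apply List.ext_getElem
  · rw [imgList, List.length_map, List.length_range, hl.1]
  · intro i h1 h2
    rw [imgList, List.length_map, List.length_range] at h1
    simp only [imgList, List.getElem_map, List.getElem_range]
    rw [permOfList_ptN hl h1, ptInv_ptN (getD_lt hl h1), List.getD_eq_getElem l 0 h2]

theorem permOfList_injective {l l' : List ℕ} (hl : GoodPerm l) (hl' : GoodPerm l')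
    (h : permOfList l = permOfList l') : l = l' := by
  rw [← imgList_permOfList hl, ← imgList_permOfList hl', h]

/-- a permutation acting through a packed table multiplies image lists by mapping -/
theorem mul_permOfList {g : Equiv.Perm GolayPt} {t : ℕ} (hg : ActsBy g t) {l : List ℕ}
    (hl : GoodPerm l) : g * permOfList l = permOfList (stepSet t l) ∧ GoodPerm (stepSet t l) := by
  have hgood : GoodPerm (stepSet t l) :=
    ⟨by unfold stepSet; rw [List.length_map, hl.1], (smul_ptSet hg hl.2).2⟩
  refine ⟨?_, hgood⟩
  apply Equiv.ext
  intro x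
  rw [Equiv.Perm.mul_apply, permOfList_apply hl, permOfList_apply hgood]
  unfold listFun
  rw [(hg _ (getD_lt hl (ptInv x).2)).2]
  congr 1
  have hx : (ptInv x).val < l.length := by rw [hl.1]; exact (ptInv x).2
  have hx' : (ptInv x).val < (l.map (look t)).length := by rw [List.length_map]; exact hx
  show look t (l.getD (ptInv x).val 0) = (l.map (look t)).getD (ptInv x).val 0
  rw [List.getD_eq_getElem l 0 hx, List.getD_eq_getElem _ 0 hx', List.getElem_map]

/-- the identity list -/
def idList : List ℕ := List.range 24

theorem goodPerm_idList : GoodPerm idList := by decide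

theorem permOfList_idList : permOfList idList = 1 := by
  apply Equiv.ext
  intro x
  rw [permOfList_apply goodPerm_idList]
  unfold listFun idList
  rw [List.getD_eq_getElem _ 0 (by rw [List.length_range]; exact (ptInv x).2), List.getElem_range,
    ptN_ptInv]
  rfl

/-! ### hash codes -/

/-- pack a list of numbers below 32 into one number -/
def packL (l : List ℕ) : ℕ := l.foldr (fun a acc => a + 32 * acc) 0

/-- hash code of an image list -/
def elemCode (M : ℕ) (l : List ℕ) : ℕ := packL l % M

/-- the certificate model of permutations under left multiplication -/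
noncomputable def elemModel (M : ℕ) : CertModel (List ℕ) (Equiv.Perm GolayPt) where
  sem := permOfList
  Good := GoodPerm
  step := stepSet
  code := elemCode M
  codeS := fun g => elemCode M (imgList g)
  code_eq := fun l hl => by rw [imgList_permOfList hl]
  smul_sem := fun _ _ _ hg hl => mul_permOfList hg hl

end Cfsg.Agent.Lib.Helper28

namespace Cfsg.Agent.Lib.Helper28

open Cfsg MulAction
open scoped Pointwise

/-! ### composition and membership in `M24` -/

/-- composition of image lists: the list of `l₁ ∘ l₂` -/
def compL (l₁ l₂ : List ℕ) : List ℕ := l₂.map (fun a => l₁.getD a 0)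

theorem goodPerm_compL {l₁ l₂ : List ℕ} (h1 : GoodPerm l₁) (h2 : GoodPerm l₂) :
    GoodPerm (compL l₁ l₂) := by
  refine ⟨by unfold compL; rw [List.length_map, h2.1], ?_, ?_⟩
  · unfold compL
    apply h2.2.1.map_on
    intro a ha b hb hab
    have ha' : a < l₁.length := by rw [h1.1]; exact h2.2.2 a ha
    have hb' : b < l₁.length := by rw [h1.1]; exact h2.2.2 b hb
    rw [List.getD_eq_getElem l₁ 0 ha', List.getD_eq_getElem l₁ 0 hb'] at hab
    exact (List.Nodup.getElem_inj_iff h1.2.1).mp hab
  · intro b hb
    unfold compL at hb
    rw [List.mem_map] at hb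
    obtain ⟨a, ha, rfl⟩ := hb
    exact getD_lt h1 (h2.2.2 a ha)

theorem permOfList_compL {l₁ l₂ : List ℕ} (h1 : GoodPerm l₁) (h2 : GoodPerm l₂) :
    permOfList l₁ * permOfList l₂ = permOfList (compL l₁ l₂) := by
  have h3 := goodPerm_compL h1 h2
  apply Equiv.ext
  intro x
  rw [Equiv.Perm.mul_apply, permOfList_apply h2, permOfList_apply h3]
  unfold listFun
  rw [permOfList_ptN h1 (getD_lt h2 (ptInv x).2)]
  congr 1
  have hx : (ptInv x).val < l₂.length := by rw [h2.1]; exact (ptInv x).2
  have hx' : (ptInv x).val < (l₂.map (fun a => l₁.getD a 0)).length := by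
    rw [List.length_map]; exact hx
  show l₁.getD (l₂.getD (ptInv x).val 0) 0 = (l₂.map (fun a => l₁.getD a 0)).getD (ptInv x).val 0
  rw [List.getD_eq_getElem l₂ 0 hx, List.getD_eq_getElem _ 0 hx', List.getElem_map]

/-- the `Fin`-table of an image list -/
def tabOfList (l : List ℕ) : Fin 24 → Fin 24 := fun a => Fin.ofNat 24 (l.getD a.val 0)

/-- an image list describes an element of `M24` -/
def ListM24 (l : List ℕ) : Prop := GoodPerm l ∧ TabCheck (tabOfList l)

instance (l : List ℕ) : Decidable (ListM24 l) := by unfold ListM24; infer_instance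

theorem ListM24.mem {l : List ℕ} (h : ListM24 l) : permOfList l ∈ M24 := by
  apply mem_M24_of_table _ (tabOfList l) _ h.2
  intro a
  rw [← ptN_val a, permOfList_ptN h.1 a.2]
  rfl

/-! ### enumeration of a subgroup -/

theorem elems_of_cert (M : ℕ) (H : Subgroup (Equiv.Perm GolayPt)) (tabs : List ℕ)
    (hgens : ∀ t ∈ tabs, ∃ g ∈ H, ActsBy g t) (cert : List (List ℕ)) (n : ℕ)
    (hcard : Nat.card H = n)
    (hcheck : distinctAux (((elemModel M).nodes tabs idList cert).map (elemModel M).code) 0 = true)
    (hlen : ((elemModel M).nodes tabs idList cert).length = n) :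
    ∀ g ∈ H, ∃ l ∈ (elemModel M).nodes tabs idList cert, GoodPerm l ∧ g = permOfList l := by
  classical
  set nodes := (elemModel M).nodes tabs idList cert with hnodes
  have hs := (elemModel M).nodes_sound H tabs hgens idList goodPerm_idList cert
  have hgood : ∀ x ∈ nodes, GoodPerm x := fun x hx => (hs x hx).1
  have hnd : (nodes.map permOfList).Nodup := (elemModel M).sem_nodup nodes hgood hcheck
  have hmemH : ∀ x ∈ nodes, permOfList x ∈ H := by
    intro x hx
    obtain ⟨_, g, hg, hgx⟩ := hs x hx
    have h1 : g * permOfList idList = permOfList x := hgx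
    rw [permOfList_idList, mul_one] at h1
    rw [← h1]; exact hg
  have hsub : ((nodes.map permOfList).toFinset : Set (Equiv.Perm GolayPt)) ⊆ (H : Set _) := by
    intro y hy
    rw [Finset.mem_coe, List.mem_toFinset, List.mem_map] at hy
    obtain ⟨x, hx, rfl⟩ := hy
    exact hmemH x hx
  have heq : ((nodes.map permOfList).toFinset : Set (Equiv.Perm GolayPt)) = (H : Set _) := by
    apply Set.eq_of_subset_of_ncard_le hsub _ (Set.toFinite _)
    rw [Set.ncard_coe_finset, List.toFinset_card_of_nodup hnd, List.length_map, hlen, ← hcard]
    exact le_of_eq (Nat.card_coe_set_eq _).symm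
  intro g hg
  have : g ∈ ((nodes.map permOfList).toFinset : Set (Equiv.Perm GolayPt)) := by rw [heq]; exact hg
  rw [Finset.mem_coe, List.mem_toFinset, List.mem_map] at this
  obtain ⟨x, hx, rfl⟩ := this
  exact ⟨x, hx, hgood x hx, rfl⟩

end Cfsg.Agent.Lib.Helper28
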