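import Mathlib
import Cfsg.Agent.Lib.Helper10.UniqueOrderP

set_option autoImplicit false

/-!
A group of order 72 satisfying four elementwise conditions has a normal elementary abelian
Sylow 3-subgroup of order 9 and quaternion Sylow 2-subgroups.
-/

namespace Cfsg.Agent.Lib.Helper28

theorem sylow_card_of_card_72_three {G : Type*} [Group G] [Finite G] (hcard : Nat.card G = 72)
    (Q : Sylow 3 G) : Nat.card Q = 9 := by
  haveI : Fact (Nat.Prime 3) := ⟨Nat.prime_three⟩
  obtain ⟨k, hk⟩ := IsPGroup.iff_card.mp Q.isPGroup'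
  have h1 := Subgroup.card_mul_index (Q : Subgroup G)
  have h2 := Q.not_dvd_index
  rw [hcard, hk] at h1
  rw [hk]
  rcases k with _ | _ | _ | k
  · exfalso; apply h2
    have : (Q : Subgroup G).index = 72 := by simpa using h1
    rw [this]; decide
  · exfalso; apply h2
    have : (Q : Subgroup G).index = 24 := by
      have : 3 * (Q : Subgroup G).index = 72 := by simpa using h1
      omega
    rw [this]; decide
  · norm_num
  · exfalso
    have : 27 * (3 ^ k * (Q : Subgroup G).index) = 72 := by
      rw [← h1]; ring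
    omega

theorem sylow_card_of_card_72_two {G : Type*} [Group G] [Finite G] (hcard : Nat.card G = 72)
    (P : Sylow 2 G) : Nat.card P = 8 := by
  obtain ⟨k, hk⟩ := IsPGroup.iff_card.mp P.isPGroup'
  have h1 := Subgroup.card_mul_index (P : Subgroup G)
  have h2 := P.not_dvd_index
  rw [hcard, hk] at h1
  rw [hk]
  rcases k with _ | _ | _ | _ | k
  · exfalso; apply h2
    have : (P : Subgroup G).index = 72 := by simpa using h1
    rw [this]; decide
  · exfalso; apply h2
    have : (P : Subgroup G).index = 36 := by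
      have : 2 * (P : Subgroup G).index = 72 := by simpa using h1
      omega
    rw [this]; decide
  · exfalso; apply h2
    have : (P : Subgroup G).index = 18 := by
      have : 4 * (P : Subgroup G).index = 72 := by simpa using h1
      omega
    rw [this]; decide
  · norm_num
  · exfalso
    have : 16 * (2 ^ k * (P : Subgroup G).index) = 72 := by
      rw [← h1]; ring
    omega

theorem sylow_structure_of_checks {G : Type*} [Group G] [Finite G] (hcard : Nat.card G = 72)
    (ha : ∀ x : G, x ^ 9 = 1 → x ^ 3 = 1)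
    (hb : ∀ x y : G, x ^ 3 = 1 → y ^ 3 = 1 → (x * y) ^ 3 = 1)
    (hc : ∀ s t : G, s ^ 2 = 1 → t ^ 2 = 1 → s ≠ 1 → t ≠ 1 → s ≠ t → (s * t) ^ 8 ≠ 1)
    (hd : ∀ x : G, x ^ 8 = 1 → x ^ 4 = 1) :
    (∀ Q : Sylow 3 G, (Q : Subgroup G).Normal ∧ Nat.card Q = 9 ∧
      ∀ x ∈ (Q : Subgroup G), x ^ 3 = 1) ∧
    ∀ P : Sylow 2 G, Nonempty (↥P ≃* QuaternionGroup 2) := by
  haveI : Fact (Nat.Prime 3) := ⟨Nat.prime_three⟩
  constructor
  · intro Q
    have h9 := sylow_card_of_card_72_three hcard Q
    have hexp : ∀ x ∈ (Q : Subgroup G), x ^ 3 = 1 := by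
      intro x hx
      apply ha
      have := pow_card_eq_one' (x := (⟨x, hx⟩ : ↥(Q : Subgroup G)))
      rw [h9] at this
      exact congrArg Subtype.val this
    let T : Subgroup G :=
      { carrier := {x | x ^ 3 = 1}
        one_mem' := one_pow 3
        mul_mem' := fun {x y} hx hy => hb x y hx hy
        inv_mem' := fun {x} hx => by
          show x⁻¹ ^ 3 = 1
          rw [inv_pow, hx, inv_one] }
    have hT : IsPGroup 3 T := by
      intro g
      refine ⟨1, ?_⟩
      apply Subtype.ext
      rw [pow_one]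
      exact g.2
    have hQT : (Q : Subgroup G) ≤ T := fun x hx => hexp x hx
    have hTQ : T = (Q : Subgroup G) := Q.is_maximal' hT hQT
    have hTn : T.Normal := by
      refine ⟨fun x hx g => ?_⟩
      show (g * x * g⁻¹) ^ 3 = 1
      rw [conj_pow, hx, mul_one, mul_inv_cancel]
    exact ⟨hTQ ▸ hTn, h9, hexp⟩
  · intro P
    have h8 := sylow_card_of_card_72_two hcard P
    have hu : Cfsg.Agent.Lib.Helper10.UniqueOrderP 2 ↥(P : Subgroup G) := by
      intro x y hx hx1 hy
      by_cases hy1 : y = 1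
      · rw [hy1]; exact Subgroup.one_mem _
      by_cases hyx : y = x
      · rw [hyx]; exact Subgroup.mem_zpowers x
      exfalso
      have hx' : (x : G) ^ 2 = 1 := by
        have := congrArg Subtype.val hx
        simpa using this
      have hy' : (y : G) ^ 2 = 1 := by
        have := congrArg Subtype.val hy
        simpa using this
      have hx1' : (x : G) ≠ 1 := fun h => hx1 (Subtype.ext h)
      have hy1' : (y : G) ≠ 1 := fun h => hy1 (Subtype.ext h)
      have hxy : (x : G) ≠ (y : G) := fun h => hyx (Subtype.ext h.symm)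
      apply hc (x : G) (y : G) hx' hy' hx1' hy1' hxy
      have := pow_card_eq_one' (x := x * y)
      rw [h8] at this
      have := congrArg Subtype.val this
      simpa using this
    rcases Cfsg.Agent.Lib.Helper10.isCyclic_or_quaternion_of_uniqueOrderP P.isPGroup' hu with
      hcyc | ⟨_, n, ⟨e⟩⟩
    · exfalso
      obtain ⟨g, hg⟩ := IsCyclic.exists_generator (α := ↥(P : Subgroup G))
      have hord := orderOf_eq_card_of_forall_mem_zpowers hg
      rw [h8] at hord
      have h8' : (g : G) ^ 8 = 1 := by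
        have := pow_card_eq_one' (x := g)
        rw [h8] at this
        have := congrArg Subtype.val this
        simpa using this
      have h4 : g ^ 4 = 1 := by
        apply Subtype.ext
        have := hd (g : G) h8'
        simpa using this
      have := orderOf_dvd_of_pow_eq_one h4
      rw [hord] at this
      omega
    · have hn : n = 1 := by
        have hc1 := Nat.card_congr e.toEquiv
        haveI : NeZero (2 ^ n) := ⟨by positivity⟩
        rw [h8, Nat.card_eq_fintype_card, QuaternionGroup.card] at hc1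
        rcases n with _ | _ | n
        · norm_num at hc1
        · rfl
        · exfalso
          have : 4 * 2 ^ (n + 1 + 1) = 16 * 2 ^ n := by ring
          rw [this] at hc1
          have : 0 < 2 ^ n := by positivity
          omega
      subst hn
      exact ⟨e⟩

/-- transfer of the four conditions along an injective homomorphism into a subgroup -/
theorem checks_transfer {G H : Type*} [Group G] [Group H] (φ : G →* H)
    (hφ : Function.Injective φ) (S : Subgroup H) (hS : ∀ x, φ x ∈ S)
    (ha : ∀ x ∈ S, x ^ 9 = 1 → x ^ 3 = 1)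
    (hb : ∀ x ∈ S, ∀ y ∈ S, x ^ 3 = 1 → y ^ 3 = 1 → (x * y) ^ 3 = 1)
    (hc : ∀ s ∈ S, ∀ t ∈ S, s ^ 2 = 1 → t ^ 2 = 1 → s ≠ 1 → t ≠ 1 → s ≠ t → (s * t) ^ 8 ≠ 1)
    (hd : ∀ x ∈ S, x ^ 8 = 1 → x ^ 4 = 1) :
    (∀ x : G, x ^ 9 = 1 → x ^ 3 = 1) ∧
    (∀ x y : G, x ^ 3 = 1 → y ^ 3 = 1 → (x * y) ^ 3 = 1) ∧
    (∀ s t : G, s ^ 2 = 1 → t ^ 2 = 1 → s ≠ 1 → t ≠ 1 → s ≠ t → (s * t) ^ 8 ≠ 1) ∧
    (∀ x : G, x ^ 8 = 1 → x ^ 4 = 1) := by
  have hpow : ∀ (x : G) (n : ℕ), x ^ n = 1 ↔ φ x ^ n = 1 := by
    intro x n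
    rw [← map_pow, ← map_one φ]
    exact ⟨fun h => by rw [h], fun h => hφ h⟩
  have hne1 : ∀ x : G, x ≠ 1 → φ x ≠ 1 := by
    intro x hx h
    apply hx
    apply hφ
    rw [h, map_one]
  refine ⟨?_, ?_, ?_, ?_⟩
  · intro x hx
    rw [hpow] at hx ⊢
    exact ha _ (hS x) hx
  · intro x y hx hy
    rw [hpow] at hx hy ⊢
    rw [map_mul]
    exact hb _ (hS x) _ (hS y) hx hy
  · intro s t hs ht hs1 ht1 hst h8
    rw [hpow] at hs ht h8
    rw [map_mul] at h8
    exact hc _ (hS s) _ (hS t) hs ht (hne1 s hs1) (hne1 t ht1) (fun h => hst (hφ h)) h8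
  · intro x hx
    rw [hpow] at hx ⊢
    exact hd _ (hS x) hx

end Cfsg.Agent.Lib.Helper28
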