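import Cfsg.Agent.Lib.Helper28.FamCheck

set_option autoImplicit false

/-!
Further decidable checks on coded sets and families: dodecads and complementary pairs of
dodecads.
-/

namespace Cfsg.Agent.Lib.Helper28

open Cfsg MulAction
open scoped Pointwise

/-- the coded dodecads -/
def IsDodecadList (l : List ℕ) : Prop := GoodSet l ∧ IsCodeMask (setCode l) ∧ l.length = 12

instance (l : List ℕ) : Decidable (IsDodecadList l) := by unfold IsDodecadList; infer_instance

theorem IsDodecadList.mem {l : List ℕ} (h : IsDodecadList l) : ptSet l ∈ dodecads :=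
  ptSet_mem_dodecads h.1 h.2.1 h.2.2

/-- coded pairs of complementary dodecads -/
def IsDodecadPairList (L : List (List ℕ)) : Prop :=
  L.length = 2 ∧ (∀ l ∈ L, IsDodecadList l) ∧ L.Pairwise listDisjoint

instance (L : List (List ℕ)) : Decidable (IsDodecadPairList L) := by
  unfold IsDodecadPairList; infer_instance

theorem IsDodecadPairList.goodFam {L : List (List ℕ)} (h : IsDodecadPairList L) : GoodFam L := by
  apply goodFam_of_disjoint _ h.2.2
  intro l hl
  refine ⟨(h.2.1 l hl).1, ?_⟩
  intro he
  have := (h.2.1 l hl).2.2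
  rw [he] at this
  simp at this

theorem IsDodecadPairList.famSet_eq {L : List (List ℕ)} (h : IsDodecadPairList L) :
    ∃ l l', L = [l, l'] ∧ ptSet l ∈ dodecads ∧ ptSet l' = (ptSet l)ᶜ ∧
      famSet L = {ptSet l, (ptSet l)ᶜ} := by
  obtain ⟨h2, hd, hpw⟩ := h
  match L, h2 with
  | [l, l'], _ =>
    have hl := hd l (by simp)
    have hl' := hd l' (by simp)
    have hdis : listDisjoint l l' := by
      rw [List.pairwise_pair] at hpw
      exact hpw
    have hD := disjoint_ptSet hl.1 hl'.1 hdis
    have hc : ptSet l' = (ptSet l)ᶜ := by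
      apply Finset.eq_of_subset_of_card_le
      · intro x hx
        rw [Finset.mem_compl]
        intro hx'
        exact Finset.disjoint_left.mp hD hx' hx
      · rw [Finset.card_compl, card_ptSet hl.1, card_ptSet hl'.1, hl.2.2, hl'.2.2]
        exact le_of_eq rfl
    refine ⟨l, l', rfl, hl.mem, hc, ?_⟩
    unfold famSet
    rw [← hc]
    ext s
    simp

end Cfsg.Agent.Lib.Helper28
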