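import Cfsg.Agent.Lib.Helper28.CertClasses2
import Cfsg.Agent.Lib.Helper28.FamCheck2

set_option autoImplicit false

/-!
Elements of the stabilizer of a dodecad and three of its points moving a point outside to all points outside.
-/

namespace Cfsg.Agent.Lib.Helper28

open Cfsg MulAction
open scoped Pointwise

def m9_base : List ℕ := [0, 1, 2, 3, 4, 5, 9, 11, 12, 15, 16, 23]

def m9_tabs : List ℕ := [984818244535754528103549039458486304, 636803592730960518728139575259138080, 398811027346518073370580164217899040, 466807839289797127531560827885062176, 154034229214026365292173381192091680, 188489037215314886686587421359573024, 683054916494757753839310514458167328, 675422241465400156813053025878116384, 467734438229888057902567589627299872, 138354771351735340554889612650580000, 977703716303616298646717701265950752, 225427914995292150320490939336591392]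

def m9_out : List ℕ := [6, 7, 8, 10, 13, 14, 17, 18, 19, 20, 21, 22]

set_option maxRecDepth 1000000 in
set_option maxHeartbeats 4000000 in
theorem m9_base_check : IsDodecadList m9_base := by
  decide +kernel

set_option maxRecDepth 1000000 in
set_option maxHeartbeats 4000000 in
theorem m9_tabs_check : ∀ t ∈ m9_tabs, TabM24 t ∧ setEqB (stepSet t m9_base) m9_base = true ∧ look t 0 = 0 ∧ look t 1 = 1 ∧ look t 2 = 2 := by
  decide +kernel

theorem m9_out_check : (∀ a, a < 24 → a ∉ m9_base → a ∈ m9_out) ∧ m9_tabs.map (fun t => look t 6) = m9_out := by
  decide +kernel

end Cfsg.Agent.Lib.Helper28
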