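import Cfsg.Agent.Lib.Helper28.HexadStab
import Cfsg.Agent.Lib.Helper28.Data1600

set_option autoImplicit false

/-!
List forms of the sharp 5-transitivity of a dodecad stabilizer; the chain of point stabilizers;
the stabilizer of three points has order 72 and is transitive on the complementary dodecad.
-/

namespace Cfsg.Agent.Lib.Helper28

open Cfsg MulAction
open scoped Pointwise

/-- the dodecad stabilizer maps any duplicate-free list of five points of the dodecad onto any
other -/
theorem dodecad_map_list {d : Finset GolayPt} (hd : d ∈ dodecads) (l l' : List GolayPt)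
    (hl : l.Nodup) (hl' : l'.Nodup) (hld : ∀ x ∈ l, x ∈ d) (hld' : ∀ x ∈ l', x ∈ d)
    (h5 : l.length = 5) (h5' : l'.length = 5) : ∃ g ∈ M24, g • d = d ∧ l.map g = l' := by
  let x : Fin 5 ↪ GolayPt := ⟨fun i => l.get (i.cast h5.symm), fun i j h => by
    have := List.nodup_iff_injective_get.mp hl h
    exact Fin.cast_injective _ this⟩
  let y : Fin 5 ↪ GolayPt := ⟨fun i => l'.get (i.cast h5'.symm), fun i j h => by
    have := List.nodup_iff_injective_get.mp hl' h
    exact Fin.cast_injective _ this⟩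
  obtain ⟨g, ⟨hg, hgd, hgx⟩, _⟩ := dodecad_sharp hd x y (fun i => hld _ (List.get_mem _ _))
    (fun i => hld' _ (List.get_mem _ _))
  refine ⟨g, hg, hgd, ?_⟩
  apply List.ext_getElem
  · rw [List.length_map, h5, h5']
  · intro i h1 h2
    rw [List.getElem_map]
    rw [List.length_map] at h1
    exact hgx ⟨i, by rw [← h5]; exact h1⟩

/-- extend a duplicate-free list of at most five points of a dodecad to one of five points -/
theorem exists_pad {d : Finset GolayPt} (hd12 : d.card = 12) (l : List GolayPt) (hl : l.Nodup)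
    (hld : ∀ x ∈ l, x ∈ d) (hlen : l.length ≤ 5) :
    ∃ l₂ : List GolayPt, (l ++ l₂).Nodup ∧ (∀ x ∈ l ++ l₂, x ∈ d) ∧ (l ++ l₂).length = 5 := by
  classical
  have hsub : l.toFinset ⊆ d := by
    intro x hx
    exact hld x (List.mem_toFinset.mp hx)
  have hc : 5 - l.length ≤ (d \ l.toFinset).card := by
    rw [Finset.card_sdiff_of_subset hsub, hd12, List.toFinset_card_of_nodup hl]
    omega
  obtain ⟨t, hts, htc⟩ := Finset.exists_subset_card_eq hc
  refine ⟨t.toList, ?_, ?_, ?_⟩
  · rw [List.nodup_append]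
    refine ⟨hl, t.nodup_toList, ?_⟩
    intro a ha b hb hab
    rw [Finset.mem_toList] at hb
    have := Finset.mem_sdiff.mp (hts hb)
    exact this.2 (List.mem_toFinset.mpr (hab ▸ ha))
  · intro x hx
    rcases List.mem_append.mp hx with h | h
    · exact hld x h
    · rw [Finset.mem_toList] at h
      exact (Finset.mem_sdiff.mp (hts h)).1
  · rw [List.length_append, Finset.length_toList, htc]
    omega

theorem dodecad_card {d : Finset GolayPt} (hd : d ∈ dodecads) : d.card = 12 :=
  ((mem_dodecads_iff d).mp hd).2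

/-- the dodecad stabilizer maps any duplicate-free list of at most five points of the dodecad
onto any other of that length -/
theorem dodecad_map_list_le {d : Finset GolayPt} (hd : d ∈ dodecads) (l l' : List GolayPt)
    (hl : l.Nodup) (hl' : l'.Nodup) (hld : ∀ x ∈ l, x ∈ d) (hld' : ∀ x ∈ l', x ∈ d)
    (hlen : l.length = l'.length) (h5 : l.length ≤ 5) :
    ∃ g ∈ M24, g • d = d ∧ l.map g = l' := by
  obtain ⟨l₂, h1, h2, h3⟩ := exists_pad (dodecad_card hd) l hl hld h5
  obtain ⟨l₂', h1', h2', h3'⟩ := exists_pad (dodecad_card hd) l' hl' hld' (hlen ▸ h5)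
  obtain ⟨g, hg, hgd, hmap⟩ := dodecad_map_list hd _ _ h1 h1' h2 h2' h3 h3'
  refine ⟨g, hg, hgd, ?_⟩
  rw [List.map_append] at hmap
  exact (List.append_inj hmap (by rw [List.length_map, hlen])).1

/-- `M24` is transitive on dodecads with a duplicate-free list of at most five points -/
theorem M24_dodecad_list_transitive {d d' : Finset GolayPt} (hd : d ∈ dodecads)
    (hd' : d' ∈ dodecads) (l l' : List GolayPt) (hl : l.Nodup) (hl' : l'.Nodup)
    (hld : ∀ x ∈ l, x ∈ d) (hld' : ∀ x ∈ l', x ∈ d') (hlen : l.length = l'.length)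
    (h5 : l.length ≤ 5) : ∃ g ∈ M24, g • d = d' ∧ l.map g = l' := by
  obtain ⟨g₁, hg₁, rfl⟩ := M24_dodecad_transitive hd hd'
  obtain ⟨g₂, hg₂, hg₂d, hmap⟩ := dodecad_map_list_le hd' (l.map g₁) l'
    (hl.map g₁.injective) hl'
    (by
      intro x hx
      rw [List.mem_map] at hx
      obtain ⟨z, hz, rfl⟩ := hx
      exact Finset.smul_mem_smul_finset (hld z hz)) hld'
    (by rw [List.length_map, hlen]) (by rw [List.length_map]; exact h5)
  refine ⟨g₂ * g₁, M24.mul_mem hg₂ hg₁, by rw [mul_smul, hg₂d], ?_⟩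
  rw [← hmap, List.map_map]
  rfl

/-! ### the chain of point stabilizers -/

/-- membership in the stabilizer of `d` fixing the points of `l` -/
def FixesDL (d : Finset GolayPt) (l : List GolayPt) (g : ↥M24) : Prop :=
  (g : Equiv.Perm GolayPt) • d = d ∧ ∀ x ∈ l, (g : Equiv.Perm GolayPt) x = x

theorem orbit_fixesDL {d : Finset GolayPt} (hd : d ∈ dodecads) (K : Subgroup ↥M24)
    (l : List GolayPt) (hK : ∀ g, g ∈ K ↔ FixesDL d l g) (hl : l.Nodup) (hld : ∀ x ∈ l, x ∈ d)
    (h4 : l.length ≤ 4) {x : GolayPt} (hx : x ∈ d) (hxl : x ∉ l) :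
    orbit K x = {y | y ∈ d ∧ y ∉ l} := by
  ext y
  constructor
  · rintro ⟨g, rfl⟩
    obtain ⟨hgd, hgl⟩ := (hK g.1).mp g.2
    refine ⟨?_, ?_⟩
    · show (g.1 : Equiv.Perm GolayPt) x ∈ d
      rw [perm_apply_mem_iff_of_smul_eq hgd]; exact hx
    · intro hc
      have h1 := hgl _ hc
      have h2 : (g.1 : Equiv.Perm GolayPt) x = x :=
        (g.1 : Equiv.Perm GolayPt).injective h1
      apply hxl
      have h3 : (g.1 : Equiv.Perm GolayPt) x ∈ l := hc
      rwa [h2] at h3
  · rintro ⟨hyd, hyl⟩
    obtain ⟨g, hg, hgd, hmap⟩ := dodecad_map_list_le hd (l ++ [x]) (l ++ [y])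
      (by
        rw [List.nodup_append]
        refine ⟨hl, List.nodup_singleton _, ?_⟩
        intro a ha b hb hab
        rw [List.mem_singleton] at hb
        exact hxl (hb ▸ hab ▸ ha))
      (by
        rw [List.nodup_append]
        refine ⟨hl, List.nodup_singleton _, ?_⟩
        intro a ha b hb hab
        rw [List.mem_singleton] at hb
        exact hyl (hb ▸ hab ▸ ha))
      (by
        intro z hz
        rcases List.mem_append.mp hz with h | h
        · exact hld z h
        · rw [List.mem_singleton] at h; rw [h]; exact hx)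
      (by
        intro z hz
        rcases List.mem_append.mp hz with h | h
        · exact hld z h
        · rw [List.mem_singleton] at h; rw [h]; exact hyd)
      (by simp)
      (by rw [List.length_append, List.length_singleton]; omega)
    rw [List.map_append] at hmap
    obtain ⟨hm1, hm2⟩ := List.append_inj hmap (by rw [List.length_map])
    have hfix : ∀ z ∈ l, g z = z := by
      intro z hz
      have h0 : l.map g = l.map id := by rw [List.map_id]; exact hm1
      exact (List.map_inj_left.mp h0) z hz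
    have hgxy : g x = y := by simpa using hm2
    have hgK : (⟨g, hg⟩ : ↥M24) ∈ K := (hK _).mpr ⟨hgd, hfix⟩
    exact ⟨⟨⟨g, hg⟩, hgK⟩, hgxy⟩

theorem ncard_dodecad_sdiff_list {d : Finset GolayPt} (hd : d ∈ dodecads) (l : List GolayPt)
    (hl : l.Nodup) (hld : ∀ x ∈ l, x ∈ d) :
    {y | y ∈ d ∧ y ∉ l}.ncard = 12 - l.length := by
  classical
  have : {y | y ∈ d ∧ y ∉ l} = ((d \ l.toFinset : Finset GolayPt) : Set GolayPt) := by
    ext y
    simp
  rw [this, Set.ncard_coe_finset, Finset.card_sdiff_of_subset, dodecad_card hd,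
    List.toFinset_card_of_nodup hl]
  intro x hx
  exact hld x (List.mem_toFinset.mp hx)

/-- one step of the chain of stabilizers -/
theorem card_fixesDL_step {d : Finset GolayPt} (hd : d ∈ dodecads) (K : Subgroup ↥M24)
    (l : List GolayPt) (hK : ∀ g, g ∈ K ↔ FixesDL d l g) (hl : l.Nodup) (hld : ∀ x ∈ l, x ∈ d)
    (h4 : l.length ≤ 4) {x : GolayPt} (hx : x ∈ d) (hxl : x ∉ l) :
    Nat.card K = (12 - l.length) * Nat.card ↥(K ⊓ stabilizer M24 x) ∧
      ∀ g, g ∈ K ⊓ stabilizer M24 x ↔ FixesDL d (l ++ [x]) g := by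
  constructor
  · rw [card_eq_orbit_mul_card_inf_stabilizer' K x, orbit_fixesDL hd K l hK hl hld h4 hx hxl,
      ncard_dodecad_sdiff_list hd l hl hld]
  · intro g
    rw [Subgroup.mem_inf, hK g]
    unfold FixesDL
    constructor
    · rintro ⟨⟨h1, h2⟩, h3⟩
      refine ⟨h1, ?_⟩
      intro z hz
      rcases List.mem_append.mp hz with h | h
      · exact h2 z h
      · rw [List.mem_singleton] at h; rw [h]; exact h3
    · rintro ⟨h1, h2⟩
      exact ⟨⟨h1, fun z hz => h2 z (List.mem_append_left _ hz)⟩,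
        h2 x (List.mem_append_right _ (List.mem_singleton.mpr rfl))⟩

/-- the stabilizer of three points of a dodecad in the dodecad stabilizer has order 72 -/
theorem card_dodecad_three_stabilizer {d : Finset GolayPt} (hd : d ∈ dodecads) {p q r : GolayPt}
    (hp : p ∈ d) (hq : q ∈ d) (hr : r ∈ d) (hpq : p ≠ q) (hpr : p ≠ r) (hqr : q ≠ r) :
    Nat.card ↥(stabilizer M24 d ⊓ stabilizer M24 p ⊓ stabilizer M24 q ⊓ stabilizer M24 r) = 72 ∧
    ∀ g, g ∈ stabilizer M24 d ⊓ stabilizer M24 p ⊓ stabilizer M24 q ⊓ stabilizer M24 r ↔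
      FixesDL d [p, q, r] g := by
  have h0 : ∀ g, g ∈ stabilizer M24 d ↔ FixesDL d [] g := by
    intro g
    unfold FixesDL
    rw [mem_stabilizer_iff]
    constructor
    · intro h
      exact ⟨h, fun x hx => absurd hx List.not_mem_nil⟩
    · intro h
      exact h.1
  obtain ⟨c1, k1⟩ := card_fixesDL_step hd _ [] h0 List.nodup_nil (by simp) (by simp) hp (by simp)
  obtain ⟨c2, k2⟩ := card_fixesDL_step hd _ _ k1 (by simp) (by simpa using hp) (by simp) hq
    (by simpa using hpq.symm)
  obtain ⟨c3, k3⟩ := card_fixesDL_step hd _ _ k2 (by simpa using hpq)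
    (by
      intro z hz
      simp only [List.nil_append, List.cons_append, List.mem_cons, List.not_mem_nil, or_false] at hz
      rcases hz with rfl | rfl
      · exact hp
      · exact hq) (by simp) hr (by simpa using ⟨hpr.symm, hqr.symm⟩)
  refine ⟨?_, k3⟩
  have hc := card_stabilizer_dodecad hd
  simp only [List.length_nil, List.nil_append, List.length_cons, List.cons_append] at c1 c2 c3
  omega

end Cfsg.Agent.Lib.Helper28

namespace Cfsg.Agent.Lib.Helper28

open Cfsg MulAction
open scoped Pointwise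

/-- the subgroup of `M24` stabilizing `d` and fixing `p`, `q`, `r`, as a subgroup of
permutations -/
def dodecadThree (d : Finset GolayPt) (p q r : GolayPt) : Subgroup (Equiv.Perm GolayPt) :=
  M24 ⊓ stabilizer (Equiv.Perm GolayPt) d ⊓ stabilizer (Equiv.Perm GolayPt) p ⊓
    stabilizer (Equiv.Perm GolayPt) q ⊓ stabilizer (Equiv.Perm GolayPt) r

theorem mem_dodecadThree {d : Finset GolayPt} {p q r : GolayPt} {g : Equiv.Perm GolayPt} :
    g ∈ dodecadThree d p q r ↔ g ∈ M24 ∧ g • d = d ∧ g p = p ∧ g q = q ∧ g r = r := by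
  unfold dodecadThree
  simp only [Subgroup.mem_inf, mem_stabilizer_iff, Equiv.Perm.smul_def, and_assoc]

theorem conj_mem_dodecadThree {d : Finset GolayPt} {p q r : GolayPt} {g h : Equiv.Perm GolayPt}
    (hh : h ∈ M24) (hg : g ∈ dodecadThree d p q r) :
    h * g * h⁻¹ ∈ dodecadThree (h • d) (h p) (h q) (h r) := by
  rw [mem_dodecadThree] at hg ⊢
  obtain ⟨h1, h2, h3, h4, h5⟩ := hg
  refine ⟨M24.mul_mem (M24.mul_mem hh h1) (M24.inv_mem hh), ?_, ?_, ?_, ?_⟩
  · rw [mul_smul, mul_smul, inv_smul_smul, h2]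
  · simp [h3]
  · simp [h4]
  · simp [h5]

theorem m9_base_trans (z : GolayPt) (hz : z ∉ ptSet m9_base) :
    ∃ g ∈ dodecadThree (ptSet m9_base) (ptN 0) (ptN 1) (ptN 2), g (ptN 6) = z := by
  have ha : (ptInv z).val < 24 := (ptInv z).2
  have hz' : (ptInv z).val ∉ m9_base := by
    intro hc
    apply hz
    rw [← ptN_ptInv z]
    exact (ptN_mem_ptSet m9_base_check.1 ha).mpr hc
  have hout := m9_out_check.1 _ ha hz'
  rw [← m9_out_check.2, List.mem_map] at hout
  obtain ⟨t, ht, hlook⟩ := hout
  obtain ⟨htab, hset, h0, h1, h2⟩ := m9_tabs_check t ht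
  obtain ⟨g, hg, hact⟩ := htab.exists
  refine ⟨g, mem_dodecadThree.mpr ⟨hg, ?_, ?_, ?_, ?_⟩, ?_⟩
  · rw [(smul_ptSet hact m9_base_check.1).1]
    exact ptSet_eq_of_setEqB hset
  · rw [(hact 0 (by norm_num)).2, h0]
  · rw [(hact 1 (by norm_num)).2, h1]
  · rw [(hact 2 (by norm_num)).2, h2]
  · rw [(hact 6 (by norm_num)).2, hlook, ptN_ptInv]

/-- the stabilizer of three points of a dodecad in the dodecad stabilizer is transitive on the
complementary dodecad -/
theorem dodecadThree_transitive {d : Finset GolayPt} (hd : d ∈ dodecads) {p q r : GolayPt}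
    (hp : p ∈ d) (hq : q ∈ d) (hr : r ∈ d) (hpq : p ≠ q) (hpr : p ≠ r) (hqr : q ≠ r)
    {x y : GolayPt} (hx : x ∉ d) (hy : y ∉ d) : ∃ g ∈ dodecadThree d p q r, g x = y := by
  have hd₀ : ptSet m9_base ∈ dodecads := m9_base_check.mem
  have hin : ∀ a, a < 24 → a ∈ m9_base → ptN a ∈ ptSet m9_base := fun a ha h =>
    (ptN_mem_ptSet m9_base_check.1 ha).mpr h
  have hne : ∀ a b, a < 24 → b < 24 → a ≠ b → ptN a ≠ ptN b := fun a b ha hb hab hc =>
    hab (ptN_inj ha hb hc)
  obtain ⟨h, hh, hhd, hmap⟩ := M24_dodecad_list_transitive hd₀ hd [ptN 0, ptN 1, ptN 2] [p, q, r]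
    (by
      simp only [List.nodup_cons, List.mem_cons, List.not_mem_nil, or_false, not_or,
        not_false_eq_true, List.nodup_nil, and_true]
      exact ⟨⟨hne 0 1 (by norm_num) (by norm_num) (by norm_num),
        hne 0 2 (by norm_num) (by norm_num) (by norm_num)⟩,
        hne 1 2 (by norm_num) (by norm_num) (by norm_num)⟩)
    (by
      simp only [List.nodup_cons, List.mem_cons, List.not_mem_nil, or_false, not_or,
        not_false_eq_true, List.nodup_nil, and_true]
      exact ⟨⟨hpq, hpr⟩, hqr⟩)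
    (by
      intro z hz
      simp only [List.mem_cons, List.not_mem_nil, or_false] at hz
      rcases hz with rfl | rfl | rfl
      · exact hin 0 (by norm_num) (by decide)
      · exact hin 1 (by norm_num) (by decide)
      · exact hin 2 (by norm_num) (by decide))
    (by
      intro z hz
      simp only [List.mem_cons, List.not_mem_nil, or_false] at hz
      rcases hz with rfl | rfl | rfl
      · exact hp
      · exact hq
      · exact hr) rfl (by simp)
  simp only [List.map_cons, List.map_nil, List.cons.injEq, and_true] at hmap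
  obtain ⟨e0, e1, e2⟩ := hmap
  subst hhd
  have hback : ∀ z, z ∉ h • ptSet m9_base → h⁻¹ z ∉ ptSet m9_base := by
    intro z hz hc
    apply hz
    rw [Finset.mem_smul_finset]
    exact ⟨h⁻¹ z, hc, by simp⟩
  obtain ⟨gx, hgx, hgx6⟩ := m9_base_trans _ (hback x hx)
  obtain ⟨gy, hgy, hgy6⟩ := m9_base_trans _ (hback y hy)
  have hk : gy * gx⁻¹ ∈ dodecadThree (ptSet m9_base) (ptN 0) (ptN 1) (ptN 2) :=
    Subgroup.mul_mem _ hgy (Subgroup.inv_mem _ hgx)
  have := conj_mem_dodecadThree hh hk
  rw [e0, e1, e2] at this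
  refine ⟨_, this, ?_⟩
  have e3 : gx⁻¹ (h⁻¹ x) = ptN 6 := by rw [← hgx6]; simp
  simp only [Equiv.Perm.mul_apply]
  rw [e3, hgy6]
  simp

end Cfsg.Agent.Lib.Helper28
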