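import Cfsg.Agent.Lib.Helper28.Data5619
import Cfsg.Agent.Lib.Helper28.M9
import Cfsg.Agent.Lib.Helper28.GroupSeventyTwo

set_option autoImplicit false

/-!
The structure `3^2 : Q8` of the stabilizer of three points of a dodecad in the dodecad
stabilizer.
-/

namespace Cfsg.Agent.Lib.Helper28

open Cfsg MulAction
open scoped Pointwise

theorem inv_apply_self_perm (f : Equiv.Perm GolayPt) (x : GolayPt) : f⁻¹ (f x) = x :=
  f.symm_apply_apply x

/-- powers of an image list -/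
def powL (l : List ℕ) : ℕ → List ℕ
  | 0 => idList
  | n + 1 => compL l (powL l n)

theorem powL_spec {l : List ℕ} (hl : GoodPerm l) (n : ℕ) :
    GoodPerm (powL l n) ∧ permOfList (powL l n) = permOfList l ^ n := by
  induction n with
  | zero => exact ⟨goodPerm_idList, by rw [pow_zero]; exact permOfList_idList⟩
  | succ n ih =>
    refine ⟨goodPerm_compL hl ih.1, ?_⟩
    show permOfList (compL l (powL l n)) = _
    rw [← permOfList_compL hl ih.1, ih.2, pow_succ']

theorem pow_eq_one_iff_powL {l : List ℕ} (hl : GoodPerm l) (n : ℕ) :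
    permOfList l ^ n = 1 ↔ powL l n = idList := by
  rw [← (powL_spec hl n).2, ← permOfList_idList]
  constructor
  · intro h
    exact permOfList_injective (powL_spec hl n).1 goodPerm_idList h
  · intro h
    rw [h]

/-- the enumerated elements of the base group -/
noncomputable def m9g_nodes : List (List ℕ) := m9g_model.nodes m9g_tabs idList m9g_cert

theorem card_dodecadThree {d : Finset GolayPt} (hd : d ∈ dodecads) {p q r : GolayPt}
    (hp : p ∈ d) (hq : q ∈ d) (hr : r ∈ d) (hpq : p ≠ q) (hpr : p ≠ r) (hqr : q ≠ r) :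
    Nat.card (dodecadThree d p q r) = 72 := by
  obtain ⟨hc, hmem⟩ := card_dodecad_three_stabilizer hd hp hq hr hpq hpr hqr
  have e : ↥(stabilizer M24 d ⊓ stabilizer M24 p ⊓ stabilizer M24 q ⊓ stabilizer M24 r) ≃
      ↥(dodecadThree d p q r) :=
    { toFun := fun x => ⟨(x.1 : Equiv.Perm GolayPt), by
        have := (hmem x.1).mp x.2
        rw [mem_dodecadThree]
        exact ⟨x.1.2, this.1, this.2 p (by simp), this.2 q (by simp), this.2 r (by simp)⟩⟩
      invFun := fun y => ⟨⟨y.1, (mem_dodecadThree.mp y.2).1⟩, by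
        rw [hmem]
        obtain ⟨_, h2, h3, h4, h5⟩ := mem_dodecadThree.mp y.2
        refine ⟨h2, ?_⟩
        intro z hz
        simp only [List.mem_cons, List.not_mem_nil, or_false] at hz
        rcases hz with rfl | rfl | rfl <;> assumption⟩
      left_inv := fun x => rfl
      right_inv := fun y => rfl }
  rw [← Nat.card_congr e]
  exact hc

theorem m9_base_pts : ptN 0 ∈ ptSet m9_base ∧ ptN 1 ∈ ptSet m9_base ∧ ptN 2 ∈ ptSet m9_base ∧
    ptN 0 ≠ ptN 1 ∧ ptN 0 ≠ ptN 2 ∧ ptN 1 ≠ ptN 2 :=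
  ⟨(ptN_mem_ptSet m9_base_check.1 (by norm_num)).mpr (by decide),
    (ptN_mem_ptSet m9_base_check.1 (by norm_num)).mpr (by decide),
    (ptN_mem_ptSet m9_base_check.1 (by norm_num)).mpr (by decide),
    fun h => absurd (ptN_inj (by norm_num) (by norm_num) h) (by norm_num),
    fun h => absurd (ptN_inj (by norm_num) (by norm_num) h) (by norm_num),
    fun h => absurd (ptN_inj (by norm_num) (by norm_num) h) (by norm_num)⟩

theorem m9g_hgens : ∀ t ∈ m9g_tabs,
    ∃ g ∈ dodecadThree (ptSet m9_base) (ptN 0) (ptN 1) (ptN 2), ActsBy g t := by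
  intro t ht
  obtain ⟨htab, hset, h0, h1, h2⟩ := m9g_tabs_check t ht
  obtain ⟨g, hg, hact⟩ := htab.exists
  refine ⟨g, mem_dodecadThree.mpr ⟨hg, ?_, ?_, ?_, ?_⟩, hact⟩
  · rw [(smul_ptSet hact m9_base_check.1).1]
    exact ptSet_eq_of_setEqB hset
  · rw [(hact 0 (by norm_num)).2, h0]
  · rw [(hact 1 (by norm_num)).2, h1]
  · rw [(hact 2 (by norm_num)).2, h2]

theorem m9g_enum : ∀ g ∈ dodecadThree (ptSet m9_base) (ptN 0) (ptN 1) (ptN 2),
    ∃ l ∈ m9g_nodes, GoodPerm l ∧ g = permOfList l :=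
  elems_of_cert _ _ m9g_tabs m9g_hgens m9g_cert 72
    (card_dodecadThree m9_base_check.mem m9_base_pts.1 m9_base_pts.2.1 m9_base_pts.2.2.1
      m9_base_pts.2.2.2.1 m9_base_pts.2.2.2.2.1 m9_base_pts.2.2.2.2.2) m9g_check m9g_len

set_option maxRecDepth 1000000 in
set_option maxHeartbeats 4000000 in
theorem m9g_chkA : ∀ l ∈ m9g_model.nodes m9g_tabs idList m9g_cert,
    powL l 9 = idList → powL l 3 = idList := by
  decide +kernel

set_option maxRecDepth 1000000 in
set_option maxHeartbeats 4000000 in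
theorem m9g_chkB : ∀ l₁ ∈ m9g_model.nodes m9g_tabs idList m9g_cert,
    ∀ l₂ ∈ m9g_model.nodes m9g_tabs idList m9g_cert,
    powL l₁ 3 = idList → powL l₂ 3 = idList → powL (compL l₁ l₂) 3 = idList := by
  decide +kernel

set_option maxRecDepth 1000000 in
set_option maxHeartbeats 4000000 in
theorem m9g_chkC : ∀ l₁ ∈ m9g_model.nodes m9g_tabs idList m9g_cert,
    ∀ l₂ ∈ m9g_model.nodes m9g_tabs idList m9g_cert,
    powL l₁ 2 = idList → powL l₂ 2 = idList → l₁ ≠ idList → l₂ ≠ idList → l₁ ≠ l₂ →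
      powL (compL l₁ l₂) 8 ≠ idList := by
  decide +kernel

set_option maxRecDepth 1000000 in
set_option maxHeartbeats 4000000 in
theorem m9g_chkD : ∀ l ∈ m9g_model.nodes m9g_tabs idList m9g_cert,
    powL l 8 = idList → powL l 4 = idList := by
  decide +kernel

theorem permOfList_ne_one {l : List ℕ} (hl : GoodPerm l) (h : permOfList l ≠ 1) : l ≠ idList := by
  intro hc
  apply h
  rw [hc, permOfList_idList]

/-- the structure of the stabilizer of a dodecad and three of its points -/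
theorem m9_structure (d : Finset GolayPt) (hd : d ∈ dodecads) (p q r : GolayPt) (hp : p ∈ d)
    (hq : q ∈ d) (hr : r ∈ d) (hpq : p ≠ q) (hpr : p ≠ r) (hqr : q ≠ r) :
    (∀ Q : Sylow 3 ↥(stabilizer M24 d ⊓ stabilizer M24 p ⊓ stabilizer M24 q ⊓ stabilizer M24 r),
      (Q : Subgroup ↥(stabilizer M24 d ⊓ stabilizer M24 p ⊓ stabilizer M24 q ⊓
        stabilizer M24 r)).Normal ∧ Nat.card ↥Q = 9 ∧
      ∀ x ∈ (Q : Subgroup ↥(stabilizer M24 d ⊓ stabilizer M24 p ⊓ stabilizer M24 q ⊓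
        stabilizer M24 r)), x ^ 3 = 1) ∧
    ∀ P : Sylow 2 ↥(stabilizer M24 d ⊓ stabilizer M24 p ⊓ stabilizer M24 q ⊓ stabilizer M24 r),
      Nonempty (↥P ≃* QuaternionGroup 2) := by
  obtain ⟨hc, hmem⟩ := card_dodecad_three_stabilizer hd hp hq hr hpq hpr hqr
  obtain ⟨b0, b1, b2, n01, n02, n12⟩ := m9_base_pts
  obtain ⟨h, hh, hhd, hmap⟩ := M24_dodecad_list_transitive m9_base_check.mem hd
    [ptN 0, ptN 1, ptN 2] [p, q, r]
    (by
      simp only [List.nodup_cons, List.mem_cons, List.not_mem_nil, or_false, not_or,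
        not_false_eq_true, List.nodup_nil, and_true]
      exact ⟨⟨n01, n02⟩, n12⟩)
    (by
      simp only [List.nodup_cons, List.mem_cons, List.not_mem_nil, or_false, not_or,
        not_false_eq_true, List.nodup_nil, and_true]
      exact ⟨⟨hpq, hpr⟩, hqr⟩)
    (by
      intro z hz
      simp only [List.mem_cons, List.not_mem_nil, or_false] at hz
      rcases hz with rfl | rfl | rfl
      · exact b0
      · exact b1
      · exact b2)
    (by
      intro z hz
      simp only [List.mem_cons, List.not_mem_nil, or_false] at hz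
      rcases hz with rfl | rfl | rfl
      · exact hp
      · exact hq
      · exact hr) rfl (by simp)
  simp only [List.map_cons, List.map_nil, List.cons.injEq, and_true] at hmap
  obtain ⟨e0, e1, e2⟩ := hmap
  let φ : ↥(stabilizer M24 d ⊓ stabilizer M24 p ⊓ stabilizer M24 q ⊓ stabilizer M24 r) →*
      Equiv.Perm GolayPt :=
    (MulAut.conj h⁻¹).toMonoidHom.comp ((Subgroup.subtype M24).comp (Subgroup.subtype _))
  have hφ_apply : ∀ x, φ x = h⁻¹ * ((x : ↥M24) : Equiv.Perm GolayPt) * h := by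
    intro x
    show MulAut.conj h⁻¹ ((x : ↥M24) : Equiv.Perm GolayPt) = _
    rw [MulAut.conj_apply, inv_inv]
  have hφinj : Function.Injective φ := by
    intro x y hxy
    rw [hφ_apply, hφ_apply] at hxy
    have h1 : ((x : ↥M24) : Equiv.Perm GolayPt) = ((y : ↥M24) : Equiv.Perm GolayPt) := by
      have := congrArg (fun e => h * e * h⁻¹) hxy
      simpa [mul_assoc] using this
    exact Subtype.ext (Subtype.ext h1)
  have hS : ∀ x, φ x ∈ dodecadThree (ptSet m9_base) (ptN 0) (ptN 1) (ptN 2) := by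
    intro x
    rw [hφ_apply]
    obtain ⟨hxd, hxl⟩ := (hmem x.1).mp x.2
    rw [mem_dodecadThree]
    refine ⟨M24.mul_mem (M24.mul_mem (M24.inv_mem hh) x.1.2) hh, ?_, ?_, ?_, ?_⟩
    · rw [mul_smul, mul_smul, hhd, hxd, ← hhd, inv_smul_smul]
    · rw [Equiv.Perm.mul_apply, Equiv.Perm.mul_apply, e0, hxl p (by simp), ← e0,
        inv_apply_self_perm]
    · rw [Equiv.Perm.mul_apply, Equiv.Perm.mul_apply, e1, hxl q (by simp), ← e1,
        inv_apply_self_perm]
    · rw [Equiv.Perm.mul_apply, Equiv.Perm.mul_apply, e2, hxl r (by simp), ← e2,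
        inv_apply_self_perm]
  have fA : ∀ x ∈ dodecadThree (ptSet m9_base) (ptN 0) (ptN 1) (ptN 2),
      x ^ 9 = 1 → x ^ 3 = 1 := by
    intro x hx
    obtain ⟨l, hl, hgood, rfl⟩ := m9g_enum x hx
    rw [pow_eq_one_iff_powL hgood, pow_eq_one_iff_powL hgood]
    exact m9g_chkA l hl
  have fB : ∀ x ∈ dodecadThree (ptSet m9_base) (ptN 0) (ptN 1) (ptN 2),
      ∀ y ∈ dodecadThree (ptSet m9_base) (ptN 0) (ptN 1) (ptN 2),
      x ^ 3 = 1 → y ^ 3 = 1 → (x * y) ^ 3 = 1 := by
    intro x hx y hy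
    obtain ⟨l₁, hl₁, hg₁, rfl⟩ := m9g_enum x hx
    obtain ⟨l₂, hl₂, hg₂, rfl⟩ := m9g_enum y hy
    rw [permOfList_compL hg₁ hg₂, pow_eq_one_iff_powL hg₁, pow_eq_one_iff_powL hg₂,
      pow_eq_one_iff_powL (goodPerm_compL hg₁ hg₂)]
    exact m9g_chkB l₁ hl₁ l₂ hl₂
  have fC : ∀ s ∈ dodecadThree (ptSet m9_base) (ptN 0) (ptN 1) (ptN 2),
      ∀ t ∈ dodecadThree (ptSet m9_base) (ptN 0) (ptN 1) (ptN 2),
      s ^ 2 = 1 → t ^ 2 = 1 → s ≠ 1 → t ≠ 1 → s ≠ t → (s * t) ^ 8 ≠ 1 := by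
    intro x hx y hy
    obtain ⟨l₁, hl₁, hg₁, rfl⟩ := m9g_enum x hx
    obtain ⟨l₂, hl₂, hg₂, rfl⟩ := m9g_enum y hy
    rw [permOfList_compL hg₁ hg₂, pow_eq_one_iff_powL hg₁, pow_eq_one_iff_powL hg₂]
    intro h1 h2 h3 h4 h5
    rw [Ne, pow_eq_one_iff_powL (goodPerm_compL hg₁ hg₂)]
    exact m9g_chkC l₁ hl₁ l₂ hl₂ h1 h2 (permOfList_ne_one hg₁ h3) (permOfList_ne_one hg₂ h4)
      (fun hc => h5 (by rw [hc]))
  have fD : ∀ x ∈ dodecadThree (ptSet m9_base) (ptN 0) (ptN 1) (ptN 2),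
      x ^ 8 = 1 → x ^ 4 = 1 := by
    intro x hx
    obtain ⟨l, hl, hgood, rfl⟩ := m9g_enum x hx
    rw [pow_eq_one_iff_powL hgood, pow_eq_one_iff_powL hgood]
    exact m9g_chkD l hl
  obtain ⟨ga, gb, gc, gd⟩ := checks_transfer φ hφinj _ hS fA fB fC fD
  exact sylow_structure_of_checks hc ga gb gc gd

end Cfsg.Agent.Lib.Helper28
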