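import Mathlib

set_option autoImplicit false

/-!
Transport of simplicity (and of multiplicative equivalences) between conjugate subgroups and
between a subgroup of a subgroup and the corresponding subgroup of the ambient group.
-/

namespace Cfsg.Agent.Lib.Helper28

/-- conjugate subgroups are isomorphic -/
def conjSubgroupEquiv {G : Type*} [Group G] (H H' : Subgroup G) (h : G)
    (hHH' : ∀ g, g ∈ H' ↔ h⁻¹ * g * h ∈ H) : H' ≃* H where
  toFun g := ⟨h⁻¹ * g.1 * h, (hHH' g.1).mp g.2⟩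
  invFun k := ⟨h * k.1 * h⁻¹, (hHH' _).mpr (by
    have : h⁻¹ * (h * k.1 * h⁻¹) * h = k.1 := by group
    rw [this]; exact k.2)⟩
  left_inv g := by
    apply Subtype.ext
    show h * (h⁻¹ * g.1 * h) * h⁻¹ = g.1
    group
  right_inv k := by
    apply Subtype.ext
    show h⁻¹ * (h * k.1 * h⁻¹) * h = k.1
    group
  map_mul' a b := by
    apply Subtype.ext
    show h⁻¹ * (a.1 * b.1) * h = h⁻¹ * a.1 * h * (h⁻¹ * b.1 * h)
    group

/-- a subgroup `T` of a subgroup `K` is isomorphic to the subgroup `T₀` of the ambient group with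
the same elements -/
def subSubgroupEquiv {G : Type*} [Group G] (K : Subgroup G) (T : Subgroup K) (T₀ : Subgroup G)
    (hle : T₀ ≤ K) (hT : ∀ g : K, g ∈ T ↔ g.1 ∈ T₀) : T ≃* T₀ where
  toFun g := ⟨g.1.1, (hT g.1).mp g.2⟩
  invFun g := ⟨⟨g.1, hle g.2⟩, (hT _).mpr g.2⟩
  left_inv _ := rfl
  right_inv _ := rfl
  map_mul' _ _ := rfl

end Cfsg.Agent.Lib.Helper28
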