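import Cfsg.Agent.Lib.Helper28.M24Octad
import Cfsg.Agent.Lib.Helper28.SubgroupTransport

set_option autoImplicit false

/-!
Stabilizers in `Cfsg.M24` (as subgroups of the subtype `↥M24`) of translated objects are isomorphic
to the corresponding subgroups `M24 ⊓ stabilizer (Equiv.Perm GolayPt) x` of the symmetric group.
-/

namespace Cfsg.Agent.Lib.Helper28

open Cfsg MulAction
open scoped Pointwise

variable {X Y : Type*} [MulAction (Equiv.Perm GolayPt) X] [MulAction (Equiv.Perm GolayPt) Y]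

theorem conj_mem_stabilizer_iff (h g : Equiv.Perm GolayPt) (x : X) :
    h⁻¹ * g * h ∈ stabilizer (Equiv.Perm GolayPt) x ↔
      g ∈ stabilizer (Equiv.Perm GolayPt) (h • x) := by
  rw [mem_stabilizer_iff, mem_stabilizer_iff, mul_smul, mul_smul, inv_smul_eq_iff]

/-- the stabilizer in `M24` of `h • x` is isomorphic to `M24 ⊓ stabilizer _ x` -/
noncomputable def stabEquiv {h : Equiv.Perm GolayPt} (hh : h ∈ M24) (x : X) :
    stabilizer M24 (h • x) ≃* ↥(M24 ⊓ stabilizer (Equiv.Perm GolayPt) x) :=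
  (subSubgroupEquiv M24 (stabilizer M24 (h • x))
    (M24 ⊓ stabilizer (Equiv.Perm GolayPt) (h • x)) inf_le_left
    (fun g => ⟨fun hg => ⟨g.2, hg⟩, fun hg => hg.2⟩)).trans
  (conjSubgroupEquiv (M24 ⊓ stabilizer (Equiv.Perm GolayPt) x)
    (M24 ⊓ stabilizer (Equiv.Perm GolayPt) (h • x)) h (fun g => by
      rw [Subgroup.mem_inf, Subgroup.mem_inf, conj_mem_M24_iff hh, conj_mem_stabilizer_iff]))

/-- the joint stabilizer in `M24` of `h • x` and `h • y` -/
noncomputable def stabEquiv₂ {h : Equiv.Perm GolayPt} (hh : h ∈ M24) (x : X) (y : Y) :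
    ↥(stabilizer M24 (h • x) ⊓ stabilizer M24 (h • y)) ≃*
      ↥(M24 ⊓ stabilizer (Equiv.Perm GolayPt) x ⊓ stabilizer (Equiv.Perm GolayPt) y) :=
  (subSubgroupEquiv M24 (stabilizer M24 (h • x) ⊓ stabilizer M24 (h • y))
    (M24 ⊓ stabilizer (Equiv.Perm GolayPt) (h • x) ⊓ stabilizer (Equiv.Perm GolayPt) (h • y))
    (inf_le_left.trans inf_le_left)
    (fun g => ⟨fun hg => ⟨⟨g.2, hg.1⟩, hg.2⟩, fun hg => ⟨hg.1.2, hg.2⟩⟩)).trans
  (conjSubgroupEquiv (M24 ⊓ stabilizer (Equiv.Perm GolayPt) x ⊓ stabilizer (Equiv.Perm GolayPt) y)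
    (M24 ⊓ stabilizer (Equiv.Perm GolayPt) (h • x) ⊓ stabilizer (Equiv.Perm GolayPt) (h • y)) h
    (fun g => by
      rw [Subgroup.mem_inf, Subgroup.mem_inf, Subgroup.mem_inf, Subgroup.mem_inf,
        conj_mem_M24_iff hh, conj_mem_stabilizer_iff, conj_mem_stabilizer_iff]))

end Cfsg.Agent.Lib.Helper28
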