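import Mathlib
import Cfsg.Agent.Lib.Helper13.SpMax2
import Cfsg.Agent.Lib.Helper13.SubfPairs
import Cfsg.Prelude.Def_GeometricClasses

/-!
# Subfield subgroups of `Sp_{2m}`: basic definitions for S5650

`rv K u` : a vector with coordinates in the subfield `K`, viewed over `F`.
`H1 K m` : the subfield group (with `P = 1`) intersected with `Sp_{2m}(F)`.
`Good K M` : `M` contains a symplectic transvection `x ↦ x + a f(x,v) v` with `v` rational, `a ∉ K`.
`Rank2 K M` : `M` contains the transvection with centre `ω₁ a + ω₂ b`, `a, b` rational and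
`K`-independent, `ω₁, ω₂ ∈ F` `K`-independent.
-/

set_option autoImplicit false

namespace Cfsg.Agent.Lib.Helper28.SpSubf

open Matrix Cfsg.Agent.Lib.Helper6 Cfsg.Agent.Lib.Helper13
open scoped Pointwise

variable {F : Type*} [Field F] {m : ℕ}

/-- a vector with coordinates in `K`, viewed over `F` -/
def rv (K : Subfield F) (u : Fin m ⊕ Fin m → K) : Fin m ⊕ Fin m → F := fun i => (u i : F)

theorem rv_apply (K : Subfield F) (u : Fin m ⊕ Fin m → K) (i : Fin m ⊕ Fin m) :
    rv K u i = (u i : F) := rfl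

theorem rv_add (K : Subfield F) (u v : Fin m ⊕ Fin m → K) : rv K (u + v) = rv K u + rv K v := by
  funext i
  simp [rv]

theorem rv_sub (K : Subfield F) (u v : Fin m ⊕ Fin m → K) : rv K (u - v) = rv K u - rv K v := by
  funext i
  simp [rv]

theorem rv_neg (K : Subfield F) (u : Fin m ⊕ Fin m → K) : rv K (-u) = -rv K u := by
  funext i
  simp [rv]

theorem rv_smul (K : Subfield F) (k : K) (u : Fin m ⊕ Fin m → K) :
    rv K (k • u) = (k : F) • rv K u := by
  funext i
  simp [rv]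

theorem rv_zero (K : Subfield F) : rv K (0 : Fin m ⊕ Fin m → K) = 0 := by
  funext i
  simp [rv]

theorem rv_inj (K : Subfield F) {u v : Fin m ⊕ Fin m → K} (h : rv K u = rv K v) : u = v := by
  funext i
  exact Subtype.ext (congrFun h i)

theorem rv_ne_zero (K : Subfield F) {u : Fin m ⊕ Fin m → K} (h : u ≠ 0) : rv K u ≠ 0 := by
  intro h0
  apply h
  apply rv_inj K
  rw [h0, rv_zero]

theorem rv_single (K : Subfield F) (j : Fin m ⊕ Fin m) (k : K) :
    rv K (Pi.single j k) = Pi.single j (k : F) := by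
  funext i
  by_cases h : i = j
  · subst h
    simp [rv]
  · simp [rv, Pi.single_eq_of_ne h]

/-- the form of two rational vectors is the rational form -/
theorem sympForm_rv (K : Subfield F) (a b : Fin m ⊕ Fin m → K) :
    Cfsg.sympForm m F (rv K a) (rv K b) = ((Cfsg.sympForm m K a b : K) : F) := by
  rw [sympForm_eq_sum, sympForm_eq_sum]
  push_cast
  rfl

/-- the subfield group (with `P = 1`) intersected with `Sp_{2m}(F)` -/
def H1 (K : Subfield F) (m : ℕ) : Subgroup (GL (Fin m ⊕ Fin m) F) :=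
  Cfsg.Geo.subfieldSubgroup K 1 ⊓ Cfsg.spGL m F

/-- `M` contains a transvection with rational centre and a parameter outside `K` -/
def Good (K : Subfield F) (M : Subgroup (GL (Fin m ⊕ Fin m) F)) : Prop :=
  ∃ (v : Fin m ⊕ Fin m → K) (a : F), v ≠ 0 ∧ a ∉ K ∧ sympTransvGL (rv K v) a ∈ M

/-- `M` contains the transvection `x ↦ x + f(x,w) w` for some `w = ω₁ a + ω₂ b` of `K`-rank two -/
def Rank2 (K : Subfield F) (M : Subgroup (GL (Fin m ⊕ Fin m) F)) : Prop :=
  ∃ (a b : Fin m ⊕ Fin m → K) (ω₁ ω₂ : F),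
    (∀ k₁ k₂ : K, k₁ • a + k₂ • b = 0 → k₁ = 0 ∧ k₂ = 0) ∧
    (∀ k₁ k₂ : K, (k₁ : F) * ω₁ + (k₂ : F) * ω₂ = 0 → k₁ = 0 ∧ k₂ = 0) ∧
    sympTransvGL (ω₁ • rv K a + ω₂ • rv K b) 1 ∈ M

/-- a matrix which is a nonzero scalar times a matrix over `K` lies in the subfield group -/
theorem mem_subfield_one_of_eq (K : Subfield F) (g : GL (Fin m ⊕ Fin m) F) (l : F) (hl : l ≠ 0)
    (B : Matrix (Fin m ⊕ Fin m) (Fin m ⊕ Fin m) K)
    (h : (g : Matrix (Fin m ⊕ Fin m) (Fin m ⊕ Fin m) F) = l • B.map (K.subtype)) :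
    g ∈ Cfsg.Geo.subfieldSubgroup K (1 : GL (Fin m ⊕ Fin m) F) := by
  have hx : (g : Matrix (Fin m ⊕ Fin m) (Fin m ⊕ Fin m) F).det ≠ 0 := by
    have := (Matrix.GeneralLinearGroup.det g).ne_zero
    rwa [Matrix.GeneralLinearGroup.val_det_apply] at this
  have hdet : B.det ≠ 0 := by
    intro h0
    apply hx
    have h1 : (B.map K.subtype).det = K.subtype B.det := by
      rw [RingHom.map_det]
      rfl
    rw [h, det_smul, h1, h0, map_zero, mul_zero]
  let B' : GL (Fin m ⊕ Fin m) K := Matrix.GeneralLinearGroup.mkOfDetNeZero B hdet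
  have hB' : ((Matrix.GeneralLinearGroup.map K.subtype B' : GL (Fin m ⊕ Fin m) F) :
      Matrix (Fin m ⊕ Fin m) (Fin m ⊕ Fin m) F) = B.map K.subtype := rfl
  have hs : (Matrix.GeneralLinearGroup.map K.subtype B')⁻¹ * g ∈
      Cfsg.Geo.scalars (Fin m ⊕ Fin m) F := by
    rw [Cfsg.Geo.mem_scalars_iff]
    refine ⟨Units.mk0 l hl, ?_⟩
    rw [Units.val_mul, h, ← hB', Matrix.mul_smul, ← Units.val_mul, inv_mul_cancel, Units.val_one]
    rfl
  have hx2 : g ∈ (Matrix.GeneralLinearGroup.map (K.subtype : K →+* F)).range ⊔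
      Cfsg.Geo.scalars (Fin m ⊕ Fin m) F := by
    have hr : Matrix.GeneralLinearGroup.map (K.subtype : K →+* F) B' ∈
        (Matrix.GeneralLinearGroup.map (K.subtype : K →+* F)).range :=
      MonoidHom.mem_range.mpr ⟨B', rfl⟩
    have := Subgroup.mul_mem_sup hr hs
    rwa [mul_inv_cancel_left] at this
  refine Subgroup.mem_map.mpr ⟨g, hx2, ?_⟩
  rw [MulEquiv.coe_toMonoidHom, MulAut.conj_apply]
  group

/-- elements of the subfield group are scalars times matrices over `K` -/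
theorem exists_eq_of_mem_subfield_one (K : Subfield F) (g : GL (Fin m ⊕ Fin m) F)
    (hg : g ∈ Cfsg.Geo.subfieldSubgroup K (1 : GL (Fin m ⊕ Fin m) F)) :
    ∃ (l : F) (B : Matrix (Fin m ⊕ Fin m) (Fin m ⊕ Fin m) K), l ≠ 0 ∧
      (g : Matrix (Fin m ⊕ Fin m) (Fin m ⊕ Fin m) F) = l • B.map (K.subtype) := by
  unfold Cfsg.Geo.subfieldSubgroup at hg
  obtain ⟨x, hx, hxg⟩ := Subgroup.mem_map.mp hg
  have hx' : x ∈ (((Matrix.GeneralLinearGroup.map (K.subtype : K →+* F)).range :
      Subgroup (GL (Fin m ⊕ Fin m) F)) : Set (GL (Fin m ⊕ Fin m) F)) *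
      ((Cfsg.Geo.scalars (Fin m ⊕ Fin m) F : Subgroup (GL (Fin m ⊕ Fin m) F)) :
        Set (GL (Fin m ⊕ Fin m) F)) := by
    rw [← Subgroup.mul_normal]
    exact hx
  obtain ⟨y, hy, z, hz, hyz⟩ := Set.mem_mul.mp hx'
  obtain ⟨B', hB'⟩ := MonoidHom.mem_range.mp hy
  obtain ⟨c, hc⟩ := (Cfsg.Geo.mem_scalars_iff z).mp hz
  refine ⟨c, B'.val, c.ne_zero, ?_⟩
  have e : g = y * z := by
    rw [← hxg, MulEquiv.coe_toMonoidHom, MulAut.conj_apply, hyz]
    group
  rw [e, Units.val_mul, hc, Matrix.mul_smul, Matrix.mul_one, ← hB']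
  rfl

theorem map_mulVec_rv (K : Subfield F) (B : Matrix (Fin m ⊕ Fin m) (Fin m ⊕ Fin m) K)
    (u : Fin m ⊕ Fin m → K) : (B.map K.subtype) *ᵥ rv K u = rv K (B *ᵥ u) := by
  funext i
  simp only [mulVec, dotProduct, rv, Matrix.map_apply]
  push_cast
  rfl

/-- an invertible matrix mapping every rational vector to a multiple of a rational vector is a
scalar multiple of a matrix over `K` (general index version of helper13's lemma) -/
theorem exists_rational_of_pure' (hm : 0 < m) (K : Subfield F) (A : GL (Fin m ⊕ Fin m) F)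
    (hA : ∀ u : Fin m ⊕ Fin m → K, ∃ (l : F) (r : Fin m ⊕ Fin m → K),
      (A : Matrix (Fin m ⊕ Fin m) (Fin m ⊕ Fin m) F) *ᵥ rv K u = l • rv K r) :
    ∃ (l : F) (B : Matrix (Fin m ⊕ Fin m) (Fin m ⊕ Fin m) K), l ≠ 0 ∧
      (A : Matrix (Fin m ⊕ Fin m) (Fin m ⊕ Fin m) F) = l • B.map K.subtype := by
  classical
  obtain ⟨i₀, hi₀⟩ : ∃ i₀ : Fin m ⊕ Fin m, i₀ = Sum.inl ⟨0, hm⟩ := ⟨_, rfl⟩
  obtain ⟨e₀, he₀def⟩ : ∃ e₀ : Fin m ⊕ Fin m → K, e₀ = Pi.single i₀ 1 := ⟨_, rfl⟩
  have hinjA : ∀ x y : Fin m ⊕ Fin m → F, A.val *ᵥ x = A.val *ᵥ y → x = y := by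
    intro x y hxy
    have := congrArg (fun v => (A⁻¹ : GL (Fin m ⊕ Fin m) F).val *ᵥ v) hxy
    simpa [mulVec_mulVec, ← Units.val_mul] using this
  obtain ⟨l₀, r₀, h₀⟩ := hA e₀
  have he₀ : rv K e₀ ≠ 0 := by
    intro h0
    have := congrFun h0 i₀
    rw [he₀def, rv_single] at this
    simp at this
  have hl₀ : l₀ ≠ 0 := by
    intro h0
    rw [h0, zero_smul] at h₀
    apply he₀
    apply hinjA
    rw [h₀, mulVec_zero]
  have key : ∀ u : Fin m ⊕ Fin m → K, ∃ r : Fin m ⊕ Fin m → K,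
      A.val *ᵥ rv K u = l₀ • rv K r := by
    intro u
    obtain ⟨μ, r, hu⟩ := hA u
    obtain ⟨ν, s, hus⟩ := hA (u + e₀)
    rw [rv_add, mulVec_add, hu, h₀] at hus
    by_cases hD : ∃ k l : Fin m ⊕ Fin m, r k * r₀ l - r l * r₀ k ≠ 0
    · obtain ⟨k, l, hkl⟩ := hD
      have hk := congrFun hus k
      have hl := congrFun hus l
      simp only [Pi.add_apply, Pi.smul_apply, smul_eq_mul, rv] at hk hl
      obtain ⟨d, hd⟩ : ∃ d : K, d = r₀ k * r l - r₀ l * r k := ⟨_, rfl⟩
      obtain ⟨X, hX⟩ : ∃ X : K, X = s k * r l - s l * r k := ⟨_, rfl⟩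
      have hkey : ν * (X : F) = l₀ * (d : F) := by
        rw [hX, hd]
        push_cast
        linear_combination (r k : F) * hl - (r l : F) * hk
      have hd0 : d ≠ 0 := by
        rw [hd]
        intro h0
        apply hkl
        linear_combination -h0
      have hX0 : (X : F) ≠ 0 := by
        intro h0
        rw [h0, mul_zero] at hkey
        have h1 : (d : F) = 0 := by
          rcases mul_eq_zero.mp hkey.symm with h1 | h1
          · exact absurd h1 hl₀
          · exact h1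
        exact hd0 (by exact_mod_cast h1)
      have hν : ν = l₀ * ((d / X : K) : F) := by
        rw [Subfield.coe_div, mul_div_assoc', eq_div_iff hX0]
        exact hkey
      refine ⟨(d / X) • s - r₀, ?_⟩
      rw [hu]
      have h3 : μ • rv K r = ν • rv K s - l₀ • rv K r₀ := eq_sub_of_add_eq hus
      rw [h3, hν, rv_sub, rv_smul, smul_sub, smul_smul]
    · push Not at hD
      have hr₀ : ∃ l₁, r₀ l₁ ≠ 0 := by
        by_contra hne
        push Not at hne
        have h1 : r₀ = 0 := funext hne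
        rw [h1, rv_zero, smul_zero] at h₀
        apply he₀
        apply hinjA
        rw [h₀, mulVec_zero]
      obtain ⟨l₁, hl₁⟩ := hr₀
      obtain ⟨κ, hκ⟩ : ∃ κ : K, κ = r l₁ / r₀ l₁ := ⟨_, rfl⟩
      have hr : r = κ • r₀ := by
        funext k
        have h1 := hD k l₁
        rw [Pi.smul_apply, smul_eq_mul, hκ, div_mul_eq_mul_div, eq_div_iff hl₁]
        linear_combination h1
      have hu2 : A.val *ᵥ rv K u = A.val *ᵥ ((μ * (κ : F) / l₀) • rv K e₀) := by
        rw [mulVec_smul, h₀, hu, hr, rv_smul, smul_smul, smul_smul]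
        congr 1
        field_simp
      have hu3 := hinjA _ _ hu2
      have hc : μ * (κ : F) / l₀ = (u i₀ : F) := by
        have h1 := congrFun hu3 i₀
        rw [he₀def, rv_single] at h1
        simp [rv] at h1
        exact h1.symm
      refine ⟨(u i₀) • r₀, ?_⟩
      rw [hu, hr, rv_smul, rv_smul, smul_smul, smul_smul, ← hc]
      congr 1
      field_simp
  choose R hR using key
  refine ⟨l₀, fun i j => R (Pi.single j 1) i, hl₀, ?_⟩
  ext i j
  have h2 := congrFun (hR (Pi.single j 1)) i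
  rw [rv_single] at h2
  simp only [OneMemClass.coe_one, Matrix.mulVec_single_one] at h2
  rw [Matrix.smul_apply, smul_eq_mul]
  exact h2

/-- an element of `GL` outside the subfield group maps some rational vector to a vector which is
not a multiple of a rational vector -/
theorem exists_impure (hm : 0 < m) (K : Subfield F) (g : GL (Fin m ⊕ Fin m) F)
    (hg : g ∉ Cfsg.Geo.subfieldSubgroup K (1 : GL (Fin m ⊕ Fin m) F)) :
    ∃ u : Fin m ⊕ Fin m → K, ∀ (l : F) (r : Fin m ⊕ Fin m → K),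
      (g : Matrix (Fin m ⊕ Fin m) (Fin m ⊕ Fin m) F) *ᵥ rv K u ≠ l • rv K r := by
  by_contra hcon
  push Not at hcon
  obtain ⟨l, B, hl, hB⟩ := exists_rational_of_pure' hm K g hcon
  exact hg (mem_subfield_one_of_eq K g l hl B hB)

theorem J_mulVec_rv (K : Subfield F) (v : Fin m ⊕ Fin m → K) (j : Fin m ⊕ Fin m) :
    (Matrix.J (Fin m) F *ᵥ rv K v) j = (((Matrix.J (Fin m) K *ᵥ v) j : K) : F) := by
  rcases j with j | j <;>
  simp [Matrix.J, mulVec, dotProduct, Fintype.sum_sum_type, rv, Matrix.one_apply]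

/-- the rational transvection matrix, viewed over `F` -/
theorem sympTransvection_map (K : Subfield F) (v : Fin m ⊕ Fin m → K) (k : K) :
    (Cfsg.sympTransvection m v k).map K.subtype = Cfsg.sympTransvection m (rv K v) (k : F) := by
  ext i j
  simp only [Cfsg.sympTransvection, Matrix.map_apply, Matrix.add_apply, Matrix.smul_apply,
    vecMulVec_apply, smul_eq_mul, Subfield.coe_subtype, J_mulVec_rv]
  by_cases h : i = j
  · subst h
    simp [rv]
  · simp [Matrix.one_apply_ne h, rv]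

/-- rational transvections lie in `H1` -/
theorem rat_transv_mem (K : Subfield F) (v : Fin m ⊕ Fin m → K) (k : K) :
    sympTransvGL (rv K v) (k : F) ∈ H1 K m := by
  refine ⟨?_, sympTransvGL_mem _ _⟩
  apply mem_subfield_one_of_eq K _ 1 one_ne_zero (Cfsg.sympTransvection m v k)
  rw [one_smul, sympTransvection_map]
  rfl

theorem rat_transv_mem_one (K : Subfield F) (v : Fin m ⊕ Fin m → K) :
    sympTransvGL (rv K v) 1 ∈ H1 K m := by
  have := rat_transv_mem K v 1
  simpa using this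

theorem rat_transv_mem_neg_one (K : Subfield F) (v : Fin m ⊕ Fin m → K) :
    sympTransvGL (rv K v) (-1) ∈ H1 K m := by
  have := rat_transv_mem K v (-1)
  simpa using this

/-- rational Siegel elements lie in `H1` -/
theorem rat_sieg_mem (K : Subfield F) (a b : Fin m ⊕ Fin m → K) :
    sieg (rv K a) (rv K b) ∈ H1 K m := by
  unfold sieg
  rw [← rv_add]
  exact (H1 K m).mul_mem ((H1 K m).mul_mem (rat_transv_mem_one K _) (rat_transv_mem_neg_one K _))
    (rat_transv_mem_neg_one K _)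

/-- conjugating a Siegel element by an isometry -/
theorem conj_sieg (k : GL (Fin m ⊕ Fin m) F) (hk : k ∈ Cfsg.spGL m F)
    (a b : Fin m ⊕ Fin m → F) :
    k * sieg a b * k⁻¹ = sieg ((k : Matrix (Fin m ⊕ Fin m) (Fin m ⊕ Fin m) F) *ᵥ a)
      ((k : Matrix (Fin m ⊕ Fin m) (Fin m ⊕ Fin m) F) *ᵥ b) := by
  unfold sieg
  rw [← conj_sympTransvGL k hk, ← conj_sympTransvGL k hk, ← mulVec_add,
    ← conj_sympTransvGL k hk]
  group

/-- the standard alternating form over any field is an `AltF` in the sense of helper13 -/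
theorem altF_symp (K : Type*) [Field K] (m : ℕ) :
    AltF (K := K) (V := Fin m ⊕ Fin m → K) (Cfsg.sympForm m K) where
  add_left := sympForm_add_left
  smul_left := sympForm_smul_left
  self := sympForm_self
  swap := sympForm_swap
  nd := fun _ hx => Cfsg.Agent.Lib.Helper2.exists_sympForm_ne_zero hx

/-- helper13's abstract transvection `altT` over `K` is the rational symplectic transvection -/
theorem rv_altT (K : Subfield F) (u : Fin m ⊕ Fin m → K) (c : K) (x : Fin m ⊕ Fin m → K) :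
    rv K (altT (Cfsg.sympForm m K) u c x) =
      ((sympTransvGL (rv K u) (c : F) : GL (Fin m ⊕ Fin m) F) :
        Matrix (Fin m ⊕ Fin m) (Fin m ⊕ Fin m) F) *ᵥ rv K x := by
  rw [sympTransvGL_mulVec, sympForm_rv]
  unfold altT
  rw [rv_add, rv_smul]
  push_cast
  rfl

/-- transvections with the same centre multiply by adding the parameters -/
theorem sympTransvGL_mul (v : Fin m ⊕ Fin m → F) (c d : F) :
    sympTransvGL v c * sympTransvGL v d = sympTransvGL v (c + d) :=
  Units.ext (sympTransvection_mul v c d)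

theorem sympTransvGL_zero (v : Fin m ⊕ Fin m → F) : sympTransvGL v 0 = 1 :=
  Units.ext (transvection_zero v)

theorem sympTransvGL_inv (v : Fin m ⊕ Fin m → F) (c : F) :
    (sympTransvGL v c)⁻¹ = sympTransvGL v (-c) := by
  apply inv_eq_of_mul_eq_one_right
  rw [sympTransvGL_mul, add_neg_cancel, sympTransvGL_zero]

/-- two elements of `GL` with the same action on vectors are equal -/
theorem gl_ext {g h : GL (Fin m ⊕ Fin m) F}
    (e : ∀ x, (g : Matrix (Fin m ⊕ Fin m) (Fin m ⊕ Fin m) F) *ᵥ x =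
      (h : Matrix (Fin m ⊕ Fin m) (Fin m ⊕ Fin m) F) *ᵥ x) : g = h :=
  Units.ext (matrix_ext_mulVec e)

theorem inv_mulVec_mulVec (g : GL (Fin m ⊕ Fin m) F) (x : Fin m ⊕ Fin m → F) :
    ((g⁻¹ : GL (Fin m ⊕ Fin m) F) : Matrix (Fin m ⊕ Fin m) (Fin m ⊕ Fin m) F) *ᵥ
      ((g : Matrix (Fin m ⊕ Fin m) (Fin m ⊕ Fin m) F) *ᵥ x) = x := by
  rw [mulVec_mulVec, ← Units.val_mul, inv_mul_cancel, Units.val_one, one_mulVec]

theorem mulVec_inv_mulVec (g : GL (Fin m ⊕ Fin m) F) (x : Fin m ⊕ Fin m → F) :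
    (g : Matrix (Fin m ⊕ Fin m) (Fin m ⊕ Fin m) F) *ᵥ
      (((g⁻¹ : GL (Fin m ⊕ Fin m) F) : Matrix (Fin m ⊕ Fin m) (Fin m ⊕ Fin m) F) *ᵥ x) = x := by
  rw [mulVec_mulVec, ← Units.val_mul, mul_inv_cancel, Units.val_one, one_mulVec]

/-- `d` is a short-root parameter of `M`: all Siegel elements `x ↦ x + d (f(x,u) v + f(x,v) u)` with
`u, v` rational, independent and orthogonal lie in `M` -/
def Short (K : Subfield F) (M : Subgroup (GL (Fin m ⊕ Fin m) F)) (d : F) : Prop :=
  ∀ u v : Fin m ⊕ Fin m → K, u ≠ 0 → (∀ k : K, v ≠ k • u) → Cfsg.sympForm m K u v = 0 →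
    sieg (d • rv K u) (rv K v) ∈ M

/-- `a` is a long-root parameter of `M`: all transvections with rational centre and parameter `a`
lie in `M` -/
def Long (K : Subfield F) (M : Subgroup (GL (Fin m ⊕ Fin m) F)) (a : F) : Prop :=
  ∀ v : Fin m ⊕ Fin m → K, sympTransvGL (rv K v) a ∈ M

end Cfsg.Agent.Lib.Helper28.SpSubf
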