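import Mathlib
import Cfsg.Prelude.Def_GeometricClasses
import Cfsg.Agent.Lib.Helper13.SpMax2
import Cfsg.Agent.Lib.Helper13.UOmDefs
import Cfsg.Agent.Lib.Helper2.SympCenter
import Cfsg.Agent.Lib.Helper28.SpSubfDefs

/-!
# Unitary structures on the symplectic space `F^{2m}` (S5665, helper28): definitions and basic API

`f = sympForm`, `θ` a matrix with `θ² = d`, `d` a nonsquare of `F`, `f(θu, v) = -f(u, θv)`, `2 ≠ 0`.
`K = F[θ]` is a quadratic field, `f = Tr(θ h)` for a `K`-hermitian form `h`, and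
`Nq θ x = f(x, θ x)` is (a multiple of) `h(x,x)`; `x` is `K`-isotropic iff `Nq θ x = 0`.
`tau θ d y s = T(y, s) T(θ y, -s/d)` is the unitary transvection with centre the isotropic `y`
(`T(v,c) = sympTransvGL v c : x ↦ x + c f(x,v) v`); it commutes with `θ`.
`NQ θ` is `Nq θ` as a `QuadraticForm`; `(NQ θ, θ)` is a `Helper13.UStr` with `τ = 0`, `ν = -d`, so
the whole geometry toolkit of S5700 (`Helper13.OND`, `UOmDefs`, the S5700 pieces) applies to it.
-/

set_option autoImplicit false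
set_option linter.unusedSectionVars false
set_option linter.unusedVariables false

namespace Cfsg.Agent.Lib.Helper28.USp

open Matrix Module QuadraticMap Cfsg.Agent.Lib.Helper6 Cfsg.Agent.Lib.Helper13
open Cfsg.Agent.Lib.Helper28.SpSubf

universe u
variable {F : Type u} [Field F] {m : ℕ}

local notation "ff" => Cfsg.sympForm m F
local notation "ι" => (Fin m ⊕ Fin m)

/-- a quadratic field `F[θ]` of matrices, `θ² = d` a nonsquare, `θ` skew-adjoint for the
alternating form, odd characteristic -/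
structure UStrSp (θ : Matrix ι ι F) (d : F) : Prop where
  two_ne : (2 : F) ≠ 0
  sq : θ * θ = d • (1 : Matrix ι ι F)
  adj : ∀ u v : ι → F, ff (θ *ᵥ u) v = - ff u (θ *ᵥ v)
  nsq : ∀ a : F, a * a ≠ d

/-- the hermitian norm `f(x, θ x)` -/
def Nq (θ : Matrix ι ι F) (x : ι → F) : F := ff x (θ *ᵥ x)

variable {θ : Matrix (Fin m ⊕ Fin m) (Fin m ⊕ Fin m) F} {d : F}

theorem UStrSp.d_ne (hU : UStrSp θ d) : d ≠ 0 := by
  intro h0
  exact hU.nsq 0 (by rw [h0, mul_zero])

theorem UStrSp.tt (hU : UStrSp θ d) (x : ι → F) : θ *ᵥ (θ *ᵥ x) = d • x := by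
  rw [mulVec_mulVec, hU.sq, smul_mulVec, one_mulVec]

theorem UStrSp.adj' (hU : UStrSp θ d) (u v : ι → F) : ff u (θ *ᵥ v) = - ff (θ *ᵥ u) v := by
  rw [hU.adj, neg_neg]

/-- `f(y, θ x) = f(x, θ y)` -/
theorem UStrSp.ff_t_symm (hU : UStrSp θ d) (x y : ι → F) : ff y (θ *ᵥ x) = ff x (θ *ᵥ y) := by
  rw [hU.adj', sympForm_swap, neg_neg]

theorem UStrSp.ff_tt (hU : UStrSp θ d) (u v : ι → F) :
    ff (θ *ᵥ u) (θ *ᵥ v) = - (d * ff u v) := by
  rw [hU.adj, hU.tt, sympForm_smul_right]

theorem UStrSp.ff_t_self (hU : UStrSp θ d) (x : ι → F) : ff (θ *ᵥ x) x = - Nq θ x := by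
  rw [hU.adj]; rfl

theorem UStrSp.Nq_theta (hU : UStrSp θ d) (x : ι → F) : Nq θ (θ *ᵥ x) = - (d * Nq θ x) := by
  unfold Nq
  rw [hU.tt, sympForm_smul_right, hU.ff_t_self]
  unfold Nq
  ring

theorem Nq_smul (θ : Matrix ι ι F) (c : F) (x : ι → F) : Nq θ (c • x) = c * c * Nq θ x := by
  unfold Nq
  rw [mulVec_smul, sympForm_smul_left, sympForm_smul_right]
  ring

theorem UStrSp.Nq_add (hU : UStrSp θ d) (x y : ι → F) :
    Nq θ (x + y) = Nq θ x + Nq θ y + 2 * ff x (θ *ᵥ y) := by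
  unfold Nq
  rw [mulVec_add, sympForm_add_left, sympForm_add_right, sympForm_add_right, hU.ff_t_symm x y]
  ring

theorem UStrSp.Nq_zero (θ : Matrix ι ι F) : Nq θ (0 : ι → F) = 0 := by
  unfold Nq
  rw [sympForm_zero_left]

/-- the norm `a² - d b²` of `a + b θ` is nonzero -/
theorem UStrSp.norm_ne (hU : UStrSp θ d) {a b : F} (hab : a ≠ 0 ∨ b ≠ 0) :
    a * a - d * (b * b) ≠ 0 := by
  by_cases hb : b = 0
  · subst hb
    have ha : a ≠ 0 := by tauto
    simpa using ha
  · intro h0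
    apply hU.nsq (a / b)
    field_simp
    linear_combination h0

/-- `K` acts freely -/
theorem UStrSp.free (hU : UStrSp θ d) {a b : F} {x : ι → F} (hx : x ≠ 0)
    (h : a • x + b • (θ *ᵥ x) = 0) : a = 0 ∧ b = 0 := by
  by_contra hne
  have hab : a ≠ 0 ∨ b ≠ 0 := by
    by_contra h2
    push Not at h2
    exact hne h2
  have hN := hU.norm_ne hab
  apply hx
  have h1 : a • (a • x + b • (θ *ᵥ x)) - b • (θ *ᵥ (a • x + b • (θ *ᵥ x))) =
      (a * a - d * (b * b)) • x := by
    rw [mulVec_add, mulVec_smul, mulVec_smul, hU.tt]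
    module
  rw [h, mulVec_zero, smul_zero, smul_zero, sub_zero] at h1
  exact (smul_eq_zero.mp h1.symm).resolve_left hN

theorem UStrSp.theta_ne_zero (hU : UStrSp θ d) {x : ι → F} (hx : x ≠ 0) : θ *ᵥ x ≠ 0 := by
  intro h0
  have := hU.free (a := 0) (b := 1) hx (by rw [zero_smul, one_smul, zero_add, h0])
  exact one_ne_zero this.2

/-! ### unitary transvections -/

/-- the unitary transvection `T(y, s) T(θ y, -s/d)` (for `Nq θ y = 0`) -/
def tau (θ : Matrix ι ι F) (d : F) (y : ι → F) (s : F) : GL ι F :=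
  sympTransvGL y s * sympTransvGL (θ *ᵥ y) (-(s / d))

theorem tau_mem_sp (θ : Matrix ι ι F) (d : F) (y : ι → F) (s : F) :
    tau θ d y s ∈ Cfsg.spGL m F :=
  (Cfsg.spGL m F).mul_mem (sympTransvGL_mem _ _) (sympTransvGL_mem _ _)

theorem UStrSp.tau_mulVec (hU : UStrSp θ d) {y : ι → F} (hy : Nq θ y = 0) (s : F) (x : ι → F) :
    ((tau θ d y s : GL ι F) : Matrix ι ι F) *ᵥ x =
      x + (s * ff x y) • y + (-(s / d) * ff x (θ *ᵥ y)) • (θ *ᵥ y) := by
  unfold tau
  rw [Units.val_mul, ← mulVec_mulVec, sympTransvGL_mulVec, sympTransvGL_mulVec, sympForm_add_left,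
    sympForm_smul_left, hU.ff_t_self, hy, neg_zero, mul_zero, add_zero]
  module

/-- two transvections with orthogonal centres commute -/
theorem sympTransvGL_comm {v w : ι → F} (hvw : ff v w = 0) (c e : F) :
    sympTransvGL v c * sympTransvGL w e = sympTransvGL w e * sympTransvGL v c := by
  have hwv : ff w v = 0 := by rw [sympForm_swap, hvw, neg_zero]
  apply gl_ext
  intro x
  rw [Units.val_mul, Units.val_mul, ← mulVec_mulVec, ← mulVec_mulVec, sympTransvGL_mulVec,
    sympTransvGL_mulVec, sympTransvGL_mulVec, sympTransvGL_mulVec, sympForm_add_left,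
    sympForm_add_left, sympForm_smul_left, sympForm_smul_left, hvw, hwv]
  module

/-- `T(c v, t) = T(v, c² t)` -/
theorem sympTransvGL_smul (v : ι → F) (c t : F) :
    sympTransvGL (c • v) t = sympTransvGL v (c * c * t) := by
  apply gl_ext
  intro x
  rw [sympTransvGL_mulVec, sympTransvGL_mulVec, sympForm_smul_right, smul_smul]
  congr 1
  ring

theorem UStrSp.tau_mul (hU : UStrSp θ d) {y : ι → F} (hy : Nq θ y = 0) (s t : F) :
    tau θ d y s * tau θ d y t = tau θ d y (s + t) := by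
  have h0 : ff y (θ *ᵥ y) = 0 := hy
  unfold tau
  rw [mul_assoc, ← mul_assoc (sympTransvGL (θ *ᵥ y) _), ← sympTransvGL_comm h0, mul_assoc,
    sympTransvGL_mul, ← mul_assoc, sympTransvGL_mul]
  congr 2
  ring

theorem tau_zero (θ : Matrix ι ι F) (d : F) (y : ι → F) : tau θ d y 0 = 1 := by
  unfold tau
  rw [zero_div, neg_zero, sympTransvGL_zero, sympTransvGL_zero, one_mul]

theorem UStrSp.tau_inv (hU : UStrSp θ d) {y : ι → F} (hy : Nq θ y = 0) (s : F) :
    (tau θ d y s)⁻¹ = tau θ d y (-s) := by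
  apply inv_eq_of_mul_eq_one_right
  rw [hU.tau_mul hy, add_neg_cancel, tau_zero]

/-- the unitary transvections commute with `θ` -/
theorem UStrSp.tau_comm_theta (hU : UStrSp θ d) {y : ι → F} (hy : Nq θ y = 0) (s : F) :
    ((tau θ d y s : GL ι F) : Matrix ι ι F) * θ = θ * ((tau θ d y s : GL ι F) : Matrix ι ι F) := by
  apply matrix_ext_mulVec
  intro x
  have hd := hU.d_ne
  rw [← mulVec_mulVec, ← mulVec_mulVec, hU.tau_mulVec hy, hU.tau_mulVec hy, mulVec_add, mulVec_add,
    mulVec_smul, mulVec_smul, hU.tt, hU.adj, hU.ff_tt, smul_smul]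
  have e1 : -(s / d) * -(d * ff x y) = s * ff x y := by field_simp
  have e2 : -(s / d) * ff x (θ *ᵥ y) * d = -(s * ff x (θ *ᵥ y)) := by field_simp
  rw [e1, e2]
  module

/-! ### the quadratic form `Nq` and the `UStr` of S5700 -/

/-- the bilinear form `(x, y) ↦ f(x, θ y)` -/
def NB (θ : Matrix ι ι F) : LinearMap.BilinForm F (ι → F) :=
  LinearMap.mk₂ F (fun x y => ff x (θ *ᵥ y))
    (fun x x' y => sympForm_add_left x x' (θ *ᵥ y))
    (fun c x y => by rw [sympForm_smul_left, smul_eq_mul])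
    (fun x y y' => by rw [mulVec_add, sympForm_add_right])
    (fun c x y => by rw [mulVec_smul, sympForm_smul_right, smul_eq_mul])

/-- `Nq θ` as a quadratic form -/
def NQ (θ : Matrix ι ι F) : QuadraticForm F (ι → F) := (NB θ).toQuadraticMap

theorem NQ_apply (θ : Matrix ι ι F) (x : ι → F) : NQ θ x = Nq θ x := rfl

theorem UStrSp.polar_NQ (hU : UStrSp θ d) (x y : ι → F) :
    polar (⇑(NQ θ)) x y = 2 * ff x (θ *ᵥ y) := by
  unfold polar
  rw [NQ_apply, NQ_apply, NQ_apply, hU.Nq_add]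
  ring

/-- `f` in terms of the polar form of `NQ θ` -/
theorem UStrSp.ff_eq_polar (hU : UStrSp θ d) (x y : ι → F) :
    ff x y = (2 * d)⁻¹ * polar (⇑(NQ θ)) x (θ *ᵥ y) := by
  have hd := hU.d_ne
  have h2 := hU.two_ne
  rw [hU.polar_NQ, hU.tt, sympForm_smul_right]
  field_simp

theorem UStrSp.polar_NQ_theta (hU : UStrSp θ d) (x y : ι → F) :
    polar (⇑(NQ θ)) x (θ *ᵥ y) = 2 * d * ff x y := by
  rw [hU.polar_NQ, hU.tt, sympForm_smul_right]
  ring

/-- `(NQ θ, θ)` is a unitary structure in the sense of S5700, with `τ = 0`, `ν = -d` -/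
theorem UStrSp.ustr (hU : UStrSp θ d) : UStr (NQ θ) θ 0 (-d) where
  adj u v := by
    rw [hU.polar_NQ, hU.polar_NQ, hU.tt, hU.ff_tt, sympForm_smul_right]
    ring
  sq := by
    rw [hU.sq, zero_smul, zero_sub, neg_smul, neg_neg]
  sc v := by
    rw [NQ_apply, NQ_apply, hU.Nq_theta]
    ring
  pol v := by
    rw [hU.polar_NQ, hU.tt, sympForm_smul_right, sympForm_self]
    ring
  irr a := by
    intro h0
    apply hU.nsq a
    linear_combination h0

theorem UStrSp.NQ_nondeg (hU : UStrSp θ d) : (polarBilin (NQ θ)).Nondegenerate := by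
  have hd := hU.d_ne
  have h2 := hU.two_ne
  have key : ∀ x : ι → F, (∀ y, polar (⇑(NQ θ)) x y = 0) → x = 0 := by
    intro x hx
    by_contra hne
    obtain ⟨z, hz⟩ := Cfsg.Agent.Lib.Helper2.exists_sympForm_ne_zero hne
    apply hz
    rw [sympForm_swap, hU.ff_eq_polar, hx, mul_zero, neg_zero]
  constructor
  · intro x hx
    exact key x (fun y => by simpa using hx y)
  · intro y hy
    apply key y
    intro x
    rw [polar_comm]
    simpa using hy x

theorem card_iota (m : ℕ) : Fintype.card (Fin m ⊕ Fin m) = 2 * m := by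
  rw [Fintype.card_sum, Fintype.card_fin]
  ring

/-! ### the subalgebra `K = F[θ]` and its normaliser -/

/-- conjugation by an element commuting with `θ` fixes `a + b θ` -/
theorem mem_normalizer_of_comm (K : Subalgebra F (Matrix ι ι F))
    (hKθ : ∀ k : Matrix ι ι F, k ∈ K ↔ ∃ a b : F, k = a • (1 : Matrix ι ι F) + b • θ)
    (g : GL ι F) (hg : (g : Matrix ι ι F) * θ = θ * (g : Matrix ι ι F)) :
    g ∈ Cfsg.Geo.subalgebraNormalizer K := by
  have hfix : ∀ k : Matrix ι ι F, k ∈ K →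
      (g : Matrix ι ι F) * k * ((g⁻¹ : GL ι F) : Matrix ι ι F) = k := by
    intro k hk
    obtain ⟨a, b, rfl⟩ := (hKθ k).mp hk
    have h1 : (g : Matrix ι ι F) * (a • (1 : Matrix ι ι F) + b • θ) =
        (a • (1 : Matrix ι ι F) + b • θ) * (g : Matrix ι ι F) := by
      rw [mul_add, add_mul, mul_smul_comm, mul_smul_comm, smul_mul_assoc, smul_mul_assoc, hg,
        mul_one, one_mul]
    rw [h1, mul_assoc, ← Units.val_mul, mul_inv_cancel, Units.val_one, mul_one]
  intro k
  constructor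
  · intro hk
    rw [hfix k hk]
    exact hk
  · intro hk
    obtain ⟨k', hk'def⟩ : ∃ k', k' = (g : Matrix ι ι F) * k * ((g⁻¹ : GL ι F) : Matrix ι ι F) :=
      ⟨_, rfl⟩
    rw [← hk'def] at hk
    have h2 := hfix k' hk
    have e1 : ((g⁻¹ : GL ι F) : Matrix ι ι F) * (g : Matrix ι ι F) = 1 := by
      rw [← Units.val_mul, inv_mul_cancel, Units.val_one]
    have h4 : (g : Matrix ι ι F) * k' = k' * (g : Matrix ι ι F) := by
      calc (g : Matrix ι ι F) * k'
          = (g : Matrix ι ι F) * k' * (((g⁻¹ : GL ι F) : Matrix ι ι F) * (g : Matrix ι ι F)) := by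
            rw [e1, mul_one]
        _ = ((g : Matrix ι ι F) * k' * ((g⁻¹ : GL ι F) : Matrix ι ι F)) * (g : Matrix ι ι F) := by
            simp only [mul_assoc]
        _ = k' * (g : Matrix ι ι F) := by rw [h2]
    have h5 : k = k' := by
      calc k = ((g⁻¹ : GL ι F) : Matrix ι ι F) * (g : Matrix ι ι F) * k *
            (((g⁻¹ : GL ι F) : Matrix ι ι F) * (g : Matrix ι ι F)) := by
            rw [e1, one_mul, mul_one]
        _ = ((g⁻¹ : GL ι F) : Matrix ι ι F) * (k' * (g : Matrix ι ι F)) := by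
            rw [hk'def]
            simp only [mul_assoc]
        _ = ((g⁻¹ : GL ι F) : Matrix ι ι F) * ((g : Matrix ι ι F) * k') := by rw [h4]
        _ = k' := by rw [← mul_assoc, e1, one_mul]
    rw [h5]
    exact hk

end Cfsg.Agent.Lib.Helper28.USp
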