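import Mathlib
import Cfsg.Prelude.Def_GeometricClasses
import Cfsg.Agent.Lib.Helper16.TensDefs
import Cfsg.Agent.Lib.Helper10.TensFund

/-!
# Vocabulary for S5670: `(GU_a ⊗ GU_b) ∩ SU_{ab}` is maximal in `SU_{ab}(q)` (helper28)

`V = (Fin a × Fin b → F)`, `|F| = q²`, everything with respect to the STANDARD hermitian forms
`hs q x y = ∑ i, x i * y i ^ q` on `Fin a → F`, `Fin b → F`, `Fin a × Fin b → F` (so `hs (pur u w) (pur u' w') = hs u u' * hs w w'`).
From helper16's `TensDefs`: `pur`, `purL`, `purR`, `ctr ψ` (`1 ⊗ ψ : V → U`), `hyp ψ = U ⊗ ker ψ`, `act`, `img`, `rootGL k ψ h`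
(`1 ⊗ (1 + k ψᵀ)`), from helper10's `TensFund`: `pt w = U ⊗ w`.  New here:
* `cj q x`      : the conjugate vector `i ↦ x i ^ q`;   `hs q` : the standard hermitian form;   `UG κ F q` : its isometry group;
* `ctrL φ`      : the contraction `φ ⊗ 1 : V → W`;  `hypL φ = ker φ ⊗ W`;  `ptL u = u ⊗ W`;
* `rootGLL u φ h` : `(1 + u φᵀ) ⊗ 1`;
* `rL q k c hk` : the L-root element `1 ⊗ t_{k,c}`, `t_{k,c} w = w + c • hs w k • k` (`k` isotropic); it is unitary iff `c + c^q = 0`;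
                  `[V, rL] = pt k = U ⊗ k`,  `C_V(rL) = hyp (cj q k) = U ⊗ k^⊥`;
* `rM q u c hu` : the M-root element `t_{u,c} ⊗ 1`;  `[V, rM] = ptL u = u ⊗ W`,  `C_V(rM) = hypL (cj q u) = u^⊥ ⊗ W`;
* `OverU q M`   : `N0 ⊓ UG ⊓ SL ≤ M ≤ UG ⊓ SL`;
* `HypA q M`    : every element of `M` mapping a standard `U ⊗ k` (k isotropic) onto a standard `U ⊗ k'` lies in `N0`;
* `HypE1 q M`   : an `M`-conjugate of an L-root element lying in `N0` is conjugate by an element of `N0` ("unique fixed block").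
-/

set_option autoImplicit false

namespace Cfsg.Agent.Lib.Helper28.TensU

open Matrix Module
open Cfsg.Agent.Lib.Helper16.Tens Cfsg.Agent.Lib.Helper10.TensFund
open scoped Kronecker

variable {F : Type*} [Field F] {a b : ℕ}

/-- the conjugate vector `i ↦ x i ^ q` -/
def cj {κ : Type*} (q : ℕ) (x : κ → F) : κ → F := fun i => x i ^ q

@[simp] theorem cj_apply {κ : Type*} (q : ℕ) (x : κ → F) (i : κ) : cj q x i = x i ^ q := rfl

/-- the standard hermitian form `∑ i, x i * y i ^ q` -/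
def hs {κ : Type*} [Fintype κ] (q : ℕ) (x y : κ → F) : F := ∑ i, x i * y i ^ q

theorem hs_eq_dotProduct {κ : Type*} [Fintype κ] (q : ℕ) (x y : κ → F) : hs q x y = x ⬝ᵥ cj q y := rfl

theorem hs_eq_hermForm (n q : ℕ) (x y : Fin n → F) : hs q x y = Cfsg.hermForm n F q x y := rfl

/-- the isometry group of the standard hermitian form -/
def UG (κ : Type) [Fintype κ] [DecidableEq κ] (F : Type*) [Field F] (q : ℕ) : Subgroup (GL κ F) where
  carrier := {g | ∀ x y, hs q ((g : Matrix κ κ F) *ᵥ x) ((g : Matrix κ κ F) *ᵥ y) = hs q x y}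
  mul_mem' {g h} hg hh := by
    intro x y
    rw [Units.val_mul, ← Matrix.mulVec_mulVec, ← Matrix.mulVec_mulVec, hg, hh]
  one_mem' := by
    intro x y
    simp
  inv_mem' {g} hg := by
    intro x y
    have h := hg (((g⁻¹ : GL κ F) : Matrix κ κ F) *ᵥ x) (((g⁻¹ : GL κ F) : Matrix κ κ F) *ᵥ y)
    rw [Matrix.mulVec_mulVec, Matrix.mulVec_mulVec, ← Units.val_mul, mul_inv_cancel, Units.val_one,
      Matrix.one_mulVec, Matrix.one_mulVec] at h
    exact h.symm

theorem mem_UG_iff {κ : Type} [Fintype κ] [DecidableEq κ] (q : ℕ) (g : GL κ F) :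
    g ∈ UG κ F q ↔ ∀ x y, hs q ((g : Matrix κ κ F) *ᵥ x) ((g : Matrix κ κ F) *ᵥ y) = hs q x y := Iff.rfl

theorem UG_fin_eq_GU (n q : ℕ) : UG (Fin n) F q = Cfsg.GU n F q := by
  ext g
  rfl

/-! ## the left-hand vocabulary -/

/-- the contraction `φ ⊗ 1 : U ⊗ W → W` -/
def ctrL (φ : Fin a → F) : (Fin a × Fin b → F) →ₗ[F] (Fin b → F) where
  toFun v j := ∑ i, v (i, j) * φ i
  map_add' v v' := by
    funext j; simp [add_mul, Finset.sum_add_distrib]
  map_smul' c v := by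
    funext j; simp [Finset.mul_sum, mul_assoc]

theorem ctrL_apply (φ : Fin a → F) (v : Fin a × Fin b → F) (j : Fin b) :
    ctrL φ v j = ∑ i, v (i, j) * φ i := rfl

theorem ctrL_pur (φ : Fin a → F) (u : Fin a → F) (w : Fin b → F) :
    ctrL φ (pur u w) = (u ⬝ᵥ φ) • w := by
  funext j
  simp only [ctrL_apply, pur_apply, Pi.smul_apply, smul_eq_mul, dotProduct, Finset.sum_mul]
  apply Finset.sum_congr rfl
  intro i _
  ring

/-- `ker φ ⊗ W` -/
def hypL (φ : Fin a → F) : Submodule F (Fin a × Fin b → F) := LinearMap.ker (ctrL (b := b) φ)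

theorem mem_hypL_iff (φ : Fin a → F) (v : Fin a × Fin b → F) : v ∈ hypL φ ↔ ctrL φ v = 0 := LinearMap.mem_ker

/-- `u ⊗ W` -/
def ptL (u : Fin a → F) : Submodule F (Fin a × Fin b → F) := LinearMap.range (purR (b := b) u)

theorem mem_ptL_iff (u : Fin a → F) (v : Fin a × Fin b → F) : v ∈ ptL (b := b) u ↔ ∃ w, pur u w = v := by
  unfold ptL
  rw [LinearMap.mem_range]
  rfl

theorem pur_mem_ptL (u : Fin a → F) (w : Fin b → F) : pur u w ∈ ptL (b := b) u :=
  (mem_ptL_iff u _).2 ⟨w, rfl⟩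

/-- the matrix `(1 + u φᵀ) ⊗ₖ 1` -/
def rootML (u φ : Fin a → F) : Matrix (Fin a × Fin b) (Fin a × Fin b) F :=
  ((1 : Matrix (Fin a) (Fin a) F) + vecMulVec u φ) ⊗ₖ (1 : Matrix (Fin b) (Fin b) F)

theorem rootML_apply (u φ : Fin a → F) (p r : Fin a × Fin b) :
    rootML (b := b) u φ p r = if p.2 = r.2 then ((if p.1 = r.1 then 1 else 0) + u p.1 * φ r.1) else 0 := by
  simp only [rootML, Matrix.kroneckerMap_apply, Matrix.one_apply, Matrix.add_apply, vecMulVec_apply]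
  split_ifs <;> simp

theorem rootML_mulVec (u φ : Fin a → F) (v : Fin a × Fin b → F) :
    rootML u φ *ᵥ v = v + pur u (ctrL φ v) := by
  funext ⟨i, j⟩
  simp only [Matrix.mulVec, dotProduct, rootML_apply, Fintype.sum_prod_type, Pi.add_apply, pur_apply, ctrL_apply]
  rw [Finset.sum_comm]
  rw [Finset.sum_eq_single j]
  · simp only [if_true, add_mul, Finset.sum_add_distrib]
    congr 1
    · simp
    · rw [Finset.mul_sum]
      apply Finset.sum_congr rfl
      intro i' _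
      ring
  · intro j' _ hj'
    simp [Ne.symm hj']
  · simp

theorem rootML_mul_rootML (u u' φ : Fin a → F) (h : φ ⬝ᵥ u' = 0) :
    rootML (b := b) u φ * rootML u' φ = rootML (u + u') φ := by
  unfold rootML
  rw [← Matrix.mul_kronecker_mul, one_mul]
  congr 1
  rw [add_mul, mul_add, mul_add, one_mul, mul_one, one_mul, Matrix.vecMulVec_mul_vecMulVec]
  simp only [h, zero_smul]
  rw [Matrix.add_vecMulVec]
  have h0 : vecMulVec u ((0 : F) • φ) = 0 := by
    ext i j; simp [vecMulVec_apply]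
  simp [add_assoc, add_comm]

theorem rootML_zero (φ : Fin a → F) : rootML (b := b) (0 : Fin a → F) φ = 1 := by
  unfold rootML
  have : vecMulVec (0 : Fin a → F) φ = 0 := by ext i j; simp [vecMulVec_apply]
  rw [this, add_zero, Matrix.one_kronecker_one]

/-- the element `(1 + u φᵀ) ⊗ 1`, `φ ⬝ᵥ u = 0`, of `GL` -/
def rootGLL (u φ : Fin a → F) (h : φ ⬝ᵥ u = 0) : GL (Fin a × Fin b) F where
  val := rootML u φ
  inv := rootML (-u) φ
  val_inv := by
    rw [rootML_mul_rootML _ _ _ (by rw [dotProduct_neg, h, neg_zero]), add_neg_cancel, rootML_zero]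
  inv_val := by
    rw [rootML_mul_rootML _ _ _ h, neg_add_cancel, rootML_zero]

@[simp] theorem rootGLL_val (u φ : Fin a → F) (h : φ ⬝ᵥ u = 0) :
    ((rootGLL (b := b) u φ h : GL (Fin a × Fin b) F) : Matrix (Fin a × Fin b) (Fin a × Fin b) F) = rootML u φ := rfl

theorem act_rootGLL (u φ : Fin a → F) (h : φ ⬝ᵥ u = 0) (v : Fin a × Fin b → F) :
    act (rootGLL (b := b) u φ h) v = v + pur u (ctrL φ v) := by
  rw [act_apply, rootGLL_val, rootML_mulVec]

theorem rootGLL_mem_SL (u φ : Fin a → F) (h : φ ⬝ᵥ u = 0) :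
    rootGLL (b := b) u φ h ∈ Cfsg.Geo.specialLinear (Fin a × Fin b) F := by
  rw [mem_SL_iff, rootGLL_val, rootML, Matrix.det_kronecker, Matrix.det_one, one_pow, mul_one,
    det_one_add_vecMulVec u φ h, one_pow]

theorem rootGLL_mem_kron (u φ : Fin a → F) (h : φ ⬝ᵥ u = 0) :
    rootGLL (b := b) u φ h ∈ Cfsg.Geo.kroneckerSubgroup a b F := by
  rw [mem_kron_iff]
  refine ⟨⟨1 + vecMulVec u φ, 1 + vecMulVec (-u) φ, ?_, ?_⟩, 1, by simp [rootML]⟩
  · rw [add_mul, mul_add, mul_add, one_mul, mul_one, one_mul, Matrix.vecMulVec_mul_vecMulVec]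
    have h' : φ ⬝ᵥ (-u) = 0 := by rw [dotProduct_neg, h, neg_zero]
    rw [h']
    ext i j
    simp [vecMulVec_apply]
  · rw [add_mul, mul_add, mul_add, one_mul, mul_one, one_mul, Matrix.vecMulVec_mul_vecMulVec, h]
    ext i j
    simp [vecMulVec_apply]

/-! ## the root elements -/

theorem cj_dot_smul {κ : Type*} [Fintype κ] (q : ℕ) (k : κ → F) (c : F) (hk : hs q k k = 0) :
    cj q k ⬝ᵥ (c • k) = 0 := by
  have : cj q k ⬝ᵥ (c • k) = c * hs q k k := by
    unfold hs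
    simp only [dotProduct, cj_apply, Pi.smul_apply, smul_eq_mul, Finset.mul_sum]
    apply Finset.sum_congr rfl
    intro i _
    ring
  rw [this, hk, mul_zero]

/-- the L-root element `1 ⊗ t_{k,c}`, `t_{k,c} w = w + c • hs w k • k`, for an isotropic `k` -/
def rL (q : ℕ) (k : Fin b → F) (c : F) (hk : hs q k k = 0) : GL (Fin a × Fin b) F :=
  rootGL (c • k) (cj q k) (cj_dot_smul q k c hk)

/-- the M-root element `t_{u,c} ⊗ 1` for an isotropic `u` -/
def rM (q : ℕ) (u : Fin a → F) (c : F) (hu : hs q u u = 0) : GL (Fin a × Fin b) F :=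
  rootGLL (c • u) (cj q u) (cj_dot_smul q u c hu)

theorem act_rL (q : ℕ) (k : Fin b → F) (c : F) (hk : hs q k k = 0) (v : Fin a × Fin b → F) :
    act (rL (a := a) q k c hk) v = v + c • pur (ctr (cj q k) v) k := by
  unfold rL
  rw [act_rootGL, pur_smul_right]

theorem act_rM (q : ℕ) (u : Fin a → F) (c : F) (hu : hs q u u = 0) (v : Fin a × Fin b → F) :
    act (rM (b := b) q u c hu) v = v + c • pur u (ctrL (cj q u) v) := by
  unfold rM
  rw [act_rootGLL, pur_smul_left]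

theorem rL_mem_kron (q : ℕ) (k : Fin b → F) (c : F) (hk : hs q k k = 0) :
    rL (a := a) q k c hk ∈ Cfsg.Geo.kroneckerSubgroup a b F := rootGL_mem_kron _ _ _

theorem rL_mem_SL (q : ℕ) (k : Fin b → F) (c : F) (hk : hs q k k = 0) :
    rL (a := a) q k c hk ∈ Cfsg.Geo.specialLinear (Fin a × Fin b) F := rootGL_mem_SL _ _ _

theorem rM_mem_kron (q : ℕ) (u : Fin a → F) (c : F) (hu : hs q u u = 0) :
    rM (b := b) q u c hu ∈ Cfsg.Geo.kroneckerSubgroup a b F := rootGLL_mem_kron _ _ _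

theorem rM_mem_SL (q : ℕ) (u : Fin a → F) (c : F) (hu : hs q u u = 0) :
    rM (b := b) q u c hu ∈ Cfsg.Geo.specialLinear (Fin a × Fin b) F := rootGLL_mem_SL _ _ _

/-! ## the hypotheses -/

/-- `N0 ⊓ UG ⊓ SL ≤ M ≤ UG ⊓ SL` -/
structure OverU (q : ℕ) (M : Subgroup (GL (Fin a × Fin b) F)) : Prop where
  le_UG : M ≤ UG (Fin a × Fin b) F q
  le_SL : M ≤ Cfsg.Geo.specialLinear (Fin a × Fin b) F
  kron_mem : ∀ g : GL (Fin a × Fin b) F, g ∈ Cfsg.Geo.kroneckerSubgroup a b F →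
    g ∈ UG (Fin a × Fin b) F q → g ∈ Cfsg.Geo.specialLinear (Fin a × Fin b) F → g ∈ M

/-- every element of `M` mapping a standard `U ⊗ k` onto a standard `U ⊗ k'` (`k`, `k'` isotropic) lies in `N0` -/
def HypA (q : ℕ) (M : Subgroup (GL (Fin a × Fin b) F)) : Prop :=
  ∀ m ∈ M, ∀ k k' : Fin b → F, k ≠ 0 → hs q k k = 0 → k' ≠ 0 → hs q k' k' = 0 →
    img m (pt (a := a) k) = pt k' → m ∈ Cfsg.Geo.kroneckerSubgroup a b F

/-- an `M`-conjugate of an L-root element lies in `N0` only if the conjugating element does -/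
def HypE1 (q : ℕ) (M : Subgroup (GL (Fin a × Fin b) F)) : Prop :=
  ∀ g ∈ M, ∀ (k : Fin b → F) (c : F) (hk : hs q k k = 0), k ≠ 0 → c ≠ 0 → c + c ^ q = 0 →
    g * rL q k c hk * g⁻¹ ∈ Cfsg.Geo.kroneckerSubgroup a b F → g ∈ Cfsg.Geo.kroneckerSubgroup a b F

/-- the same for the M-root elements -/
def HypE1M (q : ℕ) (M : Subgroup (GL (Fin a × Fin b) F)) : Prop :=
  ∀ g ∈ M, ∀ (u : Fin a → F) (c : F) (hu : hs q u u = 0), u ≠ 0 → c ≠ 0 → c + c ^ q = 0 →
    g * rM q u c hu * g⁻¹ ∈ Cfsg.Geo.kroneckerSubgroup a b F → g ∈ Cfsg.Geo.kroneckerSubgroup a b F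

end Cfsg.Agent.Lib.Helper28.TensU
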