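import Mathlib
import Cfsg.Prelude.Def_GeometricClasses

/-!
# The group `4 ∘ 2^{1+4}` of order `16 (q - 1)` inside `GL_4(F)` (Heisenberg form), for S5781

Index set `Fin 4 = F_2^2` with `xr` (xor); `sg j a = (-1)^{<j,a>}`; `hm c j k = c • Z_j X_k` where `Z_j = diag (sg j)`
and `X_k` is the permutation matrix of `a ↦ xr a k`. Multiplication law `hm_mul`.
`R64 F = { hg c j k }` is a subgroup of `GL (Fin 4) F`; for `|F| = 5` it is `4 ∘ 2^{1+4}` of order 64.
-/

set_option autoImplicit false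

namespace Cfsg.Agent.Lib.Helper28.Hes64

open Cfsg Cfsg.Geo
open scoped MatrixGroups Matrix

/-- xor on `Fin 4` -/
def xr (a b : Fin 4) : Fin 4 := ![![0, 1, 2, 3], ![1, 0, 3, 2], ![2, 3, 0, 1], ![3, 2, 1, 0]] a b

/-- the sign `(-1)^{<j,a>}` of the standard pairing on `F_2^2` -/
def sg (j a : Fin 4) : ℤ := ![![1, 1, 1, 1], ![1, -1, 1, -1], ![1, 1, -1, -1], ![1, -1, -1, 1]] j a

theorem xr_comm (a b : Fin 4) : xr a b = xr b a := by revert a b; decide
theorem xr_assoc (a b c : Fin 4) : xr (xr a b) c = xr a (xr b c) := by revert a b c; decide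
theorem xr_self (a : Fin 4) : xr a a = 0 := by revert a; decide
theorem xr_zero (a : Fin 4) : xr a 0 = a := by revert a; decide
theorem zero_xr (a : Fin 4) : xr 0 a = a := by revert a; decide
theorem xr_xr_cancel (a k : Fin 4) : xr (xr a k) k = a := by revert a k; decide
theorem xr_eq_iff (a b k : Fin 4) : a = xr b k ↔ b = xr a k := by revert a b k; decide
theorem xr_eq_zero_iff (a b : Fin 4) : xr a b = 0 ↔ a = b := by revert a b; decide
theorem xr_right_injective (k : Fin 4) : Function.Injective (fun a => xr a k) := by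
  intro a b h
  have := congrArg (fun x => xr x k) h
  simpa [xr_xr_cancel] using this

/-- `a ↦ xr a k` as a permutation -/
def tau (k : Fin 4) : Equiv.Perm (Fin 4) where
  toFun a := xr a k
  invFun a := xr a k
  left_inv a := xr_xr_cancel a k
  right_inv a := xr_xr_cancel a k

@[simp] theorem tau_apply (k a : Fin 4) : tau k a = xr a k := rfl

theorem sg_mul_left (j j' a : Fin 4) : sg j a * sg j' a = sg (xr j j') a := by revert j j' a; decide
theorem sg_mul_right (j a b : Fin 4) : sg j a * sg j b = sg j (xr a b) := by revert j a b; decide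
theorem sg_symm (j a : Fin 4) : sg j a = sg a j := by revert j a; decide
theorem sg_sq (j a : Fin 4) : sg j a * sg j a = 1 := by revert j a; decide
theorem sg_zero_left (a : Fin 4) : sg 0 a = 1 := by revert a; decide
theorem sg_zero_right (j : Fin 4) : sg j 0 = 1 := by revert j; decide
theorem sg_eq_one_or (j a : Fin 4) : sg j a = 1 ∨ sg j a = -1 := by revert j a; decide
theorem sum_sg (a b : Fin 4) : ∑ j : Fin 4, sg j a * sg j b = if a = b then 4 else 0 := by
  revert a b; decide
theorem exists_sg_neg (a : Fin 4) (ha : a ≠ 0) : ∃ j, sg j a = -1 := by revert a; decide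
theorem exists_sg_ne (a b : Fin 4) (hab : a ≠ b) : ∃ j, sg j a = - sg j b := by revert a b; decide
/-- the normal Klein four-group: conjugates of translations are translations -/
theorem perm_conj_tau (π : Equiv.Perm (Fin 4)) (k : Fin 4) : ∃ k', ∀ a, π (xr a k) = xr (π a) k' := by
  revert π k; decide

variable {F : Type*} [Field F]

/-- `sg` in the field -/
def sgF (F : Type*) [Field F] (j a : Fin 4) : F := ((sg j a : ℤ) : F)

theorem sgF_mul_left (j j' a : Fin 4) : sgF F j a * sgF F j' a = sgF F (xr j j') a := by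
  unfold sgF; rw [← sg_mul_left]; push_cast; ring
theorem sgF_mul_right (j a b : Fin 4) : sgF F j a * sgF F j b = sgF F j (xr a b) := by
  unfold sgF; rw [← sg_mul_right]; push_cast; ring
theorem sgF_symm (j a : Fin 4) : sgF F j a = sgF F a j := by unfold sgF; rw [sg_symm]
theorem sgF_sq (j a : Fin 4) : sgF F j a * sgF F j a = 1 := by
  unfold sgF; rw [← Int.cast_mul, sg_sq, Int.cast_one]
theorem sgF_zero_left (a : Fin 4) : sgF F 0 a = 1 := by unfold sgF; rw [sg_zero_left, Int.cast_one]
theorem sgF_zero_right (j : Fin 4) : sgF F j 0 = 1 := by unfold sgF; rw [sg_zero_right, Int.cast_one]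
theorem sgF_eq_one_or (j a : Fin 4) : sgF F j a = 1 ∨ sgF F j a = -1 := by
  unfold sgF
  rcases sg_eq_one_or j a with h | h <;> rw [h]
  · left; simp
  · right; simp
theorem sgF_ne_zero (j a : Fin 4) : sgF F j a ≠ 0 := by
  intro h
  have := sgF_sq (F := F) j a
  rw [h, mul_zero] at this
  exact zero_ne_one this
theorem sum_sgF (a b : Fin 4) : ∑ j : Fin 4, sgF F j a * sgF F j b = if a = b then 4 else 0 := by
  have h := congrArg (fun z : ℤ => (z : F)) (sum_sg a b)
  simp only [Int.cast_sum, Int.cast_mul] at h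
  unfold sgF
  rw [h]
  split_ifs <;> simp

/-- the sign as a unit -/
def su (F : Type*) [Field F] (j a : Fin 4) : Fˣ := if sg j a = 1 then 1 else -1

theorem su_val (j a : Fin 4) : ((su F j a : Fˣ) : F) = sgF F j a := by
  unfold su sgF
  rcases sg_eq_one_or j a with h | h <;> rw [h] <;> simp

/-- `c • Z_j X_k` -/
def hm (c : F) (j k : Fin 4) : Matrix (Fin 4) (Fin 4) F :=
  Matrix.of fun a a' => if a = xr a' k then c * sgF F j a else 0

theorem hm_apply (c : F) (j k a a' : Fin 4) :
    hm c j k a a' = if a = xr a' k then c * sgF F j a else 0 := rfl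

/-- the multiplication law of the Heisenberg group -/
theorem hm_mul (c c' : F) (j j' k k' : Fin 4) :
    hm c j k * hm c' j' k' = hm (c * c' * sgF F j' k) (xr j j') (xr k k') := by
  ext a a''
  rw [Matrix.mul_apply, Finset.sum_eq_single (xr a'' k')]
  · rw [hm_apply, hm_apply, hm_apply, if_pos rfl]
    have e1 : xr (xr a'' k') k = xr a'' (xr k k') := by rw [xr_assoc, xr_comm k' k]
    rw [e1]
    by_cases h : a = xr a'' (xr k k')
    · rw [if_pos h, if_pos h]
      have e2 : xr a'' k' = xr a k := by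
        rw [h, xr_assoc, xr_comm k k', xr_assoc, xr_self, xr_zero]
      rw [e2, ← sgF_mul_right, ← sgF_mul_left]
      ring
    · rw [if_neg h, if_neg h, zero_mul]
  · intro b _ hb
    rw [hm_apply, hm_apply, if_neg hb, mul_zero]
  · intro h; exact absurd (Finset.mem_univ _) h

theorem hm_one : hm (1 : F) 0 0 = 1 := by
  ext a a'
  rw [hm_apply, xr_zero, sgF_zero_left, mul_one, Matrix.one_apply]

theorem hm_scalar (c : F) : hm c 0 0 = c • (1 : Matrix (Fin 4) (Fin 4) F) := by
  ext a a'
  rw [hm_apply, xr_zero, sgF_zero_left, mul_one, Matrix.smul_apply, Matrix.one_apply, smul_eq_mul]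
  split_ifs <;> simp

theorem hm_mul_inv (c : F) (hc : c ≠ 0) (j k : Fin 4) :
    hm c j k * hm (c⁻¹ * sgF F j k) j k = 1 := by
  rw [hm_mul, xr_self, xr_self, ← hm_one]
  congr 1
  rw [mul_assoc, mul_assoc, sgF_sq, mul_one, mul_inv_cancel₀ hc]

theorem hm_inv_mul (c : F) (hc : c ≠ 0) (j k : Fin 4) :
    hm (c⁻¹ * sgF F j k) j k * hm c j k = 1 := by
  rw [hm_mul, xr_self, xr_self, ← hm_one]
  congr 1
  have : c⁻¹ * sgF F j k * c * sgF F j k = (c⁻¹ * c) * (sgF F j k * sgF F j k) := by ring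
  rw [this, sgF_sq, mul_one, inv_mul_cancel₀ hc]

/-- the element `c • Z_j X_k` of `GL_4(F)` -/
def hg (c : Fˣ) (j k : Fin 4) : GL (Fin 4) F :=
  ⟨hm (c : F) j k, hm ((c : F)⁻¹ * sgF F j k) j k, hm_mul_inv _ c.ne_zero j k, hm_inv_mul _ c.ne_zero j k⟩

@[simp] theorem hg_val (c : Fˣ) (j k : Fin 4) : ((hg c j k : GL (Fin 4) F) : Matrix (Fin 4) (Fin 4) F) = hm (c : F) j k := rfl

theorem hg_mul (c c' : Fˣ) (j j' k k' : Fin 4) :
    hg c j k * hg c' j' k' = hg (c * c' * su F j' k) (xr j j') (xr k k') := by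
  apply Units.ext
  rw [Units.val_mul, hg_val, hg_val, hg_val, hm_mul, Units.val_mul, Units.val_mul, su_val]

theorem hg_one : hg (1 : Fˣ) 0 0 = 1 := by
  apply Units.ext
  rw [hg_val, Units.val_one, Units.val_one, hm_one]

theorem hg_inv (c : Fˣ) (j k : Fin 4) : (hg c j k)⁻¹ = hg (c⁻¹ * su F j k) j k := by
  rw [inv_eq_iff_mul_eq_one, hg_mul, xr_self, xr_self, ← hg_one]
  congr 1
  apply Units.ext
  simp only [Units.val_mul, su_val, Units.val_one, Units.val_inv_eq_inv_val]
  have : (c : F) * ((c : F)⁻¹ * sgF F j k) * sgF F j k = ((c : F) * (c : F)⁻¹) * (sgF F j k * sgF F j k) := by ring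
  rw [this, sgF_sq, mul_one, mul_inv_cancel₀ c.ne_zero]

/-- the group `{ c • Z_j X_k }` of order `16 (q - 1)` -/
def R64 (F : Type*) [Field F] : Subgroup (GL (Fin 4) F) where
  carrier := {g | ∃ (c : Fˣ) (j k : Fin 4), g = hg c j k}
  mul_mem' := by
    rintro _ _ ⟨c, j, k, rfl⟩ ⟨c', j', k', rfl⟩
    exact ⟨_, _, _, hg_mul c c' j j' k k'⟩
  one_mem' := ⟨1, 0, 0, hg_one.symm⟩
  inv_mem' := by
    rintro _ ⟨c, j, k, rfl⟩
    exact ⟨_, _, _, hg_inv c j k⟩

theorem mem_R64 (g : GL (Fin 4) F) : g ∈ R64 F ↔ ∃ (c : Fˣ) (j k : Fin 4), g = hg c j k := Iff.rfl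

theorem hg_mem (c : Fˣ) (j k : Fin 4) : hg c j k ∈ R64 F := ⟨c, j, k, rfl⟩

/-- a monomial matrix with permutation `π` and entries `d` -/
def mono (π : Equiv.Perm (Fin 4)) (d : Fin 4 → F) : Matrix (Fin 4) (Fin 4) F :=
  Matrix.of fun a a' => if a = π a' then d a' else 0

theorem mono_apply (π : Equiv.Perm (Fin 4)) (d : Fin 4 → F) (a a' : Fin 4) :
    mono π d a a' = if a = π a' then d a' else 0 := rfl

theorem mono_mul (π σ : Equiv.Perm (Fin 4)) (n d : Fin 4 → F) :
    mono π n * mono σ d = mono (π * σ) (fun a' => n (σ a') * d a') := by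
  ext a a''
  rw [Matrix.mul_apply, Finset.sum_eq_single (σ a'')]
  · rw [mono_apply, mono_apply, mono_apply, if_pos rfl, Equiv.Perm.mul_apply]
    split_ifs <;> simp
  · intro b _ hb
    rw [mono_apply, mono_apply, if_neg hb, mul_zero]
  · intro h; exact absurd (Finset.mem_univ _) h

theorem hm_eq_mono (c : F) (j k : Fin 4) : hm c j k = mono (tau k) (fun a' => c * sgF F j (xr a' k)) := by
  ext a a'
  rw [hm_apply, mono_apply, tau_apply]
  split_ifs with h
  · rw [h]
  · rfl

end Cfsg.Agent.Lib.Helper28.Hes64
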