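import Cfsg.Agent.Lib.Helper28.BSGSCore

/-!
# Verified Schreier–Sims for permutation groups on `Fin n`

Permutations are given by tables packed into natural numbers (`w` bits per entry), together with
the table of the inverse.  `checkChain` is a Boolean certificate checker (meant for
`decide +kernel`); `perm_main` derives the order of the generated group and soundness of sifting.
-/

set_option autoImplicit false

namespace Cfsg.Agent.Lib.Helper28.BSGS

open MulAction

/-- table lookup: `w` bits per entry -/
def look (w t a : ℕ) : ℕ := (t >>> (w * a)) % 2 ^ w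

/-- image of a point under a word of tables (the last table acts first) -/
def evalW (w : ℕ) (ws : List ℕ) (a : ℕ) : ℕ := ws.foldr (fun t acc => look w t acc) a

theorem evalW_cons (w t : ℕ) (ws : List ℕ) (a : ℕ) :
    evalW w (t :: ws) a = look w t (evalW w ws a) := rfl

/-- the two tables are mutually inverse bijections of `{0, …, n-1}` -/
def pairOK (n w tu tv : ℕ) : Bool :=
  (List.range n).all fun a =>
    decide (look w tu a < n) && (look w tv (look w tu a) == a) &&
    decide (look w tv a < n) && (look w tu (look w tv a) == a)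

theorem pairOK_spec {n w tu tv : ℕ} (h : pairOK n w tu tv = true) {a : ℕ} (ha : a < n) :
    look w tu a < n ∧ look w tv (look w tu a) = a ∧ look w tv a < n ∧
      look w tu (look w tv a) = a := by
  unfold pairOK at h
  rw [List.all_eq_true] at h
  have := h a (List.mem_range.mpr ha)
  simp only [Bool.and_eq_true, decide_eq_true_eq, beq_iff_eq] at this
  obtain ⟨⟨⟨h1, h2⟩, h3⟩, h4⟩ := this
  exact ⟨h1, h2, h3, h4⟩

/-- the permutation of a pair of tables -/
def permOf (n w tu tv : ℕ) : Equiv.Perm (Fin n) :=
  if h : pairOK n w tu tv = true then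
    { toFun := fun a => ⟨look w tu a.val, (pairOK_spec h a.isLt).1⟩
      invFun := fun a => ⟨look w tv a.val, (pairOK_spec h a.isLt).2.2.1⟩
      left_inv := fun a => Fin.ext (pairOK_spec h a.isLt).2.1
      right_inv := fun a => Fin.ext (pairOK_spec h a.isLt).2.2.2 }
  else 1

theorem permOf_apply {n w tu tv : ℕ} (h : pairOK n w tu tv = true) (a : Fin n) :
    (permOf n w tu tv a).val = look w tu a.val := by
  unfold permOf; rw [dif_pos h]; rfl

theorem permOf_inv_apply {n w tu tv : ℕ} (h : pairOK n w tu tv = true) (a : Fin n) :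
    ((permOf n w tu tv)⁻¹ a).val = look w tv a.val := by
  unfold permOf; rw [dif_pos h]; rfl

/-- `g` acts through the word `ws` -/
def ActsByW (n w : ℕ) (g : Equiv.Perm (Fin n)) (ws : List ℕ) : Prop :=
  ∀ a : Fin n, (g a).val = evalW w ws a.val

theorem actsByW_one (n w : ℕ) : ActsByW n w 1 [] := fun _ => rfl

theorem actsByW_cons {n w : ℕ} {g h : Equiv.Perm (Fin n)} {t : ℕ} {ws : List ℕ}
    (hg : ∀ a : Fin n, (g a).val = look w t a.val) (hh : ActsByW n w h ws) :
    ActsByW n w (g * h) (t :: ws) := by
  intro a
  show (g (h a)).val = look w t (evalW w ws a.val)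
  rw [hg, hh]

theorem actsByW_single {n w : ℕ} {g : Equiv.Perm (Fin n)} {t : ℕ}
    (hg : ∀ a : Fin n, (g a).val = look w t a.val) : ActsByW n w g [t] := by
  have := actsByW_cons hg (actsByW_one n w)
  rwa [mul_one] at this

/-- transversal entries: point, table, inverse table -/
abbrev Entry := ℕ × ℕ × ℕ

/-- a level: base point and transversal -/
abbrev CLevel := ℕ × List Entry

/-- first entry for the point `y` -/
def findE : List Entry → ℕ → Option Entry
  | [], _ => none
  | e :: es, y => if e.1 == y then some e else findE es y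

theorem findE_some {tr : List Entry} {y : ℕ} {e : Entry} (h : findE tr y = some e) :
    e ∈ tr ∧ e.1 = y := by
  induction tr with
  | nil => simp [findE] at h
  | cons e' es ih =>
    unfold findE at h
    by_cases hc : (e'.1 == y) = true
    · rw [if_pos hc] at h
      have : e' = e := Option.some.inj h
      subst this
      exact ⟨List.mem_cons_self, beq_iff_eq.mp hc⟩
    · rw [if_neg hc] at h
      obtain ⟨h1, h2⟩ := ih h
      exact ⟨List.mem_cons_of_mem _ h1, h2⟩

theorem findE_of_mem {tr : List Entry} {e : Entry} (h : e ∈ tr) :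
    ∃ e', findE tr e.1 = some e' := by
  induction tr with
  | nil => simp at h
  | cons e' es ih =>
    unfold findE
    by_cases hc : (e'.1 == e.1) = true
    · rw [if_pos hc]; exact ⟨e', rfl⟩
    · rw [if_neg hc]
      rcases List.mem_cons.mp h with rfl | h'
      · exact absurd (beq_self_eq_true _) hc
      · exact ih h'

/-- Boolean sifting of a word through the chain -/
def siftB (n w : ℕ) : List CLevel → List ℕ → Bool
  | [], ws => (List.range n).all fun a => evalW w ws a == a
  | lv :: rest, ws =>
      match findE lv.2 (evalW w ws lv.1) with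
      | none => false
      | some e => siftB n w rest (e.2.2 :: ws)

/-- transversal element of a point -/
def semU (n w : ℕ) (tr : List Entry) (x : Fin n) : Equiv.Perm (Fin n) :=
  match findE tr x.val with
  | none => 1
  | some e => permOf n w e.2.1 e.2.2

/-- the permutations of a list of table pairs -/
def semGens (n w : ℕ) (gens : List (ℕ × ℕ)) : List (Equiv.Perm (Fin n)) :=
  gens.map fun g => permOf n w g.1 g.2

/-- the generators fixing the point `b` -/
def nextGens (w : ℕ) (gens : List (ℕ × ℕ)) (b : ℕ) : List (ℕ × ℕ) :=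
  gens.filter fun g => look w g.1 b == b

section Sem

variable (n w : ℕ) [NeZero n]

/-- the point with a given number -/
def pt (a : ℕ) : Fin n := Fin.ofNat n a

theorem pt_val {a : ℕ} (ha : a < n) : (pt n a).val = a := by
  unfold pt
  simp [Fin.ofNat, Nat.mod_eq_of_lt ha]

theorem pt_of_val (x : Fin n) : pt n x.val = x := Fin.ext (pt_val n x.isLt)

/-- the semantic level of a code level -/
def semLevel (gens' : List (ℕ × ℕ)) (lv : CLevel) : SLevel (Equiv.Perm (Fin n)) (Fin n) where
  b := pt n lv.1
  O := lv.2.map fun e => pt n e.1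
  u := semU n w lv.2
  S' := semGens n w gens'

/-- the semantic chain -/
def semLevels : List (ℕ × ℕ) → List CLevel → List (SLevel (Equiv.Perm (Fin n)) (Fin n))
  | _, [] => []
  | gens, lv :: rest =>
      semLevel n w (nextGens w gens lv.1) lv :: semLevels (nextGens w gens lv.1) rest

/-- the identity table -/
def idOK (t : ℕ) : Bool := (List.range n).all fun a => look w t a == a

/-- a transversal entry is valid and maps the base point to its point -/
def entryOK (b : ℕ) (e : Entry) : Bool :=
  decide (e.1 < n) && pairOK n w e.2.1 e.2.2 && (look w e.2.1 b == e.1)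

/-- the first entry is the base point with the identity -/
def headOK (b : ℕ) (tr : List Entry) : Bool :=
  match tr with
  | [] => false
  | e :: _ => (e.1 == b) && idOK n w e.2.1

/-- no repetitions -/
def nodupB : List ℕ → Bool
  | [] => true
  | x :: xs => !(xs.contains x) && nodupB xs

theorem nodupB_sound : ∀ l : List ℕ, nodupB l = true → l.Nodup := by
  intro l
  induction l with
  | nil => intro _; exact List.nodup_nil
  | cons x xs ih =>
    intro h
    unfold nodupB at h
    rw [Bool.and_eq_true] at h
    obtain ⟨h1, h2⟩ := h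
    rw [List.nodup_cons]
    refine ⟨?_, ih h2⟩
    intro hx
    have : xs.contains x = true := List.contains_iff_mem.mpr hx
    rw [this] at h1
    simp at h1

/-- breadth-first reachability certificate -/
def orbitOK (gens : List (ℕ × ℕ)) : List ℕ → List ℕ → Bool
  | _, [] => true
  | seen, x :: xs =>
      (gens.any fun g => seen.any fun p => look w g.1 p == x) && orbitOK gens (x :: seen) xs

/-- all conditions at one level -/
def levelOK (gens : List (ℕ × ℕ)) (lv : CLevel) (rest : List CLevel) : Bool :=
  decide (lv.1 < n) && headOK n w lv.1 lv.2 && lv.2.all (entryOK n w lv.1) &&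
  nodupB (lv.2.map fun e => e.1) &&
  orbitOK w gens [lv.1] ((lv.2.map fun e => e.1).tail) &&
  gens.all (fun g => lv.2.all fun e => siftB n w (lv :: rest) [g.1, e.2.1])

/-- the certificate checker -/
def checkChain : List (ℕ × ℕ) → List CLevel → Bool
  | gens, [] => gens.isEmpty
  | gens, lv :: rest => levelOK n w gens lv rest && checkChain (nextGens w gens lv.1) rest

/-- product of the orbit lengths -/
def codeSize : List CLevel → ℕ
  | [] => 1
  | lv :: rest => lv.2.length * codeSize rest

/-- well-formed levels -/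
def LevelsWF (levels : List CLevel) : Prop :=
  ∀ lv ∈ levels, lv.1 < n ∧ ∀ e ∈ lv.2, e.1 < n ∧ pairOK n w e.2.1 e.2.2 = true

theorem levelOK_spec {gens : List (ℕ × ℕ)} {lv : CLevel} {rest : List CLevel}
    (h : levelOK n w gens lv rest = true) :
    lv.1 < n ∧ headOK n w lv.1 lv.2 = true ∧ (∀ e ∈ lv.2, entryOK n w lv.1 e = true) ∧
    nodupB (lv.2.map fun e => e.1) = true ∧
    orbitOK w gens [lv.1] ((lv.2.map fun e => e.1).tail) = true ∧
    (∀ g ∈ gens, ∀ e ∈ lv.2, siftB n w (lv :: rest) [g.1, e.2.1] = true) := by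
  unfold levelOK at h
  simp only [Bool.and_eq_true, decide_eq_true_eq, List.all_eq_true] at h
  obtain ⟨⟨⟨⟨⟨h1, h2⟩, h3⟩, h4⟩, h5⟩, h6⟩ := h
  exact ⟨h1, h2, h3, h4, h5, h6⟩

theorem entryOK_spec {b : ℕ} {e : Entry} (h : entryOK n w b e = true) :
    e.1 < n ∧ pairOK n w e.2.1 e.2.2 = true ∧ look w e.2.1 b = e.1 := by
  unfold entryOK at h
  simp only [Bool.and_eq_true, decide_eq_true_eq, beq_iff_eq] at h
  obtain ⟨⟨h1, h2⟩, h3⟩ := h
  exact ⟨h1, h2, h3⟩

theorem checkChain_wf : ∀ (levels : List CLevel) (gens : List (ℕ × ℕ)),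
    checkChain n w gens levels = true → LevelsWF n w levels := by
  intro levels
  induction levels with
  | nil => intro gens _ lv hlv; simp at hlv
  | cons lv rest ih =>
    intro gens h lv' hlv'
    unfold checkChain at h
    rw [Bool.and_eq_true] at h
    obtain ⟨h1, h2⟩ := h
    rcases List.mem_cons.mp hlv' with rfl | hmem
    · obtain ⟨k1, _, k3, _⟩ := levelOK_spec n w h1
      refine ⟨k1, fun e he => ?_⟩
      obtain ⟨e1, e2, _⟩ := entryOK_spec n w (k3 e he)
      exact ⟨e1, e2⟩
    · exact ih _ h2 lv' hmem

theorem siftB_sound : ∀ (levels : List CLevel) (gens : List (ℕ × ℕ)) (ws : List ℕ)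
    (h : Equiv.Perm (Fin n)), LevelsWF n w levels → siftB n w levels ws = true →
    ActsByW n w h ws → Sifts (semLevels n w gens levels) h := by
  intro levels
  induction levels with
  | nil =>
    intro gens ws h _ hs hact
    show h = 1
    unfold siftB at hs
    rw [List.all_eq_true] at hs
    apply Equiv.ext
    intro a
    apply Fin.ext
    rw [hact a]
    exact beq_iff_eq.mp (hs a.val (List.mem_range.mpr a.isLt))
  | cons lv rest ih =>
    intro gens ws h hwf hs hact
    have hlv := hwf lv List.mem_cons_self
    have hwf' : LevelsWF n w rest := fun lv' hlv' => hwf lv' (List.mem_cons_of_mem _ hlv')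
    unfold siftB at hs
    have hb : (h (pt n lv.1)).val = evalW w ws lv.1 := by
      rw [hact, pt_val n hlv.1]
    cases hf : findE lv.2 (evalW w ws lv.1) with
    | none => rw [hf] at hs; simp at hs
    | some e =>
      rw [hf] at hs
      obtain ⟨he, hey⟩ := findE_some hf
      obtain ⟨he1, he2⟩ := hlv.2 e he
      have hpt : h (pt n lv.1) = pt n e.1 := by
        apply Fin.ext
        rw [hb, pt_val n he1, hey]
      show h • (pt n lv.1) ∈ (lv.2.map fun e => pt n e.1) ∧
        Sifts (semLevels n w (nextGens w gens lv.1) rest)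
          ((semU n w lv.2 (h • (pt n lv.1)))⁻¹ * h)
      rw [Equiv.Perm.smul_def, hpt]
      refine ⟨List.mem_map.mpr ⟨e, he, rfl⟩, ?_⟩
      have hu : semU n w lv.2 (pt n e.1) = permOf n w e.2.1 e.2.2 := by
        unfold semU
        rw [pt_val n he1, hey, hf]
      rw [hu]
      apply ih _ _ _ hwf' hs
      exact actsByW_cons (permOf_inv_apply he2) hact

theorem mem_semGens {gens : List (ℕ × ℕ)} {g : ℕ × ℕ} (hg : g ∈ gens) :
    permOf n w g.1 g.2 ∈ semGens n w gens :=
  List.mem_map.mpr ⟨g, hg, rfl⟩

theorem permOf_pt {tu tv : ℕ} (h : pairOK n w tu tv = true) {a : ℕ} (ha : a < n) :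
    permOf n w tu tv (pt n a) = pt n (look w tu a) := by
  apply Fin.ext
  rw [permOf_apply h, pt_val n ha, pt_val n (pairOK_spec h ha).1]

theorem orbitOK_sound (gens : List (ℕ × ℕ)) (hg : ∀ g ∈ gens, pairOK n w g.1 g.2 = true)
    (b : ℕ) : ∀ (todo seen : List ℕ), orbitOK w gens seen todo = true →
    (∀ p ∈ seen, p < n ∧ ∃ g ∈ Subgroup.closure {s | s ∈ semGens n w gens},
      g (pt n b) = pt n p) →
    ∀ x ∈ todo, x < n ∧ ∃ g ∈ Subgroup.closure {s | s ∈ semGens n w gens},
      g (pt n b) = pt n x := by
  intro todo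
  induction todo with
  | nil => intro seen _ _ x hx; simp at hx
  | cons y ys ih =>
    intro seen h hseen
    unfold orbitOK at h
    rw [Bool.and_eq_true] at h
    obtain ⟨h1, h2⟩ := h
    rw [List.any_eq_true] at h1
    obtain ⟨g, hgm, h3⟩ := h1
    rw [List.any_eq_true] at h3
    obtain ⟨p, hp, h4⟩ := h3
    have h4' : look w g.1 p = y := beq_iff_eq.mp h4
    obtain ⟨hpn, g0, hg0, hg0b⟩ := hseen p hp
    have hy : y < n ∧ ∃ g ∈ Subgroup.closure {s | s ∈ semGens n w gens},
        g (pt n b) = pt n y := by
      refine ⟨?_, permOf n w g.1 g.2 * g0, ?_, ?_⟩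
      · rw [← h4']; exact (pairOK_spec (hg g hgm) hpn).1
      · exact Subgroup.mul_mem _ (Subgroup.subset_closure (mem_semGens n w hgm)) hg0
      · rw [Equiv.Perm.mul_apply, hg0b, permOf_pt n w (hg g hgm) hpn, h4']
    intro x hx
    rcases List.mem_cons.mp hx with hxy | hx'
    · rw [hxy]; exact hy
    · apply ih (y :: seen) h2 _ x hx'
      intro q hq
      rcases List.mem_cons.mp hq with hqy | hq'
      · rw [hqy]; exact hy
      · exact hseen q hq'

theorem checkChain_sound : ∀ (levels : List CLevel) (gens : List (ℕ × ℕ)),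
    (∀ g ∈ gens, pairOK n w g.1 g.2 = true) → checkChain n w gens levels = true →
    GoodChain (semGens n w gens) (semLevels n w gens levels) := by
  intro levels
  induction levels with
  | nil =>
    intro gens _ h
    show semGens n w gens = []
    unfold checkChain at h
    rw [List.isEmpty_iff] at h
    rw [h]; rfl
  | cons lv rest ih =>
    intro gens hg h
    have hwf := checkChain_wf n w _ _ h
    unfold checkChain at h
    rw [Bool.and_eq_true] at h
    obtain ⟨h1, h2⟩ := h
    obtain ⟨k1, k2, k3, k4, k5, k6⟩ := levelOK_spec n w h1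
    have hsub : ∀ g ∈ nextGens w gens lv.1, g ∈ gens ∧ look w g.1 lv.1 = lv.1 := by
      intro g hgm
      unfold nextGens at hgm
      rw [List.mem_filter] at hgm
      exact ⟨hgm.1, beq_iff_eq.mp hgm.2⟩
    -- the head entry
    obtain ⟨e0, es, htr⟩ : ∃ e0 es, lv.2 = e0 :: es := by
      cases hl : lv.2 with
      | nil => rw [hl] at k2; simp [headOK] at k2
      | cons e0 es => exact ⟨e0, es, rfl⟩
    have hhead : e0.1 = lv.1 ∧ idOK n w e0.2.1 = true := by
      rw [htr] at k2
      unfold headOK at k2
      simp only [Bool.and_eq_true, beq_iff_eq] at k2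
      exact k2
    have he0 : e0 ∈ lv.2 := by rw [htr]; exact List.mem_cons_self
    -- values of the transversal
    have hsemU : ∀ e ∈ lv.2, ∃ e' ∈ lv.2, e'.1 = e.1 ∧
        semU n w lv.2 (pt n e.1) = permOf n w e'.2.1 e'.2.2 := by
      intro e he
      obtain ⟨e', he'⟩ := findE_of_mem he
      obtain ⟨m1, m2⟩ := findE_some he'
      refine ⟨e', m1, m2, ?_⟩
      unfold semU
      rw [pt_val n (entryOK_spec n w (k3 e he)).1, he']
    show (∀ s ∈ semGens n w (nextGens w gens lv.1),
        s ∈ semGens n w gens ∧ s • pt n lv.1 = pt n lv.1) ∧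
      (lv.2.map fun e => pt n e.1).Nodup ∧ pt n lv.1 ∈ (lv.2.map fun e => pt n e.1) ∧
      semU n w lv.2 (pt n lv.1) = 1 ∧
      (∀ x ∈ (lv.2.map fun e => pt n e.1), semU n w lv.2 x • pt n lv.1 = x) ∧
      (∀ x ∈ (lv.2.map fun e => pt n e.1),
        ∃ g ∈ Subgroup.closure {s | s ∈ semGens n w gens}, g • pt n lv.1 = x) ∧
      (∀ s ∈ semGens n w gens, ∀ x ∈ (lv.2.map fun e => pt n e.1),
        Sifts (semLevels n w gens (lv :: rest)) (s * semU n w lv.2 x)) ∧
      GoodChain (semGens n w (nextGens w gens lv.1))
        (semLevels n w (nextGens w gens lv.1) rest)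
    refine ⟨?_, ?_, ?_, ?_, ?_, ?_, ?_, ?_⟩
    · intro s hs
      unfold semGens at hs
      rw [List.mem_map] at hs
      obtain ⟨g, hgm, rfl⟩ := hs
      obtain ⟨m1, m2⟩ := hsub g hgm
      refine ⟨mem_semGens n w m1, ?_⟩
      rw [Equiv.Perm.smul_def, permOf_pt n w (hg g m1) k1, m2]
    · have hnd := nodupB_sound _ k4
      have hnd2 : (List.map (pt n) (lv.2.map fun e => e.1)).Nodup := by
        apply List.Nodup.map_on _ hnd
        intro a ha c hc hac
        rw [List.mem_map] at ha hc
        obtain ⟨ea, hea, rfl⟩ := ha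
        obtain ⟨ec, hec, rfl⟩ := hc
        have h1' := congrArg Fin.val hac
        rwa [pt_val n (entryOK_spec n w (k3 ea hea)).1,
          pt_val n (entryOK_spec n w (k3 ec hec)).1] at h1'
      rwa [List.map_map] at hnd2
    · exact List.mem_map.mpr ⟨e0, he0, by rw [hhead.1]⟩
    · obtain ⟨e', he', m2, m3⟩ := hsemU e0 he0
      rw [← hhead.1, m3]
      -- e' is the head itself
      have hfe : findE lv.2 e0.1 = some e0 := by
        rw [htr]; unfold findE; rw [if_pos (beq_self_eq_true _)]
      have hu0 : semU n w lv.2 (pt n e0.1) = permOf n w e0.2.1 e0.2.2 := by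
        unfold semU
        rw [pt_val n (entryOK_spec n w (k3 e0 he0)).1, hfe]
      rw [← m3, hu0]
      apply Equiv.ext
      intro a
      apply Fin.ext
      rw [permOf_apply (entryOK_spec n w (k3 e0 he0)).2.1]
      have hid := hhead.2
      unfold idOK at hid
      rw [List.all_eq_true] at hid
      exact beq_iff_eq.mp (hid a.val (List.mem_range.mpr a.isLt))
    · intro x hx
      rw [List.mem_map] at hx
      obtain ⟨e, he, rfl⟩ := hx
      obtain ⟨e', he', m2, m3⟩ := hsemU e he
      obtain ⟨q1, q2, q3⟩ := entryOK_spec n w (k3 e' he')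
      rw [m3, Equiv.Perm.smul_def, permOf_pt n w q2 k1, q3, m2]
    · -- reachability
      have hreach : ∀ x ∈ (lv.2.map fun e => e.1), x < n ∧
          ∃ g ∈ Subgroup.closure {s | s ∈ semGens n w gens}, g (pt n lv.1) = pt n x := by
        have hb0 : lv.1 < n ∧ ∃ g ∈ Subgroup.closure {s | s ∈ semGens n w gens},
            g (pt n lv.1) = pt n lv.1 := ⟨k1, 1, Subgroup.one_mem _, rfl⟩
        have htail := orbitOK_sound n w gens hg lv.1 _ [lv.1] k5 (by
          intro p hp
          rw [List.mem_singleton] at hp
          rw [hp]; exact hb0)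
        intro x hx
        rw [htr] at hx htail
        simp only [List.map_cons, List.tail_cons] at hx htail
        rcases List.mem_cons.mp hx with rfl | hx'
        · rw [hhead.1]; exact hb0
        · exact htail x hx'
      intro x hx
      rw [List.mem_map] at hx
      obtain ⟨e, he, rfl⟩ := hx
      obtain ⟨_, g, hgc, hgb⟩ := hreach e.1 (List.mem_map.mpr ⟨e, he, rfl⟩)
      exact ⟨g, hgc, hgb⟩
    · intro s hs x hx
      unfold semGens at hs
      rw [List.mem_map] at hs
      obtain ⟨g, hgm, rfl⟩ := hs
      rw [List.mem_map] at hx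
      obtain ⟨e, he, rfl⟩ := hx
      obtain ⟨e', he', m2, m3⟩ := hsemU e he
      obtain ⟨q1, q2, q3⟩ := entryOK_spec n w (k3 e' he')
      rw [m3]
      apply siftB_sound n w (lv :: rest) gens [g.1, e'.2.1] _ hwf (k6 g hgm e' he')
      exact actsByW_cons (permOf_apply (hg g hgm)) (actsByW_single (permOf_apply q2))
    · exact ih _ (fun g hgm => hg g (hsub g hgm).1) h2

theorem chainSize_sem : ∀ (levels : List CLevel) (gens : List (ℕ × ℕ)),
    chainSize (semLevels n w gens levels) = codeSize levels := by
  intro levels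
  induction levels with
  | nil => intro gens; rfl
  | cons lv rest ih =>
    intro gens
    show (lv.2.map fun e => pt n e.1).length * chainSize (semLevels n w _ rest) = _
    rw [List.length_map, ih]
    rfl

/-- the group generated by a list of table pairs -/
def genGroup (gens : List (ℕ × ℕ)) : Subgroup (Equiv.Perm (Fin n)) :=
  Subgroup.closure {s | s ∈ semGens n w gens}

/-- validity of all generator tables -/
def gensOK (gens : List (ℕ × ℕ)) : Bool := gens.all fun g => pairOK n w g.1 g.2

theorem gensOK_spec {gens : List (ℕ × ℕ)} (h : gensOK n w gens = true) :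
    ∀ g ∈ gens, pairOK n w g.1 g.2 = true := by
  unfold gensOK at h
  rw [List.all_eq_true] at h
  exact h

/-- order of the generated group and soundness of sifting -/
theorem perm_main (gens : List (ℕ × ℕ)) (levels : List CLevel)
    (hg : gensOK n w gens = true) (hc : checkChain n w gens levels = true) :
    Nat.card (genGroup n w gens) = codeSize levels ∧
    ∀ (ws : List ℕ) (h : Equiv.Perm (Fin n)), ActsByW n w h ws →
      siftB n w levels ws = true → h ∈ genGroup n w gens := by
  have hgood := checkChain_sound n w levels gens (gensOK_spec n w hg) hc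
  obtain ⟨h1, h2⟩ := chain_main _ _ hgood
  refine ⟨?_, ?_⟩
  · unfold genGroup
    rw [h1, chainSize_sem]
  · intro ws h hact hs
    exact h2 h (siftB_sound n w levels gens ws h (checkChain_wf n w _ _ hc) hs hact)

/-- the first basic orbit lies in one orbit of the group -/
theorem perm_reach (gens : List (ℕ × ℕ)) (lv : CLevel) (rest : List CLevel)
    (hg : gensOK n w gens = true) (hc : checkChain n w gens (lv :: rest) = true) :
    ∀ e ∈ lv.2, ∃ g ∈ genGroup n w gens, g (pt n lv.1) = pt n e.1 := by
  have hgood := checkChain_sound n w _ gens (gensOK_spec n w hg) hc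
  obtain ⟨_, _, _, _, _, hO, _, _⟩ := hgood
  intro e he
  obtain ⟨g, hgc, hgb⟩ := hO (pt n e.1) (List.mem_map.mpr ⟨e, he, rfl⟩)
  exact ⟨g, hgc, hgb⟩

/-- the next generators lie in the group and fix the base point -/
theorem nextGens_le (gens : List (ℕ × ℕ)) (b : ℕ) (hb : b < n)
    (hg : gensOK n w gens = true) :
    genGroup n w (nextGens w gens b) ≤ genGroup n w gens ∧
    ∀ h ∈ genGroup n w (nextGens w gens b), h (pt n b) = pt n b := by
  have hsub : ∀ g ∈ nextGens w gens b, g ∈ gens ∧ look w g.1 b = b := by
    intro g hgm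
    unfold nextGens at hgm
    rw [List.mem_filter] at hgm
    exact ⟨hgm.1, beq_iff_eq.mp hgm.2⟩
  constructor
  · unfold genGroup
    apply Subgroup.closure_mono
    intro s hs
    unfold semGens at hs
    have hs' : s ∈ List.map (fun g => permOf n w g.1 g.2) (nextGens w gens b) := hs
    rw [List.mem_map] at hs'
    obtain ⟨g, hgm, rfl⟩ := hs'
    exact mem_semGens n w (hsub g hgm).1
  · intro h hh
    have hle : genGroup n w (nextGens w gens b) ≤ stabilizer (Equiv.Perm (Fin n)) (pt n b) := by
      unfold genGroup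
      rw [Subgroup.closure_le]
      intro s hs
      have hs' : s ∈ List.map (fun g => permOf n w g.1 g.2) (nextGens w gens b) := hs
      rw [List.mem_map] at hs'
      obtain ⟨g, hgm, rfl⟩ := hs'
      rw [SetLike.mem_coe, mem_stabilizer_iff, Equiv.Perm.smul_def,
        permOf_pt n w (gensOK_spec n w hg g (hsub g hgm).1) hb, (hsub g hgm).2]
    exact mem_stabilizer_iff.mp (hle hh)

/-- reachability certificate for an arbitrary starting point -/
theorem perm_orbit (gens : List (ℕ × ℕ)) (hg : gensOK n w gens = true) (c : ℕ) (hc : c < n)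
    (todo : List ℕ) (h : orbitOK w gens [c] todo = true) :
    ∀ x ∈ todo, x < n ∧ ∃ g ∈ genGroup n w gens, g (pt n c) = pt n x := by
  apply orbitOK_sound n w gens (gensOK_spec n w hg) c todo [c] h
  intro p hp
  rw [List.mem_singleton] at hp
  rw [hp]
  exact ⟨hc, 1, Subgroup.one_mem _, rfl⟩

theorem checkChain_tail {gens : List (ℕ × ℕ)} (b : ℕ) (tr : List Entry) (rest : List CLevel)
    (h : checkChain n w gens ((b, tr) :: rest) = true) :
    checkChain n w (nextGens w gens b) rest = true := by
  unfold checkChain at h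
  rw [Bool.and_eq_true] at h
  exact h.2

theorem gensOK_next {gens : List (ℕ × ℕ)} (h : gensOK n w gens = true) (b : ℕ) :
    gensOK n w (nextGens w gens b) = true := by
  unfold gensOK
  rw [List.all_eq_true]
  intro g hg
  unfold nextGens at hg
  rw [List.mem_filter] at hg
  exact gensOK_spec n w h g hg.1

theorem actsByW_pow {g : Equiv.Perm (Fin n)} {t : ℕ}
    (hg : ∀ a : Fin n, (g a).val = look w t a.val) (k : ℕ) :
    ActsByW n w (g ^ k) (List.replicate k t) := by
  induction k with
  | zero => rw [pow_zero]; exact actsByW_one n w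
  | succ k ih =>
    rw [pow_succ', List.replicate_succ]
    exact actsByW_cons hg ih

/-- the word acts as the identity -/
def wordId (ws : List ℕ) : Bool := (List.range n).all fun a => evalW w ws a == a

theorem eq_one_of_wordId {g : Equiv.Perm (Fin n)} {ws : List ℕ} (hg : ActsByW n w g ws)
    (h : wordId n w ws = true) : g = 1 := by
  unfold wordId at h
  rw [List.all_eq_true] at h
  apply Equiv.ext
  intro a
  apply Fin.ext
  rw [hg a]
  exact beq_iff_eq.mp (h a.val (List.mem_range.mpr a.isLt))

/-- two words act in the same way -/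
def wordEq (ws ws' : List ℕ) : Bool := (List.range n).all fun a => evalW w ws a == evalW w ws' a

theorem eq_of_wordEq {g h : Equiv.Perm (Fin n)} {ws ws' : List ℕ} (hg : ActsByW n w g ws)
    (hh : ActsByW n w h ws') (he : wordEq n w ws ws' = true) : g = h := by
  unfold wordEq at he
  rw [List.all_eq_true] at he
  apply Equiv.ext
  intro a
  apply Fin.ext
  rw [hg a, hh a]
  exact beq_iff_eq.mp (he a.val (List.mem_range.mpr a.isLt))

/-- the generator `g` is a product `x * y` of two elements of the group with `x ^ p = y ^ p = 1` -/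
def prodOK (levels : List CLevel) (p : ℕ) (g : ℕ × ℕ) (f : ℕ × ℕ × ℕ × ℕ) : Bool :=
  wordEq n w [g.1] [f.1, f.2.2.1] && pairOK n w f.1 f.2.1 && pairOK n w f.2.2.1 f.2.2.2 &&
  wordId n w (List.replicate p f.1) && wordId n w (List.replicate p f.2.2.1) &&
  siftB n w levels [f.1] && siftB n w levels [f.2.2.1]

/-- every generator is such a product -/
def prodsOK (levels : List CLevel) (p : ℕ) (gens : List (ℕ × ℕ)) (fs : List (ℕ × ℕ × ℕ × ℕ)) :
    Bool :=
  gens.all fun g => fs.any fun f => prodOK n w levels p g f

theorem prodsOK_sound (gens : List (ℕ × ℕ)) (levels : List CLevel)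
    (hg : gensOK n w gens = true) (hc : checkChain n w gens levels = true) (p : ℕ)
    (fs : List (ℕ × ℕ × ℕ × ℕ)) (h : prodsOK n w levels p gens fs = true) :
    ∀ t ∈ semGens n w gens, ∃ x y, x ∈ genGroup n w gens ∧ y ∈ genGroup n w gens ∧
      x ^ p = 1 ∧ y ^ p = 1 ∧ t = x * y := by
  intro t ht
  unfold semGens at ht
  rw [List.mem_map] at ht
  obtain ⟨g, hgm, rfl⟩ := ht
  unfold prodsOK at h
  rw [List.all_eq_true] at h
  have h1 := h g hgm
  rw [List.any_eq_true] at h1
  obtain ⟨f, _, hf⟩ := h1
  unfold prodOK at hf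
  simp only [Bool.and_eq_true] at hf
  obtain ⟨⟨⟨⟨⟨⟨k1, k2⟩, k3⟩, k4⟩, k5⟩, k6⟩, k7⟩ := hf
  have hmain := (perm_main n w gens levels hg hc).2
  refine ⟨permOf n w f.1 f.2.1, permOf n w f.2.2.1 f.2.2.2, ?_, ?_, ?_, ?_, ?_⟩
  · exact hmain _ _ (actsByW_single (permOf_apply k2)) k6
  · exact hmain _ _ (actsByW_single (permOf_apply k3)) k7
  · exact eq_one_of_wordId n w (actsByW_pow n w (permOf_apply k2) p) k4
  · exact eq_one_of_wordId n w (actsByW_pow n w (permOf_apply k3) p) k5
  · exact eq_of_wordEq n w (actsByW_single (permOf_apply (gensOK_spec n w hg g hgm)))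
      (actsByW_cons (permOf_apply k2) (actsByW_single (permOf_apply k3))) k1

end Sem

end Cfsg.Agent.Lib.Helper28.BSGS
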