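import Mathlib

set_option autoImplicit false

namespace Cfsg.Agent.Lib.Helper28

namespace PlaneFour

/-! ## Synthemes of a 6-set

The 15 fixed-point-free involutions of `Fin 6`, the disjointness relation, and the
uniqueness of the synthematic total through two disjoint synthemes. -/

/-- the 15 fixed-point-free involutions of `Fin 6` -/
def syn (k : Fin 15) : Fin 6 → Fin 6 :=
  (![![1,0,3,2,5,4], ![1,0,4,5,2,3], ![1,0,5,4,3,2], ![2,3,0,1,5,4], ![2,4,0,5,1,3],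
     ![2,5,0,4,3,1], ![3,2,1,0,5,4], ![3,4,5,0,1,2], ![3,5,4,0,2,1], ![4,2,1,5,0,3],
     ![4,3,5,1,0,2], ![4,5,3,2,0,1], ![5,2,1,4,3,0], ![5,3,4,1,2,0], ![5,4,3,2,1,0]] :
    Fin 15 → Fin 6 → Fin 6) k

theorem syn_invol : ∀ (k : Fin 15) (i : Fin 6), syn k (syn k i) = i := by decide +kernel

theorem syn_ne : ∀ (k : Fin 15) (i : Fin 6), syn k i ≠ i := by decide +kernel

theorem syn_injective : ∀ k k' : Fin 15, (∀ i, syn k i = syn k' i) → k = k' := by decide +kernel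

set_option synthInstance.maxSize 100000 in
set_option synthInstance.maxHeartbeats 4000000 in
theorem syn_classify_aux :
  ∀ a0 : Fin 6, a0 ≠ 0 →
  ∀ a1 : Fin 6, a1 ≠ 1 → (a0 = 1 ↔ a1 = 0) →
  ∀ a2 : Fin 6, a2 ≠ 2 → (a0 = 2 ↔ a2 = 0) → (a1 = 2 ↔ a2 = 1) →
  ∀ a3 : Fin 6, a3 ≠ 3 → (a0 = 3 ↔ a3 = 0) → (a1 = 3 ↔ a3 = 1) → (a2 = 3 ↔ a3 = 2) →
  ∀ a4 : Fin 6, a4 ≠ 4 → (a0 = 4 ↔ a4 = 0) → (a1 = 4 ↔ a4 = 1) → (a2 = 4 ↔ a4 = 2) →
    (a3 = 4 ↔ a4 = 3) →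
  ∀ a5 : Fin 6, a5 ≠ 5 → (a0 = 5 ↔ a5 = 0) → (a1 = 5 ↔ a5 = 1) → (a2 = 5 ↔ a5 = 2) →
    (a3 = 5 ↔ a5 = 3) → (a4 = 5 ↔ a5 = 4) →
  ∃ k : Fin 15, syn k 0 = a0 ∧ syn k 1 = a1 ∧ syn k 2 = a2 ∧ syn k 3 = a3 ∧ syn k 4 = a4 ∧
    syn k 5 = a5 := by decide +kernel

/-- every fixed-point-free involution of `Fin 6` is one of the 15 synthemes -/
theorem syn_classify (f : Fin 6 → Fin 6) (h1 : ∀ i, f (f i) = i) (h2 : ∀ i, f i ≠ i) :
    ∃ k : Fin 15, ∀ i, f i = syn k i := by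
  have hiff : ∀ i j : Fin 6, f i = j ↔ f j = i := fun i j =>
    ⟨fun h => by rw [← h, h1], fun h => by rw [← h, h1]⟩
  obtain ⟨k, e0, e1, e2, e3, e4, e5⟩ := syn_classify_aux (f 0) (h2 0) (f 1) (h2 1) (hiff 0 1)
    (f 2) (h2 2) (hiff 0 2) (hiff 1 2) (f 3) (h2 3) (hiff 0 3) (hiff 1 3) (hiff 2 3) (f 4) (h2 4)
    (hiff 0 4) (hiff 1 4) (hiff 2 4) (hiff 3 4) (f 5) (h2 5) (hiff 0 5) (hiff 1 5) (hiff 2 5)
    (hiff 3 5) (hiff 4 5)
  refine ⟨k, fun i => ?_⟩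
  fin_cases i
  · exact e0.symm
  · exact e1.symm
  · exact e2.symm
  · exact e3.symm
  · exact e4.symm
  · exact e5.symm

/-- an index different from `0` and from the partner of `0` -/
def sec (k : Fin 15) : Fin 6 := if syn k 0 = 1 then 2 else 1

theorem sec_ne_zero : ∀ k : Fin 15, sec k ≠ 0 := by decide +kernel

theorem sec_ne : ∀ k : Fin 15, sec k ≠ syn k 0 := by decide +kernel

/-- bit table of the disjointness relation -/
def djb (a b : Fin 15) : Bool :=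
  Nat.testBit 3129890531526143036227069852327341999714016195490207231159848679344
    (15 * a.val + b.val)

theorem djb_iff : ∀ a b : Fin 15, djb a b = true ↔ ∀ i, syn a i ≠ syn b i := by decide +kernel

set_option synthInstance.maxSize 100000 in
set_option synthInstance.maxHeartbeats 4000000 in
theorem total_aux : ∀ k1 k2 : Fin 15, djb k1 k2 = true →
    ∀ t3 : Fin 15, djb k1 t3 = true → djb k2 t3 = true →
    ∀ t4 : Fin 15, djb k1 t4 = true → djb k2 t4 = true → djb t3 t4 = true →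
    ∀ t5 : Fin 15, djb k1 t5 = true → djb k2 t5 = true → djb t3 t5 = true → djb t4 t5 = true →
    ∀ u3 : Fin 15, djb k1 u3 = true → djb k2 u3 = true →
    ∀ u4 : Fin 15, djb k1 u4 = true → djb k2 u4 = true → djb u3 u4 = true →
    ∀ u5 : Fin 15, djb k1 u5 = true → djb k2 u5 = true → djb u3 u5 = true → djb u4 u5 = true →
    (u3 = t3 ∨ u3 = t4 ∨ u3 = t5) := by decide +kernel

theorem card_filter_syn : ∀ i j : Fin 6, i ≠ j →
    (Finset.univ.filter (fun k : Fin 15 => syn k i = j)).card = 3 := by decide +kernel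

end PlaneFour

end Cfsg.Agent.Lib.Helper28
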