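import Mathlib
import Cfsg.Prelude.Def_Sporadic_a
import Cfsg.Agent.S5627
import Cfsg.Agent.Lib.Helper28.SynthemeSix

set_option autoImplicit false
set_option linter.unusedSectionVars false
set_option linter.unusedVariables false

namespace Cfsg.Agent.Lib.Helper28

open Cfsg Cfsg.Agent.S5627
open scoped Pointwise

namespace PlaneFour

/-! ## The model plane built from a 6-set -/

/-- points of the model: the six points of a hyperoval and the 15 synthemes -/
abbrev Pt := Fin 6 ⊕ Fin 15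

/-- the secant through the hyperoval points `i`, `j` -/
def secLine (i j : Fin 6) : Finset Pt :=
  {Sum.inl i, Sum.inl j} ∪ (Finset.univ.filter (fun k : Fin 15 => syn k i = j)).image Sum.inr

/-- a synthematic total -/
def IsTotal (T : Finset (Fin 15)) : Prop :=
  T.card = 5 ∧ ∀ a ∈ T, ∀ b ∈ T, a ≠ b → ∀ i, syn a i ≠ syn b i

/-- the lines of the model plane -/
def modelLines : Set (Finset Pt) :=
  {m | (∃ i j, i ≠ j ∧ m = secLine i j) ∨ ∃ T, IsTotal T ∧ m = T.image Sum.inr}

theorem secLine_card (i j : Fin 6) (hij : i ≠ j) : (secLine i j).card = 5 := by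
  unfold secLine
  rw [Finset.card_union_of_disjoint, Finset.card_pair, Finset.card_image_of_injective _
    Sum.inr_injective, card_filter_syn i j hij]
  · intro h
    exact hij (Sum.inl_injective h)
  · rw [Finset.disjoint_left]
    intro x hx hx'
    rw [Finset.mem_image] at hx'
    obtain ⟨k, -, rfl⟩ := hx'
    simp at hx

/-- two totals with two common synthemes coincide (one inclusion) -/
theorem total_subset {A B : Finset (Fin 15)} (hA : IsTotal A) (hB : IsTotal B) {k1 k2 : Fin 15}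
    (h1 : k1 ∈ A) (h2 : k2 ∈ A) (h1' : k1 ∈ B) (h2' : k2 ∈ B) (hne : k1 ≠ k2) : B ⊆ A := by
  have hdA : ∀ a ∈ A, ∀ b ∈ A, a ≠ b → djb a b = true := fun a ha b hb hab =>
    (djb_iff a b).mpr (hA.2 a ha b hb hab)
  have hdB : ∀ a ∈ B, ∀ b ∈ B, a ≠ b → djb a b = true := fun a ha b hb hab =>
    (djb_iff a b).mpr (hB.2 a ha b hb hab)
  have hcA : ((A.erase k1).erase k2).card = 3 := by
    rw [Finset.card_erase_of_mem (Finset.mem_erase.mpr ⟨hne.symm, h2⟩),
      Finset.card_erase_of_mem h1, hA.1]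
  have hcB : ((B.erase k1).erase k2).card = 3 := by
    rw [Finset.card_erase_of_mem (Finset.mem_erase.mpr ⟨hne.symm, h2'⟩),
      Finset.card_erase_of_mem h1', hB.1]
  obtain ⟨t3, t4, t5, h34, h35, h45, hAe⟩ := Finset.card_eq_three.mp hcA
  obtain ⟨u3, u4, u5, g34, g35, g45, hBe⟩ := Finset.card_eq_three.mp hcB
  have memA : ∀ t, t ∈ ({t3, t4, t5} : Finset (Fin 15)) → t ∈ A ∧ t ≠ k1 ∧ t ≠ k2 := by
    intro t ht
    rw [← hAe, Finset.mem_erase, Finset.mem_erase] at ht
    exact ⟨ht.2.2, ht.2.1, ht.1⟩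
  have memB : ∀ t, t ∈ ({u3, u4, u5} : Finset (Fin 15)) → t ∈ B ∧ t ≠ k1 ∧ t ≠ k2 := by
    intro t ht
    rw [← hBe, Finset.mem_erase, Finset.mem_erase] at ht
    exact ⟨ht.2.2, ht.2.1, ht.1⟩
  obtain ⟨a3, a31, a32⟩ := memA t3 (by simp)
  obtain ⟨a4, a41, a42⟩ := memA t4 (by simp)
  obtain ⟨a5, a51, a52⟩ := memA t5 (by simp)
  obtain ⟨b3, b31, b32⟩ := memB u3 (by simp)
  obtain ⟨b4, b41, b42⟩ := memB u4 (by simp)
  obtain ⟨b5, b51, b52⟩ := memB u5 (by simp)
  have key : ∀ v3 v4 v5 : Fin 15, v3 ∈ B → v4 ∈ B → v5 ∈ B → v3 ≠ k1 → v3 ≠ k2 → v4 ≠ k1 →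
      v4 ≠ k2 → v5 ≠ k1 → v5 ≠ k2 → v3 ≠ v4 → v3 ≠ v5 → v4 ≠ v5 → v3 ∈ A := by
    intro v3 v4 v5 c3 c4 c5 c31 c32 c41 c42 c51 c52 c34 c35 c45
    have := total_aux k1 k2 (hdA k1 h1 k2 h2 hne)
      t3 (hdA k1 h1 t3 a3 a31.symm) (hdA k2 h2 t3 a3 a32.symm)
      t4 (hdA k1 h1 t4 a4 a41.symm) (hdA k2 h2 t4 a4 a42.symm) (hdA t3 a3 t4 a4 h34)
      t5 (hdA k1 h1 t5 a5 a51.symm) (hdA k2 h2 t5 a5 a52.symm) (hdA t3 a3 t5 a5 h35)
        (hdA t4 a4 t5 a5 h45)
      v3 (hdB k1 h1' v3 c3 c31.symm) (hdB k2 h2' v3 c3 c32.symm)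
      v4 (hdB k1 h1' v4 c4 c41.symm) (hdB k2 h2' v4 c4 c42.symm) (hdB v3 c3 v4 c4 c34)
      v5 (hdB k1 h1' v5 c5 c51.symm) (hdB k2 h2' v5 c5 c52.symm) (hdB v3 c3 v5 c5 c35)
        (hdB v4 c4 v5 c5 c45)
    rcases this with rfl | rfl | rfl
    · exact a3
    · exact a4
    · exact a5
  intro u hu
  by_cases e1 : u = k1
  · rw [e1]; exact h1
  by_cases e2 : u = k2
  · rw [e2]; exact h2
  have hu' : u ∈ ({u3, u4, u5} : Finset (Fin 15)) := by
    rw [← hBe, Finset.mem_erase, Finset.mem_erase]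
    exact ⟨e2, e1, hu⟩
  simp only [Finset.mem_insert, Finset.mem_singleton] at hu'
  rcases hu' with rfl | rfl | rfl
  · exact key u u4 u5 b3 b4 b5 b31 b32 b41 b42 b51 b52 g34 g35 g45
  · exact key u u3 u5 b4 b3 b5 b41 b42 b31 b32 b51 b52 g34.symm g45 g35
  · exact key u u3 u4 b5 b3 b4 b51 b52 b31 b32 b41 b42 g35.symm g45.symm g34

theorem total_unique {A B : Finset (Fin 15)} (hA : IsTotal A) (hB : IsTotal B) {k1 k2 : Fin 15}
    (h1 : k1 ∈ A) (h2 : k2 ∈ A) (h1' : k1 ∈ B) (h2' : k2 ∈ B) (hne : k1 ≠ k2) : B = A :=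
  Finset.eq_of_subset_of_card_le (total_subset hA hB h1 h2 h1' h2' hne) (by rw [hA.1, hB.1])

/-! ## A labelled hyperoval in an abstract plane of order 4 -/

section Geom
variable {α : Type*} [Fintype α] [DecidableEq α] {L : Set (Finset α)}

/-- a labelled hyperoval: six distinct points, no three on a line -/
structure IsLabHyp (L : Set (Finset α)) (h : Fin 6 → α) : Prop where
  inj : Function.Injective h
  arc : ∀ l ∈ L, ∀ i j k : Fin 6, h i ∈ l → h j ∈ l → h k ∈ l → i = j ∨ i = k ∨ j = k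

variable {h : Fin 6 → α}

/-- every line through a hyperoval point is a secant -/
theorem exists_other (hα : Fintype.card α = 21) (hL : IsSteinerSystem 2 5 L)
    (hh : IsLabHyp L h) {l : Finset α} (hl : l ∈ L) {i : Fin 6} (hi : h i ∈ l) :
    ∃ j, j ≠ i ∧ h j ∈ l := by
  classical
  set X : Finset α := (Finset.univ.erase i).image h with hX
  have hpX : h i ∉ X := by
    rw [hX, Finset.mem_image]
    rintro ⟨j, hj, hji⟩
    exact (Finset.mem_erase.mp hj).1 (hh.inj hji)
  have hXc : X.card = 5 := by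
    rw [hX, Finset.card_image_of_injective _ hh.inj, Finset.card_erase_of_mem (Finset.mem_univ i)]
    simp
  have hsum := h28_sum_lines hL (h i) X hpX
  rw [hXc] at hsum
  have hterm : ∀ m ∈ h28_linesThrough L (h i), (m ∩ X).card ≤ 1 := by
    intro m hm
    rw [h28_mem_linesThrough] at hm
    rw [Finset.card_le_one]
    intro x hx y hy
    rw [Finset.mem_inter, hX, Finset.mem_image] at hx hy
    obtain ⟨hxm, j, hj, rfl⟩ := hx
    obtain ⟨hym, k, hk, rfl⟩ := hy
    rcases hh.arc m hm.1 i j k hm.2 hxm hym with h1 | h1 | h1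
    · exact absurd h1.symm (Finset.mem_erase.mp hj).1
    · exact absurd h1.symm (Finset.mem_erase.mp hk).1
    · rw [h1]
  by_contra hcon
  simp only [not_exists, not_and] at hcon
  have hl0 : (l ∩ X).card = 0 := by
    rw [Finset.card_eq_zero, Finset.eq_empty_iff_forall_notMem]
    intro x hx
    rw [Finset.mem_inter, hX, Finset.mem_image] at hx
    obtain ⟨hxl, j, hj, rfl⟩ := hx
    exact hcon j (Finset.mem_erase.mp hj).1 hxl
  have hlmem : l ∈ h28_linesThrough L (h i) := h28_mem_linesThrough.mpr ⟨hl, hi⟩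
  have hlt : ∑ m ∈ h28_linesThrough L (h i), (m ∩ X).card <
      ∑ _m ∈ h28_linesThrough L (h i), 1 := by
    apply Finset.sum_lt_sum hterm
    exact ⟨l, hlmem, by rw [hl0]; exact Nat.zero_lt_one⟩
  rw [Finset.sum_const, smul_eq_mul, mul_one, h28_card_linesThrough hα hL (h i), hsum] at hlt
  exact absurd hlt (lt_irrefl 5)

open Classical in
/-- the partner of `h i` on the line through `P` -/
noncomputable def fcode (L : Set (Finset α)) (h : Fin 6 → α) (P : α) (i : Fin 6) : Fin 6 :=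
  if hx : ∃ j, j ≠ i ∧ ∃ l ∈ L, P ∈ l ∧ h i ∈ l ∧ h j ∈ l then hx.choose else i

theorem fcode_spec (hα : Fintype.card α = 21) (hL : IsSteinerSystem 2 5 L)
    (hh : IsLabHyp L h) {P : α} (hP : ∀ i, h i ≠ P) (i : Fin 6) :
    fcode L h P i ≠ i ∧ ∃ l ∈ L, P ∈ l ∧ h i ∈ l ∧ h (fcode L h P i) ∈ l := by
  have hex : ∃ j, j ≠ i ∧ ∃ l ∈ L, P ∈ l ∧ h i ∈ l ∧ h j ∈ l := by
    obtain ⟨l, hl, hPl, hil⟩ := h28_exists_line hL (hP i).symm
    obtain ⟨j, hji, hjl⟩ := exists_other hα hL hh hl hil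
    exact ⟨j, hji, l, hl, hPl, hil, hjl⟩
  unfold fcode
  rw [dif_pos hex]
  exact hex.choose_spec

theorem fcode_eq (hα : Fintype.card α = 21) (hL : IsSteinerSystem 2 5 L)
    (hh : IsLabHyp L h) {P : α} (hP : ∀ i, h i ≠ P) {l : Finset α} (hl : l ∈ L) (hPl : P ∈ l)
    {i j : Fin 6} (hil : h i ∈ l) (hjl : h j ∈ l) (hji : j ≠ i) : fcode L h P i = j := by
  obtain ⟨hne, l', hl', hPl', hil', hfl'⟩ := fcode_spec hα hL hh hP i
  have hll : l = l' := h28_line_unique hL (hP i).symm hl hl' hPl hil hPl' hil'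
  subst hll
  rcases hh.arc l hl i j (fcode L h P i) hil hjl hfl' with h1 | h1 | h1
  · exact absurd h1.symm hji
  · exact absurd h1.symm hne
  · exact h1.symm

theorem fcode_invol (hα : Fintype.card α = 21) (hL : IsSteinerSystem 2 5 L)
    (hh : IsLabHyp L h) {P : α} (hP : ∀ i, h i ≠ P) (i : Fin 6) :
    fcode L h P (fcode L h P i) = i := by
  obtain ⟨hne, l, hl, hPl, hil, hfl⟩ := fcode_spec hα hL hh hP i
  exact fcode_eq hα hL hh hP hl hPl hfl hil hne.symm

open Classical in
/-- the syntheme cut out on the hyperoval by the lines through `P` -/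
noncomputable def code (L : Set (Finset α)) (h : Fin 6 → α) (P : α) : Fin 15 :=
  if hx : ∃ k : Fin 15, ∀ i, fcode L h P i = syn k i then hx.choose else 0

theorem code_spec (hα : Fintype.card α = 21) (hL : IsSteinerSystem 2 5 L)
    (hh : IsLabHyp L h) {P : α} (hP : ∀ i, h i ≠ P) (i : Fin 6) :
    fcode L h P i = syn (code L h P) i := by
  have hex : ∃ k : Fin 15, ∀ i, fcode L h P i = syn k i :=
    syn_classify _ (fcode_invol hα hL hh hP) (fun i => (fcode_spec hα hL hh hP i).1)
  unfold code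
  rw [dif_pos hex]
  exact hex.choose_spec i

theorem code_mem (hα : Fintype.card α = 21) (hL : IsSteinerSystem 2 5 L)
    (hh : IsLabHyp L h) {P : α} (hP : ∀ i, h i ≠ P) {l : Finset α} (hl : l ∈ L) (hPl : P ∈ l)
    {i : Fin 6} (hil : h i ∈ l) : h (syn (code L h P) i) ∈ l := by
  obtain ⟨hne, l', hl', hPl', hil', hfl'⟩ := fcode_spec hα hL hh hP i
  have hll : l = l' := h28_line_unique hL (hP i).symm hl hl' hPl hil hPl' hil'
  rw [hll, ← code_spec hα hL hh hP i]
  exact hfl'

theorem code_eq (hα : Fintype.card α = 21) (hL : IsSteinerSystem 2 5 L)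
    (hh : IsLabHyp L h) {P : α} (hP : ∀ i, h i ≠ P) {l : Finset α} (hl : l ∈ L) (hPl : P ∈ l)
    {i j : Fin 6} (hil : h i ∈ l) (hjl : h j ∈ l) (hji : j ≠ i) : syn (code L h P) i = j := by
  rw [← code_spec hα hL hh hP i]
  exact fcode_eq hα hL hh hP hl hPl hil hjl hji

/-- a point off the hyperoval is the intersection of two explicit secants -/
theorem two_secants (hα : Fintype.card α = 21) (hL : IsSteinerSystem 2 5 L)
    (hh : IsLabHyp L h) {P : α} (hP : ∀ i, h i ≠ P) :
    ∃ l1 ∈ L, ∃ l2 ∈ L, l1 ≠ l2 ∧ P ∈ l1 ∧ P ∈ l2 ∧ h 0 ∈ l1 ∧ h (syn (code L h P) 0) ∈ l1 ∧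
      h (sec (code L h P)) ∈ l2 ∧ h (syn (code L h P) (sec (code L h P))) ∈ l2 := by
  obtain ⟨l1, hl1, hP1, h01⟩ := h28_exists_line hL (hP 0).symm
  obtain ⟨l2, hl2, hP2, hs2⟩ := h28_exists_line hL (hP (sec (code L h P))).symm
  refine ⟨l1, hl1, l2, hl2, ?_, hP1, hP2, h01, code_mem hα hL hh hP hl1 hP1 h01, hs2,
    code_mem hα hL hh hP hl2 hP2 hs2⟩
  intro e
  subst e
  rcases hh.arc l1 hl1 0 (syn (code L h P) 0) (sec (code L h P)) h01
    (code_mem hα hL hh hP hl1 hP1 h01) hs2 with h1 | h1 | h1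
  · exact syn_ne _ 0 h1.symm
  · exact sec_ne_zero _ h1.symm
  · exact sec_ne _ h1.symm

/-- the syntheme determines the point -/
theorem code_inj (hα : Fintype.card α = 21) (hL : IsSteinerSystem 2 5 L)
    (hh : IsLabHyp L h) {P Q : α} (hP : ∀ i, h i ≠ P) (hQ : ∀ i, h i ≠ Q)
    (hc : code L h P = code L h Q) : P = Q := by
  obtain ⟨l1, hl1, l2, hl2, hne, hP1, hP2, a1, b1, a2, b2⟩ := two_secants hα hL hh hP
  obtain ⟨m1, hm1, m2, hm2, -, hQ1, hQ2, c1, d1, c2, d2⟩ := two_secants hα hL hh hQ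
  rw [← hc] at d1 c2 d2
  have n1 : h 0 ≠ h (syn (code L h P) 0) := fun e => syn_ne _ 0 (hh.inj e).symm
  have n2 : h (sec (code L h P)) ≠ h (syn (code L h P) (sec (code L h P))) :=
    fun e => syn_ne _ _ (hh.inj e).symm
  have e1 : l1 = m1 := h28_line_unique hL n1 hl1 hm1 a1 b1 c1 d1
  have e2 : l2 = m2 := h28_line_unique hL n2 hl2 hm2 a2 b2 c2 d2
  subst e1 e2
  have hle := h28_inter_le_one hL hl1 hl2 hne
  exact Finset.card_le_one.mp hle P (Finset.mem_inter.mpr ⟨hP1, hP2⟩) Q
    (Finset.mem_inter.mpr ⟨hQ1, hQ2⟩)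

/-- two points on a line missing the hyperoval have disjoint synthemes -/
theorem code_disjoint (hα : Fintype.card α = 21) (hL : IsSteinerSystem 2 5 L)
    (hh : IsLabHyp L h) {P Q : α} (hP : ∀ i, h i ≠ P) (hQ : ∀ i, h i ≠ Q) (hPQ : P ≠ Q)
    {l : Finset α} (hl : l ∈ L) (hPl : P ∈ l) (hQl : Q ∈ l) (hext : ∀ i, h i ∉ l) (i : Fin 6) :
    syn (code L h P) i ≠ syn (code L h Q) i := by
  intro heq
  obtain ⟨m1, hm1, hPm1, him1⟩ := h28_exists_line hL (hP i).symm
  obtain ⟨m2, hm2, hQm2, him2⟩ := h28_exists_line hL (hQ i).symm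
  have hj1 := code_mem hα hL hh hP hm1 hPm1 him1
  have hj2 := code_mem hα hL hh hQ hm2 hQm2 him2
  rw [← heq] at hj2
  have hne : h i ≠ h (syn (code L h P) i) := fun e => syn_ne _ i (hh.inj e).symm
  have e : m1 = m2 := h28_line_unique hL hne hm1 hm2 him1 hj1 him2 hj2
  subst e
  have e2 : m1 = l := h28_line_unique hL hPQ hm1 hl hPm1 hQm2 hPl hQl
  exact hext i (e2 ▸ him1)

/-- every syntheme occurs -/
theorem exists_code (hα : Fintype.card α = 21) (hL : IsSteinerSystem 2 5 L)
    (hh : IsLabHyp L h) (k : Fin 15) : ∃ P, (∀ i, h i ≠ P) ∧ code L h P = k := by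
  classical
  set E : Finset α := Finset.univ \ Finset.univ.image h with hE
  have hEc : E.card = 15 := by
    rw [hE, Finset.card_sdiff_of_subset (Finset.subset_univ _), Finset.card_univ, hα,
      Finset.card_image_of_injective _ hh.inj]
    simp
  have hmem : ∀ x, x ∈ E ↔ ∀ i, h i ≠ x := by
    intro x
    simp [hE]
  have hinj : Set.InjOn (code L h) E := by
    intro x hx y hy hxy
    exact code_inj hα hL hh ((hmem x).mp hx) ((hmem y).mp hy) hxy
  have himg : E.image (code L h) = Finset.univ := by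
    apply Finset.eq_univ_of_card
    rw [Finset.card_image_of_injOn hinj, hEc]
    simp
  have hk : k ∈ E.image (code L h) := by
    rw [himg]
    exact Finset.mem_univ k
  obtain ⟨P, hPE, hPk⟩ := Finset.mem_image.mp hk
  exact ⟨P, (hmem P).mp hPE, hPk⟩

/-- **Recognition**: a plane of order 4 with a labelled hyperoval is the model plane, by an
isomorphism extending the labelling. -/
theorem recognize (hα : Fintype.card α = 21) (hL : IsSteinerSystem 2 5 L)
    (hh : IsLabHyp L h) :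
    ∃ ψ : Pt ≃ α, (∀ i, ψ (Sum.inl i) = h i) ∧
      (fun b : Finset Pt => b.image ψ) '' modelLines = L := by
  classical
  choose pt hpt1 hpt2 using exists_code hα hL hh
  have hinj : Function.Injective (Sum.elim h pt) := by
    rintro (i | k) (j | k') hxy
    · simp only [Sum.elim_inl] at hxy
      rw [hh.inj hxy]
    · simp only [Sum.elim_inl, Sum.elim_inr] at hxy
      exact absurd hxy (hpt1 k' i)
    · simp only [Sum.elim_inl, Sum.elim_inr] at hxy
      exact absurd hxy.symm (hpt1 k j)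
    · simp only [Sum.elim_inr] at hxy
      have := congrArg (code L h) hxy
      rw [hpt2, hpt2] at this
      rw [this]
  have hcard : Fintype.card Pt = Fintype.card α := by
    rw [hα]
    simp [Pt]
  let ψ : Pt ≃ α := Equiv.ofBijective _
    ((Fintype.bijective_iff_injective_and_card _).mpr ⟨hinj, hcard⟩)
  have hψl : ∀ i, ψ (Sum.inl i) = h i := fun i => rfl
  have hψr : ∀ k, ψ (Sum.inr k) = pt k := fun k => rfl
  have hsymm_ext : ∀ x, (∀ i, h i ≠ x) → ψ.symm x = Sum.inr (code L h x) := by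
    intro x hx
    rw [Equiv.symm_apply_eq, hψr]
    exact code_inj hα hL hh hx (hpt1 _) (hpt2 _).symm
  have hsymm_h : ∀ i, ψ.symm (h i) = Sum.inl i := by
    intro i
    rw [Equiv.symm_apply_eq]
    rfl
  have himgimg : ∀ l : Finset α, (l.image ψ.symm).image ψ = l := by
    intro l
    rw [Finset.image_image, Equiv.self_comp_symm, Finset.image_id]
  -- secants
  have hS : ∀ l ∈ L, ∀ i j, i ≠ j → h i ∈ l → h j ∈ l → l.image ψ.symm = secLine i j := by
    intro l hl i j hij hil hjl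
    apply Finset.eq_of_subset_of_card_le
    · intro y hy
      obtain ⟨x, hxl, rfl⟩ := Finset.mem_image.mp hy
      by_cases hx : ∃ i', h i' = x
      · obtain ⟨i', rfl⟩ := hx
        rw [hsymm_h]
        rcases hh.arc l hl i j i' hil hjl hxl with h1 | h1 | h1
        · exact absurd h1 hij
        · subst h1
          simp [secLine]
        · subst h1
          simp [secLine]
      · simp only [not_exists] at hx
        rw [hsymm_ext x hx]
        have := code_eq hα hL hh hx hl hxl hil hjl hij.symm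
        simp [secLine, this]
    · rw [secLine_card i j hij, Finset.card_image_of_injective _ ψ.symm.injective, hL.1 l hl]
  -- external lines
  have hE : ∀ l ∈ L, (∀ i, h i ∉ l) → IsTotal (l.image (code L h)) ∧
      l.image ψ.symm = (l.image (code L h)).image Sum.inr := by
    intro l hl hext
    have hxl : ∀ x ∈ l, ∀ i, h i ≠ x := fun x hx i e => hext i (e ▸ hx)
    refine ⟨⟨?_, ?_⟩, ?_⟩
    · rw [Finset.card_image_of_injOn, hL.1 l hl]
      intro x hx y hy hxy
      exact code_inj hα hL hh (hxl x hx) (hxl y hy) hxy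
    · intro a ha b hb hab i
      obtain ⟨x, hx, rfl⟩ := Finset.mem_image.mp ha
      obtain ⟨y, hy, rfl⟩ := Finset.mem_image.mp hb
      have hxy : x ≠ y := fun e => hab (by rw [e])
      exact code_disjoint hα hL hh (hxl x hx) (hxl y hy) hxy hl hx hy hext i
    · rw [Finset.image_image]
      apply Finset.image_congr
      intro x hx
      exact hsymm_ext x (hxl x (Finset.mem_coe.mp hx))
  refine ⟨ψ, hψl, ?_⟩
  ext l
  constructor
  · rintro ⟨m, hm, rfl⟩
    rcases hm with ⟨i, j, hij, rfl⟩ | ⟨T, hT, rfl⟩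
    · obtain ⟨l, hl, hil, hjl⟩ := h28_exists_line hL (fun e => hij (hh.inj e))
      have := hS l hl i j hij hil hjl
      show (secLine i j).image ψ ∈ L
      rw [← this, himgimg]
      exact hl
    · obtain ⟨k1, hk1, k2, hk2, hk12⟩ := Finset.one_lt_card.mp (by rw [hT.1]; norm_num)
      have hne : pt k1 ≠ pt k2 := by
        intro e
        apply hk12
        have := congrArg (code L h) e
        rwa [hpt2, hpt2] at this
      obtain ⟨l, hl, h1l, h2l⟩ := h28_exists_line hL hne
      have hext : ∀ i, h i ∉ l := by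
        intro i hil
        obtain ⟨j, hji, hjl⟩ := exists_other hα hL hh hl hil
        have e1 := code_eq hα hL hh (hpt1 k1) hl h1l hil hjl hji
        have e2 := code_eq hα hL hh (hpt1 k2) hl h2l hil hjl hji
        rw [hpt2] at e1 e2
        exact hT.2 k1 hk1 k2 hk2 hk12 i (e1.trans e2.symm)
      obtain ⟨hT', himg⟩ := hE l hl hext
      have m1 : k1 ∈ l.image (code L h) := Finset.mem_image.mpr ⟨pt k1, h1l, hpt2 k1⟩
      have m2 : k2 ∈ l.image (code L h) := Finset.mem_image.mpr ⟨pt k2, h2l, hpt2 k2⟩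
      have hTT : l.image (code L h) = T := total_unique hT hT' hk1 hk2 m1 m2 hk12
      show (T.image Sum.inr).image ψ ∈ L
      rw [← hTT, ← himg, himgimg]
      exact hl
  · intro hl
    refine ⟨l.image ψ.symm, ?_, himgimg l⟩
    by_cases hext : ∀ i, h i ∉ l
    · right
      exact ⟨_, (hE l hl hext).1, (hE l hl hext).2⟩
    · left
      simp only [not_forall, not_not] at hext
      obtain ⟨i, hil⟩ := hext
      obtain ⟨j, hji, hjl⟩ := exists_other hα hL hh hl hil
      exact ⟨i, j, hji.symm, hS l hl i j hji.symm hil hjl⟩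

/-- a labelling of an arc of six points is a labelled hyperoval -/
theorem labHyp_of_arc {H : Finset α} (hH : h28_IsArc L H) (f : Fin 6 → ↥H)
    (hf : Function.Injective f) : IsLabHyp L (fun i => (f i : α)) := by
  refine ⟨fun i j hij => hf (Subtype.ext hij), ?_⟩
  intro l hl i j k hi hj hk
  by_contra hcon
  simp only [not_or] at hcon
  obtain ⟨hij, hik, hjk⟩ := hcon
  have hsub : ({(f i : α), (f j : α), (f k : α)} : Finset α) ⊆ l ∩ H := by
    intro x hx
    simp only [Finset.mem_insert, Finset.mem_singleton] at hx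
    rcases hx with rfl | rfl | rfl
    · exact Finset.mem_inter.mpr ⟨hi, (f i).2⟩
    · exact Finset.mem_inter.mpr ⟨hj, (f j).2⟩
    · exact Finset.mem_inter.mpr ⟨hk, (f k).2⟩
  have h3 : ({(f i : α), (f j : α), (f k : α)} : Finset α).card = 3 :=
    Finset.card_eq_three.mpr ⟨_, _, _, fun e => hij (hf (Subtype.ext e)),
      fun e => hik (hf (Subtype.ext e)), fun e => hjk (hf (Subtype.ext e)), rfl⟩
  have := Finset.card_le_card hsub
  have := hH l hl
  omega

/-- a plane of order 4 has a labelled hyperoval -/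
theorem exists_labHyp (hα : Fintype.card α = 21) (hL : IsSteinerSystem 2 5 L) :
    ∃ h : Fin 6 → α, IsLabHyp L h := by
  have hne : (h28_arcs L 6).Nonempty := by
    rw [← Finset.card_pos, h28_card_arcs_six hα hL]
    norm_num
  obtain ⟨H, hH⟩ := hne
  rw [h28_mem_arcs] at hH
  exact ⟨_, labHyp_of_arc hH.2 (Finset.equivFinOfCardEq hH.1).symm
    (Finset.equivFinOfCardEq hH.1).symm.injective⟩

/-- composing two recognitions -/
theorem iso_of_recognize {β : Type*} [DecidableEq β] {L' : Set (Finset β)} {ψ : Pt ≃ α}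
    {ψ' : Pt ≃ β} (h1 : (fun b : Finset Pt => b.image ψ) '' modelLines = L)
    (h2 : (fun b : Finset Pt => b.image ψ') '' modelLines = L') :
    (fun b : Finset α => b.image (ψ.symm.trans ψ')) '' L = L' := by
  rw [← h1, ← h2, Set.image_image]
  apply Set.image_congr
  intro m _
  simp only [Finset.image_image]
  congr 1
  funext x
  simp

/-- a collineation is determined by its values on a hyperoval -/
theorem aut_ext (hα : Fintype.card α = 21) (hL : IsSteinerSystem 2 5 L) (hh : IsLabHyp L h)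
    {g1 g2 : Equiv.Perm α} (h1 : ∀ l ∈ L, l.image g1 ∈ L) (h2 : ∀ l ∈ L, l.image g2 ∈ L)
    (hag : ∀ i, g1 (h i) = g2 (h i)) : g1 = g2 := by
  ext x
  by_cases hx : ∃ i, h i = x
  · obtain ⟨i, rfl⟩ := hx
    exact hag i
  · simp only [not_exists] at hx
    obtain ⟨l1, hl1, l2, hl2, hne, hx1, hx2, a1, b1, a2, b2⟩ := two_secants hα hL hh hx
    have n1 : h 0 ≠ h (syn (code L h x) 0) := fun e => syn_ne _ 0 (hh.inj e).symm
    have n2 : h (sec (code L h x)) ≠ h (syn (code L h x) (sec (code L h x))) :=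
      fun e => syn_ne _ _ (hh.inj e).symm
    have e1 : l1.image g1 = l1.image g2 :=
      h28_line_unique hL (g1.injective.ne n1) (h1 l1 hl1) (h2 l1 hl1)
        (Finset.mem_image_of_mem g1 a1) (Finset.mem_image_of_mem g1 b1)
        (by rw [hag]; exact Finset.mem_image_of_mem g2 a1)
        (by rw [hag]; exact Finset.mem_image_of_mem g2 b1)
    have e2 : l2.image g1 = l2.image g2 :=
      h28_line_unique hL (g1.injective.ne n2) (h1 l2 hl2) (h2 l2 hl2)
        (Finset.mem_image_of_mem g1 a2) (Finset.mem_image_of_mem g1 b2)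
        (by rw [hag]; exact Finset.mem_image_of_mem g2 a2)
        (by rw [hag]; exact Finset.mem_image_of_mem g2 b2)
    have hne' : l1.image g1 ≠ l2.image g1 :=
      fun e => hne (Finset.image_injective g1.injective e)
    have hle := h28_inter_le_one hL (h1 l1 hl1) (h1 l2 hl2) hne'
    exact Finset.card_le_one.mp hle (g1 x)
      (Finset.mem_inter.mpr ⟨Finset.mem_image_of_mem _ hx1, Finset.mem_image_of_mem _ hx2⟩) (g2 x)
      (Finset.mem_inter.mpr ⟨by rw [e1]; exact Finset.mem_image_of_mem _ hx1,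
        by rw [e2]; exact Finset.mem_image_of_mem _ hx2⟩)

/-- members of the automorphism group map lines to lines -/
theorem image_mem_of_mem_aut {g : Equiv.Perm α} (hg : g ∈ setSystemAut L) {l : Finset α}
    (hl : l ∈ L) : l.image g ∈ L := by
  have hg' : g • L = L := MulAction.mem_stabilizer_iff.mp hg
  have : g • l ∈ g • L := Set.smul_mem_smul_set hl
  rw [hg'] at this
  exact this

/-- a permutation mapping lines to lines is an automorphism -/
theorem mem_aut_of_image_mem {g : Equiv.Perm α} (hg : ∀ l ∈ L, l.image g ∈ L) :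
    g ∈ setSystemAut L := by
  rw [MulAction.mem_stabilizer_set_iff_smul_set_subset (Set.toFinite _)]
  rintro _ ⟨l, hl, rfl⟩
  exact hg l hl

end Geom

end PlaneFour

end Cfsg.Agent.Lib.Helper28
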