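import Mathlib
import Cfsg.Prelude.Def_Sporadic_a
import Cfsg.Agent.Lib.Helper28.PlaneFour

set_option autoImplicit false
set_option linter.unusedSectionVars false
set_option linter.unusedVariables false

/-!
Isomorphisms of set systems: symmetry, transitivity, transport of automorphism groups and of
multiple transitivity, and the fact that a bijection mapping the blocks of a Steiner system
into the blocks of another one with the same parameters maps them onto.
-/

namespace Cfsg.Agent.Lib.Helper28

open Cfsg
open scoped Pointwise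

namespace SetSys

variable {α β γ : Type*} [DecidableEq α] [DecidableEq β] [DecidableEq γ]

theorem image_symm {B : Set (Finset α)} {B' : Set (Finset β)} {e : α ≃ β}
    (he : (fun b : Finset α => b.image e) '' B = B') :
    (fun b : Finset β => b.image e.symm) '' B' = B := by
  rw [← he]
  ext x
  constructor
  · rintro ⟨_, ⟨b, hb, rfl⟩, rfl⟩
    show (b.image e).image e.symm ∈ B
    rw [Finset.image_image, Equiv.symm_comp_self, Finset.image_id]
    exact hb
  · intro hx
    exact ⟨x.image e, ⟨x, hx, rfl⟩, by
      show (x.image e).image e.symm = x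
      rw [Finset.image_image, Equiv.symm_comp_self, Finset.image_id]⟩

theorem iso_symm {B : Set (Finset α)} {B' : Set (Finset β)} (h : SetSystemIso B B') :
    SetSystemIso B' B := by
  obtain ⟨e, he⟩ := h
  exact ⟨e.symm, image_symm he⟩

theorem iso_trans {B : Set (Finset α)} {B' : Set (Finset β)} {B'' : Set (Finset γ)}
    (h1 : SetSystemIso B B') (h2 : SetSystemIso B' B'') : SetSystemIso B B'' := by
  obtain ⟨e1, he1⟩ := h1
  obtain ⟨e2, he2⟩ := h2
  refine ⟨e1.trans e2, ?_⟩
  rw [← he2, ← he1, Set.image_image]
  apply Set.image_congr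
  intro b _
  rw [Finset.image_image]
  rfl

/-- a bijection mapping blocks of a Steiner system into blocks of another one maps them onto -/
theorem steiner_image_eq {t k : ℕ} (htk : t ≤ k) {B : Set (Finset α)} {B' : Set (Finset β)}
    (hB : IsSteinerSystem t k B) (hB' : IsSteinerSystem t k B') (e : α ≃ β)
    (hsub : ∀ b ∈ B, b.image e ∈ B') : (fun b : Finset α => b.image e) '' B = B' := by
  ext o
  constructor
  · rintro ⟨b, hb, rfl⟩
    exact hsub b hb
  · intro ho
    have hk : t ≤ o.card := by rw [hB'.1 o ho]; exact htk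
    obtain ⟨s, hso, hs⟩ := Finset.exists_subset_card_eq hk
    have hs' : (s.image e.symm).card = t := by
      rw [Finset.card_image_of_injective _ e.symm.injective, hs]
    obtain ⟨b, ⟨hb, hsb⟩, -⟩ := hB.2 (s.image e.symm) hs'
    obtain ⟨o', -, huniq⟩ := hB'.2 s hs
    have h1 : b.image e = o' := huniq _ ⟨hsub b hb, by
      intro x hx
      refine Finset.mem_image.mpr ⟨e.symm x, hsb (Finset.mem_image_of_mem _ hx), ?_⟩
      simp⟩
    have h2 : o = o' := huniq _ ⟨ho, hso⟩
    exact ⟨b, hb, by show b.image e = o; rw [h1, h2]⟩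

section Aut
variable [Fintype α] [Fintype β]

theorem mem_aut_iff {B : Set (Finset α)} {g : Equiv.Perm α} :
    g ∈ setSystemAut B ↔ ∀ l ∈ B, l.image g ∈ B :=
  ⟨fun h _ hl => PlaneFour.image_mem_of_mem_aut h hl, PlaneFour.mem_aut_of_image_mem⟩

theorem permCongr_mem_aut {B : Set (Finset α)} {B' : Set (Finset β)} (e : α ≃ β)
    (he : (fun b : Finset α => b.image e) '' B = B') {g : Equiv.Perm α}
    (hg : g ∈ setSystemAut B) : e.permCongr g ∈ setSystemAut B' := by
  rw [mem_aut_iff] at hg ⊢
  intro l' hl'
  rw [← he] at hl' ⊢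
  obtain ⟨l, hl, rfl⟩ := hl'
  refine ⟨l.image g, hg l hl, ?_⟩
  simp only [Finset.image_image]
  congr 1
  funext x
  simp [Equiv.permCongr_apply]

/-- isomorphic set systems have isomorphic automorphism groups -/
def autCongr {B : Set (Finset α)} {B' : Set (Finset β)} (e : α ≃ β)
    (he : (fun b : Finset α => b.image e) '' B = B') : setSystemAut B ≃* setSystemAut B' where
  toFun g := ⟨e.permCongr g.1, permCongr_mem_aut e he g.2⟩
  invFun g := ⟨e.symm.permCongr g.1, permCongr_mem_aut e.symm (image_symm he) g.2⟩
  left_inv g := by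
    ext x
    simp [Equiv.permCongr_apply]
  right_inv g := by
    ext x
    simp [Equiv.permCongr_apply]
  map_mul' g g' := by
    ext x
    simp [Equiv.permCongr_apply]

theorem autCongr_apply {B : Set (Finset α)} {B' : Set (Finset β)} (e : α ≃ β)
    (he : (fun b : Finset α => b.image e) '' B = B') (g : setSystemAut B) (y : β) :
    ((autCongr e he g : setSystemAut B') : Equiv.Perm β) y = e (g.1 (e.symm y)) := rfl

theorem autCongr_symm_apply {B : Set (Finset α)} {B' : Set (Finset β)} (e : α ≃ β)
    (he : (fun b : Finset α => b.image e) '' B = B') (g : setSystemAut B') (x : α) :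
    (((autCongr e he).symm g : setSystemAut B) : Equiv.Perm α) x = e.symm (g.1 (e x)) := by
  show e.symm (g.1 (e.symm.symm x)) = _
  rfl

/-- multiple transitivity is transported along an isomorphism of set systems -/
theorem pretransitive_transfer {B : Set (Finset α)} {B' : Set (Finset β)} (e : α ≃ β)
    (he : (fun b : Finset α => b.image e) '' B = B') (n : ℕ)
    (h : MulAction.IsMultiplyPretransitive (setSystemAut B') β n) :
    MulAction.IsMultiplyPretransitive (setSystemAut B) α n := by
  rw [MulAction.isMultiplyPretransitive_iff] at h ⊢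
  intro x y
  obtain ⟨g', hg'⟩ := h (x.trans e.toEmbedding) (y.trans e.toEmbedding)
  refine ⟨(autCongr e he).symm g', ?_⟩
  ext i
  have h1 := DFunLike.congr_fun hg' i
  have h2 : g'.1 (e (x i)) = e (y i) := h1
  show (((autCongr e he).symm g' : setSystemAut B) : Equiv.Perm α) (x i) = y i
  rw [autCongr_symm_apply, h2, Equiv.symm_apply_apply]

end Aut

end SetSys

end Cfsg.Agent.Lib.Helper28
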