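import Cfsg.Agent.Lib.Helper28.M24Act

set_option autoImplicit false

/-!
Subsets of the 24 points given by bit masks, a computable test for a mask to be an octad (or
any code word), and the "signature" argument: a point that is separated from all others by a
family of `g`-invariant sets is fixed by `g`.
-/

namespace Cfsg.Agent.Lib.Helper28

open Cfsg MulAction
open scoped Pointwise

/-- the index of a point -/
def ptInv : GolayPt → Fin 24
  | none => 23
  | some t => ⟨t.val, lt_trans (ZMod.val_lt t) (by norm_num)⟩

set_option maxRecDepth 100000 in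
theorem pt_ptInv : ∀ x : GolayPt, Helper4.pt (ptInv x) = x := by
  decide

set_option maxRecDepth 100000 in
theorem ptInv_pt : ∀ a : Fin 24, ptInv (Helper4.pt a) = a := by
  decide

/-- the set of points described by a bit mask -/
def maskSet (m : ℕ) : Finset GolayPt := Finset.univ.filter fun x => m.testBit (ptInv x).val = true

theorem mem_maskSet (m : ℕ) (x : GolayPt) : x ∈ maskSet m ↔ m.testBit (ptInv x).val = true := by
  simp [maskSet]

theorem pt_mem_maskSet (m : ℕ) (a : Fin 24) : Helper4.pt a ∈ maskSet m ↔ m.testBit a.val = true := by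
  rw [mem_maskSet, ptInv_pt]

theorem card_maskSet (m : ℕ) :
    (maskSet m).card = (Finset.univ.filter fun a : Fin 24 => m.testBit a.val = true).card := by
  symm
  apply Finset.card_bij (fun a _ => Helper4.pt a)
  · intro a ha
    rw [Finset.mem_filter] at ha
    exact (pt_mem_maskSet m a).mpr ha.2
  · intro a _ b _ h
    exact Helper4.pt_bijective.1 h
  · intro x hx
    refine ⟨ptInv x, ?_, pt_ptInv x⟩
    rw [Finset.mem_filter]
    exact ⟨Finset.mem_univ _, (mem_maskSet m x).mp hx⟩

theorem card_maskSet_inter (m m' : ℕ) :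
    (maskSet m ∩ maskSet m').card =
      (Finset.univ.filter fun a : Fin 24 => m.testBit a.val = true ∧ m'.testBit a.val = true).card := by
  symm
  apply Finset.card_bij (fun a _ => Helper4.pt a)
  · intro a ha
    rw [Finset.mem_filter] at ha
    rw [Finset.mem_inter]
    exact ⟨(pt_mem_maskSet m a).mpr ha.2.1, (pt_mem_maskSet m' a).mpr ha.2.2⟩
  · intro a _ b _ h
    exact Helper4.pt_bijective.1 h
  · intro x hx
    rw [Finset.mem_inter] at hx
    refine ⟨ptInv x, ?_, pt_ptInv x⟩
    rw [Finset.mem_filter]
    exact ⟨Finset.mem_univ _, (mem_maskSet m x).mp hx.1, (mem_maskSet m' x).mp hx.2⟩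

/-- the computable test for a mask to describe a code word -/
def IsCodeMask (m : ℕ) : Prop :=
  ∀ a : Fin 24, (if m.testBit a.val then (1 : ZMod 2) else 0) =
    ∑ j : Fin 12, (if m.testBit (pv j).val then (1 : ZMod 2) else 0) *
      (if (hm j).testBit a.val then 1 else 0)

instance (m : ℕ) : Decidable (IsCodeMask m) := by
  unfold IsCodeMask; infer_instance

theorem bind_maskSet_apply (m : ℕ) (a : Fin 24) :
    bind (maskSet m) (Helper4.pt a) = if m.testBit a.val then 1 else 0 := by
  unfold bind
  by_cases h : m.testBit a.val = true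
  · rw [if_pos ((pt_mem_maskSet m a).mpr h), if_pos h]
  · rw [if_neg (fun hc => h ((pt_mem_maskSet m a).mp hc)), if_neg h]

theorem bind_maskSet_mem (m : ℕ) (h : IsCodeMask m) : bind (maskSet m) ∈ golayCode := by
  rw [mem_golayCode_iff]
  funext p
  obtain ⟨a, rfl⟩ := Helper4.pt_bijective.2 p
  rw [Finset.sum_apply]
  simp only [Pi.smul_apply, smul_eq_mul, hvec_apply, bind_maskSet_apply]
  exact h a

theorem maskSet_mem_supports (m : ℕ) (h : IsCodeMask m) :
    maskSet m ∈ supports (golayCode : Set (GolayPt → ZMod 2)) :=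
  (mem_supports_golayCode_iff _).mpr (bind_maskSet_mem m h)

theorem maskSet_mem_octads (m : ℕ) (h : IsCodeMask m)
    (h8 : (Finset.univ.filter fun a : Fin 24 => m.testBit a.val = true).card = 8) :
    maskSet m ∈ octads :=
  (mem_octads_iff _).mpr ⟨bind_maskSet_mem m h, by rw [card_maskSet, h8]⟩

theorem maskSet_mem_dodecads (m : ℕ) (h : IsCodeMask m)
    (h12 : (Finset.univ.filter fun a : Fin 24 => m.testBit a.val = true).card = 12) :
    maskSet m ∈ dodecads :=
  (mem_dodecads_iff _).mpr ⟨bind_maskSet_mem m h, by rw [card_maskSet, h12]⟩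

/-- a permutation maps a point into an invariant set iff the point is in it -/
theorem apply_mem_of_smul_eq {g : Equiv.Perm GolayPt} {A : Finset GolayPt} (hA : g • A = A)
    (x : GolayPt) : g x ∈ A ↔ x ∈ A := by
  constructor
  · intro h
    rw [← hA, Finset.mem_smul_finset] at h
    obtain ⟨y, hy, hyx⟩ := h
    have : y = x := g.injective hyx
    rwa [← this]
  · intro h
    rw [← hA, Finset.mem_smul_finset]
    exact ⟨x, h, rfl⟩

/-- the signature argument -/
theorem fix_of_signature (g : Equiv.Perm GolayPt) (ms : List ℕ)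
    (hinv : ∀ m ∈ ms, g • maskSet m = maskSet m) (a : Fin 24)
    (huniq : ∀ c : Fin 24, (∀ m ∈ ms, m.testBit c.val = m.testBit a.val) → c = a) :
    g (Helper4.pt a) = Helper4.pt a := by
  have hc : ptInv (g (Helper4.pt a)) = a := by
    apply huniq
    intro m hm
    have h1 := apply_mem_of_smul_eq (hinv m hm) (Helper4.pt a)
    rw [mem_maskSet, pt_mem_maskSet] at h1
    cases h : m.testBit a.val
    · cases h' : m.testBit (ptInv (g (Helper4.pt a))).val
      · rfl
      · rw [h, h'] at h1
        exact absurd (h1.mp rfl) (by simp)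
    · rw [h] at h1
      exact h1.mpr rfl
  have := pt_ptInv (g (Helper4.pt a))
  rw [hc] at this
  exact this.symm

/-- an octad mask meeting the fixed points of `g ∈ M24` in five points is invariant -/
theorem maskSet_invariant {g : Equiv.Perm GolayPt} (hg : g ∈ M24) (m fm : ℕ)
    (hoct : maskSet m ∈ octads) (hfix : ∀ a : Fin 24, fm.testBit a.val = true →
      g (Helper4.pt a) = Helper4.pt a)
    (h5 : 5 ≤ (Finset.univ.filter fun a : Fin 24 =>
      m.testBit a.val = true ∧ fm.testBit a.val = true).card) :
    g • maskSet m = maskSet m := by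
  apply smul_octad_eq_of_fix hg hoct (maskSet fm)
  · intro x hx
    rw [mem_maskSet] at hx
    have := hfix (ptInv x) hx
    rwa [pt_ptInv] at this
  · rw [card_maskSet_inter]; exact h5

end Cfsg.Agent.Lib.Helper28
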