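import Cfsg.Agent.Lib.Helper28.Golay
import Cfsg.Agent.Lib.Helper4.GolayMinWt

set_option autoImplicit false

namespace Cfsg.Agent.Lib.Helper28

open Cfsg

/-- masks of a reduced echelon basis of the Golay code (bit `a` = coordinate `Helper4.pt a`) -/
def hm : Fin 12 → ℕ :=
  ![13062145, 4845570, 13938692, 7221256, 10170384, 11952160, 15515712, 2019456, 4038912, 8077824,
    11654144, 14919680]

/-- which `qrWord t` enter the `j`-th basis word -/
def sm : Fin 12 → ℕ := ![1705, 280, 1177, 1400, 1722, 1943, 1485, 2000, 1347, 101, 1635, 1573]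

/-- whether the all-ones word enters the `j`-th basis word -/
def em : Fin 12 → Bool :=
  ![true, false, true, false, true, true, true, false, false, false, true, true]

/-- the `j`-th word of a reduced echelon basis of `golayCode` -/
def hvec (j : Fin 12) : GolayPt → ZMod 2 :=
  (∑ t : ZMod 23, if (sm j).testBit t.val then qrWord t else 0) + if em j then 1 else 0

theorem hvec_mem (j : Fin 12) : hvec j ∈ golayCode := by
  unfold hvec
  refine golayCode.add_mem (Submodule.sum_mem _ fun t _ => ?_) ?_
  · split_ifs
    · exact Helper4.qrWord_mem_golayCode t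
    · exact golayCode.zero_mem
  · split_ifs
    · exact Helper4.one_mem_golayCode
    · exact golayCode.zero_mem

set_option maxRecDepth 100000 in
set_option maxHeartbeats 4000000 in
theorem hvec_table : ∀ (j : Fin 12) (a : Fin 24),
    (∑ t : ZMod 23, if (sm j).testBit t.val then
      (if (Helper4.masks a).testBit t.val then (1 : ZMod 2) else 0) else 0) +
      (if em j then 1 else 0) = if (hm j).testBit a.val then 1 else 0 := by
  decide +kernel

theorem hvec_apply (j : Fin 12) (a : Fin 24) :
    hvec j (Helper4.pt a) = if (hm j).testBit a.val then 1 else 0 := by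
  have h1 : hvec j (Helper4.pt a) =
      (∑ t : ZMod 23, if (sm j).testBit t.val then qrWord t (Helper4.pt a) else 0) +
        (if em j then 1 else 0) := by
    unfold hvec
    rw [Pi.add_apply, Finset.sum_apply]
    refine congrArg₂ (· + ·) (Finset.sum_congr rfl fun t _ => ?_) ?_
    · split_ifs <;> rfl
    · split_ifs <;> rfl
  rw [h1, ← hvec_table j a]
  simp only [Helper4.masks_correct]

/-- pivot coordinates of the echelon basis -/
def pv (j : Fin 12) : Fin 24 := ⟨j.val, by omega⟩

theorem hm_pivot : ∀ j k : Fin 12, (hm j).testBit (pv k).val = decide (j = k) := by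
  decide +kernel

set_option maxRecDepth 100000 in
set_option maxHeartbeats 4000000 in
theorem span_table : ∀ (t : ZMod 23) (a : Fin 24),
    (if (Helper4.masks a).testBit t.val then (1 : ZMod 2) else 0) =
      ∑ j : Fin 12, (if (Helper4.masks (pv j)).testBit t.val then (1 : ZMod 2) else 0) *
        (if (hm j).testBit a.val then 1 else 0) := by
  decide +kernel

set_option maxRecDepth 100000 in
theorem one_table : ∀ a : Fin 24,
    (1 : ZMod 2) = ∑ j : Fin 12, if (hm j).testBit a.val then (1 : ZMod 2) else 0 := by
  decide +kernel

theorem qrWord_eq_sum (t : ZMod 23) :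
    qrWord t = ∑ j : Fin 12, qrWord t (Helper4.pt (pv j)) • hvec j := by
  funext p
  obtain ⟨a, rfl⟩ := Helper4.pt_bijective.2 p
  rw [Finset.sum_apply]
  simp only [Pi.smul_apply, smul_eq_mul, hvec_apply, Helper4.masks_correct]
  exact span_table t a

theorem one_eq_sum : (1 : GolayPt → ZMod 2) = ∑ j : Fin 12, hvec j := by
  funext p
  obtain ⟨a, rfl⟩ := Helper4.pt_bijective.2 p
  rw [Finset.sum_apply]
  simp only [hvec_apply, Pi.one_apply]
  exact one_table a

theorem hvec_linearIndependent : LinearIndependent (ZMod 2) hvec := by
  rw [Fintype.linearIndependent_iff]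
  intro c hc k
  have h := congrFun hc (Helper4.pt (pv k))
  rw [Finset.sum_apply] at h
  simp only [Pi.smul_apply, smul_eq_mul, hvec_apply, hm_pivot, Pi.zero_apply] at h
  simpa using h

theorem golayCode_eq_span : golayCode = Submodule.span (ZMod 2) (Set.range hvec) := by
  apply le_antisymm
  · unfold golayCode
    rw [Submodule.span_le]
    rintro g (⟨t, rfl⟩ | hg)
    · rw [qrWord_eq_sum t]
      exact Submodule.sum_mem _ fun j _ =>
        Submodule.smul_mem _ _ (Submodule.subset_span ⟨j, rfl⟩)
    · rw [Set.mem_singleton_iff.mp hg, one_eq_sum]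
      exact Submodule.sum_mem _ fun j _ => Submodule.subset_span ⟨j, rfl⟩
  · rw [Submodule.span_le]
    rintro _ ⟨j, rfl⟩
    exact hvec_mem j

theorem finrank_golayCode : Module.finrank (ZMod 2) golayCode = 12 := by
  rw [golayCode_eq_span, finrank_span_eq_card hvec_linearIndependent]
  rfl

/-- the concrete quadratic-residue code `Cfsg.golayCode` is an extended Golay code -/
theorem golayCode_isGolayLike : IsGolayLike golayCode where
  card24 := by rfl
  dim := finrank_golayCode
  orth := fun v hv w hw => Helper4.golay_self_orth hv hw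
  minw := fun w hw hne => Helper4.golay_min_weight hw hne

end Cfsg.Agent.Lib.Helper28
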