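import Cfsg.Agent.Lib.Helper28.Sextet
import Cfsg.Agent.Lib.Helper28.GolayConcrete

set_option autoImplicit false

/-!
The octads of the concrete code `Cfsg.golayCode`: bridge to `IsOctadSet` and the Steiner
system `S(5,8,24)`.
-/

namespace Cfsg.Agent.Lib.Helper28

open Cfsg

theorem support₂_eq_bsupp (w : GolayPt → ZMod 2) : support₂ w = bsupp w := by
  unfold support₂ bsupp
  congr

theorem mem_supports_golayCode_iff (o : Finset GolayPt) :
    o ∈ supports (golayCode : Set (GolayPt → ZMod 2)) ↔ bind o ∈ golayCode := by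
  unfold supports
  simp only [Set.mem_image, SetLike.mem_coe]
  constructor
  · rintro ⟨w, hw, rfl⟩
    rw [support₂_eq_bsupp, bind_bsupp]
    exact hw
  · intro h
    exact ⟨bind o, h, by rw [support₂_eq_bsupp, bsupp_bind]⟩

theorem mem_octads_iff (o : Finset GolayPt) : o ∈ octads ↔ IsOctadSet golayCode o := by
  unfold octads wordsOfWeight IsOctadSet
  rw [Set.mem_ofPred_eq, mem_supports_golayCode_iff]

theorem mem_dodecads_iff (o : Finset GolayPt) :
    o ∈ dodecads ↔ bind o ∈ golayCode ∧ o.card = 12 := by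
  unfold dodecads wordsOfWeight
  rw [Set.mem_ofPred_eq, mem_supports_golayCode_iff]

/-- the octads form a Steiner system `S(5,8,24)` -/
theorem octads_isSteinerSystem : IsSteinerSystem 5 8 octads := by
  have hC := golayCode_isGolayLike
  refine ⟨fun b hb => ((mem_octads_iff b).mp hb).2, fun s hs => ?_⟩
  obtain ⟨c, hc, h8, hsc⟩ := hC.exists_octad s hs
  refine ⟨bsupp c, ⟨(mem_octads_iff _).mpr ⟨by rw [bind_bsupp]; exact hc, ?_⟩, hsc⟩, ?_⟩
  · rw [← hammingNorm_eq_card_bsupp]; exact h8
  · rintro b ⟨hb, hsb⟩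
    obtain ⟨hb1, hb8⟩ := (mem_octads_iff b).mp hb
    have h8' : hammingNorm (bind b) = 8 := by rw [hammingNorm_bind]; exact hb8
    have := hC.octad_unique (bind b) c hb1 hc h8' h8 s (by omega) (by rw [bsupp_bind]; exact hsb) hsc
    rw [← this, bsupp_bind]

end Cfsg.Agent.Lib.Helper28
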