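import Mathlib
import Cfsg.Prelude.Def_Sporadic_a
import Cfsg.Agent.Lib.Helper28.PlaneFour

set_option autoImplicit false
set_option linter.unusedSectionVars false
set_option linter.unusedVariables false

/-!
A family of 8-subsets of a 24-set which looks like the octads of a Steiner system `S(5,8,24)`
around three points: the blocks through the three points give a projective plane of order 4,
which is identified with the model plane of `PlaneFour`.
-/

namespace Cfsg.Agent.Lib.Helper28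

open Cfsg Cfsg.Agent.S5627

namespace PlaneFour

/-! ### model data -/

/-- the basic hyperoval of the model plane -/
def H0 : Finset Pt := Finset.univ.image Sum.inl

/-- the second hyperoval through the points `0, 1, 2` of `H0` -/
def H1 : Finset Pt := {Sum.inl 0, Sum.inl 1, Sum.inl 2, Sum.inr 7, Sum.inr 11, Sum.inr 13}

/-- the third hyperoval through the points `0, 1, 2` of `H0` -/
def H2 : Finset Pt := {Sum.inl 0, Sum.inl 1, Sum.inl 2, Sum.inr 8, Sum.inr 10, Sum.inr 14}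

/-- a subset of the 24-point model: plane points and points at infinity -/
def blk (S : Finset Pt) (Fs : Finset (Fin 3)) : Finset (Pt ⊕ Fin 3) :=
  S.image Sum.inl ∪ Fs.image Sum.inr

theorem H1_card : H1.card = 6 := by decide +kernel

theorem H2_card : H2.card = 6 := by decide +kernel

theorem arc_sec_H1 : ∀ i j : Fin 6, i ≠ j → (secLine i j ∩ H1).card ≤ 2 := by decide +kernel

theorem arc_sec_H2 : ∀ i j : Fin 6, i ≠ j → (secLine i j ∩ H2).card ≤ 2 := by decide +kernel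

theorem FH : ∀ k : Fin 15, (Sum.inr k : Pt) ∈ secLine 0 1 ∨ (Sum.inr k : Pt) ∈ secLine 0 2 ∨
    (Sum.inr k : Pt) ∈ secLine 1 2 ∨ (Sum.inr k : Pt) ∈ H1 ∨ (Sum.inr k : Pt) ∈ H2 := by
  decide +kernel

theorem inr_mem_H1 : ∀ k : Fin 15, (Sum.inr k : Pt) ∈ H1 → k = 7 ∨ k = 11 ∨ k = 13 := by
  decide +kernel

theorem inr_mem_H2 : ∀ k : Fin 15, (Sum.inr k : Pt) ∈ H2 → k = 8 ∨ k = 10 ∨ k = 14 := by
  decide +kernel

theorem no_fourth_H1 : ∀ a b c u : Fin 15, (a = 7 ∨ a = 11 ∨ a = 13) → (b = 7 ∨ b = 11 ∨ b = 13) →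
    (c = 7 ∨ c = 11 ∨ c = 13) → a ≠ b → a ≠ c → b ≠ c →
    ¬(djb u a = true ∧ djb u b = true ∧ djb u c = true) := by decide +kernel

theorem no_fourth_H2 : ∀ a b c u : Fin 15, (a = 8 ∨ a = 10 ∨ a = 14) → (b = 8 ∨ b = 10 ∨ b = 14) →
    (c = 8 ∨ c = 10 ∨ c = 14) → a ≠ b → a ≠ c → b ≠ c →
    ¬(djb u a = true ∧ djb u b = true ∧ djb u c = true) := by decide +kernel

/-- a total cannot contain three pairwise distinct synthemes which admit no common disjoint
syntheme -/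
theorem arc_tot_aux {P : Fin 15 → Prop} {Hx : Finset Pt}
    (hmem : ∀ k : Fin 15, (Sum.inr k : Pt) ∈ Hx → P k)
    (hno : ∀ a b c u : Fin 15, P a → P b → P c → a ≠ b → a ≠ c → b ≠ c →
      ¬(djb u a = true ∧ djb u b = true ∧ djb u c = true))
    {T : Finset (Fin 15)} (hT : IsTotal T) : ((T.image Sum.inr : Finset Pt) ∩ Hx).card ≤ 2 := by
  by_contra hcon
  have h3 : 2 < ((T.image Sum.inr : Finset Pt) ∩ Hx).card := by omega
  obtain ⟨x, hx, y, hy, z, hz, hxy, hxz, hyz⟩ := Finset.two_lt_card.mp h3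
  rw [Finset.mem_inter, Finset.mem_image] at hx hy hz
  obtain ⟨⟨a, haT, rfl⟩, hax⟩ := hx
  obtain ⟨⟨b, hbT, rfl⟩, hbx⟩ := hy
  obtain ⟨⟨c, hcT, rfl⟩, hcx⟩ := hz
  have hab : a ≠ b := fun e => hxy (by rw [e])
  have hac : a ≠ c := fun e => hxz (by rw [e])
  have hbc : b ≠ c := fun e => hyz (by rw [e])
  have hlt : ({a, b, c} : Finset (Fin 15)).card < T.card := by
    rw [hT.1]
    exact lt_of_le_of_lt (Finset.card_le_three) (by norm_num)
  obtain ⟨u, huT, hu⟩ := Finset.exists_mem_notMem_of_card_lt_card hlt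
  simp only [Finset.mem_insert, Finset.mem_singleton, not_or] at hu
  exact hno a b c u (hmem a hax) (hmem b hbx) (hmem c hcx) hab hac hbc
    ⟨(djb_iff u a).mpr (hT.2 u huT a haT hu.1), (djb_iff u b).mpr (hT.2 u huT b hbT hu.2.1),
      (djb_iff u c).mpr (hT.2 u huT c hcT hu.2.2)⟩

theorem arcH1 : ∀ m ∈ modelLines, (m ∩ H1).card ≤ 2 := by
  rintro m (⟨i, j, hij, rfl⟩ | ⟨T, hT, rfl⟩)
  · exact arc_sec_H1 i j hij
  · exact arc_tot_aux inr_mem_H1 no_fourth_H1 hT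

theorem arcH2 : ∀ m ∈ modelLines, (m ∩ H2).card ≤ 2 := by
  rintro m (⟨i, j, hij, rfl⟩ | ⟨T, hT, rfl⟩)
  · exact arc_sec_H2 i j hij
  · exact arc_tot_aux inr_mem_H2 no_fourth_H2 hT

/-! ### the abstract family -/

section Core
variable {X : Type*} [Fintype X] [DecidableEq X]

/-- the 21 points other than three given ones -/
abbrev Aff (p1 p2 p3 : X) := {x : X // x ≠ p1 ∧ x ≠ p2 ∧ x ≠ p3}

/-- restriction of a set to the 21 points -/
def res (p1 p2 p3 : X) (s : Finset X) : Finset (Aff p1 p2 p3) :=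
  s.subtype (fun x => x ≠ p1 ∧ x ≠ p2 ∧ x ≠ p3)

variable {p1 p2 p3 : X}

theorem mem_res {s : Finset X} {x : Aff p1 p2 p3} : x ∈ res p1 p2 p3 s ↔ (x : X) ∈ s :=
  Finset.mem_subtype

theorem res_inter (s t : Finset X) :
    res p1 p2 p3 (s ∩ t) = res p1 p2 p3 s ∩ res p1 p2 p3 t := by
  ext x
  simp only [mem_res, Finset.mem_inter]

theorem card_erase_add (s : Finset X) (a : X) :
    (s.erase a).card + (if a ∈ s then 1 else 0) = s.card := by
  by_cases h : a ∈ s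
  · rw [if_pos h, Finset.card_erase_of_mem h]
    have := Finset.card_pos.mpr ⟨a, h⟩
    omega
  · rw [if_neg h, Finset.erase_eq_of_notMem h, add_zero]

theorem card_res (h12 : p1 ≠ p2) (h13 : p1 ≠ p3) (h23 : p2 ≠ p3) (s : Finset X) :
    (res p1 p2 p3 s).card + (if p1 ∈ s then 1 else 0) + (if p2 ∈ s then 1 else 0) +
      (if p3 ∈ s then 1 else 0) = s.card := by
  have e : (res p1 p2 p3 s).card = (((s.erase p1).erase p2).erase p3).card := by
    unfold res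
    rw [Finset.card_subtype]
    congr 1
    ext x
    simp only [Finset.mem_filter, Finset.mem_erase]
    tauto
  have a1 := card_erase_add s p1
  have a2 := card_erase_add (s.erase p1) p2
  have a3 := card_erase_add ((s.erase p1).erase p2) p3
  have m2 : p2 ∈ s.erase p1 ↔ p2 ∈ s := by
    rw [Finset.mem_erase]
    exact ⟨fun h => h.2, fun h => ⟨h12.symm, h⟩⟩
  have m3 : p3 ∈ (s.erase p1).erase p2 ↔ p3 ∈ s := by
    rw [Finset.mem_erase, Finset.mem_erase]
    exact ⟨fun h => h.2.2, fun h => ⟨h23.symm, h13.symm, h⟩⟩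
  have i2 : (if p2 ∈ s.erase p1 then 1 else 0) = (if p2 ∈ s then 1 else 0) := if_congr m2 rfl rfl
  have i3 : (if p3 ∈ (s.erase p1).erase p2 then 1 else 0) = (if p3 ∈ s then 1 else 0) :=
    if_congr m3 rfl rfl
  rw [i2] at a2
  rw [i3] at a3
  rw [e]
  omega

/-- the lines: restrictions of the blocks through the three points -/
def LinesOf (𝓑 : Set (Finset X)) (p1 p2 p3 : X) : Set (Finset (Aff p1 p2 p3)) :=
  {l | ∃ b ∈ 𝓑, p1 ∈ b ∧ p2 ∈ b ∧ p3 ∈ b ∧ l = res p1 p2 p3 b}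

/-- a family of 8-sets whose members through three points form a plane of order 4, with a
block through exactly the first two of the three points -/
structure OctFam (𝓑 : Set (Finset X)) (p1 p2 p3 : X) (b0 : Finset X) : Prop where
  card24 : Fintype.card X = 24
  card8 : ∀ b ∈ 𝓑, b.card = 8
  le4 : ∀ b ∈ 𝓑, ∀ c ∈ 𝓑, b ≠ c → (b ∩ c).card ≤ 4
  ne12 : p1 ≠ p2
  ne13 : p1 ≠ p3
  ne23 : p2 ≠ p3
  plane : ∀ x y : X, x ≠ y → (x ≠ p1 ∧ x ≠ p2 ∧ x ≠ p3) → (y ≠ p1 ∧ y ≠ p2 ∧ y ≠ p3) →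
    ∃! b, b ∈ 𝓑 ∧ p1 ∈ b ∧ p2 ∈ b ∧ p3 ∈ b ∧ x ∈ b ∧ y ∈ b
  hb0 : b0 ∈ 𝓑
  h1 : p1 ∈ b0
  h2 : p2 ∈ b0
  h3 : p3 ∉ b0

variable {𝓑 : Set (Finset X)} {b0 : Finset X}

theorem OctFam.card_aff (F : OctFam 𝓑 p1 p2 p3 b0) : Fintype.card (Aff p1 p2 p3) = 21 := by
  have := card_res F.ne12 F.ne13 F.ne23 (Finset.univ : Finset X)
  rw [if_pos (Finset.mem_univ _), if_pos (Finset.mem_univ _), if_pos (Finset.mem_univ _),
    Finset.card_univ, F.card24] at this
  have e : (res p1 p2 p3 Finset.univ) = Finset.univ := by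
    ext x
    simp [mem_res]
  rw [e, Finset.card_univ] at this
  omega

theorem OctFam.steiner (F : OctFam 𝓑 p1 p2 p3 b0) :
    IsSteinerSystem 2 5 (LinesOf 𝓑 p1 p2 p3) := by
  refine ⟨?_, ?_⟩
  · rintro l ⟨b, hb, h1, h2, h3, rfl⟩
    have := card_res F.ne12 F.ne13 F.ne23 b
    rw [if_pos h1, if_pos h2, if_pos h3, F.card8 b hb] at this
    omega
  · intro s hs
    obtain ⟨x, y, hxy, rfl⟩ := Finset.card_eq_two.mp hs
    obtain ⟨b, ⟨hb, h1, h2, h3, hx, hy⟩, huniq⟩ :=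
      F.plane x y (fun e => hxy (Subtype.ext e)) x.2 y.2
    refine ⟨res p1 p2 p3 b, ⟨⟨b, hb, h1, h2, h3, rfl⟩, ?_⟩, ?_⟩
    · intro z hz
      simp only [Finset.mem_insert, Finset.mem_singleton] at hz
      rcases hz with rfl | rfl
      · exact mem_res.mpr hx
      · exact mem_res.mpr hy
    · rintro l ⟨⟨b', hb', h1', h2', h3', rfl⟩, hsub⟩
      have hx' : (x : X) ∈ b' := mem_res.mp (hsub (by simp))
      have hy' : (y : X) ∈ b' := mem_res.mp (hsub (by simp))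
      rw [huniq b' ⟨hb', h1', h2', h3', hx', hy'⟩]

/-- a block through exactly two of the three points restricts to an arc -/
theorem OctFam.arc_of_two (F : OctFam 𝓑 p1 p2 p3 b0) {b1 : Finset X} (hb1 : b1 ∈ 𝓑)
    (hpp : (p1 ∈ b1 ∧ p2 ∈ b1 ∧ p3 ∉ b1) ∨ (p1 ∈ b1 ∧ p3 ∈ b1 ∧ p2 ∉ b1)) :
    h28_IsArc (LinesOf 𝓑 p1 p2 p3) (res p1 p2 p3 b1) := by
  rintro l ⟨b, hb, h1, h2, h3, rfl⟩
  have hne : b ≠ b1 := by
    rintro rfl
    rcases hpp with ⟨-, -, a3⟩ | ⟨-, -, a2⟩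
    · exact a3 h3
    · exact a2 h2
  have hle := F.le4 b hb b1 hb1 hne
  have hc := card_res F.ne12 F.ne13 F.ne23 (b ∩ b1)
  rw [res_inter] at hc
  rcases hpp with ⟨a1, a2, a3⟩ | ⟨a1, a3, a2⟩
  · rw [if_pos (Finset.mem_inter.mpr ⟨h1, a1⟩), if_pos (Finset.mem_inter.mpr ⟨h2, a2⟩)] at hc
    omega
  · rw [if_pos (Finset.mem_inter.mpr ⟨h1, a1⟩), if_pos (Finset.mem_inter.mpr ⟨h3, a3⟩)] at hc
    omega

theorem OctFam.card_res_two (F : OctFam 𝓑 p1 p2 p3 b0) {b1 : Finset X} (hb1 : b1 ∈ 𝓑)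
    (hpp : (p1 ∈ b1 ∧ p2 ∈ b1 ∧ p3 ∉ b1) ∨ (p1 ∈ b1 ∧ p3 ∈ b1 ∧ p2 ∉ b1)) :
    (res p1 p2 p3 b1).card = 6 := by
  have hc := card_res F.ne12 F.ne13 F.ne23 b1
  rw [F.card8 b1 hb1] at hc
  rcases hpp with ⟨a1, a2, a3⟩ | ⟨a1, a3, a2⟩
  · rw [if_pos a1, if_pos a2, if_neg a3] at hc
    omega
  · rw [if_pos a1, if_neg a2, if_pos a3] at hc
    omega

/-- transfer of a block to the model -/
theorem blk_image_eq {ψ : Pt ≃ Aff p1 p2 p3} {Φ : (Pt ⊕ Fin 3) ≃ X}
    (hΦl : ∀ q, Φ (Sum.inl q) = (ψ q : X)) (hΦ0 : Φ (Sum.inr 0) = p1)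
    (hΦ1 : Φ (Sum.inr 1) = p2) (hΦ2 : Φ (Sum.inr 2) = p3) (b : Finset X) (S : Finset Pt)
    (Fs : Finset (Fin 3)) (hres : res p1 p2 p3 b = S.image ψ) (h1 : p1 ∈ b ↔ 0 ∈ Fs)
    (h2 : p2 ∈ b ↔ 1 ∈ Fs) (h3 : p3 ∈ b ↔ 2 ∈ Fs) : (blk S Fs).image Φ = b := by
  ext z
  obtain ⟨y, rfl⟩ := Φ.surjective z
  rw [Φ.injective.mem_finset_image]
  rcases y with q | i
  · rw [hΦl, ← mem_res (p1 := p1) (p2 := p2) (p3 := p3), hres, ψ.injective.mem_finset_image]
    simp [blk]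
  · have hb : (Sum.inr i : Pt ⊕ Fin 3) ∈ blk S Fs ↔ i ∈ Fs := by simp [blk]
    rw [hb]
    fin_cases i
    · rw [show Φ (Sum.inr ((fun i => i) ⟨0, by norm_num⟩)) = p1 from hΦ0]
      exact h1.symm
    · rw [show Φ (Sum.inr ((fun i => i) ⟨1, by norm_num⟩)) = p2 from hΦ1]
      exact h2.symm
    · rw [show Φ (Sum.inr ((fun i => i) ⟨2, by norm_num⟩)) = p3 from hΦ2]
      exact h3.symm

/-- the identification of the 24 points with the model, carrying the known blocks -/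
theorem OctFam.core (F : OctFam 𝓑 p1 p2 p3 b0) :
    ∃ Φ : (Pt ⊕ Fin 3) ≃ X, Φ (Sum.inr 0) = p1 ∧ Φ (Sum.inr 1) = p2 ∧ Φ (Sum.inr 2) = p3 ∧
      (∀ m ∈ modelLines, (blk m Finset.univ).image Φ ∈ 𝓑) ∧ (blk H0 {0, 1}).image Φ = b0 ∧
      ((∀ T : Finset X, T ⊆ b0 → T.card = 3 → p1 ∉ T → p2 ∉ T →
          ∃ b1 ∈ 𝓑, p1 ∈ b1 ∧ p3 ∈ b1 ∧ p2 ∉ b1 ∧ T ⊆ b1) →
        ((blk H1 {0, 2}).image Φ ∈ 𝓑 ∨ (blk H2 {0, 2}).image Φ ∈ 𝓑)) := by
  classical
  have hcard := F.card_aff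
  have hst := F.steiner
  have hH6 : (res p1 p2 p3 b0).card = 6 := F.card_res_two F.hb0 (Or.inl ⟨F.h1, F.h2, F.h3⟩)
  have harc0 : h28_IsArc (LinesOf 𝓑 p1 p2 p3) (res p1 p2 p3 b0) :=
    F.arc_of_two F.hb0 (Or.inl ⟨F.h1, F.h2, F.h3⟩)
  let e := Finset.equivFinOfCardEq hH6
  have hh := labHyp_of_arc harc0 e.symm e.symm.injective
  obtain ⟨ψ, hψ0, hψ⟩ := recognize hcard hst hh
  set h : Fin 6 → Aff p1 p2 p3 :=
    fun i => ((e.symm i : ↥(res p1 p2 p3 b0)) : Aff p1 p2 p3) with hdef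
  have hmemH : ∀ i, h i ∈ res p1 p2 p3 b0 := fun i => (e.symm i).2
  have hψ0' : ∀ i, ψ (Sum.inl i) = h i := hψ0
  have hH : res p1 p2 p3 b0 = H0.image ψ := by
    ext x
    rw [H0, Finset.image_image, Finset.mem_image]
    constructor
    · intro hx
      refine ⟨e ⟨x, hx⟩, Finset.mem_univ _, ?_⟩
      rw [Function.comp_apply, hψ0]
      simp [hdef]
    · rintro ⟨i, -, rfl⟩
      rw [Function.comp_apply, hψ0]
      exact hmemH i
  -- the bijection with the 24 points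
  let g : Pt ⊕ Fin 3 → X := Sum.elim (fun q => (ψ q : X)) ![p1, p2, p3]
  have key3 : ∀ i j : Fin 3, (![p1, p2, p3] : Fin 3 → X) i = ![p1, p2, p3] j → i = j := by
    intro i j hij
    fin_cases i <;> fin_cases j <;>
      first
        | rfl
        | exact absurd hij F.ne12
        | exact absurd hij.symm F.ne12
        | exact absurd hij F.ne13
        | exact absurd hij.symm F.ne13
        | exact absurd hij F.ne23
        | exact absurd hij.symm F.ne23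
  have hginj : Function.Injective g := by
    rintro (q | i) (q' | j) hxy
    · simp only [g, Sum.elim_inl] at hxy
      rw [ψ.injective (Subtype.ext hxy)]
    · exfalso
      simp only [g, Sum.elim_inl, Sum.elim_inr] at hxy
      have hq := (ψ q).2
      fin_cases j
      · exact hq.1 hxy
      · exact hq.2.1 hxy
      · exact hq.2.2 hxy
    · exfalso
      simp only [g, Sum.elim_inl, Sum.elim_inr] at hxy
      have hq := (ψ q').2
      fin_cases i
      · exact hq.1 hxy.symm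
      · exact hq.2.1 hxy.symm
      · exact hq.2.2 hxy.symm
    · simp only [g, Sum.elim_inr] at hxy
      rw [key3 i j hxy]
  have hgcard : Fintype.card (Pt ⊕ Fin 3) = Fintype.card X := by
    rw [F.card24]
    simp [Pt]
  let Φ : (Pt ⊕ Fin 3) ≃ X := Equiv.ofBijective g
    ((Fintype.bijective_iff_injective_and_card _).mpr ⟨hginj, hgcard⟩)
  have hΦl : ∀ q, Φ (Sum.inl q) = (ψ q : X) := fun q => rfl
  have hΦ0 : Φ (Sum.inr 0) = p1 := rfl
  have hΦ1 : Φ (Sum.inr 1) = p2 := rfl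
  have hΦ2 : Φ (Sum.inr 2) = p3 := rfl
  have hline : ∀ m ∈ modelLines, m.image ψ ∈ LinesOf 𝓑 p1 p2 p3 := fun m hm => by
    rw [← hψ]
    exact ⟨m, hm, rfl⟩
  have hlines : ∀ m ∈ modelLines, (blk m Finset.univ).image Φ ∈ 𝓑 := by
    intro m hm
    obtain ⟨b, hb, h1, h2, h3, hbl⟩ := hline m hm
    rw [blk_image_eq hΦl hΦ0 hΦ1 hΦ2 b m Finset.univ hbl.symm
      (iff_of_true h1 (Finset.mem_univ _)) (iff_of_true h2 (Finset.mem_univ _))
      (iff_of_true h3 (Finset.mem_univ _))]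
    exact hb
  have hb0' : (blk H0 {0, 1}).image Φ = b0 :=
    blk_image_eq hΦl hΦ0 hΦ1 hΦ2 b0 H0 {0, 1} hH (iff_of_true F.h1 (by decide))
      (iff_of_true F.h2 (by decide)) (iff_of_false F.h3 (by decide))
  refine ⟨Φ, hΦ0, hΦ1, hΦ2, hlines, hb0', ?_⟩
  intro hd
  have hinjX : Function.Injective (fun i => (h i : X)) := Subtype.val_injective.comp hh.inj
  have n01 : h 0 ≠ h 1 := fun e => absurd (hh.inj e) (by decide)
  have n02 : h 0 ≠ h 2 := fun e => absurd (hh.inj e) (by decide)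
  have n12 : h 1 ≠ h 2 := fun e => absurd (hh.inj e) (by decide)
  have hT3 : ({(h 0 : X), (h 1 : X), (h 2 : X)} : Finset X).card = 3 :=
    Finset.card_eq_three.mpr ⟨_, _, _, fun e => n01 (Subtype.ext e), fun e => n02 (Subtype.ext e),
      fun e => n12 (Subtype.ext e), rfl⟩
  have hTsub : ({(h 0 : X), (h 1 : X), (h 2 : X)} : Finset X) ⊆ b0 := by
    intro x hx
    simp only [Finset.mem_insert, Finset.mem_singleton] at hx
    rcases hx with rfl | rfl | rfl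
    · exact mem_res.mp (hmemH 0)
    · exact mem_res.mp (hmemH 1)
    · exact mem_res.mp (hmemH 2)
  have hp1T : p1 ∉ ({(h 0 : X), (h 1 : X), (h 2 : X)} : Finset X) := by
    intro hx
    simp only [Finset.mem_insert, Finset.mem_singleton] at hx
    rcases hx with e | e | e
    · exact (h 0).2.1 e.symm
    · exact (h 1).2.1 e.symm
    · exact (h 2).2.1 e.symm
  have hp2T : p2 ∉ ({(h 0 : X), (h 1 : X), (h 2 : X)} : Finset X) := by
    intro hx
    simp only [Finset.mem_insert, Finset.mem_singleton] at hx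
    rcases hx with e | e | e
    · exact (h 0).2.2.1 e.symm
    · exact (h 1).2.2.1 e.symm
    · exact (h 2).2.2.1 e.symm
  obtain ⟨b1, hb1, a1, a3, a2, hTb1⟩ := hd _ hTsub hT3 hp1T hp2T
  have hpp : (p1 ∈ b1 ∧ p2 ∈ b1 ∧ p3 ∉ b1) ∨ (p1 ∈ b1 ∧ p3 ∈ b1 ∧ p2 ∉ b1) := Or.inr ⟨a1, a3, a2⟩
  have hO6 := F.card_res_two hb1 hpp
  have hOarc := F.arc_of_two hb1 hpp
  have hO0 : h 0 ∈ res p1 p2 p3 b1 := mem_res.mpr (hTb1 (by simp))
  have hO1 : h 1 ∈ res p1 p2 p3 b1 := mem_res.mpr (hTb1 (by simp))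
  have hO2 : h 2 ∈ res p1 p2 p3 b1 := mem_res.mpr (hTb1 (by simp))
  have hne10 : b1 ≠ b0 := fun e => F.h3 (e ▸ a3)
  have hOne : res p1 p2 p3 b1 ≠ res p1 p2 p3 b0 := by
    intro e'
    have hle := F.le4 b1 hb1 b0 F.hb0 hne10
    have hc := card_res F.ne12 F.ne13 F.ne23 (b1 ∩ b0)
    rw [res_inter, e', Finset.inter_self, hH6, if_pos (Finset.mem_inter.mpr ⟨a1, F.h1⟩)] at hc
    omega
  obtain ⟨d, hdO, hdH⟩ : ∃ d ∈ res p1 p2 p3 b1, d ∉ res p1 p2 p3 b0 := by
    by_contra hcon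
    simp only [not_exists, not_and, not_not] at hcon
    exact hOne (Finset.eq_of_subset_of_card_le hcon (by rw [hH6, hO6]))
  obtain ⟨y, rfl⟩ := ψ.surjective d
  rcases y with i | k
  · exfalso
    apply hdH
    rw [hψ0]
    exact hmemH i
  have hdne : ∀ i, h i ≠ ψ (Sum.inr k) := fun i e => hdH (e ▸ hmemH i)
  have hS4sub : ({h 0, h 1, h 2, ψ (Sum.inr k)} : Finset (Aff p1 p2 p3)) ⊆ res p1 p2 p3 b1 := by
    intro x hx
    simp only [Finset.mem_insert, Finset.mem_singleton] at hx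
    rcases hx with rfl | rfl | rfl | rfl <;> assumption
  have hS4card : ({h 0, h 1, h 2, ψ (Sum.inr k)} : Finset (Aff p1 p2 p3)).card = 4 := by
    rw [Finset.card_insert_of_notMem, Finset.card_insert_of_notMem,
      Finset.card_insert_of_notMem, Finset.card_singleton]
    · rw [Finset.mem_singleton]
      exact hdne 2
    · simp only [Finset.mem_insert, Finset.mem_singleton, not_or]
      exact ⟨n12, hdne 1⟩
    · simp only [Finset.mem_insert, Finset.mem_singleton, not_or]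
      exact ⟨n01, n02, hdne 0⟩
  have hS4arc := hOarc.subset hS4sub
  have hno3 : ∀ l ∈ LinesOf 𝓑 p1 p2 p3, ∀ a b c : Aff p1 p2 p3, a ∈ l → b ∈ l → c ∈ l →
      a ∈ res p1 p2 p3 b1 → b ∈ res p1 p2 p3 b1 → c ∈ res p1 p2 p3 b1 → a ≠ b → a ≠ c → b ≠ c →
      False := by
    intro l hl a b c ha hb hc ha' hb' hc' hab hac hbc
    have hsub : ({a, b, c} : Finset (Aff p1 p2 p3)) ⊆ l ∩ res p1 p2 p3 b1 := by
      intro x hx
      simp only [Finset.mem_insert, Finset.mem_singleton] at hx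
      rcases hx with rfl | rfl | rfl
      · exact Finset.mem_inter.mpr ⟨ha, ha'⟩
      · exact Finset.mem_inter.mpr ⟨hb, hb'⟩
      · exact Finset.mem_inter.mpr ⟨hc, hc'⟩
    have h3 : ({a, b, c} : Finset (Aff p1 p2 p3)).card = 3 :=
      Finset.card_eq_three.mpr ⟨a, b, c, hab, hac, hbc, rfl⟩
    have := Finset.card_le_card hsub
    have := hOarc l hl
    omega
  have hsec : ∀ i j : Fin 6, i ≠ j → (Sum.inr k : Pt) ∈ secLine i j → h i ∈ res p1 p2 p3 b1 →
      h j ∈ res p1 p2 p3 b1 → False := by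
    intro i j hij hk hi hj
    have hl := hline (secLine i j) (Or.inl ⟨i, j, hij, rfl⟩)
    refine hno3 _ hl (h i) (h j) (ψ (Sum.inr k)) ?_ ?_ (Finset.mem_image_of_mem ψ hk) hi hj hdO
      (fun e => hij (hh.inj e)) (hdne i) (hdne j)
    · rw [← hψ0' i]
      exact Finset.mem_image_of_mem ψ (by simp [secLine])
    · rw [← hψ0' j]
      exact Finset.mem_image_of_mem ψ (by simp [secLine])
  have hHx : ∀ Hx : Finset Pt, Hx.card = 6 → (∀ m ∈ modelLines, (m ∩ Hx).card ≤ 2) →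
      (Sum.inl 0 : Pt) ∈ Hx → (Sum.inl 1 : Pt) ∈ Hx → (Sum.inl 2 : Pt) ∈ Hx →
      (Sum.inr k : Pt) ∈ Hx → res p1 p2 p3 b1 = Hx.image ψ := by
    intro Hx h6 harcx m0 m1 m2 mk
    have hxarc : h28_IsArc (LinesOf 𝓑 p1 p2 p3) (Hx.image ψ) := by
      intro l hl
      rw [← hψ] at hl
      obtain ⟨m, hm, rfl⟩ := hl
      show (m.image ψ ∩ Hx.image ψ).card ≤ 2
      rw [← Finset.image_inter _ _ ψ.injective, Finset.card_image_of_injective _ ψ.injective]
      exact harcx m hm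
    have hx6 : (Hx.image ψ).card = 6 := by
      rw [Finset.card_image_of_injective _ ψ.injective, h6]
    have hsub : ({h 0, h 1, h 2, ψ (Sum.inr k)} : Finset (Aff p1 p2 p3)) ⊆ Hx.image ψ := by
      intro x hx
      simp only [Finset.mem_insert, Finset.mem_singleton] at hx
      rcases hx with rfl | rfl | rfl | rfl
      · rw [← hψ0' 0]
        exact Finset.mem_image_of_mem ψ m0
      · rw [← hψ0' 1]
        exact Finset.mem_image_of_mem ψ m1
      · rw [← hψ0' 2]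
        exact Finset.mem_image_of_mem ψ m2
      · exact Finset.mem_image_of_mem ψ mk
    rw [h28_hyperoval_unique hcard hst hS4arc hS4card hOarc hO6 hS4sub,
      h28_hyperoval_unique hcard hst hS4arc hS4card hxarc hx6 hsub]
  rcases FH k with hk | hk | hk | hk | hk
  · exact (hsec 0 1 (by decide) hk hO0 hO1).elim
  · exact (hsec 0 2 (by decide) hk hO0 hO2).elim
  · exact (hsec 1 2 (by decide) hk hO1 hO2).elim
  · left
    have hres := hHx H1 H1_card arcH1 (by decide) (by decide) (by decide) hk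
    rw [blk_image_eq hΦl hΦ0 hΦ1 hΦ2 b1 H1 {0, 2} hres (iff_of_true a1 (by decide))
      (iff_of_false a2 (by decide)) (iff_of_true a3 (by decide))]
    exact hb1
  · right
    have hres := hHx H2 H2_card arcH2 (by decide) (by decide) (by decide) hk
    rw [blk_image_eq hΦl hΦ0 hΦ1 hΦ2 b1 H2 {0, 2} hres (iff_of_true a1 (by decide))
      (iff_of_false a2 (by decide)) (iff_of_true a3 (by decide))]
    exact hb1

end Core

end PlaneFour

end Cfsg.Agent.Lib.Helper28
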