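import Mathlib
import Cfsg.Prelude.Def_Sporadic_a
import Cfsg.Agent.Lib.Helper28.WittCore
import Cfsg.Agent.Lib.Helper28.M24Mask
import Cfsg.Agent.Lib.Helper28.Octads
import Cfsg.Agent.Lib.Helper4.CoSign

set_option autoImplicit false
set_option linter.unusedSectionVars false
set_option linter.unusedVariables false

/-!
Identification of an octad-like family around a plane of order 4 with the octads of the
concrete Golay code: coordinates, generating blocks and the orthogonality argument.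
-/

namespace Cfsg.Agent.Lib.Helper28

open Cfsg Cfsg.Agent.S5627 Cfsg.Agent.Lib.Helper4

namespace PlaneFour

/-- the 15 pairs of hyperoval points -/
def pairA : Fin 15 → Fin 6 := ![0, 0, 0, 0, 0, 1, 1, 1, 1, 2, 2, 2, 3, 3, 4]

/-- the 15 pairs of hyperoval points -/
def pairB : Fin 15 → Fin 6 := ![1, 2, 3, 4, 5, 2, 3, 4, 5, 3, 4, 5, 4, 5, 5]

theorem pair_ne : ∀ j : Fin 15, pairA j ≠ pairB j := by decide +kernel

/-- the 17 generating blocks in the model -/
def gens (Hx : Finset Pt) (j : Fin 17) : Finset (Pt ⊕ Fin 3) :=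
  if h : j.val < 15 then blk (secLine (pairA ⟨j.val, h⟩) (pairB ⟨j.val, h⟩)) Finset.univ
  else if j.val = 15 then blk H0 {0, 1} else blk Hx {0, 2}

/-- the coordinates as an equivalence -/
def ptEquiv : Fin 24 ≃ GolayPt := ⟨Helper4.pt, ptInv, ptInv_pt, pt_ptInv⟩

/-- coordinates of the model points in the Golay code, case 1 -/
def kfun1 : Pt ⊕ Fin 3 → Fin 24
  | Sum.inl (Sum.inl i) => (![3, 13, 14, 16, 19, 21] : Fin 6 → Fin 24) i
  | Sum.inl (Sum.inr k) => (![6, 8, 10, 2, 17, 5, 7, 18, 9, 20, 4, 11, 12, 22, 15] : Fin 15 → Fin 24) k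
  | Sum.inr i => (![23, 0, 1] : Fin 3 → Fin 24) i

/-- inverse coordinates, case 1 -/
def kinv1 : Fin 24 → Pt ⊕ Fin 3 :=
  ![Sum.inr 1, Sum.inr 2, Sum.inl (Sum.inr 3), Sum.inl (Sum.inl 0), Sum.inl (Sum.inr 10), Sum.inl (Sum.inr 5), Sum.inl (Sum.inr 0), Sum.inl (Sum.inr 6), Sum.inl (Sum.inr 1), Sum.inl (Sum.inr 8), Sum.inl (Sum.inr 2), Sum.inl (Sum.inr 11), Sum.inl (Sum.inr 12), Sum.inl (Sum.inl 1), Sum.inl (Sum.inl 2), Sum.inl (Sum.inr 14), Sum.inl (Sum.inl 3), Sum.inl (Sum.inr 4), Sum.inl (Sum.inr 7), Sum.inl (Sum.inl 4), Sum.inl (Sum.inr 9), Sum.inl (Sum.inl 5), Sum.inl (Sum.inr 13), Sum.inr 0]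

/-- the coordinate bijection, case 1 -/
def kidx1 : (Pt ⊕ Fin 3) ≃ Fin 24 := ⟨kfun1, kinv1, by decide +kernel, by decide +kernel⟩

/-- masks of the generating blocks, case 1 -/
def gmask1 : Fin 17 → ℕ :=
  ![8398155, 8536111, 8716939, 9963547, 14716939, 9465987, 12656663, 9347075, 10496547, 8505411, 13124355, 10765331, 8983587, 11731203, 11010247, 11100169, 12871690]

/-- expression of the echelon basis through the generating blocks, case 1 -/
def coef1 : Fin 12 → ℕ := ![32912, 32784, 98392, 144, 98456, 98378, 98816, 160, 1076, 180, 99877, 98432]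

set_option maxRecDepth 100000 in
theorem hmask1 : ∀ (j : Fin 17) (q : Pt ⊕ Fin 3),
    q ∈ gens H1 j ↔ (gmask1 j).testBit (kidx1 q).val = true := by decide +kernel

set_option maxRecDepth 100000 in
theorem hcoef1 : ∀ (i : Fin 12) (a : Fin 24),
    (if (hm i).testBit a.val then (1 : ZMod 2) else 0) =
      ∑ j : Fin 17, (if (coef1 i).testBit j.val then (1 : ZMod 2) else 0) *
        (if (gmask1 j).testBit a.val then 1 else 0) := by decide +kernel

/-- coordinates of the model points in the Golay code, case 2 -/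
def kfun2 : Pt ⊕ Fin 3 → Fin 24
  | Sum.inl (Sum.inl i) => (![3, 13, 14, 19, 16, 21] : Fin 6 → Fin 24) i
  | Sum.inl (Sum.inr k) => (![8, 6, 10, 17, 2, 5, 20, 4, 11, 7, 18, 9, 12, 15, 22] : Fin 15 → Fin 24) k
  | Sum.inr i => (![23, 0, 1] : Fin 3 → Fin 24) i

/-- inverse coordinates, case 2 -/
def kinv2 : Fin 24 → Pt ⊕ Fin 3 :=
  ![Sum.inr 1, Sum.inr 2, Sum.inl (Sum.inr 4), Sum.inl (Sum.inl 0), Sum.inl (Sum.inr 7), Sum.inl (Sum.inr 5), Sum.inl (Sum.inr 1), Sum.inl (Sum.inr 9), Sum.inl (Sum.inr 0), Sum.inl (Sum.inr 11), Sum.inl (Sum.inr 2), Sum.inl (Sum.inr 8), Sum.inl (Sum.inr 12), Sum.inl (Sum.inl 1), Sum.inl (Sum.inl 2), Sum.inl (Sum.inr 13), Sum.inl (Sum.inl 4), Sum.inl (Sum.inr 3), Sum.inl (Sum.inr 10), Sum.inl (Sum.inl 3), Sum.inl (Sum.inr 6), Sum.inl (Sum.inl 5), Sum.inl (Sum.inr 14), Sum.inr 0]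

/-- the coordinate bijection, case 2 -/
def kidx2 : (Pt ⊕ Fin 3) ≃ Fin 24 := ⟨kfun2, kinv2, by decide +kernel, by decide +kernel⟩

/-- masks of the generating blocks, case 2 -/
def gmask2 : Fin 17 → ℕ :=
  ![8398155, 8536111, 9963547, 8716939, 14716939, 9465987, 9347075, 12656663, 10496547, 13124355, 8505411, 10765331, 8983587, 11010247, 11731203, 11100169, 12871690]

/-- expression of the echelon basis through the generating blocks, case 2 -/
def coef2 : Fin 12 → ℕ := ![32848, 32784, 98452, 80, 98388, 98438, 99328, 96, 568, 120, 99881, 98368]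

set_option maxRecDepth 100000 in
theorem hmask2 : ∀ (j : Fin 17) (q : Pt ⊕ Fin 3),
    q ∈ gens H2 j ↔ (gmask2 j).testBit (kidx2 q).val = true := by decide +kernel

set_option maxRecDepth 100000 in
theorem hcoef2 : ∀ (i : Fin 12) (a : Fin 24),
    (if (hm i).testBit a.val then (1 : ZMod 2) else 0) =
      ∑ j : Fin 17, (if (coef2 i).testBit j.val then (1 : ZMod 2) else 0) *
        (if (gmask2 j).testBit a.val then 1 else 0) := by decide +kernel

/-- a word orthogonal to the 17 generating blocks lies in the code -/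
theorem mem_code_of_gens (gmask : Fin 17 → ℕ) (coef : Fin 12 → ℕ)
    (hcoef : ∀ (i : Fin 12) (a : Fin 24),
      (if (hm i).testBit a.val then (1 : ZMod 2) else 0) =
        ∑ j : Fin 17, (if (coef i).testBit j.val then (1 : ZMod 2) else 0) *
          (if (gmask j).testBit a.val then 1 else 0))
    (f : GolayPt → ZMod 2) (hdot : ∀ j, dot₂ (bind (maskSet (gmask j))) f = 0) :
    f ∈ golayCode := by
  have hvec_eq : ∀ i, hvec i = ∑ j : Fin 17,
      (if (coef i).testBit j.val then (1 : ZMod 2) else 0) • bind (maskSet (gmask j)) := by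
    intro i
    funext p
    obtain ⟨a, rfl⟩ := Helper4.pt_bijective.2 p
    rw [hvec_apply, Finset.sum_apply]
    simp only [Pi.smul_apply, smul_eq_mul, bind_maskSet_apply]
    exact hcoef i a
  have hdotv : ∀ i, dot₂ (hvec i) f = 0 := by
    intro i
    rw [hvec_eq i]
    unfold dot₂
    simp only [Finset.sum_apply, Pi.smul_apply, smul_eq_mul, Finset.sum_mul]
    rw [Finset.sum_comm]
    apply Finset.sum_eq_zero
    intro j _
    have h := hdot j
    unfold dot₂ at h
    simp only [mul_assoc]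
    rw [← Finset.mul_sum, h, mul_zero]
  have hall : ∀ c ∈ golayCode, dot₂ c f = 0 := by
    intro c hc
    rw [golayCode_eq_span] at hc
    induction hc using Submodule.span_induction with
    | mem x hx =>
      obtain ⟨i, rfl⟩ := hx
      exact hdotv i
    | zero => simp [dot₂]
    | add x y _ _ hx hy => rw [dot₂_add_left, hx, hy, add_zero]
    | smul a x _ hx =>
      unfold dot₂ at hx ⊢
      simp only [Pi.smul_apply, smul_eq_mul, mul_assoc]
      rw [← Finset.mul_sum, hx, mul_zero]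
  exact Cfsg.Agent.Helper4.CO.mem_code_of_orth hall

section Final
variable {X : Type*} [Fintype X] [DecidableEq X] {𝓑 : Set (Finset X)}

/-- the image of a generating block is the set with the given mask -/
theorem image_gen_eq (Φ : (Pt ⊕ Fin 3) ≃ X) (kidx : (Pt ⊕ Fin 3) ≃ Fin 24)
    (G : Finset (Pt ⊕ Fin 3)) (m : ℕ)
    (hmask : ∀ q, q ∈ G ↔ m.testBit (kidx q).val = true) :
    (G.image Φ).image (Φ.symm.trans (kidx.trans ptEquiv)) = maskSet m := by
  ext x
  rw [mem_maskSet, Finset.image_image, Finset.mem_image]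
  constructor
  · rintro ⟨q, hq, rfl⟩
    have : ptInv ((Φ.symm.trans (kidx.trans ptEquiv)) (Φ q)) = kidx q := by
      simp [ptEquiv, ptInv_pt]
    rw [Function.comp_apply, this]
    exact (hmask q).mp hq
  · intro hx
    refine ⟨kidx.symm (ptInv x), (hmask _).mpr (by simpa using hx), ?_⟩
    simp [ptEquiv, pt_ptInv]

/-- blocks meeting all generating blocks evenly are octads -/
theorem octad_of_gens (card8 : ∀ b ∈ 𝓑, b.card = 8)
    (heven : ∀ b ∈ 𝓑, ∀ c ∈ 𝓑, Even (b ∩ c).card) (Φ : (Pt ⊕ Fin 3) ≃ X)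
    (kidx : (Pt ⊕ Fin 3) ≃ Fin 24) (G : Fin 17 → Finset (Pt ⊕ Fin 3))
    (hG : ∀ j, (G j).image Φ ∈ 𝓑) (gmask : Fin 17 → ℕ)
    (hmask : ∀ j q, q ∈ G j ↔ (gmask j).testBit (kidx q).val = true) (coef : Fin 12 → ℕ)
    (hcoef : ∀ (i : Fin 12) (a : Fin 24),
      (if (hm i).testBit a.val then (1 : ZMod 2) else 0) =
        ∑ j : Fin 17, (if (coef i).testBit j.val then (1 : ZMod 2) else 0) *
          (if (gmask j).testBit a.val then 1 else 0)) :
    ∀ b ∈ 𝓑, b.image (Φ.symm.trans (kidx.trans ptEquiv)) ∈ octads := by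
  intro b hb
  have hinj : Function.Injective (Φ.symm.trans (kidx.trans ptEquiv)) := Equiv.injective _
  have hdot : ∀ j, dot₂ (bind (maskSet (gmask j)))
      (bind (b.image (Φ.symm.trans (kidx.trans ptEquiv)))) = 0 := by
    intro j
    unfold dot₂
    rw [dot_eq_card_inter, bsupp_bind, bsupp_bind, ← image_gen_eq Φ kidx (G j) (gmask j) (hmask j),
      ← Finset.image_inter _ _ hinj, Finset.card_image_of_injective _ hinj]
    exact ZMod.natCast_eq_zero_iff_even.mpr (heven _ (hG j) b hb)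
  have hmem := mem_code_of_gens gmask coef hcoef _ hdot
  rw [mem_octads_iff]
  exact ⟨hmem, by rw [Finset.card_image_of_injective _ hinj, card8 b hb]⟩

variable {p1 p2 p3 : X} {b0 : Finset X}

/-- **Main identification**: an octad-like family around a plane of order 4 with one more
known type of block is carried into the octads of the Golay code. -/
theorem OctFam.toGolay (F : OctFam 𝓑 p1 p2 p3 b0)
    (heven : ∀ b ∈ 𝓑, ∀ c ∈ 𝓑, Even (b ∩ c).card)
    (hd : ∀ T : Finset X, T ⊆ b0 → T.card = 3 → p1 ∉ T → p2 ∉ T →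
      ∃ b1 ∈ 𝓑, p1 ∈ b1 ∧ p3 ∈ b1 ∧ p2 ∉ b1 ∧ T ⊆ b1) :
    ∃ Ψ : X ≃ GolayPt, Ψ p1 = none ∧ Ψ p2 = some 0 ∧ Ψ p3 = some 1 ∧
      ∀ b ∈ 𝓑, b.image Ψ ∈ octads := by
  obtain ⟨Φ, h0, h1, h2, hlines, hb0, hx⟩ := F.core
  have hs0 : Φ.symm p1 = Sum.inr 0 := (Equiv.symm_apply_eq Φ).mpr h0.symm
  have hs1 : Φ.symm p2 = Sum.inr 1 := (Equiv.symm_apply_eq Φ).mpr h1.symm
  have hs2 : Φ.symm p3 = Sum.inr 2 := (Equiv.symm_apply_eq Φ).mpr h2.symm
  rcases hx hd with hx1 | hx2
  · refine ⟨Φ.symm.trans (kidx1.trans ptEquiv), ?_, ?_, ?_,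
      octad_of_gens F.card8 heven Φ kidx1 (gens H1) ?_ gmask1 hmask1 coef1 hcoef1⟩
    · rw [Equiv.trans_apply, hs0]
      decide +kernel
    · rw [Equiv.trans_apply, hs1]
      decide +kernel
    · rw [Equiv.trans_apply, hs2]
      decide +kernel
    · intro j
      unfold gens
      split_ifs with c1 c2
      · exact hlines _ (Or.inl ⟨_, _, pair_ne _, rfl⟩)
      · rw [hb0]
        exact F.hb0
      · exact hx1
  · refine ⟨Φ.symm.trans (kidx2.trans ptEquiv), ?_, ?_, ?_,
      octad_of_gens F.card8 heven Φ kidx2 (gens H2) ?_ gmask2 hmask2 coef2 hcoef2⟩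
    · rw [Equiv.trans_apply, hs0]
      decide +kernel
    · rw [Equiv.trans_apply, hs1]
      decide +kernel
    · rw [Equiv.trans_apply, hs2]
      decide +kernel
    · intro j
      unfold gens
      split_ifs with c1 c2
      · exact hlines _ (Or.inl ⟨_, _, pair_ne _, rfl⟩)
      · rw [hb0]
        exact F.hb0
      · exact hx2

end Final

end PlaneFour

end Cfsg.Agent.Lib.Helper28
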