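import Mathlib
import Cfsg.Prelude.Def_Sporadic_a
import Cfsg.Agent.Lib.Helper28.WittGolay
import Cfsg.Agent.Lib.Helper28.SetSysIso
import Cfsg.Agent.S0352

set_option autoImplicit false
set_option linter.unusedSectionVars false
set_option linter.unusedVariables false

/-!
Every Steiner system `S(5,8,24)` is isomorphic to the system of octads of the Golay code.
-/

namespace Cfsg.Agent.Lib.Helper28

open Cfsg PlaneFour

namespace Witt

variable {α : Type*} [Fintype α] [DecidableEq α]

theorem exists_iso_octads (hα : Fintype.card α = 24) {B : Set (Finset α)}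
    (hB : IsSteinerSystem 5 8 B) :
    ∃ Ψ : α ≃ GolayPt, (fun b : Finset α => b.image Ψ) '' B = octads := by
  classical
  have h5 : 5 ≤ (Finset.univ : Finset α).card := by
    rw [Finset.card_univ, hα]
    norm_num
  obtain ⟨s, -, hs⟩ := Finset.exists_subset_card_eq h5
  obtain ⟨b0, ⟨hb0, -⟩, -⟩ := hB.2 s hs
  have hb08 := hB.1 b0 hb0
  obtain ⟨p1, hp1, p2, hp2, h12⟩ := Finset.one_lt_card.mp (by rw [hb08]; norm_num)
  obtain ⟨p3, hp3⟩ : ∃ p3, p3 ∉ b0 := by
    by_contra hcon
    simp only [not_exists, not_not] at hcon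
    have : b0 = Finset.univ := Finset.eq_univ_iff_forall.mpr hcon
    rw [this, Finset.card_univ, hα] at hb08
    norm_num at hb08
  have h13 : p1 ≠ p3 := fun e => hp3 (e ▸ hp1)
  have h23 : p2 ≠ p3 := fun e => hp3 (e ▸ hp2)
  have hint : ∀ b ∈ B, ∀ c ∈ B, b ≠ c →
      (b ∩ c).card = 0 ∨ (b ∩ c).card = 2 ∨ (b ∩ c).card = 4 :=
    fun b hb c hc hbc => Cfsg.Agent.S0352.result hα hB hb hc hbc
  have heven : ∀ b ∈ B, ∀ c ∈ B, Even (b ∩ c).card := by
    intro b hb c hc
    by_cases hbc : b = c
    · rw [hbc, Finset.inter_self, hB.1 c hc]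
      decide
    · rcases hint b hb c hc hbc with h | h | h <;> rw [h] <;> decide
  have hle4 : ∀ b ∈ B, ∀ c ∈ B, b ≠ c → (b ∩ c).card ≤ 4 := by
    intro b hb c hc hbc
    rcases hint b hb c hc hbc with h | h | h <;> omega
  have hF : OctFam B p1 p2 p3 b0 :=
    { card24 := hα
      card8 := hB.1
      le4 := hle4
      ne12 := h12
      ne13 := h13
      ne23 := h23
      plane := by
        intro x y hxy hx hy
        have hc : ({p1, p2, p3, x, y} : Finset α).card = 5 := by
          rw [Finset.card_insert_of_notMem, Finset.card_insert_of_notMem,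
            Finset.card_insert_of_notMem, Finset.card_pair hxy]
          · simp only [Finset.mem_insert, Finset.mem_singleton, not_or]
            exact ⟨hx.2.2.symm, hy.2.2.symm⟩
          · simp only [Finset.mem_insert, Finset.mem_singleton, not_or]
            exact ⟨h23, hx.2.1.symm, hy.2.1.symm⟩
          · simp only [Finset.mem_insert, Finset.mem_singleton, not_or]
            exact ⟨h12, h13, hx.1.symm, hy.1.symm⟩
        obtain ⟨b, ⟨hb, hsb⟩, huniq⟩ := hB.2 _ hc
        refine ⟨b, ⟨hb, hsb (by simp), hsb (by simp), hsb (by simp), hsb (by simp),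
          hsb (by simp)⟩, ?_⟩
        rintro b' ⟨hb', a1, a2, a3, a4, a5⟩
        apply huniq b' ⟨hb', ?_⟩
        intro z hz
        simp only [Finset.mem_insert, Finset.mem_singleton] at hz
        rcases hz with rfl | rfl | rfl | rfl | rfl <;> assumption
      hb0 := hb0
      h1 := hp1
      h2 := hp2
      h3 := hp3 }
  have hd : ∀ T : Finset α, T ⊆ b0 → T.card = 3 → p1 ∉ T → p2 ∉ T →
      ∃ b1 ∈ B, p1 ∈ b1 ∧ p3 ∈ b1 ∧ p2 ∉ b1 ∧ T ⊆ b1 := by
    intro T hT hT3 h1T h2T
    have h3T : p3 ∉ T := fun h => hp3 (hT h)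
    have hc : (insert p1 (insert p3 T)).card = 5 := by
      rw [Finset.card_insert_of_notMem, Finset.card_insert_of_notMem h3T, hT3]
      simp only [Finset.mem_insert, not_or]
      exact ⟨h13, h1T⟩
    obtain ⟨b1, ⟨hb1, hsb⟩, -⟩ := hB.2 _ hc
    have a1 : p1 ∈ b1 := hsb (by simp)
    have a3 : p3 ∈ b1 := hsb (by simp)
    have aT : T ⊆ b1 := fun z hz => hsb (by simp [hz])
    refine ⟨b1, hb1, a1, a3, ?_, aT⟩
    intro a2
    have hne : b1 ≠ b0 := fun e => hp3 (e ▸ a3)
    have hle := hle4 b1 hb1 b0 hb0 hne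
    have hsub : insert p1 (insert p2 T) ⊆ b1 ∩ b0 := by
      intro z hz
      simp only [Finset.mem_insert] at hz
      rcases hz with rfl | rfl | hz
      · exact Finset.mem_inter.mpr ⟨a1, hp1⟩
      · exact Finset.mem_inter.mpr ⟨a2, hp2⟩
      · exact Finset.mem_inter.mpr ⟨aT hz, hT hz⟩
    have hc5 : (insert p1 (insert p2 T)).card = 5 := by
      rw [Finset.card_insert_of_notMem, Finset.card_insert_of_notMem h2T, hT3]
      simp only [Finset.mem_insert, not_or]
      exact ⟨h12, h1T⟩
    have := Finset.card_le_card hsub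
    omega
  obtain ⟨Ψ, -, -, -, hΨ⟩ := hF.toGolay heven hd
  exact ⟨Ψ, SetSys.steiner_image_eq (by norm_num) hB octads_isSteinerSystem Ψ hΨ⟩

end Witt

end Cfsg.Agent.Lib.Helper28
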