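import Mathlib

set_option autoImplicit false
set_option linter.unusedSectionVars false

/-!
Abstract extended binary Golay codes: a self-orthogonal binary code `C` of dimension 12 and minimum
weight at least 8 on 24 coordinates.  Sphere-packing argument: every coset of `C` contains either
a unique word of weight `≤ 4`, which then has weight `≤ 3`, or exactly six words of weight `≤ 4`,
all of weight 4 with pairwise disjoint supports.
-/

namespace Cfsg.Agent.Lib.Helper28

open Finset

variable {α : Type*} [Fintype α] [DecidableEq α]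

/-- the support of a binary vector -/
def bsupp (v : α → ZMod 2) : Finset α := Finset.univ.filter fun i => v i ≠ 0

theorem hammingNorm_eq_card_bsupp (v : α → ZMod 2) : hammingNorm v = (bsupp v).card := rfl

theorem zmod2_ne_zero_iff (x : ZMod 2) : x ≠ 0 ↔ x = 1 := by
  revert x; decide

theorem zmod2_add_ne_zero_iff (x y : ZMod 2) : x + y ≠ 0 ↔ ((x ≠ 0 ∧ y = 0) ∨ (x = 0 ∧ y ≠ 0)) := by
  revert x y; decide

theorem zmod2_mul_ne_zero_iff (x y : ZMod 2) : x * y ≠ 0 ↔ (x ≠ 0 ∧ y ≠ 0) := by
  revert x y; decide

theorem mem_bsupp (v : α → ZMod 2) (i : α) : i ∈ bsupp v ↔ v i ≠ 0 := by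
  simp [bsupp]

theorem bsupp_add (v w : α → ZMod 2) : bsupp (v + w) = symmDiff (bsupp v) (bsupp w) := by
  ext i
  simp only [mem_bsupp, Finset.mem_symmDiff, Pi.add_apply, zmod2_add_ne_zero_iff, not_not]
  tauto

theorem bsupp_sub (v w : α → ZMod 2) : bsupp (v - w) = symmDiff (bsupp v) (bsupp w) := by
  have : v - w = v + w := by
    ext i
    simp only [Pi.sub_apply, Pi.add_apply]
    generalize v i = x
    generalize w i = y
    revert x y; decide
  rw [this, bsupp_add]

theorem sub_eq_add_zmod2 (v w : α → ZMod 2) : v - w = v + w := by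
  ext i
  simp only [Pi.sub_apply, Pi.add_apply]
  generalize v i = x
  generalize w i = y
  revert x y; decide

theorem card_symmDiff_add (A B : Finset α) :
    (symmDiff A B).card + 2 * (A ∩ B).card = A.card + B.card := by
  have h1 : symmDiff A B = (A \ B) ∪ (B \ A) := rfl
  have hd : Disjoint (A \ B) (B \ A) := by
    rw [Finset.disjoint_left]
    intro x hx hx'
    simp only [Finset.mem_sdiff] at hx hx'
    exact hx.2 hx'.1
  rw [h1, Finset.card_union_of_disjoint hd]
  have e1 := Finset.card_sdiff_add_card_inter A B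
  have e2 := Finset.card_sdiff_add_card_inter B A
  rw [Finset.inter_comm B A] at e2
  omega

theorem hammingNorm_add (v w : α → ZMod 2) :
    hammingNorm (v + w) + 2 * (bsupp v ∩ bsupp w).card = hammingNorm v + hammingNorm w := by
  rw [hammingNorm_eq_card_bsupp, hammingNorm_eq_card_bsupp, hammingNorm_eq_card_bsupp, bsupp_add]
  exact card_symmDiff_add _ _

theorem dot_eq_card_inter (v w : α → ZMod 2) :
    ∑ i, v i * w i = ((bsupp v ∩ bsupp w).card : ZMod 2) := by
  have h1 : ∀ i, v i * w i = if i ∈ bsupp v ∩ bsupp w then 1 else 0 := by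
    intro i
    simp only [Finset.mem_inter, mem_bsupp]
    generalize v i = x
    generalize w i = y
    revert x y; decide
  simp_rw [h1]
  rw [Finset.sum_ite_mem, Finset.univ_inter, Finset.sum_const, nsmul_eq_mul, mul_one]

/-- the indicator vector of a set of coordinates -/
def bind (S : Finset α) : α → ZMod 2 := fun i => if i ∈ S then 1 else 0

theorem bsupp_bind (S : Finset α) : bsupp (bind S) = S := by
  ext i
  simp only [mem_bsupp, bind]
  by_cases h : i ∈ S <;> simp [h]

theorem bind_bsupp (v : α → ZMod 2) : bind (bsupp v) = v := by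
  ext i
  simp only [bind, mem_bsupp]
  generalize v i = x
  revert x; decide

/-- binary vectors correspond to subsets of the coordinates -/
def bsuppEquiv : (α → ZMod 2) ≃ Finset α where
  toFun := bsupp
  invFun := bind
  left_inv := bind_bsupp
  right_inv := bsupp_bind

theorem bsupp_injective : Function.Injective (bsupp : (α → ZMod 2) → Finset α) :=
  bsuppEquiv.injective

theorem card_weight_eq (k : ℕ) :
    (Finset.univ.filter fun v : α → ZMod 2 => hammingNorm v = k).card = (Fintype.card α).choose k := by
  rw [← Finset.card_univ (α := α), ← Finset.card_powersetCard k (Finset.univ : Finset α)]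
  apply Finset.card_bij (fun v _ => bsupp v)
  · intro v hv
    simp only [Finset.mem_filter, Finset.mem_univ, true_and] at hv
    rw [Finset.mem_powersetCard]
    exact ⟨Finset.subset_univ _, hv⟩
  · intro v _ w _ h
    exact bsupp_injective h
  · intro S hS
    rw [Finset.mem_powersetCard] at hS
    refine ⟨bind S, ?_, bsupp_bind S⟩
    simp only [Finset.mem_filter, Finset.mem_univ, true_and]
    rw [hammingNorm_eq_card_bsupp, bsupp_bind]; exact hS.2


/-! ### Abstract Golay codes -/

/-- an abstract extended binary Golay code on 24 coordinates -/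
structure IsGolayLike (C : Submodule (ZMod 2) (α → ZMod 2)) : Prop where
  card24 : Fintype.card α = 24
  dim : Module.finrank (ZMod 2) C = 12
  orth : ∀ v ∈ C, ∀ w ∈ C, ∑ i, v i * w i = 0
  minw : ∀ w ∈ C, w ≠ 0 → 8 ≤ hammingNorm w

variable {C : Submodule (ZMod 2) (α → ZMod 2)}

/-- two distinct light words in the same coset have weight 4 and disjoint supports -/
theorem IsGolayLike.light_pair (hC : IsGolayLike C) (u u' : α → ZMod 2) (hu : hammingNorm u ≤ 4)
    (hu' : hammingNorm u' ≤ 4) (hd : u - u' ∈ C) (hne : u ≠ u') :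
    hammingNorm u = 4 ∧ hammingNorm u' = 4 ∧ Disjoint (bsupp u) (bsupp u') := by
  have h0 : u - u' ≠ 0 := sub_ne_zero.mpr hne
  have h8 := hC.minw _ hd h0
  rw [sub_eq_add_zmod2] at h8
  have hadd := hammingNorm_add u u'
  have hi : (bsupp u ∩ bsupp u').card = 0 := by omega
  refine ⟨by omega, by omega, ?_⟩
  rw [Finset.disjoint_iff_inter_eq_empty]
  exact Finset.card_eq_zero.mp hi

open Classical in
/-- the light words (weight at most 4) in the coset of `w` -/
noncomputable def lightCoset (C : Submodule (ZMod 2) (α → ZMod 2)) (w : α → ZMod 2) :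
    Finset (α → ZMod 2) :=
  Finset.univ.filter fun u => hammingNorm u ≤ 4 ∧ u - w ∈ C

theorem mem_lightCoset (w u : α → ZMod 2) :
    u ∈ lightCoset C w ↔ hammingNorm u ≤ 4 ∧ u - w ∈ C := by
  classical
  simp [lightCoset]

/-- weight used in the sphere-packing count -/
def lightWeight (u : α → ZMod 2) : ℕ := if hammingNorm u ≤ 3 then 6 else 1

theorem IsGolayLike.lightCoset_diff (u u' w : α → ZMod 2) (hu : u ∈ lightCoset C w)
    (hu' : u' ∈ lightCoset C w) : u - u' ∈ C := by
  rw [mem_lightCoset] at hu hu'
  have : u - u' = (u - w) - (u' - w) := by abel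
  rw [this]
  exact C.sub_mem hu.2 hu'.2

theorem IsGolayLike.lightCoset_eq_singleton (hC : IsGolayLike C) (w u0 : α → ZMod 2)
    (hu0 : u0 ∈ lightCoset C w) (h3 : hammingNorm u0 ≤ 3) : lightCoset C w = {u0} := by
  ext u
  rw [Finset.mem_singleton]
  constructor
  · intro hu
    by_contra hne
    have := hC.light_pair u u0 ((mem_lightCoset w u).mp hu).1 ((mem_lightCoset w u0).mp hu0).1
      (IsGolayLike.lightCoset_diff u u0 w hu hu0) hne
    omega
  · rintro rfl; exact hu0

theorem IsGolayLike.lightCoset_card_le (hC : IsGolayLike C) (w : α → ZMod 2)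
    (h4 : ∀ u ∈ lightCoset C w, ¬ hammingNorm u ≤ 3) : (lightCoset C w).card ≤ 6 := by
  have hdis : ∀ u ∈ lightCoset C w, ∀ u' ∈ lightCoset C w, u ≠ u' → Disjoint (bsupp u) (bsupp u') := by
    intro u hu u' hu' hne
    exact (hC.light_pair u u' ((mem_lightCoset w u).mp hu).1 ((mem_lightCoset w u').mp hu').1
      (IsGolayLike.lightCoset_diff u u' w hu hu') hne).2.2
  have hcard := Finset.card_biUnion hdis
  have h4' : ∀ u ∈ lightCoset C w, (bsupp u).card = 4 := by
    intro u hu
    have h1 := ((mem_lightCoset w u).mp hu).1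
    have h2 := h4 u hu
    rw [hammingNorm_eq_card_bsupp] at h1 h2
    omega
  rw [Finset.sum_congr rfl h4', Finset.sum_const, smul_eq_mul] at hcard
  have hle : ((lightCoset C w).biUnion bsupp).card ≤ 24 := by
    rw [← hC.card24]
    exact Finset.card_le_univ _
  omega

theorem IsGolayLike.sum_lightWeight_le (hC : IsGolayLike C) (w : α → ZMod 2) :
    ∑ u ∈ lightCoset C w, lightWeight u ≤ 6 := by
  by_cases h : ∃ u0 ∈ lightCoset C w, hammingNorm u0 ≤ 3
  · obtain ⟨u0, hu0, h3⟩ := h
    rw [hC.lightCoset_eq_singleton w u0 hu0 h3, Finset.sum_singleton, lightWeight, if_pos h3]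
  · push Not at h
    have h4 : ∀ u ∈ lightCoset C w, ¬ hammingNorm u ≤ 3 := fun u hu => by have := h u hu; omega
    have : ∀ u ∈ lightCoset C w, lightWeight u = 1 := by
      intro u hu
      rw [lightWeight, if_neg (h4 u hu)]
    rw [Finset.sum_congr rfl this, Finset.sum_const, smul_eq_mul, mul_one]
    exact hC.lightCoset_card_le w h4

theorem IsGolayLike.card_code (hC : IsGolayLike C) : Nat.card C = 2 ^ 12 := by
  rw [Module.natCard_eq_pow_finrank (K := ZMod 2), hC.dim, Nat.card_zmod]

open Classical in
theorem IsGolayLike.card_translate (hC : IsGolayLike C) (u : α → ZMod 2) :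
    (Finset.univ.filter fun w : α → ZMod 2 => u - w ∈ C).card = 2 ^ 12 := by
  rw [← hC.card_code, Nat.card_eq_fintype_card, ← Fintype.card_coe]
  apply Fintype.card_congr
  refine ⟨fun w => ⟨u - w.1, (Finset.mem_filter.mp w.2).2⟩,
    fun c => ⟨u - c.1, Finset.mem_filter.mpr ⟨Finset.mem_univ _, by
      have : u - (u - c.1) = c.1 := by abel
      rw [this]; exact c.2⟩⟩, ?_, ?_⟩
  · intro w; apply Subtype.ext; simp
  · intro c; apply Subtype.ext; simp

theorem sum_lightWeight_total (h24 : Fintype.card α = 24) :
    ∑ u ∈ Finset.univ.filter (fun u : α → ZMod 2 => hammingNorm u ≤ 4), lightWeight u = 24576 := by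
  have hmaps : ∀ u ∈ Finset.univ.filter (fun u : α → ZMod 2 => hammingNorm u ≤ 4),
      hammingNorm u ∈ Finset.range 5 := by
    intro u hu
    simp only [Finset.mem_filter, Finset.mem_univ, true_and] at hu
    rw [Finset.mem_range]; omega
  rw [← Finset.sum_fiberwise_of_maps_to hmaps]
  have hinner : ∀ k ∈ Finset.range 5,
      ∑ u ∈ (Finset.univ.filter (fun u : α → ZMod 2 => hammingNorm u ≤ 4)).filter
        (fun u => hammingNorm u = k), lightWeight u =
      (Nat.choose 24 k) * (if k ≤ 3 then 6 else 1) := by
    intro k hk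
    rw [Finset.mem_range] at hk
    have e : (Finset.univ.filter (fun u : α → ZMod 2 => hammingNorm u ≤ 4)).filter
        (fun u => hammingNorm u = k) = Finset.univ.filter (fun u : α → ZMod 2 => hammingNorm u = k) := by
      ext u
      simp only [Finset.mem_filter, Finset.mem_univ, true_and]
      constructor
      · exact fun h => h.2
      · intro h; exact ⟨by omega, h⟩
    rw [e]
    have : ∀ u ∈ Finset.univ.filter (fun u : α → ZMod 2 => hammingNorm u = k),
        lightWeight u = if k ≤ 3 then 6 else 1 := by
      intro u hu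
      simp only [Finset.mem_filter, Finset.mem_univ, true_and] at hu
      rw [lightWeight, hu]
    rw [Finset.sum_congr rfl this, Finset.sum_const, card_weight_eq, h24, smul_eq_mul]
  rw [Finset.sum_congr rfl hinner]
  decide

/-- **Sphere packing**: in every coset the light words have total weight exactly 6. -/
theorem IsGolayLike.sum_lightWeight_eq (hC : IsGolayLike C) (w : α → ZMod 2) :
    ∑ u ∈ lightCoset C w, lightWeight u = 6 := by
  classical
  have htotal : ∑ w : α → ZMod 2, ∑ u ∈ lightCoset C w, lightWeight u =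
      ∑ _w : α → ZMod 2, 6 := by
    have hcomm : ∑ w : α → ZMod 2, ∑ u ∈ lightCoset C w, lightWeight u =
        ∑ u ∈ Finset.univ.filter (fun u : α → ZMod 2 => hammingNorm u ≤ 4),
          ∑ _w ∈ Finset.univ.filter (fun w : α → ZMod 2 => u - w ∈ C), lightWeight u := by
      apply Finset.sum_comm'
      intro w u
      simp only [Finset.mem_univ, true_and, mem_lightCoset, Finset.mem_filter, and_comm]
    rw [hcomm]
    have : ∀ u ∈ Finset.univ.filter (fun u : α → ZMod 2 => hammingNorm u ≤ 4),
        ∑ _w ∈ Finset.univ.filter (fun w : α → ZMod 2 => u - w ∈ C), lightWeight u =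
          2 ^ 12 * lightWeight u := by
      intro u _
      rw [Finset.sum_const, hC.card_translate u, smul_eq_mul]
    rw [Finset.sum_congr rfl this, ← Finset.mul_sum, sum_lightWeight_total hC.card24,
      Finset.sum_const, Finset.card_univ, Fintype.card_fun, hC.card24, ZMod.card, smul_eq_mul]
    norm_num
  have := (Finset.sum_eq_sum_iff_of_le (fun w _ => hC.sum_lightWeight_le w)).mp htotal
  exact this w (Finset.mem_univ w)

/-- structure of the light words in a coset -/
theorem IsGolayLike.lightCoset_structure (hC : IsGolayLike C) (w : α → ZMod 2) :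
    (∃ u0, lightCoset C w = {u0} ∧ hammingNorm u0 ≤ 3) ∨
    ((lightCoset C w).card = 6 ∧ (∀ u ∈ lightCoset C w, hammingNorm u = 4) ∧
      ∀ u ∈ lightCoset C w, ∀ u' ∈ lightCoset C w, u ≠ u' → Disjoint (bsupp u) (bsupp u')) := by
  by_cases h : ∃ u0 ∈ lightCoset C w, hammingNorm u0 ≤ 3
  · obtain ⟨u0, hu0, h3⟩ := h
    exact Or.inl ⟨u0, hC.lightCoset_eq_singleton w u0 hu0 h3, h3⟩
  · right
    push Not at h
    have h4 : ∀ u ∈ lightCoset C w, ¬ hammingNorm u ≤ 3 := fun u hu => by have := h u hu; omega
    have h1 : ∀ u ∈ lightCoset C w, lightWeight u = 1 := by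
      intro u hu
      rw [lightWeight, if_neg (h4 u hu)]
    have hsum := hC.sum_lightWeight_eq w
    rw [Finset.sum_congr rfl h1, Finset.sum_const, smul_eq_mul, mul_one] at hsum
    refine ⟨hsum, ?_, ?_⟩
    · intro u hu
      have := ((mem_lightCoset w u).mp hu).1
      have := h4 u hu
      omega
    · intro u hu u' hu' hne
      exact (hC.light_pair u u' ((mem_lightCoset w u).mp hu).1 ((mem_lightCoset w u').mp hu').1
        (IsGolayLike.lightCoset_diff u u' w hu hu') hne).2.2


/-- every 5-set lies in the support of a word of weight 8 -/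
theorem IsGolayLike.exists_octad (hC : IsGolayLike C) (s : Finset α) (hs : s.card = 5) :
    ∃ c ∈ C, hammingNorm c = 8 ∧ s ⊆ bsupp c := by
  have hne : s.Nonempty := by
    rw [← Finset.card_pos]; omega
  obtain ⟨x, hx⟩ := hne
  set T := s.erase x with hT
  have hTcard : T.card = 4 := by rw [hT, Finset.card_erase_of_mem hx, hs]
  have hxT : x ∉ T := Finset.notMem_erase x s
  set w := bind T with hw
  have hwl : w ∈ lightCoset C w := by
    rw [mem_lightCoset]
    refine ⟨?_, ?_⟩
    · rw [hammingNorm_eq_card_bsupp, hw, bsupp_bind, hTcard]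
    · rw [sub_self]; exact C.zero_mem
  rcases hC.lightCoset_structure w with ⟨u0, hu0, h3⟩ | ⟨h6, h4, hdis⟩
  · exfalso
    rw [hu0, Finset.mem_singleton] at hwl
    rw [← hwl, hammingNorm_eq_card_bsupp, hw, bsupp_bind, hTcard] at h3
    omega
  · -- the six supports cover everything
    have hcard := Finset.card_biUnion hdis
    have h4' : ∀ u ∈ lightCoset C w, (bsupp u).card = 4 := fun u hu => by
      rw [← hammingNorm_eq_card_bsupp]; exact h4 u hu
    rw [Finset.sum_congr rfl h4', Finset.sum_const, smul_eq_mul, h6] at hcard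
    have huniv : (lightCoset C w).biUnion bsupp = Finset.univ := by
      apply Finset.eq_univ_of_card
      rw [hcard, hC.card24]
    have hxU : x ∈ (lightCoset C w).biUnion bsupp := by rw [huniv]; exact Finset.mem_univ x
    rw [Finset.mem_biUnion] at hxU
    obtain ⟨u, hu, hxu⟩ := hxU
    have hune : u ≠ w := by
      intro h
      rw [h, hw, bsupp_bind] at hxu
      exact hxT hxu
    have hdisj := hdis u hu w hwl hune
    refine ⟨u - w, IsGolayLike.lightCoset_diff u w w hu hwl, ?_, ?_⟩
    · have hadd := hammingNorm_add u w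
      rw [sub_eq_add_zmod2]
      have hi : (bsupp u ∩ bsupp w).card = 0 := by
        rw [Finset.card_eq_zero, ← Finset.disjoint_iff_inter_eq_empty]; exact hdisj
      have h1 := h4 u hu
      have h2 := h4 w hwl
      omega
    · rw [bsupp_sub]
      intro y hy
      rw [Finset.mem_symmDiff]
      by_cases hyx : y = x
      · subst hyx
        left
        refine ⟨hxu, ?_⟩
        rw [hw, bsupp_bind]; exact hxT
      · right
        have hyT : y ∈ T := Finset.mem_erase.mpr ⟨hyx, hy⟩
        have hyw : y ∈ bsupp w := by rw [hw, bsupp_bind]; exact hyT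
        exact ⟨hyw, fun hyu => (Finset.disjoint_left.mp hdisj) hyu hyw⟩

/-- two words of weight 8 whose supports share five points are equal -/
theorem IsGolayLike.octad_unique (hC : IsGolayLike C) (c c' : α → ZMod 2) (hc : c ∈ C) (hc' : c' ∈ C)
    (h8 : hammingNorm c = 8) (h8' : hammingNorm c' = 8) (s : Finset α) (hs : 5 ≤ s.card)
    (hsc : s ⊆ bsupp c) (hsc' : s ⊆ bsupp c') : c = c' := by
  by_contra hne
  have h0 : c - c' ≠ 0 := sub_ne_zero.mpr hne
  have hmin := hC.minw _ (C.sub_mem hc hc') h0
  rw [sub_eq_add_zmod2] at hmin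
  have hadd := hammingNorm_add c c'
  have hsub : s ⊆ bsupp c ∩ bsupp c' := Finset.subset_inter hsc hsc'
  have := Finset.card_le_card hsub
  omega

/-- the intersection of the supports of two code words is even -/
theorem IsGolayLike.even_inter (hC : IsGolayLike C) (c c' : α → ZMod 2) (hc : c ∈ C) (hc' : c' ∈ C) :
    Even (bsupp c ∩ bsupp c').card := by
  have h := hC.orth c hc c' hc'
  rw [dot_eq_card_inter] at h
  rw [← ZMod.natCast_eq_zero_iff_even]
  exact h

/-- the code is spanned by its words of weight 8 -/
theorem IsGolayLike.span_octads (hC : IsGolayLike C) :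
    Submodule.span (ZMod 2) {w : α → ZMod 2 | w ∈ C ∧ hammingNorm w = 8} = C := by
  apply le_antisymm
  · rw [Submodule.span_le]
    intro w hw
    exact hw.1
  · intro c hc
    -- strong induction on the weight
    have key : ∀ n : ℕ, ∀ c ∈ C, hammingNorm c ≤ n →
        c ∈ Submodule.span (ZMod 2) {w : α → ZMod 2 | w ∈ C ∧ hammingNorm w = 8} := by
      intro n
      induction n using Nat.strong_induction_on with
      | _ n ih =>
        intro c hc hn
        by_cases hc0 : c = 0
        · rw [hc0]; exact Submodule.zero_mem _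
        have h8 := hC.minw c hc hc0
        by_cases h8' : hammingNorm c = 8
        · exact Submodule.subset_span ⟨hc, h8'⟩
        -- pick 5 points of the support
        have h5 : 5 ≤ (bsupp c).card := by rw [← hammingNorm_eq_card_bsupp]; omega
        obtain ⟨s, hsc, hs⟩ := Finset.exists_subset_card_eq h5
        obtain ⟨o, ho, ho8, hso⟩ := hC.exists_octad s hs
        have hev := hC.even_inter c o hc ho
        have hsub : s ⊆ bsupp c ∩ bsupp o := Finset.subset_inter hsc hso
        have hle := Finset.card_le_card hsub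
        have h6 : 6 ≤ (bsupp c ∩ bsupp o).card := by
          obtain ⟨k, hk⟩ := hev
          omega
        have hadd := hammingNorm_add c o
        have hlt : hammingNorm (c + o) < n := by omega
        have hmem := ih (hammingNorm (c + o)) hlt (c + o) (C.add_mem hc ho) le_rfl
        have hoS : o ∈ Submodule.span (ZMod 2) {w : α → ZMod 2 | w ∈ C ∧ hammingNorm w = 8} :=
          Submodule.subset_span ⟨ho, ho8⟩
        have : c = (c + o) - o := by abel
        rw [this]
        exact Submodule.sub_mem _ hmem hoS
    exact key _ c hc le_rfl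

/-- an abstract Golay code is doubly even -/
theorem IsGolayLike.doubly_even (hC : IsGolayLike C) : ∀ w ∈ C, 4 ∣ hammingNorm w := by
  intro w hw
  rw [← hC.span_octads] at hw
  have key : ∀ w ∈ Submodule.span (ZMod 2) {w : α → ZMod 2 | w ∈ C ∧ hammingNorm w = 8},
      w ∈ C ∧ 4 ∣ hammingNorm w := by
    intro w hw
    induction hw using Submodule.span_induction with
    | mem x hx => exact ⟨hx.1, by rw [hx.2]; norm_num⟩
    | zero => exact ⟨C.zero_mem, by simp⟩
    | add x y _ _ hx hy =>
      refine ⟨C.add_mem hx.1 hy.1, ?_⟩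
      have hadd := hammingNorm_add x y
      obtain ⟨k, hk⟩ := hC.even_inter x y hx.1 hy.1
      obtain ⟨a, ha⟩ := hx.2
      obtain ⟨b, hb⟩ := hy.2
      omega
    | smul a x _ hx =>
      have ha : a = 0 ∨ a = 1 := by revert a; decide
      rcases ha with rfl | rfl
      · rw [zero_smul]; exact ⟨C.zero_mem, by simp⟩
      · rw [one_smul]; exact hx
  exact (key w hw).2

end Cfsg.Agent.Lib.Helper28
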