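import Mathlib
import Cfsg.Prelude.Def_Sporadic_a
import Cfsg.Agent.Lib.Helper28.Witt24
import Cfsg.Agent.S5622

set_option autoImplicit false
set_option linter.unusedSectionVars false
set_option linter.unusedVariables false

/-!
Uniqueness of the extended binary Golay code up to coordinate permutations.
-/

namespace Cfsg.Agent.Lib.Helper28

open Cfsg

namespace Witt

section
variable {α β : Type*} [Fintype α] [DecidableEq α] [Fintype β] [DecidableEq β]

theorem bsupp_comp (c : α → ZMod 2) (e : β ≃ α) :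
    bsupp (fun i => c (e i)) = (bsupp c).image e.symm := by
  ext i
  rw [mem_bsupp, Finset.mem_image]
  constructor
  · intro h
    exact ⟨e i, (mem_bsupp c (e i)).mpr h, e.symm_apply_apply i⟩
  · rintro ⟨a, ha, rfl⟩
    rw [e.apply_symm_apply]
    exact (mem_bsupp c a).mp ha

/-- a coordinate change mapping the octads of an abstract Golay code into a code maps the whole
code into it -/
theorem comp_mem_of_octads {C : Submodule (ZMod 2) (α → ZMod 2)}
    {D : Submodule (ZMod 2) (β → ZMod 2)} (hC : IsGolayLike C) (e : β ≃ α)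
    (h : ∀ c ∈ C, hammingNorm c = 8 → (fun i => c (e i)) ∈ D) :
    ∀ c ∈ C, (fun i => c (e i)) ∈ D := by
  intro c hc
  rw [← hC.span_octads] at hc
  induction hc using Submodule.span_induction with
  | mem x hx => exact h x hx.1 hx.2
  | zero => exact D.zero_mem
  | add x y _ _ hx hy => exact D.add_mem hx hy
  | smul a x _ hx => exact D.smul_mem a hx

end

/-- **Uniqueness of the Golay code.** -/
theorem golayLike_equiv (C : Submodule (ZMod 2) (Fin 24 → ZMod 2)) (hC : IsGolayLike C) :
    ∃ e : Fin 24 ≃ GolayPt, ∀ w : GolayPt → ZMod 2,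
      w ∈ golayCode ↔ (fun i => w (e i)) ∈ C := by
  have hB : IsSteinerSystem 5 8 (wordsOfWeight (C : Set (Fin 24 → ZMod 2)) 8) :=
    (Cfsg.Agent.S5622.result C hC.dim hC.orth hC.minw).2
  obtain ⟨Ψ, hΨ⟩ := exists_iso_octads (by simp) hB
  have hsupp : ∀ v : Fin 24 → ZMod 2, support₂ v = bsupp v := fun v => rfl
  have h1 : ∀ c ∈ golayCode, (fun i => c (Ψ i)) ∈ C := by
    apply comp_mem_of_octads golayCode_isGolayLike Ψ
    intro c hc h8
    have ho : bsupp c ∈ octads := by
      rw [mem_octads_iff]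
      exact ⟨by rw [bind_bsupp]; exact hc, by rw [← hammingNorm_eq_card_bsupp]; exact h8⟩
    rw [← hΨ] at ho
    obtain ⟨b, ⟨⟨v, hv, rfl⟩, -⟩, hb⟩ := ho
    have hb' : (bsupp v).image Ψ = bsupp c := hb
    have : (fun i => c (Ψ i)) = v := by
      apply bsupp_injective
      rw [bsupp_comp, ← hb', Finset.image_image, Equiv.symm_comp_self, Finset.image_id]
    rw [this]
    exact hv
  have h2 : ∀ c ∈ C, (fun i => c (Ψ.symm i)) ∈ golayCode := by
    apply comp_mem_of_octads hC Ψ.symm
    intro c hc h8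
    have hb : bsupp c ∈ wordsOfWeight (C : Set (Fin 24 → ZMod 2)) 8 :=
      ⟨⟨c, hc, rfl⟩, by rw [← hammingNorm_eq_card_bsupp]; exact h8⟩
    have ho : (bsupp c).image Ψ ∈ octads := by
      rw [← hΨ]
      exact ⟨_, hb, rfl⟩
    have hmem := ((mem_octads_iff _).mp ho).1
    have : (fun i => c (Ψ.symm i)) = bind ((bsupp c).image Ψ) := by
      apply bsupp_injective
      rw [bsupp_comp, bsupp_bind, Equiv.symm_symm]
    rw [this]
    exact hmem
  refine ⟨Ψ, fun w => ⟨h1 w, fun hw => ?_⟩⟩
  have := h2 _ hw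
  simpa using this

end Witt

end Cfsg.Agent.Lib.Helper28
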