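import Mathlib
import Cfsg.Prelude.Def_GeometricClasses
import Cfsg.Agent.Lib.Helper15.Witt1

/-!
# Even orthogonal rows, type calculus TC11 (helper7's skeleton `notes/OETypeSkel_helper7.lean.txt`)

`K` a quadratic field of matrices, adjoint-closed for `polar Q`, acting by similarities of the non-degenerate quadratic form `Q`
on `F^ι`, `|ι| = 2m`, `F` finite.  Then `Q` is of plus type iff `m` is even.

Proof.  Take a `K`-invariant totally singular subspace `U` of dimension `2d` with `d` maximal (`K w` is a totally singular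
`K`-invariant plane for every singular `w ≠ 0`).  Every singular vector of `U^⊥` lies in `U` (else `U + K w` is bigger), so `Q` is
anisotropic on a complement of `U` in `U^⊥`, which therefore has dimension `2m - 4d ≤ 2` (Chevalley-Warning).  So `m = 2d`
(plus type, `U` is a totally singular half) or `m = 2d + 1`; in the latter case a totally singular `T` of dimension `m` would give
`dim (T ∩ U) = dim (T ∩ U^⊥) = dim (T + U)^⊥ = dim (T ∩ U) + 1`.
-/

set_option autoImplicit false

namespace Cfsg.Agent.Lib.Helper28.OETypeTC11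

open Matrix Cfsg Cfsg.Geo QuadraticMap Module

variable {F : Type*} [Field F] {ι : Type} [Fintype ι] [DecidableEq ι] {Q : (ι → F) → F}

/-- the quadratic function as a Mathlib quadratic form -/
def qf (Q : (ι → F) → F) (hQ : IsNondegenerateQuadraticForm Q) : QuadraticForm F (ι → F) where
  toFun := Q
  toFun_smul := fun a x => by rw [hQ.smul, smul_eq_mul, pow_two]
  exists_companion' := ⟨LinearMap.mk₂ F (QuadraticMap.polar Q) hQ.polar_bilinear.add_left
    (fun c x v => by rw [hQ.polar_bilinear.smul_left, smul_eq_mul]) hQ.polar_bilinear.add_right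
    (fun c v x => by rw [hQ.polar_bilinear.smul_right, smul_eq_mul]), fun x y => by
      rw [LinearMap.mk₂_apply]
      unfold QuadraticMap.polar
      ring⟩

theorem qf_apply (hQ : IsNondegenerateQuadraticForm Q) (v : ι → F) : qf Q hQ v = Q v := rfl

theorem bf_apply (hQ : IsNondegenerateQuadraticForm Q) (u v : ι → F) :
    polarBilin (qf Q hQ) u v = polar Q u v := rfl

theorem qf_nondeg (hQ : IsNondegenerateQuadraticForm Q) : (polarBilin (qf Q hQ)).Nondegenerate := by
  constructor
  · intro x hx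
    by_contra hne
    obtain ⟨y, hy⟩ := (hQ.nondegenerate x hne).2
    exact hy (hx y)
  · intro y hy
    by_contra hne
    obtain ⟨x, hx⟩ := (hQ.nondegenerate y hne).1
    exact hx (hy x)

theorem Q_add' (Q : (ι → F) → F) (u v : ι → F) : Q (u + v) = Q u + Q v + polar Q u v := by
  unfold polar; ring

/-- the orthogonal complement for the polar form -/
def orth (hQ : IsNondegenerateQuadraticForm Q) (U : Submodule F (ι → F)) : Submodule F (ι → F) :=
  LinearMap.BilinForm.orthogonal (polarBilin (qf Q hQ)) U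

theorem mem_orth (hQ : IsNondegenerateQuadraticForm Q) {U : Submodule F (ι → F)} {w : ι → F} :
    w ∈ orth hQ U ↔ ∀ n ∈ U, polar Q n w = 0 := Iff.rfl

theorem orth_le (hQ : IsNondegenerateQuadraticForm Q) {U U' : Submodule F (ι → F)} (h : U ≤ U') :
    orth hQ U' ≤ orth hQ U := fun _ hx n hn => hx n (h hn)

section field
variable (K : Subalgebra F (Matrix ι ι F))

/-- `k ↦ k w` on `K` -/
def lineMap (w : ι → F) : ↥K →ₗ[F] (ι → F) where
  toFun k := (k : Matrix ι ι F) *ᵥ w
  map_add' a b := by simp [Matrix.add_mulVec]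
  map_smul' c a := by simp [Matrix.smul_mulVec]

/-- the `K`-line `K w` -/
def line (w : ι → F) : Submodule F (ι → F) := LinearMap.range (lineMap K w)

theorem mem_line {w x : ι → F} : x ∈ line K w ↔ ∃ k ∈ K, x = k *ᵥ w := by
  constructor
  · rintro ⟨k, rfl⟩
    exact ⟨k.1, k.2, rfl⟩
  · rintro ⟨k, hk, rfl⟩
    exact ⟨⟨k, hk⟩, rfl⟩

theorem lineMap_injective (hK : IsFieldSubalgebra 2 K) {w : ι → F} (hw : w ≠ 0) :
    Function.Injective (lineMap K w) := by
  rw [injective_iff_map_eq_zero]
  intro k hk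
  by_contra hk0
  have hk1 : (k : Matrix ι ι F) ≠ 0 := fun h => hk0 (Subtype.ext h)
  obtain ⟨y, hy, hxy⟩ := hK.inv k.1 k.2 hk1
  have hyx : y * (k : Matrix ι ι F) = 1 := by rw [hK.comm y hy k.1 k.2, hxy]
  apply hw
  have h1 : (k : Matrix ι ι F) *ᵥ w = 0 := hk
  calc w = (1 : Matrix ι ι F) *ᵥ w := (Matrix.one_mulVec w).symm
    _ = y *ᵥ ((k : Matrix ι ι F) *ᵥ w) := by rw [Matrix.mulVec_mulVec, hyx]
    _ = 0 := by rw [h1, Matrix.mulVec_zero]

theorem finrank_line (hK : IsFieldSubalgebra 2 K) {w : ι → F} (hw : w ≠ 0) :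
    finrank F (line K w) = 2 := by
  rw [line, LinearMap.finrank_range_of_inj (lineMap_injective K hK hw), hK.finrank_eq]

/-- `K`-invariance of an `F`-subspace -/
def KInv (U : Submodule F (ι → F)) : Prop := ∀ k ∈ K, ∀ u ∈ U, k *ᵥ u ∈ U

theorem kinv_sup_line {U : Submodule F (ι → F)} (hU : KInv K U) (w : ι → F) : KInv K (U ⊔ line K w) := by
  intro k hk x hx
  obtain ⟨u, hu, l, hl, rfl⟩ := Submodule.mem_sup.mp hx
  obtain ⟨k', hk', rfl⟩ := (mem_line K).mp hl
  rw [Matrix.mulVec_add]
  refine Submodule.add_mem_sup (hU k hk u hu) ?_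
  rw [Matrix.mulVec_mulVec]
  exact (mem_line K).mpr ⟨k * k', K.mul_mem hk hk', rfl⟩

theorem inf_line_eq_bot (hK : IsFieldSubalgebra 2 K) {U : Submodule F (ι → F)} (hU : KInv K U) {w : ι → F}
    (hw : w ∉ U) : U ⊓ line K w = ⊥ := by
  rw [eq_bot_iff]
  intro x hx
  obtain ⟨hxU, hxl⟩ := Submodule.mem_inf.mp hx
  obtain ⟨k, hk, rfl⟩ := (mem_line K).mp hxl
  by_cases hk0 : k = 0
  · rw [hk0, Matrix.zero_mulVec]; exact Submodule.zero_mem _
  · exfalso
    obtain ⟨y, hy, hxy⟩ := hK.inv k hk hk0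
    have hyx : y * k = 1 := by rw [hK.comm y hy k hk, hxy]
    apply hw
    have : w = y *ᵥ (k *ᵥ w) := by rw [Matrix.mulVec_mulVec, hyx, Matrix.one_mulVec]
    rw [this]
    exact hU y hy _ hxU

theorem finrank_sup_line (hK : IsFieldSubalgebra 2 K) {U : Submodule F (ι → F)} (hU : KInv K U) {w : ι → F}
    (hw : w ∉ U) : finrank F ↥(U ⊔ line K w) = finrank F U + 2 := by
  have hw0 : w ≠ 0 := fun h => hw (h ▸ Submodule.zero_mem _)
  have h := Submodule.finrank_sup_add_finrank_inf_eq U (line K w)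
  rw [inf_line_eq_bot K hK hU hw, finrank_bot, add_zero, finrank_line K hK hw0] at h
  exact h

theorem ts_sup_line (hQ : IsNondegenerateQuadraticForm Q) (hac : IsAdjointClosedFor (polar Q) K)
    (hsim : ∀ k ∈ K, ∃ c : F, ∀ v : ι → F, Q (k *ᵥ v) = c * Q v)
    {U : Submodule F (ι → F)} (hU : KInv K U) (hts : IsTotallySingularQuad Q U) {w : ι → F}
    (hwU : w ∈ orth hQ U) (hw : Q w = 0) :
    IsTotallySingularQuad Q (U ⊔ line K w) := by
  intro x hx
  obtain ⟨u, hu, l, hl, rfl⟩ := Submodule.mem_sup.mp hx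
  obtain ⟨k, hk, rfl⟩ := (mem_line K).mp hl
  obtain ⟨c, hc⟩ := hsim k hk
  obtain ⟨k', hk', hadj⟩ := hac k hk
  rw [Q_add' Q, hts u hu, hc w, hw, mul_zero, add_zero, zero_add, polar_comm, hadj, polar_comm]
  exact (mem_orth hQ).mp hwU (k' *ᵥ u) (hU k' hk' u hu)

end field

section main
variable [Fintype F]

theorem ts_le_orthogonal (hQ : IsNondegenerateQuadraticForm Q) {U : Submodule F (ι → F)}
    (hts : IsTotallySingularQuad Q U) : U ≤ orth hQ U := by
  intro x hx
  rw [mem_orth]
  intro n hn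
  unfold polar
  rw [hts _ (U.add_mem hn hx), hts n hn, hts x hx]
  ring

theorem finrank_orth (hQ : IsNondegenerateQuadraticForm Q) (U : Submodule F (ι → F)) :
    finrank F ↥(orth hQ U) = Fintype.card ι - finrank F U := by
  rw [orth, LinearMap.BilinForm.finrank_orthogonal (qf_nondeg hQ), Module.finrank_fintype_fun_eq_card]

theorem finrank_le_card (U : Submodule F (ι → F)) : finrank F U ≤ Fintype.card ι := by
  have := Submodule.finrank_le U
  rwa [Module.finrank_fintype_fun_eq_card] at this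

/-- a maximal `K`-invariant totally singular subspace -/
theorem exists_max (hQ : IsNondegenerateQuadraticForm Q) (m : ℕ) (hcard : Fintype.card ι = 2 * m)
    (K : Subalgebra F (Matrix ι ι F)) (hK : IsFieldSubalgebra 2 K) (hac : IsAdjointClosedFor (polar Q) K)
    (hsim : ∀ k ∈ K, ∃ c : F, ∀ v : ι → F, Q (k *ᵥ v) = c * Q v) :
    ∃ (d : ℕ) (U : Submodule F (ι → F)), IsTotallySingularQuad Q U ∧ finrank F U = 2 * d ∧
      ∀ w, w ∈ orth hQ U → Q w = 0 → w ∈ U := by
  classical
  let P : ℕ → Prop := fun d => ∃ U : Submodule F (ι → F), KInv K U ∧ IsTotallySingularQuad Q U ∧ finrank F U = 2 * d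
  have hP0 : P 0 := ⟨⊥, fun k _ u hu => by
      rw [(Submodule.mem_bot F).mp hu, Matrix.mulVec_zero]; exact Submodule.zero_mem _,
    fun w hw => by
      rw [(Submodule.mem_bot F).mp hw]
      have := hQ.smul 0 (0 : ι → F)
      simpa using this, by simp⟩
  have hbound : ∀ d, P d → d ≤ m := by
    rintro d ⟨U, -, hts, hdim⟩
    have h1 := Submodule.finrank_mono (ts_le_orthogonal hQ hts)
    rw [finrank_orth hQ U, hcard, hdim] at h1
    omega
  have hd : P (Nat.findGreatest P m) := Nat.findGreatest_spec (Nat.zero_le m) hP0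
  have hmax : ∀ d', P d' → d' ≤ Nat.findGreatest P m := fun d' h => Nat.le_findGreatest (hbound d' h) h
  obtain ⟨U, hUK, hts, hdim⟩ := hd
  refine ⟨Nat.findGreatest P m, U, hts, hdim, ?_⟩
  intro w hwU hw
  by_contra hwn
  have hP1 : P (Nat.findGreatest P m + 1) :=
    ⟨U ⊔ line K w, kinv_sup_line K hUK w, ts_sup_line K hQ hac hsim hUK hts hwU hw, by
      rw [finrank_sup_line K hK hUK hwn, hdim]; ring⟩
  have := hmax _ hP1
  omega

/-- anisotropic complement has dimension at most two -/
theorem codim_le_two (hQ : IsNondegenerateQuadraticForm Q) {U : Submodule F (ι → F)}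
    (hts : IsTotallySingularQuad Q U)
    (hmax : ∀ w, w ∈ orth hQ U → Q w = 0 → w ∈ U) :
    Fintype.card ι - finrank F U ≤ finrank F U + 2 := by
  set W := orth hQ U with hW
  have hUW : U ≤ W := ts_le_orthogonal hQ hts
  obtain ⟨C0, hC0⟩ := Submodule.exists_isCompl U
  set C := C0 ⊓ W with hC
  have hsup : U ⊔ C = W := by
    rw [hC, ← sup_inf_assoc_of_le C0 hUW, hC0.sup_eq_top, top_inf_eq]
  have hinf : U ⊓ C = ⊥ := by
    rw [hC, ← inf_assoc, hC0.inf_eq_bot, bot_inf_eq]
  have hdim := Submodule.finrank_sup_add_finrank_inf_eq U C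
  rw [hsup, hinf, finrank_bot, add_zero, hW, finrank_orth hQ U] at hdim
  have hC2 : finrank F C ≤ 2 := by
    by_contra h3
    have h3' : 3 ≤ finrank F C := by omega
    obtain ⟨x, hx0, hx⟩ := Cfsg.Agent.Lib.Helper15.exists_singular_of_three_le_finrank
      ((qf Q hQ).comp C.subtype) h3'
    have hxQ : Q (x : ι → F) = 0 := hx
    have hxW : (x : ι → F) ∈ W := (Submodule.mem_inf.mp x.2).2
    have hxU : (x : ι → F) ∈ U := hmax _ hxW hxQ
    have : (x : ι → F) ∈ U ⊓ C := Submodule.mem_inf.mpr ⟨hxU, x.2⟩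
    rw [hinf, Submodule.mem_bot] at this
    exact hx0 (Subtype.ext this)
  omega

theorem orth_sup (hQ : IsNondegenerateQuadraticForm Q) (T U : Submodule F (ι → F)) :
    orth hQ (T ⊔ U) =
      orth hQ T ⊓ orth hQ U := by
  apply le_antisymm
  · exact le_inf (orth_le hQ le_sup_left) (orth_le hQ le_sup_right)
  · intro x hx
    obtain ⟨hxT, hxU⟩ := Submodule.mem_inf.mp hx
    rw [mem_orth] at hxT hxU ⊢
    intro n hn
    obtain ⟨t, ht, u, hu, rfl⟩ := Submodule.mem_sup.mp hn
    rw [hQ.polar_bilinear.add_left, hxT t ht, hxU u hu, add_zero]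

/-- **TC11** -/
theorem isPlusTypeOn_top_iff_of_unitaryField (hQ : IsNondegenerateQuadraticForm Q) (m : ℕ) (hcard : Fintype.card ι = 2 * m)
    (K : Subalgebra F (Matrix ι ι F)) (hK : IsFieldSubalgebra 2 K) (hac : IsAdjointClosedFor (polar Q) K)
    (hnsa : ¬ IsSelfAdjointFor (polar Q) K) (hsim : ∀ k ∈ K, ∃ c : F, ∀ v : ι → F, Q (k *ᵥ v) = c * Q v) :
    IsPlusTypeOn Q ⊤ ↔ Even m := by
  obtain ⟨d, U, hts, hdim, hmax⟩ := exists_max hQ m hcard K hK hac hsim
  have h1 := codim_le_two hQ hts hmax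
  have h2 := Submodule.finrank_mono (ts_le_orthogonal hQ hts)
  rw [finrank_orth hQ U] at h2
  rw [hcard, hdim] at h1 h2
  have hm : m = 2 * d ∨ m = 2 * d + 1 := by omega
  constructor
  · rintro ⟨T, -, hT, hTdim⟩
    rw [finrank_top, Module.finrank_fintype_fun_eq_card, hcard] at hTdim
    rcases hm with hm | hm
    · exact ⟨d, by omega⟩
    · exfalso
      have hTm : finrank F T = m := by omega
      have hTo : orth hQ T = T := by
        symm
        apply Submodule.eq_of_le_of_finrank_eq (ts_le_orthogonal hQ hT)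
        rw [finrank_orth hQ T, hcard, hTm]; omega
      have hUW : U ≤ orth hQ U := ts_le_orthogonal hQ hts
      have heq : T ⊓ orth hQ U = T ⊓ U := by
        apply le_antisymm
        · intro x hx
          obtain ⟨hxT, hxW⟩ := Submodule.mem_inf.mp hx
          exact Submodule.mem_inf.mpr ⟨hxT, hmax x hxW (hT x hxT)⟩
        · exact inf_le_inf_left T hUW
      have h3 := finrank_orth hQ (T ⊔ U)
      rw [orth_sup hQ T U, hTo, heq, hcard] at h3
      have h4 := Submodule.finrank_sup_add_finrank_inf_eq T U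
      rw [hTm, hdim] at h4
      have h5 := finrank_le_card (F := F) (T ⊔ U)
      rw [hcard] at h5
      omega
  · rintro ⟨j, hj⟩
    rcases hm with hm | hm
    · refine ⟨U, le_top, hts, ?_⟩
      rw [finrank_top, Module.finrank_fintype_fun_eq_card, hcard, hdim, hm]
    · omega

end main

end Cfsg.Agent.Lib.Helper28.OETypeTC11
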