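import Mathlib
import Cfsg.Prelude.Def_GeometricClasses
import Cfsg.Agent.Lib.Helper14.OEReducible
import Cfsg.Agent.Lib.Helper28.OETypeTC11

/-!
# Plus rows S5847 / S5871 (helper13's piece list): piece F1 (helper28)

`q` even, `K` a self-adjoint field of matrices of degree `r` for the polar form of the non-degenerate quadratic form `Q` on `F^n`:
then `2r ∣ n`.  Proof: every `k ∈ K` is a square `s²`, so `B(k x, x) = B(s x, s x) = 0`; a maximal `K`-invariant totally isotropic
subspace `U` (dimension `r d`, built from `K`-lines) satisfies `U^⊥ = U`, so `n = 2 r d`.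
-/

set_option autoImplicit false

namespace Cfsg.Agent.Lib.Helper28.OEPlus

open Matrix Cfsg Cfsg.Geo Module QuadraticMap
open Cfsg.Agent.Lib.Helper28.OETypeTC11

variable {F : Type*} [Field F] {ι : Type} [Fintype ι] [DecidableEq ι] {Q : (ι → F) → F}

section lines
variable (K : Subalgebra F (Matrix ι ι F)) {r : ℕ}

theorem lineMap_injective_r (hK : IsFieldSubalgebra r K) {w : ι → F} (hw : w ≠ 0) :
    Function.Injective (lineMap K w) := by
  rw [injective_iff_map_eq_zero]
  intro k hk
  by_contra hk0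
  have hk1 : (k : Matrix ι ι F) ≠ 0 := fun h => hk0 (Subtype.ext h)
  obtain ⟨y, hy, hxy⟩ := hK.inv k.1 k.2 hk1
  have hyx : y * (k : Matrix ι ι F) = 1 := by rw [hK.comm y hy k.1 k.2, hxy]
  apply hw
  have h1 : (k : Matrix ι ι F) *ᵥ w = 0 := hk
  calc w = (1 : Matrix ι ι F) *ᵥ w := (Matrix.one_mulVec w).symm
    _ = y *ᵥ ((k : Matrix ι ι F) *ᵥ w) := by rw [Matrix.mulVec_mulVec, hyx]
    _ = 0 := by rw [h1, Matrix.mulVec_zero]

theorem finrank_line_r (hK : IsFieldSubalgebra r K) {w : ι → F} (hw : w ≠ 0) :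
    finrank F (line K w) = r := by
  rw [line, LinearMap.finrank_range_of_inj (lineMap_injective_r K hK hw), hK.finrank_eq]

theorem inf_line_eq_bot_r (hK : IsFieldSubalgebra r K) {U : Submodule F (ι → F)} (hU : KInv K U) {w : ι → F}
    (hw : w ∉ U) : U ⊓ line K w = ⊥ := by
  rw [eq_bot_iff]
  intro x hx
  obtain ⟨hxU, hxl⟩ := Submodule.mem_inf.mp hx
  obtain ⟨k, hk, rfl⟩ := (mem_line K).mp hxl
  by_cases hk0 : k = 0
  · rw [hk0, Matrix.zero_mulVec]; exact Submodule.zero_mem _
  · exfalso
    obtain ⟨y, hy, hxy⟩ := hK.inv k hk hk0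
    have hyx : y * k = 1 := by rw [hK.comm y hy k hk, hxy]
    apply hw
    have : w = y *ᵥ (k *ᵥ w) := by rw [Matrix.mulVec_mulVec, hyx, Matrix.one_mulVec]
    rw [this]
    exact hU y hy _ hxU

theorem finrank_sup_line_r (hK : IsFieldSubalgebra r K) {U : Submodule F (ι → F)} (hU : KInv K U) {w : ι → F}
    (hw : w ∉ U) : finrank F ↥(U ⊔ line K w) = finrank F U + r := by
  have hw0 : w ≠ 0 := fun h => hw (h ▸ Submodule.zero_mem _)
  have h := Submodule.finrank_sup_add_finrank_inf_eq U (line K w)
  rw [inf_line_eq_bot_r K hK hU hw, finrank_bot, add_zero, finrank_line_r K hK hw0] at h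
  exact h

/-- in characteristic 2 every element of a finite field of matrices is a square -/
theorem exists_sq [Fintype F] (h2 : (2 : F) = 0) (hK : IsFieldSubalgebra r K) (k : Matrix ι ι F) (hk : k ∈ K) :
    ∃ s ∈ K, s * s = k := by
  have hinj : Function.Injective (fun s : ↥K => s * s) := by
    intro s t hst
    have hst' : (s : Matrix ι ι F) * s = t * t := congrArg Subtype.val hst
    have hcomm : (s : Matrix ι ι F) * t = t * s := hK.comm s s.2 t t.2
    have h2' : (2 : Matrix ι ι F) = 0 := by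
      have : (2 : Matrix ι ι F) = (2 : F) • (1 : Matrix ι ι F) := by
        rw [two_smul]; norm_num
      rw [this, h2, zero_smul]
    have hz : ((s : Matrix ι ι F) - t) * (s - t) = 0 := by
      have : ((s : Matrix ι ι F) - t) * (s - t) = s * s + t * t - 2 * (s * t) := by
        rw [sub_mul, mul_sub, mul_sub, ← hcomm]; noncomm_ring
      rw [this, h2', zero_mul, sub_zero, hst']
      have : (t : Matrix ι ι F) * t + t * t = 2 * (t * t) := by rw [two_mul]
      rw [this, h2', zero_mul]
    by_contra hne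
    have hd : (s : Matrix ι ι F) - t ≠ 0 := fun h => hne (Subtype.ext (sub_eq_zero.mp h))
    obtain ⟨y, hy, hxy⟩ := hK.inv _ (K.sub_mem s.2 t.2) hd
    apply hd
    calc (s : Matrix ι ι F) - t = ((s : Matrix ι ι F) - t) * (((s : Matrix ι ι F) - t) * y) := by rw [hxy, mul_one]
      _ = (((s : Matrix ι ι F) - t) * (s - t)) * y := by rw [mul_assoc]
      _ = 0 := by rw [hz, zero_mul]
  have hsurj := Finite.injective_iff_surjective.mp hinj
  obtain ⟨s, hs⟩ := hsurj ⟨k, hk⟩
  exact ⟨s.1, s.2, congrArg Subtype.val hs⟩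

end lines

section main
variable [Fintype F]

theorem polar_self' (hQ : IsNondegenerateQuadraticForm Q) (y : ι → F) : polar Q y y = 2 * Q y := by
  have h := hQ.smul 2 y
  unfold polar
  have : y + y = (2 : F) • y := (two_smul F y).symm
  rw [this, h]; ring

/-- `B(k x, x) = 0` -/
theorem polar_mulVec_self (hQ : IsNondegenerateQuadraticForm Q) (h2 : (2 : F) = 0) {r : ℕ}
    (K : Subalgebra F (Matrix ι ι F)) (hK : IsFieldSubalgebra r K) (hsa : IsSelfAdjointFor (polar Q) K)
    (k : Matrix ι ι F) (hk : k ∈ K) (x : ι → F) : polar Q (k *ᵥ x) x = 0 := by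
  obtain ⟨s, hs, rfl⟩ := exists_sq K h2 hK k hk
  rw [← Matrix.mulVec_mulVec, hsa s hs (s *ᵥ x) x, polar_self' hQ, h2, zero_mul]

theorem selfadjoint_field_even_gen (hQ : IsNondegenerateQuadraticForm Q) (hq : ¬ Odd (Fintype.card F)) (r : ℕ)
    (K : Subalgebra F (Matrix ι ι F)) (hK : IsFieldSubalgebra r K)
    (hsa : IsSelfAdjointFor (polar Q) K) : 2 * r ∣ Fintype.card ι := by
  classical
  have h2 : (2 : F) = 0 := by
    by_contra h
    exact hq (Cfsg.Agent.Lib.Helper14.OEReducible.odd_card_iff_two_ne_zero.mpr h)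
  rcases Nat.eq_zero_or_pos r with hr0 | hrpos
  · -- degenerate: `K` is trivial, so the matrix ring is trivial
    subst hr0
    have hK0 := hK.finrank_eq
    have hsub : Subsingleton ↥K := Module.finrank_zero_iff.mp hK0
    have h10 : (1 : Matrix ι ι F) = 0 := by
      have := Subsingleton.elim (1 : ↥K) 0
      exact congrArg Subtype.val this
    have hcard : Fintype.card ι = 0 := by
      by_contra hne
      have : Nonempty ι := Fintype.card_pos_iff.mp (Nat.pos_of_ne_zero hne)
      obtain ⟨i⟩ := this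
      have := congrFun (congrFun h10 i) i
      simp at this
    rw [hcard]
  have halt := polar_mulVec_self hQ h2 K hK hsa
  let P : ℕ → Prop := fun d => ∃ U : Submodule F (ι → F), KInv K U ∧ (∀ u ∈ U, ∀ v ∈ U, polar Q u v = 0) ∧
    finrank F U = r * d
  have hP0 : P 0 := ⟨⊥, fun k _ u hu => by
      rw [(Submodule.mem_bot F).mp hu, Matrix.mulVec_zero]; exact Submodule.zero_mem _,
    fun u hu v _ => by
      rw [(Submodule.mem_bot F).mp hu]
      have := hQ.polar_bilinear.smul_left 0 (0 : ι → F) v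
      simpa using this, by simp⟩
  have hbound : ∀ d, P d → d ≤ Fintype.card ι := by
    rintro d ⟨U, -, -, hdim⟩
    have h1 := finrank_le_card (F := F) U
    rw [hdim] at h1
    calc d ≤ r * d := Nat.le_mul_of_pos_left d hrpos
      _ ≤ Fintype.card ι := h1
  have hd : P (Nat.findGreatest P (Fintype.card ι)) := Nat.findGreatest_spec (Nat.zero_le _) hP0
  have hmax : ∀ d', P d' → d' ≤ Nat.findGreatest P (Fintype.card ι) :=
    fun d' h => Nat.le_findGreatest (hbound d' h) h
  obtain ⟨U, hUK, hiso, hdim⟩ := hd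
  set d := Nat.findGreatest P (Fintype.card ι) with hd_def
  have hle : U ≤ orth hQ U := fun x hx n hn => hiso n hn x hx
  have hge : orth hQ U ≤ U := by
    intro x hx
    by_contra hxU
    have hx' : ∀ n ∈ U, polar Q n x = 0 := (mem_orth hQ).mp hx
    have hP1 : P (d + 1) := by
      refine ⟨U ⊔ line K x, kinv_sup_line K hUK x, ?_, by rw [finrank_sup_line_r K hK hUK hxU, hdim]; ring⟩
      intro a ha b hb
      obtain ⟨u, hu, l, hl, rfl⟩ := Submodule.mem_sup.mp ha
      obtain ⟨k, hk, rfl⟩ := (mem_line K).mp hl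
      obtain ⟨u', hu', l', hl', rfl⟩ := Submodule.mem_sup.mp hb
      obtain ⟨k', hk', rfl⟩ := (mem_line K).mp hl'
      have e1 : polar Q u (k' *ᵥ x) = 0 := by
        rw [polar_comm, hsa k' hk' x u, polar_comm]
        exact hx' _ (hUK k' hk' u hu)
      have e2 : polar Q (k *ᵥ x) u' = 0 := by
        rw [hsa k hk x u', polar_comm]
        exact hx' _ (hUK k hk u' hu')
      have e3 : polar Q (k *ᵥ x) (k' *ᵥ x) = 0 := by
        rw [hsa k hk x (k' *ᵥ x), Matrix.mulVec_mulVec, polar_comm]
        exact halt (k * k') (K.mul_mem hk hk') x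
      rw [hQ.polar_bilinear.add_left, hQ.polar_bilinear.add_right, hQ.polar_bilinear.add_right, hiso u hu u' hu',
        e1, e2, e3]
      ring
    have := hmax _ hP1
    omega
  have heq : orth hQ U = U := le_antisymm hge hle
  have h3 := finrank_orth hQ U
  rw [heq, hdim] at h3
  have h4 := finrank_le_card (F := F) U
  rw [hdim] at h4
  exact ⟨d, by rw [mul_assoc]; omega⟩

end main

section row
variable [Fintype F] {n : ℕ} {Q : (Fin n → F) → F}

/-- **F1** : `q` even, `K` a self-adjoint field of degree `r` : `2r ∣ n` -/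
theorem selfadjoint_field_even (hQ : IsNondegenerateQuadraticForm Q) (hq : ¬ Odd (Fintype.card F)) (r : ℕ)
    (K : Subalgebra F (Matrix (Fin n) (Fin n) F)) (hK : IsFieldSubalgebra r K)
    (hsa : IsSelfAdjointFor (QuadraticMap.polar Q) K) : 2 * r ∣ n := by
  have := selfadjoint_field_even_gen hQ hq r K hK hsa
  rwa [Fintype.card_fin] at this

end row

end Cfsg.Agent.Lib.Helper28.OEPlus
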