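import Mathlib
import Cfsg.Prelude.Def_GeometricClasses
import Cfsg.Agent.Lib.Helper28.OEPlusF1

/-!
# Even orthogonal rows: F2m (`field_half_minus` of helper1's skeleton) from helper17's CORE `exists_unitaryField_of_no_ts_line`

`hminus` gives the hypothesis `hno` of the CORE at once: a totally singular `K`-line `K v` has dimension `r = n / 2`.
-/

set_option autoImplicit false

namespace Cfsg.Agent.Lib.Helper28.OECorF2m

open Matrix Cfsg Cfsg.Geo Module QuadraticMap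
open Cfsg.Agent.Lib.Helper28.OETypeTC11 Cfsg.Agent.Lib.Helper28.OEPlus

variable {F : Type*} [Field F] [Fintype F] {n : ℕ}

/-- not of plus type, `n = 2r`, `K` a field of degree `r`: no `K`-line is totally singular -/
theorem no_ts_line_of_minus {Q : (Fin n → F) → F} (r : ℕ) (hn : n = 2 * r) (hminus : ¬ IsPlusTypeOn Q ⊤)
    (K : Subalgebra F (Matrix (Fin n) (Fin n) F)) (hK : IsFieldSubalgebra r K) :
    ∀ v : Fin n → F, v ≠ 0 → ∃ k ∈ K, Q (k *ᵥ v) ≠ 0 := by
  intro v hv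
  by_contra hcon
  push Not at hcon
  apply hminus
  refine ⟨line K v, le_top, ?_, ?_⟩
  · intro x hx
    obtain ⟨k, hk, rfl⟩ := (mem_line K).mp hx
    exact hcon k hk
  · rw [finrank_line_r K hK hv, finrank_top, Module.finrank_fintype_fun_eq_card, Fintype.card_fin, hn]

/-- **F2m** from the CORE (statement of helper17's msg 3758) -/
theorem field_half_minus_of_core {Q : (Fin n → F) → F}
    (core : ∀ (r : ℕ), r.Prime → Odd r → n = 2 * r → ∀ (K : Subalgebra F (Matrix (Fin n) (Fin n) F)),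
      IsFieldSubalgebra r K → IsSelfAdjointFor (polar Q) K →
      (∀ v : Fin n → F, v ≠ 0 → ∃ k ∈ K, Q (k *ᵥ v) ≠ 0) →
      ∃ K' : Subalgebra F (Matrix (Fin n) (Fin n) F), IsFieldSubalgebra 2 K' ∧ IsAdjointClosedFor (polar Q) K' ∧
        ¬ IsSelfAdjointFor (polar Q) K' ∧ (∀ k ∈ K', ∃ c : F, ∀ v : Fin n → F, Q (k *ᵥ v) = c * Q v) ∧
        subalgebraNormalizer K ⊓ isometryGroup F Q ≤ subalgebraNormalizer K')
    (r : ℕ) (hr : r.Prime) (hodd : Odd r) (hn : n = 2 * r) (hminus : ¬ IsPlusTypeOn Q ⊤)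
    (K : Subalgebra F (Matrix (Fin n) (Fin n) F)) (hK : IsFieldSubalgebra r K)
    (hsa : IsSelfAdjointFor (polar Q) K) :
    ∃ K₂ : Subalgebra F (Matrix (Fin n) (Fin n) F), IsFieldSubalgebra 2 K₂ ∧
      IsAdjointClosedFor (polar Q) K₂ ∧ ¬ IsSelfAdjointFor (polar Q) K₂ ∧
      (∀ k ∈ K₂, ∃ c : F, ∀ v : Fin n → F, Q (k *ᵥ v) = c * Q v) ∧
      subalgebraNormalizer K ⊓ isometryGroup F Q ≤ subalgebraNormalizer K₂ :=
  core r hr hodd hn K hK hsa (no_ts_line_of_minus r hn hminus K hK)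

end Cfsg.Agent.Lib.Helper28.OECorF2m
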