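import Mathlib
import Cfsg.Prelude.Def_GeometricClasses
import Cfsg.Agent.Lib.Helper13.TensSODefs

/-!
# Vocabulary for S5681 / S5709: `(O_a ⊗ O_b) ∩ Ω` is maximal in `Ω_{ab}(q)`, `q` odd  (helper28)

`V = (Fin a × Fin b → F) = U ⊗ W`; `f₁ = bf J1` on `U = F^a`, `f₂ = bf J2` on `W = F^b` are non-degenerate SYMMETRIC forms
(`OrthG`, helper13 `TensSODefs`); `Q` is a quadratic form on `V` with polar form `bf (J1 ⊗ₖ J2)` (`SetupO`).
`W` is the factor with Witt index `≥ 2`: it contains totally singular lines `π = ⟨k₁, k₂⟩` (`Ts2 J2 k₁ k₂`).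

Re-used: helper16 `TensDefs` (`pur`, `ctr`, `hyp`, `act`, `img`), helper10 `TensFund` (`pt k = U ⊗ k`), helper3 `SpTDefs`
(`bf`, `E J w w' : x ↦ f(x,w') w`, `adj`, `uni T h = 1 + T`, `Over Q M : N0 ⊓ Ω ≤ M ≤ Ω`), helper13 `TensSODefs` (`OrthG`, `IsoG`).

New here:
* `Ts2 J2 k₁ k₂`  : `k₁, k₂` span a totally singular line of `W`;
* `T2 J2 k₁ k₂ = E_{k₁,k₂} - E_{k₂,k₁}` : `w ↦ f₂(w,k₂) k₁ - f₂(w,k₁) k₂`, the nilpotent part of the long root element `ρ_π` of `Ω(W)`;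
* `nL J2 k₁ k₂ = 1 ⊗ₖ T2`  and  `yL … c = 1 + c • nL = 1 ⊗ ρ_{π,c}` : the standard root elements (quadratic, `nL * nL = 0`);
* `tW W' = U ⊗ W'` for a subspace `W' ≤ W`;  `Lp k₁ k₂ = U ⊗ ⟨k₁,k₂⟩` (totally singular, dimension `2a`) `= range nL`;
* `Vm z = ker (z + 1)` : the `(-1)`-eigenspace;  `Rg n = range n`;
* `HypE1 J2 M` : an `M`-conjugate of a standard root element lying in `N0` is conjugate by an element of `N0`;
* `HypA J2 M`  : every element of `M` mapping a standard `U ⊗ π` onto a standard `U ⊗ π'` lies in `N0`.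
-/

set_option autoImplicit false

namespace Cfsg.Agent.Lib.Helper28.OT

open Matrix Module
open Cfsg.Agent.Lib.Helper16.Tens Cfsg.Agent.Lib.Helper10.TensFund
open Cfsg.Agent.Lib.Helper3.SpT (bf E adj uni)
open Cfsg.Agent.Lib.Helper13.TensSO (OrthG IsoG)
open scoped Kronecker

variable {F : Type*} [Field F] {a b : ℕ}

/-- `k₁, k₂` span a totally singular line of `(W, bf J2)` -/
structure Ts2 (J2 : Matrix (Fin b) (Fin b) F) (k1 k2 : Fin b → F) : Prop where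
  indep : ∀ c1 c2 : F, c1 • k1 + c2 • k2 = 0 → c1 = 0 ∧ c2 = 0
  h11 : bf J2 k1 k1 = 0
  h12 : bf J2 k1 k2 = 0
  h22 : bf J2 k2 k2 = 0

/-- `w ↦ f₂(w,k₂) k₁ - f₂(w,k₁) k₂` -/
def T2 (J2 : Matrix (Fin b) (Fin b) F) (k1 k2 : Fin b → F) : Matrix (Fin b) (Fin b) F :=
  E J2 k1 k2 - E J2 k2 k1

theorem T2_mulVec (J2 : Matrix (Fin b) (Fin b) F) (k1 k2 w : Fin b → F) :
    T2 J2 k1 k2 *ᵥ w = bf J2 w k2 • k1 - bf J2 w k1 • k2 := by
  unfold T2
  rw [Matrix.sub_mulVec, Cfsg.Agent.Lib.Helper3.SpT.E_mulVec, Cfsg.Agent.Lib.Helper3.SpT.E_mulVec]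

/-- `1 ⊗ₖ T2` -/
def nL (J2 : Matrix (Fin b) (Fin b) F) (k1 k2 : Fin b → F) :
    Matrix (Fin a × Fin b) (Fin a × Fin b) F :=
  (1 : Matrix (Fin a) (Fin a) F) ⊗ₖ T2 J2 k1 k2

theorem T2_sq {J2 : Matrix (Fin b) (Fin b) F} (hJ2 : OrthG J2) {k1 k2 : Fin b → F} (h : Ts2 J2 k1 k2) :
    T2 J2 k1 k2 * T2 J2 k1 k2 = 0 := by
  unfold T2
  have h21 : bf J2 k2 k1 = 0 := by rw [hJ2.symm, h.h12]
  rw [sub_mul, mul_sub, mul_sub, Cfsg.Agent.Lib.Helper3.SpT.E_mul_E, Cfsg.Agent.Lib.Helper3.SpT.E_mul_E,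
    Cfsg.Agent.Lib.Helper3.SpT.E_mul_E, Cfsg.Agent.Lib.Helper3.SpT.E_mul_E, h.h12, h.h22, h.h11, h21]
  simp

theorem nL_sq {J2 : Matrix (Fin b) (Fin b) F} (hJ2 : OrthG J2) {k1 k2 : Fin b → F} (h : Ts2 J2 k1 k2) :
    nL (a := a) J2 k1 k2 * nL (a := a) J2 k1 k2 = 0 := by
  unfold nL
  rw [← Matrix.mul_kronecker_mul, T2_sq hJ2 h]
  simp

theorem smul_nL_sq {J2 : Matrix (Fin b) (Fin b) F} (hJ2 : OrthG J2) {k1 k2 : Fin b → F} (h : Ts2 J2 k1 k2)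
    (c : F) : (c • nL (a := a) J2 k1 k2) * (c • nL (a := a) J2 k1 k2) = 0 := by
  rw [Matrix.smul_mul, Matrix.mul_smul, nL_sq hJ2 h]
  simp

/-- the standard root element `1 ⊗ ρ_{π,c} = 1 + c • nL` -/
def yL {J2 : Matrix (Fin b) (Fin b) F} (hJ2 : OrthG J2) {k1 k2 : Fin b → F} (h : Ts2 J2 k1 k2) (c : F) :
    GL (Fin a × Fin b) F :=
  uni (c • nL (a := a) J2 k1 k2) (smul_nL_sq hJ2 h c)

theorem yL_val {J2 : Matrix (Fin b) (Fin b) F} (hJ2 : OrthG J2) {k1 k2 : Fin b → F} (h : Ts2 J2 k1 k2) (c : F) :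
    ((yL (a := a) hJ2 h c : GL (Fin a × Fin b) F) : Matrix (Fin a × Fin b) (Fin a × Fin b) F) =
      1 + c • nL (a := a) J2 k1 k2 := rfl

/-- `U ⊗ W'` -/
def tW (W' : Submodule F (Fin b → F)) : Submodule F (Fin a × Fin b → F) :=
  Submodule.span F {v | ∃ (u : Fin a → F) (w : Fin b → F), w ∈ W' ∧ v = pur u w}

theorem pur_mem_tW {W' : Submodule F (Fin b → F)} (u : Fin a → F) {w : Fin b → F} (hw : w ∈ W') :
    pur u w ∈ tW (a := a) W' :=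
  Submodule.subset_span ⟨u, w, hw, rfl⟩

theorem tW_mono {W1 W2 : Submodule F (Fin b → F)} (h : W1 ≤ W2) : tW (a := a) W1 ≤ tW (a := a) W2 := by
  apply Submodule.span_mono
  rintro v ⟨u, w, hw, rfl⟩
  exact ⟨u, w, h hw, rfl⟩

/-- the standard totally singular subspace `U ⊗ ⟨k₁,k₂⟩` -/
def Lp (k1 k2 : Fin b → F) : Submodule F (Fin a × Fin b → F) :=
  tW (a := a) (Submodule.span F {k1, k2})

/-- the `(-1)`-eigenspace of a matrix -/
def Vm {ι : Type*} [Fintype ι] [DecidableEq ι] (z : Matrix ι ι F) : Submodule F (ι → F) :=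
  LinearMap.ker (Matrix.toLin' (z + 1))

theorem mem_Vm_iff {ι : Type*} [Fintype ι] [DecidableEq ι] (z : Matrix ι ι F) (v : ι → F) :
    v ∈ Vm z ↔ z *ᵥ v = -v := by
  unfold Vm
  rw [LinearMap.mem_ker, Matrix.toLin'_apply, Matrix.add_mulVec, Matrix.one_mulVec]
  constructor
  · intro h
    exact eq_neg_of_add_eq_zero_left h
  · intro h
    rw [h]
    exact neg_add_cancel v

/-- the range of a matrix -/
def Rg {ι : Type*} [Fintype ι] [DecidableEq ι] (n : Matrix ι ι F) : Submodule F (ι → F) :=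
  LinearMap.range (Matrix.toLin' n)

theorem mem_Rg_iff {ι : Type*} [Fintype ι] [DecidableEq ι] (n : Matrix ι ι F) (v : ι → F) :
    v ∈ Rg n ↔ ∃ x, n *ᵥ x = v := by
  unfold Rg
  rw [LinearMap.mem_range]
  simp only [Matrix.toLin'_apply]

/-- the standing hypotheses -/
structure SetupO (J1 : Matrix (Fin a) (Fin a) F) (J2 : Matrix (Fin b) (Fin b) F)
    (Q : QuadraticForm F (Fin a × Fin b → F)) : Prop where
  h1 : OrthG J1
  h2 : OrthG J2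
  two : (2 : F) ≠ 0
  polar : ∀ x y, QuadraticMap.polar (⇑Q) x y = bf (J1 ⊗ₖ J2) x y

/-- an `M`-conjugate of a standard root element lies in `N0` only if the conjugating element does -/
def HypE1 (J2 : Matrix (Fin b) (Fin b) F) (M : Subgroup (GL (Fin a × Fin b) F)) : Prop :=
  ∀ h ∈ M, ∀ (k1 k2 : Fin b → F) (c : F) (y : GL (Fin a × Fin b) F), Ts2 J2 k1 k2 → c ≠ 0 →
    (y : Matrix (Fin a × Fin b) (Fin a × Fin b) F) = 1 + c • nL (a := a) J2 k1 k2 →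
    h⁻¹ * y * h ∈ Cfsg.Geo.kroneckerSubgroup a b F → h ∈ Cfsg.Geo.kroneckerSubgroup a b F

/-- every element of `M` mapping a standard `U ⊗ π` onto a standard `U ⊗ π'` lies in `N0` -/
def HypA (J2 : Matrix (Fin b) (Fin b) F) (M : Subgroup (GL (Fin a × Fin b) F)) : Prop :=
  ∀ m ∈ M, ∀ k1 k2 k1' k2' : Fin b → F, Ts2 J2 k1 k2 → Ts2 J2 k1' k2' →
    img m (Lp (a := a) k1 k2) = Lp (a := a) k1' k2' → m ∈ Cfsg.Geo.kroneckerSubgroup a b F

end Cfsg.Agent.Lib.Helper28.OT
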