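import Mathlib

/-!
# S5639 farm-out piece FO-I1: two involutions in a finite group
-/

set_option autoImplicit false

namespace Cfsg.Agent.Lib.Helper28.S5639

/-- **FO-I1**: two involutions in a finite group are conjugate inside the subgroup they generate,
or some nontrivial involution of that subgroup commutes with both. -/
theorem exists_conj_or_central {G : Type*} [Group G] [Finite G] (x t : G) (hx : x * x = 1)
    (ht : t * t = 1) :
    (∃ d ∈ Subgroup.closure ({x, t} : Set G), d * x * d⁻¹ = t) ∨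
    (∃ z ∈ Subgroup.closure ({x, t} : Set G), z ≠ 1 ∧ z * z = 1 ∧ z * x = x * z ∧ z * t = t * z) := by
  have hxi : x⁻¹ = x := inv_eq_of_mul_eq_one_left hx
  have hti : t⁻¹ = t := inv_eq_of_mul_eq_one_left ht
  have hxm : x ∈ Subgroup.closure ({x, t} : Set G) := Subgroup.subset_closure (by simp)
  have htm : t ∈ Subgroup.closure ({x, t} : Set G) := Subgroup.subset_closure (by simp)
  set γ : G := x * t with hγ
  have hγm : γ ∈ Subgroup.closure ({x, t} : Set G) := Subgroup.mul_mem _ hxm htm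
  have hγi : γ⁻¹ = t * x := by rw [hγ, mul_inv_rev, hxi, hti]
  -- x and t invert γ
  have hxg : x * γ = γ⁻¹ * x := by
    rw [hγi, hγ, ← mul_assoc, hx, one_mul, mul_assoc, hx, mul_one]
  have htg : t * γ = γ⁻¹ * t := by
    rw [hγi, hγ, mul_assoc]
  have hxγ : ∀ k : ℕ, x * γ ^ k = (γ⁻¹) ^ k * x := by
    intro k
    induction k with
    | zero => simp
    | succ k ih =>
      rw [pow_succ, ← mul_assoc, ih, mul_assoc, hxg, ← mul_assoc, ← pow_succ]
  have htγ : ∀ k : ℕ, t * γ ^ k = (γ⁻¹) ^ k * t := by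
    intro k
    induction k with
    | zero => simp
    | succ k ih =>
      rw [pow_succ, ← mul_assoc, ih, mul_assoc, htg, ← mul_assoc, ← pow_succ]
  set m := orderOf γ with hm
  have hm0 : 0 < m := orderOf_pos γ
  rcases Nat.even_or_odd' m with ⟨k, hk | hk⟩
  · -- even order: central involution
    right
    have hk0 : 0 < k := by omega
    refine ⟨γ ^ k, Subgroup.pow_mem _ hγm k, ?_, ?_, ?_, ?_⟩
    · intro h1
      have := orderOf_dvd_of_pow_eq_one h1
      rw [← hm, hk] at this
      have := Nat.le_of_dvd hk0 this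
      omega
    · rw [← pow_add, ← two_mul, ← hk, hm, pow_orderOf_eq_one]
    · -- γ^k * x = x * γ^k
      have hz2 : γ ^ k * γ ^ k = 1 := by
        rw [← pow_add, ← two_mul, ← hk, hm, pow_orderOf_eq_one]
      have hzi : (γ⁻¹) ^ k = γ ^ k := by
        rw [inv_pow]
        exact inv_eq_of_mul_eq_one_left hz2
      rw [hxγ k, hzi]
    · have hz2 : γ ^ k * γ ^ k = 1 := by
        rw [← pow_add, ← two_mul, ← hk, hm, pow_orderOf_eq_one]
      have hzi : (γ⁻¹) ^ k = γ ^ k := by
        rw [inv_pow]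
        exact inv_eq_of_mul_eq_one_left hz2
      rw [htγ k, hzi]
  · -- odd order: conjugate
    left
    refine ⟨γ ^ k, Subgroup.pow_mem _ hγm k, ?_⟩
    -- γ^k x γ^-k = γ^(2k) x = γ⁻¹ x = t
    have h1 : γ ^ k * x * (γ ^ k)⁻¹ = γ ^ k * γ ^ k * x := by
      have : x * (γ ^ k)⁻¹ = γ ^ k * x := by
        have := hxγ k
        -- x γ^k = γ^{-k} x  ⇒  x γ^{-k} = γ^k x
        have h2 : x * (γ⁻¹) ^ k = γ ^ k * x := by
          have h3 : (γ⁻¹) ^ k * x * (γ⁻¹) ^ k = x * γ ^ k * (γ⁻¹) ^ k := by rw [this]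
          rw [mul_assoc x, inv_pow, mul_inv_cancel, mul_one, ← inv_pow] at h3
          -- h3 : γ⁻¹^k * x * γ⁻¹^k = x
          calc x * (γ⁻¹) ^ k = γ ^ k * ((γ⁻¹) ^ k * x * (γ⁻¹) ^ k) := by
                rw [← mul_assoc, ← mul_assoc, inv_pow, mul_inv_cancel, one_mul]
            _ = γ ^ k * x := by rw [h3]
        rw [← inv_pow]
        exact h2
      rw [mul_assoc, this, ← mul_assoc]
    have h2 : γ ^ k * γ ^ k = γ⁻¹ := by
      have : γ ^ k * γ ^ k * γ = 1 := by
        rw [← pow_add, ← pow_succ, ← two_mul, ← hk, hm, pow_orderOf_eq_one]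
      exact eq_inv_of_mul_eq_one_left this
    rw [h1, h2, hγi, mul_assoc, hx, mul_one]

end Cfsg.Agent.Lib.Helper28.S5639
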