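import Mathlib

/-!
# S5639 farm-out pieces FO-ALG and FO-ADJ: field theory for an extension of prime degree
-/

set_option autoImplicit false

namespace Cfsg.Agent.Lib.Helper28.S5639

variable {F : Type*} [Field F]

/-- the degree of `F` over a subfield `K` with `|F| = |K| ^ r` is `r` -/
theorem finrank_eq_of_card [Finite F] (K : Subfield F) (r : ℕ)
    (hcard : Nat.card F = Nat.card K ^ r) : Module.finrank K F = r := by
  have h1 : Nat.card F = Nat.card K ^ Module.finrank K F :=
    Module.natCard_eq_pow_finrank (K := K) (V := F)
  have h2 : 2 ≤ Nat.card K := by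
    have : 1 < Nat.card K := Finite.one_lt_card
    omega
  exact Nat.pow_right_injective h2 (h1.symm.trans hcard)

/-- in an extension of prime degree, an intermediate field generated by `x ∉ K` is everything -/
theorem adjoin_eq_top_of_not_mem [Finite F] (K : Subfield F) (r : ℕ) (hr : r.Prime)
    (hcard : Nat.card F = Nat.card K ^ r) (x : F) (hx : x ∉ K) :
    IntermediateField.adjoin K ({x} : Set F) = ⊤ := by
  have hfr := finrank_eq_of_card K r hcard
  have hfd : FiniteDimensional K F := Module.Finite.of_finite
  have hdvd : Module.finrank K (IntermediateField.adjoin K ({x} : Set F)) ∣ r := by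
    rw [← hfr]
    exact Dvd.intro _ (Module.finrank_mul_finrank K (IntermediateField.adjoin K ({x} : Set F)) F)
  rcases (Nat.dvd_prime hr).mp hdvd with h1 | h1
  · exfalso
    apply hx
    have hbot : IntermediateField.adjoin K ({x} : Set F) = ⊥ :=
      IntermediateField.finrank_eq_one_iff.mp h1
    have hxm : x ∈ IntermediateField.adjoin K ({x} : Set F) :=
      IntermediateField.mem_adjoin_simple_self K x
    rw [hbot, IntermediateField.mem_bot] at hxm
    obtain ⟨k, hk⟩ := hxm
    rw [← hk]
    exact k.2
  · apply IntermediateField.eq_of_le_of_finrank_eq le_top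
    rw [h1, IntermediateField.finrank_top', hfr]

/-- **FO-ALG** -/
theorem mem_of_root [Finite F] (K : Subfield F) (r : ℕ) (hr : r.Prime)
    (hcard : Nat.card F = Nat.card K ^ r) (x : F) (f : Polynomial K) (hf : f ≠ 0)
    (hdeg : f.natDegree < r) (hroot : Polynomial.aeval x f = 0) : x ∈ K := by
  by_contra hx
  have htop := adjoin_eq_top_of_not_mem K r hr hcard x hx
  have hfr := finrank_eq_of_card K r hcard
  have hfd : FiniteDimensional K F := Module.Finite.of_finite
  have hint : IsIntegral K x := IsIntegral.of_finite K x
  have h1 : Module.finrank K (IntermediateField.adjoin K ({x} : Set F)) = (minpoly K x).natDegree :=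
    IntermediateField.adjoin.finrank hint
  rw [htop, IntermediateField.finrank_top', hfr] at h1
  have h2 : (minpoly K x).natDegree ≤ f.natDegree :=
    Polynomial.natDegree_le_of_dvd (minpoly.dvd K x hroot) hf
  omega

/-- **FO-ADJ** -/
theorem forall_mem_of_subring [Finite F] (K : Subfield F) (r : ℕ) (hr : r.Prime)
    (hcard : Nat.card F = Nat.card K ^ r) (A : Set F) (hK : ∀ k : K, (k : F) ∈ A)
    (hadd : ∀ a b, a ∈ A → b ∈ A → a + b ∈ A) (hmul : ∀ a b, a ∈ A → b ∈ A → a * b ∈ A)
    (a : F) (ha : a ∈ A) (haK : a ∉ K) : ∀ y : F, y ∈ A := by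
  intro y
  have htop := adjoin_eq_top_of_not_mem K r hr hcard a haK
  have hfd : FiniteDimensional K F := Module.Finite.of_finite
  have hint : IsAlgebraic K a := IsAlgebraic.of_finite K a
  have h1 : (IntermediateField.adjoin K ({a} : Set F)).toSubalgebra = Algebra.adjoin K {a} :=
    IntermediateField.adjoin_simple_toSubalgebra_of_isAlgebraic hint
  have hy : y ∈ Algebra.adjoin K ({a} : Set F) := by
    rw [← h1, htop]
    exact Algebra.mem_top
  induction hy using Algebra.adjoin_induction with
  | mem x hx =>
    rw [Set.mem_singleton_iff] at hx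
    rw [hx]
    exact ha
  | algebraMap k => exact hK k
  | add x y _ _ hx hy => exact hadd x y hx hy
  | mul x y _ _ hx hy => exact hmul x y hx hy

end Cfsg.Agent.Lib.Helper28.S5639
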