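import Cfsg.Agent.H26.SimpleCrit
import Cfsg.Agent.Lib.Helper10.PGroup

set_option autoImplicit false

/-!
Simplicity of the fusion system of a finite group with self-normalizing Sylow subgroups, from
data stated inside an ambient group.
-/

namespace Cfsg.Agent.Lib.Helper28

open Cfsg

/-- criterion for groups with self-normalizing Sylow subgroups -/
theorem fusion_simple_of_selfNormalizing {G : Type*} [Group G] [Finite G] {p : ℕ} [Fact p.Prime]
    (S₀ : Subgroup G) (hp : IsPGroup p S₀) (hidx : ¬ p ∣ S₀.index) (hne : S₀ ≠ ⊥)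
    (hnorm : Subgroup.normalizer (S₀ : Set G) ≤ S₀)
    (hclosed : ∀ T : Subgroup G, T ≤ S₀ →
      (∀ x ∈ T, ∀ g : G, g * x * g⁻¹ ∈ S₀ → g * x * g⁻¹ ∈ T) → T = ⊥ ∨ T = S₀)
    (S : Sylow p G) : (groupFusionSystem (S : Subgroup G)).IsSimple p := by
  have hdata : Cfsg.Agent.H26.SimpleData p S₀ {S₀} := by
    refine ⟨hne, hclosed, ?_, ?_, ?_, ?_, ?_⟩
    · intro R hR
      rw [Set.mem_singleton_iff] at hR
      rw [hR]
    · intro R hR
      rw [Set.mem_singleton_iff] at hR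
      rw [hR]
      exact Subgroup.le_normalizer
    · intro R hR
      rw [Set.mem_singleton_iff] at hR
      rw [hR]
      exact (Subgroup.centralizer_le_normalizer _).trans hnorm
    · intro R hR
      rw [Set.mem_singleton_iff] at hR
      rw [hR]
      exact ⟨1, Subgroup.one_mem _, inf_le_left⟩
    · intro g hg
      apply Subgroup.subset_closure
      simp only [Set.mem_iUnion]
      refine ⟨S₀, rfl, hg, ?_⟩
      apply Subgroup.subset_closure
      refine ⟨hg, ?_⟩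
      obtain ⟨k, hk⟩ := (IsPGroup.iff_orderOf.mp hp) ⟨g, hnorm hg⟩
      exact ⟨k, by rw [← hk, Subgroup.orderOf_mk]⟩
  exact Cfsg.Agent.H26.simple_of_simpleData_all hp hidx hdata S

/-- the data, inside an ambient group -/
structure AmbData {Ω : Type*} [Group Ω] (p : ℕ) (H S₀ : Subgroup Ω) : Prop where
  le : S₀ ≤ H
  pgroup : IsPGroup p S₀
  ne_bot : S₀ ≠ ⊥
  index : ¬ p ∣ S₀.relIndex H
  norm : ∀ n ∈ H, (∀ t ∈ S₀, n⁻¹ * t * n ∈ S₀) → n ∈ S₀
  closed : ∀ T : Subgroup Ω, T ≤ S₀ →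
    (∀ x ∈ T, ∀ g ∈ H, g * x * g⁻¹ ∈ S₀ → g * x * g⁻¹ ∈ T) → T = ⊥ ∨ T = S₀

theorem AmbData.simple {Ω : Type*} [Group Ω] {p : ℕ} [Fact p.Prime] {H S₀ : Subgroup Ω}
    [Finite H] (h : AmbData p H S₀) (S : Sylow p ↥H) :
    (groupFusionSystem (S : Subgroup ↥H)).IsSimple p := by
  apply fusion_simple_of_selfNormalizing (S₀.subgroupOf H)
  · exact h.pgroup.comap_subtype
  · exact h.index
  · intro hbot
    apply h.ne_bot
    rw [Subgroup.subgroupOf_eq_bot] at hbot
    exact (disjoint_of_le_iff_left_eq_bot h.le).mp hbot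
  · intro n hn
    rw [Subgroup.mem_normalizer_iff] at hn
    rw [Subgroup.mem_subgroupOf]
    apply h.norm n n.2
    intro t ht
    have htH : t ∈ H := h.le ht
    have h1 := hn ⟨(n : Ω)⁻¹ * t * n, H.mul_mem (H.mul_mem (H.inv_mem n.2) htH) n.2⟩
    rw [Subgroup.mem_subgroupOf, Subgroup.mem_subgroupOf] at h1
    apply h1.mpr
    show (n : Ω) * ((n : Ω)⁻¹ * t * n) * (n : Ω)⁻¹ ∈ S₀
    have e : (n : Ω) * ((n : Ω)⁻¹ * t * n) * (n : Ω)⁻¹ = t := by group
    rw [e]
    exact ht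
  · intro T hT hcl
    have h1 := h.closed (T.map H.subtype) (by
        rintro _ ⟨x, hx, rfl⟩
        exact Subgroup.mem_subgroupOf.mp (hT hx)) (by
        rintro _ ⟨x, hx, rfl⟩ g hg hgx
        refine ⟨⟨g, hg⟩ * x * ⟨g, hg⟩⁻¹, ?_, rfl⟩
        apply hcl x hx ⟨g, hg⟩
        rw [Subgroup.mem_subgroupOf]
        exact hgx)
    rcases h1 with h1 | h1
    · left
      rwa [Subgroup.map_eq_bot_iff_of_injective _ H.subtype_injective] at h1
    · right
      rw [← h1]
      exact (Subgroup.comap_map_eq_self_of_injective H.subtype_injective T).symm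

theorem mem_map_equiv_self {Ω : Type*} [Group Ω] (c : Ω ≃* Ω) (K : Subgroup Ω) (x : Ω) :
    c x ∈ K.map c.toMonoidHom ↔ x ∈ K := by
  rw [Subgroup.mem_map_equiv, MulEquiv.symm_apply_apply]

theorem AmbData.map {Ω : Type*} [Group Ω] {p : ℕ} {H S₀ : Subgroup Ω} (h : AmbData p H S₀)
    (c : Ω ≃* Ω) : AmbData p (H.map c.toMonoidHom) (S₀.map c.toMonoidHom) := by
  refine ⟨Subgroup.map_mono h.le, h.pgroup.map _, ?_, ?_, ?_, ?_⟩
  · intro hbot
    apply h.ne_bot
    rwa [Subgroup.map_eq_bot_iff_of_injective _ c.injective] at hbot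
  · rw [Subgroup.relIndex_map_map_of_injective _ _ c.injective]
    exact h.index
  · intro n hn hnt
    obtain ⟨n₀, hn₀, rfl⟩ := hn
    show c n₀ ∈ S₀.map c.toMonoidHom
    rw [mem_map_equiv_self]
    apply h.norm n₀ hn₀
    intro t ht
    have h1 := hnt (c t) ((mem_map_equiv_self c S₀ t).mpr ht)
    have e : (c.toMonoidHom n₀)⁻¹ * c t * c.toMonoidHom n₀ = c (n₀⁻¹ * t * n₀) := by
      simp
    rw [e, mem_map_equiv_self] at h1
    exact h1
  · intro T hTS hT
    have h1 : T.comap c.toMonoidHom ≤ S₀ := by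
      intro x hx
      exact (mem_map_equiv_self c S₀ x).mp (hTS hx)
    have h2 := h.closed (T.comap c.toMonoidHom) h1 (by
      intro x hx g hg hgx
      rw [Subgroup.mem_comap]
      have h3 : c.toMonoidHom (g * x * g⁻¹) = c g * c x * (c g)⁻¹ := by
        simp
      rw [h3]
      apply hT (c x) hx (c g) ((mem_map_equiv_self c H g).mpr hg)
      rw [← h3]
      exact (mem_map_equiv_self c S₀ _).mpr hgx)
    have h4 : (T.comap c.toMonoidHom).map c.toMonoidHom = T :=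
      Subgroup.map_comap_eq_self_of_surjective c.surjective T
    rcases h2 with h2 | h2
    · left
      rw [← h4, h2, Subgroup.map_bot]
    · right
      rw [← h4, h2]

/-- strongly closed subgroups, from the centre and a fusion argument -/
theorem closed_of_center {Ω : Type*} [Group Ω] {p : ℕ} [Fact p.Prime] {H S₀ : Subgroup Ω}
    [Finite S₀] (hle : S₀ ≤ H) (hp : IsPGroup p S₀) (z : Ω)
    (hcenter : ∀ s ∈ S₀, (∀ t ∈ S₀, s * t = t * s) → s = 1 ∨ s = z)
    (hgen : ∀ T : Subgroup Ω, T ≤ S₀ →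
      (∀ x ∈ T, ∀ g ∈ H, g * x * g⁻¹ ∈ S₀ → g * x * g⁻¹ ∈ T) → z ∈ T → S₀ ≤ T)
    (T : Subgroup Ω) (hTS : T ≤ S₀)
    (hT : ∀ x ∈ T, ∀ g ∈ H, g * x * g⁻¹ ∈ S₀ → g * x * g⁻¹ ∈ T) : T = ⊥ ∨ T = S₀ := by
  by_cases hbot : T = ⊥
  · exact Or.inl hbot
  right
  apply le_antisymm hTS
  apply hgen T hTS hT
  -- the normal subgroup `T` of `S₀` meets the centre
  have hnormal : (T.subgroupOf S₀).Normal := by
    constructor
    intro x hx s
    rw [Subgroup.mem_subgroupOf] at hx ⊢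
    exact hT x hx s (hle s.2) (S₀.mul_mem (S₀.mul_mem s.2 x.2) (S₀.inv_mem s.2))
  have hne : T.subgroupOf S₀ ≠ ⊥ := by
    intro h
    rw [Subgroup.subgroupOf_eq_bot] at h
    exact hbot ((disjoint_of_le_iff_left_eq_bot hTS).mp h)
  have key := Cfsg.Agent.Lib.Helper10.normal_inf_center_ne_bot hp (T.subgroupOf S₀) hne
  obtain ⟨b, hb1⟩ := (Subgroup.ne_bot_iff_exists_ne_one).mp key
  have hbm : b.1 ∈ T.subgroupOf S₀ ⊓ Subgroup.center S₀ := b.2
  rw [Subgroup.mem_inf] at hbm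
  have hbT : (b.1 : Ω) ∈ T := Subgroup.mem_subgroupOf.mp hbm.1
  have hbc : ∀ t ∈ S₀, (b.1 : Ω) * t = t * (b.1 : Ω) := by
    intro t ht
    have h1 := (Subgroup.mem_center_iff.mp hbm.2) ⟨t, ht⟩
    exact (congrArg Subtype.val h1).symm
  rcases hcenter (b.1 : Ω) b.1.2 hbc with h1 | h1
  · exfalso
    apply hb1
    apply Subtype.ext
    apply Subtype.ext
    exact h1
  · rw [← h1]
    exact hbT

end Cfsg.Agent.Lib.Helper28
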