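import Mathlib
import Cfsg.Agent.Lib.Helper12.SC3.Defs

/-!
# S1904 farm (architect helper12): shared general facts (G2), (G3), (G4) of the Blueprint  (helper28)
-/

set_option autoImplicit false

namespace Cfsg.Agent.Lib.Helper28.SC3G

open Cfsg.Agent.Lib.Helper12.SC3

variable {X : Type*} [Group X]


/-- (G4), generic form: an automorphism `φ` with `φ ^ m = 1`, `m` odd, of an abelian subgroup `B` all of whose elements have
2-power order, which fixes every element of `B` of square `1`, fixes `B` pointwise. -/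
theorem fix_of_fix_sq_one (B : Subgroup X) (hB : ∀ a ∈ B, ∀ b ∈ B, a * b = b * a)
    (h2 : ∀ b ∈ B, ∃ k : ℕ, b ^ (2 ^ k) = 1)
    (φ : MulAut X) (m : ℕ) (hm : Odd m) (hφm : φ ^ m = 1) (hinv : ∀ b ∈ B, φ b ∈ B)
    (hfix : ∀ b ∈ B, b ^ 2 = 1 → φ b = b) : ∀ b ∈ B, φ b = b := by
  have key : ∀ k : ℕ, ∀ b ∈ B, b ^ (2 ^ k) = 1 → φ b = b := by
    intro k
    induction k with
    | zero =>
      intro b _ hb1
      simp at hb1
      subst hb1
      simp
    | succ k ih =>
      intro b hb hbk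
      have hb2 : φ (b ^ 2) = b ^ 2 := by
        apply ih _ (B.pow_mem hb 2)
        rw [← pow_mul, ← pow_succ']
        exact hbk
      set t := b⁻¹ * φ b with ht
      have htB : t ∈ B := B.mul_mem (B.inv_mem hb) (hinv b hb)
      have hcomm : b⁻¹ * φ b = φ b * b⁻¹ := hB _ (B.inv_mem hb) _ (hinv b hb)
      have ht2 : t ^ 2 = 1 := by
        have : Commute b⁻¹ (φ b) := hcomm
        rw [ht, this.mul_pow, ← map_pow, hb2, inv_pow, inv_mul_cancel]
      have hφt : φ t = t := hfix t htB ht2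
      have hφb : φ b = b * t := by rw [ht]; group
      have hiter : ∀ j : ℕ, (φ ^ j) b = b * t ^ j := by
        intro j
        induction j with
        | zero => simp
        | succ j ihj =>
          rw [pow_succ', MulAut.mul_apply, ihj, map_mul, map_pow, hφt, hφb, pow_succ', mul_assoc]
      have hm' := hiter m
      rw [hφm, MulAut.one_apply] at hm'
      have htm : t ^ m = 1 := by
        have := hm'.symm
        simpa using this
      obtain ⟨r, rfl⟩ := hm
      have : t = 1 := by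
        rw [pow_succ, pow_mul, ht2, one_pow, one_mul] at htm
        exact htm
      rw [hφb, this, mul_one]
  intro b hb
  obtain ⟨k, hk⟩ := h2 b hb
  exact key k b hb hk



/-- (G2) a normal subgroup fixed pointwise by `A` is central when `[X, A] = X`. -/
theorem le_center_of_fixed (A : Subgroup (MulAut X))
    (hgen : Subgroup.closure {g : X | ∃ φ ∈ A, ∃ x : X, g = x⁻¹ * φ x} = ⊤)
    (N : Subgroup X) (hN : N.Normal) (hfix : ∀ φ ∈ A, ∀ n ∈ N, φ n = n) : N ≤ Subgroup.center X := by
  intro n hn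
  have hle : Subgroup.closure {g : X | ∃ φ ∈ A, ∃ x : X, g = x⁻¹ * φ x} ≤ Subgroup.centralizer {n} := by
    rw [Subgroup.closure_le]
    rintro g ⟨φ, hφ, x, rfl⟩
    rw [SetLike.mem_coe, Subgroup.mem_centralizer_iff]
    intro m hm
    rw [Set.mem_singleton_iff] at hm
    subst hm
    have h1 : φ (x * m * x⁻¹) = x * m * x⁻¹ := hfix φ hφ _ (hN.conj_mem m hn x)
    rw [map_mul, map_mul, hfix φ hφ m hn, map_inv] at h1
    -- φ x * m * (φ x)⁻¹ = x * m * x⁻¹
    have h2 : m * (x⁻¹ * φ x) = x⁻¹ * (x * m * x⁻¹) * φ x := by group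
    rw [h2, ← h1]; group
  rw [hgen] at hle
  rw [Subgroup.mem_center_iff]
  intro g
  have := hle (Subgroup.mem_top g)
  rw [Subgroup.mem_centralizer_iff] at this
  exact (this n rfl).symm

/-- (G3) norm-map lemma: if `K ⊴ X` is `A`-invariant with `X/K` abelian, `A` of odd order, `[X,A]=X`, and `x` has 2-power order and is
fixed by all of `A`, then `x ∈ K`. -/
theorem mem_of_fixed (A : Subgroup (MulAut X)) (hodd : Odd (Nat.card A))
    (hgen : Subgroup.closure {g : X | ∃ φ ∈ A, ∃ x : X, g = x⁻¹ * φ x} = ⊤)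
    (K : Subgroup X) (hK : K.Normal) (hinv : ∀ φ ∈ A, ∀ x ∈ K, φ x ∈ K)
    (hab : ∀ x y : X, x * y * x⁻¹ * y⁻¹ ∈ K)
    (x : X) (hx2 : ∃ k : ℕ, x ^ (2 ^ k) = 1) (hx : ∀ φ ∈ A, φ x = x) : x ∈ K := by
  classical
  have := hK
  have : Finite A := Nat.finite_of_card_ne_zero (by rcases hodd with ⟨r, hr⟩; omega)
  let _ : Fintype A := Fintype.ofFinite A
  let _ : CommGroup (X ⧸ K) :=
    { (inferInstance : Group (X ⧸ K)) with
      mul_comm := by
        intro a b
        induction a using QuotientGroup.induction_on with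
        | H a =>
          induction b using QuotientGroup.induction_on with
          | H b =>
            rw [← QuotientGroup.mk_mul, ← QuotientGroup.mk_mul, QuotientGroup.eq]
            have := hab b⁻¹ a⁻¹
            have h2 : (a * b)⁻¹ * (b * a) = b⁻¹ * a⁻¹ * b⁻¹⁻¹ * a⁻¹⁻¹ := by group
            rw [h2]; exact this }
  let f : A → (X ⧸ K →* X ⧸ K) := fun φ =>
    QuotientGroup.map K K (φ : MulAut X).toMonoidHom (fun x hx => hinv φ φ.2 x hx)
  have hf : ∀ (φ : A) (y : X), f φ (QuotientGroup.mk y) = QuotientGroup.mk ((φ : MulAut X) y) := fun φ y => rfl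
  let ν : X ⧸ K →* X ⧸ K := ∏ φ : A, f φ
  have hν : ∀ q, ν q = ∏ φ : A, f φ q := fun q => by
    simp only [ν, MonoidHom.finsetProd_apply]
  have hνf : ∀ (a : A) (y : X), ν (QuotientGroup.mk ((a : MulAut X) y)) = ν (QuotientGroup.mk y) := by
    intro a y
    rw [hν, hν]
    rw [← Equiv.prod_comp (Equiv.mulRight a) (fun φ => f φ (QuotientGroup.mk y))]
    apply Finset.prod_congr rfl
    intro φ _
    rw [hf, hf]
    rfl
  have hle : Subgroup.closure {g : X | ∃ φ ∈ A, ∃ x : X, g = x⁻¹ * φ x} ≤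
      (ν.comp (QuotientGroup.mk' K)).ker := by
    rw [Subgroup.closure_le]
    rintro g ⟨φ, hφ, y, rfl⟩
    rw [SetLike.mem_coe, MonoidHom.mem_ker, MonoidHom.comp_apply, QuotientGroup.mk'_apply,
      QuotientGroup.mk_mul, map_mul, QuotientGroup.mk_inv, map_inv]
    have := hνf ⟨φ, hφ⟩ y
    simp only at this
    rw [this, inv_mul_cancel]
  rw [hgen] at hle
  have h1 : ν (QuotientGroup.mk x) = 1 := by
    have := hle (Subgroup.mem_top x)
    rwa [MonoidHom.mem_ker] at this
  have h2 : ν (QuotientGroup.mk x) = (QuotientGroup.mk x : X ⧸ K) ^ (Nat.card A) := by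
    rw [hν]
    have : ∀ φ : A, f φ (QuotientGroup.mk x) = (QuotientGroup.mk x : X ⧸ K) := by
      intro φ
      rw [hf, hx φ φ.2]
    simp only [this, Finset.prod_const, Finset.card_univ, Nat.card_eq_fintype_card]
  obtain ⟨k, hk⟩ := hx2
  have h3 : (QuotientGroup.mk x : X ⧸ K) ^ (2 ^ k) = 1 := by
    rw [← QuotientGroup.mk_pow, hk, QuotientGroup.mk_one]
  have h4 : (QuotientGroup.mk x : X ⧸ K) ^ (Nat.card A) = 1 := by rw [← h2, h1]
  have hcop : Nat.Coprime (Nat.card A) (2 ^ k) := by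
    apply Nat.Coprime.pow_right
    exact Nat.coprime_two_right.mpr hodd
  have h5 : (QuotientGroup.mk x : X ⧸ K) = 1 := by
    have hd1 := orderOf_dvd_of_pow_eq_one h4
    have hd2 := orderOf_dvd_of_pow_eq_one h3
    have := Nat.dvd_gcd hd1 hd2
    rw [hcop] at this
    exact orderOf_eq_one_iff.mp (Nat.dvd_one.mp this)
  exact (QuotientGroup.eq_one_iff x).mp h5


/-- every element of a subgroup of odd order has odd order -/
theorem orderOf_odd_of_mem {A : Subgroup (MulAut X)} (hodd : Odd (Nat.card A)) {φ : MulAut X} (hφ : φ ∈ A) :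
    Odd (orderOf φ) := by
  have h1 : orderOf (⟨φ, hφ⟩ : A) ∣ Nat.card A := orderOf_dvd_natCard _
  rw [← Subgroup.orderOf_coe] at h1
  exact Odd.of_dvd_nat hodd h1

/-- (G2) in helper9's announced form -/
theorem central_of_fixed (A : Subgroup (MulAut X))
    (hgen : Subgroup.closure {g : X | ∃ φ ∈ A, ∃ x : X, g = x⁻¹ * φ x} = ⊤)
    (N : Subgroup X) (hN : N.Normal) (hfix : ∀ φ ∈ A, ∀ n ∈ N, φ n = n) : N ≤ Subgroup.center X :=
  le_center_of_fixed A hgen N hN hfix

/-- (G3) in helper9's announced form (`K` need not be `A`-invariant) -/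
theorem mem_of_fixed' [Finite X] (hX : IsPGroup 2 X) (A : Subgroup (MulAut X)) (hodd : Odd (Nat.card A))
    (hgen : Subgroup.closure {g : X | ∃ φ ∈ A, ∃ x : X, g = x⁻¹ * φ x} = ⊤)
    (K : Subgroup X) (hK : K.Normal) (hab : ∀ x y : X, x * y * x⁻¹ * y⁻¹ ∈ K)
    (x : X) (hx : ∀ φ ∈ A, φ x = x) : x ∈ K := by
  have hle : commutator X ≤ K := by
    rw [commutator_def, Subgroup.commutator_le]
    intro a _ b _
    rw [commutatorElement_def]
    exact hab a b
  apply hle
  refine mem_of_fixed A hodd hgen (commutator X) inferInstance ?_ ?_ x (hX x) hx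
  · intro φ _ y hy
    have hchar : (commutator X).Characteristic := inferInstance
    have h1 := hchar.fixed φ⁻¹
    rw [← h1, Subgroup.mem_comap]
    have h2 : (φ⁻¹ : MulAut X).toMonoidHom (φ y) = y := by
      show φ⁻¹ (φ y) = y
      rw [← MulAut.mul_apply, inv_mul_cancel, MulAut.one_apply]
    rw [h2]
    exact hy
  · intro a b
    rw [commutator_def, ← commutatorElement_def]
    exact Subgroup.commutator_mem_commutator (Subgroup.mem_top a) (Subgroup.mem_top b)

/-- (G4) in helper9's announced form -/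
theorem fix_of_fix_omega [Finite X] (hX : IsPGroup 2 X) (N : Subgroup X) (hab : Ab N) (φ : MulAut X)
    (hodd : Odd (orderOf φ)) (hinv : ∀ x ∈ N, φ x ∈ N) (hfix : ∀ x ∈ N, x ^ 2 = 1 → φ x = x) :
    ∀ x ∈ N, φ x = x :=
  fix_of_fix_sq_one N hab (fun b _ => hX b) φ (orderOf φ) hodd (pow_orderOf_eq_one φ) hinv hfix

end Cfsg.Agent.Lib.Helper28.SC3G
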