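import Cfsg.Agent.Lib.Helper28.BSGSMat3

/-!
# Verified Schreier–Sims for subgroups of `GL₇(11)`: elements satisfying relations

A certificate listing all elements `z` of the group such that the pair `(x, z)` satisfies given
relations, and certificates for conjugacy under powers of `x` and for elements conjugating the
powers of `x` to `x`.
-/

set_option autoImplicit false

namespace Cfsg.Agent.Lib.Helper28.BSGSMat

open MulAction Cfsg.Agent.Lib.Helper28.BSGS

theorem evalW_append (ws ws' : List M7) (v : V7) :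
    evalW (ws ++ ws') v = evalW ws (evalW ws' v) := by
  unfold evalW
  rw [List.foldr_append]

theorem actsBy_append {g h : GL (Fin 7) (ZMod 11)} {ws ws' : List M7} (hg : ActsBy g ws)
    (hh : ActsBy h ws') : ActsBy (g * h) (ws ++ ws') := by
  intro v
  rw [mul_smul, hh v, hg, evalW_append]

theorem actsBy_pow_word {g : GL (Fin 7) (ZMod 11)} {ws : List M7} (hg : ActsBy g ws) (k : ℕ) :
    ActsBy (g ^ k) (List.replicate k ws).flatten := by
  induction k with
  | zero => rw [pow_zero]; exact actsBy_one
  | succ k ih =>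
    rw [pow_succ', List.replicate_succ, List.flatten_cons]
    exact actsBy_append hg ih

/-- the matrices of a word in `x` and the product `u1 * u2` -/
def relWord (x u1 u2 : ℕ) (w : List Bool) : List M7 :=
  w.flatMap fun b => cond b [decM u1, decM u2] [decM x]

theorem relWord_cons_false (x u1 u2 : ℕ) (w : List Bool) :
    relWord x u1 u2 (false :: w) = [decM x] ++ relWord x u1 u2 w := rfl

theorem relWord_cons_true (x u1 u2 : ℕ) (w : List Bool) :
    relWord x u1 u2 (true :: w) = [decM u1, decM u2] ++ relWord x u1 u2 w := rfl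

theorem actsBy_relWord {x u1 u2 : ℕ} (hx : invOK x = true) (h1 : invOK u1 = true)
    (h2 : invOK u2 = true) :
    ∀ w : List Bool, ActsBy (wordG (glOf x) (glOf u1 * glOf u2) w) (relWord x u1 u2 w) := by
  intro w
  induction w with
  | nil => exact actsBy_one
  | cons b w ih =>
    cases b
    · rw [wordG_cons_false, relWord_cons_false]
      exact actsBy_append (actsBy_single (glOf_acts hx)) ih
    · rw [wordG_cons_true, relWord_cons_true]
      exact actsBy_append (actsBy_cons (glOf_acts h1) (actsBy_single (glOf_acts h2))) ih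

/-- the pair `(x, u1 * u2)` satisfies the relations `w ^ k = 1` -/
def relsHold (x u1 u2 : ℕ) (rels : List (List Bool × ℕ)) : Bool :=
  rels.all fun r => idB (List.replicate r.2 (relWord x u1 u2 r.1)).flatten

/-- a pair of transversal elements whose product satisfies the relations is listed -/
def autPairOK (x : ℕ) (rels : List (List Bool × ℕ)) (surv : List (ℕ × ℕ)) (u1 u2 : ℕ) : Bool :=
  !(relsHold x u1 u2 rels) || surv.any fun c => Nat.beq c.1 u1 && Nat.beq c.2 u2

/-- all products with first factor in `es1` satisfying the relations are listed -/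
def autListOK (x : ℕ) (rels : List (List Bool × ℕ)) (surv : List (ℕ × ℕ))
    (es1 : List Entry) (T2 : Tree) : Bool :=
  es1.all fun e1 => T2.toList.all fun e2 => autPairOK x rels surv e1.2.1 e2.2.1

theorem aut_pair {x u1 u2 : ℕ} (hx : invOK x = true) (h1 : invOK u1 = true)
    (h2 : invOK u2 = true) (rels : List (List Bool × ℕ)) (surv : List (ℕ × ℕ))
    (h : autPairOK x rels surv u1 u2 = true)
    (hrel : ∀ r ∈ rels, wordG (glOf x) (glOf u1 * glOf u2) r.1 ^ r.2 = 1) :
    ∃ c ∈ surv, c.1 = u1 ∧ c.2 = u2 := by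
  have hh : relsHold x u1 u2 rels = true := by
    unfold relsHold
    rw [List.all_eq_true]
    intro r hr
    unfold idB
    exact wordEqB_of_eq' (actsBy_pow_word (actsBy_relWord hx h1 h2 r.1) r.2) actsBy_one
      (hrel r hr)
  unfold autPairOK at h
  rw [hh, Bool.not_true, Bool.false_or, List.any_eq_true] at h
  obtain ⟨c, hc, hcc⟩ := h
  rw [Bool.and_eq_true] at hcc
  exact ⟨c, hc, Nat.eq_of_beq_eq_true hcc.1, Nat.eq_of_beq_eq_true hcc.2⟩

/-- the `i`-th block of 64 entries -/
def chunk (l : List Entry) (i : ℕ) : List Entry := (l.drop (64 * i)).take 64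

theorem mem_chunk {l : List Entry} {e : Entry} (he : e ∈ l) :
    ∃ i, 64 * i < l.length ∧ e ∈ chunk l i := by
  obtain ⟨k, hk, rfl⟩ := List.mem_iff_getElem.mp he
  refine ⟨k / 64, by omega, ?_⟩
  unfold chunk
  rw [List.mem_iff_getElem]
  have h1 : k % 64 < ((l.drop (64 * (k / 64))).take 64).length := by
    rw [List.length_take, List.length_drop]; omega
  refine ⟨k % 64, h1, ?_⟩
  rw [List.getElem_take, List.getElem_drop]
  congr 1
  omega

theorem aut_enum (gens : List ℕ) (b1 : ℕ) (T1 : Tree) (b2 : ℕ) (T2 : Tree)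
    (hg : gensOK gens = true) (hc : checkChain gens [(b1, T1), (b2, T2)] = true)
    (x : ℕ) (hx : invOK x = true) (rels : List (List Bool × ℕ)) (surv : List (ℕ × ℕ))
    (n : ℕ) (hlen : T1.toList.length ≤ 64 * n)
    (hok : ∀ i, i < n → autListOK x rels surv (chunk T1.toList i) T2 = true)
    (z : GL (Fin 7) (ZMod 11)) (hz : z ∈ genGroup gens)
    (hrel : ∀ r ∈ rels, wordG (glOf x) z r.1 ^ r.2 = 1) :
    z ∈ surv.map fun c => glOf c.1 * glOf c.2 := by
  obtain ⟨e1, he1, e2, he2, _, hzz⟩ := two_level_decomp gens b1 T1 b2 T2 hg hc z hz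
  have hwf := checkChain_wf _ _ hc
  obtain ⟨_, w1⟩ := hwf (b1, T1) List.mem_cons_self
  obtain ⟨_, w2⟩ := hwf (b2, T2) (List.mem_cons_of_mem _ List.mem_cons_self)
  obtain ⟨_, q2⟩ := w1 e1 he1
  obtain ⟨_, q2'⟩ := w2 e2 he2
  obtain ⟨i, hi, hep⟩ := mem_chunk he1
  have h1 := hok i (by omega)
  unfold autListOK at h1
  rw [List.all_eq_true] at h1
  have h2 := h1 e1 hep
  rw [List.all_eq_true] at h2
  have h3 := h2 e2 he2
  rw [hzz] at hrel
  obtain ⟨c, hc1, hc2, hc3⟩ := aut_pair hx q2 q2' rels surv h3 hrel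
  rw [List.mem_map]
  refine ⟨c, hc1, ?_⟩
  rw [hc2, hc3, hzz]

/-- the relations hold for the pair `(x, y)` -/
def relsTrue (x y : ℕ) (rels : List (List Bool × ℕ)) : Bool :=
  rels.all fun r => idB (List.replicate r.2 (wordM x y r.1)).flatten

theorem relsTrue_spec {x y : ℕ} (hx : invOK x = true) (hy : invOK y = true)
    (rels : List (List Bool × ℕ)) (h : relsTrue x y rels = true) :
    ∀ r ∈ rels, wordG (glOf x) (glOf y) r.1 ^ r.2 = 1 := by
  intro r hr
  unfold relsTrue at h
  rw [List.all_eq_true] at h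
  exact eq_one_of_idB (actsBy_pow_word (actsBy_word hx hy r.1) r.2) (h r hr)

/-- every listed product is conjugate to `y` under a power of `x` -/
def survOK (x y : ℕ) (surv : List (ℕ × ℕ)) : Bool :=
  surv.all fun c => invOK c.1 && invOK c.2 && (List.range 7).any fun i =>
    wordEqB ([decM c.1, decM c.2] ++ List.replicate i (decM x))
      (List.replicate i (decM x) ++ [decM y])

theorem survOK_spec {x y : ℕ} (hx : invOK x = true) (hy : invOK y = true)
    (surv : List (ℕ × ℕ)) (h : survOK x y surv = true) :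
    ∀ c ∈ surv, ∃ i : ℕ, glOf c.1 * glOf c.2 = glOf x ^ i * glOf y * (glOf x ^ i)⁻¹ := by
  intro c hc
  unfold survOK at h
  rw [List.all_eq_true] at h
  have h1 := h c hc
  simp only [Bool.and_eq_true, List.any_eq_true] at h1
  obtain ⟨⟨k1, k2⟩, i, _, hi⟩ := h1
  refine ⟨i, ?_⟩
  have h2 : glOf c.1 * glOf c.2 * glOf x ^ i = glOf x ^ i * glOf y :=
    eq_of_wordEqB
      (actsBy_append (actsBy_cons (glOf_acts k1) (actsBy_single (glOf_acts k2)))
        (actsBy_pow (glOf_acts hx) i))
      (actsBy_append (actsBy_pow (glOf_acts hx) i) (actsBy_single (glOf_acts hy))) hi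
  rw [← h2]
  group

/-- for `j = 1, …, 6` some listed element of the group conjugates `x ^ j` to `x` -/
def normsOK (levels : List CLevel) (x : ℕ) (norms : List ℕ) : Bool :=
  (List.range 6).all fun j' => norms.any fun m => invOK m && siftB levels [decM m] &&
    wordEqB (decM m :: List.replicate (j' + 1) (decM x)) [decM x, decM m]

theorem normsOK_spec (gens : List ℕ) (levels : List CLevel) (hg : gensOK gens = true)
    (hc : checkChain gens levels = true) {x : ℕ} (hx : invOK x = true) (norms : List ℕ)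
    (h : normsOK levels x norms = true) (j : ℕ) (hj1 : 1 ≤ j) (hj7 : j < 7) :
    ∃ m ∈ genGroup gens, m * glOf x ^ j = glOf x * m := by
  unfold normsOK at h
  rw [List.all_eq_true] at h
  have h1 := h (j - 1) (List.mem_range.mpr (by omega))
  rw [List.any_eq_true] at h1
  obtain ⟨m, _, hm⟩ := h1
  simp only [Bool.and_eq_true] at hm
  obtain ⟨⟨k1, k2⟩, k3⟩ := hm
  have hj : j - 1 + 1 = j := by omega
  rw [hj] at k3
  refine ⟨glOf m, (mat_main gens levels hg hc).2 _ _ (actsBy_single (glOf_acts k1)) k2, ?_⟩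
  exact eq_of_wordEqB (actsBy_cons (glOf_acts k1) (actsBy_pow (glOf_acts hx) j))
    (actsBy_cons (glOf_acts hx) (actsBy_single (glOf_acts k1))) k3

theorem Tree.mem_node {l r : Tree} {e' e : Entry} :
    e ∈ (Tree.node l e' r).toList ↔ e ∈ l.toList ∨ e = e' ∨ e ∈ r.toList := by
  rw [Tree.toList, List.mem_append, List.mem_cons]

end Cfsg.Agent.Lib.Helper28.BSGSMat
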