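import Mathlib
import Cfsg.Prelude.Def_GeometricClasses
import Cfsg.Agent.Lib.Helper11.U4Defs
import Cfsg.Agent.Lib.Helper1.GUS1
import Cfsg.Agent.Lib.Helper6.SUSimple

/-!
# S5663 U4T-22a + U4T-22θ: a unitary plane is hyperbolic; a nonzero trace-zero element
-/

set_option autoImplicit false

namespace Cfsg.Agent.Lib.Helper28.S5663U4T22a

open Matrix Cfsg Cfsg.Geo Cfsg.Agent.Lib.Helper11.U4
open Cfsg.Agent.Lib.Helper6 Cfsg.Agent.S0779 Cfsg.Agent.S0781

variable {F : Type*} [Field F] [Fintype F] {q : ℕ}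

/-- **U4T-22θ** -/
theorem exists_theta (hF : Fintype.card F = q ^ 2) : ∃ θ : F, θ ≠ 0 ∧ θ ^ q = -θ :=
  Cfsg.Agent.Lib.Helper6.SUG.exists_trace_zero hF

theorem neg_one_pow_q (hF : Fintype.card F = q ^ 2) : (-1 : F) ^ q = -1 := by
  have := map_neg (frobH hF) (1 : F)
  have h1 : frobH hF 1 = 1 := map_one _
  rw [h1] at this
  exact this

/-- the standard hermitian plane is hyperbolic -/
theorem exists_hyp_std (hF : Fintype.card F = q ^ 2) :
    ∃ C : GL (Fin 2) F, ∀ x y : Fin 2 → F,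
      hermForm 2 F q ((C : Matrix (Fin 2) (Fin 2) F) *ᵥ x) ((C : Matrix (Fin 2) (Fin 2) F) *ᵥ y) =
        x 0 * (y 1) ^ q + x 1 * (y 0) ^ q := by
  obtain ⟨a, ha⟩ := exists_norm_eq hF (-1) (neg_one_pow_q hF)
  obtain ⟨u, hu⟩ : ∃ u : Fin 2 → F, u = ![1, a] := ⟨_, rfl⟩
  have huu : hermForm 2 F q u u = 0 := by
    rw [hu]
    simp only [hermForm, Fin.sum_univ_two, Matrix.cons_val_zero, Matrix.cons_val_one, one_pow, mul_one]
    linear_combination ha
  have hu0 : u ≠ 0 := by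
    intro h0
    have := congrFun h0 0
    rw [hu] at this
    simp at this
  obtain ⟨w, hwu, huw, hww⟩ := exists_herm_partner hF u hu0 huu
  obtain ⟨C', hC'def⟩ : ∃ C' : Matrix (Fin 2) (Fin 2) F, C' = Matrix.of (fun i j => if j = 0 then u i else w i) :=
    ⟨_, rfl⟩
  have hC' : ∀ x : Fin 2 → F, C' *ᵥ x = x 0 • u + x 1 • w := by
    intro x
    funext i
    rw [hC'def]
    simp only [Matrix.mulVec, dotProduct, Fin.sum_univ_two, Matrix.of_apply, Pi.add_apply, Pi.smul_apply,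
      smul_eq_mul]
    simp
    ring
  have hform : ∀ x y : Fin 2 → F, hermForm 2 F q (C' *ᵥ x) (C' *ᵥ y) = x 0 * y 1 ^ q + x 1 * y 0 ^ q := by
    intro x y
    rw [hC', hC']
    simp only [herm_add_left, herm_add_right hF, herm_smul_left, herm_smul_right, huu, hww, huw, hwu]
    ring
  have hdet : C'.det ≠ 0 := by
    intro h0
    obtain ⟨v, hv, hv0⟩ := Matrix.exists_mulVec_eq_zero_iff.mpr h0
    apply hv
    have h1 := hform v ![0, 1]
    have h2 := hform v ![1, 0]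
    have hq0 : q ≠ 0 := by
      have := Cfsg.Agent.Lib.Helper11.U4.two_le_q hF
      omega
    rw [hv0, herm_zero_left] at h1 h2
    simp only [Matrix.cons_val_zero, Matrix.cons_val_one, one_pow, mul_one, zero_pow hq0, mul_zero,
      add_zero, zero_add] at h1 h2
    funext i
    fin_cases i
    · exact h1.symm
    · exact h2.symm
  exact ⟨Matrix.GeneralLinearGroup.mkOfDetNeZero C' hdet, hform⟩

/-- **U4T-22a** -/
theorem exists_hyperbolic_basis (hF : Fintype.card F = q ^ 2) (f₁ : (Fin 2 → F) → (Fin 2 → F) → F)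
    (hf₁ : IsUnitaryFormPow q f₁) :
    ∃ C : GL (Fin 2) F, ∀ x y : Fin 2 → F,
      f₁ ((C : Matrix (Fin 2) (Fin 2) F) *ᵥ x) ((C : Matrix (Fin 2) (Fin 2) F) *ᵥ y) =
        x 0 * (y 1) ^ q + x 1 * (y 0) ^ q := by
  obtain ⟨P, hP⟩ := Cfsg.Agent.Lib.Helper1.GUS.exists_std hF f₁ hf₁
  obtain ⟨C', hC'⟩ := exists_hyp_std hF
  refine ⟨P⁻¹ * C', fun x y => ?_⟩
  rw [← hP, ← hC' x y]
  have h : ∀ z : Fin 2 → F, (P : Matrix (Fin 2) (Fin 2) F) *ᵥ
      (((P⁻¹ * C' : GL (Fin 2) F) : Matrix (Fin 2) (Fin 2) F) *ᵥ z) = (C' : Matrix (Fin 2) (Fin 2) F) *ᵥ z := by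
    intro z
    rw [Matrix.mulVec_mulVec, ← Units.val_mul, mul_inv_cancel_left]
  rw [h, h]

end Cfsg.Agent.Lib.Helper28.S5663U4T22a
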