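import Mathlib
import Cfsg.Prelude.Def_GeometricClasses
import Cfsg.Agent.Lib.Helper11.U4Defs
import Cfsg.Agent.Lib.Helper28.S5663U4T22a

/-!
# S5663 U4T-22b: similitudes of the hyperbolic unitary plane are `F_q`-rational up to a scalar
(after conjugation by `diag(θ, 1)`)
-/

set_option autoImplicit false
set_option linter.unusedSimpArgs false

namespace Cfsg.Agent.Lib.Helper28.S5663U4T22b

open Matrix Cfsg Cfsg.Geo Cfsg.Agent.Lib.Helper11.U4
open Cfsg.Agent.Lib.Helper28.S5663U4T22a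

variable {F : Type*} [Field F] [Fintype F] {q : ℕ}

/-- Hilbert 90 for `x ↦ x ^ q` -/
theorem exists_hilbert90 (hF : Fintype.card F = q ^ 2) (κ : F) (hκ : κ * κ ^ q = 1) :
    ∃ lam : F, lam ≠ 0 ∧ lam ^ q = κ * lam := by
  have hqq : ∀ x : F, (x ^ q) ^ q = x := fun x => frobE_invol hF x
  have hadd : ∀ x y : F, (x + y) ^ q = x ^ q + y ^ q := fun x y => map_add (frobH hF) x y
  by_cases h1 : κ ^ q = -1
  · have hκ1 : κ = -1 := by
      have := hqq κ
      rw [h1, neg_one_pow_q hF] at this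
      exact this.symm
    obtain ⟨x, hx⟩ : ∃ x : F, x ^ q ≠ x := by
      by_contra hcon
      push Not at hcon
      apply frobE_ne_refl hF
      ext x
      exact hcon x
    refine ⟨x - x ^ q, sub_ne_zero.mpr (Ne.symm hx), ?_⟩
    have hsub : (x - x ^ q) ^ q = x ^ q - (x ^ q) ^ q := map_sub (frobH hF) x (x ^ q)
    rw [hsub, hqq, hκ1]
    ring
  · refine ⟨1 + κ ^ q, ?_, ?_⟩
    · intro h0
      apply h1
      linear_combination h0
    · rw [hadd, one_pow, hqq]
      linear_combination -hκ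

/-- **U4T-22b** -/
theorem similitude_rational (hF : Fintype.card F = q ^ 2) (θ : F) (hθ0 : θ ≠ 0) (hθ : θ ^ q = -θ)
    (a : GL (Fin 2) F) (μ : F)
    (ha : ∀ x y : Fin 2 → F,
      ((a : Matrix (Fin 2) (Fin 2) F) *ᵥ x) 0 * (((a : Matrix (Fin 2) (Fin 2) F) *ᵥ y) 1) ^ q +
        ((a : Matrix (Fin 2) (Fin 2) F) *ᵥ x) 1 * (((a : Matrix (Fin 2) (Fin 2) F) *ᵥ y) 0) ^ q =
        μ * (x 0 * (y 1) ^ q + x 1 * (y 0) ^ q)) :
    ∃ lam : F, lam ≠ 0 ∧ ((a : Matrix (Fin 2) (Fin 2) F) 0 0 / lam) ^ q = (a : Matrix (Fin 2) (Fin 2) F) 0 0 / lam ∧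
      ((a : Matrix (Fin 2) (Fin 2) F) 1 1 / lam) ^ q = (a : Matrix (Fin 2) (Fin 2) F) 1 1 / lam ∧
      ((a : Matrix (Fin 2) (Fin 2) F) 0 1 / (lam * θ)) ^ q = (a : Matrix (Fin 2) (Fin 2) F) 0 1 / (lam * θ) ∧
      ((a : Matrix (Fin 2) (Fin 2) F) 1 0 / (lam * θ)) ^ q = (a : Matrix (Fin 2) (Fin 2) F) 1 0 / (lam * θ) := by
  have hq0 : q ≠ 0 := by
    have := Cfsg.Agent.Lib.Helper11.U4.two_le_q hF
    omega
  have hqq : ∀ x : F, (x ^ q) ^ q = x := fun x => frobE_invol hF x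
  obtain ⟨A, hA⟩ : ∃ A : Matrix (Fin 2) (Fin 2) F, A = (a : Matrix (Fin 2) (Fin 2) F) := ⟨_, rfl⟩
  rw [← hA] at ha ⊢
  have hmv : ∀ (x : Fin 2 → F) (i : Fin 2), (A *ᵥ x) i = A i 0 * x 0 + A i 1 * x 1 := by
    intro x i
    simp only [Matrix.mulVec, dotProduct, Fin.sum_univ_two]
  have R1 : A 0 0 * A 1 0 ^ q + A 1 0 * A 0 0 ^ q = 0 := by
    have := ha ![1, 0] ![1, 0]
    simp only [hmv, Matrix.cons_val_zero, Matrix.cons_val_one, mul_one, mul_zero, add_zero, zero_pow hq0,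
      one_pow, zero_mul] at this
    exact this
  have R2 : A 0 1 * A 1 1 ^ q + A 1 1 * A 0 1 ^ q = 0 := by
    have := ha ![0, 1] ![0, 1]
    simp only [hmv, Matrix.cons_val_zero, Matrix.cons_val_one, mul_one, mul_zero, zero_add, zero_pow hq0,
      one_pow, zero_mul, add_zero] at this
    exact this
  have R3 : A 0 0 * A 1 1 ^ q + A 1 0 * A 0 1 ^ q = μ := by
    have := ha ![1, 0] ![0, 1]
    simp only [hmv, Matrix.cons_val_zero, Matrix.cons_val_one, mul_one, mul_zero, zero_add, zero_pow hq0,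
      one_pow, zero_mul, add_zero] at this
    exact this
  have R4 : A 0 1 * A 1 0 ^ q + A 1 1 * A 0 0 ^ q = μ := by
    have := ha ![0, 1] ![1, 0]
    simp only [hmv, Matrix.cons_val_zero, Matrix.cons_val_one, mul_one, mul_zero, zero_add, zero_pow hq0,
      one_pow, zero_mul, add_zero] at this
    exact this
  obtain ⟨δ, hδ⟩ : ∃ δ : F, δ = A 0 0 * A 1 1 - A 0 1 * A 1 0 := ⟨_, rfl⟩
  have hδ0 : δ ≠ 0 := by
    have h1 : A.det ≠ 0 := by
      rw [hA]
      have := (Matrix.GeneralLinearGroup.det a).ne_zero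
      rwa [Matrix.GeneralLinearGroup.val_det_apply] at this
    rw [Matrix.det_fin_two] at h1
    rw [hδ]
    exact h1
  have E00 : μ * A 0 0 = A 0 0 ^ q * δ := by rw [hδ]; linear_combination (-A 0 0) * R4 + A 0 1 * R1
  have E11 : μ * A 1 1 = A 1 1 ^ q * δ := by rw [hδ]; linear_combination (-A 1 1) * R3 + A 1 0 * R2
  have E01 : μ * A 0 1 = -(A 0 1 ^ q * δ) := by rw [hδ]; linear_combination (-A 0 1) * R3 + A 0 0 * R2
  have E10 : μ * A 1 0 = -(A 1 0 ^ q * δ) := by rw [hδ]; linear_combination (-A 1 0) * R4 + A 1 1 * R1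
  have hpz : ∀ x : F, x ^ q = 0 → x = 0 := fun x hx => by
    have := hqq x
    rw [hx, zero_pow hq0] at this
    exact this.symm
  have hμ0 : μ ≠ 0 := by
    intro h0
    rw [h0, zero_mul] at E00 E11 E01 E10
    have z00 : A 0 0 = 0 := hpz _ ((mul_eq_zero.mp E00.symm).resolve_right hδ0)
    have z01 : A 0 1 = 0 := hpz _ ((mul_eq_zero.mp (neg_eq_zero.mp E01.symm)).resolve_right hδ0)
    apply hδ0
    rw [hδ, z00, z01]
    ring
  obtain ⟨κ, hκdef⟩ : ∃ κ : F, κ = μ / δ := ⟨_, rfl⟩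
  have hκ0 : κ ≠ 0 := by rw [hκdef]; exact div_ne_zero hμ0 hδ0
  have F00 : A 0 0 ^ q = κ * A 0 0 := by rw [hκdef]; field_simp; linear_combination -E00
  have F11 : A 1 1 ^ q = κ * A 1 1 := by rw [hκdef]; field_simp; linear_combination -E11
  have F01 : A 0 1 ^ q = -(κ * A 0 1) := by rw [hκdef]; field_simp; linear_combination E01
  have F10 : A 1 0 ^ q = -(κ * A 1 0) := by rw [hκdef]; field_simp; linear_combination E10
  have hκN : κ * κ ^ q = 1 := by
    by_cases h00 : A 0 0 = 0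
    · have h01 : A 0 1 ≠ 0 := by
        intro h01
        apply hδ0
        rw [hδ, h00, h01]
        ring
      have h1 := hqq (A 0 1)
      rw [F01, neg_pow, mul_pow, F01, neg_one_pow_q hF] at h1
      have h2 : (κ * κ ^ q - 1) * A 0 1 = 0 := by linear_combination h1
      rcases mul_eq_zero.mp h2 with h | h
      · exact sub_eq_zero.mp h
      · exact absurd h h01
    · have h1 := hqq (A 0 0)
      rw [F00, mul_pow, F00] at h1
      have h2 : (κ * κ ^ q - 1) * A 0 0 = 0 := by linear_combination h1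
      rcases mul_eq_zero.mp h2 with h | h
      · exact sub_eq_zero.mp h
      · exact absurd h h00
  obtain ⟨lam, hlam0, hlam⟩ := exists_hilbert90 hF κ hκN
  refine ⟨lam, hlam0, ?_, ?_, ?_, ?_⟩
  · rw [div_pow, F00, hlam]
    field_simp
  · rw [div_pow, F11, hlam]
    field_simp
  · rw [div_pow, mul_pow, F01, hlam, hθ]
    field_simp
  · rw [div_pow, mul_pow, F10, hlam, hθ]
    field_simp

end Cfsg.Agent.Lib.Helper28.S5663U4T22b
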