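import Mathlib
import Cfsg.Prelude.Def_GeometricClasses
import Cfsg.Agent.Lib.Helper7.AschDefs
import Cfsg.Agent.Lib.Helper24.AschUDefs
import Cfsg.Agent.Lib.Helper2.FormRedU
import Cfsg.Agent.Lib.Helper18.S5663U2
import Cfsg.Agent.Lib.Helper11.FormCliffDefs
import Cfsg.Agent.Lib.Helper11.U4Defs
import Cfsg.Agent.Lib.Helper13.TensorNM
import Cfsg.Agent.Lib.Helper13.SubfField
import Cfsg.Agent.Lib.Helper26.FCliffGRAMADJ
import Cfsg.Agent.Lib.Helper28.S5663U4T22b

/-!
# S5663 U4T-22: the corner `n = 4 = 2 · 2` of the unitary tensor normalisation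

`GU_2(q) ⊗ GU_2(q)` lies in a subfield group of type `O_4^+(q)` (`q` odd) resp. `Sp_4(q)` (`q` even).
Both factors are brought to the alternating-type Gram matrix `N = θ [[0,1],[-1,0]]` (`θ ^ q = -θ`); a similitude `a` of
`N` satisfies `a^σ = κ a` entrywise, so `a = lam • a₀` with `a₀` over `F_q` (Hilbert 90); in the new coordinates the form
is `c (N ⊗ N)` with `c ∈ F_q`, `N ⊗ N = θ² (J' ⊗ J')` rational, symmetric, with zero diagonal.
-/

set_option autoImplicit false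
set_option linter.unusedSimpArgs false
set_option linter.unusedVariables false
set_option linter.unusedSectionVars false

namespace Cfsg.Agent.Lib.Helper28.S5663U4T22

open Matrix Cfsg Cfsg.Geo Cfsg.Agent.Lib.Helper24.AschU Cfsg.Agent.Lib.Helper2.FormRedU
  Cfsg.Agent.Lib.Helper11.FCliff Cfsg.Agent.Lib.Helper11.U4 Cfsg.Agent.Lib.Helper13.TNM
open Cfsg.Agent.Lib.Helper28.S5663U4T22a Cfsg.Agent.Lib.Helper28.S5663U4T22b
open scoped MatrixGroups Kronecker

variable {F : Type*} [Field F] [Fintype F] {n q : ℕ}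

/-- the alternating-type Gram matrix `θ [[0,1],[-1,0]]` -/
def NN (θ : F) : Matrix (Fin 2) (Fin 2) F := !![0, θ; -θ, 0]

theorem q_ne_zero (hF : Fintype.card F = q ^ 2) : q ≠ 0 := by
  have := Cfsg.Agent.Lib.Helper11.U4.two_le_q hF
  omega

theorem sig0 (hF : Fintype.card F = q ^ 2) : (fun x : F => x ^ q) 0 = 0 := zero_pow (q_ne_zero hF)

theorem sig1 : (fun x : F => x ^ q) 1 = 1 := one_pow q

theorem sigadd (hF : Fintype.card F = q ^ 2) : ∀ a b : F, (fun x : F => x ^ q) (a + b) =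
    (fun x : F => x ^ q) a + (fun x : F => x ^ q) b := fun a b => add_pow_q hF a b

theorem sigmul : ∀ a b : F, (fun x : F => x ^ q) (a * b) =
    (fun x : F => x ^ q) a * (fun x : F => x ^ q) b := fun a b => mul_pow a b q

theorem fog_NN (θ : F) (x y : Fin 2 → F) :
    formOfGram (fun a : F => a ^ q) (NN θ) x y = θ * (x 0 * y 1 ^ q - x 1 * y 0 ^ q) := by
  unfold formOfGram NN
  simp only [Fin.sum_univ_two, Matrix.of_apply, Matrix.cons_val', Matrix.cons_val_zero, Matrix.cons_val_one,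
    Matrix.empty_val', Matrix.cons_val_fin_one]
  ring

/-- a unitary form is the form of its Gram matrix -/
theorem unitary_eq_fog (hF : Fintype.card F = q ^ 2) {k : ℕ} (f : (Fin k → F) → (Fin k → F) → F)
    (hf : IsUnitaryFormPow q f) (x y : Fin k → F) :
    f x y = formOfGram (fun a : F => a ^ q) (gramMatrix f) x y := by
  have := Cfsg.Agent.Lib.Helper26.FCliffGRAMADJ.eq_formOfGram (rsForm_of_unitary hF hf) x y
  rw [coe_frobE] at this
  exact this

/-- every unitary plane has a basis with Gram matrix `NN θ` -/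
theorem exists_alt_basis (hF : Fintype.card F = q ^ 2) (θ : F) (hθ0 : θ ≠ 0) (hθ : θ ^ q = -θ)
    (f : (Fin 2 → F) → (Fin 2 → F) → F) (hf : IsUnitaryFormPow q f) :
    ∃ E : GL (Fin 2) F, (E : Matrix (Fin 2) (Fin 2) F)ᵀ * gramMatrix f *
      (E : Matrix (Fin 2) (Fin 2) F).map (fun a : F => a ^ q) = NN θ := by
  obtain ⟨C, hC⟩ := exists_hyperbolic_basis hF f hf
  have hdet : (Matrix.diagonal ![θ, 1] : Matrix (Fin 2) (Fin 2) F).det ≠ 0 := by
    rw [Matrix.det_diagonal, Fin.prod_univ_two]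
    simpa using hθ0
  obtain ⟨D, hD⟩ : ∃ D : GL (Fin 2) F, (D : Matrix (Fin 2) (Fin 2) F) = Matrix.diagonal ![θ, 1] :=
    ⟨Matrix.GeneralLinearGroup.mkOfDetNeZero _ hdet, rfl⟩
  refine ⟨C * D, ?_⟩
  apply gram_ext (fun a : F => a ^ q) (sig0 hF) sig1
  intro x y
  rw [← formOfGram_mulVec (fun a : F => a ^ q) (sig0 hF) (sigadd hF) sigmul, ← unitary_eq_fog hF f hf,
    Units.val_mul, ← Matrix.mulVec_mulVec, ← Matrix.mulVec_mulVec, hC, fog_NN, hD]
  simp only [Matrix.mulVec_diagonal, Matrix.cons_val_zero, Matrix.cons_val_one, one_mul, mul_pow, hθ]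
  ring

/-- Kronecker products and `Mᵀ G M^σ` -/
theorem kron_conj {d s : ℕ} (A G₁ : Matrix (Fin d) (Fin d) F) (B G₂ : Matrix (Fin s) (Fin s) F) :
    (A ⊗ₖ B)ᵀ * (G₁ ⊗ₖ G₂) * (A ⊗ₖ B).map (fun a : F => a ^ q) =
      (Aᵀ * G₁ * A.map (fun a : F => a ^ q)) ⊗ₖ (Bᵀ * G₂ * B.map (fun a : F => a ^ q)) := by
  have h1 : (A ⊗ₖ B).map (fun a : F => a ^ q) = A.map (fun a : F => a ^ q) ⊗ₖ B.map (fun a : F => a ^ q) := by
    ext ⟨i, j⟩ ⟨k, l⟩
    simp only [Matrix.map_apply, Matrix.kroneckerMap_apply, mul_pow]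
  rw [h1, ← Matrix.kroneckerMap_transpose, ← Matrix.mul_kronecker_mul, ← Matrix.mul_kronecker_mul]

/-- the factors of `N ⊗ N` are unique up to scalars -/
theorem factor_left (θ : F) (hθ0 : θ ≠ 0) (A' B' : Matrix (Fin 2) (Fin 2) F)
    (h : A' ⊗ₖ B' = NN θ ⊗ₖ NN θ) : ∃ μ : F, A' = μ • NN θ := by
  have hent : ∀ i k j l, A' i k * B' j l = NN θ i k * NN θ j l := by
    intro i k j l
    have := congrFun (congrFun h (i, j)) (k, l)
    rw [Matrix.kroneckerMap_apply, Matrix.kroneckerMap_apply] at this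
    exact this
  have hN01 : NN θ 0 1 = θ := by simp [NN]
  have hB : B' 0 1 ≠ 0 := by
    intro h0
    have := hent 0 1 0 1
    rw [h0, mul_zero, hN01] at this
    exact mul_ne_zero hθ0 hθ0 this.symm
  refine ⟨θ / B' 0 1, ?_⟩
  ext i k
  have := hent i k 0 1
  rw [hN01] at this
  rw [Matrix.smul_apply, smul_eq_mul]
  field_simp
  linear_combination this

theorem factor_right (θ : F) (hθ0 : θ ≠ 0) (A' B' : Matrix (Fin 2) (Fin 2) F)
    (h : A' ⊗ₖ B' = NN θ ⊗ₖ NN θ) : ∃ μ : F, B' = μ • NN θ := by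
  have hent : ∀ i k j l, A' i k * B' j l = NN θ i k * NN θ j l := by
    intro i k j l
    have := congrFun (congrFun h (i, j)) (k, l)
    rw [Matrix.kroneckerMap_apply, Matrix.kroneckerMap_apply] at this
    exact this
  have hN01 : NN θ 0 1 = θ := by simp [NN]
  have hA : A' 0 1 ≠ 0 := by
    intro h0
    have := hent 0 1 0 1
    rw [h0, zero_mul, hN01] at this
    exact mul_ne_zero hθ0 hθ0 this.symm
  refine ⟨θ / A' 0 1, ?_⟩
  ext j l
  have := hent 0 1 j l
  rw [hN01] at this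
  rw [Matrix.smul_apply, smul_eq_mul]
  field_simp
  linear_combination this

/-- a similitude of `NN θ` is a scalar multiple of an `F_q`-rational matrix -/
theorem rational_of_simil (hF : Fintype.card F = q ^ 2) (θ : F) (hθ0 : θ ≠ 0) (a : GL (Fin 2) F) (μ : F)
    (h : (a : Matrix (Fin 2) (Fin 2) F)ᵀ * NN θ * (a : Matrix (Fin 2) (Fin 2) F).map (fun x : F => x ^ q) =
      μ • NN θ) :
    ∃ lam : F, lam ≠ 0 ∧ ∀ i j, ((a : Matrix (Fin 2) (Fin 2) F) i j / lam) ^ q =
      (a : Matrix (Fin 2) (Fin 2) F) i j / lam := by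
  have hq0 := q_ne_zero hF
  have hqq : ∀ x : F, (x ^ q) ^ q = x := fun x => frobE_invol hF x
  obtain ⟨A, hA⟩ : ∃ A : Matrix (Fin 2) (Fin 2) F, A = (a : Matrix (Fin 2) (Fin 2) F) := ⟨_, rfl⟩
  rw [← hA] at h ⊢
  have hent : ∀ i j : Fin 2, θ * (A 0 i * A 1 j ^ q - A 1 i * A 0 j ^ q) = μ * NN θ i j := by
    intro i j
    have := congrFun (congrFun h i) j
    rw [Matrix.smul_apply, smul_eq_mul] at this
    rw [← this]
    simp only [Matrix.mul_apply, Fin.sum_univ_two, Matrix.transpose_apply, Matrix.map_apply, NN,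
      Matrix.of_apply, Matrix.cons_val', Matrix.cons_val_zero, Matrix.cons_val_one, Matrix.empty_val',
      Matrix.cons_val_fin_one]
    ring
  have R1 : A 0 0 * A 1 0 ^ q - A 1 0 * A 0 0 ^ q = 0 := by
    have := hent 0 0
    simp only [NN, Matrix.of_apply, Matrix.cons_val', Matrix.cons_val_zero, Matrix.empty_val',
      Matrix.cons_val_fin_one, mul_zero] at this
    exact (mul_eq_zero.mp this).resolve_left hθ0
  have R2 : A 0 1 * A 1 1 ^ q - A 1 1 * A 0 1 ^ q = 0 := by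
    have := hent 1 1
    simp only [NN, Matrix.of_apply, Matrix.cons_val', Matrix.cons_val_one, Matrix.empty_val',
      Matrix.cons_val_fin_one, mul_zero] at this
    exact (mul_eq_zero.mp this).resolve_left hθ0
  have R3 : A 0 0 * A 1 1 ^ q - A 1 0 * A 0 1 ^ q = μ := by
    have := hent 0 1
    simp only [NN, Matrix.of_apply, Matrix.cons_val', Matrix.cons_val_zero, Matrix.cons_val_one,
      Matrix.empty_val', Matrix.cons_val_fin_one] at this
    apply mul_left_cancel₀ hθ0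
    linear_combination this
  have R4 : A 0 1 * A 1 0 ^ q - A 1 1 * A 0 0 ^ q = -μ := by
    have := hent 1 0
    simp only [NN, Matrix.of_apply, Matrix.cons_val', Matrix.cons_val_zero, Matrix.cons_val_one,
      Matrix.empty_val', Matrix.cons_val_fin_one] at this
    apply mul_left_cancel₀ hθ0
    linear_combination this
  obtain ⟨δ, hδ⟩ : ∃ δ : F, δ = A 0 0 * A 1 1 - A 0 1 * A 1 0 := ⟨_, rfl⟩
  have hδ0 : δ ≠ 0 := by
    have h1 : A.det ≠ 0 := by
      rw [hA]
      have := (Matrix.GeneralLinearGroup.det a).ne_zero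
      rwa [Matrix.GeneralLinearGroup.val_det_apply] at this
    rw [Matrix.det_fin_two] at h1
    rw [hδ]
    exact h1
  have E : ∀ i j : Fin 2, μ * A i j = A i j ^ q * δ := by
    intro i j
    rw [hδ]
    fin_cases i <;> fin_cases j
    · show μ * A 0 0 = A 0 0 ^ q * _
      linear_combination (A 0 0) * R4 - (A 0 1) * R1
    · show μ * A 0 1 = A 0 1 ^ q * _
      linear_combination (-A 0 1) * R3 + (A 0 0) * R2
    · show μ * A 1 0 = A 1 0 ^ q * _
      linear_combination (A 1 0) * R4 - (A 1 1) * R1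
    · show μ * A 1 1 = A 1 1 ^ q * _
      linear_combination (-A 1 1) * R3 + (A 1 0) * R2
  have hpz : ∀ x : F, x ^ q = 0 → x = 0 := fun x hx => by
    have := hqq x
    rw [hx, zero_pow hq0] at this
    exact this.symm
  have hμ0 : μ ≠ 0 := by
    intro h0
    have z : ∀ i j, A i j = 0 := by
      intro i j
      have := E i j
      rw [h0, zero_mul] at this
      exact hpz _ ((mul_eq_zero.mp this.symm).resolve_right hδ0)
    apply hδ0
    rw [hδ, z 0 0, z 0 1]
    ring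
  obtain ⟨κ, hκdef⟩ : ∃ κ : F, κ = μ / δ := ⟨_, rfl⟩
  have hκ0 : κ ≠ 0 := by rw [hκdef]; exact div_ne_zero hμ0 hδ0
  have Fq : ∀ i j : Fin 2, A i j ^ q = κ * A i j := by
    intro i j
    rw [hκdef]
    field_simp
    linear_combination -E i j
  obtain ⟨i₀, j₀, hne⟩ : ∃ i j, A i j ≠ 0 := by
    by_contra hcon
    push Not at hcon
    apply hδ0
    rw [hδ, hcon 0 0, hcon 0 1]
    ring
  have hκN : κ * κ ^ q = 1 := by
    have h1 := hqq (A i₀ j₀)
    rw [Fq, mul_pow, Fq] at h1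
    have h2 : (κ * κ ^ q - 1) * A i₀ j₀ = 0 := by linear_combination h1
    rcases mul_eq_zero.mp h2 with h | h
    · exact sub_eq_zero.mp h
    · exact absurd h hne
  obtain ⟨lam, hlam0, hlam⟩ := exists_hilbert90 hF κ hκN
  refine ⟨lam, hlam0, fun i j => ?_⟩
  rw [div_pow, Fq, hlam]
  field_simp

theorem two_eq_zero_of_even (hF : Fintype.card F = q ^ 2) (hq : ¬ Odd q) : (2 : F) = 0 := by
  obtain ⟨p, hp⟩ := CharP.exists F
  have := hp
  obtain ⟨k, hpp, hk⟩ := FiniteField.card F p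
  have heven : Even (Fintype.card F) := by
    rw [hF]
    exact (Nat.not_odd_iff_even.mp hq).pow_of_ne_zero two_ne_zero
  rw [hk] at heven
  have hp2 : p = 2 := by
    have h2 : 2 ∣ p ^ (k : ℕ) := even_iff_two_dvd.mp heven
    have := Nat.Prime.dvd_of_dvd_pow Nat.prime_two h2
    exact ((Nat.prime_dvd_prime_iff_eq Nat.prime_two hpp).mp this).symm
  subst hp2
  exact_mod_cast CharP.cast_eq_zero F 2

theorem NN_pow (hF : Fintype.card F = q ^ 2) (θ : F) (hθ : θ ^ q = -θ) (i k : Fin 2) :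
    (NN θ i k) ^ q = -(NN θ i k) := by
  have hq0 := q_ne_zero hF
  have hneg : (-θ) ^ q = θ := by
    rw [neg_pow, neg_one_pow_q hF, hθ]
    ring
  fin_cases i <;> fin_cases k
  · show (NN θ 0 0) ^ q = -(NN θ 0 0)
    simp [NN, zero_pow hq0]
  · show (NN θ 0 1) ^ q = -(NN θ 0 1)
    simp [NN, hθ]
  · show (NN θ 1 0) ^ q = -(NN θ 1 0)
    simp [NN, hneg]
  · show (NN θ 1 1) ^ q = -(NN θ 1 1)
    simp [NN, zero_pow hq0]

theorem TT_of_comp (e : Fin n ≃ Fin 2 × Fin 2) (P : GL (Fin n) F) (u : Fin n → F) :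
    (P : Matrix (Fin n) (Fin n) F) *ᵥ u = TT e P (u ∘ e.symm) := by
  unfold TT
  congr 1
  funext i
  simp

/-- **U4T-22** -/
theorem inClassU_of_tensor22 (hF : Fintype.card F = q ^ 2) (H : Subgroup (GL (Fin n) F)) (hHU : H ≤ GU n F q)
    (e : Fin n ≃ Fin 2 × Fin 2) (P : GL (Fin n) F) (f₁ f₂ : (Fin 2 → F) → (Fin 2 → F) → F)
    (hf₁ : IsUnitaryFormPow q f₁) (hf₂ : IsUnitaryFormPow q f₂)
    (hT : IsTensorFormStructure (fun x : F => x ^ q) (hermForm n F q) f₁ f₂ e P)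
    (hH : H ≤ tensorProductSubgroup 2 2 e P) : InClassU n q H := by
  obtain ⟨θ, hθ0, hθ⟩ := exists_theta hF
  obtain ⟨c, hc0, hTc⟩ := hT
  obtain ⟨E₁, hE₁⟩ := exists_alt_basis hF θ hθ0 hθ f₁ hf₁
  obtain ⟨E₂, hE₂⟩ := exists_alt_basis hF θ hθ0 hθ f₂ hf₂
  obtain ⟨P', hP'⟩ : ∃ P' : GL (Fin n) F, P' = P * glReindex e.symm (kronGL E₁ E₂) := ⟨_, rfl⟩
  have htps : tensorProductSubgroup 2 2 e P' = tensorProductSubgroup 2 2 e P := by
    rw [hP']
    exact tps_change 2 2 e P _ (kronGL_mem E₁ E₂)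
  have hform : ∀ x y : Fin 2 × Fin 2 → F, hermForm n F q (TT e P' x) (TT e P' y) =
      c * formOfGram (fun a : F => a ^ q) (NN θ ⊗ₖ NN θ) x y := by
    intro x y
    rw [hP', TT_change, TT_change]
    unfold TT
    rw [hTc, formOfGram_mulVec (fun a : F => a ^ q) (sig0 hF) (sigadd hF) sigmul, kronGL_val, kron_conj,
      hE₁, hE₂]
  -- rationality data
  have hqq : ∀ x : F, (x ^ q) ^ q = x := fun x => frobE_invol hF x
  have hNmem : ∀ a b : Fin 2 × Fin 2, (NN θ ⊗ₖ NN θ) a b ∈ fixQ hF := by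
    rintro ⟨i, j⟩ ⟨k, l⟩
    rw [Matrix.kroneckerMap_apply, mem_fixQ, mul_pow, NN_pow hF θ hθ, NN_pow hF θ hθ]
    ring
  have hN01 : NN θ 0 1 = θ := by simp [NN]
  have hN10 : NN θ 1 0 = -θ := by simp [NN]
  have hN00 : NN θ 0 0 = 0 := by simp [NN]
  have hN11 : NN θ 1 1 = 0 := by simp [NN]
  have hcq : c ^ q = c := by
    have h1 := hform (Pi.single (0, 0) 1) (Pi.single (1, 1) 1)
    have h2 := hform (Pi.single (1, 1) 1) (Pi.single (0, 0) 1)
    rw [formOfGram_single (fun a : F => a ^ q) (sig0 hF) sig1, Matrix.kroneckerMap_apply] at h1 h2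
    simp only [hN01, hN10] at h1 h2
    have h3 := Cfsg.Agent.Lib.Helper18.S5663U2.hermForm_swap hF (TT e P' (Pi.single (0, 0) 1))
      (TT e P' (Pi.single (1, 1) 1))
    rw [h1, h2, mul_pow, mul_pow, neg_pow, neg_one_pow_q hF, hθ] at h3
    have h4 : (c - c ^ q) * (θ * θ) = 0 := by linear_combination h3
    rcases mul_eq_zero.mp h4 with h | h
    · exact (sub_eq_zero.mp h).symm
    · exact absurd h (mul_ne_zero hθ0 hθ0)
  have hrat : IsFormRationalStructure (hermForm n F q) (fixQ hF) 1 P' := by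
    intro u v hu hv
    rw [one_mul, TT_of_comp e P' u, TT_of_comp e P' v, hform]
    apply Subfield.mul_mem _ ((mem_fixQ hF c).mpr hcq)
    unfold formOfGram
    apply Subfield.sum_mem
    intro a _
    apply Subfield.sum_mem
    intro b _
    apply Subfield.mul_mem _ (Subfield.mul_mem _ (hu _) (hNmem a b))
    show (v (e.symm b)) ^ q ∈ fixQ hF
    rw [(mem_fixQ hF _).mp (hv _)]
    exact hv _
  have hsub : H ≤ subfieldSubgroup (fixQ hF) P' := by
    intro h hh
    have h1 : h ∈ tensorProductSubgroup 2 2 e P' := by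
      rw [htps]
      exact hH hh
    rw [tps_eq] at h1
    obtain ⟨M, hMk, rfl⟩ := Subgroup.mem_map.mp h1
    obtain ⟨a, b, rfl⟩ := eq_kronGL_of_mem hMk
    have hGU : psi e P' (kronGL a b) ∈ Cfsg.preserving (Units.coeHom (Matrix (Fin n) (Fin n) F))
        (hermForm n F q) := hHU hh
    have hpres := (psi_mem_preserving_iff e P' hc0 hform (kronGL a b)).mp hGU
    have hmat := (preserves_iff (fun a : F => a ^ q) (sig0 hF) sig1 (sigadd hF) sigmul (NN θ ⊗ₖ NN θ)
      ((kronGL a b : GL (Fin 2 × Fin 2) F) : Matrix (Fin 2 × Fin 2) (Fin 2 × Fin 2) F)).mp hpres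
    rw [kronGL_val, kron_conj] at hmat
    obtain ⟨μa, hμa⟩ := factor_left θ hθ0 _ _ hmat
    obtain ⟨μb, hμb⟩ := factor_right θ hθ0 _ _ hmat
    obtain ⟨la, hla0, hla⟩ := rational_of_simil hF θ hθ0 a μa hμa
    obtain ⟨lb, hlb0, hlb⟩ := rational_of_simil hF θ hθ0 b μb hμb
    have hBmem : ∀ i j : Fin n, (a : Matrix (Fin 2) (Fin 2) F) (e i).1 (e j).1 / la *
        ((b : Matrix (Fin 2) (Fin 2) F) (e i).2 (e j).2 / lb) ∈ fixQ hF := by
      intro i j
      rw [mem_fixQ, mul_pow, hla, hlb]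
    apply Cfsg.Agent.Lib.Helper13.mem_subfieldSubgroup_of_eq (fixQ hF) P' _ (la * lb)
      (mul_ne_zero hla0 hlb0) (fun i j => ⟨_, hBmem i j⟩)
    have hconj : P'⁻¹ * psi e P' (kronGL a b) * P' = glReindex e.symm (kronGL a b) := by
      show P'⁻¹ * (P' * glReindex e.symm (kronGL a b) * P'⁻¹) * P' = _
      group
    rw [hconj, glReindex_val, kronGL_val]
    ext i j
    rw [Matrix.submatrix_apply, Matrix.kroneckerMap_apply, Matrix.smul_apply, smul_eq_mul]
    show (a : Matrix (Fin 2) (Fin 2) F) (e i).1 (e j).1 * (b : Matrix (Fin 2) (Fin 2) F) (e i).2 (e j).2 =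
      la * lb * ((a : Matrix (Fin 2) (Fin 2) F) (e i).1 (e j).1 / la *
        ((b : Matrix (Fin 2) (Fin 2) F) (e i).2 (e j).2 / lb))
    field_simp
  by_cases hq : Odd q
  · exact InClassU.of_subfield_orth H hHU (fixQ hF) P' hq (card_eq_fixQ_sq hF) hrat hsub
  · have h2 : (2 : F) = 0 := two_eq_zero_of_even hF hq
    have hn4 : n = 4 := by
      have := Fintype.card_congr e
      simpa using this
    refine InClassU.of_subfield_symp H hHU (fixQ hF) P' 1 (by rw [hn4]; decide) (card_eq_fixQ_sq hF)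
      one_ne_zero (by rw [one_pow]; linear_combination h2) hrat ?_ hsub
    intro u hu
    rw [TT_of_comp e P' u, hform]
    have hx : ∀ p : Fin 2 × Fin 2, ((u ∘ e.symm) p) ^ q = (u ∘ e.symm) p := fun p => (mem_fixQ hF _).mp (hu _)
    obtain ⟨x, hxdef⟩ : ∃ x : Fin 2 × Fin 2 → F, x = u ∘ e.symm := ⟨_, rfl⟩
    rw [← hxdef] at hx ⊢
    have : formOfGram (fun a : F => a ^ q) (NN θ ⊗ₖ NN θ) x x = 0 := by
      unfold formOfGram
      simp only [Fintype.sum_prod_type, Fin.sum_univ_two, Matrix.kroneckerMap_apply, hN00, hN01, hN10, hN11, hx]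
      linear_combination (θ * θ * (x (0, 0) * x (1, 1) - x (0, 1) * x (1, 0))) * h2
    rw [this, mul_zero]

end Cfsg.Agent.Lib.Helper28.S5663U4T22
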