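import Cfsg.Agent.Lib.Helper28.McLWB0
import Cfsg.Agent.Lib.Helper8.McLWOrdAB
import Cfsg.Agent.Lib.Helper8.McLWOrdU

/-!
# S2047, piece [B]: the seven elements in the McLaughlin group of the list

`exists_tuple`: the McLaughlin group of the list holds five elements `a, …, e` and two elements
`u₁, u₂` with the properties `IsMcLTuple`.  The orders `168` of `⟨a, b⟩` and `40320` of `⟨u₁, u₂⟩`
are helper8's certificates.
-/

set_option autoImplicit false

namespace Cfsg.Agent.Lib.Helper12.McLW

/-- [B] the bridge: the seven elements in `Spor.McL` -/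
theorem exists_tuple : ∃ g u : ℕ → ↥Cfsg.Spor.McL, IsMcLTuple g u :=
  Helper28.exists_tuple_of_cards (le_of_eq card_tabsAB.symm) (le_of_eq card_tabsU.symm)

end Cfsg.Agent.Lib.Helper12.McLW
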