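import Mathlib
import Cfsg.Agent.Lib.Helper28.OTDefs
import Cfsg.Agent.Lib.Helper16.OTRootC

/-!
# Vocabulary for the EXIT of S5681 / S5709  (helper28)

`π = ⟨k₁,k₂⟩` a totally singular line of `W`, `L = Lp k₁ k₂ = U ⊗ π`, `L^⊥ = LpPerp = U ⊗ π^⊥`.

* `piPerp J2 k₁ k₂ = π^⊥`, `LpPerp J2 k₁ k₂ = U ⊗ π^⊥`;
* `InZ J2 k₁ k₂ g` : `g - 1` maps `V` into `L` and kills `L^⊥`  (the shape of `Z_L ≅ Λ²L`);
* `InQ J2 k₁ k₂ g` : `g - 1` maps `V → L^⊥ → L → 0`  (the shape of the unipotent radical `Q_L` of `Stab(L)`);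
* `SgN J2 k d = E k d - E d k - (f(d,d)/2) E k k` and `rhoW … k d = 1 + SgN` : the Siegel transformation `ρ_{k,d}` of `W`
  (`k` singular, `d ⊥ k`); `1 ⊗ ρ_{k,d} = oneK (rhoW …)` (helper16's `oneK`);
* `B0s J1 J2 M k₁ k₂` : every element of `M` which is (an element of `N0 ⊓ IsoG`) times (an element of `Z_L`-shape) has its `Z_L`-part in `Y_π`.
-/

set_option autoImplicit false

namespace Cfsg.Agent.Lib.Helper28.OTX

open Matrix Module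
open Cfsg.Agent.Lib.Helper16.Tens Cfsg.Agent.Lib.Helper10.TensFund
open Cfsg.Agent.Lib.Helper3.SpT (bf E adj uni)
open Cfsg.Agent.Lib.Helper13.TensSO (OrthG IsoG)
open Cfsg.Agent.Lib.Helper28.OT
open Cfsg.Agent.Lib.Helper16.OTRootC (oneK)
open scoped Kronecker

variable {F : Type*} [Field F] {a b : ℕ}

/-- `π^⊥` for `π = ⟨k₁,k₂⟩` -/
def piPerp (J2 : Matrix (Fin b) (Fin b) F) (k1 k2 : Fin b → F) : Submodule F (Fin b → F) where
  carrier := {w | bf J2 w k1 = 0 ∧ bf J2 w k2 = 0}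
  add_mem' := by
    rintro x y ⟨hx1, hx2⟩ ⟨hy1, hy2⟩
    exact ⟨by rw [Cfsg.Agent.Lib.Helper3.SpT.bf_add_left, hx1, hy1, add_zero],
      by rw [Cfsg.Agent.Lib.Helper3.SpT.bf_add_left, hx2, hy2, add_zero]⟩
  zero_mem' := ⟨by simp, by simp⟩
  smul_mem' := by
    rintro c x ⟨hx1, hx2⟩
    exact ⟨by rw [Cfsg.Agent.Lib.Helper3.SpT.bf_smul_left, hx1, mul_zero],
      by rw [Cfsg.Agent.Lib.Helper3.SpT.bf_smul_left, hx2, mul_zero]⟩

theorem mem_piPerp_iff (J2 : Matrix (Fin b) (Fin b) F) (k1 k2 w : Fin b → F) :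
    w ∈ piPerp J2 k1 k2 ↔ bf J2 w k1 = 0 ∧ bf J2 w k2 = 0 := Iff.rfl

/-- `L^⊥ = U ⊗ π^⊥` -/
def LpPerp (J2 : Matrix (Fin b) (Fin b) F) (k1 k2 : Fin b → F) : Submodule F (Fin a × Fin b → F) :=
  tW (a := a) (piPerp J2 k1 k2)

/-- the shape of `Z_L`: `g - 1` maps `V` into `L = U ⊗ π` and kills `L^⊥` -/
structure InZ (J2 : Matrix (Fin b) (Fin b) F) (k1 k2 : Fin b → F) (g : GL (Fin a × Fin b) F) : Prop where
  rng : ∀ v, act g v - v ∈ Lp (a := a) k1 k2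
  fix : ∀ v ∈ LpPerp (a := a) J2 k1 k2, act g v = v

/-- the shape of the unipotent radical `Q_L`: `g - 1` maps `V → L^⊥ → L → 0` -/
structure InQ (J2 : Matrix (Fin b) (Fin b) F) (k1 k2 : Fin b → F) (g : GL (Fin a × Fin b) F) : Prop where
  top : ∀ v, act g v - v ∈ LpPerp (a := a) J2 k1 k2
  mid : ∀ v ∈ LpPerp (a := a) J2 k1 k2, act g v - v ∈ Lp (a := a) k1 k2
  fix : ∀ v ∈ Lp (a := a) k1 k2, act g v = v

/-- the nilpotent part of the Siegel transformation `ρ_{k,d}` of `W`: `w ↦ f(w,d) k - f(w,k) d - (f(d,d)/2) f(w,k) k` -/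
def SgN (J2 : Matrix (Fin b) (Fin b) F) (k d : Fin b → F) : Matrix (Fin b) (Fin b) F :=
  E J2 k d - E J2 d k - (bf J2 d d / 2) • E J2 k k

theorem SgN_mulVec (J2 : Matrix (Fin b) (Fin b) F) (k d w : Fin b → F) :
    SgN J2 k d *ᵥ w = bf J2 w d • k - bf J2 w k • d - (bf J2 d d / 2 * bf J2 w k) • k := by
  unfold SgN
  rw [Matrix.sub_mulVec, Matrix.sub_mulVec, Matrix.smul_mulVec, Cfsg.Agent.Lib.Helper3.SpT.E_mulVec,
    Cfsg.Agent.Lib.Helper3.SpT.E_mulVec, Cfsg.Agent.Lib.Helper3.SpT.E_mulVec, smul_smul]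

theorem SgN_mul_neg {J2 : Matrix (Fin b) (Fin b) F} (hJ2 : OrthG J2) (h2 : (2 : F) ≠ 0) (k d : Fin b → F)
    (hk : bf J2 k k = 0) (hkd : bf J2 k d = 0) :
    (1 + SgN J2 k d) * (1 + SgN J2 k (-d)) = 1 := by
  have hdk : bf J2 d k = 0 := by rw [hJ2.symm, hkd]
  apply Cfsg.Agent.Lib.Helper3.SpT.mat_ext_mulVec
  intro w
  have e1 : SgN J2 k (-d) *ᵥ w = -(bf J2 w d • k) + bf J2 w k • d - (bf J2 d d / 2 * bf J2 w k) • k := by
    rw [SgN_mulVec]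
    simp only [Cfsg.Agent.Lib.Helper3.SpT.bf_neg_right, Cfsg.Agent.Lib.Helper3.SpT.bf_neg_left, neg_neg, neg_smul, smul_neg,
      sub_neg_eq_add]
  have e2 : bf J2 (w + SgN J2 k (-d) *ᵥ w) d = bf J2 w d + bf J2 w k * bf J2 d d := by
    rw [e1]
    simp only [Cfsg.Agent.Lib.Helper3.SpT.bf_add_left, Cfsg.Agent.Lib.Helper3.SpT.bf_sub_left,
      Cfsg.Agent.Lib.Helper3.SpT.bf_neg_left, Cfsg.Agent.Lib.Helper3.SpT.bf_smul_left, hkd]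
    ring
  have e3 : bf J2 (w + SgN J2 k (-d) *ᵥ w) k = bf J2 w k := by
    rw [e1]
    simp only [Cfsg.Agent.Lib.Helper3.SpT.bf_add_left, Cfsg.Agent.Lib.Helper3.SpT.bf_sub_left,
      Cfsg.Agent.Lib.Helper3.SpT.bf_neg_left, Cfsg.Agent.Lib.Helper3.SpT.bf_smul_left, hk, hdk]
    ring
  rw [← Matrix.mulVec_mulVec, Matrix.add_mulVec (1 : Matrix (Fin b) (Fin b) F) (SgN J2 k (-d)), Matrix.one_mulVec,
    Matrix.add_mulVec, Matrix.one_mulVec, SgN_mulVec J2 k d, e2, e3, e1]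
  funext i
  simp only [Pi.add_apply, Pi.sub_apply, Pi.smul_apply, Pi.neg_apply, smul_eq_mul]
  field_simp
  ring

/-- the Siegel transformation `ρ_{k,d}` of `W` (`k` singular, `d ⊥ k`) -/
def rhoW {J2 : Matrix (Fin b) (Fin b) F} (hJ2 : OrthG J2) (h2 : (2 : F) ≠ 0) (k d : Fin b → F)
    (hk : bf J2 k k = 0) (hkd : bf J2 k d = 0) : GL (Fin b) F where
  val := 1 + SgN J2 k d
  inv := 1 + SgN J2 k (-d)
  val_inv := SgN_mul_neg hJ2 h2 k d hk hkd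
  inv_val := by
    have := SgN_mul_neg hJ2 h2 k (-d) hk (by rw [Cfsg.Agent.Lib.Helper3.SpT.bf_neg_right, hkd, neg_zero])
    rwa [neg_neg] at this

theorem rhoW_val {J2 : Matrix (Fin b) (Fin b) F} (hJ2 : OrthG J2) (h2 : (2 : F) ≠ 0) (k d : Fin b → F)
    (hk : bf J2 k k = 0) (hkd : bf J2 k d = 0) :
    ((rhoW hJ2 h2 k d hk hkd : GL (Fin b) F) : Matrix (Fin b) (Fin b) F) = 1 + SgN J2 k d := rfl

/-- (B0s): the `Z_L`-part of an element of `M ∩ Z_L · (N0 ⊓ IsoG)` lies in `Y_π` -/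
def B0s (J1 : Matrix (Fin a) (Fin a) F) (J2 : Matrix (Fin b) (Fin b) F) (M : Subgroup (GL (Fin a × Fin b) F))
    (k1 k2 : Fin b → F) : Prop :=
  ∀ g ∈ M, ∀ n ∈ Cfsg.Geo.kroneckerSubgroup a b F, n ∈ IsoG (J1 ⊗ₖ J2) → InZ J2 k1 k2 (g * n⁻¹) →
    ∃ c : F, ((g * n⁻¹ : GL (Fin a × Fin b) F) : Matrix (Fin a × Fin b) (Fin a × Fin b) F) = 1 + c • nL (a := a) J2 k1 k2

end Cfsg.Agent.Lib.Helper28.OTX
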