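import Cfsg.Agent.Lib.Helper28.BSGSCore

/-!
# Verified Schreier–Sims: completeness of sifting

Every element of the group generated by the strong generators sifts through a good chain.
-/

set_option autoImplicit false

namespace Cfsg.Agent.Lib.Helper28.BSGS

open MulAction

variable {G₀ : Type*} [Group G₀] {X : Type*} [MulAction G₀ X]

theorem chain_complete [Finite G₀] : ∀ (levels : List (SLevel G₀ X)) (S : List G₀),
    GoodChain S levels → ∀ g ∈ Subgroup.closure {s | s ∈ S}, Sifts levels g := by
  classical
  intro levels
  induction levels with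
  | nil =>
    intro S hS g hg
    have hS' : S = [] := hS
    subst hS'
    have hemp : {s : G₀ | s ∈ ([] : List G₀)} = ∅ := by
      ext s; simp
    rw [hemp, Subgroup.closure_empty, Subgroup.mem_bot] at hg
    exact hg
  | cons lv rest ih =>
    intro S hS g hg
    obtain ⟨hS', hnd, hb, hub, hu, hO, hsift, hrest⟩ := hS
    obtain ⟨ihcard, ihsift⟩ := chain_main rest lv.S' hrest
    have hL : Subgroup.closure {s | s ∈ lv.S'} ≤ Subgroup.closure {s | s ∈ S} :=
      Subgroup.closure_mono (fun s hs => (hS' s hs).1)
    have hLb : ∀ l ∈ Subgroup.closure {s | s ∈ lv.S'}, l • lv.b = lv.b := by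
      intro l hl
      have hle : Subgroup.closure {s | s ∈ lv.S'} ≤ stabilizer G₀ lv.b := by
        rw [Subgroup.closure_le]
        intro s hs
        exact mem_stabilizer_iff.mpr (hS' s hs).2
      exact mem_stabilizer_iff.mp (hle hl)
    have hstep := level_step {s | s ∈ S} (Subgroup.closure {s | s ∈ lv.S'}) lv.b lv.O.toFinset lv.u
      hL hLb (fun x hx => hO x (List.mem_toFinset.mp hx)) (List.mem_toFinset.mpr hb) hub
      (fun x hx => hu x (List.mem_toFinset.mp hx))
      (by
        intro s hs x hx
        have hx' := List.mem_toFinset.mp hx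
        have h1 := hsift s hs x hx'
        obtain ⟨h2, h3⟩ := h1
        rw [mul_smul, hu x hx'] at h2 h3
        refine ⟨List.mem_toFinset.mpr h2, ?_⟩
        have h4 := ihsift _ h3
        rwa [← mul_assoc] at h4)
    obtain ⟨h1, h2⟩ := hstep.1 g hg
    exact ⟨List.mem_toFinset.mp h1, ih lv.S' hrest _ h2⟩

end Cfsg.Agent.Lib.Helper28.BSGS
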