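import Cfsg.Agent.Lib.Helper28.OutM24

set_option autoImplicit false

/-!
The centralizer of `cubeTwist` (an element of order 5) in `Cfsg.M24`: up to a power of `cubeTwist`
its elements are 12 explicit tables, found by a staged search over the images of the fixed points
and of one point in each 5-cycle, pruned by the condition that octads go to code words.
-/

namespace Cfsg.Agent.Lib.Helper28

open Cfsg MulAction
open scoped Pointwise

/-- the image under `T` of the set with mask `u` meets every basis code word evenly -/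
def DCheck (u : ℕ) (T : Fin 24 → Fin 24) : Prop :=
  ∀ k : Fin 12, (Finset.univ.filter fun a : Fin 24 =>
    u.testBit a.val = true ∧ (hm k).testBit (T a).val = true).card % 2 = 0

instance (u : ℕ) (T : Fin 24 → Fin 24) : Decidable (DCheck u T) := by
  unfold DCheck; infer_instance

theorem dCheck_of_mem {g : Equiv.Perm GolayPt} (hg : g ∈ M24) {T : Fin 24 → Fin 24}
    (hT : TActs g T) {u : ℕ} (hu : IsCodeMask u) : DCheck u T := by
  intro k
  have h1 := golayCode_isGolayLike.even_inter _ _ (bind_maskSet_mem u hu)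
    (permWord_mem (M24.inv_mem hg) (hvec_mem k))
  rw [bsupp_bind] at h1
  have h2 : (maskSet u ∩ bsupp (permWord g⁻¹ (hvec k))).card =
      (Finset.univ.filter fun a : Fin 24 =>
        u.testBit a.val = true ∧ (hm k).testBit (T a).val = true).card := by
    symm
    apply Finset.card_bij (fun a _ => Helper4.pt a)
    · intro a ha
      rw [Finset.mem_filter] at ha
      rw [Finset.mem_inter, mem_bsupp]
      refine ⟨(pt_mem_maskSet u a).mpr ha.2.1, ?_⟩
      show hvec k (g (Helper4.pt a)) ≠ 0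
      rw [hT, hvec_apply, if_pos ha.2.2]
      exact one_ne_zero
    · intro a _ b _ h
      exact Helper4.pt_bijective.1 h
    · intro x hx
      rw [Finset.mem_inter, mem_bsupp] at hx
      refine ⟨ptInv x, ?_, pt_ptInv x⟩
      rw [Finset.mem_filter]
      refine ⟨Finset.mem_univ _, (mem_maskSet u x).mp hx.1, ?_⟩
      have h3 : hvec k (g x) ≠ 0 := hx.2
      rw [← pt_ptInv x, hT, hvec_apply] at h3
      by_contra hc
      rw [if_neg hc] at h3
      exact h3 rfl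
  rw [← h2]
  exact Nat.even_iff.mp h1

theorem DCheck.congr {u : ℕ} {T T' : Fin 24 → Fin 24}
    (h : ∀ a : Fin 24, u.testBit a.val = true → T a = T' a) (hd : DCheck u T) : DCheck u T' := by
  intro k
  rw [← hd k]
  congr 2
  apply Finset.filter_congr
  intro a _
  constructor
  · rintro ⟨h1, h2⟩
    exact ⟨h1, by rw [h a h1]; exact h2⟩
  · rintro ⟨h1, h2⟩
    exact ⟨h1, by rw [← h a h1]; exact h2⟩

/-! ### the data of `cubeTwist` -/

def o5_seedidx : Fin 24 → ℕ := ![1, 4, 4, 2, 4, 5, 4, 5, 6, 6, 5, 7, 6, 6, 7, 3, 6, 7, 4, 7, 5, 5, 7, 0]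

def o5_dl : Fin 24 → ℕ := ![0, 0, 3, 0, 2, 0, 4, 4, 0, 3, 3, 0, 4, 2, 3, 0, 1, 4, 1, 1, 2, 1, 2, 0]

def o5_seedpt : List (Fin 24) := [23, 0, 3, 15, 1, 5, 8, 11]

set_option maxRecDepth 100000 in
theorem o5_decomp : ∀ a : Fin 24,
    cubeTwistTab^[o5_dl a] (o5_seedpt.getD (o5_seedidx a) 0) = a := by
  decide +kernel

/-- the table determined by the images of the seeds -/
def o5_F (s : List (Fin 24)) (a : Fin 24) : Fin 24 :=
  cubeTwistTab^[o5_dl a] (s.getD (o5_seedidx a) 0)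

/-- the 12 elements of the centralizer mapping the point 1 to one of 1, 5, 8, 11 -/
def o5_cos : Fin 12 → Fin 24 → Fin 24 := ![
  ![0, 1, 2, 3, 4, 5, 6, 7, 8, 9, 10, 11, 12, 13, 14, 15, 16, 17, 18, 19, 20, 21, 22, 23],
  ![0, 1, 2, 15, 4, 19, 6, 11, 20, 5, 17, 13, 21, 7, 8, 23, 10, 16, 18, 9, 14, 22, 12, 3],
  ![0, 1, 2, 23, 4, 9, 6, 13, 14, 19, 16, 7, 22, 11, 20, 3, 17, 10, 18, 5, 8, 12, 21, 15],
  ![3, 8, 9, 0, 13, 22, 12, 19, 4, 1, 11, 5, 18, 6, 10, 23, 2, 7, 16, 21, 17, 14, 20, 15],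
  ![3, 8, 9, 15, 13, 1, 12, 6, 10, 21, 2, 19, 20, 5, 17, 0, 7, 11, 16, 22, 4, 18, 14, 23],
  ![3, 8, 9, 23, 13, 21, 12, 5, 17, 22, 7, 6, 14, 19, 4, 15, 11, 2, 16, 1, 10, 20, 18, 0],
  ![15, 5, 10, 0, 20, 13, 7, 16, 1, 2, 8, 17, 6, 4, 22, 3, 18, 14, 21, 11, 12, 9, 19, 23],
  ![15, 5, 10, 3, 20, 11, 7, 17, 12, 13, 14, 4, 9, 16, 1, 23, 8, 18, 21, 2, 22, 19, 6, 0],
  ![15, 5, 10, 23, 20, 2, 7, 4, 22, 11, 18, 16, 19, 17, 12, 0, 14, 8, 21, 13, 1, 6, 9, 3],
  ![23, 11, 14, 0, 22, 10, 17, 20, 6, 4, 21, 8, 2, 18, 9, 15, 1, 12, 19, 16, 5, 7, 13, 3],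
  ![23, 11, 14, 3, 22, 4, 17, 18, 9, 16, 1, 20, 13, 8, 5, 0, 12, 21, 19, 10, 6, 2, 7, 15],
  ![23, 11, 14, 15, 22, 16, 17, 8, 5, 10, 12, 18, 7, 20, 6, 3, 21, 1, 19, 4, 9, 13, 2, 0]]

/-- the stages of the search -/
def O5S4 (f0 f1 f2 f3 w1 w2 w3 : Fin 24) : Prop :=
  ∀ w4 : Fin 24, cubeTwistTab w4 ≠ w4 → DCheck 10558 (o5_F [f0, f1, f2, f3, w1, w2, w3, w4]) →
    ∃ i : Fin 12, ∀ a, o5_F [f0, f1, f2, f3, w1, w2, w3, w4] a = o5_cos i a

instance (f0 f1 f2 f3 w1 w2 w3 : Fin 24) : Decidable (O5S4 f0 f1 f2 f3 w1 w2 w3) := by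
  unfold O5S4; infer_instance

def O5S3 (f0 f1 f2 f3 w1 w2 : Fin 24) : Prop :=
  ∀ w3 : Fin 24, cubeTwistTab w3 ≠ w3 → DCheck 5279 (o5_F [f0, f1, f2, f3, w1, w2, w3]) →
    O5S4 f0 f1 f2 f3 w1 w2 w3

instance (f0 f1 f2 f3 w1 w2 : Fin 24) : Decidable (O5S3 f0 f1 f2 f3 w1 w2) := by
  unfold O5S3; infer_instance

def O5S2 (f0 f1 f2 f3 w1 : Fin 24) : Prop :=
  ∀ w2 : Fin 24, cubeTwistTab w2 ≠ w2 → DCheck 11535529 (o5_F [f0, f1, f2, f3, w1, w2]) →
    O5S3 f0 f1 f2 f3 w1 w2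

instance (f0 f1 f2 f3 w1 : Fin 24) : Decidable (O5S2 f0 f1 f2 f3 w1) := by
  unfold O5S2; infer_instance

def O5S1 (f0 f1 f2 f3 : Fin 24) : Prop :=
  ∀ w1 : Fin 24, (w1 = 1 ∨ w1 = 5 ∨ w1 = 8 ∨ w1 = 11) →
    DCheck 8683614 (o5_F [f0, f1, f2, f3, w1]) → O5S2 f0 f1 f2 f3 w1

instance (f0 f1 f2 f3 : Fin 24) : Decidable (O5S1 f0 f1 f2 f3) := by
  unfold O5S1; infer_instance

def O5S0b (f0 f1 f2 : Fin 24) : Prop :=
  ∀ f3 : Fin 24, cubeTwistTab f3 = f3 → f3 ≠ f0 → f3 ≠ f1 → f3 ≠ f2 → O5S1 f0 f1 f2 f3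

instance (f0 f1 f2 : Fin 24) : Decidable (O5S0b f0 f1 f2) := by
  unfold O5S0b; infer_instance

def O5S0 (f0 f1 : Fin 24) : Prop :=
  ∀ f2 : Fin 24, cubeTwistTab f2 = f2 → f2 ≠ f0 → f2 ≠ f1 → O5S0b f0 f1 f2

instance (f0 f1 : Fin 24) : Decidable (O5S0 f0 f1) := by
  unfold O5S0; infer_instance

set_option maxRecDepth 1000000 in
set_option maxHeartbeats 40000000 in
theorem o5_search :
    ∀ f0 : Fin 24, cubeTwistTab f0 = f0 → ∀ f1 : Fin 24, cubeTwistTab f1 = f1 → f1 ≠ f0 →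
      O5S0 f0 f1 := by
  decide +kernel

set_option maxRecDepth 100000 in
theorem o5_masks : IsCodeMask 8683614 ∧ IsCodeMask 11535529 ∧ IsCodeMask 5279 ∧
    IsCodeMask 10558 := by
  decide +kernel

set_option maxRecDepth 100000 in
theorem o5_mask_seeds : (∀ a : Fin 24, (8683614 : ℕ).testBit a.val = true → o5_seedidx a < 5) ∧
    (∀ a : Fin 24, (11535529 : ℕ).testBit a.val = true → o5_seedidx a < 6) ∧
    (∀ a : Fin 24, (5279 : ℕ).testBit a.val = true → o5_seedidx a < 7) := by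
  decide +kernel

theorem o5_F_prefix (l l' : List (Fin 24)) (a : Fin 24) (h : o5_seedidx a < l.length) :
    o5_F (l ++ l') a = o5_F l a := by
  unfold o5_F
  rw [List.getD_append _ _ _ _ h]

set_option maxRecDepth 100000 in
theorem o5_to_rep : ∀ y : Fin 24, cubeTwistTab y ≠ y → ∃ j : Fin 5,
    (cubeTwistTab^[j.val] y = 1 ∨ cubeTwistTab^[j.val] y = 5 ∨ cubeTwistTab^[j.val] y = 8 ∨
      cubeTwistTab^[j.val] y = 11) := by
  decide +kernel

/-- the centralizer of `cubeTwist` in `M24`, elements mapping 1 to a representative -/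
theorem cent_cubeTwist_rep {g : Equiv.Perm GolayPt} (hg : g ∈ M24)
    (hc : g * cubeTwist = cubeTwist * g)
    (hrep : tabOf g 1 = 1 ∨ tabOf g 1 = 5 ∨ tabOf g 1 = 8 ∨ tabOf g 1 = 11) :
    ∃ i : Fin 12, TActs g (o5_cos i) := by
  have hT := tActs_tabOf g
  have hcomm := tab_comm_iterate cubeTwist_acts hT hc
  have hinj := tabOf_inj g
  set T := tabOf g with hTdef
  have hF : T = o5_F [T 23, T 0, T 3, T 15, T 1, T 5, T 8, T 11] := by
    funext a
    have h1 : T a = cubeTwistTab^[o5_dl a] (T (o5_seedpt.getD (o5_seedidx a) 0)) := by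
      calc T a = T (cubeTwistTab^[o5_dl a] (o5_seedpt.getD (o5_seedidx a) 0)) := by
            rw [o5_decomp a]
        _ = _ := hcomm _ _
    rw [h1]
    unfold o5_F
    congr 1
    have hlt : ∀ a : Fin 24, o5_seedidx a < 8 := by decide
    have := hlt a
    generalize o5_seedidx a = s at this
    interval_cases s <;> rfl
  have hfix : ∀ x : Fin 24, cubeTwistTab x = x → cubeTwistTab (T x) = T x := by
    intro x hx
    have := hcomm 1 x
    simp only [Function.iterate_one] at this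
    rw [hx] at this
    exact this.symm
  have hne : ∀ x y : Fin 24, x ≠ y → T x ≠ T y := fun x y hxy h => hxy (hinj _ _ h)
  have hmove : ∀ x : Fin 24, cubeTwistTab x ≠ x → cubeTwistTab (T x) ≠ T x := by
    intro x hx h
    have := hcomm 1 x
    simp only [Function.iterate_one] at this
    rw [h] at this
    exact hx (hinj _ _ this)
  have hD : ∀ u : ℕ, IsCodeMask u → DCheck u T := fun u hu => dCheck_of_mem hg hT hu
  have hD1 : DCheck 8683614 (o5_F [T 23, T 0, T 3, T 15, T 1]) := by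
    refine (hD _ o5_masks.1).congr fun a ha => ?_
    rw [hF]
    exact o5_F_prefix [T 23, T 0, T 3, T 15, T 1] [T 5, T 8, T 11] a (o5_mask_seeds.1 a ha)
  have hD2 : DCheck 11535529 (o5_F [T 23, T 0, T 3, T 15, T 1, T 5]) := by
    refine (hD _ o5_masks.2.1).congr fun a ha => ?_
    rw [hF]
    exact o5_F_prefix [T 23, T 0, T 3, T 15, T 1, T 5] [T 8, T 11] a (o5_mask_seeds.2.1 a ha)
  have hD3 : DCheck 5279 (o5_F [T 23, T 0, T 3, T 15, T 1, T 5, T 8]) := by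
    refine (hD _ o5_masks.2.2.1).congr fun a ha => ?_
    rw [hF]
    exact o5_F_prefix [T 23, T 0, T 3, T 15, T 1, T 5, T 8] [T 11] a (o5_mask_seeds.2.2 a ha)
  have hD4 : DCheck 10558 T := hD _ o5_masks.2.2.2
  rw [hF] at hD4
  obtain ⟨i, hi⟩ := o5_search (T 23) (hfix 23 (by decide))
    (T 0) (hfix 0 (by decide)) (hne 0 23 (by decide))
    (T 3) (hfix 3 (by decide)) (hne 3 23 (by decide)) (hne 3 0 (by decide))
    (T 15) (hfix 15 (by decide)) (hne 15 23 (by decide)) (hne 15 0 (by decide))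
    (hne 15 3 (by decide))
    (T 1) hrep hD1 (T 5) (hmove 5 (by decide)) hD2
    (T 8) (hmove 8 (by decide)) hD3 (T 11) (hmove 11 (by decide)) hD4
  refine ⟨i, fun a => ?_⟩
  rw [hT a, ← hi a]
  exact congrArg Helper4.pt (congrFun hF a)

/-- the centralizer of `cubeTwist` in `M24`: up to a power of `cubeTwist`, 12 explicit tables -/
theorem cent_cubeTwist {g : Equiv.Perm GolayPt} (hg : g ∈ M24)
    (hc : g * cubeTwist = cubeTwist * g) :
    ∃ j : Fin 5, ∃ i : Fin 12, TActs (cubeTwist ^ j.val * g) (o5_cos i) := by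
  have hT := tActs_tabOf g
  have hcomm := tab_comm_iterate cubeTwist_acts hT hc
  have hmove : cubeTwistTab (tabOf g 1) ≠ tabOf g 1 := by
    intro h
    have := hcomm 1 1
    simp only [Function.iterate_one] at this
    rw [h] at this
    exact absurd (tabOf_inj g _ _ this) (by decide)
  obtain ⟨j, hj⟩ := o5_to_rep _ hmove
  refine ⟨j, ?_⟩
  have hg' : cubeTwist ^ j.val * g ∈ M24 :=
    M24.mul_mem (M24.pow_mem cubeTwist_mem_M24 _) hg
  have hc' : cubeTwist ^ j.val * g * cubeTwist = cubeTwist * (cubeTwist ^ j.val * g) := by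
    rw [mul_assoc, hc, ← mul_assoc, ← mul_assoc, ← pow_succ, ← pow_succ']
  apply cent_cubeTwist_rep hg' hc'
  have h1 : tabOf (cubeTwist ^ j.val * g) 1 = cubeTwistTab^[j.val] (tabOf g 1) :=
    TActs.tab_eq (tActs_tabOf _) ((cubeTwist_acts.pow j.val).mul hT) 1
  rw [h1]
  exact hj

end Cfsg.Agent.Lib.Helper28
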