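import Cfsg.Agent.Lib.Helper28.M24Five

set_option autoImplicit false

/-!
Convenient forms of the 5-fold transitivity of `Cfsg.M24`: lists of points and disjoint families
of sets.
-/

namespace Cfsg.Agent.Lib.Helper28

open Cfsg MulAction
open scoped Pointwise

theorem card_golayPt' : Nat.card GolayPt = 24 := by
  rw [Nat.card_eq_fintype_card]; rfl

theorem M24_exists_map_emb {n : ℕ} (hn : n ≤ 5) (x y : Fin n ↪ GolayPt) :
    ∃ g ∈ M24, ∀ i, g (x i) = y i := by
  haveI := M24_isMultiplyPretransitive
  haveI : IsMultiplyPretransitive M24 GolayPt n :=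
    isMultiplyPretransitive_of_le (n := 5) hn (by rw [card_golayPt']; norm_num)
  obtain ⟨g, hg⟩ := exists_smul_eq (M := M24) x y
  refine ⟨g.1, g.2, fun i => ?_⟩
  have := congrArg (fun e : Fin n ↪ GolayPt => e i) hg
  exact this

/-- `M24` maps any duplicate-free list of at most five points onto any other of that length -/
theorem M24_exists_map_list (l l' : List GolayPt) (hl : l.Nodup) (hl' : l'.Nodup)
    (hlen : l.length = l'.length) (h5 : l.length ≤ 5) : ∃ g ∈ M24, l.map g = l' := by
  let x : Fin l.length ↪ GolayPt := ⟨l.get, List.nodup_iff_injective_get.mp hl⟩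
  let y : Fin l.length ↪ GolayPt :=
    ⟨fun i => l'.get (i.cast hlen), fun i j h => by
      have := List.nodup_iff_injective_get.mp hl' h
      exact Fin.cast_injective _ this⟩
  obtain ⟨g, hg, h⟩ := M24_exists_map_emb h5 x y
  refine ⟨g, hg, ?_⟩
  apply List.ext_getElem
  · rw [List.length_map, hlen]
  · intro i h1 h2
    rw [List.getElem_map]
    rw [List.length_map] at h1
    exact h ⟨i, h1⟩

theorem smul_eq_of_map_toList {g : Equiv.Perm GolayPt} {A A' : Finset GolayPt}
    (h : A.toList.map g = A'.toList) : g • A = A' := by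
  ext y
  rw [Finset.mem_smul_finset]
  constructor
  · rintro ⟨x, hx, rfl⟩
    rw [← Finset.mem_toList, ← h, List.mem_map]
    exact ⟨x, Finset.mem_toList.mpr hx, rfl⟩
  · intro hy
    rw [← Finset.mem_toList, ← h, List.mem_map] at hy
    obtain ⟨x, hx, rfl⟩ := hy
    exact ⟨x, Finset.mem_toList.mp hx, rfl⟩

/-- `M24` maps three disjoint sets with at most five points in all onto any three such sets of
the same sizes -/
theorem M24_exists_map_three (A B C A' B' C' : Finset GolayPt)
    (hAB : Disjoint A B) (hAC : Disjoint A C) (hBC : Disjoint B C)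
    (hAB' : Disjoint A' B') (hAC' : Disjoint A' C') (hBC' : Disjoint B' C')
    (hA : A.card = A'.card) (hB : B.card = B'.card) (hC : C.card = C'.card)
    (h5 : A.card + B.card + C.card ≤ 5) :
    ∃ g ∈ M24, g • A = A' ∧ g • B = B' ∧ g • C = C' := by
  have hnd : ∀ A B C : Finset GolayPt, Disjoint A B → Disjoint A C → Disjoint B C →
      (A.toList ++ (B.toList ++ C.toList)).Nodup := by
    intro A B C hAB hAC hBC
    rw [List.nodup_append, List.nodup_append]
    refine ⟨Finset.nodup_toList A, ⟨Finset.nodup_toList B, Finset.nodup_toList C, ?_⟩, ?_⟩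
    · intro a ha b hb hab
      rw [Finset.mem_toList] at ha hb
      exact Finset.disjoint_left.mp hBC ha (hab ▸ hb)
    · intro a ha b hb hab
      rw [Finset.mem_toList] at ha
      rw [List.mem_append, Finset.mem_toList, Finset.mem_toList] at hb
      rcases hb with hb | hb
      · exact Finset.disjoint_left.mp hAB ha (hab ▸ hb)
      · exact Finset.disjoint_left.mp hAC ha (hab ▸ hb)
  obtain ⟨g, hg, h⟩ := M24_exists_map_list (A.toList ++ (B.toList ++ C.toList))
    (A'.toList ++ (B'.toList ++ C'.toList)) (hnd A B C hAB hAC hBC)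
    (hnd A' B' C' hAB' hAC' hBC')
    (by simp only [List.length_append, Finset.length_toList]; omega)
    (by simp only [List.length_append, Finset.length_toList]; omega)
  refine ⟨g, hg, ?_⟩
  rw [List.map_append, List.map_append] at h
  have h1 := List.append_inj h (by rw [List.length_map, Finset.length_toList,
    Finset.length_toList, hA])
  have h2 := List.append_inj h1.2 (by rw [List.length_map, Finset.length_toList,
    Finset.length_toList, hB])
  exact ⟨smul_eq_of_map_toList h1.1, smul_eq_of_map_toList h2.1, smul_eq_of_map_toList h2.2⟩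

/-- `M24` is transitive on pairs of sets with given sizes and intersection size, as long as the
union has at most five points -/
theorem M24_exists_map_pair (s t s' t' : Finset GolayPt) (hs : s.card = s'.card)
    (ht : t.card = t'.card) (hst : (s ∩ t).card = (s' ∩ t').card) (h5 : (s ∪ t).card ≤ 5) :
    ∃ g ∈ M24, g • s = s' ∧ g • t = t' := by
  have e1 : ∀ s t : Finset GolayPt, (s \ t).card = s.card - (s ∩ t).card := by
    intro s t
    have := Finset.card_sdiff_add_card_inter s t
    omega
  have e2 : ∀ s t : Finset GolayPt, (s ∪ t).card = (s ∩ t).card + (s \ t).card + (t \ s).card := by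
    intro s t
    have h1 := Finset.card_sdiff_add_card_inter s t
    have h2 := Finset.card_sdiff_add_card_inter t s
    have h3 := Finset.card_union_add_card_inter s t
    rw [Finset.inter_comm t s] at h2
    omega
  have d1 : ∀ s t : Finset GolayPt, Disjoint (s ∩ t) (s \ t) := by
    intro s t
    exact Finset.disjoint_left.mpr (fun x hx hx' =>
      (Finset.mem_sdiff.mp hx').2 (Finset.mem_inter.mp hx).2)
  have d2 : ∀ s t : Finset GolayPt, Disjoint (s ∩ t) (t \ s) := by
    intro s t
    exact Finset.disjoint_left.mpr (fun x hx hx' =>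
      (Finset.mem_sdiff.mp hx').2 (Finset.mem_inter.mp hx).1)
  have d3 : ∀ s t : Finset GolayPt, Disjoint (s \ t) (t \ s) := by
    intro s t
    exact Finset.disjoint_left.mpr (fun x hx hx' =>
      (Finset.mem_sdiff.mp hx').2 (Finset.mem_sdiff.mp hx).1)
  obtain ⟨g, hg, h1, h2, h3⟩ := M24_exists_map_three (s ∩ t) (s \ t) (t \ s) (s' ∩ t') (s' \ t')
    (t' \ s') (d1 s t) (d2 s t) (d3 s t) (d1 s' t') (d2 s' t') (d3 s' t') hst
    (by rw [e1, e1, hs, hst])
    (by rw [e1, e1, ht, Finset.inter_comm t s, Finset.inter_comm t' s', hst])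
    (by rw [← e2]; exact h5)
  have u1 : ∀ s t : Finset GolayPt, (s ∩ t) ∪ (s \ t) = s := by
    intro s t
    rw [Finset.union_comm, Finset.sdiff_union_inter]
  have u2 : ∀ s t : Finset GolayPt, (s ∩ t) ∪ (t \ s) = t := by
    intro s t
    rw [Finset.inter_comm, Finset.union_comm, Finset.sdiff_union_inter]
  refine ⟨g, hg, ?_, ?_⟩
  · rw [← u1 s t, Finset.smul_finset_union, h1, h2, u1]
  · rw [← u2 s t, Finset.smul_finset_union, h1, h3, u2]

/-- `M24` is transitive on sets of a given size at most five -/
theorem M24_exists_map_set (s s' : Finset GolayPt) (hs : s.card = s'.card) (h5 : s.card ≤ 5) :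
    ∃ g ∈ M24, g • s = s' := by
  obtain ⟨g, hg, h, _⟩ := M24_exists_map_pair s s s' s' hs hs
    (by rw [Finset.inter_self, Finset.inter_self, hs]) (by rw [Finset.union_self]; exact h5)
  exact ⟨g, hg, h⟩

end Cfsg.Agent.Lib.Helper28
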