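import Cfsg.Agent.Lib.Helper28.M24Order

set_option autoImplicit false

/-!
Orders of the pointwise stabilizers of at most five points in `Cfsg.M24`.
-/

namespace Cfsg.Agent.Lib.Helper28

open Cfsg MulAction

theorem natCard_golayPt : Nat.card GolayPt = 24 := by
  rw [Nat.card_eq_fintype_card]; rfl

instance : IsMultiplyPretransitive M24 GolayPt 5 := M24_isMultiplyPretransitive

/-- the order of the pointwise stabilizer of `k ≤ 5` points -/
theorem card_fixingSubgroup_M24 (s : Set GolayPt) (k : ℕ) (hk : k ≤ 5) (hs : s.ncard = k) :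
    Nat.card (fixingSubgroup M24 s) * ((24).factorial / (24 - k).factorial) = 244823040 := by
  have hk' : IsMultiplyPretransitive M24 GolayPt k :=
    isMultiplyPretransitive_of_le (G := M24) (α := GolayPt) (n := 5) hk (by rw [natCard_golayPt]; norm_num)
  have h1 := hk'.index_of_fixingSubgroup_mul hs
  rw [natCard_golayPt] at h1
  have h2 := Subgroup.card_mul_index (fixingSubgroup M24 s)
  rw [card_M24] at h2
  have h3 : (fixingSubgroup M24 s).index = (24).factorial / (24 - k).factorial := by
    rw [← h1, Nat.mul_div_cancel _ (Nat.factorial_pos _)]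
  rw [← h3]
  exact h2

theorem card_stabilizer_M24 (p : GolayPt) : Nat.card (stabilizer M24 p) = 10200960 := by
  have h := card_fixingSubgroup_M24 {p} 1 (by norm_num) (Set.ncard_singleton p)
  have e : fixingSubgroup M24 ({p} : Set GolayPt) = stabilizer M24 p := by
    ext g
    rw [mem_fixingSubgroup_iff, mem_stabilizer_iff]
    simp
  rw [e] at h
  have : (24).factorial / (24 - 1).factorial = 24 := by decide
  rw [this] at h
  omega

theorem card_stabilizer_inf_M24 (p q : GolayPt) (hpq : p ≠ q) :
    Nat.card ↥(stabilizer M24 p ⊓ stabilizer M24 q) = 443520 := by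
  have h := card_fixingSubgroup_M24 {p, q} 2 (by norm_num) (Set.ncard_pair hpq)
  have e : fixingSubgroup M24 ({p, q} : Set GolayPt) = stabilizer M24 p ⊓ stabilizer M24 q := by
    ext g
    rw [mem_fixingSubgroup_iff, Subgroup.mem_inf, mem_stabilizer_iff, mem_stabilizer_iff]
    simp
  rw [e] at h
  have : (24).factorial / (24 - 2).factorial = 552 := by decide
  rw [this] at h
  omega

theorem card_stabilizer_inf3_M24 (p q r : GolayPt) (hpq : p ≠ q) (hpr : p ≠ r) (hqr : q ≠ r) :
    Nat.card ↥(stabilizer M24 p ⊓ stabilizer M24 q ⊓ stabilizer M24 r) = 20160 := by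
  have h := card_fixingSubgroup_M24 {p, q, r} 3 (by norm_num)
    (Set.ncard_eq_three.mpr ⟨p, q, r, hpq, hpr, hqr, rfl⟩)
  have e : fixingSubgroup M24 ({p, q, r} : Set GolayPt) =
      stabilizer M24 p ⊓ stabilizer M24 q ⊓ stabilizer M24 r := by
    ext g
    rw [mem_fixingSubgroup_iff, Subgroup.mem_inf, Subgroup.mem_inf, mem_stabilizer_iff,
      mem_stabilizer_iff, mem_stabilizer_iff]
    simp [and_assoc]
  rw [e] at h
  have : (24).factorial / (24 - 3).factorial = 12144 := by decide
  rw [this] at h
  omega

end Cfsg.Agent.Lib.Helper28
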