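import Mathlib
import Cfsg.Prelude.Def_GeometricClasses
import Cfsg.Agent.Lib.Helper1.OEDefs
import Cfsg.Agent.Lib.Helper6.OETypeTens
import Cfsg.Agent.Lib.Helper7.OETypeB
import Cfsg.Agent.Lib.Helper14.S5630CoreF45
import Cfsg.Agent.Lib.Helper14.OEReducible

/-!
# Plus rows S5847 / S5871 (helper13's piece list `notes/OEPlusSkel_helper13.lean.txt`): pieces T1, T5, X5, X6 (helper28)

* `plus_iff_of_isometric` (T1): isometric subspaces have the same type;
* `lines_mod_four` (T5): ten pairwise orthogonal isometric non-degenerate lines in a plus-type 10-space force `q ≡ 1 mod 4`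
  (helper7's R2 + "a non-degenerate line needs `q` odd");
* `pure_zero_of_odd` (X5): `q` odd, symplectic ⊗ symplectic: `Q` vanishes on the pure tensors (helper6's `polar_pure2`);
* `even_of_symplectic` (X6): wrapper of helper14's CORE-F5.
-/

set_option autoImplicit false

namespace Cfsg.Agent.Lib.Helper28.OEPlus

open Matrix Cfsg Cfsg.Geo Module
open Cfsg.Agent.Lib.Helper1.OE

variable {F : Type*} [Field F] [Fintype F]

variable {n : ℕ} {Q : (Fin n → F) → F}

/-- one direction of T1 -/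
theorem plus_of_isometric {W W' : Submodule F (Fin n → F)} (e : W ≃ₗ[F] W')
    (he : ∀ w : W, Q ((e w : W') : Fin n → F) = Q (w : Fin n → F)) (h : IsPlusTypeOn Q W) : IsPlusTypeOn Q W' := by
  obtain ⟨U, hUW, hts, hdim⟩ := h
  let φ : ↥W →ₗ[F] (Fin n → F) := W'.subtype ∘ₗ e.toLinearMap
  have hφ : Function.Injective φ := W'.injective_subtype.comp e.injective
  refine ⟨(U.comap W.subtype).map φ, ?_, ?_, ?_⟩
  · rintro x ⟨w, -, rfl⟩
    exact (e w).2
  · rintro x ⟨w, hw, rfl⟩
    have : Q (φ w) = Q (w : Fin n → F) := he w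
    rw [this]
    exact hts _ hw
  · rw [← (Submodule.equivMapOfInjective φ hφ (U.comap W.subtype)).finrank_eq,
      (Submodule.comapSubtypeEquivOfLe hUW).finrank_eq, hdim, e.finrank_eq]

/-- **T1** : isometric subspaces have the same type -/
theorem plus_iff_of_isometric (W W' : Submodule F (Fin n → F)) (h : AreIsometricFor Q W W') :
    IsPlusTypeOn Q W ↔ IsPlusTypeOn Q W' := by
  obtain ⟨e, he⟩ := h
  refine ⟨plus_of_isometric e he, plus_of_isometric e.symm ?_⟩
  intro w
  rw [← he (e.symm w), LinearEquiv.apply_symm_apply]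

/-- a non-degenerate line needs `q` odd -/
theorem odd_card_of_nondeg_line (hQ : IsNondegenerateQuadraticForm Q) (W : Submodule F (Fin n → F))
    (hW : IsNondegenerateOn (QuadraticMap.polar Q) W) (hdim : finrank F W = 1) : Odd (Fintype.card F) := by
  rw [Cfsg.Agent.Lib.Helper14.OEReducible.odd_card_iff_two_ne_zero]
  intro h2
  obtain ⟨w, hw⟩ := finrank_eq_one_iff'.mp hdim
  obtain ⟨hw0, hspan⟩ := hw
  have hw0' : (w : Fin n → F) ≠ 0 := fun h => hw0 (Subtype.ext h)
  obtain ⟨⟨x, hx, hxw⟩, -⟩ := hW w w.2 hw0'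
  obtain ⟨c, hc⟩ := hspan ⟨x, hx⟩
  have hxc : x = c • (w : Fin n → F) := by
    have := congrArg Subtype.val hc
    simpa using this.symm
  apply hxw
  rw [hxc, hQ.polar_bilinear.smul_left, Cfsg.Agent.Lib.Helper6.OETypeTens.polar_self hQ, h2, zero_mul, mul_zero]

/-- **T5** : 10 pairwise orthogonal isometric non-degenerate lines in a plus-type 10-space : `q ≡ 1 mod 4` -/
theorem lines_mod_four (hQ : IsNondegenerateQuadraticForm Q) (hn : n = 10) (hplus : IsPlusTypeOn Q ⊤)
    (D : Fin 10 → Submodule F (Fin n → F)) (hD : IsOrthogonalMDecomposition Q 1 D) :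
    Fintype.card F % 4 = 1 := by
  have hodd : Odd (Fintype.card F) :=
    odd_card_of_nondeg_line hQ (D 0) (hD.decomp.nondegenerate 0) (hD.decomp.decomp.finrank_eq 0)
  by_contra h1
  have h3 : Fintype.card F % 4 = 3 := by
    rcases hodd with ⟨j, hj⟩
    omega
  exact Cfsg.Agent.Lib.Helper7.OEType.not_isPlusTypeOn_top_of_decomposition hQ D hD h3 ⟨0, by norm_num⟩
    (by norm_num) hplus

/-- **X5** : `q` odd, symplectic ⊗ symplectic : `Q` vanishes on the pure tensors automatically -/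
theorem pure_zero_of_odd (hQ : IsNondegenerateQuadraticForm Q) (hodd : Odd (Fintype.card F)) {n₁ n₂ : ℕ}
    (e : Fin n ≃ Fin n₁ × Fin n₂) (P : GL (Fin n) F) (f₁ : (Fin n₁ → F) → (Fin n₁ → F) → F)
    (f₂ : (Fin n₂ → F) → (Fin n₂ → F) → F) (hf₁ : IsSymplecticForm f₁) (hf₂ : IsSymplecticForm f₂)
    (hT : IsTensorFormStructure id (QuadraticMap.polar Q) f₁ f₂ e P) (x₁ : Fin n₁ → F) (x₂ : Fin n₂ → F) :
    Q ((P : Matrix (Fin n) (Fin n) F) *ᵥ (pure2 x₁ x₂ ∘ e)) = 0 := by
  obtain ⟨c, -, hc⟩ := hT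
  have h2 := Cfsg.Agent.Lib.Helper6.OETypeTens.two_ne_zero_of_odd_card hodd
  apply Cfsg.Agent.Lib.Helper6.OETypeTens.quad_eq_zero_of_polar h2 hQ
  have := Cfsg.Agent.Lib.Helper6.OETypeTens.polar_pure2 (Q := Q) (e := e) (P := P) hf₁.bilinear hf₂.bilinear hc
    x₁ x₁ x₂ x₂
  rw [hf₁.alternating, zero_mul, mul_zero] at this
  exact this

/-- **X6** : a symplectic form lives in even dimension -/
theorem even_of_symplectic {k : ℕ} (f : (Fin k → F) → (Fin k → F) → F) (hf : IsSymplecticForm f) : Even k :=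
  Cfsg.Agent.Lib.Helper14.S5630Core.even_of_isSymplecticForm f hf

end Cfsg.Agent.Lib.Helper28.OEPlus
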