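import Mathlib

set_option autoImplicit false

/-!
Restriction of permutations stabilizing a finite set to that set, as a group homomorphism, with
kernel the pointwise stabilizer; the counting formula for the induced group.
-/

namespace Cfsg.Agent.Lib.Helper28

open MulAction
open scoped Pointwise

section Restrict

variable {α : Type*} [DecidableEq α]

theorem perm_apply_mem_iff_of_smul_eq {g : Equiv.Perm α} {s : Finset α} (h : g • s = s) (x : α) :
    g x ∈ s ↔ x ∈ s := by
  constructor
  · intro hx
    have h1 : g⁻¹ • s = s := by rw [inv_smul_eq_iff, h]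
    have h2 : g⁻¹ • g x ∈ g⁻¹ • s := Finset.smul_mem_smul_finset hx
    rw [h1] at h2
    have h3 : g⁻¹ • g x = x := by simp [Equiv.Perm.smul_def]
    rwa [h3] at h2
  · intro hx
    have h2 : g • x ∈ g • s := Finset.smul_mem_smul_finset hx
    rwa [h] at h2

theorem smul_eq_of_apply_mem_iff {g : Equiv.Perm α} {s : Finset α} (h : ∀ x, g x ∈ s ↔ x ∈ s) :
    g • s = s := by
  apply Finset.eq_of_subset_of_card_le
  · intro y hy
    rw [Finset.mem_smul_finset] at hy
    obtain ⟨x, hx, rfl⟩ := hy
    exact (h x).mpr hx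
  · rw [Finset.card_smul_finset]

/-- restriction to an invariant finite set, as a homomorphism -/
def restrictHom (s : Finset α) : ↥(stabilizer (Equiv.Perm α) s) →* Equiv.Perm ↥s where
  toFun g := g.1.subtypePerm (fun x => perm_apply_mem_iff_of_smul_eq g.2 x)
  map_one' := by
    apply Equiv.ext
    intro x
    rfl
  map_mul' g h := by
    apply Equiv.ext
    intro x
    rfl

theorem restrictHom_apply (s : Finset α) (g : ↥(stabilizer (Equiv.Perm α) s)) (x : ↥s) :
    ((restrictHom s g) x : α) = g.1 x := rfl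

/-- restriction to an invariant finite set of the elements of a subgroup `H` stabilizing it -/
def restrictHomOf (H : Subgroup (Equiv.Perm α)) (s : Finset α) :
    ↥(H ⊓ stabilizer (Equiv.Perm α) s) →* Equiv.Perm ↥s :=
  (restrictHom s).comp (Subgroup.inclusion inf_le_right)

theorem restrictHomOf_apply (H : Subgroup (Equiv.Perm α)) (s : Finset α)
    (g : ↥(H ⊓ stabilizer (Equiv.Perm α) s)) (x : ↥s) :
    ((restrictHomOf H s g) x : α) = g.1 x := rfl

theorem mem_range_restrictHomOf_iff (H : Subgroup (Equiv.Perm α)) (s : Finset α)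
    (e : Equiv.Perm ↥s) :
    e ∈ (restrictHomOf H s).range ↔
      ∃ g : Equiv.Perm α, g ∈ H ∧ ∃ h : (∀ x, g x ∈ s ↔ x ∈ s), g.subtypePerm h = e := by
  constructor
  · rintro ⟨g, rfl⟩
    exact ⟨g.1, g.2.1, fun x => perm_apply_mem_iff_of_smul_eq g.2.2 x, rfl⟩
  · rintro ⟨g, hg, h, rfl⟩
    exact ⟨⟨g, Subgroup.mem_inf.mpr ⟨hg, smul_eq_of_apply_mem_iff h⟩⟩, rfl⟩

theorem mem_ker_restrictHomOf_iff (H : Subgroup (Equiv.Perm α)) (s : Finset α)
    (g : ↥(H ⊓ stabilizer (Equiv.Perm α) s)) :
    g ∈ (restrictHomOf H s).ker ↔ g.1 ∈ fixingSubgroup (Equiv.Perm α) (s : Set α) := by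
  rw [MonoidHom.mem_ker, mem_fixingSubgroup_iff]
  constructor
  · intro h x hx
    have := congrArg (fun e : Equiv.Perm ↥s => ((e ⟨x, hx⟩ : ↥s) : α)) h
    exact this
  · intro h
    apply Equiv.ext
    intro x
    apply Subtype.ext
    exact h x.1 x.2

theorem fixingSubgroup_le_stabilizer (s : Finset α) :
    fixingSubgroup (Equiv.Perm α) (s : Set α) ≤ stabilizer (Equiv.Perm α) s := by
  intro g hg
  rw [mem_fixingSubgroup_iff] at hg
  rw [mem_stabilizer_iff]
  apply smul_eq_of_apply_mem_iff
  intro x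
  constructor
  · intro hx
    by_contra hxs
    have h1 := hg (g x) hx
    have h2 : g x = x := g.injective h1
    rw [h2] at hx
    exact hxs hx
  · intro hx
    have h1 : g x = x := hg x hx
    rwa [h1]

/-- kernel of the restriction = pointwise stabilizer -/
def kerRestrictEquiv (H : Subgroup (Equiv.Perm α)) (s : Finset α) :
    ↥(restrictHomOf H s).ker ≃ ↥(H ⊓ fixingSubgroup (Equiv.Perm α) (s : Set α)) where
  toFun g := ⟨g.1.1, Subgroup.mem_inf.mpr ⟨g.1.2.1, (mem_ker_restrictHomOf_iff H s g.1).mp g.2⟩⟩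
  invFun g := ⟨⟨g.1, Subgroup.mem_inf.mpr ⟨g.2.1, fixingSubgroup_le_stabilizer s g.2.2⟩⟩,
    (mem_ker_restrictHomOf_iff H s _).mpr g.2.2⟩
  left_inv _ := rfl
  right_inv _ := rfl

theorem card_ker_mul_card_range {G G' : Type*} [Group G] [Group G'] (f : G →* G') :
    Nat.card f.ker * Nat.card f.range = Nat.card G := by
  rw [← Subgroup.index_ker]
  exact Subgroup.card_mul_index _

/-- the order of the stabilizer of `s` in `H` is the order of the induced group times the
order of the pointwise stabilizer -/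
theorem card_restrict (H : Subgroup (Equiv.Perm α)) (s : Finset α) :
    Nat.card ↥(H ⊓ stabilizer (Equiv.Perm α) s) =
      Nat.card ↥(H ⊓ fixingSubgroup (Equiv.Perm α) (s : Set α)) *
        Nat.card (restrictHomOf H s).range := by
  rw [← card_ker_mul_card_range (restrictHomOf H s), Nat.card_congr (kerRestrictEquiv H s)]

end Restrict

end Cfsg.Agent.Lib.Helper28
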