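import Cfsg.Agent.Lib.Helper28.OctadPair
import Cfsg.Agent.Lib.Helper28.Restrict

set_option autoImplicit false

/-!
The stabilizer of an octad in `Cfsg.M24` induces the alternating group on the octad.
-/

namespace Cfsg.Agent.Lib.Helper28

open Cfsg MulAction
open scoped Pointwise

theorem card_M24_inf_stabilizer_octad {o : Finset GolayPt} (ho : o ∈ octads) :
    Nat.card ↥(M24 ⊓ stabilizer (Equiv.Perm GolayPt) o) = 322560 := by
  rw [← card_stabilizer_subgroup, card_stabilizer_octad ho]

theorem card_range_restrict_octad {o : Finset GolayPt} (ho : o ∈ octads) :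
    Nat.card (restrictHomOf M24 o).range = 20160 := by
  have h := card_restrict M24 o
  rw [card_M24_inf_stabilizer_octad ho, (octad_fixingSubgroup o ho).1] at h
  omega

/-- the group induced on an octad by its stabilizer is the alternating group -/
theorem range_restrict_octad {o : Finset GolayPt} (ho : o ∈ octads) :
    (restrictHomOf M24 o).range = alternatingGroup ↥o := by
  apply Equiv.Perm.eq_alternatingGroup_of_index_eq_two
  have h1 := Subgroup.card_mul_index (restrictHomOf M24 o).range
  rw [card_range_restrict_octad ho, Nat.card_eq_fintype_card, Fintype.card_perm,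
    Fintype.card_coe, octad_card ho] at h1
  have : (8 : ℕ).factorial = 40320 := by decide
  rw [this] at h1
  omega

/-- every even permutation of an octad is induced by an element of `M24` -/
theorem exists_M24_of_even {o : Finset GolayPt} (ho : o ∈ octads) (e : Equiv.Perm ↥o)
    (he : e ∈ alternatingGroup ↥o) :
    ∃ g ∈ M24, g • o = o ∧ ∀ x : ↥o, g x = e x := by
  rw [← range_restrict_octad ho] at he
  obtain ⟨g, rfl⟩ := he
  exact ⟨g.1, g.2.1, g.2.2, fun x => rfl⟩

end Cfsg.Agent.Lib.Helper28
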