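import Cfsg.Agent.Lib.Helper28.M24Five
import Cfsg.Agent.Lib.Helper28.Octads

set_option autoImplicit false

/-!
The action of `Cfsg.M24` on octads and dodecads; transitivity on octads.
-/

namespace Cfsg.Agent.Lib.Helper28

open Cfsg MulAction
open scoped Pointwise

theorem smul_mem_supports {g : Equiv.Perm GolayPt} (hg : g ∈ M24) {o : Finset GolayPt}
    (ho : o ∈ supports (golayCode : Set (GolayPt → ZMod 2))) :
    g • o ∈ supports (golayCode : Set (GolayPt → ZMod 2)) := by
  have h1 : g • supports (golayCode : Set (GolayPt → ZMod 2)) =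
      supports (golayCode : Set (GolayPt → ZMod 2)) := MulAction.mem_stabilizer_iff.mp hg
  have h2 : g • o ∈ g • supports (golayCode : Set (GolayPt → ZMod 2)) := Set.smul_mem_smul_set ho
  rwa [h1] at h2

theorem smul_mem_octads {g : Equiv.Perm GolayPt} (hg : g ∈ M24) {o : Finset GolayPt}
    (ho : o ∈ octads) : g • o ∈ octads := by
  unfold octads wordsOfWeight at ho ⊢
  exact ⟨smul_mem_supports hg ho.1, by rw [Finset.card_smul_finset]; exact ho.2⟩

theorem smul_mem_dodecads {g : Equiv.Perm GolayPt} (hg : g ∈ M24) {o : Finset GolayPt}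
    (ho : o ∈ dodecads) : g • o ∈ dodecads := by
  unfold dodecads wordsOfWeight at ho ⊢
  exact ⟨smul_mem_supports hg ho.1, by rw [Finset.card_smul_finset]; exact ho.2⟩

/-- two octads sharing five points coincide -/
theorem octad_eq_of_five {o o' : Finset GolayPt} (ho : o ∈ octads) (ho' : o' ∈ octads)
    (h5 : 5 ≤ (o ∩ o').card) : o = o' := by
  by_contra hne
  rcases golayCode_isGolayLike.octad_inter_card ((mem_octads_iff o).mp ho)
    ((mem_octads_iff o').mp ho') hne with h | h | h <;> omega

/-- an element of `M24` fixing five points of an octad stabilizes the octad -/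
theorem smul_octad_eq_of_fix {g : Equiv.Perm GolayPt} (hg : g ∈ M24) {o : Finset GolayPt}
    (ho : o ∈ octads) (F : Finset GolayPt) (hF : ∀ x ∈ F, g x = x) (h5 : 5 ≤ (o ∩ F).card) :
    g • o = o := by
  apply octad_eq_of_five (smul_mem_octads hg ho) ho
  refine h5.trans (Finset.card_le_card ?_)
  intro x hx
  rw [Finset.mem_inter] at hx ⊢
  refine ⟨?_, hx.1⟩
  rw [Finset.mem_smul_finset]
  exact ⟨x, hx.1, hF x hx.2⟩

/-- `M24` is transitive on octads -/
theorem M24_octad_transitive {o o' : Finset GolayPt} (ho : o ∈ octads) (ho' : o' ∈ octads) :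
    ∃ g ∈ M24, g • o = o' := by
  have h8 : o.card = 8 := ((mem_octads_iff o).mp ho).2
  have h8' : o'.card = 8 := ((mem_octads_iff o').mp ho').2
  obtain ⟨x⟩ : Nonempty (Fin 5 ↪ ↥o) :=
    Function.Embedding.nonempty_of_card_le (by simp [h8])
  obtain ⟨x'⟩ : Nonempty (Fin 5 ↪ ↥o') :=
    Function.Embedding.nonempty_of_card_le (by simp [h8'])
  let y : Fin 5 ↪ GolayPt := x.trans (Function.Embedding.subtype _)
  let y' : Fin 5 ↪ GolayPt := x'.trans (Function.Embedding.subtype _)
  obtain ⟨g1, hg1, h1⟩ := M24_exists_map_base y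
  obtain ⟨g2, hg2, h2⟩ := M24_exists_map_base y'
  refine ⟨g2 * g1⁻¹, M24.mul_mem hg2 (M24.inv_mem hg1), ?_⟩
  apply octad_eq_of_five (smul_mem_octads (M24.mul_mem hg2 (M24.inv_mem hg1)) ho) ho'
  -- the five points `y' i` lie in both
  have hsub : Finset.univ.map y' ⊆ (g2 * g1⁻¹) • o ∩ o' := by
    intro z hz
    rw [Finset.mem_map] at hz
    obtain ⟨i, _, rfl⟩ := hz
    rw [Finset.mem_inter]
    constructor
    · rw [Finset.mem_smul_finset]
      refine ⟨y i, (x i).2, ?_⟩
      show (g2 * g1⁻¹) (y i) = y' i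
      rw [Equiv.Perm.mul_apply, ← h1 i]
      simp [h2 i]
    · exact (x' i).2
  have := Finset.card_le_card hsub
  rw [Finset.card_map, Finset.card_univ, Fintype.card_fin] at this
  exact this

end Cfsg.Agent.Lib.Helper28
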