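import Cfsg.Agent.Lib.Helper28.M24Normal
import Cfsg.Agent.Lib.Helper28.M24Act

set_option autoImplicit false

/-!
The pointwise stabilizer of an octad in `Cfsg.M24`: it is `baseStab M24 6` for the base octad,
it has order 16 and exponent 2.  Also generic transport lemmas by conjugation.
-/

namespace Cfsg.Agent.Lib.Helper28

open Cfsg MulAction
open scoped Pointwise

/-- conjugate subgroups have the same order -/
theorem card_eq_of_conj {G : Type*} [Group G] (A B : Subgroup G) (h : G)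
    (hAB : ∀ g, g ∈ A ↔ h⁻¹ * g * h ∈ B) : Nat.card A = Nat.card B := by
  apply Nat.card_congr
  refine ⟨fun g => ⟨h⁻¹ * g.1 * h, (hAB g.1).mp g.2⟩,
    fun g => ⟨h * g.1 * h⁻¹, (hAB _).mpr (by
      have : h⁻¹ * (h * g.1 * h⁻¹) * h = g.1 := by group
      rw [this]; exact g.2)⟩, fun g => ?_, fun g => ?_⟩
  · apply Subtype.ext
    show h * (h⁻¹ * g.1 * h) * h⁻¹ = g.1
    group
  · apply Subtype.ext
    show h⁻¹ * (h * g.1 * h⁻¹) * h = g.1
    group

theorem conj_mem_M24_iff {h : Equiv.Perm GolayPt} (hh : h ∈ M24) (g : Equiv.Perm GolayPt) :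
    h⁻¹ * g * h ∈ M24 ↔ g ∈ M24 := by
  constructor
  · intro hg
    have : g = h * (h⁻¹ * g * h) * h⁻¹ := by group
    rw [this]
    exact M24.mul_mem (M24.mul_mem hh hg) (M24.inv_mem hh)
  · intro hg
    exact M24.mul_mem (M24.mul_mem (M24.inv_mem hh) hg) hh

theorem conj_mem_fixingSubgroup_iff (h g : Equiv.Perm GolayPt) (s : Finset GolayPt) :
    h⁻¹ * g * h ∈ fixingSubgroup (Equiv.Perm GolayPt) (s : Set GolayPt) ↔
      g ∈ fixingSubgroup (Equiv.Perm GolayPt) ((h • s : Finset GolayPt) : Set GolayPt) := by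
  rw [mem_fixingSubgroup_iff, mem_fixingSubgroup_iff]
  constructor
  · intro hg y hy
    rw [Finset.mem_coe, Finset.mem_smul_finset] at hy
    obtain ⟨x, hx, rfl⟩ := hy
    have := hg x (Finset.mem_coe.mpr hx)
    simp only [Equiv.Perm.smul_def, Equiv.Perm.mul_apply] at this ⊢
    rw [Equiv.Perm.inv_eq_iff_eq] at this
    exact this
  · intro hg x hx
    have := hg (h • x) (Finset.mem_coe.mpr (Finset.smul_mem_smul_finset (Finset.mem_coe.mp hx)))
    simp only [Equiv.Perm.smul_def, Equiv.Perm.mul_apply] at this ⊢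
    rw [Equiv.Perm.inv_eq_iff_eq]
    exact this

theorem conj_mem_inf_fixingSubgroup_iff {h : Equiv.Perm GolayPt} (hh : h ∈ M24)
    (g : Equiv.Perm GolayPt) (s : Finset GolayPt) :
    g ∈ M24 ⊓ fixingSubgroup (Equiv.Perm GolayPt) ((h • s : Finset GolayPt) : Set GolayPt) ↔
      h⁻¹ * g * h ∈ M24 ⊓ fixingSubgroup (Equiv.Perm GolayPt) (s : Set GolayPt) := by
  rw [Subgroup.mem_inf, Subgroup.mem_inf, conj_mem_M24_iff hh, conj_mem_fixingSubgroup_iff]

set_option maxRecDepth 100000 in
set_option maxHeartbeats 4000000 in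
theorem tr6_table_facts : ∀ q : Fin 24, (m24omega 6).testBit q.val = true →
    (∀ a : Fin 24, (8536111 : ℕ).testBit a.val = true → wordTab (m24tr 6 q) a = a) ∧
    (∀ a : Fin 24, wordTab (m24tr 6 q) (wordTab (m24tr 6 q) a) = a) := by
  decide +kernel

set_option maxRecDepth 100000 in
theorem baseOctad_six : ∀ j : Fin 7, j.val < 6 → (8536111 : ℕ).testBit (m24base j).val = true := by
  decide

/-- the pointwise stabilizer of the base octad is the sixth group of the base chain -/
theorem inf_fixingSubgroup_baseOctad :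
    M24 ⊓ fixingSubgroup (Equiv.Perm GolayPt) (baseOctad : Set GolayPt) = baseStab M24 6 := by
  ext g
  rw [Subgroup.mem_inf, mem_fixingSubgroup_iff]
  constructor
  · rintro ⟨hg, hfix⟩
    refine ⟨hg, fun j hj => ?_⟩
    apply hfix
    rw [Finset.mem_coe]
    unfold baseOctad
    rw [pt_mem_maskSet]
    exact baseOctad_six j hj
  · intro hg
    refine ⟨hg.1, fun y hy => ?_⟩
    obtain ⟨q, hq, rfl⟩ := mem_baseStab_six hg
    obtain ⟨a, rfl⟩ := Helper4.pt_bijective.2 y
    rw [Finset.mem_coe] at hy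
    unfold baseOctad at hy
    rw [pt_mem_maskSet] at hy
    show wordPerm (m24tr 6 q) (Helper4.pt a) = Helper4.pt a
    rw [wordPerm_pt, (tr6_table_facts q hq).1 a hy]

theorem sq_eq_one_of_mem_baseStab_six {g : Equiv.Perm GolayPt} (hg : g ∈ baseStab M24 6) :
    g * g = 1 := by
  obtain ⟨q, hq, rfl⟩ := mem_baseStab_six hg
  apply Equiv.ext
  intro x
  obtain ⟨a, rfl⟩ := Helper4.pt_bijective.2 x
  rw [Equiv.Perm.mul_apply, wordPerm_pt, wordPerm_pt, (tr6_table_facts q hq).2 a]
  rfl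

/-- the pointwise stabilizer of any octad has order 16 and exponent 2 -/
theorem octad_fixingSubgroup (o : Finset GolayPt) (ho : o ∈ octads) :
    Nat.card ↥(M24 ⊓ fixingSubgroup (Equiv.Perm GolayPt) (o : Set GolayPt)) = 16 ∧
      ∀ g ∈ M24 ⊓ fixingSubgroup (Equiv.Perm GolayPt) (o : Set GolayPt), g * g = 1 := by
  obtain ⟨h, hh, hh'⟩ := M24_octad_transitive baseOctad_mem ho
  rw [← hh']
  constructor
  · rw [card_eq_of_conj _ _ h
      (fun g => conj_mem_inf_fixingSubgroup_iff hh g baseOctad), inf_fixingSubgroup_baseOctad]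
    exact (card_baseStab m24gens_closure_le le_rfl).2.2.2.2.2.2.1
  · intro g hg
    rw [conj_mem_inf_fixingSubgroup_iff hh, inf_fixingSubgroup_baseOctad] at hg
    have := sq_eq_one_of_mem_baseStab_six hg
    have h2 : g * g = h * (h⁻¹ * g * h * (h⁻¹ * g * h)) * h⁻¹ := by group
    rw [h2, this]
    group

end Cfsg.Agent.Lib.Helper28
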