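import Cfsg.Agent.Lib.Helper28.M12
import Cfsg.Agent.Lib.Helper28.M24Octad
import Cfsg.Agent.S0361

set_option autoImplicit false

/-!
`Cfsg.M24` is transitive on the dodecads; the stabilizer of any dodecad has order `95040`, is
sharply 5-transitive on the dodecad, and the stabilizer of a dodecad and one of its points is
3-transitive on the complementary dodecad.
-/

namespace Cfsg.Agent.Lib.Helper28

open Cfsg MulAction
open scoped Pointwise

/-- orbit-stabilizer for a subgroup `K` of a group acting on `X` -/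
theorem card_eq_orbit_mul_card_inf_stabilizer' {G X : Type*} [Group G] [MulAction G X]
    (K : Subgroup G) (x : X) :
    Nat.card K = (orbit K x).ncard * Nat.card ↥(K ⊓ stabilizer G x) := by
  have h1 : Nat.card (stabilizer K x) * (stabilizer K x).index = Nat.card K :=
    Subgroup.card_mul_index _
  rw [← card_stabilizer_subgroup, ← h1, MulAction.index_stabilizer, mul_comm]

theorem card_stabilizer_M24_baseDodecad : Nat.card (stabilizer M24 baseDodecad) = 95040 := by
  rw [card_stabilizer_subgroup]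
  exact card_M12

theorem ncard_orbit_baseDodecad : (orbit M24 baseDodecad).ncard = 2576 := by
  have h1 : Nat.card (stabilizer M24 baseDodecad) * (stabilizer M24 baseDodecad).index =
      Nat.card M24 := Subgroup.card_mul_index _
  rw [card_stabilizer_M24_baseDodecad, card_M24, MulAction.index_stabilizer] at h1
  omega

theorem orbit_baseDodecad : orbit M24 baseDodecad = dodecads := by
  apply Set.eq_of_subset_of_ncard_le
  · rintro _ ⟨g, rfl⟩
    exact smul_mem_dodecads g.2 baseDodecad_mem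
  · rw [ncard_orbit_baseDodecad, Cfsg.Agent.S0361.result]
  · exact Set.toFinite _

/-- every dodecad is the image of the base dodecad under an element of `M24` -/
theorem exists_M24_map_baseDodecad {d : Finset GolayPt} (hd : d ∈ dodecads) :
    ∃ g ∈ M24, g • baseDodecad = d := by
  rw [← orbit_baseDodecad] at hd
  obtain ⟨g, rfl⟩ := hd
  exact ⟨g.1, g.2, rfl⟩

/-- `M24` is transitive on dodecads -/
theorem M24_dodecad_transitive {d d' : Finset GolayPt} (hd : d ∈ dodecads) (hd' : d' ∈ dodecads) :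
    ∃ g ∈ M24, g • d = d' := by
  obtain ⟨g, hg, rfl⟩ := exists_M24_map_baseDodecad hd
  obtain ⟨g', hg', rfl⟩ := exists_M24_map_baseDodecad hd'
  refine ⟨g' * g⁻¹, M24.mul_mem hg' (M24.inv_mem hg), ?_⟩
  rw [mul_smul, inv_smul_smul]

theorem pt23_mem_baseDodecad : Helper4.pt 23 ∈ baseDodecad := by
  unfold baseDodecad
  rw [pt_mem_maskSet]
  decide

/-- `M12` is transitive on the base dodecad -/
theorem M12_exists_map_point {p : GolayPt} (hp : p ∈ baseDodecad) :
    ∃ g ∈ M12, g (Helper4.pt 23) = p := by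
  obtain ⟨a, rfl⟩ := Helper4.pt_bijective.2 p
  have ha : (m12om 0).testBit a.val = true := by
    rw [m12om_mem]
    refine ⟨?_, fun j hj => absurd hj (by simp)⟩
    have : Helper4.pt a ∈ maskSet d0mask := hp
    rwa [pt_mem_maskSet] at this
  obtain ⟨g, hg, _, h2⟩ := M12_level 0 a ha
  exact ⟨g, hg, h2⟩

/-- a dodecad with a point on it is the image of the base dodecad with the point `∞` -/
theorem exists_M24_map_baseDodecad_point {d : Finset GolayPt} (hd : d ∈ dodecads) {p : GolayPt}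
    (hp : p ∈ d) : ∃ g ∈ M24, g • baseDodecad = d ∧ g (Helper4.pt 23) = p := by
  obtain ⟨g, hg, rfl⟩ := exists_M24_map_baseDodecad hd
  have hp' : g⁻¹ p ∈ baseDodecad := by
    rw [Finset.mem_smul_finset] at hp
    obtain ⟨y, hy, rfl⟩ := hp
    simpa using hy
  obtain ⟨h, hh, hhp⟩ := M12_exists_map_point hp'
  rw [mem_M12] at hh
  refine ⟨g * h, M24.mul_mem hg hh.1, ?_, ?_⟩
  · rw [mul_smul, hh.2]
  · rw [Equiv.Perm.mul_apply, hhp]
    simp

/-- the stabilizer of a dodecad has order 95040 -/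
theorem card_stabilizer_dodecad {d : Finset GolayPt} (hd : d ∈ dodecads) :
    Nat.card (stabilizer M24 d) = 95040 := by
  obtain ⟨g, hg, rfl⟩ := exists_M24_map_baseDodecad hd
  rw [← card_stabilizer_M24_baseDodecad]
  have e : stabilizer M24 baseDodecad ≃* stabilizer M24 ((⟨g, hg⟩ : M24) • baseDodecad) :=
    stabilizerEquivStabilizer rfl
  exact (Nat.card_congr e.toEquiv).symm

/-- conjugation: `g` stabilizes `h • d` iff `h⁻¹ g h` stabilizes `d` -/
theorem conj_smul_eq_iff (h g : Equiv.Perm GolayPt) (d : Finset GolayPt) :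
    (h⁻¹ * g * h) • d = d ↔ g • (h • d) = h • d := by
  rw [mul_smul, mul_smul, inv_smul_eq_iff]

/-- sharp 5-transitivity of the dodecad stabilizer, for permutations -/
theorem dodecad_sharp {d : Finset GolayPt} (hd : d ∈ dodecads) (x y : Fin 5 ↪ GolayPt)
    (hx : ∀ i, x i ∈ d) (hy : ∀ i, y i ∈ d) :
    ∃ g : Equiv.Perm GolayPt, (g ∈ M24 ∧ g • d = d ∧ ∀ i, g (x i) = y i) ∧
      ∀ g' : Equiv.Perm GolayPt, g' ∈ M24 → g' • d = d → (∀ i, g' (x i) = y i) → g' = g := by
  obtain ⟨h, hh, rfl⟩ := exists_M24_map_baseDodecad hd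
  have hmem : ∀ z ∈ h • baseDodecad, h⁻¹ z ∈ baseDodecad := by
    intro z hz
    rw [Finset.mem_smul_finset] at hz
    obtain ⟨w, hw, rfl⟩ := hz
    simpa using hw
  let x' : Fin 5 ↪ GolayPt := x.trans (h⁻¹ : Equiv.Perm GolayPt).toEmbedding
  let y' : Fin 5 ↪ GolayPt := y.trans (h⁻¹ : Equiv.Perm GolayPt).toEmbedding
  obtain ⟨g1, hg1, h1⟩ := M12_exists_map x' (fun i => hmem _ (hx i))
  obtain ⟨g2, hg2, h2⟩ := M12_exists_map y' (fun i => hmem _ (hy i))
  have hg1' := mem_M12.mp hg1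
  have hg2' := mem_M12.mp hg2
  have hk : g2 * g1⁻¹ ∈ M12 := M12.mul_mem hg2 (M12.inv_mem hg1)
  have hk' := mem_M12.mp hk
  refine ⟨h * (g2 * g1⁻¹) * h⁻¹, ⟨M24.mul_mem (M24.mul_mem hh hk'.1) (M24.inv_mem hh), ?_, ?_⟩, ?_⟩
  · rw [mul_smul, inv_smul_smul, mul_smul, hk'.2]
  · intro i
    have e1 : h⁻¹ (x i) = g1 (Helper4.pt (m12base i)) := (h1 i).symm
    have e2 : g2 (Helper4.pt (m12base i)) = h⁻¹ (y i) := h2 i
    have e3 : g1⁻¹ (g1 (Helper4.pt (m12base i))) = Helper4.pt (m12base i) := by simp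
    simp only [Equiv.Perm.mul_apply]
    rw [e1, e3, e2]
    simp
  · intro g' hg' hg'd hg'x
    -- u = g2⁻¹ (h⁻¹ g' h) g1 fixes the base
    have hu : g2⁻¹ * (h⁻¹ * g' * h) * g1 ∈ M12 := by
      apply M12.mul_mem (M12.mul_mem (M12.inv_mem hg2) _) hg1
      rw [mem_M12]
      exact ⟨M24.mul_mem (M24.mul_mem (M24.inv_mem hh) hg') hh, (conj_smul_eq_iff h g' _).mpr hg'd⟩
    have hfix : ∀ j : Fin 5, (g2⁻¹ * (h⁻¹ * g' * h) * g1) (Helper4.pt (m12base j)) =
        Helper4.pt (m12base j) := by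
      intro j
      simp only [Equiv.Perm.mul_apply]
      rw [h1 j]
      show g2⁻¹ (h⁻¹ (g' (h (h⁻¹ (x j))))) = _
      have e4 : h (h⁻¹ (x j)) = x j := by simp
      rw [e4, hg'x j, Equiv.Perm.inv_eq_iff_eq]
      exact (h2 j).symm
    have h1' := M12_eq_one_of_fix hu hfix
    have : g' = h * (g2 * (g2⁻¹ * (h⁻¹ * g' * h) * g1) * g1⁻¹) * h⁻¹ := by group
    rw [this, h1']
    group

/-! ### `M11` on the complement -/

theorem M11_level (k : Fin 3) (a : Fin 24) (ha : (m11om k).testBit a.val = true) :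
    ∃ g ∈ M12 ⊓ stabilizer (Equiv.Perm GolayPt) (Helper4.pt 23),
      (∀ j : Fin 3, j < k → g (Helper4.pt (m11base j)) = Helper4.pt (m11base j)) ∧
        g (Helper4.pt (m11base k)) = Helper4.pt a := by
  obtain ⟨h0, h1, h2⟩ := m11tr_spec k a ha
  refine ⟨m12word (m11tr k a), Subgroup.mem_inf.mpr ⟨m12word_mem _, ?_⟩, fun j hj => ?_, ?_⟩
  · rw [mem_stabilizer_iff]
    show m12word (m11tr k a) (Helper4.pt 23) = _
    rw [m12word_pt, h0]
  · rw [m12word_pt, h1 j hj]
  · rw [m12word_pt, h2]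

/-- `M11` (stabilizer of the base dodecad and `∞`) is 3-transitive on the complement -/
theorem M11_exists_map (x : Fin 3 ↪ GolayPt) (hx : ∀ i, x i ∉ baseDodecad) :
    ∃ g ∈ M12 ⊓ stabilizer (Equiv.Perm GolayPt) (Helper4.pt 23),
      ∀ i, g (Helper4.pt (m11base i)) = x i := by
  apply exists_map_base_on (M12 ⊓ stabilizer (Equiv.Perm GolayPt) (Helper4.pt 23))
    ((baseDodecad : Set GolayPt)ᶜ) _ 3 (fun i => Helper4.pt (m11base i)) _ x hx
  · intro g hg y hy
    rw [Set.mem_compl_iff, Finset.mem_coe] at hy ⊢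
    rw [apply_mem_of_smul_eq (mem_M12.mp hg.1).2 y]
    exact hy
  · intro k p hp hne
    obtain ⟨a, rfl⟩ := Helper4.pt_bijective.2 p
    have ha : (m11om k).testBit a.val = true := by
      rw [m11om_mem]
      refine ⟨?_, fun j hj hcon => hne j hj (by rw [hcon])⟩
      rw [Set.mem_compl_iff, Finset.mem_coe] at hp
      unfold baseDodecad at hp
      rw [pt_mem_maskSet] at hp
      simpa using hp
    exact M11_level k a ha

/-- 3-transitivity on the complement, for any dodecad and point on it -/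
theorem dodecad_point_three_transitive {d : Finset GolayPt} (hd : d ∈ dodecads) {p : GolayPt}
    (hp : p ∈ d) (x y : Fin 3 ↪ GolayPt) (hx : ∀ i, x i ∉ d) (hy : ∀ i, y i ∉ d) :
    ∃ g : Equiv.Perm GolayPt, g ∈ M24 ∧ g • d = d ∧ g p = p ∧ ∀ i, g (x i) = y i := by
  obtain ⟨h, hh, rfl, rfl⟩ := exists_M24_map_baseDodecad_point hd hp
  have hmem : ∀ z, z ∉ h • baseDodecad → h⁻¹ z ∉ baseDodecad := by
    intro z hz hcon
    apply hz
    rw [Finset.mem_smul_finset]
    exact ⟨h⁻¹ z, hcon, by simp⟩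
  let x' : Fin 3 ↪ GolayPt := x.trans (h⁻¹ : Equiv.Perm GolayPt).toEmbedding
  let y' : Fin 3 ↪ GolayPt := y.trans (h⁻¹ : Equiv.Perm GolayPt).toEmbedding
  obtain ⟨g1, hg1, h1⟩ := M11_exists_map x' (fun i => hmem _ (hx i))
  obtain ⟨g2, hg2, h2⟩ := M11_exists_map y' (fun i => hmem _ (hy i))
  have hk : g2 * g1⁻¹ ∈ M12 ⊓ stabilizer (Equiv.Perm GolayPt) (Helper4.pt 23) :=
    Subgroup.mul_mem _ hg2 (Subgroup.inv_mem _ hg1)
  have hk' := mem_M12.mp hk.1
  have hk23 : (g2 * g1⁻¹) (Helper4.pt 23) = Helper4.pt 23 := hk.2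
  refine ⟨h * (g2 * g1⁻¹) * h⁻¹, M24.mul_mem (M24.mul_mem hh hk'.1) (M24.inv_mem hh), ?_, ?_, ?_⟩
  · rw [mul_smul, inv_smul_smul, mul_smul, hk'.2]
  · show (h * (g2 * g1⁻¹) * h⁻¹) (h (Helper4.pt 23)) = _
    have e5 : h⁻¹ (h (Helper4.pt 23)) = Helper4.pt 23 := by simp
    have := hk23
    simp only [Equiv.Perm.mul_apply] at this ⊢
    rw [e5, this]
  · intro i
    have e1 : h⁻¹ (x i) = g1 (Helper4.pt (m11base i)) := (h1 i).symm
    have e2 : g2 (Helper4.pt (m11base i)) = h⁻¹ (y i) := h2 i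
    have e3 : g1⁻¹ (g1 (Helper4.pt (m11base i))) = Helper4.pt (m11base i) := by simp
    simp only [Equiv.Perm.mul_apply]
    rw [e1, e3, e2]
    simp

end Cfsg.Agent.Lib.Helper28
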