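import Cfsg.Agent.Lib.Helper28.BSGSCore

/-!
# Verified Schreier–Sims for subgroups of `GL₇(11)`

Vectors of `𝔽₁₁⁷` are records of seven natural numbers, matrices are records of seven rows; a
matrix is stored as one natural number (four bits per entry) and the inverse of an orthogonal
matrix is read off from the same number.  Points are addressed by their keys (base 11 numbers)
and the transversals are kept in binary search trees.  `checkChain` is a Boolean certificate
checker (meant for `decide +kernel`); `mat_main` derives the order of the generated group and the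
soundness of sifting.
-/

set_option autoImplicit false

namespace Cfsg.Agent.Lib.Helper28.BSGSMat

open MulAction Cfsg.Agent.Lib.Helper28.BSGS

/-- vectors -/
structure V7 where
  /-- entry -/
  a0 : ℕ
  /-- entry -/
  a1 : ℕ
  /-- entry -/
  a2 : ℕ
  /-- entry -/
  a3 : ℕ
  /-- entry -/
  a4 : ℕ
  /-- entry -/
  a5 : ℕ
  /-- entry -/
  a6 : ℕ

/-- matrices, by rows -/
structure M7 where
  /-- row -/
  r0 : V7
  /-- row -/
  r1 : V7
  /-- row -/
  r2 : V7
  /-- row -/
  r3 : V7
  /-- row -/
  r4 : V7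
  /-- row -/
  r5 : V7
  /-- row -/
  r6 : V7

/-- inner product modulo 11 -/
def dot (r v : V7) : ℕ :=
  Nat.mod (Nat.add (Nat.mul r.a0 v.a0) (Nat.add (Nat.mul r.a1 v.a1) (Nat.add (Nat.mul r.a2 v.a2)
    (Nat.add (Nat.mul r.a3 v.a3) (Nat.add (Nat.mul r.a4 v.a4) (Nat.add (Nat.mul r.a5 v.a5)
      (Nat.mul r.a6 v.a6))))))) 11

/-- matrix times vector -/
def mv (M : M7) (v : V7) : V7 :=
  ⟨dot M.r0 v, dot M.r1 v, dot M.r2 v, dot M.r3 v, dot M.r4 v, dot M.r5 v, dot M.r6 v⟩

/-- the entries of a vector -/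
def V7.get (v : V7) (j : Fin 7) : ℕ :=
  match j with
  | 0 => v.a0
  | 1 => v.a1
  | 2 => v.a2
  | 3 => v.a3
  | 4 => v.a4
  | 5 => v.a5
  | 6 => v.a6

/-- the rows of a matrix -/
def M7.row (M : M7) (i : Fin 7) : V7 :=
  match i with
  | 0 => M.r0
  | 1 => M.r1
  | 2 => M.r2
  | 3 => M.r3
  | 4 => M.r4
  | 5 => M.r5
  | 6 => M.r6

/-- the vector over `ZMod 11` -/
def ofV (v : V7) : Fin 7 → ZMod 11 := fun j => ((v.get j : ℕ) : ZMod 11)

/-- the matrix over `ZMod 11` -/
def matOf (M : M7) : Matrix (Fin 7) (Fin 7) (ZMod 11) := fun i j => ofV (M.row i) j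

theorem dot_cast (r v : V7) : ((dot r v : ℕ) : ZMod 11) = ∑ j, ofV r j * ofV v j := by
  rw [Fin.sum_univ_seven]
  show (((r.a0 * v.a0 + (r.a1 * v.a1 + (r.a2 * v.a2 + (r.a3 * v.a3 + (r.a4 * v.a4 +
    (r.a5 * v.a5 + r.a6 * v.a6)))))) % 11 : ℕ) : ZMod 11) =
    (r.a0 : ZMod 11) * (v.a0 : ZMod 11) + (r.a1 : ZMod 11) * (v.a1 : ZMod 11) +
    (r.a2 : ZMod 11) * (v.a2 : ZMod 11) + (r.a3 : ZMod 11) * (v.a3 : ZMod 11) +
    (r.a4 : ZMod 11) * (v.a4 : ZMod 11) + (r.a5 : ZMod 11) * (v.a5 : ZMod 11) +
    (r.a6 : ZMod 11) * (v.a6 : ZMod 11)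
  rw [ZMod.natCast_mod]
  push_cast
  ring

theorem mv_get (M : M7) (v : V7) (i : Fin 7) : (mv M v).get i = dot (M.row i) v := by
  fin_cases i <;> rfl

theorem mulVec_ofV (M : M7) (v : V7) : Matrix.mulVec (matOf M) (ofV v) = ofV (mv M v) := by
  funext i
  show ∑ j, matOf M i j * ofV v j = (((mv M v).get i : ℕ) : ZMod 11)
  rw [mv_get, dot_cast]
  rfl

/-- the standard basis -/
def bas (i : Fin 7) : V7 :=
  match i with
  | 0 => ⟨1, 0, 0, 0, 0, 0, 0⟩
  | 1 => ⟨0, 1, 0, 0, 0, 0, 0⟩
  | 2 => ⟨0, 0, 1, 0, 0, 0, 0⟩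
  | 3 => ⟨0, 0, 0, 1, 0, 0, 0⟩
  | 4 => ⟨0, 0, 0, 0, 1, 0, 0⟩
  | 5 => ⟨0, 0, 0, 0, 0, 1, 0⟩
  | 6 => ⟨0, 0, 0, 0, 0, 0, 1⟩

/-- the standard basis as a list -/
def basL : List V7 :=
  [⟨1, 0, 0, 0, 0, 0, 0⟩, ⟨0, 1, 0, 0, 0, 0, 0⟩, ⟨0, 0, 1, 0, 0, 0, 0⟩, ⟨0, 0, 0, 1, 0, 0, 0⟩,
   ⟨0, 0, 0, 0, 1, 0, 0⟩, ⟨0, 0, 0, 0, 0, 1, 0⟩, ⟨0, 0, 0, 0, 0, 0, 1⟩]

theorem bas_mem (i : Fin 7) : bas i ∈ basL := by
  fin_cases i <;> simp [bas, basL]

theorem ofV_bas (i : Fin 7) : ofV (bas i) = Pi.single i 1 := by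
  fin_cases i <;> (funext j; fin_cases j <;> decide)

theorem mat_eq_of_basis {A B : Matrix (Fin 7) (Fin 7) (ZMod 11)}
    (h : ∀ i : Fin 7, Matrix.mulVec A (ofV (bas i)) = Matrix.mulVec B (ofV (bas i))) : A = B := by
  ext i j
  have := congrFun (h j) i
  rw [ofV_bas, Matrix.mulVec_single_one, Matrix.mulVec_single_one] at this
  exact this

theorem gl_smul (g : GL (Fin 7) (ZMod 11)) (v : Fin 7 → ZMod 11) :
    g • v = Matrix.mulVec (g : Matrix (Fin 7) (Fin 7) (ZMod 11)) v := rfl

theorem gl_eq_of_basis {g h : GL (Fin 7) (ZMod 11)}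
    (hb : ∀ i : Fin 7, g • ofV (bas i) = h • ofV (bas i)) : g = h := by
  apply Units.ext
  apply mat_eq_of_basis
  intro i
  have := hb i
  rwa [gl_smul, gl_smul] at this

/-! ### keys -/

/-- the key of a vector -/
def key (v : V7) : ℕ :=
  Nat.add (Nat.mod v.a0 11) (Nat.mul 11 (Nat.add (Nat.mod v.a1 11) (Nat.mul 11
    (Nat.add (Nat.mod v.a2 11) (Nat.mul 11 (Nat.add (Nat.mod v.a3 11) (Nat.mul 11
      (Nat.add (Nat.mod v.a4 11) (Nat.mul 11 (Nat.add (Nat.mod v.a5 11)
        (Nat.mul 11 (Nat.mod v.a6 11))))))))))))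

/-- the vector of a key -/
def unkey (k : ℕ) : V7 :=
  ⟨Nat.mod k 11, Nat.mod (Nat.div k 11) 11, Nat.mod (Nat.div k 121) 11,
   Nat.mod (Nat.div k 1331) 11, Nat.mod (Nat.div k 14641) 11, Nat.mod (Nat.div k 161051) 11,
   Nat.mod (Nat.div k 1771561) 11⟩

theorem key_eq (v : V7) : key v = v.a0 % 11 + 11 * (v.a1 % 11 + 11 * (v.a2 % 11 + 11 *
    (v.a3 % 11 + 11 * (v.a4 % 11 + 11 * (v.a5 % 11 + 11 * (v.a6 % 11)))))) := rfl

theorem key_lt (v : V7) : key v < 19487171 := by
  rw [key_eq]
  omega

/-- the point with a given key -/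
def ptK (k : ℕ) : Fin 7 → ZMod 11 := ofV (unkey k)

theorem ptK_key (v : V7) : ptK (key v) = ofV v := by
  have h0 : key v % 11 = v.a0 % 11 := by rw [key_eq]; omega
  have h1 : key v / 11 % 11 = v.a1 % 11 := by rw [key_eq]; omega
  have h2 : key v / 121 % 11 = v.a2 % 11 := by rw [key_eq]; omega
  have h3 : key v / 1331 % 11 = v.a3 % 11 := by rw [key_eq]; omega
  have h4 : key v / 14641 % 11 = v.a4 % 11 := by rw [key_eq]; omega
  have h5 : key v / 161051 % 11 = v.a5 % 11 := by rw [key_eq]; omega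
  have h6 : key v / 1771561 % 11 = v.a6 % 11 := by rw [key_eq]; omega
  funext j
  fin_cases j
  · show ((key v % 11 : ℕ) : ZMod 11) = ((v.a0 : ℕ) : ZMod 11)
    rw [h0, ZMod.natCast_mod]
  · show ((key v / 11 % 11 : ℕ) : ZMod 11) = ((v.a1 : ℕ) : ZMod 11)
    rw [h1, ZMod.natCast_mod]
  · show ((key v / 121 % 11 : ℕ) : ZMod 11) = ((v.a2 : ℕ) : ZMod 11)
    rw [h2, ZMod.natCast_mod]
  · show ((key v / 1331 % 11 : ℕ) : ZMod 11) = ((v.a3 : ℕ) : ZMod 11)
    rw [h3, ZMod.natCast_mod]
  · show ((key v / 14641 % 11 : ℕ) : ZMod 11) = ((v.a4 : ℕ) : ZMod 11)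
    rw [h4, ZMod.natCast_mod]
  · show ((key v / 161051 % 11 : ℕ) : ZMod 11) = ((v.a5 : ℕ) : ZMod 11)
    rw [h5, ZMod.natCast_mod]
  · show ((key v / 1771561 % 11 : ℕ) : ZMod 11) = ((v.a6 : ℕ) : ZMod 11)
    rw [h6, ZMod.natCast_mod]

/-- the record of a vector over `ZMod 11` -/
def toV (a : Fin 7 → ZMod 11) : V7 :=
  ⟨(a 0).val, (a 1).val, (a 2).val, (a 3).val, (a 4).val, (a 5).val, (a 6).val⟩

/-- the key of a vector over `ZMod 11` -/
def toKey (a : Fin 7 → ZMod 11) : ℕ := key (toV a)

theorem toKey_ofV (v : V7) : toKey (ofV v) = key v := by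
  have h : ∀ n : ℕ, ((n : ℕ) : ZMod 11).val = n % 11 := fun n => ZMod.val_natCast (n := 11) n
  show key ⟨((v.a0 : ℕ) : ZMod 11).val, ((v.a1 : ℕ) : ZMod 11).val, ((v.a2 : ℕ) : ZMod 11).val,
    ((v.a3 : ℕ) : ZMod 11).val, ((v.a4 : ℕ) : ZMod 11).val, ((v.a5 : ℕ) : ZMod 11).val,
    ((v.a6 : ℕ) : ZMod 11).val⟩ = key v
  rw [key_eq, key_eq]
  simp only [h, Nat.mod_mod]

theorem key_unkey {k : ℕ} (hk : k < 19487171) : key (unkey k) = k := by
  rw [key_eq]
  show k % 11 % 11 + 11 * (k / 11 % 11 % 11 + 11 * (k / 121 % 11 % 11 + 11 *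
    (k / 1331 % 11 % 11 + 11 * (k / 14641 % 11 % 11 + 11 * (k / 161051 % 11 % 11 + 11 *
      (k / 1771561 % 11 % 11)))))) = k
  omega

theorem toKey_ptK {k : ℕ} (hk : k < 19487171) : toKey (ptK k) = k := by
  unfold ptK
  rw [toKey_ofV, key_unkey hk]

theorem ofV_eq_of_key {v v' : V7} (h : key v = key v') : ofV v = ofV v' := by
  rw [← ptK_key v, ← ptK_key v', h]

theorem key_eq_of_ofV {v v' : V7} (h : ofV v = ofV v') : key v = key v' := by
  rw [← toKey_ofV v, ← toKey_ofV v', h]

/-! ### codes of matrices -/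

/-- four bits of a code -/
def nib (c k : ℕ) : ℕ := Nat.land (Nat.shiftRight c k) 15

/-- the matrix of a code -/
def decM (c : ℕ) : M7 :=
  ⟨⟨nib c 0, nib c 4, nib c 8, nib c 12, nib c 16, nib c 20, nib c 24⟩,
   ⟨nib c 28, nib c 32, nib c 36, nib c 40, nib c 44, nib c 48, nib c 52⟩,
   ⟨nib c 56, nib c 60, nib c 64, nib c 68, nib c 72, nib c 76, nib c 80⟩,
   ⟨nib c 84, nib c 88, nib c 92, nib c 96, nib c 100, nib c 104, nib c 108⟩,
   ⟨nib c 112, nib c 116, nib c 120, nib c 124, nib c 128, nib c 132, nib c 136⟩,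
   ⟨nib c 140, nib c 144, nib c 148, nib c 152, nib c 156, nib c 160, nib c 164⟩,
   ⟨nib c 168, nib c 172, nib c 176, nib c 180, nib c 184, nib c 188, nib c 192⟩⟩

/-- the transposed matrix of a code -/
def decT (c : ℕ) : M7 :=
  ⟨⟨nib c 0, nib c 28, nib c 56, nib c 84, nib c 112, nib c 140, nib c 168⟩,
   ⟨nib c 4, nib c 32, nib c 60, nib c 88, nib c 116, nib c 144, nib c 172⟩,
   ⟨nib c 8, nib c 36, nib c 64, nib c 92, nib c 120, nib c 148, nib c 176⟩,
   ⟨nib c 12, nib c 40, nib c 68, nib c 96, nib c 124, nib c 152, nib c 180⟩,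
   ⟨nib c 16, nib c 44, nib c 72, nib c 100, nib c 128, nib c 156, nib c 184⟩,
   ⟨nib c 20, nib c 48, nib c 76, nib c 104, nib c 132, nib c 160, nib c 188⟩,
   ⟨nib c 24, nib c 52, nib c 80, nib c 108, nib c 136, nib c 164, nib c 192⟩⟩

/-! ### words -/

/-- image of a vector under a word of matrices (the last matrix acts first) -/
def evalW (ws : List M7) (v : V7) : V7 := ws.foldr mv v

theorem evalW_cons (A : M7) (ws : List M7) (v : V7) : evalW (A :: ws) v = mv A (evalW ws v) := rfl

/-- `g` acts through the word `ws` -/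
def ActsBy (g : GL (Fin 7) (ZMod 11)) (ws : List M7) : Prop :=
  ∀ v : V7, g • ofV v = ofV (evalW ws v)

theorem actsBy_one : ActsBy 1 [] := fun v => one_smul _ _

theorem actsBy_cons {g h : GL (Fin 7) (ZMod 11)} {A : M7} {ws : List M7}
    (hg : ∀ v : V7, g • ofV v = ofV (mv A v)) (hh : ActsBy h ws) : ActsBy (g * h) (A :: ws) := by
  intro v
  rw [mul_smul, hh v, hg, evalW_cons]

theorem actsBy_single {g : GL (Fin 7) (ZMod 11)} {A : M7}
    (hg : ∀ v : V7, g • ofV v = ofV (mv A v)) : ActsBy g [A] := by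
  have := actsBy_cons hg actsBy_one
  rwa [mul_one] at this

theorem actsBy_pow {g : GL (Fin 7) (ZMod 11)} {A : M7}
    (hg : ∀ v : V7, g • ofV v = ofV (mv A v)) (k : ℕ) : ActsBy (g ^ k) (List.replicate k A) := by
  induction k with
  | zero => rw [pow_zero]; exact actsBy_one
  | succ k ih =>
    rw [pow_succ', List.replicate_succ]
    exact actsBy_cons hg ih

/-- two words agree on the standard basis -/
def wordEqB (ws ws' : List M7) : Bool :=
  basL.all fun e => Nat.beq (key (evalW ws e)) (key (evalW ws' e))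

/-- the word acts as the identity -/
def idB (ws : List M7) : Bool := wordEqB ws []

theorem eq_of_wordEqB {g h : GL (Fin 7) (ZMod 11)} {ws ws' : List M7} (hg : ActsBy g ws)
    (hh : ActsBy h ws') (he : wordEqB ws ws' = true) : g = h := by
  unfold wordEqB at he
  rw [List.all_eq_true] at he
  apply gl_eq_of_basis
  intro i
  rw [hg, hh]
  exact ofV_eq_of_key (Nat.eq_of_beq_eq_true (he _ (bas_mem i)))

theorem eq_one_of_idB {g : GL (Fin 7) (ZMod 11)} {ws : List M7} (hg : ActsBy g ws)
    (h : idB ws = true) : g = 1 :=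
  eq_of_wordEqB hg actsBy_one h

theorem wordEqB_of_eq {g : GL (Fin 7) (ZMod 11)} {ws ws' : List M7} (hg : ActsBy g ws)
    (hh : ActsBy g ws') : wordEqB ws ws' = true := by
  unfold wordEqB
  rw [List.all_eq_true]
  intro e _
  have h1 : key (evalW ws e) = key (evalW ws' e) := by
    apply key_eq_of_ofV
    rw [← hg, ← hh]
  rw [h1]
  exact Nat.beq_refl _

/-! ### the group elements of codes -/

/-- the code describes an invertible matrix -/
def invOK (c : ℕ) : Bool :=
  basL.all fun e => Nat.beq (key (mv (decM c) (mv (decT c) e))) (key e)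

theorem invOK_spec {c : ℕ} (h : invOK c = true) : matOf (decM c) * matOf (decT c) = 1 := by
  unfold invOK at h
  rw [List.all_eq_true] at h
  apply mat_eq_of_basis
  intro i
  rw [← Matrix.mulVec_mulVec, mulVec_ofV, mulVec_ofV, Matrix.one_mulVec]
  exact ofV_eq_of_key (Nat.eq_of_beq_eq_true (h _ (bas_mem i)))

/-- the element of `GL₇(11)` of a code -/
def glOf (c : ℕ) : GL (Fin 7) (ZMod 11) :=
  if h : invOK c = true then
    ⟨matOf (decM c), matOf (decT c), invOK_spec h, mul_eq_one_comm.mp (invOK_spec h)⟩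
  else 1

theorem glOf_val {c : ℕ} (h : invOK c = true) :
    ((glOf c : GL (Fin 7) (ZMod 11)) : Matrix (Fin 7) (Fin 7) (ZMod 11)) = matOf (decM c) := by
  unfold glOf; rw [dif_pos h]

theorem glOf_inv_val {c : ℕ} (h : invOK c = true) :
    (((glOf c)⁻¹ : GL (Fin 7) (ZMod 11)) : Matrix (Fin 7) (Fin 7) (ZMod 11)) =
      matOf (decT c) := by
  unfold glOf; rw [dif_pos h]; rfl

theorem glOf_acts {c : ℕ} (h : invOK c = true) (v : V7) :
    glOf c • ofV v = ofV (mv (decM c) v) := by
  rw [gl_smul, glOf_val h, mulVec_ofV]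

theorem glOf_inv_acts {c : ℕ} (h : invOK c = true) (v : V7) :
    (glOf c)⁻¹ • ofV v = ofV (mv (decT c) v) := by
  rw [gl_smul, glOf_inv_val h, mulVec_ofV]

theorem glOf_ptK {c : ℕ} (h : invOK c = true) (k : ℕ) :
    glOf c • ptK k = ptK (key (mv (decM c) (unkey k))) := by
  rw [ptK_key]
  exact glOf_acts h (unkey k)

/-! ### search trees -/

/-- transversal entries: key of the point, code of the matrix, depth, key of the parent -/
abbrev Entry := ℕ × ℕ × ℕ × ℕ

/-- binary search trees of entries -/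
inductive Tree where
  | leaf : Tree
  | node : Tree → Entry → Tree → Tree

/-- search by key -/
def Tree.lookup : Tree → ℕ → Option Entry
  | .leaf, _ => none
  | .node l e r, y =>
      cond (Nat.beq y e.1) (some e) (cond (Nat.blt y e.1) (l.lookup y) (r.lookup y))

/-- the entries from left to right -/
def Tree.toList : Tree → List Entry
  | .leaf => []
  | .node l e r => l.toList ++ e :: r.toList

theorem Tree.lookup_some : ∀ (T : Tree) {y : ℕ} {e : Entry}, T.lookup y = some e →
    e ∈ T.toList ∧ e.1 = y := by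
  intro T
  induction T with
  | leaf => intro y e h; simp [Tree.lookup] at h
  | node l e' r ihl ihr =>
    intro y e h
    rw [Tree.lookup] at h
    rw [Tree.toList]
    cases hb : Nat.beq y e'.1 with
    | true =>
      rw [hb, cond_true] at h
      have : e' = e := Option.some.inj h
      subst this
      exact ⟨List.mem_append_right _ List.mem_cons_self, (Nat.eq_of_beq_eq_true hb).symm⟩
    | false =>
      rw [hb, cond_false] at h
      cases hc : Nat.blt y e'.1 with
      | true =>
        rw [hc, cond_true] at h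
        obtain ⟨h1, h2⟩ := ihl h
        exact ⟨List.mem_append_left _ h1, h2⟩
      | false =>
        rw [hc, cond_false] at h
        obtain ⟨h1, h2⟩ := ihr h
        exact ⟨List.mem_append_right _ (List.mem_cons_of_mem _ h1), h2⟩

/-- strictly increasing -/
def sortedB : List ℕ → Bool
  | [] => true
  | [_] => true
  | a :: b :: l => Nat.blt a b && sortedB (b :: l)

theorem sortedB_tail : ∀ (a : ℕ) (l : List ℕ), sortedB (a :: l) = true → sortedB l = true
  | _, [] => fun _ => rfl
  | a, b :: l => fun h => by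
    rw [sortedB, Bool.and_eq_true] at h
    exact h.2

theorem sortedB_lt : ∀ (l : List ℕ) (a : ℕ), sortedB (a :: l) = true → ∀ x ∈ l, a < x := by
  intro l
  induction l with
  | nil => intro a _ x hx; simp at hx
  | cons b l ih =>
    intro a h x hx
    rw [sortedB, Bool.and_eq_true] at h
    obtain ⟨h1, h2⟩ := h
    have hab : a < b := by
      rw [Nat.blt_eq] at h1
      exact h1
    rcases List.mem_cons.mp hx with rfl | hx'
    · exact hab
    · exact lt_trans hab (ih b h2 x hx')

theorem sortedB_nodup : ∀ l : List ℕ, sortedB l = true → l.Nodup := by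
  intro l
  induction l with
  | nil => intro _; exact List.nodup_nil
  | cons a l ih =>
    intro h
    rw [List.nodup_cons]
    exact ⟨fun ha => lt_irrefl a (sortedB_lt l a h a ha), ih (sortedB_tail a l h)⟩

/-! ### chains -/

/-- a level: key of the base point and transversal -/
abbrev CLevel := ℕ × Tree

/-- Boolean sifting of a word through the chain -/
def siftB : List CLevel → List M7 → Bool
  | [], ws => idB ws
  | lv :: rest, ws =>
      match lv.2.lookup (key (evalW ws (unkey lv.1))) with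
      | none => false
      | some e => siftB rest (decT e.2.1 :: ws)

/-- transversal element of a point -/
def semU (T : Tree) (x : Fin 7 → ZMod 11) : GL (Fin 7) (ZMod 11) :=
  match T.lookup (toKey x) with
  | none => 1
  | some e => glOf e.2.1

/-- the group elements of a list of codes -/
def semGens (gens : List ℕ) : List (GL (Fin 7) (ZMod 11)) := gens.map glOf

/-- the generators fixing the point with key `b` -/
def nextGens (gens : List ℕ) (b : ℕ) : List ℕ :=
  gens.filter fun g => Nat.beq (key (mv (decM g) (unkey b))) b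

/-- the semantic level of a code level -/
def semLevel (gens' : List ℕ) (lv : CLevel) :
    SLevel (GL (Fin 7) (ZMod 11)) (Fin 7 → ZMod 11) where
  b := ptK lv.1
  O := lv.2.toList.map fun e => ptK e.1
  u := semU lv.2
  S' := semGens gens'

/-- the semantic chain -/
def semLevels : List ℕ → List CLevel → List (SLevel (GL (Fin 7) (ZMod 11)) (Fin 7 → ZMod 11))
  | _, [] => []
  | gens, lv :: rest =>
      semLevel (nextGens gens lv.1) lv :: semLevels (nextGens gens lv.1) rest

/-- a transversal entry is valid, maps the base point to its point, and is found in the tree -/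
def entryOK (b : ℕ) (T : Tree) (e : Entry) : Bool :=
  Nat.blt e.1 19487171 && invOK e.2.1 && Nat.beq (key (mv (decM e.2.1) (unkey b))) e.1 &&
  (T.lookup e.1).isSome

/-- the entry of the base point is the identity -/
def headOK (b : ℕ) (T : Tree) : Bool :=
  match T.lookup b with
  | none => false
  | some e => idB [decM e.2.1]

/-- the parent of an entry is one level higher and is mapped to the entry by a generator -/
def reachOK (gens : List ℕ) (b : ℕ) (T : Tree) (e : Entry) : Bool :=
  Nat.beq e.1 b || (match T.lookup e.2.2.2 with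
    | none => false
    | some e' => Nat.beq (Nat.succ e'.2.2.1) e.2.2.1 &&
        gens.any fun g => Nat.beq (key (mv (decM g) (unkey e'.1))) e.1)

/-- the Schreier generators of one generator sift through the chain -/
def schreierOK (lv : CLevel) (rest : List CLevel) (g : ℕ) : Bool :=
  lv.2.toList.all fun e => siftB (lv :: rest) [decM g, decM e.2.1]

/-- all conditions at one level -/
def levelOK (gens : List ℕ) (lv : CLevel) (rest : List CLevel) : Bool :=
  Nat.blt lv.1 19487171 && headOK lv.1 lv.2 && lv.2.toList.all (entryOK lv.1 lv.2) &&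
  sortedB (lv.2.toList.map fun e => e.1) &&
  lv.2.toList.all (reachOK gens lv.1 lv.2) &&
  gens.all (schreierOK lv rest)

/-- the certificate checker -/
def checkChain : List ℕ → List CLevel → Bool
  | gens, [] => gens.isEmpty
  | gens, lv :: rest => levelOK gens lv rest && checkChain (nextGens gens lv.1) rest

/-- product of the orbit lengths -/
def codeSize : List CLevel → ℕ
  | [] => 1
  | lv :: rest => lv.2.toList.length * codeSize rest

/-- well-formed levels -/
def LevelsWF (levels : List CLevel) : Prop :=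
  ∀ lv ∈ levels, lv.1 < 19487171 ∧ ∀ e ∈ lv.2.toList, e.1 < 19487171 ∧ invOK e.2.1 = true

theorem levelOK_spec {gens : List ℕ} {lv : CLevel} {rest : List CLevel}
    (h : levelOK gens lv rest = true) :
    lv.1 < 19487171 ∧ headOK lv.1 lv.2 = true ∧ (∀ e ∈ lv.2.toList, entryOK lv.1 lv.2 e = true) ∧
    sortedB (lv.2.toList.map fun e => e.1) = true ∧
    (∀ e ∈ lv.2.toList, reachOK gens lv.1 lv.2 e = true) ∧
    (∀ g ∈ gens, ∀ e ∈ lv.2.toList, siftB (lv :: rest) [decM g, decM e.2.1] = true) := by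
  unfold levelOK at h
  simp only [Bool.and_eq_true, List.all_eq_true] at h
  obtain ⟨⟨⟨⟨⟨h1, h2⟩, h3⟩, h4⟩, h5⟩, h6⟩ := h
  refine ⟨?_, h2, h3, h4, h5, ?_⟩
  · rw [Nat.blt_eq] at h1; exact h1
  · intro g hg e he
    have := h6 g hg
    unfold schreierOK at this
    rw [List.all_eq_true] at this
    exact this e he

theorem entryOK_spec {b : ℕ} {T : Tree} {e : Entry} (h : entryOK b T e = true) :
    e.1 < 19487171 ∧ invOK e.2.1 = true ∧ key (mv (decM e.2.1) (unkey b)) = e.1 ∧
    ∃ e', T.lookup e.1 = some e' := by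
  unfold entryOK at h
  simp only [Bool.and_eq_true] at h
  obtain ⟨⟨⟨h1, h2⟩, h3⟩, h4⟩ := h
  refine ⟨?_, h2, Nat.eq_of_beq_eq_true h3, ?_⟩
  · rw [Nat.blt_eq] at h1; exact h1
  · exact Option.isSome_iff_exists.mp h4

theorem checkChain_wf : ∀ (levels : List CLevel) (gens : List ℕ),
    checkChain gens levels = true → LevelsWF levels := by
  intro levels
  induction levels with
  | nil => intro gens _ lv hlv; simp at hlv
  | cons lv rest ih =>
    intro gens h lv' hlv'
    unfold checkChain at h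
    rw [Bool.and_eq_true] at h
    obtain ⟨h1, h2⟩ := h
    rcases List.mem_cons.mp hlv' with rfl | hmem
    · obtain ⟨k1, _, k3, _⟩ := levelOK_spec h1
      refine ⟨k1, fun e he => ?_⟩
      obtain ⟨e1, e2, _⟩ := entryOK_spec (k3 e he)
      exact ⟨e1, e2⟩
    · exact ih _ h2 lv' hmem

theorem siftB_sound : ∀ (levels : List CLevel) (gens : List ℕ) (ws : List M7)
    (h : GL (Fin 7) (ZMod 11)), LevelsWF levels → siftB levels ws = true →
    ActsBy h ws → Sifts (semLevels gens levels) h := by
  intro levels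
  induction levels with
  | nil =>
    intro gens ws h _ hs hact
    show h = 1
    unfold siftB at hs
    exact eq_one_of_idB hact hs
  | cons lv rest ih =>
    intro gens ws h hwf hs hact
    have hlv := hwf lv List.mem_cons_self
    have hwf' : LevelsWF rest := fun lv' hlv' => hwf lv' (List.mem_cons_of_mem _ hlv')
    unfold siftB at hs
    have hb : h • ptK lv.1 = ptK (key (evalW ws (unkey lv.1))) := by
      rw [ptK_key]
      exact hact (unkey lv.1)
    cases hf : lv.2.lookup (key (evalW ws (unkey lv.1))) with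
    | none => rw [hf] at hs; simp at hs
    | some e =>
      rw [hf] at hs
      obtain ⟨he, hey⟩ := Tree.lookup_some _ hf
      obtain ⟨he1, he2⟩ := hlv.2 e he
      have hpt : h • ptK lv.1 = ptK e.1 := by rw [hb, hey]
      show h • ptK lv.1 ∈ (lv.2.toList.map fun e => ptK e.1) ∧
        Sifts (semLevels (nextGens gens lv.1) rest) ((semU lv.2 (h • ptK lv.1))⁻¹ * h)
      rw [hpt]
      refine ⟨List.mem_map.mpr ⟨e, he, rfl⟩, ?_⟩
      have hu : semU lv.2 (ptK e.1) = glOf e.2.1 := by
        unfold semU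
        rw [toKey_ptK he1, hey, hf]
      rw [hu]
      apply ih _ _ _ hwf' hs
      exact actsBy_cons (glOf_inv_acts he2) hact

theorem mem_semGens {gens : List ℕ} {g : ℕ} (hg : g ∈ gens) : glOf g ∈ semGens gens :=
  List.mem_map.mpr ⟨g, hg, rfl⟩

theorem reach_sound (gens : List ℕ) (hg : ∀ g ∈ gens, invOK g = true) (b : ℕ) (T : Tree)
    (hr : ∀ e ∈ T.toList, reachOK gens b T e = true) :
    ∀ (d : ℕ) (e : Entry), e ∈ T.toList → e.2.2.1 = d →
      ∃ g ∈ Subgroup.closure {s | s ∈ semGens gens}, g • ptK b = ptK e.1 := by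
  have step : ∀ (d : ℕ) (e : Entry), e ∈ T.toList → e.2.2.1 = d →
      (∀ e' : Entry, e' ∈ T.toList → Nat.succ e'.2.2.1 = d →
        ∃ g ∈ Subgroup.closure {s | s ∈ semGens gens}, g • ptK b = ptK e'.1) →
      ∃ g ∈ Subgroup.closure {s | s ∈ semGens gens}, g • ptK b = ptK e.1 := by
    intro d e he hd ih
    have h1 := hr e he
    unfold reachOK at h1
    rw [Bool.or_eq_true] at h1
    rcases h1 with h1 | h1
    · refine ⟨1, Subgroup.one_mem _, ?_⟩
      rw [one_smul, Nat.eq_of_beq_eq_true h1]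
    · cases hf : T.lookup e.2.2.2 with
      | none => rw [hf] at h1; simp at h1
      | some e' =>
        rw [hf] at h1
        simp only [Bool.and_eq_true] at h1
        obtain ⟨h2, h3⟩ := h1
        have h2' : Nat.succ e'.2.2.1 = e.2.2.1 := Nat.eq_of_beq_eq_true h2
        obtain ⟨g', hg', hgb⟩ := ih e' (Tree.lookup_some _ hf).1 (h2'.trans hd)
        rw [List.any_eq_true] at h3
        obtain ⟨g, hgm, h4⟩ := h3
        refine ⟨glOf g * g', Subgroup.mul_mem _ (Subgroup.subset_closure (mem_semGens hgm)) hg', ?_⟩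
        rw [mul_smul, hgb, glOf_ptK (hg g hgm), Nat.eq_of_beq_eq_true h4]
  intro d
  induction d with
  | zero =>
    intro e he hd
    apply step 0 e he hd
    intro e' _ h
    exact absurd h (Nat.succ_ne_zero _)
  | succ d ih =>
    intro e he hd
    apply step (d + 1) e he hd
    intro e' he' h
    exact ih e' he' (Nat.succ.inj h)

theorem ptK_inj {k k' : ℕ} (hk : k < 19487171) (hk' : k' < 19487171) (h : ptK k = ptK k') :
    k = k' := by
  rw [← toKey_ptK hk, ← toKey_ptK hk', h]

theorem nextGens_spec {gens : List ℕ} {b g : ℕ} (h : g ∈ nextGens gens b) :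
    g ∈ gens ∧ key (mv (decM g) (unkey b)) = b := by
  unfold nextGens at h
  rw [List.mem_filter] at h
  exact ⟨h.1, Nat.eq_of_beq_eq_true h.2⟩

/-- the transversal element of a listed point is the element of an entry with the same key -/
theorem semU_spec {b : ℕ} {T : Tree} (k3 : ∀ e ∈ T.toList, entryOK b T e = true) :
    ∀ e ∈ T.toList, ∃ e' ∈ T.toList, e'.1 = e.1 ∧ semU T (ptK e.1) = glOf e'.2.1 := by
  intro e he
  obtain ⟨e1, _, _, e', he'⟩ := entryOK_spec (k3 e he)
  obtain ⟨m1, m2⟩ := Tree.lookup_some _ he'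
  refine ⟨e', m1, m2, ?_⟩
  unfold semU
  rw [toKey_ptK e1, he']

theorem checkChain_sound : ∀ (levels : List CLevel) (gens : List ℕ),
    (∀ g ∈ gens, invOK g = true) → checkChain gens levels = true →
    GoodChain (semGens gens) (semLevels gens levels) := by
  intro levels
  induction levels with
  | nil =>
    intro gens _ h
    show semGens gens = []
    unfold checkChain at h
    rw [List.isEmpty_iff] at h
    rw [h]; rfl
  | cons lv rest ih =>
    intro gens hg h
    have hwf := checkChain_wf _ _ h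
    unfold checkChain at h
    rw [Bool.and_eq_true] at h
    obtain ⟨h1, h2⟩ := h
    obtain ⟨k1, k2, k3, k4, k5, k6⟩ := levelOK_spec h1
    have hsemU := semU_spec k3
    -- the head entry
    obtain ⟨e0, hf0⟩ : ∃ e0, lv.2.lookup lv.1 = some e0 := by
      unfold headOK at k2
      cases hl : lv.2.lookup lv.1 with
      | none => rw [hl] at k2; simp at k2
      | some e0 => exact ⟨e0, rfl⟩
    have hid0 : idB [decM e0.2.1] = true := by
      unfold headOK at k2
      rw [hf0] at k2
      exact k2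
    obtain ⟨he0, he0b⟩ := Tree.lookup_some _ hf0
    show (∀ s ∈ semGens (nextGens gens lv.1), s ∈ semGens gens ∧ s • ptK lv.1 = ptK lv.1) ∧
      (lv.2.toList.map fun e => ptK e.1).Nodup ∧ ptK lv.1 ∈ (lv.2.toList.map fun e => ptK e.1) ∧
      semU lv.2 (ptK lv.1) = 1 ∧
      (∀ x ∈ (lv.2.toList.map fun e => ptK e.1), semU lv.2 x • ptK lv.1 = x) ∧
      (∀ x ∈ (lv.2.toList.map fun e => ptK e.1),
        ∃ g ∈ Subgroup.closure {s | s ∈ semGens gens}, g • ptK lv.1 = x) ∧
      (∀ s ∈ semGens gens, ∀ x ∈ (lv.2.toList.map fun e => ptK e.1),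
        Sifts (semLevels gens (lv :: rest)) (s * semU lv.2 x)) ∧
      GoodChain (semGens (nextGens gens lv.1)) (semLevels (nextGens gens lv.1) rest)
    refine ⟨?_, ?_, ?_, ?_, ?_, ?_, ?_, ?_⟩
    · intro s hs
      unfold semGens at hs
      rw [List.mem_map] at hs
      obtain ⟨g, hgm, rfl⟩ := hs
      obtain ⟨m1, m2⟩ := nextGens_spec hgm
      refine ⟨mem_semGens m1, ?_⟩
      rw [glOf_ptK (hg g m1), m2]
    · have hnd := sortedB_nodup _ k4
      have hnd2 : (List.map ptK (lv.2.toList.map fun e => e.1)).Nodup := by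
        apply List.Nodup.map_on _ hnd
        intro a ha c hc hac
        rw [List.mem_map] at ha hc
        obtain ⟨ea, hea, rfl⟩ := ha
        obtain ⟨ec, hec, rfl⟩ := hc
        exact ptK_inj (entryOK_spec (k3 ea hea)).1 (entryOK_spec (k3 ec hec)).1 hac
      rwa [List.map_map] at hnd2
    · exact List.mem_map.mpr ⟨e0, he0, by rw [he0b]⟩
    · have hu0 : semU lv.2 (ptK lv.1) = glOf e0.2.1 := by
        unfold semU
        rw [toKey_ptK k1, hf0]
      rw [hu0]
      exact eq_one_of_idB (actsBy_single (glOf_acts (entryOK_spec (k3 e0 he0)).2.1)) hid0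
    · intro x hx
      rw [List.mem_map] at hx
      obtain ⟨e, he, rfl⟩ := hx
      obtain ⟨e', he', m2, m3⟩ := hsemU e he
      obtain ⟨q1, q2, q3, _⟩ := entryOK_spec (k3 e' he')
      rw [m3, glOf_ptK q2, q3, m2]
    · intro x hx
      rw [List.mem_map] at hx
      obtain ⟨e, he, rfl⟩ := hx
      exact reach_sound gens hg lv.1 lv.2 k5 _ e he rfl
    · intro s hs x hx
      unfold semGens at hs
      rw [List.mem_map] at hs
      obtain ⟨g, hgm, rfl⟩ := hs
      rw [List.mem_map] at hx
      obtain ⟨e, he, rfl⟩ := hx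
      obtain ⟨e', he', m2, m3⟩ := hsemU e he
      obtain ⟨q1, q2, q3, _⟩ := entryOK_spec (k3 e' he')
      rw [m3]
      apply siftB_sound (lv :: rest) gens [decM g, decM e'.2.1] _ hwf (k6 g hgm e' he')
      exact actsBy_cons (glOf_acts (hg g hgm)) (actsBy_single (glOf_acts q2))
    · exact ih _ (fun g hgm => hg g (nextGens_spec hgm).1) h2

theorem chainSize_sem : ∀ (levels : List CLevel) (gens : List ℕ),
    chainSize (semLevels gens levels) = codeSize levels := by
  intro levels
  induction levels with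
  | nil => intro gens; rfl
  | cons lv rest ih =>
    intro gens
    show (lv.2.toList.map fun e => ptK e.1).length * chainSize (semLevels _ rest) = _
    rw [List.length_map, ih]
    rfl

/-- the group generated by a list of codes -/
def genGroup (gens : List ℕ) : Subgroup (GL (Fin 7) (ZMod 11)) :=
  Subgroup.closure {s | s ∈ semGens gens}

/-- validity of all generator codes -/
def gensOK (gens : List ℕ) : Bool := gens.all invOK

theorem gensOK_spec {gens : List ℕ} (h : gensOK gens = true) : ∀ g ∈ gens, invOK g = true := by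
  unfold gensOK at h
  rw [List.all_eq_true] at h
  exact h

theorem glOf_mem_genGroup {gens : List ℕ} {g : ℕ} (hg : g ∈ gens) : glOf g ∈ genGroup gens :=
  Subgroup.subset_closure (mem_semGens hg)

/-- order of the generated group and soundness of sifting -/
theorem mat_main (gens : List ℕ) (levels : List CLevel)
    (hg : gensOK gens = true) (hc : checkChain gens levels = true) :
    Nat.card (genGroup gens) = codeSize levels ∧
    ∀ (ws : List M7) (h : GL (Fin 7) (ZMod 11)), ActsBy h ws →
      siftB levels ws = true → h ∈ genGroup gens := by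
  have hgood := checkChain_sound levels gens (gensOK_spec hg) hc
  obtain ⟨h1, h2⟩ := chain_main _ _ hgood
  refine ⟨?_, ?_⟩
  · unfold genGroup
    rw [h1, chainSize_sem]
  · intro ws h hact hs
    exact h2 h (siftB_sound levels gens ws h (checkChain_wf _ _ hc) hs hact)

attribute [irreducible] glOf invOK

end Cfsg.Agent.Lib.Helper28.BSGSMat
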