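import Mathlib
import Cfsg.Prelude.Def_Transfer
import Cfsg.Agent.S5434
import Cfsg.Agent.S3377

/-!
# Groups of shape `2^{1+4}_- : A₅`

A criterion, in terms of elements, for a finite group `G` of order 1920 to have a normal
extraspecial subgroup `Q` of order 32 without elementary abelian subgroups of order 8, complemented
by a subgroup isomorphic to the alternating group of degree five.
-/

set_option autoImplicit false

namespace Cfsg.Agent.Lib.Helper28.CentShape

open scoped commutatorElement

/-- the shape `2^{1+4}_- : A₅` -/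
def Shape (G : Type*) [Group G] : Prop :=
  ∃ (Q : Subgroup G) (_ : Q.Normal), Cfsg.IsExtraspecial 2 Q ∧ Nat.card Q = 32 ∧
    (∀ E : Subgroup Q, Cfsg.IsElementaryAbelian 2 E → Nat.card E ≤ 2 ^ 2) ∧
    (∃ H : Subgroup G, Q.IsComplement' H) ∧
    Nonempty (G ⧸ Q ≃* alternatingGroup (Fin 5))

/-- the data, in terms of elements -/
structure Data (G : Type*) [Group G] (Q H : Subgroup G) (z : G) : Prop where
  normal : ∀ g : G, ∀ a ∈ Q, g * a * g⁻¹ ∈ Q
  z_mem : z ∈ Q
  z_ne : z ≠ 1
  z_cent : ∀ a ∈ Q, a * z = z * a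
  sq : ∀ a ∈ Q, a * a = 1 ∨ a * a = z
  comm : ∀ a ∈ Q, ∀ b ∈ Q, a * b = b * a ∨ a * b = z * (b * a)
  cent : ∀ b ∈ Q, (∀ a ∈ Q, a * b = b * a) → b = 1 ∨ b = z
  ex : ∃ a ∈ Q, ∃ b ∈ Q, a * b = z * (b * a)
  ea : ∀ a ∈ Q, ∀ b ∈ Q, a * a = 1 → b * b = 1 → a * b = b * a →
    a = 1 ∨ b = 1 ∨ a = b ∨ a = z ∨ b = z ∨ a * b = z
  cardQ : Nat.card Q = 32
  cardH : Nat.card H = 60
  cardG : Nat.card G = 1920
  disj : ∀ g ∈ Q, g ∈ H → g = 1
  alt : Nonempty (H ≃* alternatingGroup (Fin 5))

variable {G : Type*} [Group G]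

theorem Data.map {G' : Type*} [Group G'] {Q H : Subgroup G} {z : G} (h : Data G Q H z)
    (e : G ≃* G') : Data G' (Q.map e.toMonoidHom) (H.map e.toMonoidHom) (e z) where
  normal := by
    rintro g' _ ⟨a, ha, rfl⟩
    obtain ⟨g, rfl⟩ := e.surjective g'
    refine ⟨g * a * g⁻¹, h.normal g a ha, ?_⟩
    simp only [MulEquiv.coe_toMonoidHom, map_mul, map_inv]
  z_mem := ⟨z, h.z_mem, rfl⟩
  z_ne := fun hz => h.z_ne (e.injective (by rw [hz, map_one]))
  z_cent := by
    rintro _ ⟨a, ha, rfl⟩
    show e a * e z = e z * e a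
    rw [← map_mul, ← map_mul, h.z_cent a ha]
  sq := by
    rintro _ ⟨a, ha, rfl⟩
    show e a * e a = 1 ∨ e a * e a = e z
    rw [← map_mul]
    rcases h.sq a ha with h1 | h1
    · left; rw [h1, map_one]
    · right; rw [h1]
  comm := by
    rintro _ ⟨a, ha, rfl⟩ _ ⟨b, hb, rfl⟩
    show e a * e b = e b * e a ∨ e a * e b = e z * (e b * e a)
    rw [← map_mul, ← map_mul, ← map_mul]
    rcases h.comm a ha b hb with h1 | h1
    · left; rw [h1]
    · right; rw [h1]
  cent := by
    rintro _ ⟨b, hb, rfl⟩ hc
    show e b = 1 ∨ e b = e z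
    have h1 : ∀ a ∈ Q, a * b = b * a := by
      intro a ha
      apply e.injective
      rw [map_mul, map_mul]
      exact hc (e a) ⟨a, ha, rfl⟩
    rcases h.cent b hb h1 with h2 | h2
    · left; rw [h2, map_one]
    · right; rw [h2]
  ex := by
    obtain ⟨a, ha, b, hb, hab⟩ := h.ex
    refine ⟨e a, ⟨a, ha, rfl⟩, e b, ⟨b, hb, rfl⟩, ?_⟩
    rw [← map_mul, ← map_mul, ← map_mul, hab]
  ea := by
    rintro _ ⟨a, ha, rfl⟩ _ ⟨b, hb, rfl⟩ haa hbb hab
    show e a = 1 ∨ e b = 1 ∨ e a = e b ∨ e a = e z ∨ e b = e z ∨ e a * e b = e z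
    have h1 : a * a = 1 := e.injective (by rw [map_mul, map_one]; exact haa)
    have h2 : b * b = 1 := e.injective (by rw [map_mul, map_one]; exact hbb)
    have h3 : a * b = b * a := e.injective (by rw [map_mul, map_mul]; exact hab)
    rcases h.ea a ha b hb h1 h2 h3 with h4 | h4 | h4 | h4 | h4 | h4
    · left; rw [h4, map_one]
    · right; left; rw [h4, map_one]
    · right; right; left; rw [h4]
    · right; right; right; left; rw [h4]
    · right; right; right; right; left; rw [h4]
    · right; right; right; right; right; rw [← map_mul, h4]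
  cardQ := by rw [Subgroup.card_map_of_injective e.injective]; exact h.cardQ
  cardH := by rw [Subgroup.card_map_of_injective e.injective]; exact h.cardH
  cardG := by rw [← Nat.card_congr e.toEquiv]; exact h.cardG
  disj := by
    rintro _ ⟨a, ha, rfl⟩ ⟨b, hb, hab⟩
    have h1 : b = a := e.injective hab
    rw [h1] at hb
    show e a = 1
    rw [h.disj a ha hb, map_one]
  alt := by
    obtain ⟨f⟩ := h.alt
    exact ⟨(e.subgroupMap H).symm.trans f⟩

/-- elementary abelian subgroups have order at most four -/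
theorem card_le_four {P : Type*} [Group P] (z : P)
    (hea : ∀ a b : P, a * a = 1 → b * b = 1 → a * b = b * a →
      a = 1 ∨ b = 1 ∨ a = b ∨ a = z ∨ b = z ∨ a * b = z)
    (E : Subgroup P) (hE : Cfsg.IsElementaryAbelian 2 E) : Nat.card E ≤ 2 ^ 2 := by
  classical
  obtain ⟨hc, h2⟩ := hE
  have hsq : ∀ a ∈ E, a * a = 1 := fun a ha => by rw [← pow_two]; exact h2 a ha
  have hcm : ∀ a ∈ E, ∀ b ∈ E, a * b = b * a := by
    intro a ha b hb
    have := hc.is_comm.comm (⟨a, ha⟩ : E) ⟨b, hb⟩
    exact congrArg Subtype.val this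
  have hcard : ∀ s : Finset P, (E : Set P) ⊆ s → s.card ≤ 4 → Nat.card E ≤ 2 ^ 2 := by
    intro s hs h4
    have h5 : Nat.card E = (E : Set P).ncard := (Nat.card_coe_set_eq _)
    rw [h5]
    calc (E : Set P).ncard ≤ (s : Set P).ncard := Set.ncard_le_ncard hs (Finset.finite_toSet s)
      _ = s.card := Set.ncard_coe_finset s
      _ ≤ 2 ^ 2 := by omega
  by_cases hex : ∃ a ∈ E, a ≠ 1 ∧ a ≠ z
  · obtain ⟨a, ha, ha1, haz⟩ := hex
    apply hcard {1, a, z, a * z}
    · intro b hb
      have hb' : b ∈ E := hb
      simp only [Finset.coe_insert, Finset.coe_singleton, Set.mem_insert_iff,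
        Set.mem_singleton_iff]
      rcases hea a b (hsq a ha) (hsq b hb') (hcm a ha b hb') with h | h | h | h | h | h
      · exact absurd h ha1
      · left; exact h
      · right; left; exact h.symm
      · exact absurd h haz
      · right; right; left; exact h
      · right; right; right
        calc b = a * a * b := by rw [hsq a ha, one_mul]
          _ = a * (a * b) := by rw [mul_assoc]
          _ = a * z := by rw [h]
    · exact Finset.card_le_four
  · push_neg at hex
    apply hcard {1, z}
    · intro b hb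
      simp only [Finset.coe_insert, Finset.coe_singleton, Set.mem_insert_iff,
        Set.mem_singleton_iff]
      by_cases hb1 : b = 1
      · left; exact hb1
      · right; exact hex b hb hb1
    · exact le_trans Finset.card_le_two (by norm_num)

theorem Data.shape [Finite G] {Q H : Subgroup G} {z : G} (h : Data G Q H z) : Shape G := by
  haveI : Fact (Nat.Prime 2) := ⟨Nat.prime_two⟩
  have hQn : Q.Normal := ⟨fun a ha g => h.normal g a ha⟩
  have hzz : z * z = 1 := by
    rcases h.sq z h.z_mem with h1 | h1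
    · exact h1
    · exfalso
      apply h.z_ne
      calc z = z⁻¹ * (z * z) := by group
        _ = z⁻¹ * z := by rw [h1]
        _ = 1 := by group
  refine ⟨Q, hQn, ?_, h.cardQ, ?_, ⟨H, ?_⟩, ?_⟩
  · -- extraspecial
    have hPG : IsPGroup 2 Q := IsPGroup.of_card (n := 5) (by rw [h.cardQ]; norm_num)
    let z' : Q := ⟨z, h.z_mem⟩
    have hz'1 : z' ≠ 1 := fun h1 => h.z_ne (congrArg Subtype.val h1)
    have hz'2 : z' ^ 2 = 1 := by
      apply Subtype.ext
      rw [Subgroup.coe_pow, pow_two]
      exact hzz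
    have hord : orderOf z' = 2 := orderOf_eq_prime hz'2 hz'1
    have hmemZ : ∀ x : Q, (x : G) = 1 ∨ (x : G) = z → x ∈ Subgroup.zpowers z' := by
      intro x hx
      rcases hx with hx | hx
      · have : x = 1 := Subtype.ext hx
        rw [this]; exact Subgroup.one_mem _
      · have : x = z' := Subtype.ext hx
        rw [this]; exact Subgroup.mem_zpowers _
    apply Cfsg.Agent.S5434.isExtraspecial_of hPG (Subgroup.zpowers z')
    · rw [Nat.card_zpowers, hord]
    · rw [commutator_def, Subgroup.commutator_le]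
      intro a _ b _
      apply hmemZ
      rw [commutatorElement_def]
      simp only [Subgroup.coe_mul, Subgroup.coe_inv]
      rcases h.comm a a.2 b b.2 with h1 | h1
      · left
        rw [h1]; group
      · right
        rw [h1]; group
    · intro r
      apply hmemZ
      rw [Subgroup.coe_pow, pow_two]
      exact h.sq r r.2
    · intro b hb
      apply hmemZ
      apply h.cent b b.2
      intro a ha
      have := (Subgroup.mem_center_iff.mp hb) ⟨a, ha⟩
      exact congrArg Subtype.val this
    · obtain ⟨a, ha, b, hb, hab⟩ := h.ex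
      refine ⟨⟨a, ha⟩, ⟨b, hb⟩, ?_⟩
      intro hc
      have hc' : a * b = b * a := congrArg Subtype.val hc
      rw [hc'] at hab
      apply h.z_ne
      calc z = z * (b * a) * (b * a)⁻¹ := by group
        _ = b * a * (b * a)⁻¹ := by rw [← hab]
        _ = 1 := by group
  · -- elementary abelian subgroups
    intro E hE
    apply card_le_four (⟨z, h.z_mem⟩ : Q) _ E hE
    intro a b haa hbb hab
    have h1 : (a : G) * a = 1 := congrArg Subtype.val haa
    have h2 : (b : G) * b = 1 := congrArg Subtype.val hbb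
    have h3 : (a : G) * b = b * a := congrArg Subtype.val hab
    rcases h.ea a a.2 b b.2 h1 h2 h3 with h4 | h4 | h4 | h4 | h4 | h4
    · left; exact Subtype.ext h4
    · right; left; exact Subtype.ext h4
    · right; right; left; exact Subtype.ext h4
    · right; right; right; left; exact Subtype.ext h4
    · right; right; right; right; left; exact Subtype.ext h4
    · right; right; right; right; right; exact Subtype.ext h4
  · -- complement
    apply Subgroup.isComplement'_of_card_mul_and_disjoint
    · rw [h.cardQ, h.cardH, h.cardG]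
    · rw [Subgroup.disjoint_def]
      intro x hx hx'
      exact h.disj x hx hx'
  · -- the quotient
    have hc : Q.IsComplement' H := by
      apply Subgroup.isComplement'_of_card_mul_and_disjoint
      · rw [h.cardQ, h.cardH, h.cardG]
      · rw [Subgroup.disjoint_def]
        intro x hx hx'
        exact h.disj x hx hx'
    obtain ⟨f⟩ := h.alt
    haveI := hQn
    exact ⟨(hc.symm.QuotientMulEquiv).trans f⟩

/-- a group of order 60 with elements `u`, `v` such that `u ^ 3 = v ^ 5 = (u v) ^ 2 = 1` and
`u ≠ 1` is isomorphic to the alternating group of degree five -/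
theorem a5_of_gens {K : Type*} [Group K] [Finite K] (hK : Nat.card K = 60) (u v : K)
    (hu : u ^ 3 = 1) (hv : v ^ 5 = 1) (huv : (u * v) ^ 2 = 1) (hu1 : u ≠ 1) :
    Nonempty (K ≃* alternatingGroup (Fin 5)) := by
  obtain ⟨e⟩ := Cfsg.Agent.S3377.result
  have hrel : ∀ r ∈ ({FreeGroup.of (0 : Fin 2) ^ 3, FreeGroup.of (1 : Fin 2) ^ 5,
      (FreeGroup.of (0 : Fin 2) * FreeGroup.of 1) ^ 2} : Set (FreeGroup (Fin 2))),
      FreeGroup.lift (![u, v] : Fin 2 → K) r = 1 := by
    intro r hr
    rcases hr with rfl | rfl | rfl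
    · rw [map_pow, FreeGroup.lift_apply_of]
      exact hu
    · rw [map_pow, FreeGroup.lift_apply_of]
      exact hv
    · rw [map_pow, map_mul, FreeGroup.lift_apply_of, FreeGroup.lift_apply_of]
      exact huv
  let ψ : alternatingGroup (Fin 5) →* K := (PresentedGroup.toGroup hrel).comp e.symm.toMonoidHom
  have hker : ψ.ker = ⊥ := by
    rcases (MonoidHom.normal_ker ψ).eq_bot_or_eq_top with h | h
    · exact h
    · exfalso
      have h1 : e (PresentedGroup.of 0) ∈ ψ.ker := by rw [h]; exact Subgroup.mem_top _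
      rw [MonoidHom.mem_ker] at h1
      have h3 : ψ (e (PresentedGroup.of 0)) = u := by
        show PresentedGroup.toGroup hrel (e.symm (e (PresentedGroup.of 0))) = u
        rw [MulEquiv.symm_apply_apply, PresentedGroup.toGroup.of]
        rfl
      rw [h3] at h1
      exact hu1 h1
  have hinj : Function.Injective ψ := (MonoidHom.ker_eq_bot_iff ψ).1 hker
  have hbij : Function.Bijective ψ :=
    hinj.bijective_of_nat_card_le (by rw [hK, Cfsg.Agent.S3377.card_A5])
  exact ⟨(MulEquiv.ofBijective ψ hbij).symm⟩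

end Cfsg.Agent.Lib.Helper28.CentShape
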