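import Mathlib
import Cfsg.Agent.Lib.Helper6.SUSimple
import Cfsg.Agent.Lib.Helper16.UnitaryTransv
import Cfsg.Agent.Lib.Helper13.SUNondeg

/-!
# S5670 T4-TRANSA: `SU_a(q)` is transitive on the vectors of a given nonzero norm (`a ≥ 2`)

Witt's theorem (`Cfsg.Agent.S0751.witt_herm`) gives a unitary matrix `M₁` with `M₁ x = y`; its
determinant is corrected by the quasi-reflection `v ↦ v + (δ - 1) h(v, z) z` along a vector `z` of
norm one orthogonal to `y`, `δ = (det M₁)⁻¹`.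
-/

set_option autoImplicit false

namespace Cfsg.Agent.Lib.Helper28.S5670T4TRANSA

open Matrix Module
open Cfsg.Agent.Lib.Helper6 Cfsg.Agent.Lib.Helper6.SUG Cfsg.Agent.Lib.Helper13
open Cfsg.Agent.S0779 Cfsg.Agent.S0781 Cfsg.Agent.Lib.Helper16

variable {F : Type*} [Field F] [Fintype F] {a q : ℕ}

local notation "hU" => Cfsg.hermForm a F q

theorem herm_zero_left' (y : Fin a → F) : hU 0 y = 0 := by
  simp [Cfsg.hermForm]

/-- Witt's theorem for two vectors of the same nonzero norm, in matrix form -/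
theorem exists_pres_map_aniso (hF : Fintype.card F = q ^ 2) (ha : 1 ≤ a) {x y : Fin a → F}
    (hx : hU x x ≠ 0) (hxy : hU y y = hU x x) :
    ∃ M : Matrix (Fin a) (Fin a) F,
      (∀ u v, hU (M *ᵥ u) (M *ᵥ v) = hU u v) ∧ M *ᵥ x = y := by
  have hx0 : x ≠ 0 := by
    rintro rfl
    exact hx (herm_zero_left' 0)
  have hy0 : y ≠ 0 := by
    rintro rfl
    rw [herm_zero_left'] at hxy
    exact hx hxy.symm
  have hinj : ∀ v : Fin a → F, v ≠ 0 →
      Function.Injective (LinearMap.toSpanSingleton F (Fin a → F) v) := by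
    intro v hv c d hcd
    simp only [LinearMap.toSpanSingleton_apply] at hcd
    exact smul_left_injective F hv hcd
  obtain ⟨g, hg, hgf⟩ := Cfsg.Agent.S0751.witt_herm (conjQ hF) (conjQ_ne_id hF) (conjQ_conjQ hF)
    (hermB a hF) (hermB_isSymm hF) (hermB_nondegenerate hF) (a - 1) F
    (LinearMap.toSpanSingleton F (Fin a → F) x) (LinearMap.toSpanSingleton F (Fin a → F) y)
    (hinj x hx0) (hinj y hy0) (by
      intro c d
      simp only [LinearMap.toSpanSingleton_apply, hermB_apply, herm_smul_left, herm_smul_right,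
        hxy]) (by
      rw [Module.finrank_self, Module.finrank_fin_fun]
      omega)
  refine ⟨LinearMap.toMatrix' (g : (Fin a → F) →ₗ[F] (Fin a → F)), ?_, ?_⟩
  · intro u v
    rw [LinearMap.toMatrix'_mulVec, LinearMap.toMatrix'_mulVec]
    exact hg v u
  · rw [LinearMap.toMatrix'_mulVec, LinearEquiv.coe_coe]
    have := hgf 1
    simpa only [LinearMap.toSpanSingleton_apply, one_smul] using this

/-- a vector of norm one orthogonal to a given non-isotropic vector (`a ≥ 2`) -/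
theorem exists_perp_norm_one (hF : Fintype.card F = q ^ 2) (ha : 2 ≤ a) (y : Fin a → F)
    (hy : hU y y ≠ 0) : ∃ z : Fin a → F, hU z y = 0 ∧ hU z z = 1 := by
  have h := SUND.hB_isU (n := a) hF
  have hS : NDOn (SUND.hB a hF) (UND.cutS (SUND.hB a hF) ⊤ {y}) :=
    UND.ndOn_cut_noniso h ⊤ h.ndOn_top y Submodule.mem_top hy
  obtain ⟨s₀, -, hs₀0, hs₀⟩ := UND.exists_ne_zero_cut (B := SUND.hB a hF) ⊤ 1 ![y] (by
    rw [finrank_top, Module.finrank_fin_fun]
    omega)
  have hs₀S : s₀ ∈ UND.cutS (SUND.hB a hF) ⊤ {y} := by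
    refine ⟨Submodule.mem_top, fun t ht => ?_⟩
    rw [Set.mem_singleton_iff] at ht
    rw [ht]
    simpa using hs₀ 0
  obtain ⟨z, hzS, hzz⟩ := UND.exists_norm_in h _ hS s₀ hs₀S hs₀0 1 one_ne_zero (map_one _)
  exact ⟨z, hzS.2 y (Set.mem_singleton y), hzz⟩

/-- the quasi-reflection along a vector of norm one preserves the form -/
theorem P_pres (hF : Fintype.card F = q ^ 2) (z : Fin a → F) (hzz : hU z z = 1) (δ : F)
    (hδ : δ * δ ^ q = 1) (v w : Fin a → F) :
    hU (P q (δ - 1) z z *ᵥ v) (P q (δ - 1) z z *ᵥ w) = hU v w := by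
  have h1 : (δ - 1) ^ q = δ ^ q - 1 := by
    have := map_sub (conjQ hF) δ 1
    simpa only [conjQ_apply, one_pow] using this
  rw [P_mulVec, P_mulVec]
  simp only [herm_add_left, herm_add_right hF, herm_smul_left, herm_smul_right, mul_pow,
    herm_conj hF, hzz, h1]
  linear_combination (hU v z * hU z w) * hδ

/-- **T4-TRANSA**: `SU_a` is transitive on the vectors of a given nonzero norm (`a ≥ 2`) -/
theorem exists_su_map_aniso (hF : Fintype.card F = q ^ 2) (ha : 2 ≤ a) (x y : Fin a → F)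
    (hx : hU x x ≠ 0) (hxy : hU y y = hU x x) : ∃ A : ↥(Cfsg.SU a F q), av A x = y := by
  obtain ⟨M₁, hM₁, hM₁x⟩ := exists_pres_map_aniso hF (by omega) hx hxy
  obtain ⟨z, hzy, hzz⟩ := exists_perp_norm_one hF ha y (by rw [hxy]; exact hx)
  have hdet := det_norm_of_pres hF M₁ hM₁
  have hdet0 : M₁.det ≠ 0 := by
    intro h0
    rw [h0, zero_pow (Nat.succ_ne_zero q)] at hdet
    exact zero_ne_one hdet
  have hδ : (M₁.det)⁻¹ * (M₁.det)⁻¹ ^ q = 1 := by
    rw [← pow_succ', inv_pow, hdet, inv_one]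
  have hyz : hU y z = 0 := herm_swap_zero hF hzy
  have hpres : ∀ v w, hU ((P q ((M₁.det)⁻¹ - 1) z z * M₁) *ᵥ v)
      ((P q ((M₁.det)⁻¹ - 1) z z * M₁) *ᵥ w) = hU v w := by
    intro v w
    rw [← Matrix.mulVec_mulVec, ← Matrix.mulVec_mulVec, P_pres hF z hzz _ hδ, hM₁]
  have hd : (P q ((M₁.det)⁻¹ - 1) z z * M₁).det = 1 := by
    rw [Matrix.det_mul, P_det, hzz, mul_one, add_sub_cancel, inv_mul_cancel₀ hdet0]
  refine ⟨mkSU _ hd hpres, ?_⟩
  change (P q ((M₁.det)⁻¹ - 1) z z * M₁) *ᵥ x = y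
  rw [← Matrix.mulVec_mulVec, hM₁x, P_mulVec, hyz, mul_zero, zero_smul, add_zero]

end Cfsg.Agent.Lib.Helper28.S5670T4TRANSA
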