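import Mathlib
import Cfsg.Agent.Lib.Helper15.SO8a
import Cfsg.Agent.Lib.Helper15.SO8f
import Cfsg.Agent.Lib.Helper15.SO9a
import Cfsg.Agent.Lib.Helper15.SO9c

/-!
# S3590 farm-out pieces FO-B5 (`aff_j2`) and FO-B6 (`aff_u4`)
-/

set_option autoImplicit false

namespace Cfsg.Agent.Lib.Helper28.S3590

open Module QuadraticMap Matrix Cfsg.Agent.Lib.Helper15 Cfsg.Agent.Lib.Helper15.SO8
  Cfsg.Agent.Lib.Helper15.SO9

variable {F : Type*} [Field F]

/-- rank of a map factoring as an injection after a surjection onto `F ^ r` -/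
theorem finrank_range_of_factor {V : Type*} [AddCommGroup V] [Module F V] {r : ℕ}
    (f : V →ₗ[F] V) (π : V →ₗ[F] (Fin r → F)) (ι : (Fin r → F) →ₗ[F] V)
    (hπ : Function.Surjective π) (hι : Function.Injective ι) (hf : f = ι ∘ₗ π) :
    finrank F (LinearMap.range f) = r := by
  rw [hf, LinearMap.range_comp_of_range_eq_top _ (LinearMap.range_eq_top.mpr hπ),
    LinearMap.finrank_range_of_inj hι, finrank_fin_fun]

/-- the order of `(v, g)` in the affine group when `g` has `2`-power order and the orbit sum of `v`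
does not vanish -/
theorem dvd_of_aff [CharP F 2] {V : Type*} [AddCommGroup V] [Module F V] (g : V ≃ₗ[F] V) (v : V)
    (n : ℕ) (hg : g ^ (2 ^ n) = 1) (hs : (∑ i ∈ Finset.range (2 ^ n), (g ^ i) v) ≠ 0) :
    ∀ m : ℕ, g ^ m = 1 → (∑ i ∈ Finset.range m, (g ^ i) v) = 0 → 2 ^ (n + 1) ∣ m := by
  intro m h1 h2
  set x : Aff (V ≃ₗ[F] V) V := ⟨g, v⟩ with hxdef
  have hx : x ^ m = 1 := (Aff.pow_eq_one_iff x m).mpr ⟨h1, h2⟩
  have ho : orderOf x = 2 ^ (n + 1) := by
    apply orderOf_eq_prime_pow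
    · intro h
      exact hs ((Aff.pow_eq_one_iff x _).mp h).2
    · rw [pow_succ, pow_mul]
      have hxs : x ^ (2 ^ n) = ⟨1, ∑ i ∈ Finset.range (2 ^ n), (g ^ i) v⟩ := by
        apply Aff.ext
        · rw [Aff.pow_lin]; exact hg
        · rw [Aff.pow_tr]; rfl
      rw [hxs, pow_two]
      apply Aff.ext
      · simp
      · simp only [Aff.mul_tr, one_smul, Aff.one_tr]
        rw [← two_smul F, CharTwo.two_eq_zero, zero_smul]
  rw [← ho]
  exact orderOf_dvd_of_pow_eq_one hx

variable [Fintype F]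

/-! ### FO-B6 -/

theorem u4_isometry (p : (Fin 2 → F) × (Fin 2 → F)) : dotQ F (Fin 2) (u4 p) = dotQ F (Fin 2) p := by
  rw [dotQ_apply, dotQ_apply, u4_apply]
  simp only [dotProduct, Fin.sum_univ_two, Matrix.cons_val_zero, Matrix.cons_val_one]
  ring

theorem u4_sq (p : (Fin 2 → F) × (Fin 2 → F)) : (u4 ^ 2) p = (p.2, p.1) := by
  rw [pow_two, LinearEquiv.mul_apply, u4_apply, u4_apply]
  apply Prod.ext <;> funext i <;> fin_cases i <;> simp

theorem u4_pow_four : (u4 : ((Fin 2 → F) × (Fin 2 → F)) ≃ₗ[F] _) ^ (2 ^ 2) = 1 := by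
  ext p : 1
  have : (2 : ℕ) ^ 2 = 2 * 2 := by norm_num
  rw [this, pow_mul, pow_two, LinearEquiv.mul_apply, u4_sq, u4_sq]
  rfl

theorem rk_u4 [CharP F 2] : rk (u4 : ((Fin 2 → F) × (Fin 2 → F)) ≃ₗ[F] _) = 3 := by
  unfold rk
  let π : ((Fin 2 → F) × (Fin 2 → F)) →ₗ[F] (Fin 3 → F) :=
    { toFun := fun p => ![p.1 0 + p.2 1, p.1 0 + p.1 1, p.1 1 + p.2 0]
      map_add' := fun p r => by
        ext i; fin_cases i <;> simp <;> ring
      map_smul' := fun c p => by
        ext i; fin_cases i <;> simp <;> ring }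
  let ι : (Fin 3 → F) →ₗ[F] ((Fin 2 → F) × (Fin 2 → F)) :=
    { toFun := fun a => (![a 0, a 1], ![a 2, a 0 + a 1 + a 2])
      map_add' := fun a b => by
        ext i <;> fin_cases i <;> simp <;> ring
      map_smul' := fun c a => by
        ext i <;> fin_cases i <;> simp <;> ring }
  apply finrank_range_of_factor _ π ι
  · intro a
    refine ⟨(![a 0, a 0 + a 1], ![a 0 + a 1 + a 2, 0]), ?_⟩
    ext i
    fin_cases i
    · simp [π]
    · show a 0 + (a 0 + a 1) = a 1
      rw [← add_assoc, CharTwo.add_self_eq_zero, zero_add]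
    · show (a 0 + a 1) + (a 0 + a 1 + a 2) = a 2
      rw [← add_assoc, CharTwo.add_self_eq_zero, zero_add]
  · intro a b h
    have h1 := congrArg (fun p : (Fin 2 → F) × (Fin 2 → F) => p.1 0) h
    have h2 := congrArg (fun p : (Fin 2 → F) × (Fin 2 → F) => p.1 1) h
    have h3 := congrArg (fun p : (Fin 2 → F) × (Fin 2 → F) => p.2 0) h
    simp [ι] at h1 h2 h3
    ext i
    fin_cases i
    · exact h1
    · exact h2
    · exact h3
  · apply LinearMap.ext
    intro p
    show u4 p - p = ι (π p)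
    rw [u4_apply]
    have hsub : ∀ a b : F, a - b = a + b := fun a b => CharTwo.sub_eq_add a b
    apply Prod.ext
    · funext i
      fin_cases i
      · show p.2 1 - p.1 0 = p.1 0 + p.2 1
        rw [hsub, add_comm]
      · show p.1 0 - p.1 1 = p.1 0 + p.1 1
        rw [hsub]
    · funext i
      fin_cases i
      · show p.1 1 - p.2 0 = p.1 1 + p.2 0
        rw [hsub]
      · show p.2 0 - p.2 1 = (p.1 0 + p.2 1) + (p.1 0 + p.1 1) + (p.1 1 + p.2 0)
        rw [hsub]
        have e : (p.1 0 + p.2 1) + (p.1 0 + p.1 1) + (p.1 1 + p.2 0)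
            = (p.1 0 + p.1 0) + (p.1 1 + p.1 1) + (p.2 0 + p.2 1) := by ring
        rw [e, CharTwo.add_self_eq_zero, CharTwo.add_self_eq_zero, zero_add, zero_add]

/-- FO-B6 -/
theorem aff_u4 [CharP F 2] : RealAff F ((Fin 2 → F) × (Fin 2 → F)) true false 8 := by
  classical
  refine ⟨dotQ F (Fin 2), u4, ((![1, 0] : Fin 2 → F), (0 : Fin 2 → F)), nondegenerate_dotQ F (Fin 2),
    u4_isometry, ?_, ?_, ?_⟩
  · rw [rk_u4]
    constructor
    · intro h
      exact absurd h (by decide)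
    · intro h
      exact absurd h (by decide)
  · have := dvd_of_aff (F := F) (u4 : ((Fin 2 → F) × (Fin 2 → F)) ≃ₗ[F] _)
      ((![1, 0] : Fin 2 → F), (0 : Fin 2 → F)) 2 u4_pow_four ?_
    · simpa using this
    · intro h
      have h4 : (2 : ℕ) ^ 2 = 4 := by norm_num
      rw [h4] at h
      simp only [Finset.sum_range_succ, Finset.sum_range_zero, zero_add] at h
      have e1 : (u4 ^ 1) (((![1, 0] : Fin 2 → F), (0 : Fin 2 → F))) = (![0, 1], ![0, 0]) := by
        rw [pow_one, u4_apply]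
        apply Prod.ext <;> funext i <;> fin_cases i <;> simp
      have e2 : (u4 ^ 2) (((![1, 0] : Fin 2 → F), (0 : Fin 2 → F))) = (0, ![1, 0]) := by
        rw [u4_sq]
      have e3 : (u4 ^ 3) (((![1, 0] : Fin 2 → F), (0 : Fin 2 → F))) = (![0, 0], ![0, 1]) := by
        have : (3 : ℕ) = 1 + 2 := rfl
        rw [this, pow_add, LinearEquiv.mul_apply, u4_sq, pow_one, u4_apply]
        apply Prod.ext <;> funext i <;> fin_cases i <;> simp
      rw [e1, e2, e3, pow_zero] at h
      have := congrArg (fun p : (Fin 2 → F) × (Fin 2 → F) => p.1 0) h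
      simp at this
  · rw [if_pos rfl]
    exact sign_dotQ F (Fin 2) (by simp)

/-! ### FO-B5 -/

/-- the unipotent matrix `[[1, 1], [0, 1]]` -/
def j2 : Matrix (Fin 2) (Fin 2) F := !![1, 1; 0, 1]

theorem j2_mul_self [CharP F 2] : (j2 : Matrix (Fin 2) (Fin 2) F) * j2 = 1 := by
  ext i j
  fin_cases i <;> fin_cases j <;> simp [j2, Matrix.mul_apply, Fin.sum_univ_two]
  exact CharTwo.add_self_eq_zero 1

theorem hypIso_j2_apply [CharP F 2] (p : (Fin 2 → F) × (Fin 2 → F)) :
    hypIso (j2 : Matrix (Fin 2) (Fin 2) F) j2 j2_mul_self j2_mul_self p =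
      (![p.1 0 + p.1 1, p.1 1], ![p.2 0, p.2 0 + p.2 1]) := by
  show ((j2 : Matrix (Fin 2) (Fin 2) F).mulVec p.1, (j2 : Matrix (Fin 2) (Fin 2) F)ᵀ.mulVec p.2) = _
  apply Prod.ext
  · funext i
    fin_cases i <;> simp [j2, Matrix.mulVec, dotProduct, Fin.sum_univ_two]
  · funext i
    fin_cases i <;> simp [j2, Matrix.mulVec, dotProduct, Fin.sum_univ_two]

theorem hypIso_j2_pow [CharP F 2] :
    (hypIso (j2 : Matrix (Fin 2) (Fin 2) F) j2 j2_mul_self j2_mul_self) ^ (2 ^ 1) = 1 := by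
  ext p : 1
  rw [pow_one, pow_two, LinearEquiv.mul_apply, hypIso_j2_apply, hypIso_j2_apply]
  show _ = p
  apply Prod.ext
  · funext i
    fin_cases i
    · show p.1 0 + p.1 1 + p.1 1 = p.1 0
      rw [add_assoc, CharTwo.add_self_eq_zero, add_zero]
    · rfl
  · funext i
    fin_cases i
    · rfl
    · show p.2 0 + (p.2 0 + p.2 1) = p.2 1
      rw [← add_assoc, CharTwo.add_self_eq_zero, zero_add]

theorem rk_hypIso_j2 [CharP F 2] :
    rk (hypIso (j2 : Matrix (Fin 2) (Fin 2) F) j2 j2_mul_self j2_mul_self) = 2 := by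
  unfold rk
  let π : ((Fin 2 → F) × (Fin 2 → F)) →ₗ[F] (Fin 2 → F) :=
    { toFun := fun p => ![p.1 1, p.2 0]
      map_add' := fun p r => by
        ext i; fin_cases i <;> simp
      map_smul' := fun c p => by
        ext i; fin_cases i <;> simp }
  let ι : (Fin 2 → F) →ₗ[F] ((Fin 2 → F) × (Fin 2 → F)) :=
    { toFun := fun a => (![a 0, 0], ![0, a 1])
      map_add' := fun a b => by
        ext i <;> fin_cases i <;> simp
      map_smul' := fun c a => by
        ext i <;> fin_cases i <;> simp }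
  apply finrank_range_of_factor _ π ι
  · intro a
    refine ⟨(![0, a 0], ![a 1, 0]), ?_⟩
    ext i
    fin_cases i <;> simp [π]
  · intro a b h
    have h1 := congrArg (fun p : (Fin 2 → F) × (Fin 2 → F) => p.1 0) h
    have h2 := congrArg (fun p : (Fin 2 → F) × (Fin 2 → F) => p.2 1) h
    simp [ι] at h1 h2
    ext i
    fin_cases i
    · exact h1
    · exact h2
  · apply LinearMap.ext
    intro p
    show hypIso (j2 : Matrix (Fin 2) (Fin 2) F) j2 j2_mul_self j2_mul_self p - p = ι (π p)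
    rw [hypIso_j2_apply]
    apply Prod.ext
    · funext i
      fin_cases i
      · show p.1 0 + p.1 1 - p.1 0 = p.1 1
        ring
      · show p.1 1 - p.1 1 = 0
        ring
    · funext i
      fin_cases i
      · show p.2 0 - p.2 0 = 0
        ring
      · show p.2 0 + p.2 1 - p.2 1 = p.2 0
        ring

/-- FO-B5 -/
theorem aff_j2 [CharP F 2] : RealAff F ((Fin 2 → F) × (Fin 2 → F)) true true 4 := by
  classical
  refine ⟨dotQ F (Fin 2), hypIso (j2 : Matrix (Fin 2) (Fin 2) F) j2 j2_mul_self j2_mul_self,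
    ((![0, 1] : Fin 2 → F), (0 : Fin 2 → F)), nondegenerate_dotQ F (Fin 2),
    dotQ_hypIso j2 j2 j2_mul_self j2_mul_self, ?_, ?_, ?_⟩
  · rw [rk_hypIso_j2]
    constructor
    · intro _; rfl
    · intro _; decide
  · have := dvd_of_aff (F := F) (hypIso (j2 : Matrix (Fin 2) (Fin 2) F) j2 j2_mul_self j2_mul_self)
      ((![0, 1] : Fin 2 → F), (0 : Fin 2 → F)) 1 hypIso_j2_pow ?_
    · simpa using this
    · intro h
      have h2 : (2 : ℕ) ^ 1 = 2 := by norm_num
      rw [h2] at h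
      simp only [Finset.sum_range_succ, Finset.sum_range_zero, zero_add] at h
      rw [pow_zero, pow_one, hypIso_j2_apply] at h
      have := congrArg (fun p : (Fin 2 → F) × (Fin 2 → F) => p.1 0) h
      simp at this
  · rw [if_pos rfl]
    exact sign_dotQ F (Fin 2) (by simp)

end Cfsg.Agent.Lib.Helper28.S3590
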