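import Mathlib
import Cfsg.Agent.Lib.Helper15.SO8a
import Cfsg.Agent.Lib.Helper15.SO8f
import Cfsg.Agent.Lib.Helper15.SO8g
import Cfsg.Agent.Lib.Helper15.SO8h
import Cfsg.Agent.Lib.Helper15.SO9a
import Cfsg.Agent.Lib.Helper15.SO9c

/-!
# S3590 farm-out piece FO-B2 (`aff_minus`)

The Singer element of the minus-type space, as an affine realisation.  The construction and the
sign computation are those of `Cfsg.Agent.Lib.Helper15.SO8.atom_minus` (copied, since that theorem
only exports an existential); new are the rank of `g - 1` and the order condition with `v = 0`.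
-/

set_option autoImplicit false
set_option linter.unusedSectionVars false

namespace Cfsg.Agent.Lib.Helper28.S3590

open Module QuadraticMap Matrix Cfsg.Agent.Lib.Helper15 Cfsg.Agent.Lib.Helper15.SO8
  Cfsg.Agent.Lib.Helper15.SO9

variable {F : Type*} [Field F] [Fintype F]

/-- multiplication by a unit `ζ ≠ 1` of a field extension: `ζ - 1` acts bijectively, so the rank of
`mulL ζ - 1` is the full dimension -/
theorem rk_mulL {K : Type*} [Field K] [Algebra F K] (ζ : Kˣ) (hζ : ζ ≠ 1) :
    rk (mulL (F := F) ζ) = finrank F K := by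
  unfold rk
  have hne : (ζ : K) - 1 ≠ 0 := by
    intro h
    apply hζ
    apply Units.ext
    rw [Units.val_one]
    exact sub_eq_zero.mp h
  have htop : LinearMap.range ((mulL (F := F) ζ).toLinearMap - LinearMap.id) = ⊤ := by
    rw [LinearMap.range_eq_top]
    intro y
    refine ⟨((ζ : K) - 1)⁻¹ * y, ?_⟩
    show (ζ : K) * (((ζ : K) - 1)⁻¹ * y) - ((ζ : K) - 1)⁻¹ * y = y
    have : (ζ : K) * (((ζ : K) - 1)⁻¹ * y) - ((ζ : K) - 1)⁻¹ * y =
        (((ζ : K) - 1) * ((ζ : K) - 1)⁻¹) * y := by ring
    rw [this, mul_inv_cancel₀ hne, one_mul]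
  rw [htop, finrank_top]

/-- the sign of the Singer model: fewer than `|K| / q` zeros -/
theorem sign_singer_minus [CharP F 2] (d : ℕ) (hd : 1 ≤ d) {K : Type} [Field K] [Algebra F K] [Finite K]
    (hfr : finrank F K = 2 * d) (Q : QuadraticForm F K) (ζ : Kˣ) (hQ : (polarBilin Q).Nondegenerate)
    (hζ : orderOf ζ = Fintype.card F ^ d + 1) (hinv : ∀ x : K, Q ((ζ : K) * x) = Q x) :
    Fintype.card F * nz F Q < Nat.card K := by
  classical
  set q := Fintype.card F with hq
  have hq2 : 2 ≤ q := Fintype.one_lt_card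
  have hcardK : Nat.card K = q ^ (2 * d) := by
    rw [Module.natCard_eq_pow_finrank (K := F) (V := K), hfr, Nat.card_eq_fintype_card]
  -- free action of ⟨ζ⟩ on the non-zero zeros
  let Z := {x : K // x ≠ 0 ∧ Q x = 0}
  let C := Subgroup.zpowers ζ
  have hCcard : Nat.card C = q ^ d + 1 := by rw [Nat.card_zpowers, hζ]
  have hpow : ∀ (k : ℤ) (x : K), Q (((ζ ^ k : Kˣ) : K) * x) = Q x := by
    intro k
    induction k using Int.induction_on with
    | zero => intro x; simp
    | succ i ih =>
      intro x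
      rw [_root_.zpow_add_one, Units.val_mul, mul_assoc, ih, hinv]
    | pred i ih =>
      intro x
      have h1 : Q (((ζ ^ (-(i : ℤ) - 1) : Kˣ) : K) * x) =
          Q ((ζ : K) * (((ζ ^ (-(i : ℤ) - 1) : Kˣ) : K) * x)) := (hinv _).symm
      rw [h1, ← mul_assoc, ← Units.val_mul, ← _root_.zpow_one_add,
        show (1 : ℤ) + (-(i : ℤ) - 1) = -(i : ℤ) by ring]
      exact ih x
  have hCinv : ∀ c : C, ∀ x : K, Q (((c : Kˣ) : K) * x) = Q x := by
    rintro ⟨c, hc⟩ x
    obtain ⟨k, rfl⟩ := Subgroup.mem_zpowers_iff.mp hc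
    exact hpow k x
  let act : MulAction C Z :=
    { smul := fun c z => ⟨((c : Kˣ) : K) * z.1, mul_ne_zero (Units.ne_zero _) z.2.1, by
        rw [hCinv]; exact z.2.2⟩
      one_smul := fun z => by
        apply Subtype.ext
        show (((1 : C) : Kˣ) : K) * z.1 = z.1
        simp
      mul_smul := fun c c' z => by
        apply Subtype.ext
        show (((c * c' : C) : Kˣ) : K) * z.1 = ((c : Kˣ) : K) * (((c' : Kˣ) : K) * z.1)
        simp [mul_assoc] }
  have hfree : ∀ (c : C) (z : Z), c • z = z → c = 1 := by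
    intro c z h
    have h1 : ((c : Kˣ) : K) * z.1 = z.1 := congrArg Subtype.val h
    have h2 : ((c : Kˣ) : K) = 1 := by
      have := mul_right_cancel₀ z.2.1 (h1.trans (one_mul _).symm)
      exact this
    apply Subtype.ext
    exact Units.ext h2
  have hdvd : q ^ d + 1 ∣ Nat.card Z := by
    rw [← hCcard]
    exact Cfsg.Agent.Lib.Helper23.S3360FO8.card_dvd_of_free hfree
  -- the zero count
  have hZ : nz F Q = Nat.card Z + 1 := by
    unfold nz
    have e : {v : K // Q v = 0} ≃ Option Z :=
      { toFun := fun v => if h : v.1 = 0 then none else some ⟨v.1, h, v.2⟩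
        invFun := fun o => match o with
          | none => ⟨0, map_zero Q⟩
          | some z => ⟨z.1, z.2.2⟩
        left_inv := fun v => by
          by_cases h : v.1 = 0
          · simp only [h, dite_true]
            exact Subtype.ext h.symm
          · simp only [h, dite_false]
        right_inv := fun o => by
          rcases o with _ | z
          · simp
          · have := z.2.1
            simp [this] }
    rw [Nat.card_congr e, Finite.card_option]
  -- classification
  rcases classify_even Q hQ d hd hfr with ⟨φ, hφ⟩ | ⟨ζ', hirr, φ, hφ⟩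
  · -- plus type is impossible
    exfalso
    have hcount : nz F Q = (q ^ d - 1) * q ^ (d - 1) + q ^ d := by
      unfold nz
      have := card_plus_value (F := F) d 0
      rw [if_pos rfl] at this
      rw [← this]
      apply Nat.card_congr
      exact φ.toEquiv.subtypeEquiv (fun v => by rw [hφ]; rfl)
    have hZc : Nat.card Z = (q ^ d - 1) * (q ^ (d - 1) + 1) := by
      have hQd : 1 ≤ q ^ d := Nat.one_le_pow _ _ (by omega)
      have : Nat.card Z + 1 = (q ^ d - 1) * q ^ (d - 1) + q ^ d := by rw [← hZ, hcount]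
      have h3 : (q ^ d - 1) * (q ^ (d - 1) + 1) + 1 = (q ^ d - 1) * q ^ (d - 1) + q ^ d := by
        rw [mul_add, mul_one]
        omega
      omega
    rw [hZc] at hdvd
    have hcop : Nat.Coprime (q ^ d + 1) (q ^ d - 1) := by
      have h2q : 2 ∣ q := by
        rw [← CharP.cast_eq_zero_iff F 2]
        exact Nat.cast_card_eq_zero F
      have hQd : 1 ≤ q ^ d := Nat.one_le_pow _ _ (by omega)
      have hev : 2 ∣ q ^ d := dvd_pow h2q (by omega)
      have hg : Nat.gcd (q ^ d + 1) (q ^ d - 1) ∣ 2 := by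
        have h1 : Nat.gcd (q ^ d + 1) (q ^ d - 1) ∣ q ^ d + 1 := Nat.gcd_dvd_left _ _
        have h2 : Nat.gcd (q ^ d + 1) (q ^ d - 1) ∣ q ^ d - 1 := Nat.gcd_dvd_right _ _
        have := Nat.dvd_sub h1 h2
        have h3 : q ^ d + 1 - (q ^ d - 1) = 2 := by omega
        rwa [h3] at this
      have hodd : ¬ 2 ∣ Nat.gcd (q ^ d + 1) (q ^ d - 1) := by
        intro h
        have := h.trans (Nat.gcd_dvd_left _ _)
        omega
      rcases (Nat.dvd_prime Nat.prime_two).mp hg with h | h
      · exact h
      · exfalso; apply hodd; rw [h]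
    have hdvd2 : q ^ d + 1 ∣ q ^ (d - 1) + 1 := hcop.dvd_of_dvd_mul_left hdvd
    have hlt : q ^ (d - 1) + 1 < q ^ d + 1 := by
      have : q ^ (d - 1) < q ^ d := Nat.pow_lt_pow_right (by omega) (by omega)
      omega
    have := Nat.le_of_dvd (by omega) hdvd2
    omega
  · -- minus type: count
    have hcount : nz F Q = hypCount q 2 1 (d - 1) := by
      unfold nz
      have h1 := card_value_Qgen (d - 1) (binForm (1 : F) ζ') (0 : F)
      have hab' : ∀ z₁ z₂ : F, z₁ ^ 2 + 1 * z₁ * z₂ + ζ' * z₂ ^ 2 = 0 → z₁ = 0 ∧ z₂ = 0 := by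
        intro z₁ z₂ h
        by_cases hz2 : z₂ = 0
        · subst hz2
          simp at h
          exact ⟨h, rfl⟩
        · exfalso
          apply hirr (z₁ / z₂)
          field_simp
          linear_combination h
      rw [card_binForm_zero (1 : F) ζ' hab', Fintype.card_fin] at h1
      rw [← h1]
      apply Nat.card_congr
      exact φ.toEquiv.subtypeEquiv (fun v => by
        rw [hφ, Qgen_apply, binForm_apply]
        rfl)
    rw [hcount, hcardK]
    unfold hypCount
    obtain ⟨e, rfl⟩ : ∃ e, d = e + 1 := ⟨d - 1, by omega⟩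
    simp only [Nat.add_sub_cancel]
    rcases Nat.eq_zero_or_pos e with he | he
    · subst he
      simp only [pow_zero, Nat.sub_self, zero_mul, mul_one, add_zero, zero_add, Nat.zero_sub]
      nlinarith
    · obtain ⟨e', rfl⟩ : ∃ e', e = e' + 1 := ⟨e - 1, by omega⟩
      simp only [Nat.add_sub_cancel]
      have hQ1 : 1 ≤ q ^ (e' + 1) := Nat.one_le_pow _ _ (by omega)
      have key : q * (q ^ (e' + 1) * 1 + (q ^ (e' + 1) - 1) * q ^ e' * q ^ 2) + q ^ (e' + 3) =
          q ^ (e' + 2) + q ^ (2 * (e' + 1 + 1)) := by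
        zify [hQ1]
        ring
      have hlt : q ^ (e' + 2) < q ^ (e' + 3) := Nat.pow_lt_pow_right (by omega) (by omega)
      linarith

/-- FO-B2: the Singer element of the minus-type space -/
theorem aff_minus [CharP F 2] (d : ℕ) (hd : 1 ≤ d) :
    ∃ (K : Type) (_ : AddCommGroup K) (_ : Module F K) (_ : Module.Finite F K), finrank F K = 2 * d ∧
      RealAff F K false true (Fintype.card F ^ d + 1) := by
  classical
  obtain ⟨K, hKf, hKa, hKfin, hfr, Q, ζ, hQ, hζ, hinv⟩ :=
    Cfsg.Agent.Lib.Helper29.S3589.singer_minus_model (F := F) d hd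
  have hmf : Module.Finite F K := Module.Finite.of_finite
  have hq2 : 2 ≤ Fintype.card F := Fintype.one_lt_card
  have hζ1 : ζ ≠ 1 := by
    intro h
    rw [h, orderOf_one] at hζ
    have : 1 ≤ Fintype.card F ^ d := Nat.one_le_pow _ _ (by omega)
    omega
  refine ⟨K, inferInstance, inferInstance, hmf, hfr, Q, mulL ζ, 0, hQ, fun v => hinv v, ?_, ?_, ?_⟩
  · rw [rk_mulL ζ hζ1, hfr]
    simp
  · intro m hm _
    have ho : orderOf (mulL (F := F) ζ) = Fintype.card F ^ d + 1 := by
      rw [orderOf_injective _ mulL_injective, hζ]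
    rw [← ho]
    exact orderOf_dvd_of_pow_eq_one hm
  · simp only [Bool.false_eq_true, if_false]
    exact sign_singer_minus d hd hfr Q ζ hQ hζ hinv

end Cfsg.Agent.Lib.Helper28.S3590
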