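import Cfsg.Agent.H5.TCkSound
import Cfsg.Agent.Lib.Helper5.Sp62Data

/-!
# S2043, block [P3]: the data of the subgroup `3⁶ : 2 M₁₂` of `Co₁` (helper28)

Three generators, as words in the nine generators of `Co₁`: `s₁` (order 11) and `s₂` (order 5) generate
the monomial subgroup `2 · M₁₂`, and `g' = e s₁ e⁻¹` (order 11) with `e` in the normal subgroup `3⁶`.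
Letters `2 i`, `2 i + 1` stand for the generator `i` and its inverse.  The conjugation relators
`(u, i, c, m)` stand for `u xᵢ u⁻¹ c ^ m` (`c` a letter).  The relators `relsH` present a group in which
`⟨s₁⟩` has index at most `17280`; the relators `relsL` present a group in which `⟨s₁, s₂⟩` has index at
most `729`.
-/

set_option autoImplicit false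

namespace Cfsg.Agent.Lib.Helper22.Co1M.Helper28

open Cfsg.Agent.Lib.Helper5.Sp62 (cr crOf)

/-- the three generators as words in the nine generators of `Co₁` -/
def wsP3 : List (List ℕ) := [
  [10, 13, 4, 1, 3, 1, 9, 4, 1],
  [8, 15, 10, 0, 2, 16, 4, 17, 5],
  [0, 12, 1, 6, 8, 6, 8, 13, 1, 10, 15, 13, 5, 8, 5]]

/-- the conjugation relators in `s₁`, `s₂` -/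
def conjH : List (List ℕ × ℕ × ℕ × ℕ) := [
  ([2, 0, 0, 0, 2], 0, 1, 1),
  ([3, 1, 1, 1, 3], 0, 1, 1),
  ([0, 0, 0, 2, 0, 0, 0], 1, 3, 1),
  ([1, 1, 1, 3, 1, 1, 1], 1, 3, 1),
  ([0, 0, 2, 0, 0, 0, 2, 0], 1, 3, 1),
  ([0, 2, 0, 0, 0, 2, 0, 0], 1, 3, 1),
  ([1, 1, 3, 1, 1, 1, 3, 1], 1, 3, 1),
  ([1, 3, 1, 1, 1, 3, 1, 1], 1, 3, 1),
  ([0, 3, 0, 3, 0, 3, 0, 3, 0], 1, 2, 1),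
  ([1, 2, 1, 2, 1, 2, 1, 2, 1], 1, 2, 1),
  ([2, 0, 2, 0, 0, 3, 1, 1, 2], 0, 1, 1),
  ([2, 0, 3, 1, 1, 1, 3, 1, 2], 0, 1, 1),
  ([2, 1, 1, 3, 0, 0, 2, 0, 2], 0, 1, 1),
  ([2, 1, 1, 3, 1, 3, 1, 1, 2], 0, 1, 1),
  ([2, 1, 3, 1, 1, 1, 3, 0, 2], 0, 1, 1),
  ([3, 0, 0, 2, 0, 2, 0, 0, 3], 0, 1, 1),
  ([3, 0, 0, 2, 1, 1, 3, 1, 3], 0, 1, 1),
  ([3, 0, 2, 0, 0, 0, 2, 1, 3], 0, 1, 1),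
  ([3, 1, 2, 0, 0, 0, 2, 0, 3], 0, 1, 1),
  ([3, 1, 3, 1, 1, 2, 0, 0, 3], 0, 1, 1),
  ([0, 2, 1, 3, 3, 0, 0, 3, 0], 1, 3, 2),
  ([0, 3, 0, 0, 3, 3, 1, 2, 0], 1, 2, 2),
  ([1, 2, 1, 1, 2, 2, 0, 3, 1], 1, 2, 2),
  ([1, 3, 0, 2, 2, 1, 1, 2, 1], 1, 3, 2),
  ([0, 0, 0, 0, 2, 0, 0, 0, 2, 1], 1, 3, 1),
  ([0, 0, 0, 3, 3, 0, 3, 3, 0, 0], 1, 2, 1),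
  ([0, 0, 0, 3, 3, 1, 2, 2, 1, 1], 1, 2, 1),
  ([0, 0, 3, 0, 3, 3, 0, 3, 0, 0], 1, 3, 1),
  ([0, 0, 3, 3, 0, 0, 3, 3, 0, 0], 1, 3, 1),
  ([0, 0, 3, 3, 0, 2, 2, 1, 1, 1], 1, 2, 1),
  ([0, 0, 3, 3, 0, 3, 3, 0, 0, 0], 1, 2, 1),
  ([0, 2, 2, 1, 3, 3, 0, 2, 2, 1], 1, 3, 1),
  ([0, 3, 1, 1, 1, 3, 1, 1, 1, 1], 1, 3, 1),
  ([0, 3, 3, 1, 2, 2, 0, 3, 3, 1], 1, 3, 1),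
  ([1, 1, 1, 1, 3, 1, 1, 1, 3, 0], 1, 3, 1),
  ([1, 1, 1, 2, 2, 0, 3, 3, 0, 0], 1, 2, 1),
  ([1, 1, 1, 2, 2, 1, 2, 2, 1, 1], 1, 2, 1),
  ([1, 1, 2, 1, 2, 2, 1, 2, 1, 1], 1, 3, 1),
  ([1, 1, 2, 2, 1, 1, 2, 2, 1, 1], 1, 3, 1),
  ([1, 1, 2, 2, 1, 2, 2, 1, 1, 1], 1, 2, 1),
  ([1, 1, 2, 2, 1, 3, 3, 0, 0, 0], 1, 2, 1),
  ([1, 2, 0, 0, 0, 2, 0, 0, 0, 0], 1, 3, 1),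
  ([1, 2, 2, 0, 3, 3, 1, 2, 2, 0], 1, 3, 1),
  ([1, 3, 3, 0, 2, 2, 1, 3, 3, 0], 1, 3, 1),
  ([2, 0, 0, 0, 2, 2, 0, 0, 0, 2], 0, 1, 1),
  ([2, 0, 0, 2, 0, 0, 0, 2, 0, 3], 0, 1, 1),
  ([2, 0, 0, 3, 1, 1, 2, 0, 0, 3], 0, 1, 1),
  ([2, 0, 2, 0, 0, 0, 2, 0, 0, 3], 0, 1, 1),
  ([2, 1, 1, 1, 3, 1, 1, 1, 3, 3], 0, 1, 1),
  ([2, 1, 1, 3, 0, 0, 2, 1, 1, 3], 0, 1, 1),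
  ([2, 1, 1, 3, 1, 1, 1, 3, 1, 3], 0, 1, 1),
  ([2, 1, 3, 1, 1, 1, 3, 1, 1, 3], 0, 1, 1),
  ([2, 2, 0, 0, 0, 2, 0, 0, 0, 3], 0, 1, 1),
  ([2, 2, 1, 1, 2, 2, 1, 1, 2, 2], 0, 1, 1),
  ([3, 0, 0, 0, 2, 0, 0, 0, 2, 2], 0, 1, 1),
  ([3, 0, 0, 2, 0, 0, 0, 2, 0, 2], 0, 1, 1),
  ([3, 0, 0, 2, 1, 1, 3, 0, 0, 2], 0, 1, 1),
  ([3, 0, 2, 0, 0, 0, 2, 0, 0, 2], 0, 1, 1),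
  ([3, 1, 1, 1, 3, 3, 1, 1, 1, 3], 0, 1, 1),
  ([3, 1, 1, 2, 0, 0, 3, 1, 1, 2], 0, 1, 1),
  ([3, 1, 1, 3, 1, 1, 1, 3, 1, 2], 0, 1, 1),
  ([3, 1, 3, 1, 1, 1, 3, 1, 1, 2], 0, 1, 1),
  ([3, 3, 0, 0, 3, 3, 0, 0, 3, 3], 0, 1, 1),
  ([3, 3, 1, 1, 1, 3, 1, 1, 1, 2], 0, 1, 1),
  ([0, 0, 0, 2, 0, 3, 1, 1, 1, 3, 1], 1, 3, 1),
  ([0, 0, 0, 2, 1, 3, 1, 1, 1, 3, 0], 1, 3, 1),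
  ([0, 0, 2, 1, 1, 3, 0, 0, 2, 1, 1], 1, 3, 1),
  ([0, 0, 3, 1, 1, 2, 0, 0, 3, 1, 1], 1, 3, 1),
  ([0, 2, 0, 0, 0, 2, 1, 3, 1, 1, 1], 1, 3, 1),
  ([0, 2, 0, 2, 0, 2, 0, 2, 0, 2, 0], 1, 3, 1),
  ([0, 2, 1, 3, 1, 2, 1, 3, 1, 2, 1], 1, 2, 1),
  ([0, 3, 0, 2, 0, 3, 0, 2, 0, 3, 1], 1, 2, 1),
  ([0, 3, 1, 1, 1, 3, 1, 2, 0, 0, 0], 1, 3, 1),
  ([1, 1, 1, 3, 0, 2, 0, 0, 0, 2, 1], 1, 3, 1),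
  ([1, 1, 1, 3, 1, 2, 0, 0, 0, 2, 0], 1, 3, 1),
  ([1, 1, 2, 0, 0, 3, 1, 1, 2, 0, 0], 1, 3, 1),
  ([1, 1, 3, 0, 0, 2, 1, 1, 3, 0, 0], 1, 3, 1),
  ([1, 2, 0, 0, 0, 2, 0, 3, 1, 1, 1], 1, 3, 1),
  ([1, 2, 1, 3, 1, 2, 1, 3, 1, 2, 0], 1, 2, 1),
  ([1, 3, 0, 2, 0, 3, 0, 2, 0, 3, 0], 1, 2, 1),
  ([1, 3, 1, 1, 1, 3, 0, 2, 0, 0, 0], 1, 3, 1),
  ([1, 3, 1, 3, 1, 3, 1, 3, 1, 3, 1], 1, 3, 1),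
  ([2, 0, 0, 0, 2, 0, 2, 0, 0, 0, 2], 0, 1, 1),
  ([2, 0, 0, 0, 2, 0, 3, 1, 1, 1, 3], 0, 1, 1),
  ([2, 0, 0, 0, 2, 1, 2, 0, 0, 0, 2], 0, 1, 1),
  ([2, 0, 0, 0, 2, 1, 3, 1, 1, 1, 3], 0, 1, 1),
  ([2, 0, 0, 3, 1, 1, 1, 3, 1, 1, 2], 0, 1, 1),
  ([2, 0, 2, 0, 0, 0, 0, 0, 2, 0, 2], 0, 1, 1),
  ([2, 0, 2, 0, 2, 0, 2, 0, 2, 0, 2], 0, 1, 1),
  ([2, 1, 1, 3, 1, 1, 1, 3, 0, 0, 2], 0, 1, 1),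
  ([2, 1, 2, 0, 2, 0, 2, 0, 2, 1, 2], 0, 1, 1),
  ([2, 2, 0, 3, 3, 1, 2, 2, 0, 3, 3], 0, 1, 1),
  ([2, 2, 1, 1, 1, 3, 1, 1, 1, 2, 2], 0, 1, 1),
  ([2, 2, 1, 3, 3, 0, 2, 2, 1, 3, 3], 0, 1, 1),
  ([3, 0, 0, 2, 0, 0, 0, 2, 1, 1, 3], 0, 1, 1),
  ([3, 0, 3, 1, 3, 1, 3, 1, 3, 0, 3], 0, 1, 1),
  ([3, 1, 1, 1, 3, 0, 2, 0, 0, 0, 2], 0, 1, 1),
  ([3, 1, 1, 1, 3, 0, 3, 1, 1, 1, 3], 0, 1, 1),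
  ([3, 1, 1, 1, 3, 1, 2, 0, 0, 0, 2], 0, 1, 1),
  ([3, 1, 1, 1, 3, 1, 3, 1, 1, 1, 3], 0, 1, 1),
  ([3, 1, 1, 2, 0, 0, 0, 2, 0, 0, 3], 0, 1, 1),
  ([3, 1, 3, 1, 1, 1, 1, 1, 3, 1, 3], 0, 1, 1),
  ([3, 1, 3, 1, 3, 1, 3, 1, 3, 1, 3], 0, 1, 1),
  ([3, 3, 0, 0, 0, 2, 0, 0, 0, 3, 3], 0, 1, 1),
  ([3, 3, 0, 2, 2, 1, 3, 3, 0, 2, 2], 0, 1, 1),
  ([3, 3, 1, 2, 2, 0, 3, 3, 1, 2, 2], 0, 1, 1),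
  ([0, 2, 1, 1, 1, 2, 2, 1, 1, 2, 0], 1, 3, 2),
  ([0, 2, 1, 1, 2, 2, 1, 1, 1, 2, 0], 1, 2, 2),
  ([0, 3, 0, 3, 3, 0, 2, 2, 1, 3, 0], 1, 2, 2),
  ([0, 3, 1, 2, 2, 0, 3, 3, 0, 3, 0], 1, 3, 2),
  ([1, 2, 0, 3, 3, 1, 2, 2, 1, 2, 1], 1, 3, 2),
  ([1, 2, 1, 2, 2, 1, 3, 3, 0, 2, 1], 1, 2, 2),
  ([1, 3, 0, 0, 0, 3, 3, 0, 0, 3, 1], 1, 3, 2),
  ([1, 3, 0, 0, 3, 3, 0, 0, 0, 3, 1], 1, 2, 2),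
  ([0, 3, 0, 3, 0, 3, 0, 3, 0], 1, 2, 1),
  ([1, 2, 1, 2, 1, 2, 1, 2, 1], 1, 2, 1),
  ([0, 2, 1, 3, 3, 0, 0, 3, 0], 1, 3, 2),
  ([0, 3, 0, 0, 3, 3, 1, 2, 0], 1, 2, 2),
  ([1, 2, 1, 1, 2, 2, 0, 3, 1], 1, 2, 2),
  ([1, 3, 0, 2, 2, 1, 1, 2, 1], 1, 3, 2),
  ([2, 2, 1, 1, 2, 2, 1, 1, 2, 2], 0, 1, 1),
  ([3, 3, 0, 0, 3, 3, 0, 0, 3, 3], 0, 1, 1),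
  ([0, 0, 0, 3, 3, 0, 3, 3, 0, 0], 1, 2, 1),
  ([0, 0, 0, 3, 3, 1, 2, 2, 1, 1], 1, 2, 1),
  ([0, 0, 3, 0, 3, 3, 0, 3, 0, 0], 1, 3, 1),
  ([0, 0, 3, 3, 0, 0, 3, 3, 0, 0], 1, 3, 1),
  ([0, 0, 3, 3, 0, 2, 2, 1, 1, 1], 1, 2, 1),
  ([0, 0, 3, 3, 0, 3, 3, 0, 0, 0], 1, 2, 1),
  ([0, 3, 3, 1, 2, 2, 0, 3, 3, 1], 1, 3, 1),
  ([1, 1, 1, 2, 2, 0, 3, 3, 0, 0], 1, 2, 1),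
  ([1, 1, 2, 1, 2, 2, 1, 2, 1, 1], 1, 3, 1),
  ([1, 1, 2, 2, 1, 3, 3, 0, 0, 0], 1, 2, 1),
  ([2, 1, 2, 0, 2, 0, 2, 0, 2, 1, 2], 0, 1, 1),
  ([3, 0, 3, 1, 3, 1, 3, 1, 3, 0, 3], 0, 1, 1),
  ([0, 2, 0, 2, 0, 2, 0, 2, 0, 2, 0], 1, 3, 1),
  ([0, 2, 1, 3, 1, 2, 1, 3, 1, 2, 1], 1, 2, 1),
  ([1, 2, 1, 3, 1, 2, 1, 3, 1, 2, 0], 1, 2, 1),
  ([0, 2, 1, 1, 1, 2, 2, 1, 1, 2, 0], 1, 3, 2),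
  ([0, 2, 1, 1, 2, 2, 1, 1, 1, 2, 0], 1, 2, 2),
  ([1, 2, 0, 3, 3, 1, 2, 2, 1, 2, 1], 1, 3, 2),
  ([1, 2, 1, 2, 2, 1, 3, 3, 0, 2, 1], 1, 2, 2),
  ([0, 0, 3, 0, 3, 1, 2, 1, 2, 1, 3, 0], 1, 2, 1),
  ([0, 3, 1, 2, 1, 2, 1, 3, 0, 3, 0, 0], 1, 2, 1),
  ([2, 0, 3, 0, 0, 0, 2, 2, 0, 3, 0, 2], 0, 0, 2),
  ([2, 0, 3, 0, 3, 0, 0, 3, 0, 2, 1, 3], 0, 0, 2),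
  ([2, 1, 2, 1, 3, 3, 0, 3, 0, 3, 1, 3], 0, 0, 2),
  ([2, 2, 0, 3, 3, 0, 2, 1, 3, 0, 3, 3], 0, 0, 2),
  ([3, 0, 3, 0, 2, 2, 1, 2, 1, 2, 0, 2], 0, 0, 2),
  ([3, 1, 2, 1, 1, 1, 3, 3, 1, 2, 1, 3], 0, 0, 2),
  ([3, 1, 2, 1, 2, 1, 1, 2, 1, 3, 0, 2], 0, 0, 2),
  ([3, 3, 1, 2, 2, 1, 3, 0, 2, 1, 2, 2], 0, 0, 2),
  ([0, 3, 0, 2, 2, 1, 2, 1, 3, 0, 3, 0], 1, 3, 2),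
  ([0, 3, 0, 3, 0, 2, 1, 3, 3, 0, 2, 1], 1, 3, 2),
  ([0, 3, 0, 3, 1, 2, 1, 2, 2, 0, 3, 0], 1, 2, 2)]

/-- the conjugation relators involving `g'` -/
def conjL : List (List ℕ × ℕ × ℕ × ℕ) := [
  ([0, 5, 0, 5, 0], 2, 5, 1),
  ([1, 4, 1, 4, 1], 2, 5, 1),
  ([4, 1, 4, 1, 4], 0, 1, 1),
  ([5, 0, 5, 0, 5], 0, 1, 1),
  ([0, 0, 2, 1, 4, 3], 0, 5, 1),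
  ([0, 4, 1, 1, 4, 0], 2, 5, 1),
  ([0, 5, 0, 5, 0, 5], 1, 3, 1),
  ([1, 1, 1, 4, 0, 0], 1, 3, 1),
  ([1, 1, 5, 0, 0, 0], 1, 3, 1),
  ([1, 4, 1, 4, 1, 4], 1, 3, 1),
  ([1, 5, 0, 0, 5, 1], 2, 5, 1),
  ([1, 5, 1, 4, 4, 0], 1, 3, 1),
  ([1, 5, 5, 0, 4, 0], 1, 3, 1),
  ([2, 0, 4, 1, 5, 3], 2, 1, 1),
  ([2, 0, 4, 4, 2, 5], 0, 5, 1),
  ([2, 1, 4, 3, 5, 5], 0, 5, 1),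
  ([2, 4, 0, 5, 1, 3], 0, 5, 1),
  ([2, 5, 0, 3, 1, 1], 2, 1, 1),
  ([4, 0, 5, 5, 0, 4], 0, 1, 1),
  ([4, 1, 4, 1, 4, 1], 1, 3, 1),
  ([4, 3, 5, 5, 1, 3], 2, 1, 1),
  ([4, 4, 2, 5, 0, 3], 2, 1, 1),
  ([5, 0, 5, 0, 5, 0], 1, 3, 1),
  ([5, 1, 1, 4, 0, 4], 1, 3, 1),
  ([5, 1, 4, 4, 1, 5], 0, 1, 1),
  ([5, 1, 5, 0, 0, 4], 1, 3, 1),
  ([5, 5, 1, 4, 4, 4], 1, 3, 1),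
  ([5, 5, 5, 0, 4, 4], 1, 3, 1),
  ([0, 0, 0, 2, 4, 0, 0], 1, 3, 1),
  ([0, 0, 5, 1, 4, 4, 1], 2, 5, 1),
  ([0, 2, 0, 4, 0, 2, 0], 2, 5, 1),
  ([0, 2, 1, 4, 3, 1, 5], 0, 5, 1),
  ([0, 3, 0, 5, 5, 0, 2], 0, 5, 1),
  ([0, 3, 5, 0, 0, 5, 2], 0, 5, 1),
  ([0, 3, 5, 1, 1, 3, 4], 0, 5, 1),
  ([0, 4, 0, 2, 0, 4, 0], 1, 3, 1),
  ([0, 4, 0, 2, 4, 4, 0], 1, 3, 1),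
  ([0, 4, 2, 1, 4, 3, 5], 0, 5, 1),
  ([0, 4, 2, 4, 4, 0, 2], 0, 5, 1),
  ([0, 5, 5, 0, 4, 1, 1], 2, 5, 1),
  ([1, 1, 2, 4, 4, 0, 2], 2, 5, 1),
  ([1, 1, 4, 0, 5, 5, 0], 2, 5, 1),
  ([1, 1, 5, 3, 1, 1, 1], 1, 3, 1),
  ([1, 2, 1, 1, 4, 4, 3], 0, 5, 1),
  ([1, 3, 1, 5, 1, 3, 1], 2, 5, 1),
  ([1, 4, 4, 1, 5, 0, 0], 2, 5, 1),
  ([1, 4, 4, 2, 4, 1, 3], 0, 5, 1),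
  ([1, 5, 1, 3, 1, 5, 1], 1, 3, 1),
  ([1, 5, 5, 3, 1, 5, 1], 1, 3, 1),
  ([2, 0, 4, 0, 2, 0, 4], 0, 1, 1),
  ([2, 0, 5, 3, 5, 5, 0], 2, 1, 1),
  ([2, 1, 1, 4, 4, 3, 4], 0, 5, 1),
  ([2, 4, 0, 0, 2, 0, 4], 0, 5, 1),
  ([2, 4, 0, 5, 0, 0, 2], 0, 5, 1),
  ([2, 4, 1, 3, 1, 1, 4], 0, 5, 1),
  ([2, 4, 4, 1, 4, 0, 2], 0, 5, 1),
  ([2, 5, 5, 0, 0, 3, 0], 2, 1, 1),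
  ([3, 0, 5, 5, 0, 2, 5], 0, 5, 1),
  ([3, 1, 1, 4, 1, 5, 3], 2, 1, 1),
  ([3, 1, 4, 4, 1, 2, 1], 2, 1, 1),
  ([3, 1, 5, 0, 5, 5, 3], 2, 1, 1),
  ([3, 1, 5, 1, 3, 1, 5], 0, 1, 1),
  ([3, 1, 5, 5, 3, 0, 0], 2, 5, 1),
  ([3, 1, 5, 5, 3, 5, 1], 2, 1, 1),
  ([3, 4, 1, 1, 4, 2, 1], 2, 1, 1),
  ([3, 5, 0, 0, 5, 2, 5], 0, 5, 1),
  ([4, 0, 2, 0, 4, 0, 2], 0, 1, 1),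
  ([4, 0, 2, 5, 0, 3, 1], 2, 1, 1),
  ([4, 1, 1, 4, 0, 5, 5], 0, 1, 1),
  ([4, 2, 5, 0, 3, 5, 1], 2, 1, 1),
  ([4, 3, 1, 4, 4, 1, 2], 2, 1, 1),
  ([4, 3, 4, 1, 1, 4, 2], 2, 1, 1),
  ([4, 4, 1, 5, 0, 0, 5], 0, 1, 1),
  ([5, 0, 0, 2, 0, 5, 3], 2, 1, 1),
  ([5, 0, 0, 5, 1, 4, 4], 0, 1, 1),
  ([5, 1, 3, 1, 1, 5, 3], 2, 1, 1),
  ([5, 1, 3, 1, 5, 1, 3], 0, 1, 1),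
  ([5, 2, 0, 0, 4, 2, 1], 2, 1, 1),
  ([5, 2, 5, 5, 0, 0, 3], 2, 1, 1),
  ([5, 5, 0, 4, 1, 1, 4], 0, 1, 1),
  ([0, 0, 0, 2, 0, 0, 0, 2], 2, 5, 1),
  ([0, 0, 0, 4, 0, 0, 4, 0], 2, 5, 1),
  ([0, 0, 2, 0, 0, 0, 2, 0], 2, 5, 1),
  ([0, 0, 2, 5, 0, 5, 0, 3], 0, 5, 1),
  ([0, 0, 4, 3, 4, 1, 2, 4], 0, 5, 1),
  ([0, 0, 4, 4, 0, 0, 0, 5], 0, 5, 1),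
  ([0, 0, 5, 0, 5, 0, 5, 1], 1, 3, 1),
  ([0, 0, 5, 0, 5, 0, 5, 1], 2, 5, 1),
  ([0, 0, 5, 0, 5, 1, 4, 0], 2, 5, 1),
  ([0, 0, 5, 1, 4, 0, 5, 0], 2, 5, 1),
  ([0, 0, 5, 1, 4, 4, 1, 5], 1, 3, 1),
  ([0, 2, 0, 0, 0, 2, 0, 0], 2, 5, 1),
  ([0, 2, 0, 4, 0, 2, 0, 4], 1, 3, 1),
  ([0, 2, 0, 5, 3, 0, 4, 4], 0, 5, 1),
  ([0, 2, 0, 5, 5, 0, 3, 5], 0, 5, 1),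
  ([0, 2, 1, 4, 0, 4, 0, 2], 0, 5, 1),
  ([0, 2, 5, 0, 0, 5, 3, 5], 0, 5, 1),
  ([0, 2, 5, 0, 3, 4, 0, 0], 2, 5, 1),
  ([0, 2, 5, 0, 3, 4, 1, 5], 1, 3, 1),
  ([0, 3, 0, 5, 5, 1, 1, 3], 0, 5, 1),
  ([0, 3, 1, 4, 2, 4, 0, 4], 0, 5, 1),
  ([0, 4, 0, 2, 0, 4, 0, 2], 2, 5, 1),
  ([0, 4, 1, 1, 4, 0, 5, 5], 1, 3, 1),
  ([0, 4, 1, 2, 5, 0, 3, 5], 1, 3, 1),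
  ([0, 4, 1, 4, 1, 4, 1, 1], 1, 3, 1),
  ([0, 4, 1, 4, 1, 4, 1, 1], 2, 5, 1),
  ([0, 4, 1, 5, 0, 5, 0, 0], 2, 5, 1),
  ([0, 4, 2, 0, 0, 4, 2, 5], 0, 5, 1),
  ([0, 4, 2, 0, 0, 5, 1, 3], 2, 5, 1),
  ([0, 4, 2, 4, 0, 5, 5, 3], 2, 5, 1),
  ([0, 4, 2, 4, 1, 3, 1, 5], 0, 5, 1),
  ([0, 4, 2, 4, 4, 1, 1, 3], 0, 5, 1),
  ([0, 4, 4, 0, 4, 0, 0, 0], 2, 5, 1),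
  ([0, 5, 0, 4, 1, 5, 0, 0], 2, 5, 1),
  ([0, 5, 0, 4, 2, 4, 1, 3], 0, 5, 1),
  ([0, 5, 1, 4, 2, 2, 0, 5], 1, 3, 1),
  ([0, 5, 1, 4, 4, 1, 5, 0], 1, 3, 1),
  ([0, 5, 1, 4, 4, 1, 5, 0], 2, 5, 1),
  ([0, 5, 2, 5, 0, 2, 5, 0], 1, 3, 1),
  ([0, 5, 3, 3, 0, 5, 1, 4], 1, 3, 1)]

/-- the power relators of `s₁`, `s₂` -/
def powH : List (List ℕ) := [List.replicate 11 0, List.replicate 5 2]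

/-- the power relator of `g'` -/
def powL : List (List ℕ) := [List.replicate 11 4]

/-- relators of `2 · M₁₂ = ⟨s₁, s₂⟩` -/
def relsH : List (List ℕ) := powH ++ conjH.map crOf

/-- relators of `3⁶ : 2 M₁₂ = ⟨s₁, s₂, g'⟩` -/
def relsL : List (List ℕ) := relsH ++ powL ++ conjL.map crOf

end Cfsg.Agent.Lib.Helper22.Co1M.Helper28
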