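import Mathlib
import Cfsg.Prelude.Def_KGroupFacts
import Cfsg.Agent.H5.TCkSound
import Cfsg.Agent.H5.TCk2Main
import Cfsg.Agent.H5.StemTC
import Cfsg.Agent.Lib.Helper17.WeakL6
import Cfsg.Agent.Lib.Helper17.WeakL9

/-!
# S2043, block [P3]: the two generic bounds with an abstract coset enumeration (helper28)

`TCBound t rels sgens bound`: in every group generated by `t` elements that satisfy the relators `rels`,
a finite subgroup that contains the words `sgens` has index at most `bound`.  This is the conclusion of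
a coset enumeration certificate of any format.  `card_closure_le_of` and `card_ker_mul_card_le_of` are
`Helper10.Weak.card_closure_le` (helper17, [L9]) and `Helper10.Weak.card_ker_mul_card_le` (helper17,
[L6]) with this hypothesis in place of the certificate.
-/

set_option autoImplicit false

namespace Cfsg.Agent.Lib.Helper22.Co1M.Helper28

open Cfsg Cfsg.H5.TCk Cfsg.Agent.Lib.Helper10.Weak

/-- the conclusion of a coset enumeration -/
def TCBound (t : ℕ) (rels sgens : List (List ℕ)) (bound : ℕ) : Prop :=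
  ∀ {Δ : Type} [Group Δ] (δ : ℕ → Δ) (K : Subgroup Δ) [Finite K],
    (∀ r ∈ rels, ev δ r = 1) → (∀ g ∈ sgens, ev δ g ∈ K) →
    Subgroup.closure (Set.range fun i : Fin t => δ i.val) = ⊤ →
    Finite Δ ∧ Nat.card Δ ≤ bound * Nat.card K

theorem tcBound_of_check {t : ℕ} {rels sgens : List (List ℕ)} {bound : ℕ} (D F ncos : ℕ)
    (defs : List (ℕ × ℕ)) (log : List ℕ)
    (hchk : check D F (2 * t) ncos bound defs rels sgens log = true) :
    TCBound t rels sgens bound :=
  fun δ K _ h1 h2 h3 => tc_sound K δ defs rels sgens D F t ncos bound log h1 h2 h3 hchk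

theorem tcBound_of_checkS {t : ℕ} {rels sgens : List (List ℕ)} {bound : ℕ} (W F ncos : ℕ)
    (defs : List (ℕ × ℕ)) (log : List ℕ)
    (hchk : Cfsg.H5.TCk2.checkS W F (2 * t) ncos bound defs rels sgens log = true) :
    TCBound t rels sgens bound :=
  fun δ K _ h1 h2 h3 => Cfsg.H5.TCk2.tc_bound K δ defs rels sgens W F t ncos bound log h1 h2 h3 hchk

/-- [L9] with an abstract enumeration -/
theorem card_closure_le_of {Γ : Type} [Group Γ] (γh : ℕ → Γ) (t : ℕ) (rels : List (List ℕ))
    (hl : ∀ r ∈ rels, r.all (fun l => decide (l < 2 * t)) = true)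
    (hrels : ∀ r ∈ rels, Cfsg.H5.TCk.ev γh r = 1) (sgens : List (List ℕ))
    (hsl : ∀ g ∈ sgens, g.all (fun l => decide (l < 2 * t)) = true) (K : Subgroup Γ) [Finite K]
    (hK : ∀ g ∈ sgens, Cfsg.H5.TCk.ev γh g ∈ K) (bound : ℕ)
    (hTC : TCBound t rels sgens bound) :
    Finite (Subgroup.closure (Set.range fun i : Fin t => γh i.val)) ∧
      Nat.card (Subgroup.closure (Set.range fun i : Fin t => γh i.val)) ≤ bound * Nat.card K := by
  classical
  generalize hMdef : Subgroup.closure (Set.range fun i : Fin t => γh i.val) = M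
  have hγM : ∀ i < t, γh i ∈ M := by
    intro i hi
    rw [← hMdef]
    exact Subgroup.subset_closure ⟨⟨i, hi⟩, rfl⟩
  let γm : ℕ → M := fun i => if h : i < t then ⟨γh i, hγM i h⟩ else 1
  have hγm : ∀ i < t, ((γm i : M) : Γ) = γh i := by
    intro i hi
    simp only [γm, dif_pos hi]
  have hev : ∀ w : List ℕ, w.all (fun l => decide (l < 2 * t)) = true →
      ((ev γm w : M) : Γ) = ev γh w := by
    intro w hw
    have h1 : ((ev γm w : M) : Γ) = ev (fun i => ((γm i : M) : Γ)) w :=
      Cfsg.H5.StemTC.map_ev M.subtype γm w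
    rw [h1]
    exact Helper17.ev_congr_lt _ _ t (fun i hi => hγm i hi) w hw
  have hgenM : Subgroup.closure (Set.range fun i : Fin t => γm i.val) = ⊤ := by
    apply Subgroup.map_injective M.subtype_injective
    have h1 : (⊤ : Subgroup M).map M.subtype = M := by
      rw [← MonoidHom.range_eq_map, Subgroup.range_subtype]
    rw [h1, MonoidHom.map_closure]
    have himg : (⇑M.subtype '' Set.range fun i : Fin t => γm i.val) =
        Set.range fun i : Fin t => γh i.val := by
      ext x
      constructor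
      · rintro ⟨_, ⟨i, rfl⟩, rfl⟩
        exact ⟨i, (hγm i.val i.isLt).symm⟩
      · rintro ⟨i, rfl⟩
        exact ⟨γm i.val, ⟨i, rfl⟩, hγm i.val i.isLt⟩
    rw [himg]
    exact hMdef
  have hrelM : ∀ r ∈ rels, ev γm r = 1 := by
    intro r hr
    apply Subtype.ext
    rw [hev r (hl r hr), hrels r hr]
    rfl
  have hsgM : ∀ g ∈ sgens, ev γm g ∈ K.subgroupOf M := by
    intro g hg
    rw [Subgroup.mem_subgroupOf, hev g (hsl g hg)]
    exact hK g hg
  have hinj : Function.Injective
      (fun x : K.subgroupOf M => (⟨(x.1 : Γ), Subgroup.mem_subgroupOf.mp x.2⟩ : K)) := by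
    intro x y hxy
    apply Subtype.ext
    apply Subtype.ext
    have h2 : ((x.1 : M) : Γ) = ((y.1 : M) : Γ) := congrArg (fun z : K => (z : Γ)) hxy
    exact h2
  haveI : Finite (K.subgroupOf M) := Finite.of_injective _ hinj
  obtain ⟨hfin, hfinal⟩ := hTC γm (K.subgroupOf M) hrelM hsgM hgenM
  have hKle : Nat.card (K.subgroupOf M) ≤ Nat.card K := Nat.card_le_card_of_injective _ hinj
  exact ⟨hfin, le_trans hfinal (Nat.mul_le_mul_left _ hKle)⟩


/-- [L6] with an abstract enumeration -/
theorem card_ker_mul_card_le_of {G : Type} [Group G] {Γ : Type} [Group Γ] [Finite Γ]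
    (σ : Γ →* G) (hσ : IsStemExtension σ) (p : ℕ) [Fact p.Prime] (hk : IsPGroup p σ.ker)
    (t : ℕ) (γ : ℕ → G)
    (hidx : ¬ p ∣ (Subgroup.closure (Set.range fun i : Fin t => γ i.val)).index)
    (γh : ℕ → Γ) (hγh : ∀ i < t, σ (γh i) = γ i)
    (rels : List (List ℕ)) (hl : ∀ r ∈ rels, r.all (fun l => decide (l < 2 * t)) = true)
    (hrels : ∀ r ∈ rels, ev γh r = 1)
    (sgens : List (List ℕ)) (hsl : ∀ g ∈ sgens, g.all (fun l => decide (l < 2 * t)) = true)
    (K : Subgroup Γ) (hK : ∀ g ∈ sgens, ev γh g ∈ K)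
    (bound : ℕ) (hTC : TCBound t rels sgens bound) :
    Nat.card σ.ker * Nat.card (Subgroup.closure (Set.range fun i : Fin t => γ i.val)) ≤
      bound * Nat.card K := by
  classical
  have hsurj : Function.Surjective σ := hσ.1
  -- the subgroup generated by the `γ i` and its preimage
  have hτ : IsStemExtension
      (σ.subgroupComap (Subgroup.closure (Set.range fun i : Fin t => γ i.val))) :=
    stem_restrict_p σ hσ hk _ hidx
  have hcardM : Nat.card ((Subgroup.closure (Set.range fun i : Fin t => γ i.val)).comap σ) =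
      Nat.card σ.ker * Nat.card (Subgroup.closure (Set.range fun i : Fin t => γ i.val)) :=
    card_comap σ hsurj _
  generalize hHdef : Subgroup.closure (Set.range fun i : Fin t => γ i.val) = H at hτ hcardM ⊢
  have hγH : ∀ i < t, γ i ∈ H := by
    intro i hi
    rw [← hHdef]
    exact Subgroup.subset_closure ⟨⟨i, hi⟩, rfl⟩
  have hγhM : ∀ i < t, γh i ∈ H.comap σ := by
    intro i hi
    rw [Subgroup.mem_comap, hγh i hi]
    exact hγH i hi
  let γm : ℕ → H.comap σ := fun i => if h : i < t then ⟨γh i, hγhM i h⟩ else 1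
  have hγm : ∀ i < t, ((γm i : H.comap σ) : Γ) = γh i := by
    intro i hi
    simp only [γm, dif_pos hi]
  have hev : ∀ w : List ℕ, w.all (fun l => decide (l < 2 * t)) = true →
      ((ev γm w : H.comap σ) : Γ) = ev γh w := by
    intro w hw
    have h1 : ((ev γm w : H.comap σ) : Γ) = ev (fun i => ((γm i : H.comap σ) : Γ)) w :=
      Cfsg.H5.StemTC.map_ev (H.comap σ).subtype γm w
    rw [h1]
    exact Helper17.ev_congr_lt _ _ t (fun i hi => hγm i hi) w hw
  -- the lifts generate the preimage
  have hgenM : Subgroup.closure (Set.range fun i : Fin t => γm i.val) = ⊤ := by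
    apply Cfsg.H5.StemLift.eq_top_of_map_eq_top (σ.subgroupComap H) hτ
    apply Subgroup.map_injective H.subtype_injective
    have h1 : (⊤ : Subgroup H).map H.subtype = H := by
      rw [← MonoidHom.range_eq_map, Subgroup.range_subtype]
    rw [h1, Subgroup.map_map, MonoidHom.map_closure]
    have himg : (⇑(H.subtype.comp (σ.subgroupComap H)) '' Set.range fun i : Fin t => γm i.val) =
        Set.range fun i : Fin t => γ i.val := by
      ext x
      constructor
      · rintro ⟨_, ⟨i, rfl⟩, rfl⟩
        refine ⟨i, ?_⟩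
        show γ i.val = σ ((γm i.val : H.comap σ) : Γ)
        rw [hγm i.val i.isLt, hγh i.val i.isLt]
      · rintro ⟨i, rfl⟩
        refine ⟨γm i.val, ⟨i, rfl⟩, ?_⟩
        show σ ((γm i.val : H.comap σ) : Γ) = γ i.val
        rw [hγm i.val i.isLt, hγh i.val i.isLt]
    rw [himg]
    exact hHdef
  -- Todd–Coxeter inside the preimage
  have hrelM : ∀ r ∈ rels, ev γm r = 1 := by
    intro r hr
    apply Subtype.ext
    rw [hev r (hl r hr), hrels r hr]
    rfl
  have hsgM : ∀ g ∈ sgens, ev γm g ∈ K.subgroupOf (H.comap σ) := by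
    intro g hg
    rw [Subgroup.mem_subgroupOf, hev g (hsl g hg)]
    exact hK g hg
  have hfinal := (hTC γm (K.subgroupOf (H.comap σ)) hrelM hsgM hgenM).2
  have hKle : Nat.card (K.subgroupOf (H.comap σ)) ≤ Nat.card K := by
    apply Nat.card_le_card_of_injective
      (fun x : K.subgroupOf (H.comap σ) => (⟨(x.1 : Γ), Subgroup.mem_subgroupOf.mp x.2⟩ : K))
    intro x y hxy
    apply Subtype.ext
    apply Subtype.ext
    have h2 : ((x.1 : H.comap σ) : Γ) = ((y.1 : H.comap σ) : Γ) :=
      congrArg (fun z : K => (z : Γ)) hxy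
    exact h2
  calc Nat.card σ.ker * Nat.card H = Nat.card (H.comap σ) := hcardM.symm
    _ ≤ bound * Nat.card (K.subgroupOf (H.comap σ)) := hfinal
    _ ≤ bound * Nat.card K := Nat.mul_le_mul_left _ hKle


end Cfsg.Agent.Lib.Helper22.Co1M.Helper28
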