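import Mathlib
import Cfsg.Agent.Lib.Helper28.M12Trans

/-!
# A simplicity criterion for transitive groups of degree 100

A finite group of order `44352000` acting faithfully and transitively on a set, with a simple
point stabilizer of order `443520` whose invariant subsets containing the point have `1`, `23`,
`78` or `100` elements, is simple.
-/

set_option autoImplicit false

namespace Cfsg.Agent.Lib.Helper28

namespace Rank3

open MulAction

variable {G V : Type*} [Group G] [MulAction G V]

theorem orbit_normal_invariant (v0 : V) (N : Subgroup G) (hN : N.Normal) :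
    ∀ h ∈ stabilizer G v0, ∀ x ∈ orbit N v0, h • x ∈ orbit N v0 := by
  rintro h hh x ⟨n, rfl⟩
  refine ⟨⟨h * n.1 * h⁻¹, hN.conj_mem n.1 n.2 h⟩, ?_⟩
  show (h * n.1 * h⁻¹) • v0 = h • (n.1 • v0)
  have hv : h⁻¹ • v0 = v0 := by
    rw [inv_smul_eq_iff]
    exact (mem_stabilizer_iff.mp hh).symm
  rw [mul_smul, mul_smul, hv]

theorem divisors_hundred : ∀ d ∈ Nat.divisors 100, d % 5 = 1 → d = 1 := by decide

theorem simple_of_rank3 [Finite G] [FaithfulSMul G V] [IsPretransitive G V] (v0 : V)
    (hs : IsSimpleGroup (stabilizer G v0))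
    (hcard : Nat.card G = 44352000) (hcard0 : Nat.card (stabilizer G v0) = 443520)
    (hΔ : ∀ Δ : Set V, v0 ∈ Δ → (∀ h ∈ stabilizer G v0, ∀ x ∈ Δ, h • x ∈ Δ) →
      Δ.ncard = 1 ∨ Δ.ncard = 23 ∨ Δ.ncard = 78 ∨ Δ.ncard = 100) :
    IsSimpleGroup G := by
  have horb : ∀ N : Subgroup G, N.Normal → ((orbit N v0).ncard = 1 ∨ (orbit N v0).ncard = 23 ∨
      (orbit N v0).ncard = 78 ∨ (orbit N v0).ncard = 100) := fun N hN =>
    hΔ _ (mem_orbit_self v0) (orbit_normal_invariant v0 N hN)
  have hdvd : ∀ N : Subgroup G, Nat.card N ∣ 44352000 := fun N => by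
    rw [← hcard]
    exact Subgroup.card_subgroup_dvd_card N
  -- normal subgroups meeting the stabilizer trivially
  have hd1 : ∀ N : Subgroup G, N.Normal → N ⊓ stabilizer G v0 = ⊥ →
      Nat.card N = 1 ∨ Nat.card N = 100 := by
    intro N hN hbot
    have hc := card_eq_orbit_mul_card_inf_stabilizer' N v0
    rw [hbot, Subgroup.card_bot, mul_one] at hc
    have hdv := hdvd N
    rcases horb N hN with h | h | h | h
    · left
      rw [hc, h]
    · exfalso
      rw [hc, h] at hdv
      norm_num at hdv
    · exfalso
      rw [hc, h] at hdv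
      norm_num at hdv
    · right
      rw [hc, h]
  -- normal subgroups containing the stabilizer
  have hd2 : ∀ N : Subgroup G, N.Normal → stabilizer G v0 ≤ N →
      N = stabilizer G v0 ∨ N = ⊤ := by
    intro N hN hle
    have hc := card_eq_orbit_mul_card_inf_stabilizer' N v0
    rw [inf_eq_right.mpr hle, hcard0] at hc
    have hdv := hdvd N
    rcases horb N hN with h | h | h | h
    · left
      have h1 : Nat.card N = 443520 := by rw [hc, h]
      exact (Subgroup.eq_of_le_of_card_ge hle (by rw [h1, hcard0])).symm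
    · exfalso
      rw [hc, h] at hdv
      norm_num at hdv
    · exfalso
      rw [hc, h] at hdv
      norm_num at hdv
    · right
      have h1 : Nat.card N = 44352000 := by rw [hc, h]
      rw [← Subgroup.card_eq_iff_eq_top, h1, hcard]
  haveI : Nontrivial G := by
    rw [← Finite.one_lt_card_iff_nontrivial, hcard]
    norm_num
  refine ⟨fun N hN => ?_⟩
  haveI := hN
  haveI := hs
  have hK : (N.subgroupOf (stabilizer G v0)).Normal := inferInstance
  rcases hK.eq_bot_or_eq_top with hbot | htop
  · -- trivial intersection with the stabilizer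
    have hdisj : N ⊓ stabilizer G v0 = ⊥ := by
      rw [Subgroup.subgroupOf_eq_bot] at hbot
      exact disjoint_iff.mp hbot
    rcases hd1 N hN hdisj with h1 | h100
    · left
      exact Subgroup.eq_bot_of_card_eq N h1
    · exfalso
      haveI : Fact (Nat.Prime 5) := ⟨by norm_num⟩
      obtain ⟨P⟩ : Nonempty (Sylow 5 ↥N) := Sylow.nonempty
      have hn5 : Nat.card (Sylow 5 ↥N) = 1 := by
        have k1 := card_sylow_modEq_one 5 ↥N
        have k2 : Nat.card (Sylow 5 ↥N) ∣ 100 := by
          have := (Sylow.card_dvd_index P).trans (Subgroup.index_dvd_card (P : Subgroup ↥N))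
          rwa [h100] at this
        exact divisors_hundred _ (Nat.mem_divisors.mpr ⟨k2, by norm_num⟩) k1
      haveI : Subsingleton (Sylow 5 ↥N) := (Nat.card_eq_one_iff_unique.mp hn5).1
      have hQ : ((P : Subgroup ↥N).map N.subtype).Normal := inferInstance
      have hQle : (P : Subgroup ↥N).map N.subtype ≤ N := Subgroup.map_subtype_le _
      have hQdisj : (P : Subgroup ↥N).map N.subtype ⊓ stabilizer G v0 = ⊥ := by
        rw [← le_bot_iff, ← hdisj]
        exact inf_le_inf_right _ hQle
      have hQcard : Nat.card ((P : Subgroup ↥N).map N.subtype) = Nat.card (P : Subgroup ↥N) :=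
        Subgroup.card_map_of_injective N.subtype_injective
      have hPne : (P : Subgroup ↥N) ≠ ⊥ := P.ne_bot_of_dvd_card (by rw [h100]; norm_num)
      obtain ⟨n, hn⟩ := IsPGroup.iff_card.mp P.2
      rcases hd1 _ hQ hQdisj with k1 | k100
      · rw [hQcard] at k1
        exact hPne (Subgroup.eq_bot_of_card_eq _ k1)
      · rw [hQcard, hn] at k100
        have h2 : 2 ∣ 5 ^ n := by
          rw [k100]
          norm_num
        have h3 := Nat.Prime.dvd_of_dvd_pow Nat.prime_two h2
        norm_num at h3
  · -- the stabilizer is contained in `N`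
    have hle : stabilizer G v0 ≤ N := Subgroup.subgroupOf_eq_top.mp htop
    rcases hd2 N hN hle with h | h
    · exfalso
      have hnorm : (stabilizer G v0).Normal := h ▸ hN
      have htriv : ∀ k ∈ stabilizer G v0, k = 1 := by
        intro k hk
        apply FaithfulSMul.eq_of_smul_eq_smul (α := V)
        intro v
        obtain ⟨g, rfl⟩ := exists_smul_eq G v0 v
        have k1 : g⁻¹ * k * g⁻¹⁻¹ ∈ stabilizer G v0 := hnorm.conj_mem k hk g⁻¹
        rw [inv_inv, mem_stabilizer_iff, mul_smul, mul_smul, inv_smul_eq_iff] at k1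
        rw [one_smul]
        exact k1
      have hb : stabilizer G v0 = ⊥ := (Subgroup.eq_bot_iff_forall _).mpr htriv
      rw [hb, Subgroup.card_bot] at hcard0
      norm_num at hcard0
    · right
      exact h

end Rank3

end Cfsg.Agent.Lib.Helper28
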