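import Mathlib
import Cfsg.Agent.Lib.Helper28.Rank3Simple

/-!
# A simplicity criterion for rank 3 permutation groups

`G` is a transitive permutation group; a subgroup `H` of the stabilizer of `x0` is transitive on
two sets `A`, `B` covering the remaining points; neither `|A| + 1` nor `|B| + 1` divides the degree;
`p ^ k` divides the degree, `p ^ (k + 1)` does not divide `|G|`, and `G` is generated by products
of elements of order `p`.  Then `G` is simple.
-/

set_option autoImplicit false

namespace Cfsg.Agent.Lib.Helper28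

namespace Rank3

open MulAction

theorem simple_of_rank3_pgens {α : Type*} [Fintype α] [DecidableEq α]
    (G : Subgroup (Equiv.Perm α)) (x0 : α) (A B : Finset α) (p k : ℕ) (hp : p.Prime)
    (hpk : p ^ k ∣ Fintype.card α) (hG : ¬ p ^ (k + 1) ∣ Nat.card G)
    (hnt : Nontrivial G)
    (htrans : ∀ x, ∃ g ∈ G, g x0 = x)
    (H : Subgroup (Equiv.Perm α)) (hHG : H ≤ G) (hH0 : ∀ h ∈ H, h x0 = x0)
    (hA : ∀ x ∈ A, ∀ y ∈ A, ∃ h ∈ H, h x = y) (hB : ∀ x ∈ B, ∀ y ∈ B, ∃ h ∈ H, h x = y)
    (hcov : ∀ x, x = x0 ∨ x ∈ A ∨ x ∈ B) (hx0A : x0 ∉ A) (hx0B : x0 ∉ B)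
    (hAd : ¬ (A.card + 1) ∣ Fintype.card α) (hBd : ¬ (B.card + 1) ∣ Fintype.card α)
    (T : Set (Equiv.Perm α)) (hT : G ≤ Subgroup.closure T)
    (hT5 : ∀ t ∈ T, ∃ x y, x ∈ G ∧ y ∈ G ∧ x ^ p = 1 ∧ y ^ p = 1 ∧ t = x * y) :
    IsSimpleGroup G := by
  haveI : Nontrivial G := hnt
  haveI : MulAction.IsPretransitive G α := by
    constructor
    intro x y
    obtain ⟨g1, hg1, h1⟩ := htrans x
    obtain ⟨g2, hg2, h2⟩ := htrans y
    refine ⟨⟨g2 * g1⁻¹, G.mul_mem hg2 (G.inv_mem hg1)⟩, ?_⟩
    show (g2 * g1⁻¹) x = y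
    have hinv1 : g1⁻¹ (g1 x0) = x0 := g1.symm_apply_apply x0
    rw [Equiv.Perm.mul_apply, ← h1, hinv1, h2]
  refine ⟨fun N hN => ?_⟩
  by_cases hne : N = ⊥
  · exact Or.inl hne
  right
  haveI := hN
  have hblock : MulAction.IsBlock G (MulAction.orbit N x0) :=
    MulAction.IsBlock.orbit_of_normal x0
  have hdvd : (MulAction.orbit N x0).ncard ∣ Fintype.card α := by
    have := hblock.ncard_dvd_card ⟨x0, MulAction.mem_orbit_self x0⟩
    rwa [Nat.card_eq_fintype_card] at this
  have hinv : ∀ h ∈ H, ∀ y ∈ MulAction.orbit N x0, h y ∈ MulAction.orbit N x0 := by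
    intro h hh y hy
    have hst : (⟨h, hHG hh⟩ : G) ∈ MulAction.stabilizer G x0 := by
      rw [MulAction.mem_stabilizer_iff]
      exact hH0 h hh
    exact orbit_normal_invariant x0 N hN _ hst y hy
  have hAΔ : (∀ a ∈ A, a ∈ MulAction.orbit N x0) ∨ (∀ a ∈ A, a ∉ MulAction.orbit N x0) := by
    by_cases hex : ∃ a ∈ A, a ∈ MulAction.orbit N x0
    · left
      obtain ⟨a, haA, haΔ⟩ := hex
      intro y hy
      obtain ⟨h, hh, hhy⟩ := hA a haA y hy
      rw [← hhy]; exact hinv h hh a haΔ
    · right; push Not at hex; exact hex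
  have hBΔ : (∀ a ∈ B, a ∈ MulAction.orbit N x0) ∨ (∀ a ∈ B, a ∉ MulAction.orbit N x0) := by
    by_cases hex : ∃ a ∈ B, a ∈ MulAction.orbit N x0
    · left
      obtain ⟨a, haA, haΔ⟩ := hex
      intro y hy
      obtain ⟨h, hh, hhy⟩ := hB a haA y hy
      rw [← hhy]; exact hinv h hh a haΔ
    · right; push Not at hex; exact hex
  have hcases : MulAction.orbit N x0 = {x0} ∨ MulAction.orbit N x0 = Set.univ := by
    rcases hAΔ with hA1 | hA0 <;> rcases hBΔ with hB1 | hB0
    · right
      ext x
      simp only [Set.mem_univ, iff_true]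
      rcases hcov x with rfl | hx | hx
      · exact MulAction.mem_orbit_self _
      · exact hA1 x hx
      · exact hB1 x hx
    · exfalso
      apply hAd
      have hset : MulAction.orbit N x0 = insert x0 (A : Set α) := by
        ext x
        constructor
        · intro hx
          rcases hcov x with rfl | hxA | hxB
          · exact Set.mem_insert _ _
          · exact Set.mem_insert_of_mem _ hxA
          · exact absurd hx (hB0 x hxB)
        · intro hx
          rcases Set.mem_insert_iff.mp hx with rfl | hxA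
          · exact MulAction.mem_orbit_self _
          · exact hA1 x hxA
      rw [hset, Set.ncard_insert_of_notMem (by simpa using hx0A) (Set.toFinite _),
        Set.ncard_coe_finset] at hdvd
      exact hdvd
    · exfalso
      apply hBd
      have hset : MulAction.orbit N x0 = insert x0 (B : Set α) := by
        ext x
        constructor
        · intro hx
          rcases hcov x with rfl | hxA | hxB
          · exact Set.mem_insert _ _
          · exact absurd hx (hA0 x hxA)
          · exact Set.mem_insert_of_mem _ hxB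
        · intro hx
          rcases Set.mem_insert_iff.mp hx with rfl | hxB
          · exact MulAction.mem_orbit_self _
          · exact hB1 x hxB
      rw [hset, Set.ncard_insert_of_notMem (by simpa using hx0B) (Set.toFinite _),
        Set.ncard_coe_finset] at hdvd
      exact hdvd
    · left
      ext x
      rw [Set.mem_singleton_iff]
      constructor
      · intro hx
        rcases hcov x with rfl | hxA | hxB
        · rfl
        · exact absurd hx (hA0 x hxA)
        · exact absurd hx (hB0 x hxB)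
      · rintro rfl
        exact MulAction.mem_orbit_self _
  rcases hcases with h1 | h1
  · exfalso
    apply hne
    rw [eq_bot_iff]
    intro n hn
    rw [Subgroup.mem_bot]
    apply Subtype.ext
    apply Equiv.ext
    intro x
    show (n : Equiv.Perm α) x = x
    obtain ⟨g, hg, rfl⟩ := htrans x
    have hconj : (⟨g, hg⟩ : G)⁻¹ * n * (⟨g, hg⟩ : G) ∈ N := by
      have := hN.conj_mem n hn (⟨g, hg⟩ : G)⁻¹
      rwa [inv_inv] at this
    have hfix : ((⟨g, hg⟩ : G)⁻¹ * n * (⟨g, hg⟩ : G)) • x0 ∈ MulAction.orbit N x0 :=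
      ⟨⟨_, hconj⟩, rfl⟩
    rw [h1, Set.mem_singleton_iff] at hfix
    have h2 : (g⁻¹ * (n : Equiv.Perm α) * g) x0 = x0 := hfix
    rw [Equiv.Perm.mul_apply, Equiv.Perm.mul_apply, Equiv.Perm.inv_eq_iff_eq] at h2
    exact h2
  · have hcN := card_eq_orbit_mul_card_inf_stabilizer' N x0
    rw [h1, Set.ncard_univ, Nat.card_eq_fintype_card (α := α)] at hcN
    have hpN : p ^ k ∣ Nat.card N := hpk.trans (Dvd.intro _ hcN.symm)
    have hidx : ¬ p ∣ N.index := by
      intro h
      apply hG
      rw [← Subgroup.card_mul_index N, pow_succ]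
      exact mul_dvd_mul hpN h
    have hpel : ∀ x (hx : x ∈ G), x ^ p = 1 → (⟨x, hx⟩ : G) ∈ N := by
      intro x hx hxp
      rw [← QuotientGroup.eq_one_iff]
      have k1 : ((⟨x, hx⟩ : G) : G ⧸ N) ^ p = 1 := by
        rw [← QuotientGroup.mk_pow]
        have : (⟨x, hx⟩ : G) ^ p = 1 := Subtype.ext hxp
        rw [this]; rfl
      have k2 : orderOf ((⟨x, hx⟩ : G) : G ⧸ N) ∣ p := orderOf_dvd_of_pow_eq_one k1
      have k3 : orderOf ((⟨x, hx⟩ : G) : G ⧸ N) ∣ N.index := by
        rw [Subgroup.index_eq_card]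
        exact orderOf_dvd_natCard _
      rcases (Nat.dvd_prime hp).mp k2 with h | h
      · exact orderOf_eq_one_iff.mp h
      · rw [h] at k3; exact absurd k3 hidx
    rw [eq_top_iff]
    intro g _
    have key : ∀ x ∈ Subgroup.closure T, ∃ h : x ∈ G, (⟨x, h⟩ : G) ∈ N := by
      intro x hx
      induction hx using Subgroup.closure_induction with
      | mem x hx =>
        obtain ⟨a, b, haG, hbG, hap, hbp, rfl⟩ := hT5 x hx
        exact ⟨G.mul_mem haG hbG, N.mul_mem (hpel a haG hap) (hpel b hbG hbp)⟩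
      | one => exact ⟨G.one_mem, N.one_mem⟩
      | mul x y _ _ ihx ihy =>
        obtain ⟨hx, hxN⟩ := ihx
        obtain ⟨hy, hyN⟩ := ihy
        exact ⟨G.mul_mem hx hy, N.mul_mem hxN hyN⟩
      | inv x _ ihx =>
        obtain ⟨hx, hxN⟩ := ihx
        exact ⟨G.inv_mem hx, N.inv_mem hxN⟩
    obtain ⟨_, h⟩ := key _ (hT g.2)
    exact h

end Rank3

end Cfsg.Agent.Lib.Helper28
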