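import Mathlib

/-!
# Farm-out pieces FO-2 and FO-3 for S3894 (helper16)

* `mem_span_of_commute`: the centralizer of a non-scalar `2 × 2` matrix over a field is
  spanned by `1` and the matrix.
* `pow_card_add_one_of_noEig`: a `2 × 2` matrix over a finite field `F_q` without
  eigenvector satisfies `M ^ (q + 1) = det M`.
-/

namespace Cfsg.Agent.Lib.Helper28.NilCovFO23

open Matrix Polynomial

/-- FO-3: the centralizer of a non-scalar `2 × 2` matrix. -/
theorem mem_span_of_commute {F : Type*} [Field F] (M X : Matrix (Fin 2) (Fin 2) F)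
    (hM : ¬ ∃ a : F, M = a • (1 : Matrix (Fin 2) (Fin 2) F)) (h : X * M = M * X) :
    ∃ a b : F, X = a • (1 : Matrix (Fin 2) (Fin 2) F) + b • M := by
  have h00 := congrFun (congrFun h 0) 0
  have h01 := congrFun (congrFun h 0) 1
  have h10 := congrFun (congrFun h 1) 0
  have h11 := congrFun (congrFun h 1) 1
  simp only [Matrix.mul_apply, Fin.sum_univ_two] at h00 h01 h10 h11
  by_cases h1 : M 0 1 = 0
  · by_cases h2 : M 1 0 = 0
    · by_cases h3 : M 0 0 = M 1 1
      · exfalso
        apply hM
        refine ⟨M 0 0, ?_⟩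
        ext i j
        fin_cases i <;> fin_cases j <;> simp [h1, h2, h3]
      · have h3' : M 0 0 - M 1 1 ≠ 0 := sub_ne_zero.mpr h3
        have hx01 : X 0 1 = 0 := by
          have : X 0 1 * (M 0 0 - M 1 1) = 0 := by
            rw [h1] at h01; linear_combination -h01
          rcases mul_eq_zero.mp this with h | h
          · exact h
          · exact absurd h h3'
        have hx10 : X 1 0 = 0 := by
          have : X 1 0 * (M 0 0 - M 1 1) = 0 := by
            rw [h2] at h10; linear_combination h10
          rcases mul_eq_zero.mp this with h | h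
          · exact h
          · exact absurd h h3'
        refine ⟨X 0 0 - (X 0 0 - X 1 1) / (M 0 0 - M 1 1) * M 0 0,
          (X 0 0 - X 1 1) / (M 0 0 - M 1 1), ?_⟩
        ext i j
        fin_cases i <;> fin_cases j <;>
          simp [h1, h2, hx01, hx10] <;> field_simp <;> ring
    · refine ⟨X 0 0 - X 1 0 / M 1 0 * M 0 0, X 1 0 / M 1 0, ?_⟩
      ext i j
      fin_cases i <;> fin_cases j
      · simp
      · simp only [Fin.zero_eta, Fin.mk_one, Matrix.add_apply, Matrix.smul_apply,
          Matrix.one_apply_ne (zero_ne_one' (Fin 2)), smul_eq_mul, mul_zero, zero_add]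
        field_simp
        linear_combination h00
      · simp only [Fin.zero_eta, Fin.mk_one, Matrix.add_apply, Matrix.smul_apply,
          Matrix.one_apply_ne (zero_ne_one' (Fin 2)).symm, smul_eq_mul, mul_zero, zero_add]
        field_simp
      · simp only [Fin.mk_one, Matrix.add_apply, Matrix.smul_apply,
          Matrix.one_apply_eq, smul_eq_mul, mul_one]
        field_simp
        linear_combination h10
  · refine ⟨X 0 0 - X 0 1 / M 0 1 * M 0 0, X 0 1 / M 0 1, ?_⟩
    ext i j
    fin_cases i <;> fin_cases j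
    · simp
    · simp only [Fin.zero_eta, Fin.mk_one, Matrix.add_apply, Matrix.smul_apply,
        Matrix.one_apply_ne (zero_ne_one' (Fin 2)), smul_eq_mul, mul_zero, zero_add]
      field_simp
    · simp only [Fin.zero_eta, Fin.mk_one, Matrix.add_apply, Matrix.smul_apply,
        Matrix.one_apply_ne (zero_ne_one' (Fin 2)).symm, smul_eq_mul, mul_zero, zero_add]
      field_simp
      linear_combination -h00
    · simp only [Fin.mk_one, Matrix.add_apply, Matrix.smul_apply,
        Matrix.one_apply_eq, smul_eq_mul, mul_one]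
      field_simp
      linear_combination -h01

/-- `X ^ q - X` is the product of all `X - c`. -/
theorem prod_X_sub_C_univ (F : Type*) [Field F] [Fintype F] :
    (∏ c : F, (X - C c) : F[X]) = X ^ Fintype.card F - X := by
  have hmonic : (X ^ Fintype.card F - X : F[X]).Monic :=
    monic_X_pow_sub (by rw [degree_X]; exact_mod_cast Fintype.one_lt_card)
  have hroots := FiniteField.roots_X_pow_card_sub_X F
  have hcard : Multiset.card (X ^ Fintype.card F - X : F[X]).roots
      = (X ^ Fintype.card F - X : F[X]).natDegree := by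
    rw [hroots, FiniteField.X_pow_card_sub_X_natDegree_eq F Fintype.one_lt_card]
    simp
  have := prod_multiset_X_sub_C_of_monic_of_roots_card_eq hmonic hcard
  rw [hroots] at this
  exact this

/-- A matrix without eigenvector: every `M - c` is invertible. -/
theorem isUnit_sub_smul_of_noEig {F : Type*} [Field F] (M : Matrix (Fin 2) (Fin 2) F)
    (hM : ∀ v : Fin 2 → F, v ≠ 0 → ∀ c : F, M.mulVec v ≠ c • v) (c : F) :
    IsUnit (M - c • (1 : Matrix (Fin 2) (Fin 2) F)) := by
  rw [Matrix.isUnit_iff_isUnit_det, isUnit_iff_ne_zero]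
  intro hdet
  obtain ⟨v, hv, hv0⟩ := Matrix.exists_mulVec_eq_zero_iff.mpr hdet
  apply hM v hv c
  rw [Matrix.sub_mulVec, Matrix.smul_mulVec, Matrix.one_mulVec, sub_eq_zero] at hv0
  exact hv0

/-- `M ^ q - M` is invertible for a matrix without eigenvector. -/
theorem isUnit_pow_card_sub_of_noEig {F : Type*} [Field F] [Fintype F]
    (M : Matrix (Fin 2) (Fin 2) F)
    (hM : ∀ v : Fin 2 → F, v ≠ 0 → ∀ c : F, M.mulVec v ≠ c • v) :
    IsUnit (M ^ Fintype.card F - M) := by
  classical
  have key : ∀ s : Finset F, IsUnit (aeval M (∏ c ∈ s, (X - C c) : F[X])) := by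
    intro s
    induction s using Finset.induction_on with
    | empty => simp
    | insert a s ha ih =>
      rw [Finset.prod_insert ha, map_mul]
      refine IsUnit.mul ?_ ih
      have : aeval M (X - C a : F[X]) = M - a • (1 : Matrix (Fin 2) (Fin 2) F) := by
        rw [map_sub, aeval_X, aeval_C, Algebra.algebraMap_eq_smul_one]
      rw [this]
      exact isUnit_sub_smul_of_noEig M hM a
  have h := key Finset.univ
  rw [prod_X_sub_C_univ, map_sub, map_pow, aeval_X] at h
  exact h

/-- FO-2: a `2 × 2` matrix over `F_q` without eigenvector has `M ^ (q + 1) = det M`. -/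
theorem pow_card_add_one_of_noEig {F : Type*} [Field F] [Fintype F]
    (M : Matrix (Fin 2) (Fin 2) F)
    (hM : ∀ v : Fin 2 → F, v ≠ 0 → ∀ c : F, M.mulVec v ≠ c • v) :
    M ^ (Fintype.card F + 1) = M.det • (1 : Matrix (Fin 2) (Fin 2) F) := by
  set q := Fintype.card F with hq
  set y := M ^ q with hy
  -- Cayley-Hamilton for `M`
  have hCH : M ^ 2 - M.trace • M + M.det • (1 : Matrix (Fin 2) (Fin 2) F) = 0 := by
    have h := Matrix.aeval_self_charpoly M
    rw [Matrix.charpoly_fin_two] at h
    simpa [Algebra.algebraMap_eq_smul_one, smul_mul_assoc] using h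
  -- and for `y = M ^ q`
  have hCHy : y ^ 2 - M.trace • y + M.det • (1 : Matrix (Fin 2) (Fin 2) F) = 0 := by
    have h : aeval (M ^ q) M.charpoly = 0 := by
      rw [← expand_aeval, FiniteField.expand_card, map_pow, Matrix.aeval_self_charpoly,
        zero_pow Fintype.card_ne_zero]
    rw [Matrix.charpoly_fin_two] at h
    simpa [Algebra.algebraMap_eq_smul_one, smul_mul_assoc] using h
  have hcomm : y * M = M * y := by
    rw [hy, ← pow_succ, ← pow_succ']
  have hprod : (y - M) * (y + M - M.trace • (1 : Matrix (Fin 2) (Fin 2) F)) = 0 := by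
    have : (y - M) * (y + M - M.trace • (1 : Matrix (Fin 2) (Fin 2) F))
        = (y ^ 2 - M.trace • y + M.det • (1 : Matrix (Fin 2) (Fin 2) F))
          - (M ^ 2 - M.trace • M + M.det • (1 : Matrix (Fin 2) (Fin 2) F)) := by
      simp only [sub_mul, mul_sub, mul_add, pow_two, mul_smul_comm, mul_one, hcomm, smul_sub]
      abel
    rw [this, hCH, hCHy, sub_zero]
  have hunit : IsUnit (y - M) := isUnit_pow_card_sub_of_noEig M hM
  have hz : y + M - M.trace • (1 : Matrix (Fin 2) (Fin 2) F) = 0 := by
    have := hunit.mul_right_eq_zero.mp hprod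
    exact this
  have hyval : y = M.trace • (1 : Matrix (Fin 2) (Fin 2) F) - M := by
    rw [eq_sub_iff_add_eq, ← sub_eq_zero]; exact hz
  rw [pow_succ, ← hy, hyval, sub_mul, smul_mul_assoc, one_mul, ← pow_two]
  calc M.trace • M - M ^ 2
      = M.det • (1 : Matrix (Fin 2) (Fin 2) F)
        - (M ^ 2 - M.trace • M + M.det • (1 : Matrix (Fin 2) (Fin 2) F)) := by abel
    _ = M.det • (1 : Matrix (Fin 2) (Fin 2) F) := by rw [hCH, sub_zero]

end Cfsg.Agent.Lib.Helper28.NilCovFO23
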