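import Mathlib
import Cfsg.Agent.Lib.Helper6.FFour
import Cfsg.Agent.Lib.Helper15.PSLSimple
import Cfsg.Agent.Lib.Helper16.PSL42
import Cfsg.Agent.Lib.Helper28.M24Stab
import Cfsg.Agent.Lib.Helper28.M24Multi
import Cfsg.Agent.Lib.Helper28.DataL34

set_option autoImplicit false
set_option linter.style.haveILetI false
set_option linter.unusedSimpArgs false
set_option linter.unusedSectionVars false
set_option linter.unusedVariables false

/-!
The stabiliser of three points in `M24` is `PSL(3, 4)`: the action of `SL(3, 4)` on the 21 points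
of the projective plane over the field with four elements, labelled by the 21 remaining points.
-/

namespace Cfsg.Agent.Lib.Helper28

open Cfsg MulAction Matrix
open Cfsg.Agent.Lib.Helper6.FFour

/-- vectors of length three over the field with four elements -/
abbrev V3 : Type := Fin 3 → K4

/-- the matrix of an element of `SL(3, 4)` -/
local notation:1024 "↑ₘ" A:1024 => ((A : Matrix.SpecialLinearGroup (Fin 3) K4) : Matrix (Fin 3) (Fin 3) K4)

theorem perm_inv_apply (f : Equiv.Perm GolayPt) (x : GolayPt) : f⁻¹ (f x) = x :=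
  f.symm_apply_apply x

theorem v3_eta (v : V3) : v = ![v 0, v 1, v 2] := by
  funext i; fin_cases i <;> rfl

/-- the first non-zero coefficient -/
def lead (v : V3) : K4 := if v 0 ≠ 0 then v 0 else if v 1 ≠ 0 then v 1 else v 2

/-- normalisation: divide by the first non-zero coefficient -/
def nrm (v : V3) : V3 := fun i => (lead v)⁻¹ * v i

theorem nrm_eq_smul (v : V3) : nrm v = (lead v)⁻¹ • v := by
  funext i; rfl

theorem lead_ne_zero_aux : ∀ a b c : K4, ![a, b, c] ≠ (0 : V3) → lead ![a, b, c] ≠ 0 := by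
  decide

theorem lead_ne_zero (v : V3) (hv : v ≠ 0) : lead v ≠ 0 := by
  obtain ⟨a, b, c, rfl⟩ : ∃ a b c, v = ![a, b, c] := ⟨v 0, v 1, v 2, v3_eta v⟩
  exact lead_ne_zero_aux a b c hv

theorem nrm_smul_aux : ∀ k a b c : K4, k ≠ 0 → nrm (k • ![a, b, c]) = nrm ![a, b, c] := by
  decide

theorem nrm_smul {k : K4} (hk : k ≠ 0) (v : V3) : nrm (k • v) = nrm v := by
  obtain ⟨a, b, c, rfl⟩ : ∃ a b c, v = ![a, b, c] := ⟨v 0, v 1, v 2, v3_eta v⟩
  exact nrm_smul_aux k a b c hk

/-- codes of the field elements -/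
def c4 : K4 → ℕ
  | K4.o => 0
  | K4.i => 1
  | K4.w => 2
  | K4.v => 3

/-- field elements of the codes -/
def d4 : ℕ → K4
  | 0 => K4.o
  | 1 => K4.i
  | 2 => K4.w
  | _ => K4.v

/-- the vector of a point (zero for the three fixed points) -/
def vec (x : GolayPt) : V3 :=
  ![d4 (l34_vecTab.getD (ptInv x).val 0 / 16), d4 (l34_vecTab.getD (ptInv x).val 0 / 4 % 4),
    d4 (l34_vecTab.getD (ptInv x).val 0 % 4)]

/-- the point of a normalised vector -/
def lab (v : V3) : GolayPt := ptN (l34_labTab.getD (16 * c4 (v 0) + 4 * c4 (v 1) + c4 (v 2)) 0)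

/-- matrix times vector, written out -/
def mv3 (A : Matrix (Fin 3) (Fin 3) K4) (v : V3) : V3 :=
  ![A 0 0 * v 0 + A 0 1 * v 1 + A 0 2 * v 2, A 1 0 * v 0 + A 1 1 * v 1 + A 1 2 * v 2,
    A 2 0 * v 0 + A 2 1 * v 1 + A 2 2 * v 2]

theorem mv3_eq (A : Matrix (Fin 3) (Fin 3) K4) (v : V3) : mv3 A v = A *ᵥ v := by
  funext i
  fin_cases i <;> simp [mv3, Matrix.mulVec, dotProduct, Fin.sum_univ_three]

/-- the action on points -/
def psiFun (A : Matrix (Fin 3) (Fin 3) K4) (x : GolayPt) : GolayPt :=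
  if vec x = 0 then x else lab (nrm (mv3 A (vec x)))

set_option maxRecDepth 100000 in
theorem vec_cases : ∀ x : GolayPt, vec x = 0 ∨ (nrm (vec x) = vec x ∧ lab (vec x) = x) := by
  decide

set_option maxRecDepth 100000 in
theorem vec_lab_nrm_aux : ∀ a b c : K4, ![a, b, c] ≠ (0 : V3) →
    vec (lab (nrm ![a, b, c])) = nrm ![a, b, c] ∧ nrm ![a, b, c] ≠ 0 := by
  decide

theorem vec_lab_nrm (v : V3) (hv : v ≠ 0) : vec (lab (nrm v)) = nrm v ∧ nrm v ≠ 0 := by
  obtain ⟨a, b, c, rfl⟩ : ∃ a b c, v = ![a, b, c] := ⟨v 0, v 1, v 2, v3_eta v⟩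
  exact vec_lab_nrm_aux a b c hv

theorem mv3_mul (A B : Matrix (Fin 3) (Fin 3) K4) (v : V3) : mv3 (A * B) v = mv3 A (mv3 B v) := by
  rw [mv3_eq, mv3_eq, mv3_eq, Matrix.mulVec_mulVec]

theorem mv3_smul (A : Matrix (Fin 3) (Fin 3) K4) (k : K4) (v : V3) :
    mv3 A (k • v) = k • mv3 A v := by
  rw [mv3_eq, mv3_eq, Matrix.mulVec_smul]

theorem mv3_one (v : V3) : mv3 1 v = v := by
  rw [mv3_eq, Matrix.one_mulVec]

theorem mv3_zero (A : Matrix (Fin 3) (Fin 3) K4) : mv3 A 0 = 0 := by
  rw [mv3_eq, Matrix.mulVec_zero]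

theorem mv3_ne_zero (B : Matrix.SpecialLinearGroup (Fin 3) K4) {v : V3} (hv : v ≠ 0) :
    mv3 ↑ₘB v ≠ 0 := by
  intro h
  apply hv
  have h1 : mv3 ↑ₘ(B⁻¹ * B) v = mv3 ↑ₘ(B⁻¹) (mv3 ↑ₘB v) := by
    rw [Matrix.SpecialLinearGroup.coe_mul, mv3_mul]
  rw [h, mv3_zero, inv_mul_cancel, Matrix.SpecialLinearGroup.coe_one, mv3_one] at h1
  exact h1

theorem psiFun_mul (A B : Matrix.SpecialLinearGroup (Fin 3) K4) (x : GolayPt) :
    psiFun ↑ₘ(A * B) x = psiFun ↑ₘA (psiFun ↑ₘB x) := by
  by_cases hx : vec x = 0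
  · have h1 : ∀ C : Matrix (Fin 3) (Fin 3) K4, psiFun C x = x := fun C => if_pos hx
    rw [h1, h1, h1]
  · have hu : mv3 ↑ₘB (vec x) ≠ 0 := mv3_ne_zero B hx
    have h1 : psiFun ↑ₘB x = lab (nrm (mv3 ↑ₘB (vec x))) := if_neg hx
    have h2 := vec_lab_nrm _ hu
    rw [h1]
    unfold psiFun
    rw [if_neg hx, if_neg (by rw [h2.1]; exact h2.2), h2.1]
    congr 1
    rw [nrm_eq_smul (mv3 ↑ₘB (vec x)), mv3_smul,
      nrm_smul (inv_ne_zero (lead_ne_zero _ hu)), Matrix.SpecialLinearGroup.coe_mul, mv3_mul]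

theorem psiFun_one (x : GolayPt) : psiFun ↑ₘ(1 : Matrix.SpecialLinearGroup (Fin 3) K4) x = x := by
  by_cases hx : vec x = 0
  · exact if_pos hx
  · rcases vec_cases x with h | ⟨h1, h2⟩
    · exact absurd h hx
    · unfold psiFun
      rw [if_neg hx, Matrix.SpecialLinearGroup.coe_one, mv3_one, h1, h2]

/-- the action of `SL(3, 4)` on the 24 points -/
def psi : Matrix.SpecialLinearGroup (Fin 3) K4 →* Equiv.Perm GolayPt where
  toFun A := ⟨psiFun ↑ₘA, psiFun ↑ₘ(A⁻¹),
    fun x => by rw [← psiFun_mul, inv_mul_cancel, psiFun_one],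
    fun x => by rw [← psiFun_mul, mul_inv_cancel, psiFun_one]⟩
  map_one' := Equiv.ext psiFun_one
  map_mul' A B := Equiv.ext (psiFun_mul A B)

theorem psi_apply (A : Matrix.SpecialLinearGroup (Fin 3) K4) (x : GolayPt) : psi A x = psiFun ↑ₘA x := rfl

theorem psi_fix (A : Matrix.SpecialLinearGroup (Fin 3) K4) {x : GolayPt} (hx : vec x = 0) :
    psi A x = x := if_pos hx

theorem vec_fixed : vec (ptN 23) = 0 ∧ vec (ptN 0) = 0 ∧ vec (ptN 1) = 0 := by decide

/-! ### transvections -/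

/-- the image list of a transvection -/
def tvList (i j : Fin 3) (c : K4) : List ℕ := l34_tvTab.getD (12 * i.val + 4 * j.val + c4 c) []

theorem tvList_mem : ∀ (i j : Fin 3) (c : K4), tvList i j c ∈ l34_tvTab := by decide

set_option maxRecDepth 100000 in
theorem tv_table : ∀ (i j : Fin 3) (c : K4), i ≠ j → ∀ a : Fin 24,
    psiFun (Matrix.transvection i j c) (Helper4.pt a) =
      Helper4.pt (tabOfList (tvList i j c) a) := by
  decide +kernel

theorem psi_transvection_mem {i j : Fin 3} (hij : i ≠ j) (c : K4) :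
    psi (Matrix.SpecialLinearGroup.transvection hij c) ∈ M24 :=
  mem_M24_of_table _ (tabOfList (tvList i j c)) (fun a => tv_table i j c hij a)
    (l34_tv_check _ (tvList_mem i j c)).2

theorem psi_mem (A : Matrix.SpecialLinearGroup (Fin 3) K4) : psi A ∈ M24 := by
  refine Cfsg.Agent.Lib.Helper15.SLn_transvection_induction (fun A => psi A ∈ M24) ?_ ?_ A
  · intro i j hij c
    exact psi_transvection_mem hij c
  · intro A B hA hB
    rw [map_mul]
    exact mul_mem hA hB

theorem psi_transvection_ne_one :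
    psi (Matrix.SpecialLinearGroup.transvection (show (0 : Fin 3) ≠ 1 by decide) (1 : K4)) ≠ 1 := by
  intro h
  have h1 := tv_table 0 1 1 (by decide) 3
  have h2 : psi (Matrix.SpecialLinearGroup.transvection (show (0 : Fin 3) ≠ 1 by decide) (1 : K4))
      (Helper4.pt 3) = Helper4.pt 3 := by rw [h]; rfl
  rw [psi_apply] at h2
  have h3 : ↑ₘ(Matrix.SpecialLinearGroup.transvection (show (0 : Fin 3) ≠ 1 by decide) (1 : K4)) =
      Matrix.transvection 0 1 1 := rfl
  rw [h3, h1] at h2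
  revert h2
  decide

/-! ### scalars -/

theorem mv3_scalar (c : K4) (v : V3) : mv3 (Matrix.scalar (Fin 3) c) v = c • v := by
  funext i
  fin_cases i <;> simp [mv3, Matrix.scalar_apply, Matrix.diagonal_apply]

theorem psi_scalar (B : Matrix.SpecialLinearGroup (Fin 3) K4) (c : K4) (hc : c ≠ 0)
    (hB : ↑ₘB = Matrix.scalar (Fin 3) c) : psi B = 1 := by
  apply Equiv.ext
  intro x
  rw [psi_apply, Equiv.Perm.one_apply]
  by_cases hx : vec x = 0
  · exact if_pos hx
  · rcases vec_cases x with h | ⟨h1, h2⟩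
    · exact absurd h hx
    · unfold psiFun
      rw [if_neg hx, hB, mv3_scalar, nrm_smul hc, h1, h2]

/-! ### an arbitrary field with four elements -/

section Field

variable {F : Type} [Field F] [Fintype F]

theorem card_K4 : Fintype.card K4 = 4 := by decide

/-- the action of `SL(3, F)` -/
noncomputable def psiF (hF : Fintype.card F = 4) :
    Matrix.SpecialLinearGroup (Fin 3) F →* Equiv.Perm GolayPt :=
  psi.comp (Matrix.SpecialLinearGroup.map
    (FiniteField.ringEquivOfCardEq (hF.trans card_K4.symm) : F ≃+* K4).toRingHom)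

theorem psiF_apply (hF : Fintype.card F = 4) (A : Matrix.SpecialLinearGroup (Fin 3) F) :
    psiF hF A = psi (Matrix.SpecialLinearGroup.map
      (FiniteField.ringEquivOfCardEq (hF.trans card_K4.symm) : F ≃+* K4).toRingHom A) := rfl

theorem map_transvection {R S : Type*} [CommRing R] [CommRing S] (f : R →+* S) {i j : Fin 3}
    (hij : i ≠ j) (c : R) :
    Matrix.SpecialLinearGroup.map f (Matrix.SpecialLinearGroup.transvection hij c) =
      Matrix.SpecialLinearGroup.transvection hij (f c) := by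
  apply Subtype.ext
  rw [Matrix.SpecialLinearGroup.map_apply_coe, RingHom.mapMatrix_apply]
  show (Matrix.transvection i j c).map f = Matrix.transvection i j (f c)
  ext a b
  simp only [Matrix.transvection, Matrix.map_apply, Matrix.add_apply, Matrix.one_apply,
    Matrix.single_apply, map_add]
  split_ifs <;> simp

theorem psiF_mem (hF : Fintype.card F = 4) (A : Matrix.SpecialLinearGroup (Fin 3) F) :
    psiF hF A ∈ M24 := by
  rw [psiF_apply]
  exact psi_mem _

theorem psiF_fix (hF : Fintype.card F = 4) (A : Matrix.SpecialLinearGroup (Fin 3) F) {x : GolayPt}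
    (hx : vec x = 0) : psiF hF A x = x := by
  rw [psiF_apply]
  exact psi_fix _ hx

theorem center_le_ker (hF : Fintype.card F = 4) :
    Subgroup.center (Matrix.SpecialLinearGroup (Fin 3) F) ≤ (psiF hF).ker := by
  intro A hA
  rw [MonoidHom.mem_ker, psiF_apply]
  obtain ⟨r, hr, hrA⟩ := Matrix.SpecialLinearGroup.mem_center_iff.mp hA
  have hr0 : r ≠ 0 := by
    rintro rfl
    simp at hr
  set e : F ≃+* K4 := FiniteField.ringEquivOfCardEq (hF.trans card_K4.symm) with he
  apply psi_scalar _ (e r) ((map_ne_zero_iff e e.injective).mpr hr0)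
  rw [Matrix.SpecialLinearGroup.map_apply_coe, RingHom.mapMatrix_apply, ← hrA]
  ext a b
  simp only [Matrix.map_apply, Matrix.scalar_apply, Matrix.diagonal_apply]
  split_ifs <;> simp

/-- the induced action of `PSL(3, F)` -/
noncomputable def psiBar (hF : Fintype.card F = 4) :
    Matrix.ProjectiveSpecialLinearGroup (Fin 3) F →* Equiv.Perm GolayPt :=
  QuotientGroup.lift _ (psiF hF) (center_le_ker hF)

theorem psiBar_mk (hF : Fintype.card F = 4) (A : Matrix.SpecialLinearGroup (Fin 3) F) :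
    psiBar hF (QuotientGroup.mk A) = psiF hF A := rfl

theorem psiBar_mem (hF : Fintype.card F = 4) (y : Matrix.ProjectiveSpecialLinearGroup (Fin 3) F) :
    psiBar hF y ∈ M24 := by
  obtain ⟨A, rfl⟩ := QuotientGroup.mk_surjective y
  rw [psiBar_mk]
  exact psiF_mem hF A

theorem psiBar_fix (hF : Fintype.card F = 4) (y : Matrix.ProjectiveSpecialLinearGroup (Fin 3) F)
    {x : GolayPt} (hx : vec x = 0) : psiBar hF y x = x := by
  obtain ⟨A, rfl⟩ := QuotientGroup.mk_surjective y
  rw [psiBar_mk]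
  exact psiF_fix hF A hx

theorem psiBar_injective (hF : Fintype.card F = 4) : Function.Injective (psiBar hF) := by
  haveI : IsSimpleGroup (Matrix.ProjectiveSpecialLinearGroup (Fin 3) F) :=
    Cfsg.Agent.Lib.Helper15.PSLn_isSimpleGroup (by rw [Fintype.card_fin])
  rw [← MonoidHom.ker_eq_bot_iff]
  rcases (psiBar hF).normal_ker.eq_bot_or_eq_top with h | h
  · exact h
  · exfalso
    have h1 : (QuotientGroup.mk (Matrix.SpecialLinearGroup.transvection
        (show (0 : Fin 3) ≠ 1 by decide) (1 : F)) :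
        Matrix.ProjectiveSpecialLinearGroup (Fin 3) F) ∈ (psiBar hF).ker := by
      rw [h]; exact Subgroup.mem_top _
    rw [MonoidHom.mem_ker, psiBar_mk, psiF_apply, map_transvection] at h1
    apply psi_transvection_ne_one
    rw [← h1]
    congr 1
    simp

end Field

/-! ### the three-point stabiliser -/

theorem m21_iso_psl34 (p q r : GolayPt) (hpq : p ≠ q) (hpr : p ≠ r) (hqr : q ≠ r)
    (F : Type) [Field F] [Fintype F] (hF : Fintype.card F = 4) :
    Nonempty (↥(stabilizer M24 p ⊓ stabilizer M24 q ⊓ stabilizer M24 r) ≃*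
      Matrix.ProjectiveSpecialLinearGroup (Fin 3) F) := by
  classical
  obtain ⟨g, hg, hgl⟩ := M24_exists_map_list [ptN 23, ptN 0, ptN 1] [p, q, r]
    (by decide) (by simp [hpq, hpr, hqr]) rfl (by norm_num)
  simp only [List.map_cons, List.map_nil, List.cons.injEq, and_true] at hgl
  obtain ⟨hgp, hgq, hgr⟩ := hgl
  -- the conjugated action
  let Φ₀ : Matrix.ProjectiveSpecialLinearGroup (Fin 3) F →* Equiv.Perm GolayPt :=
    (MulAut.conj g).toMonoidHom.comp (psiBar hF)
  have hΦ₀ : ∀ y, Φ₀ y = g * psiBar hF y * g⁻¹ := fun y => rfl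
  have hmem : ∀ y, Φ₀ y ∈ M24 := by
    intro y
    rw [hΦ₀]
    exact mul_mem (mul_mem hg (psiBar_mem hF y)) (inv_mem hg)
  have hfix : ∀ y (x₀ x : GolayPt), vec x₀ = 0 → g x₀ = x → Φ₀ y x = x := by
    intro y x₀ x hx₀ hgx
    rw [hΦ₀, Equiv.Perm.mul_apply, Equiv.Perm.mul_apply, ← hgx, perm_inv_apply,
      psiBar_fix hF y hx₀]
  let Φ₁ : Matrix.ProjectiveSpecialLinearGroup (Fin 3) F →* ↥M24 := Φ₀.codRestrict M24 hmem
  have hΦ₁ : ∀ y, ((Φ₁ y : ↥M24) : Equiv.Perm GolayPt) = Φ₀ y := fun y => rfl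
  have hmem₁ : ∀ y, Φ₁ y ∈ stabilizer M24 p ⊓ stabilizer M24 q ⊓ stabilizer M24 r := by
    intro y
    rw [Subgroup.mem_inf, Subgroup.mem_inf, mem_stabilizer_iff, mem_stabilizer_iff,
      mem_stabilizer_iff]
    refine ⟨⟨?_, ?_⟩, ?_⟩
    · exact hfix y _ _ vec_fixed.1 hgp
    · exact hfix y _ _ vec_fixed.2.1 hgq
    · exact hfix y _ _ vec_fixed.2.2 hgr
  let Φ₂ : Matrix.ProjectiveSpecialLinearGroup (Fin 3) F →*
      ↥(stabilizer M24 p ⊓ stabilizer M24 q ⊓ stabilizer M24 r) := Φ₁.codRestrict _ hmem₁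
  have hinj : Function.Injective Φ₂ := by
    intro y y' h
    have h1 : Φ₀ y = Φ₀ y' := by
      have := congrArg (fun z : ↥(stabilizer M24 p ⊓ stabilizer M24 q ⊓ stabilizer M24 r) =>
        ((z : ↥M24) : Equiv.Perm GolayPt)) h
      exact this
    rw [hΦ₀, hΦ₀] at h1
    have h2 : psiBar hF y = psiBar hF y' := by
      have := mul_right_cancel (mul_left_cancel h1)
      exact this
    exact psiBar_injective hF h2
  have hbij : Function.Bijective Φ₂ := by
    rw [Nat.bijective_iff_injective_and_card]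
    refine ⟨hinj, ?_⟩
    rw [Cfsg.Agent.Lib.Helper16.card_PSL34 hF, card_stabilizer_inf3_M24 p q r hpq hpr hqr]
  exact ⟨(MulEquiv.ofBijective Φ₂ hbij).symm⟩

end Cfsg.Agent.Lib.Helper28
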