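import Mathlib
import Cfsg.Prelude.Def_GeometricClasses
import Cfsg.Agent.Lib.Helper18.MonDefs
import Cfsg.Agent.Lib.Helper13.TransvSL

/-!
# MonMax FO-LIFT-a / FO-LIFT-b (helper28, for helper18's MonMax skeleton)

`bdM lam B` : the block matrix `[[lam, 0], [0, B]]` of size `m+1`; `bd lam hlam B` the element of `GL`.
`exists_block_group`, `exists_tv_of_mono_block` : exact signatures of the skeleton
`notes/MonMaxSkel_helper18.lean.txt`.
-/

set_option autoImplicit false

namespace Cfsg.Agent.Lib.Helper28.MonLift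

open Matrix Cfsg.Agent.Lib.Helper18.Mon Cfsg.Agent.Lib.Helper13

variable {F : Type*} [Field F]

/-- the block matrix `[[lam, 0], [0, B]]` -/
def bdM {m : ℕ} (lam : F) (B : Matrix (Fin m) (Fin m) F) : Matrix (Fin (m + 1)) (Fin (m + 1)) F :=
  Matrix.of fun i j =>
    Fin.cases (Fin.cases lam (fun _ => 0) j) (fun i' => Fin.cases 0 (fun j' => B i' j') j) i

section bdM
variable {m : ℕ}

@[simp] theorem bdM_zero_zero (lam : F) (B : Matrix (Fin m) (Fin m) F) : bdM lam B 0 0 = lam := rfl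
@[simp] theorem bdM_zero_succ (lam : F) (B : Matrix (Fin m) (Fin m) F) (j : Fin m) :
    bdM lam B 0 j.succ = 0 := rfl
@[simp] theorem bdM_succ_zero (lam : F) (B : Matrix (Fin m) (Fin m) F) (i : Fin m) :
    bdM lam B i.succ 0 = 0 := rfl
@[simp] theorem bdM_succ_succ (lam : F) (B : Matrix (Fin m) (Fin m) F) (i j : Fin m) :
    bdM lam B i.succ j.succ = B i j := rfl

theorem bdM_mul (a b : F) (A B : Matrix (Fin m) (Fin m) F) :
    bdM a A * bdM b B = bdM (a * b) (A * B) := by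
  ext i j
  rw [Matrix.mul_apply, Fin.sum_univ_succ]
  refine Fin.cases ?_ (fun i' => ?_) i <;> refine Fin.cases ?_ (fun j' => ?_) j
  · simp
  · simp
  · simp
  · simp [Matrix.mul_apply]

theorem bdM_one : bdM (1 : F) (1 : Matrix (Fin m) (Fin m) F) = 1 := by
  ext i j
  refine Fin.cases ?_ (fun i' => ?_) i <;> refine Fin.cases ?_ (fun j' => ?_) j
  · simp
  · rw [bdM_zero_succ, Matrix.one_apply_ne (Fin.succ_ne_zero j').symm]
  · rw [bdM_succ_zero, Matrix.one_apply_ne (Fin.succ_ne_zero i')]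
  · rw [bdM_succ_succ, Matrix.one_apply, Matrix.one_apply]
    simp [Fin.succ_inj]

theorem det_bdM (lam : F) (B : Matrix (Fin m) (Fin m) F) : (bdM lam B).det = lam * B.det := by
  rw [Matrix.det_succ_row_zero, Fin.sum_univ_succ]
  have h0 : (bdM lam B).submatrix Fin.succ (Fin.succAbove 0) = B := by
    ext i j
    simp [Fin.succAbove_zero]
  rw [h0, Finset.sum_eq_zero]
  · simp
  · intro j _
    rw [bdM_zero_succ, mul_zero, zero_mul]

end bdM

/-- the block-diagonal element `[[lam, 0], [0, B]]` of `GL (Fin (m+1)) F` -/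
noncomputable def bd {m : ℕ} (lam : F) (hlam : lam ≠ 0) (B : GL (Fin m) F) : GL (Fin (m + 1)) F :=
  ⟨bdM lam (B : Matrix (Fin m) (Fin m) F), bdM lam⁻¹ ((B⁻¹ : GL (Fin m) F) : Matrix (Fin m) (Fin m) F),
    by rw [bdM_mul, mul_inv_cancel₀ hlam, ← Units.val_mul, mul_inv_cancel, Units.val_one, bdM_one],
    by rw [bdM_mul, inv_mul_cancel₀ hlam, ← Units.val_mul, inv_mul_cancel, Units.val_one, bdM_one]⟩

section bd
variable {m : ℕ}

theorem bd_val (lam : F) (hlam : lam ≠ 0) (B : GL (Fin m) F) :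
    ((bd lam hlam B : GL (Fin (m + 1)) F) : Matrix (Fin (m + 1)) (Fin (m + 1)) F) =
      bdM lam (B : Matrix (Fin m) (Fin m) F) := rfl

theorem bd_inv_val (lam : F) (hlam : lam ≠ 0) (B : GL (Fin m) F) :
    (((bd lam hlam B)⁻¹ : GL (Fin (m + 1)) F) : Matrix (Fin (m + 1)) (Fin (m + 1)) F) =
      bdM lam⁻¹ ((B⁻¹ : GL (Fin m) F) : Matrix (Fin m) (Fin m) F) := rfl

theorem det_bd (lam : F) (hlam : lam ≠ 0) (B : GL (Fin m) F) :
    ((bd lam hlam B : GL (Fin (m + 1)) F) : Matrix (Fin (m + 1)) (Fin (m + 1)) F).det =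
      lam * (B : Matrix (Fin m) (Fin m) F).det := by
  rw [bd_val, det_bdM]

/-- `[[lam,0],[0,B]]` is monomial if `B` is -/
theorem isMono_bd (lam : F) (hlam : lam ≠ 0) (B : GL (Fin m) F)
    (hB : IsMono (B : Matrix (Fin m) (Fin m) F)) :
    IsMono ((bd lam hlam B : GL (Fin (m + 1)) F) : Matrix (Fin (m + 1)) (Fin (m + 1)) F) := by
  obtain ⟨π, hπ⟩ := hB
  apply isMono_of_colSparse
  intro c
  refine Fin.cases ?_ (fun c' => ?_) c
  · refine ⟨0, fun l hl => ?_⟩
    obtain ⟨l', rfl⟩ := Fin.exists_succ_eq.mpr hl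
    rw [bd_val, bdM_succ_zero]
  · refine ⟨(π c').succ, fun l => ?_⟩
    refine Fin.cases ?_ (fun l' => ?_) l
    · intro _
      rw [bd_val, bdM_zero_succ]
    · intro hl
      rw [bd_val, bdM_succ_succ]
      by_contra hne
      exact hl (by rw [hπ l' c' hne])

theorem Over.bd_mem {K : Subgroup (GL (Fin (m + 1)) F)} (hK : Over K) (lam : F) (hlam : lam ≠ 0)
    (B : GL (Fin m) F) (hB : IsMono (B : Matrix (Fin m) (Fin m) F))
    (hdet : lam * (B : Matrix (Fin m) (Fin m) F).det = 1) : bd lam hlam B ∈ K :=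
  hK.mul_mono (isMono_bd lam hlam B hB) (by rw [det_bd, hdet])

end bd

/-! ### products of matrices with zero first column below the top -/

section blk
variable {m : ℕ}

theorem mul_succ_zero (P Q : Matrix (Fin (m + 1)) (Fin (m + 1)) F)
    (hP : ∀ l : Fin m, P l.succ 0 = 0) (hQ : ∀ l : Fin m, Q l.succ 0 = 0) (i : Fin m) :
    (P * Q) i.succ 0 = 0 := by
  rw [Matrix.mul_apply, Fin.sum_univ_succ, hP i, zero_mul, zero_add]
  apply Finset.sum_eq_zero
  intro l _
  rw [hQ l, mul_zero]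

theorem mul_succ_succ (P Q : Matrix (Fin (m + 1)) (Fin (m + 1)) F)
    (hP : ∀ l : Fin m, P l.succ 0 = 0) (i j : Fin m) :
    (P * Q) i.succ j.succ = ∑ l : Fin m, P i.succ l.succ * Q l.succ j.succ := by
  rw [Matrix.mul_apply, Fin.sum_univ_succ, hP i, zero_mul, zero_add]

/-- the `(0,0)` entry of an invertible matrix with zero first column below the top is nonzero -/
theorem apply_zero_zero_ne (k : GL (Fin (m + 1)) F)
    (hk : ∀ l : Fin m, (k : Matrix (Fin (m + 1)) (Fin (m + 1)) F) l.succ 0 = 0) :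
    (k : Matrix (Fin (m + 1)) (Fin (m + 1)) F) 0 0 ≠ 0 := by
  intro h0
  have h1 : ((k⁻¹ : GL (Fin (m + 1)) F) : Matrix (Fin (m + 1)) (Fin (m + 1)) F) *
      (k : Matrix (Fin (m + 1)) (Fin (m + 1)) F) = 1 := by
    rw [← Units.val_mul, inv_mul_cancel, Units.val_one]
  have h2 := congrFun (congrFun h1 0) 0
  rw [Matrix.mul_apply, Matrix.one_apply_eq, Fin.sum_univ_succ, h0, mul_zero, zero_add,
    Finset.sum_eq_zero (fun l _ => by rw [hk l, mul_zero])] at h2
  exact zero_ne_one h2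

/-- the inverse also has zero first column below the top -/
theorem inv_succ_zero (k : GL (Fin (m + 1)) F)
    (hk : ∀ l : Fin m, (k : Matrix (Fin (m + 1)) (Fin (m + 1)) F) l.succ 0 = 0) (i : Fin m) :
    ((k⁻¹ : GL (Fin (m + 1)) F) : Matrix (Fin (m + 1)) (Fin (m + 1)) F) i.succ 0 = 0 := by
  have h1 : ((k⁻¹ : GL (Fin (m + 1)) F) : Matrix (Fin (m + 1)) (Fin (m + 1)) F) *
      (k : Matrix (Fin (m + 1)) (Fin (m + 1)) F) = 1 := by
    rw [← Units.val_mul, inv_mul_cancel, Units.val_one]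
  have h2 := congrFun (congrFun h1 i.succ) 0
  rw [Matrix.mul_apply, Matrix.one_apply_ne (Fin.succ_ne_zero i), Fin.sum_univ_succ,
    Finset.sum_eq_zero (fun l _ => by rw [hk l, mul_zero]), add_zero] at h2
  rcases mul_eq_zero.mp h2 with h3 | h3
  · exact h3
  · exact absurd h3 (apply_zero_zero_ne k hk)

/-- the lower right block of `k` (zero first column below the top) as an element of `GL` -/
theorem exists_blk (k : GL (Fin (m + 1)) F)
    (hk : ∀ l : Fin m, (k : Matrix (Fin (m + 1)) (Fin (m + 1)) F) l.succ 0 = 0) :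
    ∃ B : GL (Fin m) F,
      (∀ i j : Fin m, (k : Matrix (Fin (m + 1)) (Fin (m + 1)) F) i.succ j.succ =
        (B : Matrix (Fin m) (Fin m) F) i j) ∧
      (∀ i j : Fin m, ((k⁻¹ : GL (Fin (m + 1)) F) : Matrix (Fin (m + 1)) (Fin (m + 1)) F) i.succ j.succ =
        ((B⁻¹ : GL (Fin m) F) : Matrix (Fin m) (Fin m) F) i j) := by
  have hki := inv_succ_zero k hk
  have h1 : ((k⁻¹ : GL (Fin (m + 1)) F) : Matrix (Fin (m + 1)) (Fin (m + 1)) F) *
      (k : Matrix (Fin (m + 1)) (Fin (m + 1)) F) = 1 := by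
    rw [← Units.val_mul, inv_mul_cancel, Units.val_one]
  have h2 : (k : Matrix (Fin (m + 1)) (Fin (m + 1)) F) *
      ((k⁻¹ : GL (Fin (m + 1)) F) : Matrix (Fin (m + 1)) (Fin (m + 1)) F) = 1 := by
    rw [← Units.val_mul, mul_inv_cancel, Units.val_one]
  set P : Matrix (Fin m) (Fin m) F :=
    (k : Matrix (Fin (m + 1)) (Fin (m + 1)) F).submatrix Fin.succ Fin.succ with hP
  set Q : Matrix (Fin m) (Fin m) F :=
    ((k⁻¹ : GL (Fin (m + 1)) F) : Matrix (Fin (m + 1)) (Fin (m + 1)) F).submatrix Fin.succ Fin.succ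
    with hQ
  have hPQ : P * Q = 1 := by
    ext i j
    have := mul_succ_succ (k : Matrix (Fin (m + 1)) (Fin (m + 1)) F)
      ((k⁻¹ : GL (Fin (m + 1)) F) : Matrix (Fin (m + 1)) (Fin (m + 1)) F) hk i j
    rw [h2] at this
    rw [Matrix.mul_apply, Matrix.one_apply]
    rw [Matrix.one_apply] at this
    simp only [Fin.succ_inj] at this
    rw [this]
    rfl
  have hQP : Q * P = 1 := by
    ext i j
    have := mul_succ_succ ((k⁻¹ : GL (Fin (m + 1)) F) : Matrix (Fin (m + 1)) (Fin (m + 1)) F)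
      (k : Matrix (Fin (m + 1)) (Fin (m + 1)) F) hki i j
    rw [h1] at this
    rw [Matrix.mul_apply, Matrix.one_apply]
    rw [Matrix.one_apply] at this
    simp only [Fin.succ_inj] at this
    rw [this]
    rfl
  exact ⟨⟨P, Q, hPQ, hQP⟩, fun i j => rfl, fun i j => rfl⟩

end blk

/-! ## FO-LIFT-a -/

variable [Fintype F]

theorem exists_block_group {m : ℕ} (K : Subgroup (GL (Fin (m + 1)) F)) (hK : Over K) :
    ∃ X : Subgroup (GL (Fin m) F),
      (∀ k ∈ K, (∀ l : Fin m, (k : Matrix (Fin (m + 1)) (Fin (m + 1)) F) l.succ 0 = 0) →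
        ∃ B ∈ X, ∀ i j : Fin m, (k : Matrix (Fin (m + 1)) (Fin (m + 1)) F) i.succ j.succ =
          (B : Matrix (Fin m) (Fin m) F) i j) ∧
      (∀ B ∈ X, ∃ k ∈ K,
        (∀ l : Fin m, (k : Matrix (Fin (m + 1)) (Fin (m + 1)) F) l.succ 0 = 0) ∧
        ∀ i j : Fin m, (k : Matrix (Fin (m + 1)) (Fin (m + 1)) F) i.succ j.succ =
          (B : Matrix (Fin m) (Fin m) F) i j) ∧
      (∀ g : GL (Fin m) F, IsMono (g : Matrix (Fin m) (Fin m) F) → g ∈ X) := by
  let X : Subgroup (GL (Fin m) F) :=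
    { carrier := {B | ∃ k ∈ K,
        (∀ l : Fin m, (k : Matrix (Fin (m + 1)) (Fin (m + 1)) F) l.succ 0 = 0) ∧
        ∀ i j : Fin m, (k : Matrix (Fin (m + 1)) (Fin (m + 1)) F) i.succ j.succ =
          (B : Matrix (Fin m) (Fin m) F) i j}
      one_mem' := by
        refine ⟨1, K.one_mem, fun l => ?_, fun i j => ?_⟩
        · rw [Units.val_one, Matrix.one_apply_ne (Fin.succ_ne_zero l)]
        · rw [Units.val_one, Units.val_one, Matrix.one_apply, Matrix.one_apply]
          simp [Fin.succ_inj]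
      mul_mem' := by
        rintro A B ⟨k, hk, hk0, hkA⟩ ⟨k', hk', hk'0, hkB⟩
        refine ⟨k * k', K.mul_mem hk hk', fun l => ?_, fun i j => ?_⟩
        · rw [Units.val_mul]
          exact mul_succ_zero _ _ hk0 hk'0 l
        · rw [Units.val_mul, Units.val_mul, mul_succ_succ _ _ hk0, Matrix.mul_apply]
          apply Finset.sum_congr rfl
          intro l _
          rw [hkA, hkB]
      inv_mem' := by
        rintro A ⟨k, hk, hk0, hkA⟩
        refine ⟨k⁻¹, K.inv_mem hk, inv_succ_zero k hk0, fun i j => ?_⟩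
        obtain ⟨B, hB1, hB2⟩ := exists_blk k hk0
        have hAB : A = B := by
          apply Units.ext
          ext i j
          rw [← hkA, hB1]
        rw [hB2, hAB] }
  refine ⟨X, ?_, ?_, ?_⟩
  · intro k hk hk0
    obtain ⟨B, hB1, _⟩ := exists_blk k hk0
    exact ⟨B, ⟨k, hk, hk0, hB1⟩, hB1⟩
  · intro B hB
    exact hB
  · intro g hg
    have hdet : (g : Matrix (Fin m) (Fin m) F).det ≠ 0 := by
      have := (Matrix.isUnit_iff_isUnit_det _).mp g.isUnit
      exact this.ne_zero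
    refine ⟨bd ((g : Matrix (Fin m) (Fin m) F).det)⁻¹ (inv_ne_zero hdet) g,
      Over.bd_mem hK _ _ g hg (inv_mul_cancel₀ hdet), fun l => ?_, fun i j => ?_⟩
    · rw [bd_val, bdM_succ_zero]
    · rw [bd_val, bdM_succ_succ]

/-! ## FO-LIFT-b -/

theorem exists_tv_of_mono_block {m : ℕ} (hm : 2 ≤ m) (K : Subgroup (GL (Fin (m + 1)) F)) (hK : Over K)
    (k : GL (Fin (m + 1)) F) (hk : k ∈ K)
    (hcol : ∀ l : Fin m, (k : Matrix (Fin (m + 1)) (Fin (m + 1)) F) l.succ 0 = 0)
    (B : GL (Fin m) F) (hB : ∀ i j : Fin m, (k : Matrix (Fin (m + 1)) (Fin (m + 1)) F) i.succ j.succ =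
          (B : Matrix (Fin m) (Fin m) F) i j)
    (hBm : IsMono (B : Matrix (Fin m) (Fin m) F))
    (hkm : ¬ IsMono (k : Matrix (Fin (m + 1)) (Fin (m + 1)) F)) :
    ∃ (φ : Fin (m + 1) → F) (g : GL (Fin (m + 1)) F), φ ≠ 0 ∧ φ 0 = 0 ∧ g ∈ K ∧
      (g : Matrix (Fin (m + 1)) (Fin (m + 1)) F) = tv (Pi.single 0 1) φ := by
  have hlam : (k : Matrix (Fin (m + 1)) (Fin (m + 1)) F) 0 0 ≠ 0 := apply_zero_zero_ne k hcol
  set lam : F := (k : Matrix (Fin (m + 1)) (Fin (m + 1)) F) 0 0 with hlamdef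
  -- det k = lam * det B
  have hdetk : (k : Matrix (Fin (m + 1)) (Fin (m + 1)) F).det = lam * (B : Matrix (Fin m) (Fin m) F).det := by
    rw [Matrix.det_succ_column_zero, Fin.sum_univ_succ]
    have h0 : (k : Matrix (Fin (m + 1)) (Fin (m + 1)) F).submatrix (Fin.succAbove 0) Fin.succ =
        (B : Matrix (Fin m) (Fin m) F) := by
      ext i j
      simp [Fin.succAbove_zero, hB]
    rw [h0, Finset.sum_eq_zero]
    · simp [hlamdef]
    · intro j _
      rw [hcol j, mul_zero, zero_mul]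
  have hdet1 : lam * (B : Matrix (Fin m) (Fin m) F).det = 1 := by
    rw [← hdetk]; exact hK.det_eq_one hk
  have hh : bd lam hlam B ∈ K := Over.bd_mem hK lam hlam B hBm hdet1
  set h : GL (Fin (m + 1)) F := bd lam hlam B with hhdef
  set g : GL (Fin (m + 1)) F := k * h⁻¹ with hgdef
  have hgK : g ∈ K := K.mul_mem hk (K.inv_mem hh)
  have hgval : (g : Matrix (Fin (m + 1)) (Fin (m + 1)) F) =
      (k : Matrix (Fin (m + 1)) (Fin (m + 1)) F) *
        bdM lam⁻¹ ((B⁻¹ : GL (Fin m) F) : Matrix (Fin m) (Fin m) F) := by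
    rw [hgdef, Units.val_mul, hhdef, bd_inv_val]
  have hBB : (B : Matrix (Fin m) (Fin m) F) * ((B⁻¹ : GL (Fin m) F) : Matrix (Fin m) (Fin m) F) = 1 := by
    rw [← Units.val_mul, mul_inv_cancel, Units.val_one]
  -- entries of g
  have g00 : (g : Matrix (Fin (m + 1)) (Fin (m + 1)) F) 0 0 = 1 := by
    rw [hgval, Matrix.mul_apply, Fin.sum_univ_succ, bdM_zero_zero,
      Finset.sum_eq_zero (fun l _ => by rw [bdM_succ_zero, mul_zero]), add_zero]
    exact mul_inv_cancel₀ hlam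
  have gs0 : ∀ i : Fin m, (g : Matrix (Fin (m + 1)) (Fin (m + 1)) F) i.succ 0 = 0 := by
    intro i
    rw [hgval]
    exact mul_succ_zero _ _ hcol (fun l => bdM_succ_zero _ _ l) i
  have gss : ∀ i j : Fin m, (g : Matrix (Fin (m + 1)) (Fin (m + 1)) F) i.succ j.succ =
      (1 : Matrix (Fin m) (Fin m) F) i j := by
    intro i j
    rw [hgval, mul_succ_succ _ _ hcol, ← hBB, Matrix.mul_apply]
    apply Finset.sum_congr rfl
    intro l _
    rw [hB, bdM_succ_succ]
  set φ : Fin (m + 1) → F :=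
    Fin.cons 0 (fun j : Fin m => (g : Matrix (Fin (m + 1)) (Fin (m + 1)) F) 0 j.succ) with hφdef
  have hφ0 : φ 0 = 0 := by rw [hφdef, Fin.cons_zero]
  have hφs : ∀ j : Fin m, φ j.succ = (g : Matrix (Fin (m + 1)) (Fin (m + 1)) F) 0 j.succ := by
    intro j; rw [hφdef, Fin.cons_succ]
  have hgtv : (g : Matrix (Fin (m + 1)) (Fin (m + 1)) F) = tv (Pi.single 0 1) φ := by
    ext i j
    rw [tv, Matrix.add_apply, Matrix.vecMulVec_apply]
    refine Fin.cases ?_ (fun i' => ?_) i <;> refine Fin.cases ?_ (fun j' => ?_) j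
    · rw [g00, hφ0, mul_zero, add_zero, Matrix.one_apply_eq]
    · rw [hφs, Pi.single_eq_same, one_mul, Matrix.one_apply_ne (Fin.succ_ne_zero j').symm, zero_add]
    · rw [gs0, hφ0, mul_zero, add_zero, Matrix.one_apply_ne (Fin.succ_ne_zero i')]
    · rw [gss, Pi.single_eq_of_ne (Fin.succ_ne_zero i'), zero_mul, add_zero, Matrix.one_apply,
        Matrix.one_apply]
      simp [Fin.succ_inj]
  refine ⟨φ, g, ?_, hφ0, hgK, hgtv⟩
  intro hφz
  apply hkm
  have hg1 : g = 1 := by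
    apply Units.ext
    rw [hgtv, hφz, Units.val_one, tv]
    ext i j
    simp
  have hkh : k = h := by
    have : k = g * h := by rw [hgdef, inv_mul_cancel_right]
    rw [this, hg1, one_mul]
  rw [hkh]
  exact isMono_bd lam hlam B hBm

end Cfsg.Agent.Lib.Helper28.MonLift
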