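import Mathlib
import Cfsg.Prelude.Def_KGroupFacts

/-!
# A criterion for an outer automorphism group of order two

Let `G = ⟨a, b⟩` be a finite group in which `⟨a⟩` is a Sylow `p`-subgroup of order `p`, and suppose
that an element `m` conjugates `a` to `a ^ r`, where the powers of `r` and `-1` exhaust the units
modulo `p`.  If the automorphisms fixing `a` are inner and some automorphism that inverts `a` is not
inner, then the outer automorphism group of `G` has order two.
-/

set_option autoImplicit false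

namespace Cfsg.Agent.Lib.Helper28.OutTwo

variable {G : Type*} [Group G]

theorem conj_pow_pow {m a : G} {r : ℕ} (h : m * a * m⁻¹ = a ^ r) (i : ℕ) :
    m ^ i * a * (m ^ i)⁻¹ = a ^ r ^ i := by
  induction i with
  | zero => simp
  | succ i ih =>
    have h1 : m ^ (i + 1) * a * (m ^ (i + 1))⁻¹ = m * (m ^ i * a * (m ^ i)⁻¹) * m⁻¹ := by
      rw [pow_succ']; group
    rw [h1, ih]
    have h2 : m * a ^ r ^ i * m⁻¹ = (m * a * m⁻¹) ^ r ^ i := by
      rw [conj_pow]
    rw [h2, h, ← pow_mul, pow_succ, mul_comm]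

theorem pow_eq_of_mod {a : G} {p : ℕ} (ha : a ^ p = 1) (k : ℕ) : a ^ k = a ^ (k % p) := by
  conv_lhs => rw [← Nat.div_add_mod k p]
  rw [pow_add, pow_mul, ha, one_pow, one_mul]

/-- every automorphism is, modulo inner automorphisms, one that fixes or inverts `a` -/
theorem exists_fix_or_inv [Finite G] {p : ℕ} [hp : Fact p.Prime] {a m : G} {r : ℕ}
    (ha : orderOf a = p) (hfac : (Nat.card G).factorization p = 1)
    (hm : m * a * m⁻¹ = a ^ r)
    (hr : ∀ k : ℕ, 1 ≤ k → k < p → ∃ i : ℕ, k * r ^ i % p = 1 ∨ k * r ^ i % p = p - 1)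
    (φ : MulAut G) : ∃ c : G, (MulAut.conj c * φ) a = a ∨ (MulAut.conj c * φ) a = a⁻¹ := by
  have hp1 : 1 < p := hp.out.one_lt
  have hap : a ^ p = 1 := by rw [← ha]; exact pow_orderOf_eq_one a
  have ha1 : a ≠ 1 := by
    intro h
    rw [h, orderOf_one] at ha
    omega
  have hP : Nat.card (Subgroup.zpowers a) = p ^ (Nat.card G).factorization p := by
    rw [hfac, pow_one, Nat.card_zpowers, ha]
  have hQ : Nat.card ((Subgroup.zpowers a).map φ.toMonoidHom) =
      p ^ (Nat.card G).factorization p := by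
    rw [Subgroup.card_map_of_injective φ.injective]; exact hP
  obtain ⟨g, hg⟩ := MulAction.exists_smul_eq G (Sylow.ofCard _ hP) (Sylow.ofCard _ hQ)
  have h1 : φ a ∈ ((Sylow.ofCard _ hQ : Sylow p G) : Subgroup G) := by
    rw [Sylow.coe_ofCard]
    exact Subgroup.mem_map_of_mem _ (Subgroup.mem_zpowers a)
  rw [← hg, Sylow.coe_subgroup_smul, Subgroup.mem_smul_pointwise_iff_exists] at h1
  obtain ⟨s, hs, hsx⟩ := h1
  rw [Sylow.coe_ofCard] at hs
  rw [MulAut.smul_def, MulAut.conj_apply] at hsx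
  obtain ⟨k, hk⟩ := Subgroup.mem_zpowers_iff.mp hs
  have hpz : (0 : ℤ) < p := by exact_mod_cast hp.out.pos
  have hkp : a ^ (k % p) = s := by
    have := zpow_mod_orderOf a k
    rw [ha] at this
    rw [← hk]
    exact this
  have hjk : (((k % p).toNat : ℕ) : ℤ) = k % p :=
    Int.toNat_of_nonneg (Int.emod_nonneg _ (ne_of_gt hpz))
  have hjp : (k % p).toNat < p := by
    have := Int.emod_lt_of_pos k hpz
    omega
  have hsj : a ^ (k % p).toNat = s := by
    rw [← zpow_natCast, hjk]; exact hkp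
  have hj1 : 1 ≤ (k % p).toNat := by
    rcases Nat.eq_zero_or_pos (k % p).toNat with h0 | h0
    · exfalso
      rw [h0, pow_zero] at hsj
      rw [← hsj, mul_one, mul_inv_cancel] at hsx
      exact ha1 (φ.injective (by rw [← hsx, map_one]))
    · exact h0
  obtain ⟨i, hi⟩ := hr _ hj1 hjp
  refine ⟨m ^ i * g⁻¹, ?_⟩
  have hval : (MulAut.conj (m ^ i * g⁻¹) * φ) a = a ^ ((k % p).toNat * r ^ i % p) := by
    rw [MulAut.mul_apply, MulAut.conj_apply, ← hsx, ← hsj]
    have h2 : m ^ i * g⁻¹ * (g * a ^ (k % p).toNat * g⁻¹) * (m ^ i * g⁻¹)⁻¹ =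
        m ^ i * a ^ (k % p).toNat * (m ^ i)⁻¹ := by group
    rw [h2, ← conj_pow, conj_pow_pow hm, ← pow_mul, mul_comm, ← pow_eq_of_mod hap]
  rcases hi with hi | hi
  · left
    rw [hval, hi, pow_one]
  · right
    rw [hval, hi]
    apply eq_inv_of_mul_eq_one_left
    rw [← pow_succ]
    have : p - 1 + 1 = p := by omega
    rw [this, hap]

/-- the criterion: `Out G` has order two -/
theorem out_card_two [Finite G] {p : ℕ} [hp : Fact p.Prime] {a m : G} {r : ℕ}
    (ha : orderOf a = p) (hfac : (Nat.card G).factorization p = 1)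
    (hm : m * a * m⁻¹ = a ^ r)
    (hr : ∀ k : ℕ, 1 ≤ k → k < p → ∃ i : ℕ, k * r ^ i % p = 1 ∨ k * r ^ i % p = p - 1)
    (hfix : ∀ φ : MulAut G, φ a = a → φ ∈ Cfsg.Inn G)
    (τ : MulAut G) (hτ : τ a = a⁻¹) (hτn : τ ∉ Cfsg.Inn G) :
    Nat.card (Cfsg.Out G) = 2 := by
  show Nat.card (MulAut G ⧸ Cfsg.Inn G) = 2
  rw [← Subgroup.index_eq_card, Subgroup.index_eq_two_iff_exists_notMem_and]
  refine ⟨τ, hτn, ?_⟩
  intro φ
  obtain ⟨c, hc⟩ := exists_fix_or_inv ha hfac hm hr φ
  have hcinn : MulAut.conj c ∈ Cfsg.Inn G := ⟨c, rfl⟩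
  rcases hc with hc | hc
  · right
    have h1 := hfix _ hc
    have h2 : φ = (MulAut.conj c)⁻¹ * (MulAut.conj c * φ) := by group
    rw [h2]
    exact (Cfsg.Inn G).mul_mem ((Cfsg.Inn G).inv_mem hcinn) h1
  · left
    have h3 : (MulAut.conj c * φ * τ) a = a := by
      rw [MulAut.mul_apply, hτ, map_inv, hc, inv_inv]
    have h1 := hfix _ h3
    have h2 : φ * τ = (MulAut.conj c)⁻¹ * (MulAut.conj c * φ * τ) := by group
    rw [h2]
    exact (Cfsg.Inn G).mul_mem ((Cfsg.Inn G).inv_mem hcinn) h1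

theorem eq_one_of_pow_coprime {z : G} {m q : ℕ} (hm : z ^ m = 1) (hq : z ^ q = 1)
    (h : Nat.Coprime m q) : z = 1 := by
  have h6 : orderOf z ∣ Nat.gcd m q :=
    Nat.dvd_gcd (orderOf_dvd_of_pow_eq_one hm) (orderOf_dvd_of_pow_eq_one hq)
  rw [h] at h6
  exact orderOf_eq_one_iff.mp (Nat.dvd_one.mp h6)

theorem center_map_eq {E : Type*} [Group E] (e : E ≃* E) :
    (Subgroup.center E).map (e : E →* E) = Subgroup.center E :=
  Subgroup.characteristic_iff_map_eq.mp Subgroup.centerCharacteristic e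

/-- the automorphism of the central quotient induced by an automorphism -/
def centerQuot {E : Type*} [Group E] (e : E ≃* E) : MulAut (E ⧸ Subgroup.center E) :=
  QuotientGroup.congr (Subgroup.center E) (Subgroup.center E) e (center_map_eq e)

theorem centerQuot_mk {E : Type*} [Group E] (e : E ≃* E) (g : E) :
    centerQuot e (g : E ⧸ Subgroup.center E) = ((e g : E) : E ⧸ Subgroup.center E) :=
  QuotientGroup.congr_mk _ _ e (center_map_eq e) g

/-- an automorphism of `E = ⟨x, y⟩` that moves a central element induces an automorphism of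
`E ⧸ Z(E)` that is not inner, if the orders of `x` and `y` are coprime to the exponent of `Z(E)` -/
theorem congr_not_inner {E : Type*} [Group E] (e : E ≃* E)
    {x y : E} (hgen : Subgroup.closure ({x, y} : Set E) = ⊤) {k l q : ℕ}
    (hx : x ^ k = 1) (hy : y ^ l = 1) (hz : ∀ z ∈ Subgroup.center E, z ^ q = 1)
    (hk : Nat.Coprime k q) (hl : Nat.Coprime l q)
    {s : E} (hs : s ∈ Subgroup.center E) (hes : e s ≠ s) :
    centerQuot e ∉ Cfsg.Inn (E ⧸ Subgroup.center E) := by
  rintro ⟨q0, hq0⟩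
  obtain ⟨h, rfl⟩ := QuotientGroup.mk_surjective q0
  have key : ∀ (g : E) (m : ℕ), g ^ m = 1 → Nat.Coprime m q → e g = h * g * h⁻¹ := by
    intro g m hgm hmq
    have h1 : MulAut.conj (h : E ⧸ Subgroup.center E) (g : E ⧸ Subgroup.center E) =
        centerQuot e (g : E ⧸ Subgroup.center E) := by rw [hq0]
    rw [MulAut.conj_apply, centerQuot_mk] at h1
    have h2 : ((h * g * h⁻¹ : E) : E ⧸ Subgroup.center E) =
        ((e g : E) : E ⧸ Subgroup.center E) := h1
    have h3 : (h * g * h⁻¹)⁻¹ * e g ∈ Subgroup.center E := QuotientGroup.eq.mp h2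
    have hcomm : Commute (h * g * h⁻¹) ((h * g * h⁻¹)⁻¹ * e g) :=
      (Subgroup.mem_center_iff.mp h3) (h * g * h⁻¹)
    have h4 : e g = (h * g * h⁻¹) * ((h * g * h⁻¹)⁻¹ * e g) := by group
    have h5 : (e g) ^ m = 1 := by rw [← map_pow, hgm, map_one]
    have h6 : (h * g * h⁻¹) ^ m = 1 := by rw [conj_pow, hgm, mul_one, mul_inv_cancel]
    have h7 : ((h * g * h⁻¹)⁻¹ * e g) ^ m = 1 := by
      have := hcomm.mul_pow m
      rw [← h4, h5, h6, one_mul] at this
      exact this.symm
    have h8 := eq_one_of_pow_coprime h7 (hz _ h3) hmq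
    rw [h4, h8, mul_one]
  have hfun : e.toMonoidHom = (MulAut.conj h).toMonoidHom := by
    apply MonoidHom.eq_of_eqOn_dense hgen
    intro t ht
    rcases ht with rfl | ht
    · show e t = MulAut.conj h t
      rw [MulAut.conj_apply]
      exact key t k hx hk
    · rw [Set.mem_singleton_iff] at ht
      rw [ht]
      show e y = MulAut.conj h y
      rw [MulAut.conj_apply]
      exact key y l hy hl
  have h9 : e s = MulAut.conj h s := congrArg (fun f : E →* E => f s) hfun
  rw [MulAut.conj_apply, Subgroup.mem_center_iff.mp hs h, mul_assoc, mul_inv_cancel, mul_one]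
    at h9
  exact hes h9

end Cfsg.Agent.Lib.Helper28.OutTwo
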