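import Cfsg.Agent.Lib.Helper28.HSACertAll
import Cfsg.Agent.Lib.Helper28.OutTwo

/-!
# The automorphisms of the Higman–Sims group

The group `H₀` generated by two explicit permutations `a` (of order 11) and `b` (an involution) of
100 points has order 44352000.  Every automorphism of `H₀` is, modulo inner automorphisms, one that
fixes or inverts `a`.  An automorphism fixing `a` maps `b` to an involution `t` such that `(a, t)`
satisfies all relators of `(a, b)`; a complete table of the involutions of `H₀` shows that `t` is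
then a conjugate of `b` under a power of `a`, so the automorphism is inner.  Conjugation by an
involution `s` outside `H₀` inverts `a`, and it is not inner because `s` has six fixed points,
unlike every involution of `H₀`.  Hence `Out H₀` has order two.
-/

set_option autoImplicit false

namespace Cfsg.Agent.Lib.Helper28.HSA

open Cfsg.Agent.Lib.Helper28.BSGS Cfsg.Agent.Lib.Helper28.HSAData
open Cfsg.Agent.Lib.Helper28.BSGSMat (Tree sortedB sortedB_nodup)

attribute [local irreducible] checkChain codeSize gensOK siftB levelOK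

/-- permutations of 100 points -/
abbrev P100 : Type := Equiv.Perm (Fin 100)

/-! ### permutations and tables -/

/-- the permutation acts through the table -/
def ActsT (g : P100) (t : ℕ) : Prop := ∀ x : Fin 100, (g x).val = look 7 t x.val

theorem ActsT.ext {g h : P100} {t : ℕ} (hg : ActsT g t) (hh : ActsT h t) : g = h := by
  apply Equiv.ext
  intro x
  apply Fin.ext
  rw [hg x, hh x]

theorem ActsT.word {g : P100} {t : ℕ} (hg : ActsT g t) : ActsByW 100 7 g [t] :=
  actsByW_single hg

theorem actsT_of_word {g : P100} {t : ℕ} (hg : ActsByW 100 7 g [t]) : ActsT g t :=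
  fun x => hg x

theorem actsT_permOf {tu tv : ℕ} (h : pairOK 100 7 tu tv = true) :
    ActsT (permOf 100 7 tu tv) tu := fun x => permOf_apply h x

theorem actsT_permOf_inv {tu tv : ℕ} (h : pairOK 100 7 tu tv = true) :
    ActsT (permOf 100 7 tu tv)⁻¹ tv := fun x => permOf_inv_apply h x

theorem actsT_inv {g : P100} {tu tv : ℕ} (h : pairOK 100 7 tu tv = true) (hg : ActsT g tu) :
    ActsT g⁻¹ tv := by
  rw [hg.ext (actsT_permOf h)]
  exact actsT_permOf_inv h

theorem evalW_append (ws ws' : List ℕ) (x : ℕ) :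
    evalW 7 (ws ++ ws') x = evalW 7 ws (evalW 7 ws' x) := by
  unfold evalW
  rw [List.foldr_append]

theorem actsW_mul {g h : P100} {ws ws' : List ℕ} (hg : ActsByW 100 7 g ws)
    (hh : ActsByW 100 7 h ws') : ActsByW 100 7 (g * h) (ws ++ ws') := by
  intro x
  rw [evalW_append, ← hh x, ← hg (h x)]
  rfl

theorem actsW_pow {g : P100} {t : ℕ} (hg : ActsT g t) (k : ℕ) :
    ActsByW 100 7 (g ^ k) (List.replicate k t) := actsByW_pow 100 7 hg k

theorem wordEq_of_acts {g : P100} {ws ws' : List ℕ} (hg : ActsByW 100 7 g ws)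
    (hg' : ActsByW 100 7 g ws') : wordEq 100 7 ws ws' = true := by
  unfold wordEq
  rw [List.all_eq_true]
  intro x hx
  have hx' : x < 100 := List.mem_range.mp hx
  have h1 := hg ⟨x, hx'⟩
  have h2 := hg' ⟨x, hx'⟩
  rw [beq_iff_eq, ← h1, ← h2]

theorem wordId_of_acts {ws : List ℕ} (hg : ActsByW 100 7 (1 : P100) ws) :
    wordId 100 7 ws = true := by
  unfold wordId
  rw [List.all_eq_true]
  intro x hx
  have hx' : x < 100 := List.mem_range.mp hx
  have h1 := hg ⟨x, hx'⟩
  rw [beq_iff_eq, ← h1]
  rfl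

theorem actsW_one_of {ws : List ℕ} (h : wordId 100 7 ws = true) : ActsByW 100 7 (1 : P100) ws := by
  intro x
  unfold wordId at h
  rw [List.all_eq_true] at h
  have := beq_iff_eq.mp (h x.val (List.mem_range.mpr x.isLt))
  rw [this]
  rfl

/-- the key depends only on the action -/
theorem keyOf_eq {g : P100} {t t' : ℕ} (h : ActsT g t) (h' : ActsT g t') : keyOf t = keyOf t' := by
  have e : ∀ k : ℕ, k < 100 → look 7 t k = look 7 t' k := by
    intro k hk
    rw [← h ⟨k, hk⟩, ← h' ⟨k, hk⟩]
  unfold keyOf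
  rw [e 0 (by norm_num), e 1 (by norm_num), e 2 (by norm_num), e 3 (by norm_num),
    e 4 (by norm_num), e 5 (by norm_num)]

theorem keyW_single (t : ℕ) : keyW [t] = keyOf t := rfl

/-- the permutations of a table -/
def tabSet (T : Tree) : Set P100 := {g | ∃ e ∈ T.toList, ActsT g e.2.1}

theorem findT_spec {T : Tree} {ws : List ℕ} {g : P100} (hg : ActsByW 100 7 g ws)
    (h : findT T ws = true) : g ∈ tabSet T := by
  unfold findT at h
  cases hf : T.lookup (keyW ws) with
  | none => rw [hf] at h; simp at h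
  | some e =>
    rw [hf] at h
    obtain ⟨he, _⟩ := Tree.lookup_some _ hf
    refine ⟨e, he, ?_⟩
    have h' : wordEq 100 7 [e.2.1] ws = true := h
    unfold wordEq at h'
    rw [List.all_eq_true] at h'
    intro x
    have := beq_iff_eq.mp (h' x.val (List.mem_range.mpr x.isLt))
    rw [hg x, ← this]
    rfl

/-! ### the elements -/

/-- the element of order 11 -/
def a : P100 := permOf 100 7 ta tai

/-- the involution -/
def b : P100 := permOf 100 7 tb tb

/-- an element that conjugates `a` to its fourth power -/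
def c : P100 := permOf 100 7 tc tci

/-- an involution that inverts `a` -/
def s : P100 := permOf 100 7 ts ts

/-- the group -/
def H0 : Subgroup P100 := genGroup 100 7 GENS

theorem a_acts : ActsT a ta := actsT_permOf pair_a
theorem ainv_acts : ActsT a⁻¹ tai := actsT_permOf_inv pair_a
theorem b_acts : ActsT b tb := actsT_permOf pair_b
theorem c_acts : ActsT c tc := actsT_permOf pair_c
theorem cinv_acts : ActsT c⁻¹ tci := actsT_permOf_inv pair_c
theorem s_acts : ActsT s ts := actsT_permOf pair_s
theorem sinv_acts : ActsT s⁻¹ ts := actsT_permOf_inv pair_s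

theorem s_inv : s⁻¹ = s := sinv_acts.ext s_acts

theorem binv_acts : ActsT b⁻¹ tb := actsT_permOf_inv pair_b

theorem b_inv : b⁻¹ = b := binv_acts.ext b_acts

theorem card_H0 : Nat.card H0 = 44352000 := by
  rw [← size_ok]
  exact (perm_main 100 7 GENS _ gens_ok chain_ok).1

theorem a_pow11 : a ^ 11 = 1 :=
  eq_one_of_wordId 100 7 (actsW_pow a_acts 11) a_pow

theorem a_ne_one : a ≠ 1 := by
  intro h
  have h1 : ActsByW 100 7 (1 : P100) [ta] := by rw [← h]; exact a_acts.word
  have := wordId_of_acts h1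
  rw [HSA.a_ne] at this
  exact Bool.false_ne_true this

theorem b_mul_self : b * b = 1 :=
  eq_one_of_wordId 100 7 (actsW_mul b_acts.word b_acts.word) b_sq

theorem b_ne_one : b ≠ 1 := by
  intro h
  have h1 : ActsByW 100 7 (1 : P100) [tb] := by rw [← h]; exact b_acts.word
  have := wordId_of_acts h1
  rw [HSA.b_ne] at this
  exact Bool.false_ne_true this

theorem s_mul_self : s * s = 1 :=
  eq_one_of_wordId 100 7 (actsW_mul s_acts.word s_acts.word) s_sq

theorem c_conj_a : c * a * c⁻¹ = a ^ 4 := by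
  have h1 : ActsByW 100 7 (c * a * c⁻¹) [tc, ta, tci] := by
    rw [mul_assoc]
    exact actsW_mul c_acts.word (actsW_mul a_acts.word cinv_acts.word)
  exact eq_of_wordEq 100 7 h1 (actsW_pow a_acts 4) c_conj

theorem s_conj_a : s * a * s⁻¹ = a⁻¹ := by
  have h1 : ActsByW 100 7 (s * a * s⁻¹) [ts, ta, ts] := by
    rw [mul_assoc]
    exact actsW_mul s_acts.word (actsW_mul a_acts.word sinv_acts.word)
  exact eq_of_wordEq 100 7 h1 ainv_acts.word s_conj

/-! ### the straight-line program -/

/-- some element of `K` acts through the table -/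
def InK (K : Subgroup P100) (t : ℕ) : Prop := ∃ g ∈ K, ActsT g t

theorem word_inK (K : Subgroup P100) (known : List ℕ) (hk : ∀ t ∈ known, InK K t) :
    ∀ ws : List ℕ, (ws.all fun t => known.contains t) = true →
      ∃ g ∈ K, ActsByW 100 7 g ws := by
  intro ws
  induction ws with
  | nil => intro _; exact ⟨1, K.one_mem, actsByW_one 100 7⟩
  | cons t ws ih =>
    intro h
    rw [List.all_cons, Bool.and_eq_true] at h
    obtain ⟨g1, hg1, h1⟩ := hk t (List.contains_iff_mem.mp h.1)
    obtain ⟨g2, hg2, h2⟩ := ih h.2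
    exact ⟨g1 * g2, K.mul_mem hg1 hg2, actsByW_cons h1 h2⟩

theorem slp_sound (K : Subgroup P100) : ∀ (entries : List (ℕ × ℕ × List ℕ)) (known : List ℕ),
    (∀ t ∈ known, InK K t) → slpOK known entries = true →
      ∀ t ∈ slpKnown known entries, InK K t := by
  intro entries
  induction entries with
  | nil => intro known hk _ t ht; exact hk t ht
  | cons e rest ih =>
    intro known hk h
    unfold slpOK at h
    simp only [Bool.and_eq_true] at h
    obtain ⟨⟨⟨h1, h2⟩, h3⟩, h4⟩ := h
    unfold slpKnown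
    apply ih _ _ h4
    obtain ⟨g, hg, hact⟩ := word_inK K known hk e.2.2 h2
    have heq : permOf 100 7 e.1 e.2.1 = g :=
      eq_of_wordEq 100 7 (actsT_permOf h1).word hact h3
    intro t ht
    rcases List.mem_cons.mp ht with rfl | ht
    · exact ⟨g, hg, by rw [← heq]; exact actsT_permOf h1⟩
    · rcases List.mem_cons.mp ht with rfl | ht
      · exact ⟨g⁻¹, K.inv_mem hg, by rw [← heq]; exact actsT_permOf_inv h1⟩
      · exact hk t ht

theorem slpKnown_mem : ∀ (entries : List (ℕ × ℕ × List ℕ)) (known : List ℕ),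
    (∀ t ∈ known, t ∈ slpKnown known entries) ∧
      ∀ e ∈ entries, e.1 ∈ slpKnown known entries := by
  intro entries
  induction entries with
  | nil => intro known; exact ⟨fun t ht => ht, fun e he => by simp at he⟩
  | cons e rest ih =>
    intro known
    unfold slpKnown
    obtain ⟨i1, i2⟩ := ih (e.1 :: e.2.1 :: known)
    refine ⟨fun t ht => i1 t (List.mem_cons_of_mem _ (List.mem_cons_of_mem _ ht)), ?_⟩
    intro e' he'
    rcases List.mem_cons.mp he' with rfl | he'
    · exact i1 _ List.mem_cons_self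
    · exact i2 e' he'

/-- the subgroup generated by `a` and `b` -/
def Kab : Subgroup P100 := Subgroup.closure {a, b}

theorem a_mem_K : a ∈ Kab := Subgroup.subset_closure (Set.mem_insert _ _)

theorem b_mem_K : b ∈ Kab :=
  Subgroup.subset_closure (Set.mem_insert_of_mem _ (Set.mem_singleton _))

theorem known0 : ∀ t ∈ [ta, tai, tb], InK Kab t := by
  intro t ht
  simp only [List.mem_cons, List.not_mem_nil, or_false] at ht
  rcases ht with rfl | rfl | rfl
  · exact ⟨a, a_mem_K, a_acts⟩
  · exact ⟨a⁻¹, Kab.inv_mem a_mem_K, ainv_acts⟩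
  · exact ⟨b, b_mem_K, b_acts⟩

theorem known_all : ∀ t ∈ slpKnown [ta, tai, tb] SLP, InK Kab t :=
  slp_sound Kab SLP _ known0 slp_ok

theorem H0_eq : H0 = Kab := by
  apply le_antisymm
  · unfold H0 genGroup
    rw [Subgroup.closure_le]
    intro x hx
    have hx' : x ∈ semGens 100 7 GENS := hx
    unfold semGens at hx'
    obtain ⟨g, hg, rfl⟩ := List.mem_map.mp hx'
    have hp := gensOK_spec 100 7 gens_ok g hg
    have h := gens_slp
    rw [List.all_eq_true] at h
    have h1 := h g hg
    simp only [Bool.or_eq_true, Bool.and_eq_true, beq_iff_eq, List.any_eq_true] at h1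
    have key : InK Kab g.1 := by
      rcases h1 with (h1 | h1) | h1
      · rw [h1.1]; exact ⟨a, a_mem_K, a_acts⟩
      · rw [h1.1]; exact ⟨b, b_mem_K, b_acts⟩
      · obtain ⟨e, he, h2, _⟩ := h1
        rw [← h2]
        exact known_all _ ((slpKnown_mem SLP _).2 e he)
    obtain ⟨g', hg', hact⟩ := key
    rw [SetLike.mem_coe, (actsT_permOf hp).ext hact]
    exact hg'
  · unfold Kab
    rw [Subgroup.closure_le]
    intro x hx
    have h := gens_ab
    rw [Bool.and_eq_true] at h
    rcases hx with rfl | hx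
    · exact Subgroup.subset_closure (mem_semGens 100 7 (List.contains_iff_mem.mp h.1))
    · rw [Set.mem_singleton_iff] at hx
      rw [hx]
      exact Subgroup.subset_closure (mem_semGens 100 7 (List.contains_iff_mem.mp h.2))

theorem a_mem : a ∈ H0 := by rw [H0_eq]; exact a_mem_K

theorem b_mem : b ∈ H0 := by rw [H0_eq]; exact b_mem_K

theorem known_mem {t : ℕ} (ht : t ∈ slpKnown [ta, tai, tb] SLP) {g : P100} (hg : ActsT g t) :
    g ∈ H0 := by
  obtain ⟨g', hg', hact⟩ := known_all t ht
  rw [H0_eq, hg.ext hact]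
  exact hg'

theorem known_ok' : ∀ t ∈ tc :: tsbs :: SGL, t ∈ slpKnown [ta, tai, tb] SLP := by
  intro t ht
  have h := known_ok
  rw [List.all_eq_true] at h
  exact List.contains_iff_mem.mp (h t ht)

theorem c_mem : c ∈ H0 := known_mem (known_ok' tc List.mem_cons_self) c_acts

theorem sbs_mem : s * b * s⁻¹ ∈ H0 := by
  have h1 : ActsByW 100 7 (s * b * s⁻¹) [ts, tb, ts] := by
    rw [mul_assoc]
    exact actsW_mul s_acts.word (actsW_mul b_acts.word sinv_acts.word)
  have h2 : s * b * s⁻¹ = permOf 100 7 tsbs tsbs :=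
    eq_of_wordEq 100 7 h1 (actsT_permOf pair_sbs).word sbs_eq
  rw [h2]
  exact known_mem (known_ok' tsbs (List.mem_cons_of_mem _ List.mem_cons_self))
    (actsT_permOf pair_sbs)

/-! ### the group generated by `a` and `b` -/

theorem card_Kab : Nat.card Kab = 44352000 := by
  rw [← H0_eq]
  exact card_H0

theorem mem_K_of_known {t : ℕ} (ht : t ∈ slpKnown [ta, tai, tb] SLP) {g : P100} (hg : ActsT g t) :
    g ∈ Kab := by
  rw [← H0_eq]
  exact known_mem ht hg

theorem acts_of_wordEq {g : P100} {ws : List ℕ} {t : ℕ} (hg : ActsByW 100 7 g ws)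
    (h : wordEq 100 7 [t] ws = true) : ActsT g t := by
  unfold wordEq at h
  rw [List.all_eq_true] at h
  intro x
  have := beq_iff_eq.mp (h x.val (List.mem_range.mpr x.isLt))
  rw [hg x, ← this]
  rfl

theorem tab_one {T : Tree} (h : (T.toList.any fun e => wordId 100 7 [e.2.1]) = true) :
    (1 : P100) ∈ tabSet T := by
  rw [List.any_eq_true] at h
  obtain ⟨e, he, h1⟩ := h
  exact ⟨e, he, actsT_of_word (actsW_one_of h1)⟩

theorem inv_eq_pow (x : P100) : x⁻¹ = x ^ (orderOf x - 1) := by
  have hpos : 0 < orderOf x := orderOf_pos x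
  have h1 : x ^ (orderOf x - 1) * x = 1 := by
    rw [← pow_succ, Nat.sub_add_cancel hpos, pow_orderOf_eq_one]
  exact (eq_inv_of_mul_eq_one_left h1).symm

/-! ### the Sylow 2-subgroup -/

/-- the generators of the Sylow 2-subgroup -/
def sylGens : Set P100 := {g | g ∈ Kab ∧ ∃ t ∈ SGL, ActsT g t}

/-- the Sylow 2-subgroup -/
def Syl : Subgroup P100 := Subgroup.closure sylGens

theorem syl_le : Syl ≤ Kab := by
  unfold Syl
  rw [Subgroup.closure_le]
  intro g hg
  exact hg.1

theorem st_spec (e : TE) (he : e ∈ ST.toList) :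
    e.1 = keyOf e.2.1 ∧
    (if e.2.2.2 % 1000 = 0 then wordId 100 7 [e.2.1] else
      match ST.lookup e.2.2.1 with
      | none => false
      | some e' => Nat.beq (e'.2.2.2 % 1000 + 1) (e.2.2.2 % 1000) &&
          wordEq 100 7 [e.2.1] [e'.2.1, SGL.getD (e.2.2.2 / 1000) 0]) = true ∧
    (∀ s ∈ SGL, findT ST [e.2.1, s] = true) ∧
    (wordId 100 7 [e.2.1, e.2.1] = false ∨ wordId 100 7 [e.2.1] = true ∨
      findT IV [e.2.1] = true) := by
  have h := st_all e he
  unfold stOK at h
  simp only [Bool.and_eq_true, Bool.or_eq_true, Bool.not_eq_true'] at h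
  obtain ⟨⟨⟨h1, h2⟩, h3⟩, h4⟩ := h
  refine ⟨Nat.eq_of_beq_eq_true h1, h2, ?_, ?_⟩
  · rw [List.all_eq_true] at h3
    exact h3
  · rcases h4 with (h4 | h4) | h4
    · exact Or.inl h4
    · exact Or.inr (Or.inl h4)
    · exact Or.inr (Or.inr h4)

theorem syl_sub : ∀ y ∈ Syl, y ∈ tabSet ST := by
  have hP : ∀ y ∈ Syl, ∀ z ∈ tabSet ST, z * y ∈ tabSet ST := by
    intro y hy
    unfold Syl at hy
    induction hy using Subgroup.closure_induction with
    | mem g hg =>
      obtain ⟨_, t, ht, hact⟩ := hg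
      rintro z ⟨e, he, hz⟩
      exact findT_spec (actsByW_cons hz hact.word) ((st_spec e he).2.2.1 t ht)
    | one => intro z hz; rwa [mul_one]
    | mul x y _ _ ihx ihy =>
      intro z hz
      rw [← mul_assoc]
      exact ihy _ (ihx z hz)
    | inv x _ ihx =>
      have hpow : ∀ k : ℕ, ∀ z ∈ tabSet ST, z * x ^ k ∈ tabSet ST := by
        intro k
        induction k with
        | zero => intro z hz; rwa [pow_zero, mul_one]
        | succ k ihk =>
          intro z hz
          rw [pow_succ, ← mul_assoc]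
          exact ihx _ (ihk z hz)
      rw [inv_eq_pow]
      exact hpow _
  intro y hy
  have := hP y hy 1 (tab_one st_one)
  rwa [one_mul] at this

theorem sgl_mem {j : ℕ} (hj : j < 12) : ∃ g ∈ sylGens, ActsT g (SGL.getD j 0) := by
  have hmem : SGL.getD j 0 ∈ SGL := by
    rw [List.getD_eq_getElem _ _ (by rw [len_SGL]; exact hj)]
    exact List.getElem_mem _
  obtain ⟨gs, hgs, hacts⟩ := known_all _
    (known_ok' _ (List.mem_cons_of_mem _ (List.mem_cons_of_mem _ hmem)))
  exact ⟨gs, ⟨hgs, _, hmem, hacts⟩, hacts⟩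

theorem syl_reach : ∀ (d : ℕ) (e : TE), e ∈ ST.toList → e.2.2.2 % 1000 = d →
    ∃ g ∈ Syl, ActsT g e.2.1 := by
  intro d
  induction d with
  | zero =>
    intro e he hd
    have h2 := (st_spec e he).2.1
    rw [if_pos hd] at h2
    exact ⟨1, Syl.one_mem, actsT_of_word (actsW_one_of h2)⟩
  | succ d ih =>
    intro e he hd
    have h2 := (st_spec e he).2.1
    rw [if_neg (by rw [hd]; exact Nat.succ_ne_zero d)] at h2
    cases hf : ST.lookup e.2.2.1 with
    | none => rw [hf] at h2; simp at h2
    | some e' =>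
      rw [hf] at h2
      simp only [Bool.and_eq_true] at h2
      obtain ⟨h3, h4⟩ := h2
      have h3' : e'.2.2.2 % 1000 + 1 = e.2.2.2 % 1000 := Nat.eq_of_beq_eq_true h3
      have he' := (Tree.lookup_some _ hf).1
      obtain ⟨g', hg', hact'⟩ := ih e' he' (by omega)
      have hidx : e.2.2.2 / 1000 < 12 := by
        have h := st_idx
        rw [List.all_eq_true] at h
        exact of_decide_eq_true (h e he)
      obtain ⟨gs, hgs, hacts⟩ := sgl_mem hidx
      exact ⟨g' * gs, Syl.mul_mem hg' (Subgroup.subset_closure hgs),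
        acts_of_wordEq (actsByW_cons hact' hacts.word) h4⟩

theorem syl_eq (g : P100) : g ∈ Syl ↔ g ∈ tabSet ST := by
  constructor
  · exact syl_sub g
  · rintro ⟨e, he, hact⟩
    obtain ⟨g', hg', hact'⟩ := syl_reach _ e he rfl
    rw [hact.ext hact']
    exact hg'

theorem syl_card : Nat.card Syl = 512 := by
  classical
  have hnd : (ST.toList.map fun e => e.1).Nodup := sortedB_nodup _ st_sorted
  have hnd' : ST.toList.Nodup := List.Nodup.of_map _ hnd
  have hex : ∀ e : {e // e ∈ ST.toList}, ∃ g : Syl, ActsT (g : P100) e.1.2.1 := by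
    intro e
    obtain ⟨g, hg, hact⟩ := syl_reach _ e.1 e.2 rfl
    exact ⟨⟨g, hg⟩, hact⟩
  choose f hf using hex
  have hinj : Function.Injective f := by
    intro e e' hee
    have h1 := hf e
    have h2 := hf e'
    rw [hee] at h1
    have hk := keyOf_eq h1 h2
    have k1 := (st_spec e.1 e.2).1
    have k2 := (st_spec e'.1 e'.2).1
    apply Subtype.ext
    exact List.inj_on_of_nodup_map hnd e.2 e'.2 (by rw [k1, k2, hk])
  have hsurj : Function.Surjective f := by
    intro g
    obtain ⟨e, he, hact⟩ := syl_sub g.1 g.2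
    refine ⟨⟨e, he⟩, ?_⟩
    apply Subtype.ext
    exact (hf ⟨e, he⟩).ext hact
  rw [← Nat.card_congr (Equiv.ofBijective f ⟨hinj, hsurj⟩),
    ← Nat.card_congr (hnd'.getEquiv ST.toList), Nat.card_fin, len_ST]

/-- an involution of the Sylow 2-subgroup is in the table of involutions -/
theorem syl_invol (z : P100) (hz : z ∈ Syl) (h2 : z * z = 1) (h1 : z ≠ 1) : z ∈ tabSet IV := by
  obtain ⟨e, he, hact⟩ := syl_sub z hz
  rcases (st_spec e he).2.2.2 with h3 | h3 | h3
  · exfalso
    have hw : ActsByW 100 7 (1 : P100) [e.2.1, e.2.1] := by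
      rw [← h2]
      exact actsByW_cons hact hact.word
    have := wordId_of_acts hw
    rw [h3] at this
    exact Bool.false_ne_true this
  · exact absurd (eq_one_of_wordId 100 7 hact.word h3) h1
  · exact findT_spec hact.word h3

/-! ### the involutions -/

theorem iv_spec (e : TE) (he : e ∈ IV.toList) :
    e.1 = keyOf e.2.1 ∧ findT IV [ta, e.2.1, tai] = true ∧ findT IV [tb, e.2.1, tb] = true ∧
    fixCount e.2.1 ≠ 6 ∧ (e.2.2.1 = 0 → GOODL.contains e.1 = true) ∧
    (e.2.2.1 ≠ 0 →
      (evalU ta e.2.1 (RELS.getD ((e.2.2.1 - 1) / 100) ([], 0)).1)^[(RELS.getD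
        ((e.2.2.1 - 1) / 100) ([], 0)).2] ((e.2.2.1 - 1) % 100) ≠ (e.2.2.1 - 1) % 100) := by
  have h := hiv_all e he
  unfold ivOK at h
  simp only [Bool.and_eq_true, Bool.not_eq_true'] at h
  obtain ⟨⟨⟨⟨⟨h1, _⟩, h3⟩, h4⟩, h5⟩, h6⟩ := h
  refine ⟨Nat.eq_of_beq_eq_true h1, h3, h4, ?_, ?_, ?_⟩
  · intro h
    have : Nat.beq (fixCount e.2.1) 6 = true := by rw [h]; rfl
    rw [h5] at this
    exact Bool.false_ne_true this
  · intro h0
    rw [if_pos h0] at h6
    exact h6
  · intro h0 heq
    rw [if_neg h0, Bool.not_eq_true'] at h6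
    have h7 : Nat.beq ((evalU ta e.2.1 (RELS.getD ((e.2.2.1 - 1) / 100) ([], 0)).1)^[(RELS.getD
        ((e.2.2.1 - 1) / 100) ([], 0)).2] ((e.2.2.1 - 1) % 100)) ((e.2.2.1 - 1) % 100) = false := h6
    rw [heq] at h7
    have h8 : Nat.beq ((e.2.2.1 - 1) % 100) ((e.2.2.1 - 1) % 100) = true :=
      Nat.beq_refl _
    rw [h7] at h8
    exact Bool.false_ne_true h8

theorem iv_conj_gen (z : P100) (hz : z ∈ tabSet IV) :
    a * z * a⁻¹ ∈ tabSet IV ∧ b * z * b⁻¹ ∈ tabSet IV := by
  obtain ⟨e, he, hact⟩ := hz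
  have h := iv_spec e he
  constructor
  · rw [mul_assoc]
    exact findT_spec (actsByW_cons a_acts (actsByW_cons hact ainv_acts.word)) h.2.1
  · rw [mul_assoc]
    exact findT_spec (actsByW_cons b_acts (actsByW_cons hact binv_acts.word)) h.2.2.1

theorem iv_conj : ∀ y ∈ Kab, ∀ z ∈ tabSet IV, y * z * y⁻¹ ∈ tabSet IV := by
  intro y hy
  unfold Kab at hy
  induction hy using Subgroup.closure_induction with
  | mem g hg =>
    intro z hz
    rcases hg with rfl | hg
    · exact (iv_conj_gen z hz).1
    · rw [Set.mem_singleton_iff] at hg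
      rw [hg]
      exact (iv_conj_gen z hz).2
  | one => intro z hz; rwa [one_mul, inv_one, mul_one]
  | mul x y _ _ ihx ihy =>
    intro z hz
    have h1 := ihx _ (ihy z hz)
    have h2 : x * y * z * (x * y)⁻¹ = x * (y * z * y⁻¹) * x⁻¹ := by group
    rw [h2]
    exact h1
  | inv x _ ihx =>
    have hpow : ∀ k : ℕ, ∀ z ∈ tabSet IV, x ^ k * z * (x ^ k)⁻¹ ∈ tabSet IV := by
      intro k
      induction k with
      | zero => intro z hz; rwa [pow_zero, one_mul, inv_one, mul_one]
      | succ k ihk =>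
        intro z hz
        have h1 := ihx _ (ihk z hz)
        have h2 : x ^ (k + 1) * z * (x ^ (k + 1))⁻¹ = x * (x ^ k * z * (x ^ k)⁻¹) * x⁻¹ := by
          rw [pow_succ']
          group
        rw [h2]
        exact h1
    rw [inv_eq_pow]
    exact hpow _

theorem fact2 : (Nat.card Kab).factorization 2 = 9 := by
  rw [card_Kab]
  have h : (44352000 : ℕ) = 2 ^ 9 * 86625 := by norm_num
  rw [h, Nat.factorization_mul (by norm_num) (by norm_num), Finsupp.add_apply,
    Nat.Prime.factorization_pow Nat.prime_two, Finsupp.single_eq_same,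
    Nat.factorization_eq_zero_of_not_dvd (by norm_num)]

theorem finite_K : Finite Kab := Nat.finite_of_card_ne_zero (by rw [card_Kab]; norm_num)

/-- every involution of the group is in the table of involutions -/
theorem invol_mem (t : Kab) (h2 : t * t = 1) (h1 : t ≠ 1) : (t : P100) ∈ tabSet IV := by
  haveI : Fact (Nat.Prime 2) := ⟨Nat.prime_two⟩
  haveI := finite_K
  have hP : Nat.card (Syl.subgroupOf Kab) = 2 ^ (Nat.card Kab).factorization 2 := by
    rw [fact2, Nat.card_congr (Subgroup.subgroupOfEquivOfLe syl_le).toEquiv, syl_card]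
    norm_num
  have hord : orderOf t = 2 := orderOf_eq_prime (by rw [pow_two]; exact h2) h1
  have hpg : IsPGroup 2 (Subgroup.zpowers t) := by
    apply IsPGroup.of_card (n := 1)
    rw [Nat.card_zpowers, hord, pow_one]
  obtain ⟨Q, hQ⟩ := hpg.exists_le_sylow
  obtain ⟨g, hg⟩ := MulAction.exists_smul_eq Kab Q (Sylow.ofCard _ hP)
  have htQ : t ∈ (Q : Subgroup Kab) := hQ (Subgroup.mem_zpowers t)
  have hgt : g * t * g⁻¹ ∈ ((Sylow.ofCard _ hP : Sylow 2 Kab) : Subgroup Kab) := by
    rw [← hg, Sylow.coe_subgroup_smul, Subgroup.mem_smul_pointwise_iff_exists]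
    exact ⟨t, htQ, by rw [MulAut.smul_def, MulAut.conj_apply]⟩
  rw [Sylow.coe_ofCard, Subgroup.mem_subgroupOf] at hgt
  have h3 : ((g * t * g⁻¹ : Kab) : P100) ∈ tabSet IV := by
    apply syl_invol _ hgt
    · rw [← Subgroup.coe_mul]
      have : g * t * g⁻¹ * (g * t * g⁻¹) = 1 := by
        calc g * t * g⁻¹ * (g * t * g⁻¹) = g * (t * t) * g⁻¹ := by group
          _ = 1 := by rw [h2, mul_one, mul_inv_cancel]
      rw [this]
      rfl
    · intro h
      apply h1
      have h4 : g * t * g⁻¹ = 1 := Subtype.ext h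
      calc t = g⁻¹ * (g * t * g⁻¹) * g := by group
        _ = 1 := by rw [h4, mul_one, inv_mul_cancel]
  have h5 := iv_conj _ (g⁻¹).2 _ h3
  have h6 : ((g⁻¹ : Kab) : P100) * ((g * t * g⁻¹ : Kab) : P100) * ((g⁻¹ : Kab) : P100)⁻¹ =
      (t : P100) := by
    rw [← Subgroup.coe_inv, ← Subgroup.coe_mul, ← Subgroup.coe_mul]
    congr 1
    group
  rwa [h6] at h5

/-! ### relators -/

/-- the product of a word in two elements (`false` for the first) -/
def gwP {M : Type*} [Monoid M] (x t : M) : List Bool → M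
  | [] => 1
  | l :: u => (cond l t x) * gwP x t u

theorem map_gwP {M N : Type*} [Monoid M] [Monoid N] (f : M →* N) (x t : M) (u : List Bool) :
    f (gwP x t u) = gwP (f x) (f t) u := by
  induction u with
  | nil => exact map_one f
  | cons l u ih =>
    show f ((cond l t x) * gwP x t u) = (cond l (f t) (f x)) * gwP (f x) (f t) u
    rw [map_mul, ih]
    cases l <;> rfl

theorem gwP_acts {x t : P100} {A B : ℕ} (hx : ActsT x A) (ht : ActsT t B) (u : List Bool)
    (p : Fin 100) : ((gwP x t u) p).val = evalU A B u p.val := by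
  induction u with
  | nil => rfl
  | cons l u ih =>
    show ((cond l t x) ((gwP x t u) p)).val = look 7 (cond l B A) (evalU A B u p.val)
    rw [← ih]
    cases l
    · exact hx _
    · exact ht _

theorem gwP_pow_acts {x t : P100} {A B : ℕ} (hx : ActsT x A) (ht : ActsT t B) (u : List Bool)
    (m : ℕ) (p : Fin 100) : ((gwP x t u ^ m) p).val = (evalU A B u)^[m] p.val := by
  induction m with
  | zero => rfl
  | succ m ih =>
    rw [pow_succ', Function.iterate_succ_apply', ← ih]
    exact gwP_acts hx ht u _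

theorem rel_holds (r : List Bool × ℕ) (hr : r ∈ RELS) : gwP a b r.1 ^ r.2 = 1 := by
  have h := rels_ok
  rw [List.all_eq_true] at h
  have h1 := h r hr
  unfold relHolds at h1
  rw [List.all_eq_true] at h1
  apply Equiv.ext
  intro p
  apply Fin.ext
  rw [gwP_pow_acts a_acts b_acts]
  exact Nat.eq_of_beq_eq_true (h1 p.val (List.mem_range.mpr p.isLt))

/-! ### automorphisms fixing `a` are inner -/

/-- `a` as an element of the group -/
def aK : Kab := ⟨a, a_mem_K⟩

/-- `b` as an element of the group -/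
def bK : Kab := ⟨b, b_mem_K⟩

theorem closure_ab : Subgroup.closure ({aK, bK} : Set Kab) = ⊤ := by
  have h := Subgroup.closure_closure_coe_preimage (k := ({a, b} : Set P100))
  have e : ((↑) : Subgroup.closure ({a, b} : Set P100) → P100) ⁻¹' ({a, b} : Set P100) =
      ({aK, bK} : Set Kab) := by
    ext x
    simp only [Set.mem_preimage, Set.mem_insert_iff, Set.mem_singleton_iff]
    constructor
    · rintro (h | h)
      · exact Or.inl (Subtype.ext h)
      · exact Or.inr (Subtype.ext h)
    · rintro (h | h)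
      · exact Or.inl (congrArg Subtype.val h)
      · exact Or.inr (congrArg Subtype.val h)
  rw [e] at h
  exact h

theorem coe_gwP (x t : Kab) (u : List Bool) :
    ((gwP x t u : Kab) : P100) = gwP (x : P100) (t : P100) u :=
  map_gwP Kab.subtype x t u

theorem bK_sq : bK * bK = 1 := Subtype.ext b_mul_self

theorem bK_ne : bK ≠ 1 := fun h => b_ne_one (congrArg Subtype.val h)

theorem aK_pow : aK ^ 11 = 1 := Subtype.ext (by rw [Subgroup.coe_pow]; exact a_pow11)

theorem aK_ne : aK ≠ 1 := fun h => a_ne_one (congrArg Subtype.val h)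

theorem relK (r : List Bool × ℕ) (hr : r ∈ RELS) : gwP aK bK r.1 ^ r.2 = 1 := by
  apply Subtype.ext
  rw [Subgroup.coe_pow, coe_gwP]
  exact rel_holds r hr

theorem good_spec (e : TE) (he : e ∈ IV.toList) (hg : GOODL.contains e.1 = true) :
    ∃ i : ℕ, wordEq 100 7 [e.2.1] (List.replicate i ta ++ tb :: List.replicate i tai) = true := by
  have hmem : e.1 ∈ GOODL := List.contains_iff_mem.mp hg
  obtain ⟨i, hi, hie⟩ := List.mem_iff_getElem.mp hmem
  have hi11 : i < 11 := by rw [← len_GOODL]; exact hi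
  have hl := good_ok
  rw [List.all_eq_true] at hl
  have hli := hl i (List.mem_range.mpr hi11)
  unfold goodOK at hli
  rw [List.getD_eq_getElem _ _ hi, hie] at hli
  cases hf : IV.lookup e.1 with
  | none => rw [hf] at hli; simp at hli
  | some e' =>
    rw [hf] at hli
    obtain ⟨he', hk⟩ := Tree.lookup_some _ hf
    have hnd : (IV.toList.map fun e => e.1).Nodup := sortedB_nodup _ iv_sorted
    have hee : e' = e := List.inj_on_of_nodup_map hnd he' he hk
    rw [hee] at hli
    exact ⟨i, hli⟩

/-- an automorphism fixing `a` is inner -/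
theorem inner_of_fix (φ : MulAut Kab) (hφ : φ aK = aK) : φ ∈ Cfsg.Inn Kab := by
  have huu : φ bK * φ bK = 1 := by rw [← map_mul, bK_sq, map_one]
  have hu1 : φ bK ≠ 1 := by
    intro h
    exact bK_ne (φ.injective (by rw [h, map_one]))
  obtain ⟨e, he, hact⟩ := invol_mem (φ bK) huu hu1
  have hiv := iv_spec e he
  by_cases hw : e.2.2.1 = 0
  · obtain ⟨i, hi⟩ := good_spec e he (hiv.2.2.2.2.1 hw)
    have hteq : ((φ bK : Kab) : P100) = a ^ i * (b * a⁻¹ ^ i) :=
      eq_of_wordEq 100 7 hact.word (actsW_mul (actsW_pow a_acts i)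
        (actsByW_cons b_acts (actsW_pow ainv_acts i))) hi
    have hub : φ bK = aK ^ i * (bK * aK⁻¹ ^ i) := by
      apply Subtype.ext
      rw [hteq]
      simp only [Subgroup.coe_mul, Subgroup.coe_pow, Subgroup.coe_inv]
      rfl
    refine ⟨aK ^ i, ?_⟩
    symm
    apply MulEquiv.toMonoidHom_injective
    apply MonoidHom.eq_of_eqOn_dense closure_ab
    intro z hz
    rcases hz with rfl | hz
    · show φ aK = MulAut.conj (aK ^ i) aK
      rw [hφ, MulAut.conj_apply, ← pow_succ, pow_succ', mul_assoc, mul_inv_cancel, mul_one]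
    · rw [Set.mem_singleton_iff] at hz
      rw [hz]
      show φ bK = MulAut.conj (aK ^ i) bK
      rw [hub, MulAut.conj_apply, inv_pow, mul_assoc]
  · exfalso
    have hne := hiv.2.2.2.2.2 hw
    by_cases hidx : (e.2.2.1 - 1) / 100 < RELS.length
    · have hr : RELS.getD ((e.2.2.1 - 1) / 100) ([], 0) ∈ RELS := by
        rw [List.getD_eq_getElem _ _ hidx]
        exact List.getElem_mem _
      have h1 := relK _ hr
      have h2 : gwP (φ aK) (φ bK) (RELS.getD ((e.2.2.1 - 1) / 100) ([], 0)).1 ^
          (RELS.getD ((e.2.2.1 - 1) / 100) ([], 0)).2 = 1 := by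
        have h0 : φ (gwP aK bK (RELS.getD ((e.2.2.1 - 1) / 100) ([], 0)).1) =
            gwP (φ aK) (φ bK) (RELS.getD ((e.2.2.1 - 1) / 100) ([], 0)).1 :=
          map_gwP φ.toMonoidHom aK bK _
        rw [← h0, ← map_pow, h1, map_one]
      rw [hφ] at h2
      have h3 := congrArg (fun g : Kab => (g : P100)) h2
      simp only [Subgroup.coe_pow, coe_gwP, Subgroup.coe_one] at h3
      have hp : (e.2.2.1 - 1) % 100 < 100 := Nat.mod_lt _ (by norm_num)
      have h4 := gwP_pow_acts a_acts hact (RELS.getD ((e.2.2.1 - 1) / 100) ([], 0)).1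
        (RELS.getD ((e.2.2.1 - 1) / 100) ([], 0)).2 ⟨(e.2.2.1 - 1) % 100, hp⟩
      have h5 : ((aK : Kab) : P100) = a := rfl
      rw [h5] at h3
      rw [h3] at h4
      exact hne h4.symm
    · rw [List.getD_eq_default _ _ (by omega)] at hne
      exact hne rfl

/-! ### the outer automorphism -/

theorem s_norm : ∀ g ∈ Kab, s * g * s⁻¹ ∈ Kab := by
  have h : Kab ≤ Kab.comap (MulAut.conj s).toMonoidHom := by
    unfold Kab
    rw [Subgroup.closure_le]
    intro x hx
    rw [SetLike.mem_coe, Subgroup.mem_comap]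
    show MulAut.conj s x ∈ Subgroup.closure {a, b}
    rw [MulAut.conj_apply]
    rcases hx with rfl | hx
    · rw [s_conj_a]
      exact Subgroup.inv_mem _ a_mem_K
    · rw [Set.mem_singleton_iff] at hx
      rw [hx]
      have := sbs_mem
      rw [H0_eq] at this
      exact this
  intro g hg
  exact h hg

/-- conjugation by `s` -/
def tauHom : Kab →* Kab where
  toFun g := ⟨s * g * s⁻¹, s_norm g g.2⟩
  map_one' := by
    apply Subtype.ext
    show s * ((1 : Kab) : P100) * s⁻¹ = ((1 : Kab) : P100)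
    rw [Subgroup.coe_one, mul_one, mul_inv_cancel]
  map_mul' x y := by
    apply Subtype.ext
    show s * ((x * y : Kab) : P100) * s⁻¹ = s * (x : P100) * s⁻¹ * (s * (y : P100) * s⁻¹)
    rw [Subgroup.coe_mul]
    group

theorem tauHom_coe (g : Kab) : ((tauHom g : Kab) : P100) = s * g * s⁻¹ := rfl

theorem tauHom_bij : Function.Bijective tauHom := by
  haveI := finite_K
  have hinj : Function.Injective tauHom := by
    intro g h hgh
    apply Subtype.ext
    have h1 := congrArg (fun x : Kab => (x : P100)) hgh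
    simp only [tauHom_coe] at h1
    exact mul_left_cancel (mul_right_cancel h1)
  exact ⟨hinj, Finite.injective_iff_surjective.mp hinj⟩

/-- the outer automorphism -/
noncomputable def tau : MulAut Kab := MulEquiv.ofBijective tauHom tauHom_bij

theorem tau_coe (g : Kab) : ((tau g : Kab) : P100) = s * g * s⁻¹ := rfl

theorem tau_a : tau aK = aK⁻¹ := by
  apply Subtype.ext
  rw [tau_coe, Subgroup.coe_inv]
  exact s_conj_a

/-- the group is transitive -/
theorem trans_K (x : Fin 100) : ∃ g ∈ Kab, g (pt 100 0) = x := by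
  have h := tr0_all
  rw [List.all_eq_true] at h
  have h1 := h x.val (List.mem_range.mpr x.isLt)
  rw [List.any_eq_true] at h1
  obtain ⟨e, he, hex⟩ := h1
  have hL : LEVELS = (0, htr0) :: [(1, htr1), (2, htr2), (3, htr3), (4, htr4), (5, htr5)] := rfl
  have hc := chain_ok
  rw [hL] at hc
  obtain ⟨g, hg, hgx⟩ := perm_reach 100 7 GENS _ _ gens_ok hc e he
  refine ⟨g, ?_, ?_⟩
  · rw [← H0_eq]
    exact hg
  · rw [hgx, Nat.eq_of_beq_eq_true hex]
    exact pt_of_val 100 x

theorem fix_unique (x : Fin 100) (hx : a x = x) : x = pt 100 71 := by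
  have h1 : x.val ∈ (List.range 100).filter fun i => Nat.beq (look 7 ta i) i := by
    rw [List.mem_filter]
    refine ⟨List.mem_range.mpr x.isLt, ?_⟩
    rw [← a_acts x, hx]
    exact Nat.beq_refl _
  rw [fix_a, List.mem_singleton] at h1
  apply Fin.ext
  rw [h1, pt_val 100 (by norm_num)]

theorem a_fix : a (pt 100 71) = pt 100 71 := by
  apply Fin.ext
  rw [a_acts, pt_val 100 (by norm_num)]
  decide +kernel

theorem fixCount_eq {g : P100} {t t' : ℕ} (h : ActsT g t) (h' : ActsT g t') :
    fixCount t = fixCount t' := by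
  unfold fixCount
  congr 1
  apply List.filter_congr
  intro x hx
  have hx' : x < 100 := List.mem_range.mp hx
  rw [← h ⟨x, hx'⟩, ← h' ⟨x, hx'⟩]

theorem s_ne_one : s ≠ 1 := by
  intro h
  have h1 : ActsByW 100 7 (1 : P100) [ts] := by rw [← h]; exact s_acts.word
  have := wordId_of_acts h1
  rw [HSA.s_ne] at this
  exact Bool.false_ne_true this

theorem s_not_mem : s ∉ Kab := by
  intro hs
  have h2 : (⟨s, hs⟩ : Kab) * ⟨s, hs⟩ = 1 := Subtype.ext s_mul_self
  have h1 : (⟨s, hs⟩ : Kab) ≠ 1 := fun h => s_ne_one (congrArg Subtype.val h)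
  obtain ⟨e, he, hact⟩ := invol_mem ⟨s, hs⟩ h2 h1
  have h3 := (iv_spec e he).2.2.2.1
  have hact' : ActsT s e.2.1 := hact
  rw [fixCount_eq hact' s_acts, fix_s] at h3
  exact h3 rfl

theorem tau_not_inner : tau ∉ Cfsg.Inn Kab := by
  rintro ⟨h, hh⟩
  apply s_not_mem
  have hconj : ∀ g : Kab, (h : P100) * g * (h : P100)⁻¹ = s * g * s⁻¹ := by
    intro g
    have h1 : MulAut.conj h g = tau g := by
      have : (MulAut.conj : Kab →* MulAut Kab) h = tau := hh
      rw [← this]
    have h2 := congrArg (fun x : Kab => (x : P100)) h1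
    simp only [MulAut.conj_apply, Subgroup.coe_mul, Subgroup.coe_inv, tau_coe] at h2
    exact h2
  -- `z` centralizes the group
  have hz : ∀ g ∈ Kab, ((h : P100)⁻¹ * s) * g = g * ((h : P100)⁻¹ * s) := by
    intro g hg
    have h1 := hconj ⟨g, hg⟩
    have h2 : s * g = (h : P100) * g * (h : P100)⁻¹ * s := by
      rw [h1]
      group
    calc (h : P100)⁻¹ * s * g = (h : P100)⁻¹ * (s * g) := by group
      _ = (h : P100)⁻¹ * ((h : P100) * g * (h : P100)⁻¹ * s) := by rw [h2]
      _ = g * ((h : P100)⁻¹ * s) := by group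
  have hz0 : ((h : P100)⁻¹ * s) (pt 100 71) = pt 100 71 := by
    apply fix_unique
    have h1 := congrArg (fun f : P100 => f (pt 100 71)) (hz a a_mem_K)
    simp only [Equiv.Perm.mul_apply] at h1
    rw [a_fix] at h1
    exact h1.symm
  have hz1 : (h : P100)⁻¹ * s = 1 := by
    apply Equiv.ext
    intro x
    obtain ⟨g1, hg1, hgx1⟩ := trans_K (pt 100 71)
    obtain ⟨g2, hg2, hgx2⟩ := trans_K x
    have hx : (g2 * g1⁻¹) (pt 100 71) = x := by
      rw [Equiv.Perm.mul_apply, ← hgx1]
      show g2 (g1.symm (g1 (pt 100 0))) = x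
      rw [Equiv.symm_apply_apply, hgx2]
    have h1 := congrArg (fun f : P100 => f (pt 100 71))
      (hz _ (Kab.mul_mem hg2 (Kab.inv_mem hg1)))
    simp only [Equiv.Perm.mul_apply] at h1
    have h2 := hz0
    rw [Equiv.Perm.mul_apply] at h2
    have hx' : g2 (g1⁻¹ (pt 100 71)) = x := hx
    rw [h2, hx'] at h1
    rw [Equiv.Perm.mul_apply, Equiv.Perm.one_apply]
    exact h1
  have hs : s = (h : P100) := by
    calc s = (h : P100) * ((h : P100)⁻¹ * s) := by group
      _ = (h : P100) := by rw [hz1, mul_one]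
  rw [hs]
  exact h.2

/-! ### the outer automorphism group -/

theorem orderOf_aK : orderOf aK = 11 := by
  haveI : Fact (Nat.Prime 11) := ⟨by norm_num⟩
  exact orderOf_eq_prime aK_pow aK_ne

theorem fact11 : (Nat.card Kab).factorization 11 = 1 := by
  rw [card_Kab]
  have h : (44352000 : ℕ) = 11 ^ 1 * 4032000 := by norm_num
  rw [h, Nat.factorization_mul (by norm_num) (by norm_num), Finsupp.add_apply,
    Nat.Prime.factorization_pow (by norm_num), Finsupp.single_eq_same,
    Nat.factorization_eq_zero_of_not_dvd (by norm_num)]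

theorem cK_conj : (⟨c, by rw [← H0_eq]; exact c_mem⟩ : Kab) * aK *
    (⟨c, by rw [← H0_eq]; exact c_mem⟩ : Kab)⁻¹ = aK ^ 4 := by
  apply Subtype.ext
  simp only [Subgroup.coe_mul, Subgroup.coe_inv, Subgroup.coe_pow]
  exact c_conj_a

theorem arith11 : ∀ k : ℕ, 1 ≤ k → k < 11 →
    ∃ i : ℕ, k * 4 ^ i % 11 = 1 ∨ k * 4 ^ i % 11 = 11 - 1 := by
  intro k h1 h2
  interval_cases k
  · exact ⟨0, by norm_num⟩
  · exact ⟨2, by norm_num⟩
  · exact ⟨1, by norm_num⟩
  · exact ⟨4, by norm_num⟩
  · exact ⟨3, by norm_num⟩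
  · exact ⟨3, by norm_num⟩
  · exact ⟨4, by norm_num⟩
  · exact ⟨1, by norm_num⟩
  · exact ⟨2, by norm_num⟩
  · exact ⟨0, by norm_num⟩

/-- the outer automorphism group of the group generated by `a` and `b` has order two -/
theorem out_card : Nat.card (Cfsg.Out Kab) = 2 := by
  haveI : Fact (Nat.Prime 11) := ⟨by norm_num⟩
  haveI := finite_K
  exact Cfsg.Agent.Lib.Helper28.OutTwo.out_card_two orderOf_aK fact11 cK_conj arith11
    inner_of_fix tau tau_a tau_not_inner

end Cfsg.Agent.Lib.Helper28.HSA
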