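import Mathlib
import Cfsg.Agent.S0742
import Cfsg.Agent.S0254

set_option autoImplicit false

namespace Cfsg.Agent.Lib.Helper28.Order360

open Subgroup MulAction

variable {G : Type*} [Group G] [Finite G]

theorem six_le_index [IsSimpleGroup G] (h : Nat.card G = 360) (H : Subgroup G) (hH : H ≠ ⊤) :
    6 ≤ H.index := by
  by_contra hlt
  push Not at hlt
  let φ : G →* Equiv.Perm (G ⧸ H) := MulAction.toPermHom G (G ⧸ H)
  rcases (MonoidHom.normal_ker φ).eq_bot_or_eq_top with hk | hk
  · have hinj : Function.Injective φ := (MonoidHom.ker_eq_bot_iff φ).mp hk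
    have h1 : Nat.card G ≤ Nat.card (Equiv.Perm (G ⧸ H)) :=
      Nat.card_le_card_of_injective φ hinj
    rw [Nat.card_perm] at h1
    have h2 : Nat.card (G ⧸ H) = H.index := rfl
    rw [h2, h] at h1
    have h3 : (H.index).factorial ≤ (5).factorial := Nat.factorial_le (by omega)
    have h4 : (5).factorial = 120 := by decide
    omega
  · apply hH
    rw [eq_top_iff]
    intro g _
    have hg : g ∈ φ.ker := by rw [hk]; trivial
    rw [MonoidHom.mem_ker] at hg
    have h1 : φ g ((1 : G) : G ⧸ H) = ((1 : G) : G ⧸ H) := by rw [hg]; rfl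
    have h2 : φ g ((1 : G) : G ⧸ H) = ((g * 1 : G) : G ⧸ H) := rfl
    rw [h2, QuotientGroup.eq] at h1
    have h3 : g⁻¹ ∈ H := by simpa using h1
    exact (inv_mem_iff).mp h3

theorem card_sylow3_of {H : Type*} [Group H] [Finite H] (k : ℕ) (h : Nat.card H = 9 * k)
    (hk : ¬ 3 ∣ k) (P : Sylow 3 H) : Nat.card (P : Subgroup H) = 9 := by
  obtain ⟨n, hn⟩ := IsPGroup.iff_card.mp P.isPGroup'
  have h1 : Nat.card (P : Subgroup H) * (P : Subgroup H).index = 9 * k := by
    rw [Subgroup.card_mul_index, h]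
  have h2 : ¬ 3 ∣ (P : Subgroup H).index := P.not_dvd_index
  rw [hn] at h1 ⊢
  rcases Nat.lt_or_ge n 3 with hlt | hge
  · interval_cases n
    · exfalso; apply h2; exact ⟨3 * k, by omega⟩
    · exfalso; apply h2; exact ⟨k, by omega⟩
    · rfl
  · exfalso; apply hk
    obtain ⟨m, rfl⟩ := Nat.exists_eq_add_of_le hge
    refine ⟨3 ^ m * (P : Subgroup H).index, ?_⟩
    have h3 : 9 * k = 9 * (3 * (3 ^ m * (P : Subgroup H).index)) := by
      rw [← h1, pow_add]; ring
    exact Nat.eq_of_mul_eq_mul_left (by norm_num : 0 < 9) h3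

theorem card_sylow3 (h : Nat.card G = 360) (P : Sylow 3 G) : Nat.card (P : Subgroup G) = 9 :=
  card_sylow3_of 40 (by rw [h]) (by omega) P

theorem comm_of_card_nine {H : Type*} [Group H] (S : Subgroup H) (hS : Nat.card S = 9) {a b : H}
    (ha : a ∈ S) (hb : b ∈ S) : a * b = b * a := by
  have hc : Nat.card S = 3 ^ 2 := by rw [hS]; norm_num
  have := IsPGroup.commutative_of_card_eq_prime_sq hc ⟨a, ha⟩ ⟨b, hb⟩
  exact congrArg Subtype.val this

theorem exists_normal_compl {H : Type*} [Group H] [Finite H] {p : ℕ} [Fact p.Prime] (P : Sylow p H)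
    (hcomm : ∀ a ∈ (P : Subgroup H), ∀ b ∈ (P : Subgroup H), a * b = b * a)
    (hN : Nat.card (Subgroup.normalizer ((P : Subgroup H) : Set H)) = Nat.card (P : Subgroup H)) :
    ∃ K : Subgroup H, K.Normal ∧ Nat.card K * Nat.card (P : Subgroup H) = Nat.card H := by
  have hNP : Subgroup.normalizer ((P : Subgroup H) : Set H) = P := by
    symm
    apply Subgroup.eq_of_le_of_card_ge Subgroup.le_normalizer
    rw [hN]
  have hP : Subgroup.normalizer ((P : Subgroup H) : Set H) ≤ Subgroup.centralizer (P : Set H) := by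
    rw [hNP]
    intro x hx
    rw [Subgroup.mem_centralizer_iff]
    intro y hy
    exact hcomm y hy x hx
  refine ⟨(MonoidHom.transferSylow P hP).ker, inferInstance, ?_⟩
  exact (MonoidHom.ker_transferSylow_isComplement' P hP).card_mul_card

theorem card_sylow_eq_ten [IsSimpleGroup G] (h : Nat.card G = 360) :
    Nat.card (Sylow 3 G) = 10 := by
  obtain ⟨P⟩ : Nonempty (Sylow 3 G) := inferInstance
  have hP9 : Nat.card (P : Subgroup G) = 9 := card_sylow3 h P
  have hmod : Nat.card (Sylow 3 G) ≡ 1 [MOD 3] := card_sylow_modEq_one 3 G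
  have hidx : (P : Subgroup G).index = 40 := by
    have := Subgroup.card_mul_index (P : Subgroup G)
    rw [hP9, h] at this; omega
  have hdvd : Nat.card (Sylow 3 G) ∣ 40 := hidx ▸ P.card_dvd_index
  have hN : Nat.card (Sylow 3 G) = (Subgroup.normalizer ((P : Subgroup G) : Set G)).index :=
    P.card_eq_index_normalizer
  have hNc := Subgroup.card_mul_index (Subgroup.normalizer ((P : Subgroup G) : Set G))
  rw [h, ← hN] at hNc
  obtain ⟨n, hn⟩ : ∃ n, n = Nat.card (Sylow 3 G) := ⟨_, rfl⟩
  rw [← hn] at hmod hdvd hN hNc ⊢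
  have hnpos : 0 < n := Nat.pos_of_dvd_of_pos hdvd (by norm_num)
  have hnle : n ≤ 40 := Nat.le_of_dvd (by norm_num) hdvd
  obtain ⟨k, hk⟩ := hdvd
  unfold Nat.ModEq at hmod
  have hcases : n = 1 ∨ n = 4 ∨ n = 10 ∨ n = 40 := by
    interval_cases n <;> omega
  rcases hcases with h1 | h4 | h10 | h40
  · exfalso
    rw [h1] at hN
    have htop : Subgroup.normalizer ((P : Subgroup G) : Set G) = ⊤ :=
      Subgroup.index_eq_one.mp hN.symm
    have hnorm : (P : Subgroup G).Normal := Subgroup.normalizer_eq_top_iff.mp htop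
    rcases hnorm.eq_bot_or_eq_top with hb | ht
    · rw [hb, Subgroup.card_bot] at hP9; omega
    · rw [ht, Subgroup.card_top, h] at hP9; omega
  · exfalso
    have hne : Subgroup.normalizer ((P : Subgroup G) : Set G) ≠ ⊤ := by
      intro htop; rw [htop, Subgroup.index_top] at hN; omega
    have := six_le_index h _ hne
    rw [← hN, h4] at this; omega
  · exact h10
  · exfalso
    have hN9 : Nat.card (Subgroup.normalizer ((P : Subgroup G) : Set G)) = 9 := by
      rw [h40] at hNc; omega
    obtain ⟨K, hKn, hK⟩ := exists_normal_compl P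
      (fun a ha b hb => comm_of_card_nine _ hP9 ha hb) (by rw [hN9, hP9])
    rw [hP9, h] at hK
    rcases hKn.eq_bot_or_eq_top with hb | ht
    · rw [hb, Subgroup.card_bot] at hK; omega
    · rw [ht, Subgroup.card_top, h] at hK; omega

theorem no_proper_two_sylow [IsSimpleGroup G] (h : Nat.card G = 360) (M : Subgroup G) (hM : M ≠ ⊤)
    (P Q : Sylow 3 G) (hPQ : P ≠ Q) (hP : (P : Subgroup G) ≤ M) (hQ : (Q : Subgroup G) ≤ M) :
    False := by
  have hidx : 6 ≤ M.index := six_le_index h M hM
  have hMc := Subgroup.card_mul_index M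
  rw [h] at hMc
  have hP9 : Nat.card (P : Subgroup G) = 9 := card_sylow3 h P
  have h9 : 9 ∣ Nat.card M := hP9 ▸ Subgroup.card_dvd_of_le hP
  obtain ⟨k, hk⟩ := h9
  have hne : P.subtype hP ≠ Q.subtype hQ := fun he => hPQ (Sylow.subtype_injective he)
  have hP'9 : Nat.card ((P.subtype hP : Sylow 3 M) : Subgroup M) = 9 := by
    rw [Sylow.coe_subtype, ← hP9]
    exact Nat.card_congr (Subgroup.subgroupOfEquivOfLe hP).toEquiv
  have hmod : Nat.card (Sylow 3 M) ≡ 1 [MOD 3] := card_sylow_modEq_one 3 M
  have hdvd : Nat.card (Sylow 3 M) ∣ ((P.subtype hP : Sylow 3 M) : Subgroup M).index :=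
    (P.subtype hP).card_dvd_index
  have hP'c := Subgroup.card_mul_index ((P.subtype hP : Sylow 3 M) : Subgroup M)
  rw [hP'9, hk] at hP'c
  have hidx' : ((P.subtype hP : Sylow 3 M) : Subgroup M).index = k := by omega
  rw [hidx'] at hdvd
  have hn2 : 2 ≤ Nat.card (Sylow 3 M) := by
    by_contra hlt
    push Not at hlt
    have hpos : 0 < Nat.card (Sylow 3 M) := Nat.card_pos
    have h1 : Nat.card (Sylow 3 M) = 1 := by omega
    rw [Nat.card_eq_one_iff_unique] at h1
    obtain ⟨hs, _⟩ := h1
    exact hne (Subsingleton.elim _ _)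
  have hNi : Nat.card (Sylow 3 M) =
      (Subgroup.normalizer (((P.subtype hP : Sylow 3 M) : Subgroup M) : Set M)).index :=
    (P.subtype hP).card_eq_index_normalizer
  have hNc := Subgroup.card_mul_index
    (Subgroup.normalizer (((P.subtype hP : Sylow 3 M) : Subgroup M) : Set M))
  rw [← hNi] at hNc
  rw [hk] at hMc
  obtain ⟨n, hn⟩ : ∃ n, n = Nat.card (Sylow 3 M) := ⟨_, rfl⟩
  rw [← hn] at hmod hdvd hn2 hNc
  have hk4 : k = 4 ∧ n = 4 := by
    obtain ⟨j, hj⟩ := hdvd
    unfold Nat.ModEq at hmod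
    have hkle : k ≤ 6 := by nlinarith
    have hkpos : 0 < k := by
      rcases Nat.eq_zero_or_pos k with h0 | h0
      · rw [h0] at hMc; omega
      · exact h0
    have hnle : n ≤ k := Nat.le_of_dvd hkpos ⟨j, hj⟩
    interval_cases k <;> interval_cases n <;> omega
  obtain ⟨hk4, hn4⟩ := hk4
  subst hk4
  subst hn4
  have hM36 : Nat.card M = 36 := by omega
  rw [hM36] at hNc
  have hN9 : Nat.card (Subgroup.normalizer (((P.subtype hP : Sylow 3 M) : Subgroup M) : Set M))
      = 9 := by omega
  obtain ⟨K, hKn, hK⟩ := exists_normal_compl (P.subtype hP)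
    (fun a ha b hb => comm_of_card_nine _ hP'9 ha hb) (by rw [hN9, hP'9])
  rw [hP'9, hM36] at hK
  have hK4 : Nat.card K = 4 := by omega
  have hK'4 : Nat.card (K.map M.subtype) = 4 := by
    rw [Subgroup.card_map_of_injective M.subtype_injective, hK4]
  have hMN : M ≤ Subgroup.normalizer ((K.map M.subtype : Subgroup G) : Set G) := by
    have h1 := Subgroup.le_normalizer_map (H := K) M.subtype
    rw [Subgroup.normalizer_eq_top_iff.mpr hKn, ← MonoidHom.range_eq_map,
      Subgroup.range_subtype] at h1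
    exact h1
  have h8 : 2 ^ (2 + 1) ∣ Nat.card (Subgroup.normalizer ((K.map M.subtype : Subgroup G) : Set G)) :=
    Sylow.prime_pow_dvd_card_normalizer (by rw [h]; norm_num) (by rw [hK'4]; norm_num)
  have h36 : 36 ∣ Nat.card (Subgroup.normalizer ((K.map M.subtype : Subgroup G) : Set G)) :=
    hM36 ▸ Subgroup.card_dvd_of_le hMN
  have hNK := Subgroup.card_mul_index
    (Subgroup.normalizer ((K.map M.subtype : Subgroup G) : Set G))
  rw [h] at hNK
  have htop : Subgroup.normalizer ((K.map M.subtype : Subgroup G) : Set G) = ⊤ := by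
    by_contra hne'
    have h6 := six_le_index h _ hne'
    obtain ⟨a, ha⟩ := h8
    obtain ⟨b, hb⟩ := h36
    have hpos : 0 < Nat.card (Subgroup.normalizer ((K.map M.subtype : Subgroup G) : Set G)) :=
      Nat.card_pos
    have : Nat.card (Subgroup.normalizer ((K.map M.subtype : Subgroup G) : Set G)) ≤ 60 := by
      nlinarith
    omega
  have hKn' : (K.map M.subtype).Normal := Subgroup.normalizer_eq_top_iff.mp htop
  rcases hKn'.eq_bot_or_eq_top with hb | ht
  · rw [hb, Subgroup.card_bot] at hK'4; omega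
  · rw [ht, Subgroup.card_top, h] at hK'4; omega

theorem sylow_inf_eq_bot [IsSimpleGroup G] (h : Nat.card G = 360) (P Q : Sylow 3 G)
    (hPQ : P ≠ Q) : (P : Subgroup G) ⊓ (Q : Subgroup G) = ⊥ := by
  by_contra hD
  have hP9 := card_sylow3 h P
  have hQ9 := card_sylow3 h Q
  refine no_proper_two_sylow h
    (Subgroup.centralizer (((P : Subgroup G) ⊓ (Q : Subgroup G) : Subgroup G) : Set G))
    ?_ P Q hPQ ?_ ?_
  · intro htop
    rw [Subgroup.centralizer_eq_top_iff_subset] at htop
    rcases (inferInstance : (Subgroup.center G).Normal).eq_bot_or_eq_top with hc | hc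
    · apply hD
      rw [eq_bot_iff]
      intro x hx
      have hx' : x ∈ Subgroup.center G := htop hx
      rw [hc] at hx'
      exact hx'
    · have hPn : (P : Subgroup G).Normal := ⟨fun n hn g => by
        have hg : g ∈ Subgroup.center G := by rw [hc]; trivial
        rw [Subgroup.mem_center_iff] at hg
        rw [← hg n, mul_inv_cancel_right]
        exact hn⟩
      rcases hPn.eq_bot_or_eq_top with hb | ht
      · rw [hb, Subgroup.card_bot] at hP9; omega
      · rw [ht, Subgroup.card_top, h] at hP9; omega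
  · intro x hx
    rw [Subgroup.mem_centralizer_iff]
    intro y hy
    exact comm_of_card_nine _ hP9 (Subgroup.mem_inf.mp hy).1 hx
  · intro x hx
    rw [Subgroup.mem_centralizer_iff]
    intro y hy
    exact comm_of_card_nine _ hQ9 (Subgroup.mem_inf.mp hy).2 hx

theorem smul_self_of_mem (P : Sylow 3 G) {x : G} (hx : x ∈ (P : Subgroup G)) : x • P = P :=
  Sylow.smul_eq_iff_mem_normalizer.mpr (Subgroup.le_normalizer hx)

theorem eq_one_of_smul_eq [IsSimpleGroup G] (h : Nat.card G = 360) (P Q : Sylow 3 G)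
    (hPQ : P ≠ Q) {x : G} (hx : x ∈ (P : Subgroup G)) (hxQ : x • Q = Q) : x = 1 := by
  have h1 : x ∈ (P : Subgroup G) ⊓ Subgroup.normalizer (Q : Set G) :=
    Subgroup.mem_inf.mpr ⟨hx, Sylow.smul_eq_iff_mem_normalizer.mp hxQ⟩
  rw [IsPGroup.inf_normalizer_sylow P.2 Q, sylow_inf_eq_bot h P Q hPQ] at h1
  exact Subgroup.mem_bot.mp h1

theorem exists_smul_eq' [IsSimpleGroup G] (h : Nat.card G = 360) (P Q R : Sylow 3 G)
    (hQ : Q ≠ P) (hR : R ≠ P) : ∃ x ∈ (P : Subgroup G), x • Q = R := by
  classical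
  haveI : Fintype (Sylow 3 G) := Fintype.ofFinite _
  haveI : Fintype (P : Subgroup G) := Fintype.ofFinite _
  let f : ↥(P : Subgroup G) → Sylow 3 G := fun x => (x : G) • Q
  have hf : Function.Injective f := by
    intro x y hxy
    have hxy' : (x : G) • Q = (y : G) • Q := hxy
    have h1 : ((y : G)⁻¹ * (x : G)) • Q = Q := by
      rw [mul_smul, hxy', inv_smul_smul]
    have h2 := eq_one_of_smul_eq h P Q hQ.symm (mul_mem (inv_mem y.2) x.2) h1
    have h3 : (x : G) = (y : G) := by
      have := congrArg (fun z => (y : G) * z) h2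
      simpa using this
    exact Subtype.ext h3
  have hsub : Finset.univ.image f ⊆ Finset.univ.erase P := by
    intro S hS
    rw [Finset.mem_image] at hS
    obtain ⟨x, _, rfl⟩ := hS
    rw [Finset.mem_erase]
    refine ⟨?_, Finset.mem_univ _⟩
    intro he
    apply hQ
    have he' : (x : G) • Q = P := he
    have h1 : Q = (x : G)⁻¹ • P := (inv_smul_eq_iff.mpr he'.symm).symm
    rw [h1]
    exact smul_self_of_mem P (inv_mem x.2)
  have hcard : (Finset.univ.erase P).card ≤ (Finset.univ.image f).card := by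
    rw [Finset.card_image_of_injective _ hf, Finset.card_erase_of_mem (Finset.mem_univ _),
      Finset.card_univ, Finset.card_univ, ← Nat.card_eq_fintype_card, ← Nat.card_eq_fintype_card,
      card_sylow_eq_ten h, card_sylow3 h P]
  have heq := Finset.eq_of_subset_of_card_le hsub hcard
  have hRm : R ∈ Finset.univ.image f := by
    rw [heq]; exact Finset.mem_erase.mpr ⟨hR, Finset.mem_univ _⟩
  obtain ⟨x, _, hx⟩ := Finset.mem_image.mp hRm
  exact ⟨x, x.2, hx⟩

theorem card_stab [IsSimpleGroup G] (h : Nat.card G = 360) (a : Sylow 3 G) :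
    Nat.card (stabilizer G a) = 36 := by
  rw [Sylow.stabilizer_eq_normalizer]
  have := Subgroup.card_mul_index (Subgroup.normalizer (a : Set G))
  rw [← a.card_eq_index_normalizer, card_sylow_eq_ten h, h] at this
  omega

theorem card_two_stab [IsSimpleGroup G] (h : Nat.card G = 360) (a b : Sylow 3 G) (hab : a ≠ b) :
    Nat.card ↥(stabilizer G a ⊓ stabilizer G b) = 4 := by
  have hN := card_stab h a
  have ha9 := card_sylow3 h a
  let f : ↥(a : Subgroup G) × ↥(stabilizer G a ⊓ stabilizer G b) → ↥(stabilizer G a) :=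
    fun p => ⟨(p.1 : G) * (p.2 : G),
      mul_mem (mem_stabilizer_iff.mpr (smul_self_of_mem a p.1.2)) (Subgroup.mem_inf.mp p.2.2).1⟩
  have hinj : Function.Injective f := by
    rintro ⟨x, c⟩ ⟨x', c'⟩ hxc
    have h0 : (x : G) * (c : G) = (x' : G) * (c' : G) := congrArg Subtype.val hxc
    have h1 : (x' : G)⁻¹ * (x : G) = (c' : G) * (c : G)⁻¹ := by
      have : (x : G) = (x' : G) * (c' : G) * (c : G)⁻¹ := by rw [← h0, mul_inv_cancel_right]
      rw [this]; group
    have h2 : ((x' : G)⁻¹ * (x : G)) • b = b := by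
      rw [h1]
      exact mem_stabilizer_iff.mp
        (mul_mem (Subgroup.mem_inf.mp c'.2).2 (inv_mem (Subgroup.mem_inf.mp c.2).2))
    have h3 := eq_one_of_smul_eq h a b hab (mul_mem (inv_mem x'.2) x.2) h2
    have hx : (x : G) = (x' : G) := by
      have := congrArg (fun z => (x' : G) * z) h3
      simpa using this
    have hc : (c : G) = (c' : G) := by
      rw [hx] at h0; exact mul_left_cancel h0
    exact Prod.ext (Subtype.ext hx) (Subtype.ext hc)
  have hsurj : Function.Surjective f := by
    rintro ⟨g, hg⟩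
    have hga : g • a = a := mem_stabilizer_iff.mp hg
    have hga' : g⁻¹ • a = a := inv_smul_eq_iff.mpr hga.symm
    have hgb : g • b ≠ a := by
      intro he
      have h1 : b = g⁻¹ • a := (inv_smul_eq_iff.mpr he.symm).symm
      rw [hga'] at h1
      exact hab h1.symm
    obtain ⟨x, hx, hxb⟩ := exists_smul_eq' h a b (g • b) hab.symm hgb
    have hc : x⁻¹ * g ∈ stabilizer G a ⊓ stabilizer G b := by
      refine Subgroup.mem_inf.mpr ⟨?_, ?_⟩
      · exact mul_mem (inv_mem (mem_stabilizer_iff.mpr (smul_self_of_mem a hx))) hg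
      · rw [mem_stabilizer_iff, mul_smul, ← hxb, inv_smul_smul]
    refine ⟨(⟨x, hx⟩, ⟨x⁻¹ * g, hc⟩), ?_⟩
    apply Subtype.ext
    show x * (x⁻¹ * g) = g
    rw [mul_inv_cancel_left]
  have hcard := Nat.card_congr (Equiv.ofBijective f ⟨hinj, hsurj⟩)
  rw [Nat.card_prod, ha9, hN] at hcard
  omega

theorem faithful [IsSimpleGroup G] (h : Nat.card G = 360) : FaithfulSMul G (Sylow 3 G) := by
  let φ : G →* Equiv.Perm (Sylow 3 G) := MulAction.toPermHom G (Sylow 3 G)
  have hker : φ.ker = ⊥ := by
    rcases (MonoidHom.normal_ker φ).eq_bot_or_eq_top with hk | hk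
    · exact hk
    · exfalso
      obtain ⟨P⟩ : Nonempty (Sylow 3 G) := inferInstance
      have hP9 := card_sylow3 h P
      have htop : Subgroup.normalizer ((P : Subgroup G) : Set G) = ⊤ := by
        rw [eq_top_iff]; intro g _
        have hg : g ∈ φ.ker := by rw [hk]; trivial
        rw [MonoidHom.mem_ker] at hg
        have h1 : φ g P = P := by rw [hg]; rfl
        exact Sylow.smul_eq_iff_mem_normalizer.mp h1
      have hnorm : (P : Subgroup G).Normal := Subgroup.normalizer_eq_top_iff.mp htop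
      rcases hnorm.eq_bot_or_eq_top with hb | ht
      · rw [hb, Subgroup.card_bot] at hP9; omega
      · rw [ht, Subgroup.card_top, h] at hP9; omega
  constructor
  intro g1 g2 hg
  have hinj : Function.Injective φ := (MonoidHom.ker_eq_bot_iff φ).mp hker
  apply hinj
  apply Equiv.ext
  intro x
  exact hg x

theorem two_trans [IsSimpleGroup G] (h : Nat.card G = 360) :
    MulAction.IsMultiplyPretransitive G (Sylow 3 G) 2 := by
  rw [MulAction.is_two_pretransitive_iff]
  intro a b c d hab hcd
  obtain ⟨g, hg⟩ := MulAction.exists_smul_eq G a c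
  have hgb : g • b ≠ c := by
    intro he
    apply hab
    rw [← hg] at he
    exact (smul_left_cancel g he).symm
  obtain ⟨x, hx, hxb⟩ := exists_smul_eq' h c (g • b) d hgb (Ne.symm hcd)
  refine ⟨x * g, ?_, ?_⟩
  · rw [mul_smul, hg]; exact smul_self_of_mem c hx
  · rw [mul_smul]; exact hxb

theorem sign_eq_one [IsSimpleGroup G] (h : Nat.card G = 360) [Fintype (Sylow 3 G)]
    [DecidableEq (Sylow 3 G)] (g : G) :
    Equiv.Perm.sign (MulAction.toPermHom G (Sylow 3 G) g) = 1 := by
  let ψ : G →* ℤˣ := Equiv.Perm.sign.comp (MulAction.toPermHom G (Sylow 3 G))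
  rcases (MonoidHom.normal_ker ψ).eq_bot_or_eq_top with hk | hk
  · exfalso
    have hinj : Function.Injective ψ := (MonoidHom.ker_eq_bot_iff ψ).mp hk
    have := Nat.card_le_card_of_injective ψ hinj
    rw [h, Nat.card_eq_fintype_card, Fintype.card_units_int] at this
    omega
  · have hg : g ∈ ψ.ker := by rw [hk]; trivial
    exact MonoidHom.mem_ker.mp hg

theorem card_fixed_involution [IsSimpleGroup G] (h : Nat.card G = 360) [Fintype (Sylow 3 G)]
    [DecidableEq (Sylow 3 G)] (t : G) (ht : t ^ 2 = 1) (ht1 : t ≠ 1) :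
    (Finset.univ.filter (fun x : Sylow 3 G => t • x = x)).card = 2 ∨
      (Finset.univ.filter (fun x : Sylow 3 G => t • x = x)).card = 6 := by
  haveI := faithful h
  obtain ⟨σ, hσ⟩ : ∃ σ : Equiv.Perm (Sylow 3 G), σ = MulAction.toPermHom G (Sylow 3 G) t :=
    ⟨_, rfl⟩
  have hσ1 : σ ≠ 1 := by
    intro he
    apply ht1
    have h1 : MulAction.toPermHom G (Sylow 3 G) t = MulAction.toPermHom G (Sylow 3 G) 1 := by
      rw [← hσ, he, map_one]
    exact MulAction.toPerm_injective h1
  have hσ2 : σ ^ 2 = 1 := by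
    rw [hσ, ← map_pow, ht, map_one]
  have ho : orderOf σ = 2 := orderOf_eq_prime hσ2 hσ1
  obtain ⟨n, hn⟩ := Equiv.Perm.cycleType_prime_order (σ := σ) (by rw [ho]; exact Nat.prime_two)
  rw [ho] at hn
  have hsign : Equiv.Perm.sign σ = 1 := by rw [hσ]; exact sign_eq_one h t
  rw [Equiv.Perm.sign_of_cycleType, hn, Multiset.sum_replicate, Multiset.card_replicate,
    neg_one_pow_eq_one_iff_even (by decide)] at hsign
  have hsum : σ.support.card = (n + 1) * 2 := by
    rw [← Equiv.Perm.sum_cycleType, hn, Multiset.sum_replicate, smul_eq_mul]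
  have hfix : (Finset.univ.filter (fun x : Sylow 3 G => t • x = x)).card + σ.support.card
      = 10 := by
    have h10 : Fintype.card (Sylow 3 G) = 10 := by
      rw [← Nat.card_eq_fintype_card, card_sylow_eq_ten h]
    rw [← h10, ← Finset.card_univ]
    have hs : σ.support = Finset.univ.filter (fun x : Sylow 3 G => ¬ t • x = x) := by
      ext x
      rw [Equiv.Perm.mem_support, Finset.mem_filter, hσ]
      simp
    rw [hs]
    exact Finset.card_filter_add_card_filter_not _
  rcases hsign with ⟨m, hm⟩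
  rw [smul_eq_mul] at hm
  omega

theorem fix_three [IsSimpleGroup G] (h : Nat.card G = 360) (g : G) (a b c : Sylow 3 G)
    (hab : a ≠ b) (hbc : b ≠ c) (hac : a ≠ c) (ha : g • a = a) (hb : g • b = b)
    (hc : g • c = c) : g = 1 := by
  classical
  haveI : Fintype (Sylow 3 G) := Fintype.ofFinite _
  by_contra hg1
  have hgC : g ∈ stabilizer G a ⊓ stabilizer G b := Subgroup.mem_inf.mpr ⟨ha, hb⟩
  have hg4 : g ^ 4 = 1 := by
    have h1 := pow_card_eq_one' (G := ↥(stabilizer G a ⊓ stabilizer G b)) (x := ⟨g, hgC⟩)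
    rw [card_two_stab h a b hab] at h1
    have h2 := congrArg Subtype.val h1
    simpa using h2
  obtain ⟨t, ht2, ht1, hta, htb, htc⟩ :
      ∃ t : G, t ^ 2 = 1 ∧ t ≠ 1 ∧ t • a = a ∧ t • b = b ∧ t • c = c := by
    by_cases hg2 : g ^ 2 = 1
    · exact ⟨g, hg2, hg1, ha, hb, hc⟩
    · refine ⟨g ^ 2, ?_, hg2, ?_, ?_, ?_⟩
      · rw [← pow_mul]; exact hg4
      · rw [pow_two, mul_smul, ha, ha]
      · rw [pow_two, mul_smul, hb, hb]
      · rw [pow_two, mul_smul, hc, hc]
  have hF26 := card_fixed_involution h t ht2 ht1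
  obtain ⟨F, hF⟩ : ∃ F : Finset (Sylow 3 G), F = Finset.univ.filter (fun x => t • x = x) :=
    ⟨_, rfl⟩
  rw [← hF] at hF26
  have hmemF : ∀ x : Sylow 3 G, x ∈ F ↔ t • x = x := by
    intro x; rw [hF, Finset.mem_filter]; simp
  have h3 : 3 ≤ F.card := by
    have hsub : ({a, b, c} : Finset (Sylow 3 G)) ⊆ F := by
      intro x hx
      simp only [Finset.mem_insert, Finset.mem_singleton] at hx
      rw [hmemF]
      rcases hx with rfl | rfl | rfl
      · exact hta
      · exact htb
      · exact htc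
    have hc3 : ({a, b, c} : Finset (Sylow 3 G)).card = 3 := by
      rw [Finset.card_insert_of_notMem, Finset.card_insert_of_notMem, Finset.card_singleton]
      · simpa using hbc
      · simp [hab, hac]
    have hle := Finset.card_le_card hsub
    rw [hc3] at hle
    exact hle
  have hF6 : F.card = 6 := by rcases hF26 with h2 | h6 <;> omega
  obtain ⟨K, hK⟩ : ∃ K : Subgroup G,
      K = (a : Subgroup G) ⊓ Subgroup.centralizer ({t} : Set G) := ⟨_, rfl⟩
  haveI : Fintype K := Fintype.ofFinite _
  have hKle : K ≤ (a : Subgroup G) ⊓ Subgroup.centralizer ({t} : Set G) := le_of_eq hK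
  have hKa : ∀ x : K, (x : G) ∈ (a : Subgroup G) := by
    intro x; exact (Subgroup.mem_inf.mp (hKle x.2)).1
  have hKc : ∀ x : K, t * (x : G) = (x : G) * t := by
    intro x
    have h2 := (Subgroup.mem_inf.mp (hKle x.2)).2
    rw [Subgroup.mem_centralizer_iff] at h2
    exact h2 t rfl
  have hta' : t ∈ Subgroup.normalizer ((a : Subgroup G) : Set G) :=
    Sylow.smul_eq_iff_mem_normalizer.mp hta
  let f : K → Sylow 3 G := fun x => (x : G) • b
  have hf : Function.Injective f := by
    intro x y hxy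
    have hxy' : (x : G) • b = (y : G) • b := hxy
    have h1 : ((y : G)⁻¹ * (x : G)) • b = b := by
      rw [mul_smul, hxy', inv_smul_smul]
    have h2 := eq_one_of_smul_eq h a b hab (mul_mem (inv_mem (hKa y)) (hKa x)) h1
    apply Subtype.ext
    have := congrArg (fun z => (y : G) * z) h2
    simpa using this
  have himg : Finset.univ.image f = F.erase a := by
    ext y
    rw [Finset.mem_image, Finset.mem_erase, hmemF]
    constructor
    · rintro ⟨x, _, rfl⟩
      refine ⟨?_, ?_⟩
      · intro he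
        have he' : (x : G) • b = a := he
        apply hab
        have h1 : b = (x : G)⁻¹ • a := (inv_smul_eq_iff.mpr he'.symm).symm
        rw [h1]; exact (smul_self_of_mem a (inv_mem (hKa x))).symm
      · show t • ((x : G) • b) = (x : G) • b
        rw [← mul_smul, hKc x, mul_smul, htb]
    · rintro ⟨hya, hty⟩
      obtain ⟨x, hx, hxy⟩ := exists_smul_eq' h a b y hab.symm hya
      have htb' : t⁻¹ • b = b := inv_smul_eq_iff.mpr htb.symm
      have h1 : (t * x * t⁻¹) • b = x • b := by
        rw [mul_smul, mul_smul, htb', hxy, hty]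
      have hmem : t * x * t⁻¹ ∈ (a : Subgroup G) := by
        rw [Subgroup.mem_normalizer_iff] at hta'
        exact (hta' x).mp hx
      have h2 : (x⁻¹ * (t * x * t⁻¹)) • b = b := by rw [mul_smul, h1, inv_smul_smul]
      have h3 := eq_one_of_smul_eq h a b hab (mul_mem (inv_mem hx) hmem) h2
      have h4 : t * x * t⁻¹ = x := by
        have := congrArg (fun z => x * z) h3
        simpa using this
      have hxc : x ∈ Subgroup.centralizer ({t} : Set G) := by
        rw [Subgroup.mem_centralizer_iff]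
        intro z hz
        rw [Set.mem_singleton_iff] at hz
        rw [hz]
        calc t * x = (t * x * t⁻¹) * t := by group
          _ = x * t := by rw [h4]
      have hxK : x ∈ K := by rw [hK]; exact Subgroup.mem_inf.mpr ⟨hx, hxc⟩
      exact ⟨⟨x, hxK⟩, Finset.mem_univ _, hxy⟩
  have hcard : Nat.card K = 5 := by
    have h1 := Finset.card_image_of_injective Finset.univ hf
    rw [himg, Finset.card_erase_of_mem ((hmemF a).mpr hta), hF6, Finset.card_univ,
      ← Nat.card_eq_fintype_card] at h1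
    omega
  have hdvd : Nat.card K ∣ Nat.card (a : Subgroup G) := by
    apply Subgroup.card_dvd_of_le
    rw [hK]; exact inf_le_left
  rw [hcard, card_sylow3 h a] at hdvd
  omega

theorem exists_pair [IsSimpleGroup G] (h : Nat.card G = 360) : ∃ a b : Sylow 3 G, a ≠ b := by
  have h1 : 1 < Nat.card (Sylow 3 G) := by rw [card_sylow_eq_ten h]; norm_num
  rw [Finite.one_lt_card_iff_nontrivial] at h1
  exact exists_pair_ne _

theorem zassenhaus [IsSimpleGroup G] (h : Nat.card G = 360) :
    Cfsg.IsZassenhausGroup G (Sylow 3 G) := by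
  refine ⟨faithful h, two_trans h, ?_, ?_, ?_⟩
  · intro g a b c hab hbc hac ha hb hc
    exact fix_three h g a b c hab hbc hac ha hb hc
  · obtain ⟨a, b, hab⟩ := exists_pair h
    have hC := card_two_stab h a b hab
    have hex : ∃ g ∈ stabilizer G a ⊓ stabilizer G b, g ≠ 1 := by
      by_contra hne
      push Not at hne
      have hbot : stabilizer G a ⊓ stabilizer G b = ⊥ := by
        rw [eq_bot_iff]; intro g hg; exact Subgroup.mem_bot.mpr (hne g hg)
      rw [hbot, Subgroup.card_bot] at hC; omega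
    obtain ⟨g, hg, hg1⟩ := hex
    exact ⟨g, hg1, a, b, hab, (Subgroup.mem_inf.mp hg).1, (Subgroup.mem_inf.mp hg).2⟩
  · intro N hN hNt
    rcases hN.eq_bot_or_eq_top with hb | ht
    · exfalso
      subst hb
      obtain ⟨a, b, hab⟩ := exists_pair h
      obtain ⟨n, hn⟩ := MulAction.exists_smul_eq (⊥ : Subgroup G) a b
      have hn1 : (n : G) = 1 := Subgroup.mem_bot.mp n.2
      apply hab
      rw [← hn, Subgroup.smul_def, hn1, one_smul]
    · subst ht
      obtain ⟨a⟩ : Nonempty (Sylow 3 G) := inferInstance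
      refine ⟨a, ?_⟩
      have ha9 := card_sylow3 h a
      obtain ⟨x, hx, hx1⟩ : ∃ x ∈ (a : Subgroup G), x ≠ 1 := by
        by_contra hne
        push Not at hne
        have hbot : (a : Subgroup G) = ⊥ := by
          rw [eq_bot_iff]; intro g hg; exact Subgroup.mem_bot.mpr (hne g hg)
        rw [hbot, Subgroup.card_bot] at ha9; omega
      intro hbot
      have hmem : (⟨x, Subgroup.mem_top x⟩ : (⊤ : Subgroup G)) ∈
          stabilizer (⊤ : Subgroup G) a := by
        rw [mem_stabilizer_iff, Subgroup.smul_def]; exact smul_self_of_mem a hx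
      rw [hbot, Subgroup.mem_bot] at hmem
      exact hx1 (congrArg Subtype.val hmem)

theorem main [IsSimpleGroup G] (h : Nat.card G = 360) :
    Nonempty (G ≃* alternatingGroup (Fin 6)) := by
  classical
  haveI : Fintype (Sylow 3 G) := Fintype.ofFinite _
  have hZ := zassenhaus h
  obtain ⟨a, b, hab⟩ := exists_pair h
  have hC := card_two_stab h a b hab
  have h10 : Fintype.card (Sylow 3 G) = 10 := by
    rw [← Nat.card_eq_fintype_card, card_sylow_eq_ten h]
  obtain ⟨p, f, K, iF, iT, hp, hp2, hK, hΩ, ⟨e⟩⟩ :=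
    Cfsg.Agent.S0742.result hZ hab (by rw [hC]; exact ⟨2, rfl⟩) (by omega)
  have hK9 : Fintype.card K = 9 := by rw [hK]; omega
  obtain ⟨e'⟩ := Cfsg.Agent.S0254.result hK9
  exact ⟨e.trans e'⟩

end Cfsg.Agent.Lib.Helper28.Order360
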