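import Mathlib
import Cfsg.Prelude.Def_Solvable
import Cfsg.Prelude.Def_Transfer
import Cfsg.Prelude.Def_CaseTheorems
import Cfsg.Agent.Lib.Helper1.Cores

/-!
# S4025, PART A (helper28): fusion control for an abelian Sylow subgroup, the affine action of
`N = N_G(P)` on `P`, its kernel `O_{p'}(N)`, and the interface theorem `partA'` of helper2's skeleton
(`Cfsg/Agent/Lib/Helper2/HC25/PartA.lean`).
-/

set_option autoImplicit false

namespace Cfsg.Agent.Lib.Helper28.HC25A

open Subgroup

variable {G : Type*} [Group G]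

/-- Burnside's fusion theorem, subgroup form: for an abelian Sylow `p`-subgroup `P`, two subgroups
of `P` that are conjugate in `G` are conjugate under the normalizer of `P`. -/
theorem fusion_abelian_sylow [Finite G] {p : ℕ} [Fact p.Prime] (P : Sylow p G)
    (hPc : ∀ x ∈ (P : Subgroup G), ∀ y ∈ (P : Subgroup G), x * y = y * x)
    (H K : Subgroup G) (hH : H ≤ (P : Subgroup G)) (hK : K ≤ (P : Subgroup G)) (g : G)
    (hg : K = H.map (MulAut.conj g).toMonoidHom) :
    ∃ n ∈ normalizer ((P : Subgroup G) : Set G), K = H.map (MulAut.conj n).toMonoidHom := by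
  have h1 : (P : Subgroup G) ≤ centralizer (K : Set G) := by
    intro x hx
    rw [mem_centralizer_iff]
    intro k hk
    exact hPc k (hK hk) x hx
  have h2 : ((g • P : Sylow p G) : Subgroup G) ≤ centralizer (K : Set G) := by
    intro y hy
    rw [Sylow.coe_subgroup_smul, mem_pointwise_smul_iff_inv_smul_mem] at hy
    have hy' : g⁻¹ * y * g ∈ (P : Subgroup G) := by
      simpa [MulAut.smul_def, MulAut.conj_apply] using hy
    rw [mem_centralizer_iff]
    intro k hk
    rw [hg] at hk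
    obtain ⟨h, hh, rfl⟩ := hk
    have hc := hPc h (hH hh) _ hy'
    simp only [MulEquiv.coe_toMonoidHom, MulAut.conj_apply]
    calc g * h * g⁻¹ * y = g * (h * (g⁻¹ * y * g)) * g⁻¹ := by group
      _ = g * ((g⁻¹ * y * g) * h) * g⁻¹ := by rw [hc]
      _ = y * (g * h * g⁻¹) := by group
  obtain ⟨h, hh⟩ :=
    MulAction.exists_smul_eq (centralizer (K : Set G)) ((g • P).subtype h2) (P.subtype h1)
  simp_rw [Sylow.smul_subtype, Subgroup.smul_def, smul_smul] at hh
  refine ⟨h * g, Sylow.smul_eq_iff_mem_normalizer.mp (Sylow.subtype_injective hh), ?_⟩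
  ext x
  constructor
  · intro hx
    have hx' := hx
    rw [hg] at hx'
    obtain ⟨y, hy, rfl⟩ := hx'
    refine ⟨y, hy, ?_⟩
    simp only [MulEquiv.coe_toMonoidHom, MulAut.conj_apply]
    have hc := (mem_centralizer_iff.mp h.2) _ hx
    simp only [MulEquiv.coe_toMonoidHom, MulAut.conj_apply] at hc
    calc (h : G) * g * y * ((h : G) * g)⁻¹ = (h : G) * (g * y * g⁻¹) * (h : G)⁻¹ := by group
      _ = (g * y * g⁻¹) * (h : G) * (h : G)⁻¹ := by rw [hc]
      _ = g * y * g⁻¹ := by group
  · rintro ⟨y, hy, rfl⟩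
    have hk : g * y * g⁻¹ ∈ K := by
      rw [hg]; exact ⟨y, hy, by simp [MulAut.conj_apply]⟩
    have hc := (mem_centralizer_iff.mp h.2) _ hk
    have : (MulAut.conj ((h : G) * g)).toMonoidHom y = g * y * g⁻¹ := by
      simp only [MulEquiv.coe_toMonoidHom, MulAut.conj_apply]
      calc (h : G) * g * y * ((h : G) * g)⁻¹ = (h : G) * (g * y * g⁻¹) * (h : G)⁻¹ := by group
        _ = (g * y * g⁻¹) * (h : G) * (h : G)⁻¹ := by rw [hc]
        _ = g * y * g⁻¹ := by group
    rw [this]
    exact hk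

section TypeLevel

variable {N : Type*} [Group N] [Finite N] {p : ℕ} [hp : Fact p.Prime] (P : Subgroup N) [hPn : P.Normal]

/-- the conjugation action of `N` on its normal subgroup `P` -/
abbrev cP : N →* MulAut ↥P := MulAut.conjNormal

theorem cP_coe (x : N) (v : ↥P) : ((cP P x v : ↥P) : N) = x * (v : N) * x⁻¹ :=
  MulAut.conjNormal_apply x v

theorem mem_ker_cP_iff (x : N) : x ∈ (cP P).ker ↔ ∀ v ∈ P, x * v = v * x := by
  rw [MonoidHom.mem_ker]
  constructor
  · intro h v hv
    have h1 : ((cP P x ⟨v, hv⟩ : ↥P) : N) = v := by rw [h]; rfl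
    rw [cP_coe] at h1
    calc x * v = (x * v * x⁻¹) * x := by group
      _ = v * x := by rw [h1]
  · intro h
    ext v
    rw [cP_coe]
    change x * (v : N) * x⁻¹ = (v : N)
    rw [h v v.2]; group

theorem coprime_card_index (hPp : IsPGroup p ↥P) (hidx : ¬ p ∣ P.index) :
    (Nat.card ↥P).Coprime P.index := by
  obtain ⟨k, hk⟩ := hPp.exists_card_eq
  rw [hk]
  exact Nat.Coprime.pow_left k ((Nat.Prime.coprime_iff_not_dvd hp.out).mpr hidx)

/-- the affine action of `N = P ⋊ L` on `P` -/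
theorem exists_psi (hPp : IsPGroup p ↥P) (hidx : ¬ p ∣ P.index) :
    ∃ (L : Subgroup N) (Ψ : N →* Equiv.Perm ↥P), IsComplement' P L ∧
      (∀ (u v : ↥P), Ψ (u : N) v = u * v) ∧
      (∀ (x : N) (v : ↥P), Ψ x v = cP P x v * Ψ x 1) ∧
      (∀ x : N, x ∈ Ψ.ker ↔ x ∈ L ∧ ∀ v ∈ P, x * v = v * x) := by
  classical
  obtain ⟨L, hL⟩ := exists_right_complement'_of_coprime (coprime_card_index P hPp hidx)
  have hbij := isComplement_subgroup_right_iff_bijective.mp (isComplement'_def.mp hL)
  let e : ↥P ≃ N ⧸ L := Equiv.ofBijective _ hbij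
  have he : ∀ v : ↥P, e v = ((v : N) : N ⧸ L) := fun v => rfl
  let Ψ : N →* Equiv.Perm ↥P :=
    (e.permCongrHom.symm.toMonoidHom).comp (MulAction.toPermHom N (N ⧸ L))
  have hΨ : ∀ (x : N) (v : ↥P), e (Ψ x v) = ((x * (v : N) : N) : N ⧸ L) := by
    intro x v
    change e (e.symm (x • e v)) = _
    rw [Equiv.apply_symm_apply, he]
    rfl
  have hΨ1 : ∀ (u v : ↥P), Ψ (u : N) v = u * v := by
    intro u v
    apply e.injective
    rw [hΨ, he]
    rfl
  have hΨ2 : ∀ (x : N) (v : ↥P), Ψ x v = cP P x v * Ψ x 1 := by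
    intro x v
    apply e.injective
    rw [hΨ, he]
    have h1 := hΨ x 1
    rw [he] at h1
    -- (Ψ x 1 : N) L = x L
    have h2 : ((Ψ x 1 : ↥P) : N)⁻¹ * (x * ((1 : ↥P) : N)) ∈ L := QuotientGroup.eq.mp h1
    rw [Subgroup.coe_one, mul_one] at h2
    symm
    rw [QuotientGroup.eq]
    push_cast
    rw [cP_coe]
    have e1 : (x * (v : N) * x⁻¹ * ((Ψ x 1 : ↥P) : N))⁻¹ * (x * (v : N)) = ((Ψ x 1 : ↥P) : N)⁻¹ * x := by
      group
    rw [e1]
    exact h2
  refine ⟨L, Ψ, hL, hΨ1, hΨ2, ?_⟩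
  intro x
  rw [MonoidHom.mem_ker]
  constructor
  · intro hx
    have h1 := hΨ x 1
    rw [hx, Equiv.Perm.coe_one, id_eq, he, Subgroup.coe_one, mul_one] at h1
    have hxL : x ∈ L := by
      have := QuotientGroup.eq.mp h1
      simpa using this
    refine ⟨hxL, ?_⟩
    rw [← mem_ker_cP_iff, MonoidHom.mem_ker]
    ext v
    have h2 := hΨ2 x v
    rw [hx] at h2
    simp only [Equiv.Perm.coe_one, id_eq, mul_one] at h2
    rw [← h2]
    rfl
  · rintro ⟨hxL, hxc⟩
    have hc : cP P x = 1 := (MonoidHom.mem_ker).mp ((mem_ker_cP_iff P x).mpr hxc)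
    have h1 : Ψ x 1 = 1 := by
      apply e.injective
      rw [hΨ, he, Subgroup.coe_one, mul_one, QuotientGroup.eq]
      simpa using hxL
    ext v
    rw [hΨ2, hc, h1]
    simp

end TypeLevel

section TypeLevel2

variable {N : Type*} [Group N] [Finite N] {p : ℕ} [hp : Fact p.Prime] (P : Subgroup N) [hPn : P.Normal]

/-- the `p'`-core centralizes a normal `p`-subgroup -/
theorem core_centralizes (hPp : IsPGroup p ↥P) :
    ∀ k ∈ Cfsg.pPrimeCore p N, ∀ v ∈ P, k * v = v * k := by
  intro k hk v hv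
  have hKn : (Cfsg.pPrimeCore p N).Normal := Cfsg.Agent.Lib.Helper1.pPrimeCore_normal p
  have hcop : (Nat.card ↥(Cfsg.pPrimeCore p N)).Coprime (Nat.card ↥P) := by
    obtain ⟨j, hj⟩ := hPp.exists_card_eq
    rw [hj]
    exact Nat.Coprime.pow_right j (Cfsg.Agent.Lib.Helper1.pPrimeCore_coprime p)
  have hbot : Cfsg.pPrimeCore p N ⊓ P = ⊥ := (disjoint_of_coprime_natCard hcop).eq_bot
  have h1 : k * v * k⁻¹ * v⁻¹ ∈ Cfsg.pPrimeCore p N := by
    have : v * k⁻¹ * v⁻¹ ∈ Cfsg.pPrimeCore p N := hKn.conj_mem _ (inv_mem hk) v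
    have h2 := mul_mem hk this
    have e : k * (v * k⁻¹ * v⁻¹) = k * v * k⁻¹ * v⁻¹ := by group
    rwa [e] at h2
  have h2 : k * v * k⁻¹ * v⁻¹ ∈ P := mul_mem (hPn.conj_mem _ hv k) (inv_mem hv)
  have h3 : k * v * k⁻¹ * v⁻¹ ∈ Cfsg.pPrimeCore p N ⊓ P := ⟨h1, h2⟩
  rw [hbot, mem_bot] at h3
  calc k * v = (k * v * k⁻¹ * v⁻¹) * (v * k) := by group
    _ = v * k := by rw [h3, one_mul]

/-- the kernel description: elements of a complement centralizing `P` = the `p'`-core -/
theorem core_eq (hPp : IsPGroup p ↥P) (hidx : ¬ p ∣ P.index) (L : Subgroup N)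
    (hL : IsComplement' P L) (M : Subgroup N) [hM : M.Normal]
    (hMdef : ∀ x : N, x ∈ M ↔ x ∈ L ∧ ∀ v ∈ P, x * v = v * x) :
    M = Cfsg.pPrimeCore p N := by
  have hp' := hp.out
  have hLcard : Nat.card ↥L = P.index := by
    have h1 := hL.card_mul_card
    have h2 := P.card_mul_index
    have hpos : 0 < Nat.card ↥P := Nat.card_pos
    exact Nat.eq_of_mul_eq_mul_left hpos (h1.trans h2.symm)
  have hLcop : (Nat.card ↥L).Coprime p := by
    rw [hLcard]
    exact ((Nat.Prime.coprime_iff_not_dvd hp').mpr hidx).symm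
  apply le_antisymm
  · apply Cfsg.Agent.Lib.Helper1.le_pPrimeCore hM
    have hML : M ≤ L := fun x hx => ((hMdef x).mp hx).1
    exact Nat.Coprime.coprime_dvd_left (Subgroup.card_dvd_of_le hML) hLcop
  · intro k hk
    have hkc := core_centralizes P hPp k hk
    rw [hMdef]
    refine ⟨?_, hkc⟩
    -- decompose k = u * l
    obtain ⟨⟨u, l⟩, hul, -⟩ := (isComplement'_def.mp hL).existsUnique k
    simp only at hul
    have hcomm : Commute (u : N) (l : N) := by
      have h1 : k * (u : N) = (u : N) * k := hkc u u.2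
      have h2 : (l : N) = (u : N)⁻¹ * k := by rw [← hul]; group
      change (u : N) * (l : N) = (l : N) * (u : N)
      rw [h2]
      calc (u : N) * ((u : N)⁻¹ * k) = k := by group
        _ = (u : N)⁻¹ * (k * (u : N)) := by rw [h1]; group
        _ = (u : N)⁻¹ * k * (u : N) := by group
    set m := Nat.card ↥(Cfsg.pPrimeCore p N) with hm
    have hkm : k ^ m = 1 := by
      have h1 : (⟨k, hk⟩ : ↥(Cfsg.pPrimeCore p N)) ^ m = 1 := pow_card_eq_one'
      have h2 := congrArg Subtype.val h1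
      rwa [Subgroup.coe_pow, Subgroup.coe_one] at h2
    have hum : (u : N) ^ m = ((l : N) ^ m)⁻¹ := by
      have h1 : ((u : N) * (l : N)) ^ m = (u : N) ^ m * (l : N) ^ m := hcomm.mul_pow m
      rw [hul, hkm] at h1
      exact eq_inv_of_mul_eq_one_left h1.symm
    have hmem : (u : N) ^ m ∈ P ⊓ L :=
      ⟨P.pow_mem u.2 m, by rw [hum]; exact L.inv_mem (L.pow_mem l.2 m)⟩
    have hdisj : P ⊓ L = ⊥ := hL.disjoint.eq_bot
    rw [hdisj, mem_bot] at hmem
    have ho1 : orderOf (u : N) ∣ m := orderOf_dvd_of_pow_eq_one hmem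
    obtain ⟨j, hj⟩ := (IsPGroup.iff_orderOf.mp hPp) u
    have ho2 : orderOf (u : N) = p ^ j := by rw [← hj, Subgroup.orderOf_coe]
    have hcop : (p ^ j).Coprime m := Nat.Coprime.pow_left j (Cfsg.Agent.Lib.Helper1.pPrimeCore_coprime p).symm
    have ho3 : orderOf (u : N) = 1 := by
      rw [ho2] at ho1 ⊢
      exact Nat.eq_one_of_dvd_coprimes hcop (dvd_refl _) ho1
    have hu1 : (u : N) = 1 := orderOf_eq_one_iff.mp ho3
    rw [hu1, one_mul] at hul
    rw [← hul]
    exact l.2

end TypeLevel2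

section TypeLevel3

variable {N : Type*} [Group N] [Finite N] {p : ℕ} [hp : Fact p.Prime] (P : Subgroup N) [hPn : P.Normal]

theorem range_cP_solvable (hPp : IsPGroup p ↥P)
    (hsolv : Group.IsSolvable (N ⧸ Cfsg.pPrimeCore p N)) : Group.IsSolvable ↥(cP P).range := by
  let φ : N →* ↥(cP P).range := (cP P).rangeRestrict
  have hKφ : Cfsg.pPrimeCore p N ≤ φ.ker := by
    intro k hk
    rw [MonoidHom.mem_ker]
    apply Subtype.ext
    have : k ∈ (cP P).ker := (mem_ker_cP_iff P k).mpr (core_centralizes P hPp k hk)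
    exact (MonoidHom.mem_ker).mp this
  let f : N ⧸ Cfsg.pPrimeCore p N →* ↥(cP P).range := QuotientGroup.lift _ φ hKφ
  have hf : Function.Surjective f := by
    intro y
    obtain ⟨x, hx⟩ := (cP P).rangeRestrict_surjective y
    exact ⟨(x : N ⧸ Cfsg.pPrimeCore p N), hx⟩
  exact Group.isSolvable_of_surjective hf

theorem not_dvd_card_range_cP (hidx : ¬ p ∣ P.index) (hab : ∀ x ∈ P, ∀ y ∈ P, x * y = y * x) :
    ¬ p ∣ Nat.card ↥(cP P).range := by
  rw [← Subgroup.index_ker]
  have hle : P ≤ (cP P).ker := by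
    intro x hx
    rw [mem_ker_cP_iff]
    intro v hv
    exact hab x hx v hv
  intro h
  exact hidx (dvd_trans h (Subgroup.index_dvd_of_le hle))

end TypeLevel3

section Transfer

theorem range_comp_injective {A B C : Type*} [Group A] [Group B] [Group C] (f : A →* B)
    (j : B →* C) (hj : Function.Injective j) :
    (Group.IsSolvable ↥f.range → Group.IsSolvable ↥(j.comp f).range) ∧
      Nat.card ↥(j.comp f).range = Nat.card ↥f.range := by
  have h1 : (j.comp f).range = f.range.map j := MonoidHom.range_comp j f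
  constructor
  · intro hs
    rw [h1]
    exact Group.isSolvable_of_surjective (j.subgroupMap_surjective f.range)
  · rw [h1, Subgroup.card_map_of_injective hj]

end Transfer

section GLevel

universe u

variable {G : Type u} [Group G] [Finite G] {p : ℕ} [hp : Fact p.Prime]

/-- the interface theorem `partA` of helper2's S4025 skeleton -/
theorem partA' (hC : ∀ H K : Subgroup G, IsPGroup p H → IsPGroup p K → Nat.card H = Nat.card K →
      ∃ g : G, K = H.map (MulAut.conj g).toMonoidHom) (P : Sylow p G)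
    (hel : Cfsg.IsElementaryAbelian p (P : Subgroup G))
    (N : Subgroup G) (hN : N = Subgroup.normalizer ((P : Subgroup G) : Set G))
    (hsolv : Group.IsSolvable (↥N ⧸ Cfsg.pPrimeCore p ↥N)) :
    ∃ (V : Type u) (_ : AddCommGroup V) (_ : Finite V) (Ψ : ↥N →* Equiv.Perm V) (c : ↥N →* Equiv.Perm V),
      Nat.card V = Nat.card P ∧ (∀ v : V, p • v = 0) ∧
      Ψ.ker = Cfsg.pPrimeCore p ↥N ∧
      (∀ g v w, c g (v + w) = c g v + c g w) ∧
      (∀ g, ∃ t : V, ∀ v, Ψ g v = c g v + t) ∧
      (∀ t : V, ∃ g, ∀ v, Ψ g v = v + t) ∧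
      (∀ U₁ U₂ : AddSubgroup V, Nat.card U₁ = Nat.card U₂ → ∃ g, ∀ v, v ∈ U₁ ↔ c g v ∈ U₂) ∧
      Group.IsSolvable ↥c.range ∧ ¬ p ∣ Nat.card ↥c.range := by
  classical
  subst hN
  have hPN : (P : Subgroup G) ≤ normalizer ((P : Subgroup G) : Set G) := le_normalizer
  have hab0 : ∀ x ∈ (P : Subgroup G), ∀ y ∈ (P : Subgroup G), x * y = y * x := fun x hx y hy =>
    congrArg Subtype.val (hel.1.is_comm.comm ⟨x, hx⟩ ⟨y, hy⟩)
  let P' : Subgroup ↥(normalizer ((P : Subgroup G) : Set G)) :=
    (P : Subgroup G).subgroupOf (normalizer ((P : Subgroup G) : Set G))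
  haveI hP'n : P'.Normal := Subgroup.normal_in_normalizer
  have hP'p : IsPGroup p ↥P' := P.2.comap_subtype
  have hP'idx : ¬ p ∣ P'.index := by
    intro h
    have h1 : P'.index = (P : Subgroup G).relIndex (normalizer ((P : Subgroup G) : Set G)) := rfl
    rw [h1] at h
    exact P.not_dvd_index (dvd_trans h (Subgroup.relIndex_dvd_index_of_le hPN))
  have hab : ∀ x ∈ P', ∀ y ∈ P', x * y = y * x := by
    intro x hx y hy
    apply Subtype.ext
    exact hab0 x.1 (mem_subgroupOf.mp hx) y.1 (mem_subgroupOf.mp hy)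
  obtain ⟨L, Ψ, hL, hΨ1, hΨ2, hΨk⟩ := exists_psi P' hP'p hP'idx
  have hker : Ψ.ker = Cfsg.pPrimeCore p ↥(normalizer ((P : Subgroup G) : Set G)) :=
    core_eq P' hP'p hP'idx L hL Ψ.ker hΨk
  -- the commutative group structure on `P'` and `V`
  letI cg : CommGroup ↥P' :=
    { (inferInstance : Group ↥P') with
      mul_comm := fun a b => Subtype.ext (hab a.1 a.2 b.1 b.2) }
  let V : Type u := Additive ↥P'
  let ι : Equiv.Perm ↥P' ≃* Equiv.Perm V := (Additive.ofMul : ↥P' ≃ V).permCongrHom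
  let ΨV : ↥(normalizer ((P : Subgroup G) : Set G)) →* Equiv.Perm V := ι.toMonoidHom.comp Ψ
  let j : MulAut ↥P' →* Equiv.Perm V := ι.toMonoidHom.comp (MulAut.toPerm ↥P')
  have hj : Function.Injective j := by
    intro a b hab'
    ext x
    have h1 := congrArg (fun f : Equiv.Perm V => f (Additive.ofMul x)) hab'
    exact congrArg Subtype.val (congrArg Subtype.val (Additive.ofMul.injective h1))
  let cV : ↥(normalizer ((P : Subgroup G) : Set G)) →* Equiv.Perm V := j.comp (cP P')
  have hΨV : ∀ g (v : V), ΨV g v = Additive.ofMul (Ψ g (Additive.toMul v)) := fun g v => rfl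
  have hcV : ∀ g (v : V), cV g v = Additive.ofMul (cP P' g (Additive.toMul v)) := fun g v => rfl
  refine ⟨V, inferInstance, inferInstance, ΨV, cV, ?_, ?_, ?_, ?_, ?_, ?_, ?_, ?_, ?_⟩
  · -- card
    have h1 : Nat.card V = Nat.card ↥P' := Nat.card_congr Additive.toMul
    rw [h1]
    exact Nat.card_congr (Subgroup.subgroupOfEquivOfLe hPN).toEquiv
  · -- exponent
    intro v
    have h1 : (Additive.toMul v) ^ p = 1 := by
      apply Subtype.ext
      apply Subtype.ext
      have := hel.2 ((Additive.toMul v : ↥P') : ↥(normalizer ((P : Subgroup G) : Set G))).1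
        (mem_subgroupOf.mp (Additive.toMul v).2)
      simpa using this
    have h2 : p • v = Additive.ofMul ((Additive.toMul v) ^ p) := rfl
    rw [h2, h1]
    rfl
  · -- kernel
    rw [← hker]
    exact MonoidHom.ker_mulEquiv_comp Ψ ι
  · -- additivity
    intro g v w
    rw [hcV, hcV, hcV]
    change Additive.ofMul (cP P' g (Additive.toMul v * Additive.toMul w)) = _
    rw [map_mul]
    rfl
  · -- affine
    intro g
    refine ⟨Additive.ofMul (Ψ g 1), fun v => ?_⟩
    rw [hΨV, hcV, hΨ2]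
    rfl
  · -- translations
    intro t
    refine ⟨((Additive.toMul t : ↥P') : ↥(normalizer ((P : Subgroup G) : Set G))), fun v => ?_⟩
    rw [hΨV, hΨ1]
    change Additive.ofMul (Additive.toMul t * Additive.toMul v) = v + t
    rw [mul_comm]
    rfl
  · -- transitivity
    intro U₁ U₂ hU
    let HG : AddSubgroup V → Subgroup G := fun U =>
      ((AddSubgroup.toSubgroup' U : Subgroup ↥P').map P'.subtype).map
        (normalizer ((P : Subgroup G) : Set G)).subtype
    have key : ∀ (U : AddSubgroup V) (y : ↥P'),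
        ((y : ↥(normalizer ((P : Subgroup G) : Set G))) : G) ∈ HG U ↔ Additive.ofMul y ∈ U := by
      intro U y
      constructor
      · rintro ⟨z, ⟨y', hy', rfl⟩, hz⟩
        have h1 : (y' : ↥(normalizer ((P : Subgroup G) : Set G))) = y := Subtype.ext hz
        have h2 : y' = y := Subtype.ext h1
        rw [← h2]
        exact (AddSubgroup.mem_toSubgroup' U y').mp hy'
      · intro hy
        exact ⟨_, ⟨y, (AddSubgroup.mem_toSubgroup' U y).mpr hy, rfl⟩, rfl⟩
    have hHGP : ∀ U, HG U ≤ (P : Subgroup G) := by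
      rintro U _ ⟨z, ⟨y, -, rfl⟩, rfl⟩
      exact mem_subgroupOf.mp y.2
    have hHGcard : ∀ U : AddSubgroup V, Nat.card ↥(HG U) = Nat.card ↥U := by
      intro U
      change Nat.card ↥(((AddSubgroup.toSubgroup' U : Subgroup ↥P').map P'.subtype).map
        (normalizer ((P : Subgroup G) : Set G)).subtype) = _
      rw [Subgroup.card_map_of_injective (Subgroup.subtype_injective _),
        Subgroup.card_map_of_injective (Subgroup.subtype_injective _)]
      exact Nat.card_congr
        { toFun := fun y => ⟨Additive.ofMul y.1, (AddSubgroup.mem_toSubgroup' U y.1).mp y.2⟩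
          invFun := fun v => ⟨Additive.toMul v.1, (AddSubgroup.mem_toSubgroup' U _).mpr v.2⟩
          left_inv := fun y => rfl
          right_inv := fun v => rfl }
    have hp1 : IsPGroup p ↥(HG U₁) := P.2.to_le (hHGP U₁)
    have hp2 : IsPGroup p ↥(HG U₂) := P.2.to_le (hHGP U₂)
    obtain ⟨g, hg⟩ := hC (HG U₁) (HG U₂) hp1 hp2 (by rw [hHGcard, hHGcard, hU])
    obtain ⟨n, hn, hn2⟩ := fusion_abelian_sylow P hab0 (HG U₁) (HG U₂) (hHGP U₁) (hHGP U₂) g hg
    refine ⟨⟨n, hn⟩, fun v => ?_⟩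
    have hv : v = Additive.ofMul (Additive.toMul v) := rfl
    set y : ↥P' := Additive.toMul v with hy
    rw [hcV, ← hy, hv, ← key U₁ y, ← key U₂ (cP P' ⟨n, hn⟩ y)]
    have e1 : (((cP P' ⟨n, hn⟩ y : ↥P') : ↥(normalizer ((P : Subgroup G) : Set G))) : G) =
        n * ((y : ↥(normalizer ((P : Subgroup G) : Set G))) : G) * n⁻¹ := by
      rw [cP_coe]
      rfl
    rw [e1, hn2]
    constructor
    · intro h
      exact ⟨_, h, by simp [MulAut.conj_apply]⟩
    · rintro ⟨x', hx', hxx⟩
      have : x' = ((y : ↥(normalizer ((P : Subgroup G) : Set G))) : G) := by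
        simp only [MulEquiv.coe_toMonoidHom, MulAut.conj_apply] at hxx
        have h2 := congrArg (fun t => n⁻¹ * t * n) hxx
        simpa [mul_assoc] using h2
      rw [← this]
      exact hx'
  · -- solvable
    exact (range_comp_injective (cP P') j hj).1 (range_cP_solvable P' hP'p hsolv)
  · -- p'
    rw [(range_comp_injective (cP P') j hj).2]
    exact not_dvd_card_range_cP P' hP'idx hab

end GLevel

end Cfsg.Agent.Lib.Helper28.HC25A
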