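import Cfsg.Agent.Lib.Helper28.GolayConcrete
import Cfsg.Agent.Lib.Helper4.Leech

set_option autoImplicit false

namespace Cfsg.Agent.Lib.Helper28

open Cfsg

theorem sqNorm_ge_one (z : GolayPt → ℤ) (j : GolayPt) : z j ^ 2 ≤ sqNorm z := by
  unfold sqNorm
  exact Finset.single_le_sum (f := fun i => z i ^ 2) (fun i _ => sq_nonneg (z i)) (Finset.mem_univ j)

theorem sqNorm_ge_two (z : GolayPt → ℤ) {j j' : GolayPt} (h : j ≠ j') :
    z j ^ 2 + z j' ^ 2 ≤ sqNorm z := by
  unfold sqNorm
  have h1 : ∑ i ∈ ({j, j'} : Finset GolayPt), z i ^ 2 ≤ ∑ i, z i ^ 2 :=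
    Finset.sum_le_sum_of_subset_of_nonneg (Finset.subset_univ _) (fun i _ _ => sq_nonneg (z i))
  rwa [Finset.sum_pair h] at h1

theorem card_golayPt : Fintype.card GolayPt = 24 := by rfl

theorem sqNorm_neg (z : GolayPt → ℤ) : sqNorm (-z) = sqNorm z := by
  unfold sqNorm; simp

theorem sqNorm_eq_zero_iff (z : GolayPt → ℤ) : sqNorm z = 0 ↔ z = 0 := by
  unfold sqNorm
  rw [Finset.sum_eq_zero_iff_of_nonneg (fun i _ => sq_nonneg (z i))]
  constructor
  · intro h; funext i; have := h i (Finset.mem_univ i); simpa using this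
  · intro h i _; rw [h]; simp

/-- the minimal nonzero squared length in the Leech lattice (in the `sqNorm` scale) is `32` -/
theorem leech_min_norm {z : GolayPt → ℤ} (hz : z ∈ leechLattice) (hz0 : z ≠ 0) :
    32 ≤ sqNorm z := by
  rw [Helper4.mem_leechLattice_iff, Helper4.mem_leechSet_iff] at hz
  obtain ⟨m, h1, h2, h3⟩ := hz
  rcases Int.emod_two_eq_zero_or_one m with hm | hm
  · -- even case
    have hev : ∀ i, z i % 2 = 0 := fun i => by have := h1 i; unfold Int.ModEq at this; omega
    by_cases hB : Helper4.wd z 2 = 0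
    · -- all coordinates divisible by 4
      have h4 : ∀ i, z i % 4 = 0 := by
        intro i
        have hi := congrFun hB i
        simp only [Helper4.wd, Pi.zero_apply] at hi
        have h2' : ¬ z i ≡ 2 [ZMOD 4] := by
          intro hc; rw [if_pos hc] at hi; exact one_ne_zero hi
        have := hev i
        unfold Int.ModEq at h2'
        omega
      obtain ⟨j, hj⟩ : ∃ j, z j ≠ 0 := by
        by_contra hcon
        push Not at hcon
        exact hz0 (funext hcon)
      have hj16 : 16 ≤ z j ^ 2 := by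
        have := h4 j
        have habs : 4 ≤ |z j| := by
          rcases abs_cases (z j) with ⟨h, _⟩ | ⟨h, _⟩ <;> omega
        calc (16 : ℤ) = 4 ^ 2 := by norm_num
          _ ≤ |z j| ^ 2 := by gcongr
          _ = z j ^ 2 := sq_abs _
      by_cases hj' : ∃ j', j' ≠ j ∧ z j' ≠ 0
      · obtain ⟨j', hne, hj'0⟩ := hj'
        have hj'16 : 16 ≤ z j' ^ 2 := by
          have := h4 j'
          have habs : 4 ≤ |z j'| := by
            rcases abs_cases (z j') with ⟨h, _⟩ | ⟨h, _⟩ <;> omega
          calc (16 : ℤ) = 4 ^ 2 := by norm_num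
            _ ≤ |z j'| ^ 2 := by gcongr
            _ = z j' ^ 2 := sq_abs _
        have := sqNorm_ge_two z hne.symm
        omega
      · push Not at hj'
        have hsum : ∑ i, z i = z j := by
          rw [Finset.sum_eq_single j]
          · intro b _ hb; exact hj' b hb
          · intro h; exact absurd (Finset.mem_univ j) h
        rw [hsum] at h2
        have h8 : z j % 8 = 0 := by unfold Int.ModEq at h2; omega
        have habs : 8 ≤ |z j| := by
          rcases abs_cases (z j) with ⟨h, _⟩ | ⟨h, _⟩ <;> omega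
        have : 64 ≤ z j ^ 2 := by
          calc (64 : ℤ) = 8 ^ 2 := by norm_num
            _ ≤ |z j| ^ 2 := by gcongr
            _ = z j ^ 2 := sq_abs _
        have := sqNorm_ge_one z j
        omega
    · -- the positions ≡ 2 mod 4 form a nonzero codeword
      have hw := Helper4.golay_min_weight (h3 2) hB
      have hsupp : support₂ (Helper4.wd z 2) = Finset.univ.filter fun i => z i ≡ 2 [ZMOD 4] :=
        Helper4.support₂_ite _
      rw [hsupp] at hw
      unfold sqNorm
      have h1' : ∑ i ∈ Finset.univ.filter (fun i => z i ≡ 2 [ZMOD 4]), z i ^ 2 ≤ ∑ i, z i ^ 2 :=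
        Finset.sum_le_sum_of_subset_of_nonneg (Finset.subset_univ _) (fun i _ _ => sq_nonneg (z i))
      have h2' : ∑ i ∈ Finset.univ.filter (fun i => z i ≡ 2 [ZMOD 4]), (4 : ℤ) ≤
          ∑ i ∈ Finset.univ.filter (fun i => z i ≡ 2 [ZMOD 4]), z i ^ 2 := by
        apply Finset.sum_le_sum
        intro i hi
        have hi2 : z i ≡ 2 [ZMOD 4] := (Finset.mem_filter.mp hi).2
        have habs : 2 ≤ |z i| := by
          unfold Int.ModEq at hi2
          rcases abs_cases (z i) with ⟨h, _⟩ | ⟨h, _⟩ <;> omega
        calc (4 : ℤ) = 2 ^ 2 := by norm_num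
          _ ≤ |z i| ^ 2 := by gcongr
          _ = z i ^ 2 := sq_abs _
      rw [Finset.sum_const, nsmul_eq_mul] at h2'
      have : (8 : ℤ) ≤ ((Finset.univ.filter fun i => z i ≡ 2 [ZMOD 4]).card : ℤ) := by
        exact_mod_cast hw
      linarith
  · -- odd case
    have hodd : ∀ i, z i % 2 = 1 := fun i => by have := h1 i; unfold Int.ModEq at this; omega
    by_contra hlt
    push Not at hlt
    have hone : ∀ i, 1 ≤ z i ^ 2 := by
      intro i
      have : z i ≠ 0 := by have := hodd i; omega
      have := sq_nonneg (z i)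
      have : z i ^ 2 ≠ 0 := pow_ne_zero 2 ‹z i ≠ 0›
      omega
    have hsmall : ∀ i, z i = 1 ∨ z i = -1 := by
      intro i
      have h9 : z i ^ 2 < 9 := by
        have hsplit : sqNorm z = z i ^ 2 + ∑ j ∈ Finset.univ.erase i, z j ^ 2 :=
          (Finset.add_sum_erase Finset.univ (fun j => z j ^ 2) (Finset.mem_univ i)).symm
        have hrest : ∑ _j ∈ Finset.univ.erase i, (1 : ℤ) ≤ ∑ j ∈ Finset.univ.erase i, z j ^ 2 :=
          Finset.sum_le_sum fun j _ => hone j
        have hcard : (Finset.univ.erase i).card = 23 := by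
          rw [Finset.card_erase_of_mem (Finset.mem_univ i), Finset.card_univ, card_golayPt]
        rw [Finset.sum_const, hcard] at hrest
        simp only [nsmul_eq_mul, Nat.cast_ofNat, mul_one] at hrest
        omega
      have habs : |z i| < 3 := by
        by_contra hge
        push Not at hge
        have : (9 : ℤ) ≤ z i ^ 2 := by
          calc (9 : ℤ) = 3 ^ 2 := by norm_num
            _ ≤ |z i| ^ 2 := by gcongr
            _ = z i ^ 2 := sq_abs _
        omega
      have := hodd i
      rcases abs_cases (z i) with ⟨h, _⟩ | ⟨h, _⟩ <;> omega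
    have hzi : ∀ i, z i = 2 * (if z i ≡ 1 [ZMOD 4] then 1 else 0) - 1 := by
      intro i
      rcases hsmall i with h | h
      · rw [h, if_pos (by decide)]; norm_num
      · rw [h, if_neg (by decide)]; norm_num
    have hsum : ∑ i, z i =
        2 * ((Finset.univ.filter fun i => z i ≡ 1 [ZMOD 4]).card : ℤ) - 24 := by
      calc ∑ i, z i = ∑ i, (2 * (if z i ≡ 1 [ZMOD 4] then 1 else 0) - 1 : ℤ) :=
            Finset.sum_congr rfl fun i _ => hzi i
        _ = 2 * ((Finset.univ.filter fun i => z i ≡ 1 [ZMOD 4]).card : ℤ) - 24 := by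
            rw [Finset.sum_sub_distrib, ← Finset.mul_sum, Finset.sum_boole, Finset.sum_const,
              Finset.card_univ, card_golayPt]
            norm_num
    have hde := Helper4.golay_doubly_even (h3 1)
    have hsupp : support₂ (Helper4.wd z 1) = Finset.univ.filter fun i => z i ≡ 1 [ZMOD 4] :=
      Helper4.support₂_ite _
    rw [hsupp] at hde
    obtain ⟨c, hc⟩ := hde
    rw [hsum, hc] at h2
    unfold Int.ModEq at h2
    push_cast at h2
    omega

theorem sqNorm_add (x y : GolayPt → ℤ) :
    sqNorm (x + y) = sqNorm x + 2 * dotInt x y + sqNorm y := by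
  unfold sqNorm dotInt
  rw [Finset.mul_sum, ← Finset.sum_add_distrib, ← Finset.sum_add_distrib]
  refine Finset.sum_congr rfl fun i _ => ?_
  simp only [Pi.add_apply]; ring

theorem sqNorm_sub (x y : GolayPt → ℤ) :
    sqNorm (x - y) = sqNorm x - 2 * dotInt x y + sqNorm y := by
  unfold sqNorm dotInt
  rw [Finset.mul_sum, ← Finset.sum_sub_distrib, ← Finset.sum_add_distrib]
  refine Finset.sum_congr rfl fun i _ => ?_
  simp only [Pi.sub_apply]; ring

theorem sqNorm_two_smul (z : GolayPt → ℤ) : sqNorm (2 • z) = 4 * sqNorm z := by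
  unfold sqNorm
  rw [Finset.mul_sum]
  refine Finset.sum_congr rfl fun i _ => ?_
  simp only [Pi.smul_apply, smul_eq_mul]; ring

/-- two distinct lattice vectors of squared length at most `64` (type at most 4) that are
congruent modulo `2Λ` are opposite, or both have squared length `64` and are orthogonal -/
theorem leech_short_congruent (x y : GolayPt → ℤ) (hx : x ∈ leechLattice) (hy : y ∈ leechLattice)
    (hxy : x ≠ y) (hxn : sqNorm x ≤ 64) (hyn : sqNorm y ≤ 64)
    (hc : ∃ z ∈ leechLattice, x - y = 2 • z) :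
    x = -y ∨ (sqNorm x = 64 ∧ sqNorm y = 64 ∧ dotInt x y = 0) := by
  obtain ⟨z, hz, hxz⟩ := hc
  by_cases hneg : x = -y
  · exact Or.inl hneg
  right
  have hz0 : z ≠ 0 := by
    rintro rfl
    apply hxy
    have : x - y = 0 := by rw [hxz]; simp
    exact sub_eq_zero.mp this
  have hz' : z + y ∈ leechLattice := leechLattice.add_mem hz hy
  have hxz' : x + y = 2 • (z + y) := by
    have : x + y = (x - y) + 2 • y := by rw [two_smul]; abel
    rw [this, hxz, smul_add]
  have hz'0 : z + y ≠ 0 := by
    intro h0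
    apply hneg
    have : x + y = 0 := by rw [hxz', h0]; simp
    exact eq_neg_of_add_eq_zero_left this
  have h1 := leech_min_norm hz hz0
  have h2 := leech_min_norm hz' hz'0
  have e1 : sqNorm (x - y) = 4 * sqNorm z := by rw [hxz, sqNorm_two_smul]
  have e2 : sqNorm (x + y) = 4 * sqNorm (z + y) := by rw [hxz', sqNorm_two_smul]
  rw [sqNorm_sub] at e1
  rw [sqNorm_add] at e2
  refine ⟨by omega, by omega, by omega⟩

end Cfsg.Agent.Lib.Helper28
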