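import Cfsg.Prelude.Def_Spor_Conway
import Cfsg.Agent.Lib.Helper28.LeechMin

set_option autoImplicit false

/-!
The action of `Cfsg.Co0` on `Λ / 13 Λ ≅ (ZMod 13)^24`, as a monoid homomorphism into matrices,
and its faithfulness.
-/

namespace Cfsg.Agent.Lib.Helper28

open Cfsg

/-- vectors with all coordinates divisible by 4 and coordinate sum divisible by 8 -/
theorem mem_leech_of_four_dvd (x : GolayPt → ℤ) (h4 : ∀ i, x i ≡ 0 [ZMOD 4])
    (h8 : ∑ i, x i ≡ 0 [ZMOD 8]) : x ∈ leechLattice :=
  AddSubgroup.subset_closure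
    (Spor.mem_leechSet_of_const_mod_four x 0 0 (by rfl) h4 (by simpa using h8))

/-- `8 e_i` -/
def e8 (i : GolayPt) : leechLattice :=
  ⟨Pi.single i 8, mem_leech_of_four_dvd _
    (fun j => by
      by_cases h : j = i
      · subst h; simp; decide
      · simp [Pi.single_apply, h])
    (by rw [Finset.sum_pi_single']; simp)⟩

theorem e8_apply (i j : GolayPt) : (e8 i : GolayPt → ℤ) j = if j = i then 8 else 0 := by
  simp [e8, Pi.single_apply]

/-- `4 e_i + 4 e_j` -/
def f44 (i j : GolayPt) (s : ℤ) (hs : s = 1 ∨ s = -1) (hij : i ≠ j) : leechLattice :=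
  ⟨Pi.single i 4 + Pi.single j (4 * s), mem_leech_of_four_dvd _
    (fun k => by
      simp only [Pi.add_apply, Pi.single_apply]
      rcases hs with rfl | rfl <;> split_ifs <;> decide)
    (by
      simp only [Pi.add_apply]
      rw [Finset.sum_add_distrib, Finset.sum_pi_single', Finset.sum_pi_single']
      simp only [Finset.mem_univ, if_true]
      rcases hs with rfl | rfl <;> decide)⟩

/-- an element of `Co0` as an additive map -/
def co0Hom (g : Co0) : leechLattice →+ leechLattice :=
  AddMonoidHom.mk' (g : Equiv.Perm leechLattice) g.2.1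

theorem co0Hom_apply (g : Co0) (x : leechLattice) :
    co0Hom g x = (g : Equiv.Perm leechLattice) x := rfl

theorem co0_sqNorm (g : Co0) (x : leechLattice) :
    sqNorm ((co0Hom g x : leechLattice) : GolayPt → ℤ) = sqNorm (x : GolayPt → ℤ) := g.2.2 x

theorem co0_dot (g : Co0) (x y : leechLattice) :
    dotInt ((co0Hom g x : leechLattice) : GolayPt → ℤ) (co0Hom g y : leechLattice) =
      dotInt (x : GolayPt → ℤ) (y : GolayPt → ℤ) := by
  have h1 := co0_sqNorm g (x + y)
  rw [map_add, AddSubgroup.coe_add, AddSubgroup.coe_add, sqNorm_add, sqNorm_add, co0_sqNorm,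
    co0_sqNorm] at h1
  omega

/-- `8 x = Σ x_i (8 e_i)` -/
theorem eight_smul_eq_sum (x : leechLattice) :
    (8 : ℤ) • x = ∑ i, (x : GolayPt → ℤ) i • e8 i := by
  apply Subtype.ext
  funext j
  rw [AddSubgroup.coe_zsmul, AddSubgroup.val_finset_sum, Finset.sum_apply]
  simp only [Pi.smul_apply, smul_eq_mul, AddSubgroup.coe_zsmul, e8_apply]
  rw [Finset.sum_eq_single j]
  · simp; ring
  · intro i _ hij; rw [if_neg (Ne.symm hij)]; ring
  · intro h; exact absurd (Finset.mem_univ j) h

theorem eight_smul_co0 (g : Co0) (x : leechLattice) :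
    (8 : ℤ) • co0Hom g x = ∑ i, (x : GolayPt → ℤ) i • co0Hom g (e8 i) := by
  rw [← map_zsmul, eight_smul_eq_sum, map_sum]
  refine Finset.sum_congr rfl fun i _ => ?_
  rw [map_zsmul]

/-- reduction modulo 13 -/
def red13 (x : GolayPt → ℤ) : GolayPt → ZMod 13 := fun i => (x i : ZMod 13)

theorem red13_add (x y : GolayPt → ℤ) : red13 (x + y) = red13 x + red13 y := by
  funext i; simp [red13]

/-- the matrix of `g` modulo 13 -/
def rhoMat (g : Co0) : Matrix GolayPt GolayPt (ZMod 13) :=
  fun j i => 5 * red13 ((co0Hom g (e8 i) : leechLattice) : GolayPt → ℤ) j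

theorem forty : (5 : ZMod 13) * 8 = 1 := by decide

theorem rhoMat_mulVec (g : Co0) (x : leechLattice) :
    (rhoMat g).mulVec (red13 (x : GolayPt → ℤ)) = red13 ((co0Hom g x : leechLattice) : GolayPt → ℤ) := by
  funext j
  have h := congrArg (fun v : leechLattice => ((v : GolayPt → ℤ) j : ZMod 13)) (eight_smul_co0 g x)
  simp only [AddSubgroup.coe_zsmul, AddSubgroup.val_finset_sum, Finset.sum_apply, Pi.smul_apply,
    smul_eq_mul] at h
  push_cast at h
  simp only [Matrix.mulVec, dotProduct, rhoMat, red13]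
  calc ∑ i, 5 * (((co0Hom g (e8 i) : leechLattice) : GolayPt → ℤ) j : ZMod 13) *
        ((x : GolayPt → ℤ) i : ZMod 13)
      = 5 * ∑ i, ((x : GolayPt → ℤ) i : ZMod 13) *
          (((co0Hom g (e8 i) : leechLattice) : GolayPt → ℤ) j : ZMod 13) := by
        rw [Finset.mul_sum]
        refine Finset.sum_congr rfl fun i _ => ?_
        ring
    _ = 5 * (8 * (((co0Hom g x : leechLattice) : GolayPt → ℤ) j : ZMod 13)) := by rw [← h]
    _ = (((co0Hom g x : leechLattice) : GolayPt → ℤ) j : ZMod 13) := by
        rw [← mul_assoc, forty, one_mul]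

theorem rhoMat_one : rhoMat 1 = 1 := by
  funext j i
  simp only [rhoMat, red13]
  have : co0Hom 1 (e8 i) = e8 i := rfl
  rw [this, e8_apply, Matrix.one_apply]
  by_cases h : j = i
  · rw [if_pos h, if_pos h]; push_cast; exact forty
  · rw [if_neg h, if_neg h]; simp

theorem rhoMat_mul (g h : Co0) : rhoMat (g * h) = rhoMat g * rhoMat h := by
  funext j i
  have h1 : co0Hom (g * h) (e8 i) = co0Hom g (co0Hom h (e8 i)) := rfl
  have h2 := congrFun (rhoMat_mulVec g (co0Hom h (e8 i))) j
  rw [Matrix.mul_apply]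
  simp only [Matrix.mulVec, dotProduct] at h2
  show 5 * red13 ((co0Hom (g * h) (e8 i) : leechLattice) : GolayPt → ℤ) j = _
  rw [h1, ← h2, Finset.mul_sum]
  refine Finset.sum_congr rfl fun k _ => ?_
  simp only [rhoMat]
  ring

/-- the representation modulo 13 as a monoid homomorphism -/
def rhoHom : Co0 →* Matrix GolayPt GolayPt (ZMod 13) where
  toFun := rhoMat
  map_one' := rhoMat_one
  map_mul' := rhoMat_mul

/-- an automorphism congruent to the identity modulo 13 fixes every minimal vector -/
theorem co0_fix_of_red13 (g : Co0)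
    (hg : ∀ x : leechLattice, red13 ((co0Hom g x : leechLattice) : GolayPt → ℤ) = red13 (x : GolayPt → ℤ))
    (x : leechLattice) (hx : sqNorm (x : GolayPt → ℤ) = 32) : co0Hom g x = x := by
  apply Subtype.ext
  funext j
  have hpar : sqNorm (((co0Hom g x : leechLattice) : GolayPt → ℤ) - (x : GolayPt → ℤ)) +
      sqNorm (((co0Hom g x : leechLattice) : GolayPt → ℤ) + (x : GolayPt → ℤ)) = 128 := by
    rw [sqNorm_sub, sqNorm_add, co0_sqNorm, hx]; ring
  have hnn : 0 ≤ sqNorm (((co0Hom g x : leechLattice) : GolayPt → ℤ) + (x : GolayPt → ℤ)) := by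
    unfold sqNorm; exact Finset.sum_nonneg fun i _ => sq_nonneg _
  have hj := sqNorm_ge_one (((co0Hom g x : leechLattice) : GolayPt → ℤ) - (x : GolayPt → ℤ)) j
  have hdvd : (13 : ℤ) ∣ ((co0Hom g x : leechLattice) : GolayPt → ℤ) j - (x : GolayPt → ℤ) j := by
    have := congrFun (hg x) j
    simp only [red13] at this
    have h2 : (((((co0Hom g x : leechLattice) : GolayPt → ℤ) j - (x : GolayPt → ℤ) j : ℤ)) : ZMod 13) = 0 := by
      push_cast; rw [this]; ring
    exact (ZMod.intCast_zmod_eq_zero_iff_dvd _ 13).mp h2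
  obtain ⟨t, ht⟩ := hdvd
  simp only [Pi.sub_apply] at hj
  rw [ht] at hj
  have ht0 : t = 0 := by
    by_contra hne
    have : 1 ≤ t ^ 2 := by
      have := sq_nonneg t
      have : t ^ 2 ≠ 0 := pow_ne_zero 2 hne
      omega
    nlinarith
  rw [ht0] at ht
  omega

/-- an automorphism congruent to the identity modulo 13 is the identity -/
theorem co0_eq_one_of_red13 (g : Co0)
    (hg : ∀ x : leechLattice, red13 ((co0Hom g x : leechLattice) : GolayPt → ℤ) = red13 (x : GolayPt → ℤ)) :
    g = 1 := by
  have hfix8 : ∀ i, co0Hom g (e8 i) = e8 i := by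
    intro i
    obtain ⟨j, hij⟩ : ∃ j : GolayPt, i ≠ j := by
      by_cases h : i = none
      · exact ⟨some 0, by rw [h]; simp⟩
      · exact ⟨none, h⟩
    have hsum : e8 i = f44 i j 1 (Or.inl rfl) hij + f44 i j (-1) (Or.inr rfl) hij := by
      apply Subtype.ext
      funext k
      simp only [AddSubgroup.coe_add, Pi.add_apply, e8_apply, f44, Pi.single_apply]
      split_ifs with h1 h2 <;> first | rfl | (exfalso; exact hij (h1.symm.trans h2)) | norm_num
    have hn : ∀ s hs, sqNorm ((f44 i j s hs hij : leechLattice) : GolayPt → ℤ) = 32 := by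
      intro s hs
      unfold sqNorm
      have : ∀ k, ((f44 i j s hs hij : leechLattice) : GolayPt → ℤ) k ^ 2 =
          (if k = i then 16 else 0) + (if k = j then 16 else 0) := by
        intro k
        simp only [f44, Pi.add_apply, Pi.single_apply]
        rcases hs with rfl | rfl <;> split_ifs with h1 h2 <;>
          first | (exfalso; exact hij (h1.symm.trans h2)) | norm_num
      simp only [this]
      rw [Finset.sum_add_distrib]
      simp
    rw [hsum, map_add, co0_fix_of_red13 g hg _ (hn 1 _), co0_fix_of_red13 g hg _ (hn (-1) _)]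
  apply Subtype.ext
  apply Equiv.ext
  intro x
  have h8 := eight_smul_co0 g x
  simp only [hfix8] at h8
  rw [← eight_smul_eq_sum] at h8
  have : co0Hom g x = x := by
    apply Subtype.ext
    funext j
    have := congrArg (fun v : leechLattice => (v : GolayPt → ℤ) j) h8
    simp only [AddSubgroup.coe_zsmul, Pi.smul_apply, smul_eq_mul] at this
    omega
  exact this

end Cfsg.Agent.Lib.Helper28
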