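import Cfsg.Agent.Lib.Helper28.OrbitCert
import Cfsg.Agent.Lib.Helper28.M24Transport
import Cfsg.Agent.Lib.Helper28.M12Trans
import Cfsg.Agent.Lib.Helper3.Steiner5824
import Cfsg.Agent.S0360

set_option autoImplicit false

/-!
The stabilizer in `Cfsg.M24` of an octad: its order `322560`, the numbers `30, 280, 448` of octads
meeting a given octad in `0, 4, 2` points, and transitivity of the octad stabilizer on each of
these three families (orbit certificates).
-/

namespace Cfsg.Agent.Lib.Helper28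

open Cfsg MulAction
open scoped Pointwise

theorem orbit_baseOctad : orbit M24 baseOctad = octads := by
  ext o
  constructor
  · rintro ⟨g, rfl⟩
    exact smul_mem_octads g.2 baseOctad_mem
  · intro ho
    obtain ⟨g, hg, hgo⟩ := M24_octad_transitive baseOctad_mem ho
    exact ⟨⟨g, hg⟩, hgo⟩

theorem card_stabilizer_baseOctad : Nat.card (stabilizer M24 baseOctad) = 322560 := by
  have h1 : Nat.card (stabilizer M24 baseOctad) * (stabilizer M24 baseOctad).index =
      Nat.card M24 := Subgroup.card_mul_index _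
  rw [MulAction.index_stabilizer, orbit_baseOctad, Cfsg.Agent.S0360.result, card_M24] at h1
  have h2 : (244823040 : ℕ) = 322560 * 759 := by norm_num
  rw [h2] at h1
  exact Nat.eq_of_mul_eq_mul_right (by norm_num) h1

/-- the stabilizer of an octad has order 322560 -/
theorem card_stabilizer_octad {o : Finset GolayPt} (ho : o ∈ octads) :
    Nat.card (stabilizer M24 o) = 322560 := by
  obtain ⟨g, hg, rfl⟩ := M24_octad_transitive baseOctad_mem ho
  rw [← card_stabilizer_baseOctad]
  have e : stabilizer M24 baseOctad ≃* stabilizer M24 ((⟨g, hg⟩ : M24) • baseOctad) :=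
    stabilizerEquivStabilizer rfl
  exact (Nat.card_congr e.toEquiv).symm

/-! ### Counting octads by their intersection with a fixed octad -/

section counts

open Cfsg.Agent.Lib.Helper3.Steiner Finset

theorem fintype_card_golayPt : Fintype.card GolayPt = 24 := rfl

/-- the number of octads meeting a given octad in 4, 2, 0 points -/
theorem ncard_octads_inter {b : Finset GolayPt} (hb : b ∈ octads) :
    {c : Finset GolayPt | c ∈ octads ∧ (b ∩ c).card = 4}.ncard = 280 ∧
    {c : Finset GolayPt | c ∈ octads ∧ (b ∩ c).card = 2}.ncard = 448 ∧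
    {c : Finset GolayPt | c ∈ octads ∧ (b ∩ c).card = 0}.ncard = 30 := by
  classical
  have hB := octads_isSteinerSystem
  have hα := fintype_card_golayPt
  have hset : ∀ t : ℕ, t ≠ 8 → {c : Finset GolayPt | c ∈ octads ∧ (b ∩ c).card = t} =
      (((blocksF octads).erase b).filter (fun c => (b ∩ c).card = t) : Finset (Finset GolayPt)) := by
    intro t ht
    ext c
    simp only [Set.mem_ofPred_eq, coe_filter, mem_erase, mem_blocksF]
    constructor
    · rintro ⟨hc, hd⟩
      refine ⟨⟨?_, hc⟩, hd⟩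
      rintro rfl
      rw [inter_self, hB.1 c hc] at hd
      exact ht hd.symm
    · rintro ⟨⟨_, hc⟩, hd⟩
      exact ⟨hc, hd⟩
  have hcases : ∀ c ∈ (blocksF octads).erase b,
      (b ∩ c).card = 0 ∨ (b ∩ c).card = 2 ∨ (b ∩ c).card = 4 := by
    intro c hc
    rw [mem_erase, mem_blocksF] at hc
    exact inter_card_5824 hα hB hb hc.2 (Ne.symm hc.1)
  have h4 : (((blocksF octads).erase b).filter (fun c => (b ∩ c).card = 4)).card = 280 := by
    rw [← sum4_5824 hα hB hb, Finset.card_filter]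
    apply Finset.sum_congr rfl
    intro c hc
    rcases hcases c hc with h | h | h <;> rw [h] <;> simp [Nat.choose]
  have h2 : (((blocksF octads).erase b).filter (fun c => (b ∩ c).card = 2)).card = 448 := by
    have hs := sum2_5824 hα hB hb
    have key : ∑ c ∈ (blocksF octads).erase b, ((b ∩ c).card).choose 2 =
        ∑ c ∈ (blocksF octads).erase b, ((if (b ∩ c).card = 2 then 1 else 0) +
          6 * (if (b ∩ c).card = 4 then 1 else 0)) := by
      apply Finset.sum_congr rfl
      intro c hc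
      rcases hcases c hc with h | h | h <;> rw [h] <;> simp [Nat.choose]
    rw [key, Finset.sum_add_distrib, ← Finset.mul_sum, ← Finset.card_filter, ← Finset.card_filter,
      h4] at hs
    omega
  have h0 : (((blocksF octads).erase b).filter (fun c => (b ∩ c).card = 0)).card = 30 := by
    have hs := sum0_5824 hα hB hb
    have key : ∑ c ∈ (blocksF octads).erase b, ((b ∩ c).card).choose 0 =
        ∑ c ∈ (blocksF octads).erase b, ((if (b ∩ c).card = 0 then 1 else 0) +
          ((if (b ∩ c).card = 2 then 1 else 0) + (if (b ∩ c).card = 4 then 1 else 0))) := by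
      apply Finset.sum_congr rfl
      intro c hc
      rcases hcases c hc with h | h | h <;> rw [h] <;> simp
    rw [key, Finset.sum_add_distrib, Finset.sum_add_distrib, ← Finset.card_filter,
      ← Finset.card_filter, ← Finset.card_filter, h4, h2] at hs
    omega
  refine ⟨?_, ?_, ?_⟩
  · rw [hset 4 (by norm_num), Set.ncard_coe_finset, h4]
  · rw [hset 2 (by norm_num), Set.ncard_coe_finset, h2]
  · rw [hset 0 (by norm_num), Set.ncard_coe_finset, h0]

end counts

/-! ### Generators of the stabilizer of the base octad -/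

/-- two generators of the stabilizer of the base octad -/
def ostabs : Fin 2 → Fin 24 → Fin 24 := ![
  ![1, 3, 2, 0, 20, 17, 7, 13, 8, 4, 21, 10, 18, 11, 23, 19, 15, 5, 9, 16, 22, 6, 12, 14],
  ![1, 0, 5, 23, 21, 3, 22, 9, 10, 6, 11, 20, 13, 7, 2, 19, 12, 14, 4, 16, 8, 15, 18, 17]]

set_option maxRecDepth 100000 in
theorem ostabs_inj : ∀ i, TabInj (ostabs i) := by decide +kernel

set_option maxRecDepth 100000 in
set_option maxHeartbeats 4000000 in
theorem ostabs_check : ∀ i, TabCheck (ostabs i) := by decide +kernel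

set_option maxRecDepth 100000 in
theorem ostabs_oct : ∀ (i : Fin 2) (a : Fin 24), (8536111 : ℕ).testBit a.val = true →
    (8536111 : ℕ).testBit (ostabs i a).val = true := by decide +kernel

/-- the stabilizer of the base octad as a subgroup of the symmetric group -/
def OStab : Subgroup (Equiv.Perm GolayPt) := M24 ⊓ stabilizer (Equiv.Perm GolayPt) baseOctad

theorem mem_OStab {g : Equiv.Perm GolayPt} : g ∈ OStab ↔ g ∈ M24 ∧ g • baseOctad = baseOctad := by
  unfold OStab
  rw [Subgroup.mem_inf]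
  exact Iff.rfl

theorem ostab_gen_mem (i : Fin 2) : tabPerm (ostabs i) (ostabs_inj i) ∈ OStab := by
  rw [mem_OStab]
  exact ⟨tabPerm_mem_M24 _ _ (ostabs_check i),
    smul_maskSet_of_table (ostabs i) (tabPerm_pt _ _) 8536111 (ostabs_oct i)⟩

/-- roots: octads meeting the base octad in 0, 4, 2 points -/
def oroot0 : ℕ := 337856
def oroot4 : ℕ := 5279
def oroot2 : ℕ := 15777

def ocert0 : List (ℕ × ℕ × Fin 2) := [
  (2141072, 0, 0),
  (4202192, 0, 1),
  (1584464, 1, 0),
  (3704512, 1, 1),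
  (3421328, 2, 0),
  (7612992, 2, 1),
  (7409024, 3, 0),
  (6889680, 4, 0),
  (4819776, 4, 1),
  (5538256, 6, 1),
  (6337856, 7, 0),
  (1351424, 7, 1),
  (1161408, 8, 0),
  (6656640, 8, 1),
  (628112, 9, 0),
  (6100032, 9, 1),
  (5780352, 10, 0),
  (7079696, 10, 1),
  (2890176, 11, 0),
  (5024896, 11, 1),
  (832080, 14, 0),
  (4038912, 15, 0),
  (2702848, 15, 1),
  (4536592, 16, 1),
  (3216208, 18, 0),
  (2460752, 18, 1),
  (5350928, 19, 1),
  (1903248, 20, 1),
  (7903248, 26, 1)]

def ocert4 : List (ℕ × ℕ × Fin 2) := [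
  (3416079, 0, 0),
  (10496547, 0, 1),
  (4196943, 1, 0),
  (8421811, 1, 1),
  (150618, 2, 0),
  (1212619, 2, 1),
  (13893731, 3, 1),
  (1728778, 4, 0),
  (2754059, 4, 1),
  (11535529, 5, 0),
  (15747077, 5, 1),
  (4726955, 6, 0),
  (13124355, 6, 1),
  (4346506, 7, 0),
  (4587803, 7, 1),
  (12650793, 8, 0),
  (8471941, 8, 1),
  (2162811, 9, 0),
  (8505411, 9, 1),
  (6447171, 10, 0),
  (8555274, 10, 1),
  (12604486, 11, 0),
  (1474854, 11, 1),
  (210955, 12, 0),
  (8716939, 12, 1),
  (8474906, 13, 0),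
  (459847, 13, 1),
  (8663097, 14, 0),
  (8675909, 14, 1),
  (1053483, 15, 0),
  (10765331, 15, 1),
  (185603, 16, 0),
  (9835530, 16, 1),
  (10543366, 17, 0),
  (138790, 17, 1),
  (14716939, 18, 1),
  (8963210, 19, 0),
  (5902343, 19, 1),
  (8394986, 20, 0),
  (4505735, 20, 1),
  (542009, 21, 0),
  (10110017, 21, 1),
  (10768524, 22, 0),
  (4597797, 22, 1),
  (4850476, 23, 0),
  (298027, 24, 0),
  (9465987, 24, 1),
  (57883, 25, 0),
  (8524371, 25, 1),
  (9748745, 26, 0),
  (10630149, 26, 1),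
  (2130606, 27, 0),
  (4216883, 27, 1),
  (1460739, 28, 0),
  (10625178, 28, 1),
  (8407702, 29, 0),
  (4325622, 29, 1),
  (8398155, 30, 1),
  (11551306, 31, 0),
  (2263063, 31, 1),
  (11272490, 32, 0),
  (551943, 32, 1),
  (6570537, 33, 0),
  (8546577, 33, 1),
  (8931660, 34, 0),
  (689317, 34, 1),
  (2491452, 35, 0),
  (1075305, 35, 1),
  (806987, 36, 0),
  (9347075, 36, 1),
  (11100169, 37, 0),
  (9112069, 37, 1),
  (4526126, 38, 0),
  (352547, 38, 1),
  (418953, 39, 0),
  (13771273, 39, 1),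
  (8925710, 40, 0),
  (786999, 40, 1),
  (11731203, 41, 0),
  (10554382, 41, 1),
  (14762146, 42, 0),
  (4409606, 42, 1),
  (8561204, 43, 1),
  (1327290, 44, 1),
  (201013, 45, 0),
  (8733800, 45, 1),
  (9963547, 46, 1),
  (12871690, 47, 0),
  (140167, 47, 1),
  (11010247, 48, 1),
  (9045270, 50, 1),
  (2377830, 51, 0),
  (190626, 51, 1),
  (663645, 52, 0),
  (8946281, 52, 1),
  (12584506, 54, 0),
  (1065303, 54, 1),
  (10666625, 55, 1),
  (9462812, 56, 0),
  (3277413, 56, 1),
  (1192108, 57, 0),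
  (2115979, 58, 0),
  (12717187, 58, 1),
  (12599513, 59, 0),
  (12747077, 59, 1),
  (1573998, 60, 0),
  (3719203, 60, 1),
  (213833, 61, 0),
  (8619033, 61, 1),
  (1116327, 62, 1),
  (8683614, 63, 1),
  (9456930, 64, 0),
  (3294342, 64, 1),
  (13829156, 65, 1),
  (2826278, 66, 0),
  (608810, 66, 1),
  (10537016, 67, 1),
  (13631886, 68, 1),
  (12656663, 69, 1),
  (737427, 70, 1),
  (8622214, 71, 1),
  (115766, 72, 0),
  (1265762, 72, 1),
  (430605, 73, 0),
  (8798658, 76, 1),
  (346141, 77, 0),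
  (8593633, 77, 1),
  (1245726, 78, 0),
  (4243818, 79, 0),
  (2147405, 80, 0),
  (9607201, 80, 1),
  (8581192, 81, 0),
  (8426796, 82, 0),
  (1332261, 82, 1),
  (1722420, 83, 0),
  (2769128, 83, 1),
  (10486557, 84, 1),
  (2126890, 85, 1),
  (12720156, 86, 1),
  (5325835, 87, 0),
  (8412681, 88, 0),
  (9830549, 88, 1),
  (10558, 89, 0),
  (18147, 89, 1),
  (90318, 90, 0),
  (4424227, 90, 1),
  (3227948, 91, 0),
  (2313249, 91, 1),
  (8521420, 92, 0),
  (5275709, 92, 1),
  (9055272, 93, 0),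
  (1589901, 93, 1),
  (13303882, 95, 1),
  (3297305, 96, 0),
  (10881097, 96, 1),
  (6292775, 97, 1),
  (8937586, 98, 0),
  (705094, 98, 1),
  (10619300, 99, 1),
  (8414120, 101, 1),
  (9471495, 102, 1),
  (15073798, 104, 1),
  (545190, 105, 0),
  (5129250, 105, 1),
  (6488205, 106, 0),
  (622863, 107, 1),
  (11163650, 109, 1),
  (4367374, 110, 0),
  (15335473, 111, 1),
  (14828808, 112, 0),
  (1182989, 112, 1),
  (14688364, 113, 0),
  (52005, 113, 1),
  (6475812, 114, 0),
  (416040, 114, 1),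
  (231532, 115, 0),
  (118953, 115, 1),
  (9506893, 116, 1),
  (12222476, 117, 1),
  (4223245, 118, 0),
  (8783649, 118, 1),
  (1103886, 119, 0),
  (2494627, 119, 1),
  (9543722, 120, 0),
  (2183687, 120, 1),
  (843820, 121, 0),
  (684577, 121, 1),
  (2627629, 122, 1),
  (13009064, 123, 0),
  (4343317, 125, 1),
  (11538486, 126, 1),
  (10506593, 128, 1),
  (9048457, 129, 0),
  (13370381, 129, 1),
  (13142054, 130, 1),
  (9193633, 132, 0),
  (13262980, 132, 1),
  (3031301, 133, 0),
  (12698124, 136, 1),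
  (10650722, 137, 1),
  (8431757, 138, 1),
  (11952160, 139, 1),
  (8657159, 140, 1),
  (9578566, 141, 1),
  (5268006, 142, 0),
  (2245426, 142, 1),
  (12587685, 145, 1),
  (692282, 146, 0),
  (2121909, 149, 0),
  (12733024, 149, 1),
  (9652360, 151, 1),
  (8455014, 152, 1),
  (13062145, 153, 1),
  (13811730, 155, 1),
  (2232654, 156, 0),
  (8978620, 158, 0),
  (4800613, 158, 1),
  (157028, 159, 0),
  (1230376, 159, 1),
  (6832158, 161, 0),
  (657763, 161, 1),
  (21116, 162, 0),
  (442481, 162, 1),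
  (8855820, 163, 0),
  (75309, 163, 1),
  (10687016, 164, 0),
  (45159, 165, 0),
  (8704546, 165, 1),
  (8983587, 166, 1),
  (1302533, 167, 1),
  (2605066, 169, 1),
  (8834052, 170, 1),
  (153797, 172, 0),
  (9310308, 174, 0),
  (14176296, 176, 1),
  (12726562, 178, 1),
  (9158944, 179, 1),
  (8660134, 180, 1),
  (9969957, 182, 1),
  (402026, 183, 0),
  (4900873, 184, 0),
  (8849458, 187, 0),
  (9323032, 189, 1),
  (5652556, 191, 0),
  (2269481, 191, 1),
  (8611330, 193, 1),
  (742412, 195, 0),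
  (2031657, 195, 1),
  (8484900, 197, 0),
  (475812, 197, 1),
  (8966165, 199, 0),
  (10093218, 201, 1),
  (180636, 202, 1),
  (280334, 203, 0),
  (1188915, 203, 1),
  (4213932, 204, 0),
  (5390753, 204, 1),
  (262637, 205, 1),
  (9568632, 206, 0),
  (421910, 207, 0),
  (8541360, 210, 0),
  (12641313, 211, 0),
  (9589508, 211, 1),
  (4330601, 212, 1),
  (10846245, 220, 1),
  (198058, 221, 0),
  (919694, 227, 0),
  (11028004, 232, 0),
  (4415544, 234, 1),
  (2255372, 238, 0),
  (133817, 238, 1),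
  (10305542, 241, 1),
  (9519665, 243, 0),
  (10698836, 243, 1),
  (12861748, 244, 1),
  (8391797, 254, 1),
  (7473194, 255, 0),
  (9701932, 256, 1),
  (9486564, 270, 1)]

def ocert2 : List (ℕ × ℕ × Fin 2) := [
  (2501890, 0, 0),
  (1060490, 0, 1),
  (2101096, 1, 0),
  (1100945, 1, 1),
  (6302745, 2, 0),
  (9440193, 2, 1),
  (2229713, 3, 0),
  (13667400, 3, 1),
  (16262146, 4, 0),
  (3672838, 4, 1),
  (3152963, 5, 0),
  (11831426, 5, 1),
  (4220306, 6, 0),
  (5375810, 6, 1),
  (3154402, 7, 0),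
  (6344194, 7, 1),
  (6837377, 8, 0),
  (14551296, 8, 1),
  (6379592, 9, 0),
  (493953, 9, 1),
  (4261212, 10, 0),
  (1148257, 10, 1),
  (6554826, 11, 0),
  (5286147, 11, 1),
  (4744776, 12, 0),
  (1737489, 12, 1),
  (11548936, 13, 0),
  (2363013, 13, 1),
  (6295992, 14, 0),
  (4476225, 14, 1),
  (4336072, 15, 0),
  (4229001, 15, 1),
  (11015256, 16, 0),
  (1869893, 16, 1),
  (10825794, 17, 0),
  (371206, 17, 1),
  (4282144, 18, 0),
  (1525008, 18, 1),
  (8688833, 19, 0),
  (13938692, 19, 1),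
  (567074, 20, 0),
  (1594898, 20, 1),
  (3182981, 21, 0),
  (14949408, 21, 1),
  (6979970, 22, 0),
  (4726026, 22, 1),
  (2110153, 23, 0),
  (12880401, 23, 1),
  (1836419, 24, 1),
  (10557585, 25, 0),
  (12912836, 25, 1),
  (5833010, 26, 0),
  (2704706, 26, 1),
  (9610624, 27, 1),
  (2106966, 28, 0),
  (1084018, 28, 1),
  (1454401, 29, 0),
  (10790408, 29, 1),
  (10491778, 30, 0),
  (5508118, 30, 1),
  (13911680, 31, 1),
  (2634003, 32, 0),
  (9178690, 32, 1),
  (3489985, 33, 0),
  (14919680, 33, 1),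
  (4785798, 34, 0),
  (314056, 35, 0),
  (4370577, 35, 1),
  (560668, 36, 0),
  (1577201, 36, 1),
  (10916112, 37, 0),
  (277580, 37, 1),
  (15762208, 38, 0),
  (2120980, 38, 1),
  (2908802, 39, 0),
  (4860434, 39, 1),
  (5003780, 40, 0),
  (926128, 40, 1),
  (2820376, 41, 0),
  (593097, 41, 1),
  (16056344, 42, 0),
  (2173253, 42, 1),
  (4989254, 43, 0),
  (2512448, 44, 0),
  (1484824, 44, 1),
  (602472, 45, 0),
  (902657, 45, 1),
  (2430217, 46, 0),
  (9776129, 46, 1),
  (272595, 47, 0),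
  (12624578, 47, 1),
  (4063314, 48, 1),
  (6365962, 49, 0),
  (69395, 49, 1),
  (1369154, 50, 0),
  (3322370, 50, 1),
  (63108, 51, 0),
  (5640752, 51, 1),
  (5476616, 52, 0),
  (10584520, 53, 0),
  (4299781, 53, 1),
  (6842656, 54, 0),
  (675712, 54, 1),
  (3147996, 55, 0),
  (6326497, 55, 1),
  (5899416, 56, 0),
  (7864649, 56, 1),
  (4459426, 57, 0),
  (2640465, 58, 0),
  (9078992, 58, 1),
  (2384216, 59, 0),
  (175681, 59, 1),
  (7345676, 60, 0),
  (3410225, 60, 1),
  (14709264, 61, 0),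
  (396116, 61, 1),
  (1378634, 62, 0),
  (2204803, 62, 1),
  (2180760, 63, 0),
  (5441617, 63, 1),
  (4231958, 64, 1),
  (580704, 65, 0),
  (2019456, 65, 1),
  (2207772, 66, 0),
  (334433, 66, 1),
  (8922769, 67, 0),
  (14156372, 67, 1),
  (1849378, 68, 0),
  (3736597, 69, 0),
  (12126304, 69, 1),
  (5709954, 70, 0),
  (1852256, 71, 0),
  (2810896, 71, 1),
  (13641904, 72, 1),
  (4870480, 73, 0),
  (951624, 73, 1),
  (11797828, 74, 0),
  (3189796, 74, 1),
  (8464984, 75, 0),
  (99029, 75, 1),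
  (1121336, 76, 0),
  (8721940, 77, 0),
  (1384564, 77, 1),
  (1256224, 78, 0),
  (11654144, 79, 1),
  (13703682, 80, 1),
  (5296705, 81, 0),
  (36294, 82, 0),
  (5280930, 82, 1),
  (72588, 83, 0),
  (4523185, 83, 1),
  (10748656, 84, 0),
  (4253780, 84, 1),
  (5770785, 85, 0),
  (12075408, 85, 1),
  (12661896, 86, 1),
  (11108882, 87, 0),
  (596054, 87, 1),
  (2392899, 88, 0),
  (8436754, 88, 1),
  (1186194, 89, 1),
  (7340691, 90, 1),
  (555160, 91, 0),
  (5112513, 91, 1),
  (5309160, 92, 0),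
  (6406417, 92, 1),
  (39257, 93, 0),
  (3179802, 94, 0),
  (15207048, 95, 0),
  (4721045, 95, 1),
  (4982904, 96, 0),
  (582081, 96, 1),
  (11282452, 97, 0),
  (535268, 97, 1),
  (5017889, 99, 0),
  (9204992, 99, 1),
  (13276672, 100, 1),
  (2921478, 101, 0),
  (8592704, 102, 0),
  (1410188, 102, 1),
  (10560816, 103, 0),
  (1134148, 103, 1),
  (5252293, 104, 0),
  (668866, 105, 0),
  (6062602, 105, 1),
  (7417889, 106, 0),
  (10832640, 106, 1),
  (4264387, 107, 0),
  (12944642, 107, 1),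
  (145176, 108, 0),
  (1312345, 108, 1),
  (9503954, 109, 0),
  (7438406, 109, 1),
  (1664160, 110, 0),
  (8077824, 110, 1),
  (14714004, 111, 1),
  (2624690, 112, 0),
  (5785794, 112, 1),
  (6557781, 113, 0),
  (8694112, 113, 1),
  (9721936, 115, 0),
  (2531524, 115, 1),
  (1050548, 116, 0),
  (7357552, 116, 1),
  (13636881, 117, 1),
  (2664522, 118, 0),
  (563843, 118, 1),
  (11575377, 119, 0),
  (10525252, 119, 1),
  (7622914, 120, 1),
  (1839388, 121, 0),
  (2892897, 121, 1),
  (11469952, 122, 0),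
  (5842956, 122, 1),
  (13443616, 123, 0),
  (615188, 123, 1),
  (11055264, 124, 1),
  (427666, 125, 0),
  (5255258, 125, 1),
  (3237906, 126, 0),
  (2296514, 126, 1),
  (5329044, 127, 0),
  (6750560, 127, 1),
  (4656648, 128, 0),
  (1122713, 128, 1),
  (2201890, 129, 1),
  (4441280, 130, 0),
  (4241960, 131, 0),
  (283537, 131, 1),
  (12780432, 132, 0),
  (2738308, 133, 1),
  (5405696, 134, 0),
  (3539848, 134, 1),
  (9769376, 135, 0),
  (6644740, 135, 1),
  (2687905, 136, 0),
  (13192208, 136, 1),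
  (6308804, 137, 0),
  (4361520, 137, 1),
  (6949956, 138, 0),
  (1608104, 138, 1),
  (15864000, 139, 1),
  (1613974, 140, 0),
  (6820450, 140, 1),
  (7767041, 141, 0),
  (3457556, 142, 0),
  (2242672, 142, 1),
  (5409412, 143, 0),
  (1070536, 144, 1),
  (15515712, 145, 0),
  (702724, 145, 1),
  (4510744, 146, 0),
  (13373586, 147, 0),
  (2631052, 148, 0),
  (7221256, 149, 0),
  (797449, 149, 1),
  (304405, 150, 0),
  (9451104, 150, 1),
  (2365978, 151, 1),
  (1204944, 152, 0),
  (6455896, 152, 1),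
  (9968772, 153, 0),
  (8126628, 153, 1),
  (6493202, 154, 0),
  (13721920, 155, 0),
  (2328324, 155, 1),
  (2422785, 156, 0),
  (8796800, 156, 1),
  (1687640, 157, 0),
  (2854977, 157, 1),
  (525274, 159, 0),
  (4752467, 159, 1),
  (3951624, 160, 0),
  (3811457, 160, 1),
  (5514536, 161, 0),
  (3172097, 161, 1),
  (11608708, 163, 1),
  (78514, 164, 0),
  (4538962, 164, 1),
  (12849992, 165, 1),
  (9998658, 166, 0),
  (11046145, 168, 1),
  (95313, 169, 0),
  (9929280, 169, 1),
  (1127686, 170, 0),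
  (3474978, 170, 1),
  (1250945, 171, 0),
  (8989058, 172, 0),
  (3375280, 173, 1),
  (208020, 174, 0),
  (987906, 175, 0),
  (861210, 175, 1),
  (2969648, 177, 0),
  (1009728, 177, 1),
  (2949708, 178, 0),
  (632881, 178, 1),
  (2409888, 179, 0),
  (6857221, 180, 0),
  (8919856, 180, 1),
  (3328320, 181, 0),
  (2268296, 181, 1),
  (5249380, 182, 1),
  (6305926, 183, 0),
  (2435240, 184, 0),
  (4287105, 184, 1),
  (4788761, 185, 0),
  (9240913, 185, 1),
  (4626498, 186, 0),
  (307594, 186, 1),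
  (8439632, 187, 0),
  (1217620, 187, 1),
  (4470275, 188, 1),
  (2675464, 189, 0),
  (924689, 189, 1),
  (10513600, 190, 1),
  (14682450, 191, 1),
  (7397512, 192, 0),
  (6429441, 192, 1),
  (4755660, 193, 0),
  (12685424, 195, 0),
  (381252, 195, 1),
  (3698756, 196, 0),
  (3050016, 196, 1),
  (3351624, 197, 0),
  (3246601, 197, 1),
  (5571333, 198, 1),
  (1315526, 199, 0),
  (6594610, 199, 1),
  (7479572, 201, 1),
  (4768432, 202, 1),
  (6588684, 204, 1),
  (14254209, 206, 1),
  (1647171, 207, 1),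
  (804052, 209, 0),
  (5939296, 209, 1),
  (4294810, 212, 1),
  (2220640, 213, 0),
  (252432, 213, 1),
  (463064, 215, 1),
  (9537812, 216, 0),
  (2168036, 216, 1),
  (762504, 217, 1),
  (3678776, 218, 0),
  (5511305, 219, 0),
  (14950785, 219, 1),
  (42232, 221, 0),
  (2372388, 222, 1),
  (168928, 223, 0),
  (2135601, 224, 0),
  (1618953, 226, 1),
  (10232008, 228, 1),
  (9708306, 229, 0),
  (1110320, 230, 0),
  (9020484, 231, 0),
  (1675812, 231, 1),
  (1337732, 232, 1),
  (4203377, 233, 0),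
  (4645632, 234, 0),
  (301236, 235, 1),
  (237906, 236, 0),
  (104010, 236, 1),
  (3610628, 237, 1),
  (8401364, 238, 0),
  (4490852, 238, 1),
  (3806496, 239, 0),
  (5621792, 240, 1),
  (4924673, 241, 0),
  (10028808, 241, 1),
  (4485344, 242, 0),
  (4563017, 244, 1),
  (837906, 245, 1),
  (2654580, 246, 1),
  (1445088, 247, 0),
  (4731956, 248, 0),
  (12594948, 249, 1),
  (8999616, 250, 0),
  (5210132, 250, 1),
  (855332, 251, 0),
  (12325377, 252, 0),
  (1405448, 253, 0),
  (2564625, 253, 1),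
  (8490656, 254, 1),
  (8773776, 255, 1),
  (6703248, 258, 0),
  (4403780, 263, 0),
  (361272, 263, 1),
  (3444840, 264, 0),
  (12638592, 265, 0),
  (4593028, 265, 1),
  (290352, 268, 0),
  (15274244, 269, 1),
  (884962, 270, 0),
  (4845570, 270, 1),
  (14747201, 271, 1),
  (3739786, 272, 0),
  (7145475, 272, 1),
  (4271202, 274, 0),
  (1164162, 274, 1),
  (8654232, 275, 1),
  (9474712, 279, 0),
  (12985424, 280, 1),
  (5063048, 281, 0),
  (1805314, 282, 1),
  (31554, 287, 1),
  (126216, 288, 0),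
  (3168928, 290, 1),
  (11150144, 297, 0),
  (13108704, 300, 0),
  (5817604, 300, 1),
  (10021376, 301, 1),
  (1352353, 303, 1),
  (1413139, 306, 0),
  (792232, 308, 0),
  (6053905, 308, 1),
  (13121601, 317, 0),
  (9208708, 317, 1),
  (267634, 318, 0),
  (864389, 319, 0),
  (4301220, 322, 1),
  (722544, 323, 0),
  (4465308, 327, 0),
  (1710664, 328, 0),
  (2916505, 328, 1),
  (10170384, 330, 0),
  (530245, 331, 0),
  (10257456, 331, 1),
  (6359604, 334, 1),
  (4921504, 335, 0),
  (5262104, 352, 0),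
  (1975812, 359, 0),
  (6432416, 363, 1),
  (2757268, 364, 0),
  (351362, 367, 1),
  (1769924, 372, 0),
  (6915112, 372, 1),
  (2150610, 381, 1),
  (13148440, 387, 1),
  (11669008, 390, 0),
  (504864, 391, 1),
  (9279496, 393, 0),
  (8499969, 395, 1),
  (1661185, 403, 1),
  (1090380, 406, 1),
  (84464, 407, 0),
  (2322816, 408, 0),
  (2425238, 414, 1),
  (1063445, 421, 0)]

set_option maxRecDepth 1000000 in
set_option maxHeartbeats 4000000 in
theorem ocert0_ok : certOK ostabs [oroot0] ocert0 = true ∧ (oroot0 :: certMasks ocert0).Nodup ∧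
    (oroot0 :: certMasks ocert0).length = 30 ∧ ∀ m ∈ oroot0 :: certMasks ocert0, m < 2 ^ 24 := by
  decide +kernel

set_option maxRecDepth 1000000 in
set_option maxHeartbeats 4000000 in
theorem ocert4_ok : certOK ostabs [oroot4] ocert4 = true ∧ (oroot4 :: certMasks ocert4).Nodup ∧
    (oroot4 :: certMasks ocert4).length = 280 ∧ ∀ m ∈ oroot4 :: certMasks ocert4, m < 2 ^ 24 := by
  decide +kernel

set_option maxRecDepth 1000000 in
set_option maxHeartbeats 4000000 in
theorem ocert2_ok : certOK ostabs [oroot2] ocert2 = true ∧ (oroot2 :: certMasks ocert2).Nodup ∧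
    (oroot2 :: certMasks ocert2).length = 448 ∧ ∀ m ∈ oroot2 :: certMasks ocert2, m < 2 ^ 24 := by
  decide +kernel

set_option maxRecDepth 100000 in
theorem oroot_facts :
    (IsCodeMask oroot0 ∧ popc oroot0 = 8 ∧ popc (oroot0 &&& 8536111) = 0) ∧
    (IsCodeMask oroot4 ∧ popc oroot4 = 8 ∧ popc (oroot4 &&& 8536111) = 4) ∧
    (IsCodeMask oroot2 ∧ popc oroot2 = 8 ∧ popc (oroot2 &&& 8536111) = 2) := by
  decide +kernel

end Cfsg.Agent.Lib.Helper28
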