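import Mathlib

set_option autoImplicit false

/-!
A criterion for all automorphisms of a finite group to be inner.  The group has a Sylow subgroup
`⟨a⟩` of prime order `p`, normalized by an element `b` of prime order `q` acting with enough
multipliers; `⟨a⟩` and `⟨b⟩` are self-centralizing; some further elements normalizing `⟨b⟩`
generate the group together with `a` and `b`; and finitely many relations single out the
generators among their finitely many possible images.
-/

namespace Cfsg.Agent.Lib.Helper28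

open scoped Pointwise

/-- the value of a word in a family of elements -/
def evalW {G : Type*} [Group G] {n : ℕ} (x : Fin n → G) (w : List (Fin n)) : G := (w.map x).prod

theorem map_evalW {G H : Type*} [Group G] [Group H] (f : G →* H) {n : ℕ} (x : Fin n → G)
    (w : List (Fin n)) : f (evalW x w) = evalW (fun k => f (x k)) w := by
  unfold evalW
  rw [map_list_prod, List.map_map]
  rfl

/-- two subgroups of prime order `p`, where `p` divides the group order exactly once, are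
conjugate -/
theorem exists_conj_of_card_prime {G : Type*} [Group G] [Finite G] (p : ℕ) [Fact p.Prime]
    (hfac : (Nat.card G).factorization p = 1) (S S₀ : Subgroup G) (h : Nat.card S = p)
    (h₀ : Nat.card S₀ = p) : ∃ g : G, ∀ y, y ∈ S ↔ g⁻¹ * y * g ∈ S₀ := by
  obtain ⟨g, hg⟩ := MulAction.exists_smul_eq G (Sylow.ofCard S₀ (by rw [h₀, hfac, pow_one]))
    (Sylow.ofCard S (by rw [h, hfac, pow_one]))
  have hsub : MulAut.conj g • S₀ = S := by
    have := congrArg Sylow.toSubgroup hg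
    rw [Sylow.coe_subgroup_smul, Sylow.coe_ofCard, Sylow.coe_ofCard] at this
    exact this
  refine ⟨g, fun y => ?_⟩
  rw [← hsub, Subgroup.mem_pointwise_smul_iff_inv_smul_mem, MulAut.smul_def,
    MulAut.conj_inv_apply]

theorem exists_pow_of_mem_zpowers {G : Type*} [Group G] {x y : G} {q : ℕ} (hq : 0 < q)
    (hx : orderOf x = q) (hy : y ∈ Subgroup.zpowers x) : ∃ i, i < q ∧ y = x ^ i := by
  obtain ⟨t, rfl⟩ := Subgroup.mem_zpowers_iff.mp hy
  have hq' : (0 : ℤ) < (q : ℤ) := by exact_mod_cast hq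
  have h0 : 0 ≤ t % (q : ℤ) := Int.emod_nonneg t (ne_of_gt hq')
  have h1 : t % (q : ℤ) < q := Int.emod_lt_of_pos t hq'
  refine ⟨(t % (q : ℤ)).toNat, ?_, ?_⟩
  · have : ((t % (q : ℤ)).toNat : ℤ) < q := by rw [Int.toNat_of_nonneg h0]; exact h1
    exact_mod_cast this
  · rw [← zpow_natCast, Int.toNat_of_nonneg h0, ← hx, zpow_mod_orderOf]

theorem inn_of_conj_mul_mem {G : Type*} [Group G] {φ : MulAut G} (g : G)
    (h : MulAut.conj g * φ ∈ (MulAut.conj : G →* MulAut G).range) :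
    φ ∈ (MulAut.conj : G →* MulAut G).range := by
  have h1 : MulAut.conj g ∈ (MulAut.conj : G →* MulAut G).range := ⟨g, rfl⟩
  exact (Subgroup.mul_mem_cancel_left _ h1).mp h

theorem conj_pow_of_conj {G : Type*} [Group G] {a b : G} {r : ℕ} (hba : b * a * b⁻¹ = a ^ r)
    (i : ℕ) : b ^ i * a * (b ^ i)⁻¹ = a ^ r ^ i := by
  induction i with
  | zero => simp
  | succ i ih =>
    calc b ^ (i + 1) * a * (b ^ (i + 1))⁻¹ = b * (b ^ i * a * (b ^ i)⁻¹) * b⁻¹ := by
          rw [pow_succ']; group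
      _ = b * (a ^ r ^ i) * b⁻¹ := by rw [ih]
      _ = (b * a * b⁻¹) ^ r ^ i := by rw [conj_pow]
      _ = a ^ r ^ (i + 1) := by rw [hba, ← pow_mul, ← pow_succ']

/-- the criterion: every automorphism is inner -/
theorem aut_inner_of_gens {G : Type*} [Group G] [Finite G] (p q r s : ℕ) [Fact p.Prime]
    (hq : 0 < q) (a b : G) {n : ℕ} (e : Fin n → G) (m : Fin n → ℕ)
    (hfac : (Nat.card G).factorization p = 1)
    (ha : orderOf a = p) (hb : orderOf b = q)
    (hba : b * a * b⁻¹ = a ^ r)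
    (hs : (s * r) % p = (s + 1) % p)
    (hk : ∀ k, 0 < k → k < p → ∃ i, (k * r ^ i) % p = 1 ∨ (k * r ^ i) % p = p - 1)
    (hCa : ∀ g : G, g * a = a * g → g ∈ Subgroup.zpowers a)
    (hCb : ∀ g : G, g * b = b * g → g ∈ Subgroup.zpowers b)
    (heb : ∀ k, e k * b * (e k)⁻¹ = b ^ m k)
    (hgen : Subgroup.closure (insert a (insert b (Set.range e))) = ⊤)
    (rels : List (List (Fin (n + 1))))
    (hR : ∀ w ∈ rels, evalW (Fin.cons a e : Fin (n + 1) → G) w = 1)
    (hrel : ∀ (a' : G) (i : Fin n → ℕ), (a' = a ∨ a' = a⁻¹) → (∀ k, i k < q) →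
      (∀ w ∈ rels, evalW (Fin.cons a' (fun k => e k * b ^ i k) : Fin (n + 1) → G) w = 1) →
        a' = a ∧ ∀ k, i k = 0)
    (φ : MulAut G) : φ ∈ (MulAut.conj : G →* MulAut G).range := by
  classical
  have hp : p.Prime := Fact.out
  have ha1 : a ≠ 1 := by
    intro h
    rw [h, orderOf_one] at ha
    exact hp.one_lt.ne ha
  have hap : a ^ p = 1 := by rw [← ha]; exact pow_orderOf_eq_one a
  -- Step 1: Sylow
  obtain ⟨g, hg⟩ := exists_conj_of_card_prime p hfac (Subgroup.zpowers (φ a))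
    (Subgroup.zpowers a) (by rw [Nat.card_zpowers, MulEquiv.orderOf_eq, ha])
    (by rw [Nat.card_zpowers, ha])
  apply inn_of_conj_mul_mem g⁻¹
  set φ1 : MulAut G := MulAut.conj g⁻¹ * φ with hφ1
  have h1 : φ1 a ∈ Subgroup.zpowers a := by
    have := (hg (φ a)).mp (Subgroup.mem_zpowers _)
    rw [hφ1, MulAut.mul_apply, MulAut.conj_apply, inv_inv]
    exact this
  -- Step 2: multipliers
  obtain ⟨k, hkp, hk1⟩ := exists_pow_of_mem_zpowers hp.pos ha h1
  have hk0 : 0 < k := by
    rcases Nat.eq_zero_or_pos k with h0 | h0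
    · exfalso
      rw [h0, pow_zero] at hk1
      exact ha1 (φ1.injective (hk1.trans (map_one φ1).symm))
    · exact h0
  obtain ⟨i, hi⟩ := hk k hk0 hkp
  apply inn_of_conj_mul_mem (b ^ i)
  set φ2 : MulAut G := MulAut.conj (b ^ i) * φ1 with hφ2
  have h2 : φ2 a = a ^ ((k * r ^ i) % p) := by
    rw [hφ2, MulAut.mul_apply, MulAut.conj_apply, hk1, ← conj_pow, conj_pow_of_conj hba,
      ← pow_mul, mul_comm (r ^ i) k]
    conv_rhs => rw [← ha, pow_mod_orderOf]
  have h2' : φ2 a = a ∨ φ2 a = a⁻¹ := by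
    rcases hi with hi | hi
    · left; rw [h2, hi, pow_one]
    · right
      rw [h2, hi]
      apply eq_inv_of_mul_eq_one_left
      rw [← pow_succ, Nat.sub_add_cancel hp.one_le, hap]
  -- Step 3: the image of `b`
  have h3 : φ2 b * a * (φ2 b)⁻¹ = a ^ r := by
    have e1 : φ2 (b * a * b⁻¹) = φ2 (a ^ r) := congrArg φ2 hba
    rw [map_mul, map_mul, map_inv, map_pow] at e1
    rcases h2' with h | h
    · rw [h] at e1; exact e1
    · rw [h] at e1
      calc φ2 b * a * (φ2 b)⁻¹ = (φ2 b * a⁻¹ * (φ2 b)⁻¹)⁻¹ := by group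
        _ = (a⁻¹ ^ r)⁻¹ := by rw [e1]
        _ = a ^ r := by rw [inv_pow, inv_inv]
  have h3c : (b⁻¹ * φ2 b) * a = a * (b⁻¹ * φ2 b) := by
    have e1 : φ2 b * a = a ^ r * φ2 b := by rw [← h3]; group
    have e2 : b⁻¹ * a ^ r = a * b⁻¹ := by rw [← hba]; group
    calc b⁻¹ * φ2 b * a = b⁻¹ * (φ2 b * a) := by group
      _ = b⁻¹ * a ^ r * φ2 b := by rw [e1]; group
      _ = a * (b⁻¹ * φ2 b) := by rw [e2]; group
  obtain ⟨t, ht⟩ := Subgroup.mem_zpowers_iff.mp (hCa _ h3c)
  have hb' : φ2 b = b * a ^ t := by rw [ht]; group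
  have keyz : ∀ z : ℤ, b * a ^ z * b⁻¹ = a ^ ((r : ℤ) * z) := by
    intro z
    rw [← conj_zpow, hba, ← zpow_natCast, ← zpow_mul]
  set mm : ℤ := (s : ℤ) * r * t with hmm
  apply inn_of_conj_mul_mem (a ^ mm)
  set φ3 : MulAut G := MulAut.conj (a ^ mm) * φ2 with hφ3
  have h4a : φ3 a = φ2 a := by
    rw [hφ3, MulAut.mul_apply, MulAut.conj_apply]
    rcases h2' with h | h
    · rw [h]; group
    · rw [h]; group
  have hdvd : (p : ℤ) ∣ mm + r * t - r * mm := by
    have h5 : (p : ℤ) ∣ ((s + 1 : ℕ) : ℤ) - ((s * r : ℕ) : ℤ) := (Nat.modEq_iff_dvd).mp hs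
    push_cast at h5
    have : mm + r * t - r * mm = (r * t) * ((s : ℤ) + 1 - s * r) := by rw [hmm]; ring
    rw [this]
    exact Dvd.dvd.mul_left h5 _
  have h4b : φ3 b = b := by
    rw [hφ3, MulAut.mul_apply, MulAut.conj_apply, hb']
    have e1 : b * a ^ t = a ^ ((r : ℤ) * t) * b := by rw [← keyz t]; group
    have e2 : b * (a ^ mm)⁻¹ = (a ^ ((r : ℤ) * mm))⁻¹ * b := by rw [← keyz mm]; group
    calc a ^ mm * (b * a ^ t) * (a ^ mm)⁻¹
        = a ^ mm * a ^ ((r : ℤ) * t) * (b * (a ^ mm)⁻¹) := by rw [e1]; group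
      _ = a ^ mm * a ^ ((r : ℤ) * t) * (a ^ ((r : ℤ) * mm))⁻¹ * b := by rw [e2]; group
      _ = a ^ (mm + r * t - r * mm) * b := by rw [zpow_sub, zpow_add]
      _ = b := by rw [(orderOf_dvd_iff_zpow_eq_one).mp (by rw [ha]; exact hdvd), one_mul]
  -- Step 4: the images of the other generators
  have h4a' : φ3 a = a ∨ φ3 a = a⁻¹ := by rw [h4a]; exact h2'
  have h5 : ∀ k : Fin n, ∃ i, i < q ∧ φ3 (e k) = e k * b ^ i := by
    intro k
    have e1 : φ3 (e k) * b * (φ3 (e k))⁻¹ = b ^ m k := by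
      have := congrArg φ3 (heb k)
      rw [map_mul, map_mul, map_inv, map_pow, h4b] at this
      exact this
    have hc : ((e k)⁻¹ * φ3 (e k)) * b = b * ((e k)⁻¹ * φ3 (e k)) := by
      have e2 : φ3 (e k) * b = b ^ m k * φ3 (e k) := by rw [← e1]; group
      have e3 : (e k)⁻¹ * b ^ m k = b * (e k)⁻¹ := by rw [← heb k]; group
      calc (e k)⁻¹ * φ3 (e k) * b = (e k)⁻¹ * (φ3 (e k) * b) := by group
        _ = (e k)⁻¹ * b ^ m k * φ3 (e k) := by rw [e2]; group
        _ = b * ((e k)⁻¹ * φ3 (e k)) := by rw [e3]; group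
    obtain ⟨i, hi, hie⟩ := exists_pow_of_mem_zpowers hq hb (hCb _ hc)
    exact ⟨i, hi, by rw [← hie]; group⟩
  choose j hj hje using h5
  have h6 := hrel (φ3 a) j h4a' hj (by
    intro w hw
    have h := congrArg φ3 (hR w hw)
    rw [map_one] at h
    rw [← h]
    have h' := map_evalW φ3.toMonoidHom (Fin.cons a e : Fin (n + 1) → G) w
    refine Eq.trans ?_ h'.symm
    congr 1
    funext k
    refine Fin.cases ?_ (fun l => ?_) k
    · simp
    · simp [hje l])
  obtain ⟨h6a, h6i⟩ := h6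
  have h7 : φ3 = 1 := by
    have h8 : φ3.toMonoidHom = MonoidHom.id G := by
      apply MonoidHom.eq_of_eqOn_dense hgen
      intro x hx
      simp only [Set.mem_insert_iff, Set.mem_range] at hx
      rcases hx with rfl | rfl | ⟨k, rfl⟩
      · exact h6a
      · exact h4b
      · show φ3 (e k) = e k
        rw [hje k, h6i k, pow_zero, mul_one]
    ext x
    exact DFunLike.congr_fun h8 x
  rw [h7]
  exact Subgroup.one_mem _

end Cfsg.Agent.Lib.Helper28
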