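import Cfsg.Agent.Lib.Helper28.M24Act

set_option autoImplicit false

/-!
The action of permutations of the 24 points on binary words, `w ↦ w ∘ σ⁻¹`.
-/

namespace Cfsg.Agent.Lib.Helper28

open Cfsg MulAction
open scoped Pointwise

/-- the word `w` moved by the permutation `σ` -/
def permWord (σ : Equiv.Perm GolayPt) (w : GolayPt → ZMod 2) : GolayPt → ZMod 2 :=
  fun p => w (σ.symm p)

theorem permWord_apply (σ : Equiv.Perm GolayPt) (w : GolayPt → ZMod 2) (p : GolayPt) :
    permWord σ w p = w (σ.symm p) := rfl

theorem bsupp_permWord (σ : Equiv.Perm GolayPt) (w : GolayPt → ZMod 2) :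
    bsupp (permWord σ w) = σ • bsupp w := by
  ext p
  constructor
  · intro h
    rw [mem_bsupp] at h
    rw [← Finset.inv_smul_mem_iff, mem_bsupp]
    exact h
  · intro h
    rw [← Finset.inv_smul_mem_iff, mem_bsupp] at h
    rw [mem_bsupp]
    exact h

theorem permWord_bind (σ : Equiv.Perm GolayPt) (s : Finset GolayPt) :
    permWord σ (bind s) = bind (σ • s) := by
  apply bsupp_injective
  rw [bsupp_permWord, bsupp_bind, bsupp_bind]

theorem permWord_sub (σ : Equiv.Perm GolayPt) (a b : GolayPt → ZMod 2) :
    permWord σ (a - b) = permWord σ a - permWord σ b := rfl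

theorem permWord_add (σ : Equiv.Perm GolayPt) (a b : GolayPt → ZMod 2) :
    permWord σ (a + b) = permWord σ a + permWord σ b := rfl

theorem permWord_zero (σ : Equiv.Perm GolayPt) : permWord σ 0 = 0 := rfl

theorem permWord_one_word (σ : Equiv.Perm GolayPt) : permWord σ 1 = 1 := rfl

theorem permWord_one (w : GolayPt → ZMod 2) : permWord 1 w = w := rfl

theorem permWord_mul (σ τ : Equiv.Perm GolayPt) (w : GolayPt → ZMod 2) :
    permWord (σ * τ) w = permWord σ (permWord τ w) := rfl

theorem hammingNorm_permWord (σ : Equiv.Perm GolayPt) (w : GolayPt → ZMod 2) :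
    hammingNorm (permWord σ w) = hammingNorm w := by
  rw [hammingNorm_eq_card_bsupp, bsupp_permWord, Finset.card_smul_finset,
    hammingNorm_eq_card_bsupp]

theorem permWord_eq_self_of_smul {σ : Equiv.Perm GolayPt} {w : GolayPt → ZMod 2}
    (h : σ • bsupp w = bsupp w) : permWord σ w = w := by
  apply bsupp_injective
  rw [bsupp_permWord, h]

theorem permWord_eq_self_iff {σ : Equiv.Perm GolayPt} {w : GolayPt → ZMod 2} :
    permWord σ w = w ↔ σ • bsupp w = bsupp w := by
  constructor
  · intro h
    rw [← bsupp_permWord, h]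
  · exact permWord_eq_self_of_smul

/-- `M24` preserves the code -/
theorem permWord_mem {σ : Equiv.Perm GolayPt} (hσ : σ ∈ M24) {c : GolayPt → ZMod 2}
    (hc : c ∈ golayCode) : permWord σ c ∈ golayCode := by
  have h1 : bsupp c ∈ supports (golayCode : Set (GolayPt → ZMod 2)) := by
    rw [mem_supports_golayCode_iff, bind_bsupp]
    exact hc
  have h2 := smul_mem_supports hσ h1
  rw [mem_supports_golayCode_iff, ← permWord_bind, bind_bsupp] at h2
  exact h2

theorem permWord_mem_iff {σ : Equiv.Perm GolayPt} (hσ : σ ∈ M24) {c : GolayPt → ZMod 2} :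
    permWord σ c ∈ golayCode ↔ c ∈ golayCode := by
  constructor
  · intro h
    have := permWord_mem (M24.inv_mem hσ) h
    rw [← permWord_mul, inv_mul_cancel, permWord_one] at this
    exact this
  · exact permWord_mem hσ

theorem bind_compl (s : Finset GolayPt) : bind sᶜ = 1 + bind s := by
  ext p
  simp only [bind, Finset.mem_compl, Pi.add_apply, Pi.one_apply]
  by_cases h : p ∈ s
  · simp only [h, not_true_eq_false, if_false, if_true]
    decide
  · simp only [h, not_false_eq_true, if_true, if_false, add_zero]

/-- the possible weights of code words -/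
theorem golay_weight {u : GolayPt → ZMod 2} (hu : u ∈ golayCode) :
    hammingNorm u = 0 ∨ hammingNorm u = 8 ∨ hammingNorm u = 12 ∨ hammingNorm u = 16 ∨
      hammingNorm u = 24 := by
  have hC := golayCode_isGolayLike
  have h4 := hC.doubly_even u hu
  have hle : hammingNorm u ≤ 24 := by
    rw [hammingNorm_eq_card_bsupp]
    exact (Finset.card_le_univ _).trans (le_of_eq hC.card24)
  have h8 : hammingNorm u = 0 ∨ 8 ≤ hammingNorm u := by
    by_cases h0 : u = 0
    · left; rw [h0]; exact hammingNorm_zero
    · right; exact hC.minw u hu h0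
  have h16 : hammingNorm u = 24 ∨ hammingNorm u ≤ 16 := by
    have hmem : bind (bsupp u)ᶜ ∈ golayCode := by
      rw [bind_compl, bind_bsupp]
      exact golayCode.add_mem hC.one_mem hu
    have hw : hammingNorm (bind (bsupp u)ᶜ) = 24 - hammingNorm u := by
      rw [hammingNorm_bind, Finset.card_compl, hC.card24, hammingNorm_eq_card_bsupp]
    by_cases h0 : bind (bsupp u)ᶜ = 0
    · left
      rw [h0, hammingNorm_zero] at hw
      omega
    · right
      have := hC.minw _ hmem h0
      omega
  omega

end Cfsg.Agent.Lib.Helper28
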