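import Cfsg.Agent.Lib.Helper28.PrimeGens
import Cfsg.Agent.Lib.Helper28.WordAction
import Cfsg.Agent.Lib.Helper28.AutGens

set_option autoImplicit false

/-!
Permutations of the 24 points acting through tables `Fin 24 → Fin 24`: products, powers, words,
the table of a commuting permutation, and the necessary code check for members of `Cfsg.M24`.
-/

namespace Cfsg.Agent.Lib.Helper28

open Cfsg MulAction
open scoped Pointwise

/-- `g` acts on the enumerated points through the table `t` -/
def TActs (g : Equiv.Perm GolayPt) (t : Fin 24 → Fin 24) : Prop :=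
  ∀ a, g (Helper4.pt a) = Helper4.pt (t a)

theorem TActs.mul {g h : Equiv.Perm GolayPt} {t s : Fin 24 → Fin 24} (hg : TActs g t)
    (hh : TActs h s) : TActs (g * h) (fun a => t (s a)) := fun a => by
  rw [Equiv.Perm.mul_apply, hh, hg]

theorem TActs.one : TActs 1 (fun a => a) := fun _ => rfl

theorem TActs.pow {g : Equiv.Perm GolayPt} {t : Fin 24 → Fin 24} (hg : TActs g t) (n : ℕ) :
    TActs (g ^ n) (t^[n]) := by
  induction n with
  | zero => exact fun _ => rfl
  | succ n ih =>
    intro a
    rw [pow_succ, Equiv.Perm.mul_apply, hg, ih, Function.iterate_succ_apply]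

theorem TActs.ext {g h : Equiv.Perm GolayPt} {t s : Fin 24 → Fin 24} (hg : TActs g t)
    (hh : TActs h s) (hts : ∀ a, t a = s a) : g = h := by
  apply Equiv.ext
  intro x
  obtain ⟨a, rfl⟩ := Helper4.pt_bijective.2 x
  rw [hg, hh, hts]

theorem TActs.tab_eq {g : Equiv.Perm GolayPt} {t s : Fin 24 → Fin 24} (hg : TActs g t)
    (hh : TActs g s) (a : Fin 24) : t a = s a :=
  Helper4.pt_bijective.1 ((hg a).symm.trans (hh a))

theorem TActs.inv {g : Equiv.Perm GolayPt} {t : Fin 24 → Fin 24} (hg : TActs g t)
    (s : Fin 24 → Fin 24) (hts : ∀ a, t (s a) = a) : TActs g⁻¹ s :=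
  fun a => inv_tab g t s hg hts a

theorem tActs_tabPerm (t : Fin 24 → Fin 24) (h : TabInj t) : TActs (tabPerm t h) t :=
  tabPerm_pt t h

/-- the table of a word -/
theorem tActs_evalW {n : ℕ} (x : Fin n → Equiv.Perm GolayPt) (tabs : Fin n → Fin 24 → Fin 24)
    (hx : ∀ k, TActs (x k) (tabs k)) (w : List (Fin n)) :
    TActs (evalW x w) (fun a => w.foldr (fun k y => tabs k y) a) := by
  induction w with
  | nil => exact fun _ => rfl
  | cons k w ih =>
    intro a
    unfold evalW at ih ⊢
    rw [List.map_cons, List.prod_cons, Equiv.Perm.mul_apply, ih, hx]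
    rfl

/-- the table of a permutation -/
def tabOf (g : Equiv.Perm GolayPt) : Fin 24 → Fin 24 := fun a => ptInv (g (Helper4.pt a))

theorem tActs_tabOf (g : Equiv.Perm GolayPt) : TActs g (tabOf g) := fun a =>
  (pt_ptInv _).symm

theorem tabOf_inj (g : Equiv.Perm GolayPt) : TabInj (tabOf g) := by
  intro a b hab
  have h1 : Helper4.pt (tabOf g a) = Helper4.pt (tabOf g b) := by rw [hab]
  rw [← tActs_tabOf g a, ← tActs_tabOf g b] at h1
  exact Helper4.pt_bijective.1 (g.injective h1)

/-- the table of a permutation commuting with `h` commutes with the iterates of the table of `h` -/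
theorem tab_comm_iterate {g h : Equiv.Perm GolayPt} {t T : Fin 24 → Fin 24} (hh : TActs h t)
    (hg : TActs g T) (hc : g * h = h * g) (n : ℕ) (a : Fin 24) : T (t^[n] a) = t^[n] (T a) := by
  have h1 : ∀ a, T (t a) = t (T a) := by
    intro a
    apply Helper4.pt_bijective.1
    rw [← hg, ← hh, ← Equiv.Perm.mul_apply, hc, Equiv.Perm.mul_apply, hg, hh]
  induction n generalizing a with
  | zero => rfl
  | succ n ih => rw [Function.iterate_succ_apply, ih, h1, ← Function.iterate_succ_apply]

/-- the code check for a table, necessary for membership in `M24` -/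
def HCheck (T : Fin 24 → Fin 24) : Prop :=
  ∀ (k : Fin 12) (a : Fin 24),
    (if (hm k).testBit (T a).val then (1 : ZMod 2) else 0) =
      ∑ j : Fin 12, (if (hm k).testBit (T (pv j)).val then (1 : ZMod 2) else 0) *
        (if (hm j).testBit a.val then 1 else 0)

instance (T : Fin 24 → Fin 24) : Decidable (HCheck T) := by unfold HCheck; infer_instance

theorem hCheck_of_mem {g : Equiv.Perm GolayPt} (hg : g ∈ M24) {T : Fin 24 → Fin 24}
    (hT : TActs g T) : HCheck T := by
  intro k a
  have hw : permWord g⁻¹ (hvec k) ∈ golayCode := permWord_mem (M24.inv_mem hg) (hvec_mem k)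
  rw [mem_golayCode_iff] at hw
  have h1 := congrFun hw (Helper4.pt a)
  have h2 : ∀ x, permWord g⁻¹ (hvec k) (Helper4.pt x) =
      if (hm k).testBit (T x).val then 1 else 0 := by
    intro x
    show hvec k (g (Helper4.pt x)) = _
    rw [hT, hvec_apply]
  rw [Finset.sum_apply] at h1
  simp only [Pi.smul_apply, smul_eq_mul, hvec_apply, h2] at h1
  exact h1

/-- generators of a subgroup, seen inside the subgroup, generate it -/
theorem closure_eq_top_of_subtype {P : Type*} [Group P] {H : Subgroup P} (S : Set ↥H)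
    (gens : Set P) (hgens : Subgroup.closure gens = H)
    (hS : ∀ g ∈ gens, ∃ h : g ∈ H, (⟨g, h⟩ : ↥H) ∈ S) : Subgroup.closure S = ⊤ := by
  rw [eq_top_iff]
  rintro ⟨x, hx⟩ -
  have hle : H ≤ (Subgroup.closure S).map H.subtype := by
    conv_lhs => rw [← hgens]
    rw [Subgroup.closure_le]
    intro g hg
    obtain ⟨h, hm⟩ := hS g hg
    exact ⟨⟨g, h⟩, Subgroup.subset_closure hm, rfl⟩
  obtain ⟨y, hy, hyx⟩ := hle hx
  have : y = ⟨x, hx⟩ := Subtype.ext hyx
  rw [← this]
  exact hy

theorem card_out_eq_one {G : Type*} [Group G]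
    (h : ∀ φ : MulAut G, φ ∈ (MulAut.conj : G →* MulAut G).range) :
    Nat.card (MulAut G ⧸ (MulAut.conj : G →* MulAut G).range) = 1 := by
  have h1 : (MulAut.conj : G →* MulAut G).range = ⊤ := by
    rw [eq_top_iff]
    intro φ _
    exact h φ
  exact Subgroup.index_eq_one.mpr h1

theorem factorization_eq_one_of_card {N p m : ℕ} (hp : p.Prime) (hN : N = p * m)
    (hm : ¬ p ∣ m) : N.factorization p = 1 := by
  have hm0 : m ≠ 0 := by
    rintro rfl
    exact hm (dvd_zero p)
  rw [hN, Nat.factorization_mul hp.ne_zero hm0, Finsupp.add_apply, hp.factorization_self,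
    Nat.factorization_eq_zero_of_not_dvd hm]

end Cfsg.Agent.Lib.Helper28
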