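import Cfsg.Agent.Lib.Helper28.ElemRepFacts

set_option autoImplicit false

/-!
The two types of involutions and of elements of order three of `M24`.
-/

namespace Cfsg.Agent.Lib.Helper28

open Cfsg MulAction
open scoped Pointwise

theorem fix_of_conj {k g r : Equiv.Perm GolayPt} (h : k * g * k⁻¹ = r) :
    (Finset.univ.filter fun p => g p = p) = k⁻¹ • (Finset.univ.filter fun p => r p = p) := by
  rw [← h, fix_conj, inv_smul_smul]

theorem fpf_of_conj {k g r : Equiv.Perm GolayPt} (h : k * g * k⁻¹ = r) (hr : ∀ p, r p ≠ p) :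
    ∀ p, g p ≠ p := by
  intro p hp
  apply hr (k p)
  rw [← h]
  simp [hp]

/-- an involution of `M24` is conjugate to the first representative and fixes exactly the points
of an octad, or is conjugate to the second and fixes no point -/
theorem involution_type {g : Equiv.Perm GolayPt} (hg : g ∈ M24) (h2 : orderOf g = 2) :
    (∃ k ∈ M24, k * g * k⁻¹ = rep2 0 ∧ (Finset.univ.filter fun p => g p = p) ∈ octads) ∨
      (∃ k ∈ M24, k * g * k⁻¹ = rep2 1 ∧ ∀ p, g p ≠ p) := by
  obtain ⟨k, hk, r, hr, he⟩ := involution_conj hg h2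
  interval_cases r
  · left
    refine ⟨k, hk, he, ?_⟩
    rw [fix_of_conj he]
    exact smul_mem_octads (M24.inv_mem hk) rep2_fix0
  · right
    exact ⟨k, hk, he, fpf_of_conj he rep2_fix1⟩

theorem not_fpf_of_fix_octad {g : Equiv.Perm GolayPt}
    (h : (Finset.univ.filter fun p => g p = p) ∈ octads) : ¬ ∀ p, g p ≠ p := by
  intro hc
  have h8 := octad_card h
  have : (Finset.univ.filter fun p => g p = p) = ∅ := by
    rw [Finset.filter_eq_empty_iff]
    intro p _
    exact hc p
  rw [this] at h8
  simp at h8

/-- an element of order three of `M24` is conjugate to the first representative and has six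
fixed points, or is conjugate to the second and fixes no point -/
theorem order_three_type {g : Equiv.Perm GolayPt} (hg : g ∈ M24) (h3 : orderOf g = 3) :
    (∃ k ∈ M24, k * g * k⁻¹ = rep3 0 ∧ (Finset.univ.filter fun p => g p = p).card = 6) ∨
      (∃ k ∈ M24, k * g * k⁻¹ = rep3 1 ∧ ∀ p, g p ≠ p) := by
  obtain ⟨k, hk, r, hr, he⟩ := order_three_conj hg h3
  interval_cases r
  · left
    refine ⟨k, hk, he, ?_⟩
    rw [fix_of_conj he, Finset.card_smul_finset]
    exact rep3_fix0
  · right
    exact ⟨k, hk, he, fpf_of_conj he rep3_fix1⟩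

end Cfsg.Agent.Lib.Helper28
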