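import Cfsg.Agent.Lib.Helper28.M24Order

set_option autoImplicit false

/-!
Permutations of `Cfsg.GolayPt` given by tables `Fin 24 → Fin 24`, words in a family of such
permutations evaluated through the tables, membership in `Cfsg.M24` by a decidable check, and
invariance of mask sets.
-/

namespace Cfsg.Agent.Lib.Helper28

open Cfsg MulAction
open scoped Pointwise

/-- the enumeration of the 24 points as an equivalence -/
def ptEquiv : Fin 24 ≃ GolayPt where
  toFun := Helper4.pt
  invFun := ptInv
  left_inv := ptInv_pt
  right_inv := pt_ptInv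

/-- a table is injective -/
def TabInj (t : Fin 24 → Fin 24) : Prop := ∀ a b : Fin 24, t a = t b → a = b

instance (t : Fin 24 → Fin 24) : Decidable (TabInj t) := by unfold TabInj; infer_instance

/-- the permutation of the 24 points with the given (injective) table -/
noncomputable def tabPerm (t : Fin 24 → Fin 24) (h : TabInj t) : Equiv.Perm GolayPt :=
  ptEquiv.permCongr (Equiv.ofBijective t
    ((Finite.injective_iff_bijective).mp (fun a b hab => h a b hab)))

theorem tabPerm_pt (t : Fin 24 → Fin 24) (h : TabInj t) (a : Fin 24) :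
    tabPerm t h (Helper4.pt a) = Helper4.pt (t a) := by
  unfold tabPerm
  rw [Equiv.permCongr_apply]
  show ptEquiv (Equiv.ofBijective t _ (ptEquiv.symm (Helper4.pt a))) = _
  have : ptEquiv.symm (Helper4.pt a) = a := ptInv_pt a
  rw [this]
  rfl

/-- the decidable code check of `mem_M24_of_table` -/
def TabCheck (tab : Fin 24 → Fin 24) : Prop :=
  ∀ (t : ZMod 23) (a : Fin 24),
    (if (Helper4.masks (tab a)).testBit t.val then (1 : ZMod 2) else 0) =
      ∑ j : Fin 12, (if (Helper4.masks (tab (pv j))).testBit t.val then (1 : ZMod 2) else 0) *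
        (if (hm j).testBit a.val then 1 else 0)

instance (tab : Fin 24 → Fin 24) : Decidable (TabCheck tab) := by unfold TabCheck; infer_instance

theorem tabPerm_mem_M24 (t : Fin 24 → Fin 24) (h : TabInj t) (hc : TabCheck t) :
    tabPerm t h ∈ M24 :=
  mem_M24_of_table _ t (tabPerm_pt t h) hc

/-- a permutation acting through a table that preserves a mask preserves the mask set -/
theorem smul_maskSet_of_table {g : Equiv.Perm GolayPt} (t : Fin 24 → Fin 24)
    (ht : ∀ a, g (Helper4.pt a) = Helper4.pt (t a)) (m : ℕ)
    (hm : ∀ a : Fin 24, m.testBit a.val = true → m.testBit (t a).val = true) :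
    g • maskSet m = maskSet m := by
  apply Finset.eq_of_subset_of_card_le
  · intro x hx
    rw [Finset.mem_smul_finset] at hx
    obtain ⟨y, hy, rfl⟩ := hx
    obtain ⟨a, rfl⟩ := Helper4.pt_bijective.2 y
    rw [pt_mem_maskSet] at hy
    show g (Helper4.pt a) ∈ maskSet m
    rw [ht, pt_mem_maskSet]
    exact hm a hy
  · rw [Finset.card_smul_finset]

/-! ### Words in a family of table permutations -/

section words

variable {n : ℕ} (tabs : Fin n → Fin 24 → Fin 24) (hinj : ∀ i, TabInj (tabs i))

/-- the permutation spelled by a word in the table permutations -/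
noncomputable def twordPerm (w : List (Fin n)) : Equiv.Perm GolayPt :=
  (w.map fun i => tabPerm (tabs i) (hinj i)).prod

/-- the table of a word -/
def twordTab (w : List (Fin n)) (a : Fin 24) : Fin 24 := w.foldr (fun i x => tabs i x) a

theorem twordPerm_pt (w : List (Fin n)) (a : Fin 24) :
    twordPerm tabs hinj w (Helper4.pt a) = Helper4.pt (twordTab tabs w a) := by
  induction w with
  | nil => rfl
  | cons i w ih =>
    unfold twordPerm at ih ⊢
    rw [List.map_cons, List.prod_cons, Equiv.Perm.mul_apply, ih, tabPerm_pt]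
    rfl

theorem twordPerm_mem (H : Subgroup (Equiv.Perm GolayPt))
    (hH : ∀ i, tabPerm (tabs i) (hinj i) ∈ H) (w : List (Fin n)) : twordPerm tabs hinj w ∈ H := by
  unfold twordPerm
  apply Subgroup.list_prod_mem
  intro x hx
  rw [List.mem_map] at hx
  obtain ⟨i, _, rfl⟩ := hx
  exact hH i

theorem twordPerm_append (w w' : List (Fin n)) :
    twordPerm tabs hinj (w ++ w') = twordPerm tabs hinj w * twordPerm tabs hinj w' := by
  unfold twordPerm
  rw [List.map_append, List.prod_append]

end words

/-- two permutations with the same table are equal -/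
theorem perm_ext_of_table {g h : Equiv.Perm GolayPt} (t : Fin 24 → Fin 24)
    (hg : ∀ a, g (Helper4.pt a) = Helper4.pt (t a))
    (hh : ∀ a, h (Helper4.pt a) = Helper4.pt (t a)) : g = h := by
  apply Equiv.ext
  intro x
  obtain ⟨a, rfl⟩ := Helper4.pt_bijective.2 x
  rw [hg, hh]

theorem perm_eq_one_of_table {g : Equiv.Perm GolayPt} (t : Fin 24 → Fin 24)
    (hg : ∀ a, g (Helper4.pt a) = Helper4.pt (t a)) (ht : ∀ a, t a = a) : g = 1 := by
  apply Equiv.ext
  intro x
  obtain ⟨a, rfl⟩ := Helper4.pt_bijective.2 x
  rw [hg, ht]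
  rfl

end Cfsg.Agent.Lib.Helper28
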