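import Cfsg.Agent.Lib.Helper28.Chain
import Cfsg.Agent.Lib.Helper28.TabPerm

set_option autoImplicit false

/-!
Stabilizer chains on the 24 enumerated points with basic orbits given by bit masks.
-/

namespace Cfsg.Agent.Lib.Helper28

open Cfsg MulAction
open scoped Pointwise

/-- a permutation preserving a mask set keeps the mask bit of every point -/
theorem testBit_apply_of_smul_eq {g : Equiv.Perm GolayPt} {m : ℕ} (hinv : g • maskSet m = maskSet m)
    (a : Fin 24) : m.testBit (ptInv (g (Helper4.pt a))).val = m.testBit a.val := by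
  have h1 := apply_mem_of_smul_eq hinv (Helper4.pt a)
  rw [mem_maskSet, pt_mem_maskSet] at h1
  cases h : m.testBit a.val
  · cases h' : m.testBit (ptInv (g (Helper4.pt a))).val
    · rfl
    · rw [h, h'] at h1
      exact absurd (h1.mp rfl) (by simp)
  · rw [h] at h1
    exact h1.mpr rfl

/-- upper bound for a basic orbit from invariant mask sets and fixed points -/
theorem upper_of_invariants (g : Equiv.Perm GolayPt) (ms : List ℕ)
    (hinv : ∀ m ∈ ms, g • maskSet m = maskSet m) (fixed : List (Fin 24))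
    (hfix : ∀ c ∈ fixed, g (Helper4.pt c) = Helper4.pt c) (a : Fin 24) (ha : a ∉ fixed) (om : ℕ)
    (hom : ∀ c : Fin 24, (∀ m ∈ ms, m.testBit c.val = m.testBit a.val) → c ∉ fixed →
      om.testBit c.val = true) :
    om.testBit (ptInv (g (Helper4.pt a))).val = true := by
  apply hom
  · intro m hm
    exact testBit_apply_of_smul_eq (hinv m hm) a
  · intro hc
    have h1 := hfix _ hc
    rw [pt_ptInv] at h1
    have h2 : g (Helper4.pt a) = Helper4.pt a := g.injective h1
    have h3 : ptInv (g (Helper4.pt a)) = a := by rw [h2, ptInv_pt]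
    rw [h3] at hc
    exact ha hc

/-- the order of a group from a chain with basic orbits given by masks -/
theorem card_of_maskChain (H : Subgroup (Equiv.Perm GolayPt)) {n : ℕ} (b : Fin n → Fin 24)
    (om : Fin n → ℕ) (sz : Fin n → ℕ)
    (hupper : ∀ k : Fin n, ∀ g ∈ H,
      (∀ j : Fin n, j < k → g (Helper4.pt (b j)) = Helper4.pt (b j)) →
        (om k).testBit (ptInv (g (Helper4.pt (b k)))).val = true)
    (hlower : ∀ k : Fin n, ∀ a : Fin 24, (om k).testBit a.val = true →
      ∃ g ∈ H, (∀ j : Fin n, j < k → g (Helper4.pt (b j)) = Helper4.pt (b j)) ∧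
        g (Helper4.pt (b k)) = Helper4.pt a)
    (hsz : ∀ k : Fin n,
      (Finset.univ.filter fun a : Fin 24 => (om k).testBit a.val = true).card = sz k)
    (hrigid : ∀ g ∈ H, (∀ j : Fin n, g (Helper4.pt (b j)) = Helper4.pt (b j)) → g = 1) :
    Nat.card H = ∏ k : Fin n, sz k := by
  apply card_eq_prod_of_chain H (fun j => Helper4.pt (b j)) sz _ hrigid
  intro k
  have horb : orbit (chainStab H (fun j => Helper4.pt (b j)) k.val) (Helper4.pt (b k)) =
      (fun a : Fin 24 => Helper4.pt a) '' {a : Fin 24 | (om k).testBit a.val = true} := by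
    apply orbit_chainStab H (fun j => Helper4.pt (b j)) k
    · intro g hg hfix
      exact ⟨ptInv (g (Helper4.pt (b k))), hupper k g hg hfix, pt_ptInv _⟩
    · rintro x ⟨a, ha, rfl⟩
      exact hlower k a ha
  rw [horb, Set.ncard_image_of_injective _ Helper4.pt_bijective.1, ← hsz k,
    Set.ncard_eq_toFinset_card']
  congr 1
  ext a
  simp

/-- restricted version of `exists_map_base`: the levels are transitive on the remaining points
of an invariant set `D` -/
theorem exists_map_base_on {α : Type*} (H : Subgroup (Equiv.Perm α)) (D : Set α)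
    (hD : ∀ g ∈ H, ∀ x ∈ D, g x ∈ D) (n : ℕ) (b : Fin n → α)
    (hlevel : ∀ k : Fin n, ∀ p ∈ D, (∀ j : Fin n, j < k → p ≠ b j) →
      ∃ h ∈ H, (∀ j : Fin n, j < k → h (b j) = b j) ∧ h (b k) = p)
    (x : Fin n ↪ α) (hx : ∀ i, x i ∈ D) : ∃ g ∈ H, ∀ i, g (b i) = x i := by
  have key : ∀ m : ℕ, m ≤ n → ∃ g ∈ H, ∀ i : Fin n, i.val < m → g (b i) = x i := by
    intro m
    induction m with
    | zero => intro _; exact ⟨1, H.one_mem, fun i hi => absurd hi (Nat.not_lt_zero _)⟩
    | succ m ih =>
      intro hm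
      obtain ⟨g, hg, hgx⟩ := ih (Nat.le_of_succ_le hm)
      let k : Fin n := ⟨m, hm⟩
      have hp : ∀ j : Fin n, j < k → g⁻¹ (x k) ≠ b j := by
        intro j hj hcon
        have h1 : g (b j) = x j := hgx j hj
        rw [← hcon] at h1
        simp at h1
        rw [h1] at hj
        exact lt_irrefl _ hj
      obtain ⟨h, hh, hfix, hmap⟩ := hlevel k (g⁻¹ (x k)) (hD _ (H.inv_mem hg) _ (hx k)) hp
      refine ⟨g * h, H.mul_mem hg hh, fun i hi => ?_⟩
      rw [Equiv.Perm.mul_apply]
      rcases Nat.lt_succ_iff_lt_or_eq.mp hi with hlt | heq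
      · rw [hfix i hlt, hgx i hlt]
      · have hik : i = k := Fin.ext heq
        rw [hik, hmap]
        simp
  obtain ⟨g, hg, hgx⟩ := key n le_rfl
  exact ⟨g, hg, fun i => hgx i i.2⟩

/-- the stabilizer of `x` in a subgroup `K`, as a subgroup of `K`, has the order of
`K ⊓ stabilizer G x` -/
theorem card_stabilizer_subgroup {G X : Type*} [Group G] [MulAction G X] (K : Subgroup G) (x : X) :
    Nat.card (stabilizer K x) = Nat.card ↥(K ⊓ stabilizer G x) := by
  apply Nat.card_congr
  refine ⟨fun g => ⟨g.1.1, ⟨g.1.2, ?_⟩⟩, fun g => ⟨⟨g.1, g.2.1⟩, ?_⟩, fun g => rfl, fun g => rfl⟩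
  · exact g.2
  · exact g.2.2

end Cfsg.Agent.Lib.Helper28
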