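import Cfsg.Agent.Lib.Helper28.OctadPair
import Cfsg.Prelude.Def_SporadicCombinatorics

set_option autoImplicit false

/-!
Trios of the length-24 code: the complement of two disjoint octads is an octad, there are 3795
trios, and `Cfsg.M24` permutes them transitively.
-/

namespace Cfsg.Agent.Lib.Helper28

open Cfsg MulAction
open scoped Pointwise

open Cfsg.Agent.Lib.Helper3.Steiner

/-- the complement of two disjoint octads is an octad -/
theorem compl_union_mem_octads {o o' : Finset GolayPt} (ho : o ∈ octads) (ho' : o' ∈ octads)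
    (hd : Disjoint o o') : (o ∪ o')ᶜ ∈ octads := by
  rw [mem_octads_iff, Finset.compl_eq_univ_sdiff]
  exact golayCode_isGolayLike.compl_union_octad ((mem_octads_iff o).mp ho)
    ((mem_octads_iff o').mp ho') hd

theorem octad_ne_of_disjoint {o o' : Finset GolayPt} (ho : o ∈ octads) (hd : Disjoint o o') :
    o ≠ o' := by
  rintro rfl
  rw [Finset.disjoint_self_iff_empty] at hd
  have := octad_card ho
  rw [hd] at this
  simp at this

/-- the trio determined by two disjoint octads -/
def trioOf (o o' : Finset GolayPt) : Finset (Finset GolayPt) := {o, o', (o ∪ o')ᶜ}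

theorem trioOf_mem_trios {o o' : Finset GolayPt} (ho : o ∈ octads) (ho' : o' ∈ octads)
    (hd : Disjoint o o') : trioOf o o' ∈ trios := by
  have h3 := compl_union_mem_octads ho ho' hd
  have d1 : Disjoint o (o ∪ o')ᶜ := by
    rw [Finset.disjoint_left]
    intro x hx hx'
    rw [Finset.mem_compl] at hx'
    exact hx' (Finset.mem_union_left _ hx)
  have d2 : Disjoint o' (o ∪ o')ᶜ := by
    rw [Finset.disjoint_left]
    intro x hx hx'
    rw [Finset.mem_compl] at hx'
    exact hx' (Finset.mem_union_right _ hx)
  have n1 := octad_ne_of_disjoint ho hd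
  have n2 := octad_ne_of_disjoint ho d1
  have n3 := octad_ne_of_disjoint ho' d2
  refine ⟨?_, ?_, ?_⟩
  · unfold trioOf
    rw [Finset.card_insert_of_notMem, Finset.card_insert_of_notMem, Finset.card_singleton]
    · simpa using n3
    · simp only [Finset.mem_insert, Finset.mem_singleton, not_or]
      exact ⟨n1, n2⟩
  · intro c hc
    unfold trioOf at hc
    simp only [Finset.mem_insert, Finset.mem_singleton] at hc
    rcases hc with rfl | rfl | rfl
    · exact ho
    · exact ho'
    · exact h3
  · intro c hc c' hc' hne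
    unfold trioOf at hc hc'
    simp only [Finset.mem_insert, Finset.mem_singleton] at hc hc'
    rcases hc with rfl | rfl | rfl <;> rcases hc' with rfl | rfl | rfl
    · exact absurd rfl hne
    · exact hd
    · exact d1
    · exact hd.symm
    · exact absurd rfl hne
    · exact d2
    · exact d1.symm
    · exact d2.symm
    · exact absurd rfl hne

/-- a trio containing two given distinct octads is the trio they determine -/
theorem eq_trioOf {T : Finset (Finset GolayPt)} (hT : T ∈ trios) {o o' : Finset GolayPt}
    (ho : o ∈ T) (ho' : o' ∈ T) (hne : o ≠ o') : T = trioOf o o' := by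
  obtain ⟨h3, hoct, hdis⟩ := hT
  obtain ⟨a, b, c, hab, hac, hbc, rfl⟩ := Finset.card_eq_three.mp h3
  have key : ∀ x y z : Finset GolayPt, x ∈ octads → y ∈ octads → z ∈ octads → Disjoint x y →
      Disjoint x z → Disjoint y z → z = (x ∪ y)ᶜ := by
    intro x y z hx hy hz dxy dxz dyz
    apply Finset.eq_of_subset_of_card_le
    · intro p hp
      rw [Finset.mem_compl, Finset.mem_union, not_or]
      exact ⟨fun h => Finset.disjoint_left.mp dxz h hp, fun h => Finset.disjoint_left.mp dyz h hp⟩
    · rw [octad_card (compl_union_mem_octads hx hy dxy), octad_card hz]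
  have ha := hoct a (by simp)
  have hb := hoct b (by simp)
  have hc := hoct c (by simp)
  have dab := hdis a (by simp) b (by simp) hab
  have dac := hdis a (by simp) c (by simp) hac
  have dbc := hdis b (by simp) c (by simp) hbc
  simp only [Finset.mem_insert, Finset.mem_singleton] at ho ho'
  unfold trioOf
  rcases ho with rfl | rfl | rfl <;> rcases ho' with rfl | rfl | rfl
  · exact absurd rfl hne
  · rw [← key _ _ _ ha hb hc dab dac dbc]
  · rw [← key _ _ _ ha hc hb dac dab dbc.symm]
    ext x; simp only [Finset.mem_insert, Finset.mem_singleton]; tauto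
  · rw [← key _ _ _ hb ha hc dab.symm dbc dac]
    ext x; simp only [Finset.mem_insert, Finset.mem_singleton]; tauto
  · exact absurd rfl hne
  · rw [← key _ _ _ hb hc ha dbc dab.symm dac.symm]
    ext x; simp only [Finset.mem_insert, Finset.mem_singleton]; tauto
  · rw [← key _ _ _ hc ha hb dac.symm dbc.symm dab]
    ext x; simp only [Finset.mem_insert, Finset.mem_singleton]; tauto
  · rw [← key _ _ _ hc hb ha dbc.symm dac.symm dab.symm]
    ext x; simp only [Finset.mem_insert, Finset.mem_singleton]; tauto
  · exact absurd rfl hne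

/-- the ordered pairs of disjoint octads -/
noncomputable def disjointOctadPairs : Finset (Finset GolayPt × Finset GolayPt) :=
  (blocksF octads).biUnion (fun o => ((blocksF octads).filter (Disjoint o)).image (Prod.mk o))

theorem mem_disjointOctadPairs {p : Finset GolayPt × Finset GolayPt} :
    p ∈ disjointOctadPairs ↔ p.1 ∈ octads ∧ p.2 ∈ octads ∧ Disjoint p.1 p.2 := by
  unfold disjointOctadPairs
  simp only [Finset.mem_biUnion, Finset.mem_image, Finset.mem_filter, mem_blocksF]
  constructor
  · rintro ⟨o, ho, o', ⟨ho', hd⟩, rfl⟩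
    exact ⟨ho, ho', hd⟩
  · rintro ⟨h1, h2, h3⟩
    exact ⟨p.1, h1, p.2, ⟨h2, h3⟩, rfl⟩

theorem card_disjointOctadPairs : disjointOctadPairs.card = 22770 := by
  classical
  unfold disjointOctadPairs
  rw [Finset.card_biUnion]
  · have : ∀ o ∈ blocksF octads,
        (((blocksF octads).filter (Disjoint o)).image (Prod.mk o)).card = 30 := by
      intro o ho
      rw [mem_blocksF] at ho
      rw [Finset.card_image_of_injective _ (Prod.mk_right_injective o)]
      have h30 := card_disjoint_5824 fintype_card_golayPt octads_isSteinerSystem ho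
      have hset : {c : Finset GolayPt | c ∈ octads ∧ Disjoint o c} =
          (((blocksF octads).filter (Disjoint o) : Finset (Finset GolayPt)) :
            Set (Finset GolayPt)) := by
        ext c; simp [mem_blocksF]
      rw [hset, Set.ncard_coe_finset] at h30
      exact h30
    rw [Finset.sum_congr rfl this, Finset.sum_const, card_blocksF, Cfsg.Agent.S0360.result]
    rfl
  · intro o _ o' _ hne
    show Disjoint (((blocksF octads).filter (Disjoint o)).image (Prod.mk o))
      (((blocksF octads).filter (Disjoint o')).image (Prod.mk o'))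
    rw [Finset.disjoint_left]
    intro p hp hp'
    rw [Finset.mem_image] at hp hp'
    obtain ⟨_, _, rfl⟩ := hp
    obtain ⟨_, _, h⟩ := hp'
    exact hne (congrArg Prod.fst h).symm

/-- the trios as a finite set -/
noncomputable def triosF : Finset (Finset (Finset GolayPt)) :=
  (Set.toFinite trios).toFinset

theorem mem_triosF {T : Finset (Finset GolayPt)} : T ∈ triosF ↔ T ∈ trios := by
  unfold triosF
  rw [Set.Finite.mem_toFinset]

theorem ncard_trios : trios.ncard = 3795 := by
  classical
  have h1 : disjointOctadPairs = triosF.biUnion (fun T => T.offDiag) := by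
    ext p
    rw [mem_disjointOctadPairs, Finset.mem_biUnion]
    constructor
    · rintro ⟨h1, h2, hd⟩
      refine ⟨trioOf p.1 p.2, mem_triosF.mpr (trioOf_mem_trios h1 h2 hd), ?_⟩
      rw [Finset.mem_offDiag]
      unfold trioOf
      exact ⟨by simp, by simp, octad_ne_of_disjoint h1 hd⟩
    · rintro ⟨T, hT, hp⟩
      rw [mem_triosF] at hT
      rw [Finset.mem_offDiag] at hp
      exact ⟨hT.2.1 _ hp.1, hT.2.1 _ hp.2.1, hT.2.2 _ hp.1 _ hp.2.1 hp.2.2⟩
  have h2 : (triosF.biUnion (fun T => T.offDiag)).card = ∑ T ∈ triosF, 6 := by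
    rw [Finset.card_biUnion]
    · apply Finset.sum_congr rfl
      intro T hT
      rw [mem_triosF] at hT
      rw [Finset.offDiag_card, hT.1]
    · intro T hT T' hT' hne
      rw [Finset.mem_coe, mem_triosF] at hT hT'
      show Disjoint T.offDiag T'.offDiag
      rw [Finset.disjoint_left]
      intro p hp hp'
      rw [Finset.mem_offDiag] at hp hp'
      apply hne
      rw [eq_trioOf hT hp.1 hp.2.1 hp.2.2, eq_trioOf hT' hp'.1 hp'.2.1 hp'.2.2]
  rw [← h1, card_disjointOctadPairs, Finset.sum_const, smul_eq_mul] at h2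
  have h3 : trios.ncard = triosF.card := by
    unfold triosF
    rw [Set.ncard_eq_toFinset_card _ (Set.toFinite trios)]
  rw [h3]
  omega

/-- `M24` acts on trios -/
theorem smul_mem_trios {g : Equiv.Perm GolayPt} (hg : g ∈ M24) {T : Finset (Finset GolayPt)}
    (hT : T ∈ trios) : g • T ∈ trios := by
  obtain ⟨h3, hoct, hdis⟩ := hT
  refine ⟨by rw [Finset.card_smul_finset, h3], ?_, ?_⟩
  · intro c hc
    rw [Finset.mem_smul_finset] at hc
    obtain ⟨c0, hc0, rfl⟩ := hc
    exact smul_mem_octads hg (hoct c0 hc0)
  · intro c hc c' hc' hne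
    rw [Finset.mem_smul_finset] at hc hc'
    obtain ⟨c0, hc0, rfl⟩ := hc
    obtain ⟨c1, hc1, rfl⟩ := hc'
    have hne' : c0 ≠ c1 := fun h => hne (by rw [h])
    have := hdis c0 hc0 c1 hc1 hne'
    rw [Finset.disjoint_iff_inter_eq_empty] at this ⊢
    rw [← Finset.smul_finset_inter, this, Finset.smul_finset_empty]

theorem smul_trioOf (g : Equiv.Perm GolayPt) (o o' : Finset GolayPt) :
    g • trioOf o o' = trioOf (g • o) (g • o') := by
  unfold trioOf
  rw [Finset.smul_finset_insert, Finset.smul_finset_insert, Finset.smul_finset_singleton]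
  congr 3
  ext x
  simp only [Finset.mem_smul_finset, Finset.mem_compl, Finset.mem_union, smul_eq_iff_eq_inv_smul]
  constructor
  · rintro ⟨y, hy, rfl⟩
    simpa using hy
  · intro hx
    refine ⟨g⁻¹ • x, ?_, by simp⟩
    simpa using hx

/-- `M24` is transitive on trios -/
theorem M24_trio_transitive {T T' : Finset (Finset GolayPt)} (hT : T ∈ trios) (hT' : T' ∈ trios) :
    ∃ g ∈ M24, g • T = T' := by
  have hex : ∀ T : Finset (Finset GolayPt), T ∈ trios → ∃ o o', o ∈ octads ∧ o' ∈ octads ∧
      Disjoint o o' ∧ T = trioOf o o' := by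
    intro T hT
    obtain ⟨a, b, c, hab, hac, hbc, hTe⟩ := Finset.card_eq_three.mp hT.1
    have ha : a ∈ T := by rw [hTe]; simp
    have hb : b ∈ T := by rw [hTe]; simp
    exact ⟨a, b, hT.2.1 a ha, hT.2.1 b hb, hT.2.2 a ha b hb hab, eq_trioOf hT ha hb hab⟩
  obtain ⟨a, b, ha, hb, hd, rfl⟩ := hex T hT
  obtain ⟨a', b', ha', hb', hd', rfl⟩ := hex T' hT'
  have h0 : ∀ x y : Finset GolayPt, Disjoint x y → (x ∩ y).card = 0 := by
    intro x y h
    rw [Finset.card_eq_zero, ← Finset.disjoint_iff_inter_eq_empty]; exact h
  obtain ⟨g, hg, h1, h2⟩ := octad_pair_transitive ha hb ha' hb' (by rw [h0 _ _ hd, h0 _ _ hd'])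
  exact ⟨g, hg, by rw [smul_trioOf, h1, h2]⟩

end Cfsg.Agent.Lib.Helper28
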