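import Cfsg.Agent.Lib.Helper28.Sextets
import Cfsg.Agent.Lib.Helper28.Trios

set_option autoImplicit false

/-!
Orders of the stabilizers in `Cfsg.M24` of a sextet and of a trio.
-/

namespace Cfsg.Agent.Lib.Helper28

open Cfsg MulAction
open scoped Pointwise

theorem orbit_sextet {S : Finset (Finset GolayPt)} (hS : S ∈ sextets) :
    orbit M24 S = sextets := by
  ext c
  constructor
  · rintro ⟨g, rfl⟩
    exact smul_mem_sextets g.2 hS
  · intro hc
    obtain ⟨g, hg, hgo⟩ := M24_sextet_transitive hS hc
    exact ⟨⟨g, hg⟩, hgo⟩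

theorem card_stabilizer_sextet {S : Finset (Finset GolayPt)} (hS : S ∈ sextets) :
    Nat.card (stabilizer M24 S) = 138240 := by
  have h1 : Nat.card (stabilizer M24 S) * (stabilizer M24 S).index = Nat.card M24 :=
    Subgroup.card_mul_index _
  rw [MulAction.index_stabilizer, orbit_sextet hS, ncard_sextets, card_M24] at h1
  have h2 : (244823040 : ℕ) = 138240 * 1771 := by norm_num
  rw [h2] at h1
  exact Nat.eq_of_mul_eq_mul_right (by norm_num) h1

theorem orbit_trio {T : Finset (Finset GolayPt)} (hT : T ∈ trios) :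
    orbit M24 T = trios := by
  ext c
  constructor
  · rintro ⟨g, rfl⟩
    exact smul_mem_trios g.2 hT
  · intro hc
    obtain ⟨g, hg, hgo⟩ := M24_trio_transitive hT hc
    exact ⟨⟨g, hg⟩, hgo⟩

theorem card_stabilizer_trio {T : Finset (Finset GolayPt)} (hT : T ∈ trios) :
    Nat.card (stabilizer M24 T) = 64512 := by
  have h1 : Nat.card (stabilizer M24 T) * (stabilizer M24 T).index = Nat.card M24 :=
    Subgroup.card_mul_index _
  rw [MulAction.index_stabilizer, orbit_trio hT, ncard_trios, card_M24] at h1
  have h2 : (244823040 : ℕ) = 64512 * 3795 := by norm_num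
  rw [h2] at h1
  exact Nat.eq_of_mul_eq_mul_right (by norm_num) h1

end Cfsg.Agent.Lib.Helper28
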