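import Cfsg.Agent.Lib.Helper28.Data5607
import Cfsg.Agent.Lib.Helper28.InvolTypes
import Cfsg.Agent.Lib.Helper28.StabCards
import Cfsg.Agent.Lib.Helper28.MaskChain

set_option autoImplicit false

/-!
The centralizer in `M24` of a fixed-point-free involution: order 7680, transitive on the points,
contained in the stabilizer of a sextet.
-/

namespace Cfsg.Agent.Lib.Helper28

open Cfsg MulAction
open scoped Pointwise

/-- the centralizer of `t` in `M24` -/
def centM24 (t : Equiv.Perm GolayPt) : Subgroup (Equiv.Perm GolayPt) where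
  carrier := {c | c ∈ M24 ∧ c * t = t * c}
  mul_mem' := by
    rintro a b ⟨ha, hat⟩ ⟨hb, hbt⟩
    refine ⟨M24.mul_mem ha hb, ?_⟩
    rw [mul_assoc, hbt, ← mul_assoc, hat, mul_assoc]
  one_mem' := ⟨M24.one_mem, by rw [one_mul, mul_one]⟩
  inv_mem' := by
    rintro a ⟨ha, hat⟩
    refine ⟨M24.inv_mem ha, ?_⟩
    have h : t = a⁻¹ * t * a := by
      rw [mul_assoc, ← hat, ← mul_assoc, inv_mul_cancel, one_mul]
    calc a⁻¹ * t = a⁻¹ * t * a * a⁻¹ := by group
      _ = t * a⁻¹ := by rw [← h]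

theorem mem_centM24 {t c : Equiv.Perm GolayPt} : c ∈ centM24 t ↔ c ∈ M24 ∧ c * t = t * c :=
  Iff.rfl

theorem conj_mem_centM24 {k t t' : Equiv.Perm GolayPt} (hk : k ∈ M24) (h : k * t * k⁻¹ = t')
    {c : Equiv.Perm GolayPt} (hc : c ∈ centM24 t) : k * c * k⁻¹ ∈ centM24 t' := by
  obtain ⟨hc1, hc2⟩ := hc
  refine ⟨M24.mul_mem (M24.mul_mem hk hc1) (M24.inv_mem hk), ?_⟩
  rw [← h]
  calc k * c * k⁻¹ * (k * t * k⁻¹) = k * (c * t) * k⁻¹ := by group
    _ = k * (t * c) * k⁻¹ := by rw [hc2]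
    _ = k * t * k⁻¹ * (k * c * k⁻¹) := by group

theorem c2b_inv_apply (f : Equiv.Perm GolayPt) (x : GolayPt) : f⁻¹ (f x) = x :=
  f.symm_apply_apply x

theorem c2b_apply_inv (f : Equiv.Perm GolayPt) (x : GolayPt) : f (f⁻¹ x) = x :=
  f.apply_symm_apply x

/-! ### an orbit bound -/

/-- if `C ≤ H` fixes `y` and the `H`-orbit of `y` contains the duplicate-free list `ys`, then
`|C| * |ys| ≤ |H|` -/
theorem card_mul_le_of_orbit {Y : Type*} [MulAction (Equiv.Perm GolayPt) Y]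
    (H C : Subgroup (Equiv.Perm GolayPt)) (y : Y) (hCH : C ≤ H) (hfix : ∀ c ∈ C, c • y = y)
    (ys : List Y) (hnd : ys.Nodup) (horb : ∀ z ∈ ys, ∃ g ∈ H, g • y = z) :
    Nat.card C * ys.length ≤ Nat.card H := by
  classical
  have h1 : Nat.card (stabilizer H y) * (stabilizer H y).index = Nat.card H :=
    Subgroup.card_mul_index _
  rw [MulAction.index_stabilizer] at h1
  have hfin : (orbit H y).Finite := Set.finite_range _
  have h2 : ys.length ≤ (orbit H y).ncard := by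
    rw [← List.toFinset_card_of_nodup hnd, ← Set.ncard_coe_finset]
    apply Set.ncard_le_ncard _ hfin
    intro z hz
    rw [Finset.mem_coe, List.mem_toFinset] at hz
    obtain ⟨g, hg, rfl⟩ := horb z hz
    exact ⟨⟨g, hg⟩, rfl⟩
  have h3 : Nat.card C ≤ Nat.card (stabilizer H y) := by
    apply Nat.card_le_card_of_injective (fun c : C => (⟨⟨c.1, hCH c.2⟩, by
      rw [mem_stabilizer_iff]; exact hfix c.1 c.2⟩ : stabilizer H y))
    intro a b hab
    have := congrArg (fun x : stabilizer H y => (x.1.1 : Equiv.Perm GolayPt)) hab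
    exact Subtype.ext this
  calc Nat.card C * ys.length ≤ Nat.card (stabilizer H y) * (orbit H y).ncard :=
        Nat.mul_le_mul h3 h2
    _ = Nat.card H := h1

/-! ### enumeration from an upper bound -/

theorem elems_of_cert_le (M : ℕ) (H : Subgroup (Equiv.Perm GolayPt)) (tabs : List ℕ)
    (hgens : ∀ t ∈ tabs, ∃ g ∈ H, ActsBy g t) (cert : List (List ℕ)) (n : ℕ)
    (hcard : Nat.card H ≤ n)
    (hcheck : distinctAux (((elemModel M).nodes tabs idList cert).map (elemModel M).code) 0 = true)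
    (hlen : ((elemModel M).nodes tabs idList cert).length = n) :
    Nat.card H = n ∧
      ∀ g ∈ H, ∃ l ∈ (elemModel M).nodes tabs idList cert, GoodPerm l ∧ g = permOfList l := by
  classical
  have hs := (elemModel M).nodes_sound H tabs hgens idList goodPerm_idList cert
  have hgood : ∀ x ∈ (elemModel M).nodes tabs idList cert, GoodPerm x := fun x hx => (hs x hx).1
  have hnd : (((elemModel M).nodes tabs idList cert).map permOfList).Nodup :=
    (elemModel M).sem_nodup _ hgood hcheck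
  have hmemH : ∀ x ∈ (elemModel M).nodes tabs idList cert, permOfList x ∈ H := by
    intro x hx
    obtain ⟨_, g, hg, hgx⟩ := hs x hx
    have h1 : g * permOfList idList = permOfList x := hgx
    rw [permOfList_idList, mul_one] at h1
    rw [← h1]; exact hg
  have hsub : ((((elemModel M).nodes tabs idList cert).map permOfList).toFinset :
      Set (Equiv.Perm GolayPt)) ⊆ (H : Set _) := by
    intro y hy
    rw [Finset.mem_coe, List.mem_toFinset, List.mem_map] at hy
    obtain ⟨x, hx, rfl⟩ := hy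
    exact hmemH x hx
  have hle : n ≤ Nat.card H := by
    have h1 := Set.ncard_le_ncard hsub (Set.toFinite _)
    rw [Set.ncard_coe_finset, List.toFinset_card_of_nodup hnd, List.length_map, hlen] at h1
    exact le_trans h1 (le_of_eq (Nat.card_coe_set_eq _).symm)
  have heq : Nat.card H = n := le_antisymm hcard hle
  exact ⟨heq, elems_of_cert M H tabs hgens cert n heq hcheck hlen⟩

/-! ### the duads of an involution -/

/-- the pairs `{p, t p}` -/
def duadFam (t : Equiv.Perm GolayPt) : Finset (Finset GolayPt) :=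
  Finset.univ.image fun p => ({p, t p} : Finset GolayPt)

theorem mem_duadFam {t : Equiv.Perm GolayPt} {s : Finset GolayPt} :
    s ∈ duadFam t ↔ ∃ p, ({p, t p} : Finset GolayPt) = s := by
  unfold duadFam
  rw [Finset.mem_image]
  constructor
  · rintro ⟨p, _, hp⟩
    exact ⟨p, hp⟩
  · rintro ⟨p, hp⟩
    exact ⟨p, Finset.mem_univ _, hp⟩

theorem smul_pair (g : Equiv.Perm GolayPt) (a b : GolayPt) :
    g • ({a, b} : Finset GolayPt) = {g a, g b} := by
  rw [Finset.smul_finset_insert, Finset.smul_finset_singleton]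
  rfl

theorem smul_duadFam (g t : Equiv.Perm GolayPt) : g • duadFam t = duadFam (g * t * g⁻¹) := by
  ext s
  rw [Finset.mem_smul_finset, mem_duadFam]
  constructor
  · rintro ⟨s', hs', rfl⟩
    obtain ⟨p, rfl⟩ := mem_duadFam.mp hs'
    refine ⟨g p, ?_⟩
    rw [smul_pair, Equiv.Perm.mul_apply, Equiv.Perm.mul_apply, c2b_inv_apply]
  · rintro ⟨q, rfl⟩
    refine ⟨{g⁻¹ q, t (g⁻¹ q)}, mem_duadFam.mpr ⟨g⁻¹ q, rfl⟩, ?_⟩
    rw [smul_pair, c2b_apply_inv, Equiv.Perm.mul_apply, Equiv.Perm.mul_apply]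

theorem ptSet_pair (a b : ℕ) : ptSet [a, b] = {ptN a, ptN b} := by
  simp [ptSet]

theorem duadFam_rep2 : duadFam (rep2 1) = famSet c2b_D0 := by
  have hl : GoodPerm (el_rep2.getD 1 idList) := (rep2_listM24 1).1
  have hrep : rep2 1 = permOfList (el_rep2.getD 1 idList) := rfl
  ext s
  rw [mem_duadFam, mem_famSet]
  constructor
  · rintro ⟨p, rfl⟩
    obtain ⟨a, ha, rfl⟩ : ∃ a, a < 24 ∧ ptN a = p := ⟨(ptInv p).val, (ptInv p).2, ptN_ptInv p⟩
    obtain ⟨l, hl', he⟩ := c2b_D0_check.2.2.2 a (List.mem_range.mpr ha)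
    refine ⟨l, hl', ?_⟩
    rw [ptSet_eq_of_setEqB he, ptSet_pair, hrep, permOfList_ptN hl ha]
  · rintro ⟨l, hl', rfl⟩
    obtain ⟨a, ha, rfl⟩ := c2b_D0_check.2.2.1 l hl'
    refine ⟨ptN a, ?_⟩
    rw [ptSet_pair, hrep, permOfList_ptN hl (List.mem_range.mp ha)]

theorem cent_smul_D0 : ∀ c ∈ centM24 (rep2 1), c • famSet c2b_D0 = famSet c2b_D0 := by
  intro c hc
  rw [← duadFam_rep2, smul_duadFam]
  congr 1
  rw [hc.2, mul_assoc, mul_inv_cancel, mul_one]

/-! ### the sextet -/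

set_option maxRecDepth 1000000 in
set_option maxHeartbeats 4000000 in
theorem c2b_sextet_unique_check : ∀ x ∈ allsext_nodes,
    x.all (fun l => setEqB (stepSet (el_rep2_tabs.getD 1 0) l) l) = true →
      famEqB x c2b_S0 = true := by
  decide +kernel

theorem c2b_sextet_unique {S : Finset (Finset GolayPt)} (hS : S ∈ sextets)
    (h : ∀ T ∈ S, rep2 1 • T = T) : S = famSet c2b_S0 := by
  have hact : ActsBy (rep2 1) (el_rep2_tabs.getD 1 0) := rep2_acts 1
  obtain ⟨x, hx, rfl⟩ := (allsext_enum.2.2 S).mp hS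
  have hgood : GoodFam x := allsext_enum.1 x hx
  have hall : x.all (fun l => setEqB (stepSet (el_rep2_tabs.getD 1 0) l) l) = true := by
    rw [List.all_eq_true]
    intro l hl
    have hgl : GoodSet l := hgood.1 l hl
    obtain ⟨h1, h2⟩ := smul_ptSet hact hgl
    have h3 : rep2 1 • ptSet l = ptSet l := h _ (mem_famSet.mpr ⟨l, hl, rfl⟩)
    rw [h1] at h3
    exact (setEqB_iff h2 hgl).mpr h3
  have := c2b_sextet_unique_check x hx hall
  exact (famEqB_iff hgood c2b_htabs_check.1.goodFam).mp this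

theorem rep2_smul_tetrad : ∀ T ∈ famSet c2b_S0, rep2 1 • T = T := by
  intro T hT
  have hact : ActsBy (rep2 1) (el_rep2_tabs.getD 1 0) := rep2_acts 1
  obtain ⟨l, hl, rfl⟩ := mem_famSet.mp hT
  have hgood : GoodSet l := (c2b_htabs_check.1.2.1 l hl).1
  rw [(smul_ptSet hact hgood).1]
  exact ptSet_eq_of_setEqB (c2b_htabs_check.2.2 l hl)

theorem cent_smul_S0 : ∀ c ∈ centM24 (rep2 1), c • famSet c2b_S0 = famSet c2b_S0 := by
  intro c hc
  obtain ⟨hc1, hc2⟩ := hc
  have hS0 : famSet c2b_S0 ∈ sextets := c2b_htabs_check.1.mem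
  apply c2b_sextet_unique (smul_mem_sextets hc1 hS0)
  intro T hT
  obtain ⟨T', hT', rfl⟩ := Finset.mem_smul_finset.mp hT
  rw [← mul_smul, ← hc2, mul_smul, rep2_smul_tetrad T' hT']

theorem rep2_smul_S0 : rep2 1 • famSet c2b_S0 = famSet c2b_S0 :=
  cent_smul_S0 _ ⟨rep2_mem 1, rfl⟩

/-! ### the order -/

theorem card_cent_rep2_le : Nat.card (centM24 (rep2 1)) ≤ 7680 := by
  have hS0 : famSet c2b_S0 ∈ sextets := c2b_htabs_check.1.mem
  have hHcard : Nat.card ↥(M24 ⊓ stabilizer (Equiv.Perm GolayPt) (famSet c2b_S0)) = 138240 := by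
    rw [← card_stabilizer_subgroup, card_stabilizer_sextet hS0]
  have hgens : ∀ t ∈ c2b_htabs,
      ∃ g ∈ M24 ⊓ stabilizer (Equiv.Perm GolayPt) (famSet c2b_S0), ActsBy g t :=
    gens_stab_fam c2b_htabs c2b_S0 c2b_htabs_check.1.goodFam c2b_htabs_check.2.1
  have hD0 : GoodFam c2b_D0 := goodFam_of_disjoint c2b_D0_check.1 c2b_D0_check.2.1
  have hs := c2b_omodel.nodes_sound _ c2b_htabs hgens c2b_D0 hD0 c2b_ocert
  have hnd : ((c2b_omodel.nodes c2b_htabs c2b_D0 c2b_ocert).map famSet).Nodup :=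
    c2b_omodel.sem_nodup _ (fun x hx => (hs x hx).1) c2b_ocheck.1
  have hCH : centM24 (rep2 1) ≤ M24 ⊓ stabilizer (Equiv.Perm GolayPt) (famSet c2b_S0) :=
    fun c hc => Subgroup.mem_inf.mpr ⟨hc.1, mem_stabilizer_iff.mpr (cent_smul_S0 c hc)⟩
  have key := card_mul_le_of_orbit _ (centM24 (rep2 1)) (famSet c2b_D0) hCH cent_smul_D0 _ hnd (by
    intro z hz
    obtain ⟨x, hx, rfl⟩ := List.mem_map.mp hz
    exact (hs x hx).2)
  rw [List.length_map, c2b_ocheck.2, hHcard] at key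
  omega

theorem exists_cent_of_tab {t : ℕ} (h : TabM24 t) (hc : CommTab t) :
    ∃ g ∈ centM24 (rep2 1), ActsBy g t := by
  obtain ⟨g, hg, hact⟩ := h.exists
  refine ⟨g, ⟨hg, ?_⟩, hact⟩
  have hl : GoodPerm (el_rep2.getD 1 idList) := (rep2_listM24 1).1
  have hrep : rep2 1 = permOfList (el_rep2.getD 1 idList) := rfl
  refine Equiv.ext fun x => ?_
  obtain ⟨a, ha, rfl⟩ : ∃ a, a < 24 ∧ ptN a = x := ⟨(ptInv x).val, (ptInv x).2, ptN_ptInv x⟩
  rw [Equiv.Perm.mul_apply, Equiv.Perm.mul_apply, hrep, permOfList_ptN hl ha,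
    (hact _ (getD_lt hl ha)).2, (hact a ha).2, permOfList_ptN hl (hact a ha).1]
  congr 1
  exact hc ⟨a, ha⟩

theorem c2b_hgens : ∀ t ∈ c2b_tabs, ∃ g ∈ centM24 (rep2 1), ActsBy g t := fun t ht =>
  exists_cent_of_tab (c2b_tabs_check t ht).1 (c2b_tabs_check t ht).2

theorem card_cent_rep2 : Nat.card (centM24 (rep2 1)) = 7680 :=
  (elems_of_cert_le _ _ c2b_tabs c2b_hgens c2b_cert 7680 card_cent_rep2_le c2b_check c2b_len).1

/-! ### transitivity -/

theorem cent_rep2_trans0 (q : GolayPt) : ∃ c ∈ centM24 (rep2 1), c (ptN 0) = q := by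
  have ha : (ptInv q).val < 24 := (ptInv q).2
  have h1 : (ptInv q).val ∈ List.range 24 := List.mem_range.mpr ha
  rw [← c2b_trans_check.2, List.mem_map] at h1
  obtain ⟨t, ht, hlook⟩ := h1
  obtain ⟨g, hg, hact⟩ :=
    exists_cent_of_tab (c2b_trans_check.1 t ht).1 (c2b_trans_check.1 t ht).2
  refine ⟨g, hg, ?_⟩
  rw [(hact 0 (by norm_num)).2, hlook, ptN_ptInv]

theorem cent_rep2_trans (p q : GolayPt) : ∃ c ∈ centM24 (rep2 1), c p = q := by
  obtain ⟨a, ha, hap⟩ := cent_rep2_trans0 p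
  obtain ⟨b, hb, hbq⟩ := cent_rep2_trans0 q
  refine ⟨b * a⁻¹, (centM24 _).mul_mem hb ((centM24 _).inv_mem ha), ?_⟩
  rw [Equiv.Perm.mul_apply, ← hap, c2b_inv_apply, hbq]

/-! ### the statement for every fixed-point-free involution -/

theorem fpf_involution_centralizer (t : Equiv.Perm GolayPt) (ht : t ∈ M24) (h₂ : orderOf t = 2)
    (h₀ : ∀ p, t p ≠ p) :
    Nat.card {c : Equiv.Perm GolayPt // c ∈ M24 ∧ c * t = t * c} = 7680 ∧
    (∀ p q : GolayPt, ∃ c ∈ M24, c * t = t * c ∧ c p = q) ∧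
    ∃ S ∈ sextets, t • S = S ∧ ∀ c ∈ M24, c * t = t * c → c • S = S := by
  rcases involution_type ht h₂ with ⟨k, hk, he, hoct⟩ | ⟨k, hk, he, -⟩
  · exact absurd h₀ (not_fpf_of_fix_octad hoct)
  have hki : k⁻¹ ∈ M24 := M24.inv_mem hk
  have he' : k⁻¹ * rep2 1 * k⁻¹⁻¹ = t := by rw [← he]; group
  refine ⟨?_, ?_, ?_⟩
  · rw [← card_cent_rep2]
    apply Nat.card_congr
    exact
      { toFun := fun c => ⟨k * c.1 * k⁻¹, conj_mem_centM24 hk he c.2⟩
        invFun := fun d => ⟨k⁻¹ * d.1 * k⁻¹⁻¹, conj_mem_centM24 hki he' d.2⟩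
        left_inv := fun c => by
          apply Subtype.ext
          show k⁻¹ * (k * c.1 * k⁻¹) * k⁻¹⁻¹ = c.1
          group
        right_inv := fun d => by
          apply Subtype.ext
          show k * (k⁻¹ * d.1 * k⁻¹⁻¹) * k⁻¹ = d.1
          group }
  · intro p q
    obtain ⟨c, hc, hcp⟩ := cent_rep2_trans (k p) (k q)
    have := conj_mem_centM24 hki he' hc
    refine ⟨k⁻¹ * c * k⁻¹⁻¹, this.1, this.2, ?_⟩
    rw [inv_inv, Equiv.Perm.mul_apply, Equiv.Perm.mul_apply, hcp, c2b_inv_apply]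
  · refine ⟨k⁻¹ • famSet c2b_S0, smul_mem_sextets hki c2b_htabs_check.1.mem, ?_, ?_⟩
    · have h1 : t * k⁻¹ = k⁻¹ * rep2 1 := by rw [← he]; group
      rw [← mul_smul, h1, mul_smul, rep2_smul_S0]
    · intro c hc hct
      have hc' : k * c * k⁻¹ ∈ centM24 (rep2 1) := conj_mem_centM24 hk he ⟨hc, hct⟩
      have h2 := cent_smul_S0 _ hc'
      have h1 : c * k⁻¹ = k⁻¹ * (k * c * k⁻¹) := by group
      rw [← mul_smul, h1, mul_smul, h2]

end Cfsg.Agent.Lib.Helper28
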