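import Cfsg.Agent.Lib.Helper28.Data5604
import Cfsg.Agent.Lib.Helper28.CentTwoB

set_option autoImplicit false

/-!
The normalizer (order 126) and centralizer (order 42, non-abelian) of a subgroup of order 7 of
`M24`; the normalizer fixes a trio.
-/

namespace Cfsg.Agent.Lib.Helper28

open Cfsg MulAction
open scoped Pointwise

/-! ### generic lemmas on groups -/

theorem mem_normalizer_zpowers_iff {G : Type*} [Group G] [Finite G] (x n : G) :
    n ∈ Subgroup.normalizer (Subgroup.zpowers x : Set G) ↔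
      n * x * n⁻¹ ∈ Subgroup.zpowers x := by
  constructor
  · intro h
    exact (Subgroup.mem_set_normalizer_iff.mp h x).mp (Subgroup.mem_zpowers x)
  · intro h
    apply Subgroup.mem_normalizer_fintype
    intro z hz
    obtain ⟨j, rfl⟩ := Subgroup.mem_zpowers_iff.mp hz
    rw [← conj_zpow]
    exact Subgroup.zpow_mem _ h j

theorem coe_mem_zpowers_iff {G : Type*} [Group G] (H : Subgroup G) (x y : H) :
    y ∈ Subgroup.zpowers x ↔ (y : G) ∈ Subgroup.zpowers (x : G) := by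
  rw [Subgroup.mem_zpowers_iff, Subgroup.mem_zpowers_iff]
  constructor
  · rintro ⟨k, rfl⟩
    exact ⟨k, (Subgroup.coe_zpow H x k).symm⟩
  · rintro ⟨k, hk⟩
    exact ⟨k, Subtype.ext ((Subgroup.coe_zpow H x k).trans hk)⟩

theorem mem_centralizer_zpowers_iff {G : Type*} [Group G] (x c : G) :
    c ∈ Subgroup.centralizer (Subgroup.zpowers x : Set G) ↔ c * x = x * c := by
  rw [Subgroup.zpowers_eq_closure, Subgroup.centralizer_closure,
    Subgroup.mem_centralizer_singleton_iff]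

theorem card_eq_of_conj_iff {G : Type*} [Group G] (A B : Subgroup G) (g : G)
    (h : ∀ n, n ∈ A ↔ g⁻¹ * n * g ∈ B) : Nat.card A = Nat.card B := by
  apply Nat.card_congr
  exact
    { toFun := fun a => ⟨g⁻¹ * a.1 * g, (h a.1).mp a.2⟩
      invFun := fun b => ⟨g * b.1 * g⁻¹, (h _).mpr (by
        have : g⁻¹ * (g * b.1 * g⁻¹) * g = b.1 := by group
        rw [this]; exact b.2)⟩
      left_inv := fun a => by
        apply Subtype.ext
        show g * (g⁻¹ * a.1 * g) * g⁻¹ = a.1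
        group
      right_inv := fun b => by
        apply Subtype.ext
        show g⁻¹ * (g * b.1 * g⁻¹) * g = b.1
        group }

theorem conj_mem_normalizer_iff {G : Type*} [Group G] {S S₀ : Subgroup G} {g : G}
    (hS : ∀ y, y ∈ S ↔ g⁻¹ * y * g ∈ S₀) (n : G) :
    n ∈ Subgroup.normalizer (S : Set G) ↔ g⁻¹ * n * g ∈ Subgroup.normalizer (S₀ : Set G) := by
  rw [Subgroup.mem_set_normalizer_iff, Subgroup.mem_set_normalizer_iff]
  constructor
  · intro h y
    have h1 := h (g * y * g⁻¹)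
    simp only [SetLike.mem_coe] at h1 ⊢
    rw [hS, hS] at h1
    have e1 : g⁻¹ * (g * y * g⁻¹) * g = y := by group
    have e2 : g⁻¹ * (n * (g * y * g⁻¹) * n⁻¹) * g = g⁻¹ * n * g * y * (g⁻¹ * n * g)⁻¹ := by group
    rw [e1, e2] at h1
    exact h1
  · intro h y
    have h1 := h (g⁻¹ * y * g)
    simp only [SetLike.mem_coe] at h1 ⊢
    rw [hS, hS]
    have e2 : g⁻¹ * n * g * (g⁻¹ * y * g) * (g⁻¹ * n * g)⁻¹ = g⁻¹ * (n * y * n⁻¹) * g := by group
    rw [e2] at h1
    exact h1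

theorem conj_mem_centralizer_iff {G : Type*} [Group G] {S S₀ : Subgroup G} {g : G}
    (hS : ∀ y, y ∈ S ↔ g⁻¹ * y * g ∈ S₀) (c : G) :
    c ∈ Subgroup.centralizer (S : Set G) ↔ g⁻¹ * c * g ∈ Subgroup.centralizer (S₀ : Set G) := by
  rw [Subgroup.mem_centralizer_iff, Subgroup.mem_centralizer_iff]
  constructor
  · intro h y hy
    have hy' : g * y * g⁻¹ ∈ S := by
      rw [hS]
      have : g⁻¹ * (g * y * g⁻¹) * g = y := by group
      rw [this]; exact hy
    have h1 := h (g * y * g⁻¹) hy'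
    calc y * (g⁻¹ * c * g) = g⁻¹ * (g * y * g⁻¹ * c) * g := by group
      _ = g⁻¹ * (c * (g * y * g⁻¹)) * g := by rw [h1]
      _ = g⁻¹ * c * g * y := by group
  · intro h y hy
    have hy' : g⁻¹ * y * g ∈ S₀ := (hS y).mp hy
    have h1 := h (g⁻¹ * y * g) hy'
    calc y * c = g * (g⁻¹ * y * g * (g⁻¹ * c * g)) * g⁻¹ := by group
      _ = g * (g⁻¹ * c * g * (g⁻¹ * y * g)) * g⁻¹ := by rw [h1]
      _ = c * y := by group

theorem exists_conj_of_card_seven (S S₀ : Subgroup ↥M24) (h : Nat.card S = 7)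
    (h₀ : Nat.card S₀ = 7) : ∃ g : ↥M24, ∀ y, y ∈ S ↔ g⁻¹ * y * g ∈ S₀ := by
  haveI : Fact (Nat.Prime 7) := ⟨by norm_num⟩
  have hne : Nat.card ↥M24 ≠ 0 := by rw [card_M24]; norm_num
  have hfac : (Nat.card ↥M24).factorization 7 = 1 := by
    have h1 : 1 ≤ (Nat.card ↥M24).factorization 7 :=
      (Nat.Prime.pow_dvd_iff_le_factorization (by norm_num) hne).mp (by rw [card_M24]; norm_num)
    have h2 : ¬ 2 ≤ (Nat.card ↥M24).factorization 7 := fun hh =>
      absurd ((Nat.Prime.pow_dvd_iff_le_factorization (by norm_num) hne).mpr hh)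
        (by rw [card_M24]; norm_num)
    omega
  obtain ⟨g, hg⟩ := MulAction.exists_smul_eq ↥M24 (Sylow.ofCard S₀ (by rw [h₀, hfac, pow_one]))
    (Sylow.ofCard S (by rw [h, hfac, pow_one]))
  have hsub : MulAut.conj g • S₀ = S := by
    have := congrArg Sylow.toSubgroup hg
    rw [Sylow.coe_subgroup_smul, Sylow.coe_ofCard, Sylow.coe_ofCard] at this
    exact this
  refine ⟨g, fun y => ?_⟩
  rw [← hsub, Subgroup.mem_pointwise_smul_iff_inv_smul_mem, MulAut.smul_def,
    MulAut.conj_inv_apply]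

/-! ### the element of order seven -/

/-- the element of order seven -/
noncomputable def n7x : Equiv.Perm GolayPt := permOfList n7_l

theorem n7x_good : GoodPerm n7_l := n7_l_check.1.1

theorem n7x_mem : n7x ∈ M24 := n7_l_check.1.mem

theorem n7x_pow : n7x ^ 7 = 1 := (pow_eq_one_iff_powL n7x_good 7).mpr n7_l_check.2.1

theorem n7x_ne : n7x ≠ 1 := by
  intro h
  apply n7_l_check.2.2.1
  apply permOfList_injective n7x_good goodPerm_idList
  rw [permOfList_idList]; exact h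

theorem n7x_order : orderOf n7x = 7 := by
  haveI : Fact (Nat.Prime 7) := ⟨by norm_num⟩
  exact orderOf_eq_prime n7x_pow n7x_ne

theorem n7x_acts : ActsBy n7x n7_tab := actsBy_permOfList n7x_good n7_l_check.2.2.2.1

theorem conj_of_tab {l l' : List ℕ} (hl : GoodPerm l) (hl' : GoodPerm l')
    {g : Equiv.Perm GolayPt} {t : ℕ} (hact : ActsBy g t) (hc : ConjTab l l' t) :
    g * permOfList l = permOfList l' * g := by
  refine Equiv.ext fun x => ?_
  obtain ⟨a, ha, rfl⟩ : ∃ a, a < 24 ∧ ptN a = x := ⟨(ptInv x).val, (ptInv x).2, ptN_ptInv x⟩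
  rw [Equiv.Perm.mul_apply, Equiv.Perm.mul_apply, permOfList_ptN hl ha,
    (hact _ (getD_lt hl ha)).2, (hact a ha).2, permOfList_ptN hl' (hact a ha).1]
  congr 1
  exact hc ⟨a, ha⟩

/-- the normalizer in `M24` of the group generated by `x` -/
def normM24 (x : Equiv.Perm GolayPt) : Subgroup (Equiv.Perm GolayPt) :=
  M24 ⊓ Subgroup.normalizer (Subgroup.zpowers x : Set (Equiv.Perm GolayPt))

theorem mem_normM24 {x n : Equiv.Perm GolayPt} :
    n ∈ normM24 x ↔ n ∈ M24 ∧ n * x * n⁻¹ ∈ Subgroup.zpowers x := by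
  unfold normM24
  rw [Subgroup.mem_inf, mem_normalizer_zpowers_iff]

theorem centM24_le_normM24 (x : Equiv.Perm GolayPt) : centM24 x ≤ normM24 x := by
  intro c hc
  rw [mem_normM24]
  refine ⟨hc.1, ?_⟩
  rw [hc.2, mul_assoc, mul_inv_cancel, mul_one]
  exact Subgroup.mem_zpowers x

theorem n7_nhgens : ∀ t ∈ n7_ntabs, ∃ g ∈ normM24 n7x, ActsBy g t := by
  intro t ht
  obtain ⟨htab, hc⟩ := n7_ntabs_check t ht
  obtain ⟨g, hg, hact⟩ := htab.exists
  refine ⟨g, mem_normM24.mpr ⟨hg, ?_⟩, hact⟩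
  have h2 := powL_spec n7x_good 2
  have h3 := conj_of_tab n7x_good h2.1 hact hc
  have e : g * n7x * g⁻¹ = n7x ^ 2 := by
    show g * permOfList n7_l * g⁻¹ = permOfList n7_l ^ 2
    rw [h3, h2.2, mul_assoc, mul_inv_cancel, mul_one]
  rw [e]
  exact Subgroup.pow_mem _ (Subgroup.mem_zpowers _) 2

theorem n7_chgens : ∀ t ∈ [n7_c1, n7_c2], ∃ g ∈ centM24 n7x, ActsBy g t := by
  intro t ht
  obtain ⟨htab, hc⟩ := n7_ctabs_check.1 t ht
  obtain ⟨g, hg, hact⟩ := htab.exists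
  exact ⟨g, ⟨hg, conj_of_tab n7x_good n7x_good hact hc⟩, hact⟩

/-! ### the invariant octads -/

theorem n7_inv_octad {O : Finset GolayPt} (hO : O ∈ octads) (h : n7x • O = O) :
    O ∈ famSet n7_T0 := by
  obtain ⟨x, hx, rfl⟩ := (alloct_enum.2.2 O).mp hO
  have hgood : GoodSet x := alloct_enum.1 x hx
  obtain ⟨h1, h2⟩ := smul_ptSet n7x_acts hgood
  rw [h1] at h
  have h3 := n7_invoct_check x hx ((setEqB_iff h2 hgood).mpr h)
  rw [List.any_eq_true] at h3
  obtain ⟨l, hl, he⟩ := h3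
  exact mem_famSet.mpr ⟨l, hl, (ptSet_eq_of_setEqB he).symm⟩

theorem n7_T0_inv : ∀ O ∈ famSet n7_T0, O ∈ octads ∧ n7x • O = O := by
  intro O hO
  obtain ⟨l, hl, rfl⟩ := mem_famSet.mp hO
  have hoct := n7_l_check.2.2.2.2.1.2.1 l hl
  refine ⟨hoct.mem, ?_⟩
  rw [(smul_ptSet n7x_acts hoct.1).1]
  exact ptSet_eq_of_setEqB (n7_l_check.2.2.2.2.2.1 l hl)

theorem normM24_le_trio :
    normM24 n7x ≤ M24 ⊓ stabilizer (Equiv.Perm GolayPt) (famSet n7_T0) := by
  intro n hn
  have hn1 := (mem_normM24.mp hn).1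
  have hni : n⁻¹ ∈ normM24 n7x := (normM24 n7x).inv_mem hn
  have hz := (mem_normM24.mp hni).2
  refine Subgroup.mem_inf.mpr ⟨hn1, mem_stabilizer_iff.mpr ?_⟩
  apply Finset.eq_of_subset_of_card_le
  · intro O hO
    obtain ⟨O', hO', rfl⟩ := Finset.mem_smul_finset.mp hO
    obtain ⟨hoct, hinv⟩ := n7_T0_inv O' hO'
    apply n7_inv_octad (smul_mem_octads hn1 hoct)
    have hstab : n⁻¹ * n7x * n⁻¹⁻¹ ∈ stabilizer (Equiv.Perm GolayPt) O' :=
      (Subgroup.zpowers_le.mpr (mem_stabilizer_iff.mpr hinv)) hz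
    have e : n7x * n = n * (n⁻¹ * n7x * n⁻¹⁻¹) := by group
    rw [← mul_smul, e, mul_smul, mem_stabilizer_iff.mp hstab]
  · rw [Finset.card_smul_finset]

/-! ### the duads -/

theorem ptSet_duadOf {l : List ℕ} (hl : GoodPerm l) {a : ℕ} (ha : a < 24) :
    ptSet (duadOf l a) = {ptN a, permOfList l (ptN a)} := by
  rw [permOfList_ptN hl ha]
  unfold duadOf
  split_ifs with h
  · rw [h]; simp [ptSet]
  · exact ptSet_pair a _

theorem duadFam_permOfList {l : List ℕ} (hl : GoodPerm l) :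
    duadFam (permOfList l) = famSet (duadL l) := by
  ext s
  rw [mem_duadFam, mem_famSet]
  constructor
  · rintro ⟨p, rfl⟩
    obtain ⟨a, ha, rfl⟩ : ∃ a, a < 24 ∧ ptN a = p := ⟨(ptInv p).val, (ptInv p).2, ptN_ptInv p⟩
    exact ⟨duadOf l a, List.mem_map.mpr ⟨a, List.mem_range.mpr ha, rfl⟩, ptSet_duadOf hl ha⟩
  · rintro ⟨l', hl', rfl⟩
    obtain ⟨a, ha, rfl⟩ := List.mem_map.mp hl'
    exact ⟨ptN a, (ptSet_duadOf hl (List.mem_range.mp ha)).symm⟩

theorem goodFam_of_codes {L : List (List ℕ)} (hgood : ∀ l ∈ L, GoodSet l)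
    (hnd : (L.map setCode).Nodup) : GoodFam L := by
  refine ⟨hgood, ?_⟩
  have h2 : (L.map ptSet).map setCodeS = L.map setCode := by
    rw [List.map_map]
    apply List.map_congr_left
    intro l hl
    show setCodeS (ptSet l) = setCode l
    exact (setCode_eq (hgood l hl)).symm
  rw [← h2] at hnd
  exact List.Nodup.of_map _ hnd

theorem duadFam_inv (x : Equiv.Perm GolayPt) : duadFam x⁻¹ = duadFam x := by
  ext s
  rw [mem_duadFam, mem_duadFam]
  constructor
  · rintro ⟨p, rfl⟩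
    refine ⟨x⁻¹ p, ?_⟩
    rw [c2b_apply_inv, Finset.pair_comm]
  · rintro ⟨p, rfl⟩
    refine ⟨x p, ?_⟩
    rw [c2b_inv_apply, Finset.pair_comm]

/-! ### the orders -/

theorem n7_stab_le (C : Subgroup (Equiv.Perm GolayPt))
    (hCJ : C ≤ M24 ⊓ stabilizer (Equiv.Perm GolayPt) (famSet n7_T0))
    (hfix : ∀ c ∈ C, c • famSet (duadL n7_l) = famSet (duadL n7_l)) : Nat.card C ≤ 42 := by
  have hT0 : famSet n7_T0 ∈ trios := n7_l_check.2.2.2.2.1.mem
  have hJcard : Nat.card ↥(M24 ⊓ stabilizer (Equiv.Perm GolayPt) (famSet n7_T0)) = 64512 := by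
    rw [← card_stabilizer_subgroup, card_stabilizer_trio hT0]
  have hgens := gens_stab_fam n7_jtabs n7_T0 n7_l_check.2.2.2.2.1.goodFam n7_jtabs_check
  have hE0 : GoodFam (duadL n7_l) :=
    goodFam_of_codes n7_l_check.2.2.2.2.2.2.1 n7_l_check.2.2.2.2.2.2.2
  have hs := n7_omodel.nodes_sound _ n7_jtabs hgens (duadL n7_l) hE0 n7_ocert
  have hnd : ((n7_omodel.nodes n7_jtabs (duadL n7_l) n7_ocert).map famSet).Nodup :=
    n7_omodel.sem_nodup _ (fun x hx => (hs x hx).1) n7_ocheck.1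
  have key := card_mul_le_of_orbit _ C (famSet (duadL n7_l)) hCJ hfix _ hnd (by
    intro z hz
    obtain ⟨x, hx, rfl⟩ := List.mem_map.mp hz
    exact (hs x hx).2)
  rw [List.length_map, n7_ocheck.2, hJcard] at key
  omega

theorem n7_cent_fix : ∀ c ∈ centM24 n7x, c • famSet (duadL n7_l) = famSet (duadL n7_l) := by
  intro c hc
  rw [← duadFam_permOfList n7x_good, smul_duadFam]
  congr 1
  show c * n7x * c⁻¹ = n7x
  rw [hc.2, mul_assoc, mul_inv_cancel, mul_one]

theorem card_cent_n7 : Nat.card (centM24 n7x) = 42 :=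
  (elems_of_cert_le _ _ [n7_c1, n7_c2] n7_chgens n7_ccert 42
    (n7_stab_le _ ((centM24_le_normM24 _).trans normM24_le_trio) n7_cent_fix)
    n7_ccheck.1 n7_ccheck.2).1

theorem n7_orbit_sub (n : Equiv.Perm GolayPt) (hn : n ∈ normM24 n7x) :
    n • duadFam n7x ∈
      ({duadFam n7x, duadFam (n7x ^ 2), duadFam (n7x ^ 3)} : Finset (Finset (Finset GolayPt))) := by
  classical
  rw [smul_duadFam]
  have hz := (mem_normM24.mp hn).2
  rw [mem_zpowers_iff_mem_range_orderOf, n7x_order, Finset.mem_image] at hz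
  obtain ⟨k, hk, hkx⟩ := hz
  rw [Finset.mem_range] at hk
  have hkx' : n7x ^ k = n * n7x * n⁻¹ := hkx
  rw [← hkx']
  have h7 := n7x_pow
  simp only [Finset.mem_insert, Finset.mem_singleton]
  interval_cases k
  · exfalso
    rw [pow_zero] at hkx'
    apply n7x_ne
    calc n7x = n⁻¹ * (n * n7x * n⁻¹) * n := by group
      _ = 1 := by rw [← hkx']; group
  · left; rw [pow_one]
  · right; left; rfl
  · right; right; rfl
  · right; right
    have : n7x ^ 4 = (n7x ^ 3)⁻¹ := eq_inv_of_mul_eq_one_left (by rw [← pow_add]; exact h7)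
    rw [this, duadFam_inv]
  · right; left
    have : n7x ^ 5 = (n7x ^ 2)⁻¹ := eq_inv_of_mul_eq_one_left (by rw [← pow_add]; exact h7)
    rw [this, duadFam_inv]
  · left
    have : n7x ^ 6 = n7x⁻¹ := eq_inv_of_mul_eq_one_left (by rw [← pow_succ]; exact h7)
    rw [this, duadFam_inv]

theorem card_norm_n7_le : Nat.card (normM24 n7x) ≤ 126 := by
  classical
  have h1 : Nat.card (stabilizer (normM24 n7x) (duadFam n7x)) *
      (stabilizer (normM24 n7x) (duadFam n7x)).index = Nat.card (normM24 n7x) :=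
    Subgroup.card_mul_index _
  rw [MulAction.index_stabilizer] at h1
  have h2 : (orbit (normM24 n7x) (duadFam n7x)).ncard ≤ 3 := by
    have hsub : orbit (normM24 n7x) (duadFam n7x) ⊆
        (({duadFam n7x, duadFam (n7x ^ 2), duadFam (n7x ^ 3)} :
          Finset (Finset (Finset GolayPt))) : Set (Finset (Finset GolayPt))) := by
      rintro _ ⟨n, rfl⟩
      exact Finset.mem_coe.mpr (n7_orbit_sub n.1 n.2)
    calc (orbit (normM24 n7x) (duadFam n7x)).ncard
        ≤ (({duadFam n7x, duadFam (n7x ^ 2), duadFam (n7x ^ 3)} :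
          Finset (Finset (Finset GolayPt))) : Set (Finset (Finset GolayPt))).ncard :=
          Set.ncard_le_ncard hsub (Finset.finite_toSet _)
      _ = _ := Set.ncard_coe_finset _
      _ ≤ 3 := Finset.card_le_three
  have h3 : Nat.card (stabilizer (normM24 n7x) (duadFam n7x)) ≤ 42 := by
    rw [card_stabilizer_subgroup]
    apply n7_stab_le
    · exact inf_le_left.trans normM24_le_trio
    · intro c hc
      rw [← duadFam_permOfList n7x_good]
      exact mem_stabilizer_iff.mp hc.2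
  calc Nat.card (normM24 n7x)
      = Nat.card (stabilizer (normM24 n7x) (duadFam n7x)) *
        (orbit (normM24 n7x) (duadFam n7x)).ncard := h1.symm
    _ ≤ 42 * 3 := Nat.mul_le_mul h3 h2

theorem card_norm_n7 : Nat.card (normM24 n7x) = 126 :=
  (elems_of_cert_le _ _ n7_ntabs n7_nhgens n7_ncert 126 card_norm_n7_le
    n7_ncheck.1 n7_ncheck.2).1

theorem n7_cent_nonabelian : ∃ a ∈ centM24 n7x, ∃ b ∈ centM24 n7x, a * b ≠ b * a := by
  obtain ⟨g1, hg1, hact1⟩ := n7_chgens n7_c1 (by simp)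
  obtain ⟨g2, hg2, hact2⟩ := n7_chgens n7_c2 (by simp)
  obtain ⟨a, ha, hne⟩ := n7_ctabs_check.2
  have ha' := List.mem_range.mp ha
  refine ⟨g1, hg1, g2, hg2, ?_⟩
  intro h
  apply hne
  have h1 : g1 (g2 (ptN a)) = g2 (g1 (ptN a)) := by
    rw [← Equiv.Perm.mul_apply, ← Equiv.Perm.mul_apply, h]
  rw [(hact2 a ha').2, (hact1 _ (hact2 a ha').1).2, (hact1 a ha').2,
    (hact2 _ (hact1 a ha').1).2] at h1
  exact ptN_inj ((hact1 _ (hact2 a ha').1).1) ((hact2 _ (hact1 a ha').1).1) h1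

/-! ### the subgroup of order seven of `↥M24` -/

/-- the subgroup of order seven -/
noncomputable abbrev n7S : Subgroup ↥M24 := Subgroup.zpowers (⟨n7x, n7x_mem⟩ : ↥M24)

theorem card_n7S : Nat.card n7S = 7 := by
  rw [Nat.card_zpowers, Subgroup.orderOf_mk, n7x_order]

theorem card_normalizer_n7S : Nat.card ↥(Subgroup.normalizer (n7S : Set ↥M24)) = 126 := by
  rw [← card_norm_n7]
  apply Nat.card_congr
  exact
    { toFun := fun n => ⟨n.1.1, mem_normM24.mpr ⟨n.1.2,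
        (coe_mem_zpowers_iff M24 _ _).mp ((mem_normalizer_zpowers_iff _ _).mp n.2)⟩⟩
      invFun := fun m => ⟨⟨m.1, (mem_normM24.mp m.2).1⟩, (mem_normalizer_zpowers_iff _ _).mpr
        ((coe_mem_zpowers_iff M24 _ _).mpr (mem_normM24.mp m.2).2)⟩
      left_inv := fun n => rfl
      right_inv := fun m => rfl }

theorem card_centralizer_n7S : Nat.card ↥(Subgroup.centralizer (n7S : Set ↥M24)) = 42 := by
  rw [← card_cent_n7]
  apply Nat.card_congr
  exact
    { toFun := fun c => ⟨c.1.1, ⟨c.1.2,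
        congrArg Subtype.val ((mem_centralizer_zpowers_iff _ _).mp c.2)⟩⟩
      invFun := fun m => ⟨⟨m.1, m.2.1⟩,
        (mem_centralizer_zpowers_iff _ _).mpr (Subtype.ext m.2.2)⟩
      left_inv := fun n => rfl
      right_inv := fun m => rfl }

theorem normalizer_seven (S : Subgroup ↥M24) (hS : Nat.card S = 7) :
    Nat.card ↥(Subgroup.normalizer (S : Set ↥M24)) = 126 ∧
    Nat.card ↥(Subgroup.centralizer (S : Set ↥M24)) = 42 ∧
    (∃ x ∈ Subgroup.centralizer (S : Set ↥M24), ∃ y ∈ Subgroup.centralizer (S : Set ↥M24),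
      x * y ≠ y * x) ∧
    ∃ T ∈ trios, ∀ n ∈ Subgroup.normalizer (S : Set ↥M24),
      ((n : ↥M24) : Equiv.Perm GolayPt) • T = T := by
  obtain ⟨g, hg⟩ := exists_conj_of_card_seven S n7S hS card_n7S
  refine ⟨?_, ?_, ?_, ?_⟩
  · rw [← card_normalizer_n7S]
    exact card_eq_of_conj_iff _ _ g (conj_mem_normalizer_iff hg)
  · rw [← card_centralizer_n7S]
    exact card_eq_of_conj_iff _ _ g (conj_mem_centralizer_iff hg)
  · obtain ⟨a, ha, b, hb, hab⟩ := n7_cent_nonabelian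
    have ha' : (⟨a, ha.1⟩ : ↥M24) ∈ Subgroup.centralizer (n7S : Set ↥M24) :=
      (mem_centralizer_zpowers_iff _ _).mpr (Subtype.ext ha.2)
    have hb' : (⟨b, hb.1⟩ : ↥M24) ∈ Subgroup.centralizer (n7S : Set ↥M24) :=
      (mem_centralizer_zpowers_iff _ _).mpr (Subtype.ext hb.2)
    refine ⟨g * ⟨a, ha.1⟩ * g⁻¹, (conj_mem_centralizer_iff hg _).mpr (by
        have : g⁻¹ * (g * ⟨a, ha.1⟩ * g⁻¹) * g = ⟨a, ha.1⟩ := by group
        rw [this]; exact ha'), g * ⟨b, hb.1⟩ * g⁻¹, (conj_mem_centralizer_iff hg _).mpr (by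
        have : g⁻¹ * (g * ⟨b, hb.1⟩ * g⁻¹) * g = ⟨b, hb.1⟩ := by group
        rw [this]; exact hb'), ?_⟩
    intro h
    apply hab
    have h2 : (⟨a, ha.1⟩ : ↥M24) * ⟨b, hb.1⟩ = ⟨b, hb.1⟩ * ⟨a, ha.1⟩ := by
      have e1 : (⟨a, ha.1⟩ : ↥M24) * ⟨b, hb.1⟩ =
          g⁻¹ * (g * ⟨a, ha.1⟩ * g⁻¹ * (g * ⟨b, hb.1⟩ * g⁻¹)) * g := by group
      rw [e1, h]; group
    exact congrArg Subtype.val h2
  · refine ⟨(g : Equiv.Perm GolayPt) • famSet n7_T0,
      smul_mem_trios g.2 n7_l_check.2.2.2.2.1.mem, ?_⟩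
    intro n hn
    have h1 := (conj_mem_normalizer_iff hg n).mp hn
    have h2 : ((g⁻¹ * n * g : ↥M24) : Equiv.Perm GolayPt) ∈ normM24 n7x :=
      mem_normM24.mpr ⟨(g⁻¹ * n * g).2,
        (coe_mem_zpowers_iff M24 _ _).mp ((mem_normalizer_zpowers_iff _ _).mp h1)⟩
    have h3 := mem_stabilizer_iff.mp (Subgroup.mem_inf.mp (normM24_le_trio h2)).2
    have e : (n : Equiv.Perm GolayPt) * (g : Equiv.Perm GolayPt) =
        (g : Equiv.Perm GolayPt) * ((g⁻¹ * n * g : ↥M24) : Equiv.Perm GolayPt) := by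
      simp only [Subgroup.coe_mul, Subgroup.coe_inv]; group
    rw [← mul_smul, e, mul_smul, h3]

end Cfsg.Agent.Lib.Helper28
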