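import Cfsg.Agent.Lib.Helper28.OutTabs
import Cfsg.Agent.Lib.Helper28.NormSeven

set_option autoImplicit false

/-!
The elements `t ↦ t + 1` (order 23) and `t ↦ 2t` (order 11) of `Cfsg.M24` are self-centralizing;
relations with `projInv` and `cubeTwist`; every automorphism of `M24` is inner.
-/

namespace Cfsg.Agent.Lib.Helper28

open Cfsg MulAction
open scoped Pointwise

/-- the table of `t ↦ 2t` -/
def o11_btab : Fin 24 → Fin 24 :=
  ![0, 2, 4, 6, 8, 10, 12, 14, 16, 18, 20, 22, 1, 3, 5, 7, 9, 11, 13, 15, 17, 19, 21, 23]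

set_option maxRecDepth 100000 in
theorem o11_btab_inj : TabInj o11_btab := by decide +kernel

set_option maxRecDepth 100000 in
set_option maxHeartbeats 4000000 in
theorem o11_btab_check : TabCheck o11_btab := by decide +kernel

/-- the permutation `t ↦ 2t` -/
noncomputable def o11_b : Equiv.Perm GolayPt := tabPerm o11_btab o11_btab_inj

theorem o11_b_mem : o11_b ∈ M24 := tabPerm_mem_M24 _ _ o11_btab_check

theorem o11_b_acts : TActs o11_b o11_btab := tabPerm_pt _ _

theorem shift_acts : TActs m24shift shiftTab := shift_tab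

theorem shiftInv_acts : TActs m24shift⁻¹ shiftInvTab := shiftInv_tab

theorem projInv_acts : TActs projInv projInvTab := projInv_tab

theorem cubeTwist_acts : TActs cubeTwist cubeTwistTab := cubeTwist_tab

/-! ### orders -/

set_option maxRecDepth 100000 in
theorem shift_pow : m24shift ^ 23 = 1 :=
  TActs.ext (shift_acts.pow 23) TActs.one (by decide +kernel)

theorem shift_ne_one : m24shift ≠ 1 := by
  intro h
  have h1 : Helper4.pt 0 = Helper4.pt (shiftTab 0) := by
    have h2 := shift_acts 0
    rw [h] at h2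
    exact h2
  exact absurd (Helper4.pt_bijective.1 h1) (by decide)

set_option maxRecDepth 100000 in
theorem o11_b_pow : o11_b ^ 11 = 1 :=
  TActs.ext (o11_b_acts.pow 11) TActs.one (by decide +kernel)

theorem o11_b_ne_one : o11_b ≠ 1 := by
  intro h
  have h1 : Helper4.pt 1 = Helper4.pt (o11_btab 1) := by
    have h2 := o11_b_acts 1
    rw [h] at h2
    exact h2
  exact absurd (Helper4.pt_bijective.1 h1) (by decide)

/-! ### relations -/

set_option maxRecDepth 100000 in
theorem o11_hba : o11_b * m24shift * o11_b⁻¹ = m24shift ^ 2 := by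
  rw [mul_inv_eq_iff_eq_mul]
  exact TActs.ext (o11_b_acts.mul shift_acts) ((shift_acts.pow 2).mul o11_b_acts)
    (by decide +kernel)

set_option maxRecDepth 100000 in
theorem o11_hcb : projInv * o11_b * projInv⁻¹ = o11_b ^ 10 := by
  rw [mul_inv_eq_iff_eq_mul]
  exact TActs.ext (projInv_acts.mul o11_b_acts) ((o11_b_acts.pow 10).mul projInv_acts)
    (by decide +kernel)

set_option maxRecDepth 100000 in
theorem o11_hdb : cubeTwist * o11_b * cubeTwist⁻¹ = o11_b ^ 3 := by
  rw [mul_inv_eq_iff_eq_mul]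
  exact TActs.ext (cubeTwist_acts.mul o11_b_acts) ((o11_b_acts.pow 3).mul cubeTwist_acts)
    (by decide +kernel)

/-! ### the centralizer of the shift -/

set_option maxRecDepth 100000 in
theorem o11_shift_iter : ∀ x : Fin 24, x ≠ 23 → shiftTab^[x.val] 0 = x := by decide +kernel

set_option maxRecDepth 100000 in
set_option maxHeartbeats 4000000 in
theorem o11_a_search : ∀ u : Fin 24, shiftTab u = u → ∀ v : Fin 24, v ≠ u →
    ∃ i : Fin 23, ∀ x : Fin 24,
      (if x = 23 then u else shiftTab^[x.val] v) = shiftTab^[i.val] x := by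
  decide +kernel

theorem cent_shift {g : Equiv.Perm GolayPt} (hc : g * m24shift = m24shift * g) :
    g ∈ Subgroup.zpowers m24shift := by
  have hT := tActs_tabOf g
  have hcomm := tab_comm_iterate shift_acts hT hc
  have hu : shiftTab (tabOf g 23) = tabOf g 23 := (hcomm 1 23).symm
  have hv : tabOf g 0 ≠ tabOf g 23 := fun h =>
    absurd (tabOf_inj g _ _ h) (by decide)
  obtain ⟨i, hi⟩ := o11_a_search (tabOf g 23) hu (tabOf g 0) hv
  have hg : g = m24shift ^ i.val := by
    apply TActs.ext hT (shift_acts.pow i.val)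
    intro x
    rw [← hi x]
    by_cases hx : x = 23
    · rw [if_pos hx, hx]
    · rw [if_neg hx]
      calc tabOf g x = tabOf g (shiftTab^[x.val] 0) := by rw [o11_shift_iter x hx]
        _ = shiftTab^[x.val] (tabOf g 0) := hcomm x.val 0
  rw [hg]
  exact Subgroup.pow_mem _ (Subgroup.mem_zpowers _) _

/-! ### the centralizer of `t ↦ 2t` -/

def o11_seedpt : Fin 4 → Fin 24 := ![23, 0, 1, 5]

def o11_seed : Fin 24 → Fin 4 :=
  ![1, 2, 2, 2, 2, 3, 2, 3, 2, 2, 3, 3, 2, 2, 3, 3, 2, 3, 2, 3, 3, 3, 3, 0]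

def o11_dl : Fin 24 → ℕ :=
  ![0, 0, 1, 8, 2, 0, 9, 9, 3, 5, 1, 4, 10, 7, 10, 8, 4, 3, 6, 7, 2, 6, 5, 0]

set_option maxRecDepth 100000 in
theorem o11_decomp : ∀ a : Fin 24, o11_btab^[o11_dl a] (o11_seedpt (o11_seed a)) = a := by
  decide +kernel

/-- the table determined by the images of the four seeds -/
def o11_F (s : Fin 4 → Fin 24) (a : Fin 24) : Fin 24 := o11_btab^[o11_dl a] (s (o11_seed a))

set_option maxRecDepth 1000000 in
set_option maxHeartbeats 40000000 in
theorem o11_search : ∀ u : Fin 24, o11_btab u = u → ∀ v : Fin 24, o11_btab v = v →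
    ∀ w z : Fin 24, HCheck (o11_F ![u, v, w, z]) → TabInj (o11_F ![u, v, w, z]) →
      ∃ i : Fin 11, ∀ a, o11_F ![u, v, w, z] a = o11_btab^[i.val] a := by
  decide +kernel

theorem cent_o11_b {g : Equiv.Perm GolayPt} (hg : g ∈ M24) (hc : g * o11_b = o11_b * g) :
    g ∈ Subgroup.zpowers o11_b := by
  have hT := tActs_tabOf g
  have hcomm := tab_comm_iterate o11_b_acts hT hc
  have hF : tabOf g = o11_F ![tabOf g 23, tabOf g 0, tabOf g 1, tabOf g 5] := by
    funext a
    have h1 : tabOf g a = o11_btab^[o11_dl a] (tabOf g (o11_seedpt (o11_seed a))) := by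
      calc tabOf g a = tabOf g (o11_btab^[o11_dl a] (o11_seedpt (o11_seed a))) := by
            rw [o11_decomp a]
        _ = _ := hcomm _ _
    rw [h1]
    unfold o11_F
    congr 1
    generalize o11_seed a = s
    fin_cases s <;> rfl
  have hu : o11_btab (tabOf g 23) = tabOf g 23 := (hcomm 1 23).symm
  have hv : o11_btab (tabOf g 0) = tabOf g 0 := (hcomm 1 0).symm
  have hH : HCheck (tabOf g) := hCheck_of_mem hg hT
  have hI : TabInj (tabOf g) := tabOf_inj g
  rw [hF] at hH hI
  obtain ⟨i, hi⟩ := o11_search _ hu _ hv _ _ hH hI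
  have hgi : g = o11_b ^ i.val := by
    apply TActs.ext hT (o11_b_acts.pow i.val)
    intro a
    rw [← hi a]
    exact congrFun hF a
  rw [hgi]
  exact Subgroup.pow_mem _ (Subgroup.mem_zpowers _) _

end Cfsg.Agent.Lib.Helper28
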