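import Cfsg.Agent.Lib.Helper28.DataElem

set_option autoImplicit false

/-!
The elements of order 2 and 3 of `M24`: every involution is conjugate to one of two
representatives, every element of order 3 to one of two representatives.
-/

namespace Cfsg.Agent.Lib.Helper28

open Cfsg MulAction
open scoped Pointwise

/-- the enumerated elements of the stabilizer of the first four base points -/
noncomputable def k4_nodes : List (List ℕ) := k4_model.nodes k4_tabs idList k4_cert

theorem k4_hgens : ∀ t ∈ k4_tabs, ∃ g ∈ baseStab M24 4, ActsBy g t := by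
  intro t ht
  obtain ⟨htab, hfix⟩ := k4_tabs_check t ht
  obtain ⟨g, hg, hact⟩ := htab.exists
  refine ⟨g, mem_baseStab.mpr ⟨hg, fun j hj => ?_⟩, hact⟩
  rw [← ptN_val (m24base j), (hact _ (m24base j).2).2, hfix j hj]

theorem k4_enum : ∀ g ∈ baseStab M24 4, ∃ l ∈ k4_nodes, GoodPerm l ∧ g = permOfList l :=
  elems_of_cert _ (baseStab M24 4) k4_tabs k4_hgens k4_cert 960
    (card_baseStab m24gens_closure_le le_rfl).2.2.2.2.1 k4_check k4_len

theorem base_pt_cases (P : GolayPt → Prop) (h0 : P (ptN 23)) (h1 : P (ptN 0)) (h2 : P (ptN 1))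
    (h3 : P (ptN 2)) : ∀ j : Fin 7, j.val < 4 → P (Helper4.pt (m24base j)) := by
  intro j hj
  have : j = 0 ∨ j = 1 ∨ j = 2 ∨ j = 3 := by
    rcases j with ⟨v, hv⟩
    simp only at hj
    interval_cases v
    · exact Or.inl rfl
    · exact Or.inr (Or.inl rfl)
    · exact Or.inr (Or.inr (Or.inl rfl))
    · exact Or.inr (Or.inr (Or.inr rfl))
  rcases this with rfl | rfl | rfl | rfl
  · exact h0
  · exact h1
  · exact h2
  · exact h3

/-- enumeration of a coset of the stabilizer of the first four base points -/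
theorem coset_enum {c : List ℕ} (hc : ListM24 c) {g : Equiv.Perm GolayPt} (hg : g ∈ M24)
    (h0 : g (ptN 23) = ptN (c.getD 23 0)) (h1 : g (ptN 0) = ptN (c.getD 0 0))
    (h2 : g (ptN 1) = ptN (c.getD 1 0)) (h3 : g (ptN 2) = ptN (c.getD 2 0)) :
    ∃ l ∈ k4_nodes, GoodPerm (compL c l) ∧ g = permOfList (compL c l) := by
  have hmem : (permOfList c)⁻¹ * g ∈ baseStab M24 4 := by
    apply inv_mul_mem_baseStab hc.mem hg
    apply base_pt_cases (fun x => g x = permOfList c x)
    · rw [h0, permOfList_ptN hc.1 (by norm_num)]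
    · rw [h1, permOfList_ptN hc.1 (by norm_num)]
    · rw [h2, permOfList_ptN hc.1 (by norm_num)]
    · rw [h3, permOfList_ptN hc.1 (by norm_num)]
  obtain ⟨l, hl, hgood, he⟩ := k4_enum _ hmem
  refine ⟨l, hl, goodPerm_compL hc.1 hgood, ?_⟩
  rw [← permOfList_compL hc.1 hgood, ← he, mul_inv_cancel_left]

/-- the representatives of the involutions -/
noncomputable def rep2 (r : ℕ) : Equiv.Perm GolayPt := permOfList (el_rep2.getD r idList)

/-- the representatives of the elements of order three -/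
noncomputable def rep3 (r : ℕ) : Equiv.Perm GolayPt := permOfList (el_rep3.getD r idList)

theorem goodPerm_getD {reps : List (List ℕ)} (h : ∀ g ∈ reps, ListM24 g) (r : ℕ) :
    GoodPerm (reps.getD r idList) := by
  by_cases hr : r < reps.length
  · rw [List.getD_eq_getElem _ _ hr]
    exact (h _ (List.getElem_mem hr)).1
  · rw [List.getD_eq_default _ _ (not_lt.mp hr)]
    exact goodPerm_idList

/-- from the checked data of a coset to conjugacy -/
theorem conj_of_data {c : List ℕ} {p : List ℕ → Bool} {reps : List (List ℕ)}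
    {data : List (List ℕ × ℕ)} (hreps : ∀ g ∈ reps, ListM24 g)
    (hcheck : conjCheck el_gens c p reps k4_nodes data = true) {l : List ℕ} (hl : l ∈ k4_nodes)
    (hgood : GoodPerm (compL c l)) (hp : p (compL c l) = true) :
    ∃ k ∈ M24, ∃ r < reps.length,
      k * permOfList (compL c l) * k⁻¹ = permOfList (reps.getD r idList) := by
  obtain ⟨w, r, hr, he⟩ := conjCheck_sound el_gens c p reps k4_nodes data hcheck l hl hp
  obtain ⟨hwg, hwm⟩ := goodPerm_wordL el_gens_check w
  exact ⟨_, hwm, r, hr, conj_of_compL hwg hgood (goodPerm_getD hreps r) he⟩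

end Cfsg.Agent.Lib.Helper28

namespace Cfsg.Agent.Lib.Helper28

open Cfsg MulAction
open scoped Pointwise

theorem conj_apply_map (k g : Equiv.Perm GolayPt) (x : GolayPt) :
    (k * g * k⁻¹) (k x) = k (g x) := by simp

theorem ptN_ne {i j : ℕ} (hi : i < 24) (hj : j < 24) (hij : i ≠ j) : ptN i ≠ ptN j :=
  fun hc => hij (ptN_inj hi hj hc)

theorem targets4_nodup : [ptN 23, ptN 0, ptN 1, ptN 2].Nodup := by
  simp only [List.nodup_cons, List.mem_cons, List.not_mem_nil, or_false, not_or,
    not_false_eq_true, List.nodup_nil, and_true]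
  exact ⟨⟨ptN_ne (by norm_num) (by norm_num) (by norm_num),
    ptN_ne (by norm_num) (by norm_num) (by norm_num),
    ptN_ne (by norm_num) (by norm_num) (by norm_num)⟩,
    ⟨ptN_ne (by norm_num) (by norm_num) (by norm_num),
    ptN_ne (by norm_num) (by norm_num) (by norm_num)⟩,
    ptN_ne (by norm_num) (by norm_num) (by norm_num)⟩

theorem targets5_nodup : [ptN 23, ptN 0, ptN 1, ptN 2, ptN 3].Nodup := by
  simp only [List.nodup_cons, List.mem_cons, List.not_mem_nil, or_false, not_or,
    not_false_eq_true, List.nodup_nil, and_true]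
  exact ⟨⟨ptN_ne (by norm_num) (by norm_num) (by norm_num),
    ptN_ne (by norm_num) (by norm_num) (by norm_num),
    ptN_ne (by norm_num) (by norm_num) (by norm_num),
    ptN_ne (by norm_num) (by norm_num) (by norm_num)⟩,
    ⟨ptN_ne (by norm_num) (by norm_num) (by norm_num),
    ptN_ne (by norm_num) (by norm_num) (by norm_num),
    ptN_ne (by norm_num) (by norm_num) (by norm_num)⟩,
    ⟨ptN_ne (by norm_num) (by norm_num) (by norm_num),
    ptN_ne (by norm_num) (by norm_num) (by norm_num)⟩,
    ptN_ne (by norm_num) (by norm_num) (by norm_num)⟩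

/-- the common end of the classification: an element of a coset with checked data -/
theorem conj_of_coset {c : List ℕ} {p : List ℕ → Bool} {reps : List (List ℕ)}
    {data : List (List ℕ × ℕ)} (hc : ListM24 c) (hreps : ∀ g ∈ reps, ListM24 g)
    (hcheck : conjCheck el_gens c p reps k4_nodes data = true)
    {g : Equiv.Perm GolayPt} (hg : g ∈ M24)
    (h0 : g (ptN 23) = ptN (c.getD 23 0)) (h1 : g (ptN 0) = ptN (c.getD 0 0))
    (h2 : g (ptN 1) = ptN (c.getD 1 0)) (h3 : g (ptN 2) = ptN (c.getD 2 0))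
    (hp : ∀ y, GoodPerm y → g = permOfList y → p y = true) :
    ∃ k ∈ M24, ∃ r < reps.length, k * g * k⁻¹ = permOfList (reps.getD r idList) := by
  obtain ⟨l, hl, hgood, he⟩ := coset_enum hc hg h0 h1 h2 h3
  obtain ⟨k, hk, r, hr, hconj⟩ := conj_of_data hreps hcheck hl hgood (hp _ hgood he)
  exact ⟨k, hk, r, hr, by rw [he]; exact hconj⟩

theorem isInvL_of {g : Equiv.Perm GolayPt} (hgg : g * g = 1) (y : List ℕ) (hy : GoodPerm y)
    (he : g = permOfList y) : isInvL y = true := by
  unfold isInvL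
  rw [decide_eq_true_iff]
  apply permOfList_injective (goodPerm_compL hy hy) goodPerm_idList
  rw [← permOfList_compL hy hy, ← he, hgg, permOfList_idList]

theorem isOrd3L_of {g : Equiv.Perm GolayPt} (hggg : g * (g * g) = 1) (y : List ℕ)
    (hy : GoodPerm y) (he : g = permOfList y) : isOrd3L y = true := by
  unfold isOrd3L
  rw [decide_eq_true_iff]
  have h2 := goodPerm_compL hy hy
  apply permOfList_injective (goodPerm_compL hy h2) goodPerm_idList
  rw [← permOfList_compL hy h2, ← permOfList_compL hy hy, ← he, hggg, permOfList_idList]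

/-- every involution of `M24` is conjugate to one of the two representatives -/
theorem involution_conj {g : Equiv.Perm GolayPt} (hg : g ∈ M24) (h2 : orderOf g = 2) :
    ∃ k ∈ M24, ∃ r < 2, k * g * k⁻¹ = rep2 r := by
  have hgg : g * g = 1 := by rw [← pow_two, ← h2]; exact pow_orderOf_eq_one g
  have hne : g ≠ 1 := by
    intro h; rw [h, orderOf_one] at h2; norm_num at h2
  obtain ⟨a, ha⟩ : ∃ a, g a ≠ a := by
    by_contra hc
    push_neg at hc
    exact hne (Equiv.ext hc)
  have hgga : ∀ x, g (g x) = x := fun x => by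
    have := congrArg (fun f : Equiv.Perm GolayPt => f x) hgg
    simpa using this
  -- reduce to an element `g'` of one of the two cosets
  suffices hsuff : ∃ k₁ ∈ M24, ∃ k₂ ∈ M24, ∃ r < 2, k₂ * (k₁ * g * k₁⁻¹) * k₂⁻¹ = rep2 r by
    obtain ⟨k₁, hk₁, k₂, hk₂, r, hr, he⟩ := hsuff
    refine ⟨k₂ * k₁, M24.mul_mem hk₂ hk₁, r, hr, ?_⟩
    rw [← he]; group
  by_cases hb : ∃ b, b ≠ a ∧ b ≠ g a ∧ g b ≠ b
  · obtain ⟨b, hba, hbga, hgb⟩ := hb
    have hgba : g b ≠ a := fun h => hbga (by rw [← h, hgga])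
    have hgbga : g b ≠ g a := fun h => hba (g.injective h)
    obtain ⟨k, hk, hmap⟩ := M24_exists_map_list [a, g a, b, g b] [ptN 23, ptN 0, ptN 1, ptN 2]
      (by
        simp only [List.nodup_cons, List.mem_cons, List.not_mem_nil, or_false, not_or,
          not_false_eq_true, List.nodup_nil, and_true]
        exact ⟨⟨Ne.symm ha, Ne.symm hba, Ne.symm hgba⟩, ⟨Ne.symm hbga, Ne.symm hgbga⟩, Ne.symm hgb⟩)
      targets4_nodup rfl (by simp)
    simp only [List.map_cons, List.map_nil, List.cons.injEq, and_true] at hmap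
    obtain ⟨e0, e1, e2, e3⟩ := hmap
    have hg' : k * g * k⁻¹ ∈ M24 := M24.mul_mem (M24.mul_mem hk hg) (M24.inv_mem hk)
    have hgg' : (k * g * k⁻¹) * (k * g * k⁻¹) = 1 := by
      have : (k * g * k⁻¹) * (k * g * k⁻¹) = k * (g * g) * k⁻¹ := by group
      rw [this, hgg]; group
    obtain ⟨k₂, hk₂, r, hr, he⟩ := conj_of_coset el_c2a_check.1 el_rep_check.1 el_c2a_check.2 hg'
      (by rw [← e0, conj_apply_map, e1]; rfl)
      (by rw [← e1, conj_apply_map, hgga, e0]; rfl)
      (by rw [← e2, conj_apply_map, e3]; rfl)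
      (by rw [← e3, conj_apply_map, hgga, e2]; rfl)
      (isInvL_of hgg')
    exact ⟨k, hk, k₂, hk₂, r, hr, he⟩
  · push_neg at hb
    -- two further points, fixed by `g`
    have hcard : 2 ≤ (Finset.univ \ {a, g a} : Finset GolayPt).card := by
      rw [Finset.card_sdiff_of_subset (Finset.subset_univ _), Finset.card_univ,
        Finset.card_pair (Ne.symm ha)]
      decide
    obtain ⟨t, hts, ht2⟩ := Finset.exists_subset_card_eq hcard
    obtain ⟨b, c, hbc, rfl⟩ := Finset.card_eq_two.mp ht2
    have hbm := Finset.mem_sdiff.mp (hts (Finset.mem_insert_self b _))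
    have hcm := Finset.mem_sdiff.mp (hts (Finset.mem_insert_of_mem (Finset.mem_singleton_self c)))
    have hba : b ≠ a := fun h => hbm.2 (by rw [h]; simp)
    have hbga : b ≠ g a := fun h => hbm.2 (by rw [h]; simp)
    have hca : c ≠ a := fun h => hcm.2 (by rw [h]; simp)
    have hcga : c ≠ g a := fun h => hcm.2 (by rw [h]; simp)
    have hgb : g b = b := hb b hba hbga
    have hgc : g c = c := hb c hca hcga
    obtain ⟨k, hk, hmap⟩ := M24_exists_map_list [a, g a, b, c] [ptN 23, ptN 0, ptN 1, ptN 2]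
      (by
        simp only [List.nodup_cons, List.mem_cons, List.not_mem_nil, or_false, not_or,
          not_false_eq_true, List.nodup_nil, and_true]
        exact ⟨⟨Ne.symm ha, Ne.symm hba, Ne.symm hca⟩, ⟨Ne.symm hbga, Ne.symm hcga⟩, hbc⟩)
      targets4_nodup rfl (by simp)
    simp only [List.map_cons, List.map_nil, List.cons.injEq, and_true] at hmap
    obtain ⟨e0, e1, e2, e3⟩ := hmap
    have hg' : k * g * k⁻¹ ∈ M24 := M24.mul_mem (M24.mul_mem hk hg) (M24.inv_mem hk)
    have hgg' : (k * g * k⁻¹) * (k * g * k⁻¹) = 1 := by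
      have : (k * g * k⁻¹) * (k * g * k⁻¹) = k * (g * g) * k⁻¹ := by group
      rw [this, hgg]; group
    obtain ⟨k₂, hk₂, r, hr, he⟩ := conj_of_coset el_c2b_check.1 el_rep_check.1 el_c2b_check.2 hg'
      (by rw [← e0, conj_apply_map, e1]; rfl)
      (by rw [← e1, conj_apply_map, hgga, e0]; rfl)
      (by rw [← e2, conj_apply_map, hgb, e2]; rfl)
      (by rw [← e3, conj_apply_map, hgc, e3]; rfl)
      (isInvL_of hgg')
    exact ⟨k, hk, k₂, hk₂, r, hr, he⟩

end Cfsg.Agent.Lib.Helper28

namespace Cfsg.Agent.Lib.Helper28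

open Cfsg MulAction
open scoped Pointwise

/-- every element of order three of `M24` is conjugate to one of the two representatives -/
theorem order_three_conj {g : Equiv.Perm GolayPt} (hg : g ∈ M24) (h3 : orderOf g = 3) :
    ∃ k ∈ M24, ∃ r < 2, k * g * k⁻¹ = rep3 r := by
  have hggg : g * (g * g) = 1 := by
    have := pow_orderOf_eq_one g
    rw [h3, pow_succ, pow_two] at this
    rw [← this]; group
  have hne : g ≠ 1 := by
    intro h; rw [h, orderOf_one] at h3; norm_num at h3
  obtain ⟨a, ha⟩ : ∃ a, g a ≠ a := by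
    by_contra hc
    push_neg at hc
    exact hne (Equiv.ext hc)
  have hg3 : ∀ x, g (g (g x)) = x := fun x => by
    have := congrArg (fun f : Equiv.Perm GolayPt => f x) hggg
    simpa using this
  have hgga : g (g a) ≠ a := by
    intro h
    apply ha
    have := hg3 a
    rw [h] at this
    exact this
  have hggga : g (g a) ≠ g a := fun h => ha (g.injective h)
  suffices hsuff : ∃ k₁ ∈ M24, ∃ k₂ ∈ M24, ∃ r < 2, k₂ * (k₁ * g * k₁⁻¹) * k₂⁻¹ = rep3 r by
    obtain ⟨k₁, hk₁, k₂, hk₂, r, hr, he⟩ := hsuff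
    refine ⟨k₂ * k₁, M24.mul_mem hk₂ hk₁, r, hr, ?_⟩
    rw [← he]; group
  have hconj3 : ∀ k : Equiv.Perm GolayPt,
      (k * g * k⁻¹) * ((k * g * k⁻¹) * (k * g * k⁻¹)) = 1 := by
    intro k
    have : (k * g * k⁻¹) * ((k * g * k⁻¹) * (k * g * k⁻¹)) = k * (g * (g * g)) * k⁻¹ := by group
    rw [this, hggg]; group
  by_cases hb : ∃ b, b ≠ a ∧ b ≠ g a ∧ b ≠ g (g a) ∧ g b ≠ b
  · obtain ⟨b, hba, hbga, hbgga, hgb⟩ := hb
    have hgba : g b ≠ a := by
      intro h
      apply hbgga
      apply g.injective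
      rw [h, hg3]
    have hgbga : g b ≠ g a := fun h => hba (g.injective h)
    have hgbgga : g b ≠ g (g a) := fun h => hbga (g.injective h)
    obtain ⟨k, hk, hmap⟩ := M24_exists_map_list [a, g a, g (g a), b, g b]
      [ptN 23, ptN 0, ptN 1, ptN 2, ptN 3]
      (by
        simp only [List.nodup_cons, List.mem_cons, List.not_mem_nil, or_false, not_or,
          not_false_eq_true, List.nodup_nil, and_true]
        exact ⟨⟨Ne.symm ha, Ne.symm hgga, Ne.symm hba, Ne.symm hgba⟩,
          ⟨Ne.symm hggga, Ne.symm hbga, Ne.symm hgbga⟩, ⟨Ne.symm hbgga, Ne.symm hgbgga⟩,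
          Ne.symm hgb⟩)
      targets5_nodup rfl (by simp)
    simp only [List.map_cons, List.map_nil, List.cons.injEq, and_true] at hmap
    obtain ⟨e0, e1, e2, e3, e4⟩ := hmap
    have hg' : k * g * k⁻¹ ∈ M24 := M24.mul_mem (M24.mul_mem hk hg) (M24.inv_mem hk)
    obtain ⟨k₂, hk₂, r, hr, he⟩ := conj_of_coset el_c3a_check.1 el_rep_check.2 el_c3a_check.2 hg'
      (by rw [← e0, conj_apply_map, e1]; rfl)
      (by rw [← e1, conj_apply_map, e2]; rfl)
      (by rw [← e2, conj_apply_map, hg3, e0]; rfl)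
      (by rw [← e3, conj_apply_map, e4]; rfl)
      (isOrd3L_of (hconj3 k))
    exact ⟨k, hk, k₂, hk₂, r, hr, he⟩
  · push_neg at hb
    have hcard : 1 ≤ (Finset.univ \ {a, g a, g (g a)} : Finset GolayPt).card := by
      rw [Finset.card_sdiff_of_subset (Finset.subset_univ _), Finset.card_univ]
      have : ({a, g a, g (g a)} : Finset GolayPt).card ≤ 3 := Finset.card_le_three
      have h24 : Fintype.card GolayPt = 24 := rfl
      omega
    obtain ⟨b, hbm⟩ := Finset.card_pos.mp hcard
    have hbm' := (Finset.mem_sdiff.mp hbm).2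
    have hba : b ≠ a := fun h => hbm' (by rw [h]; simp)
    have hbga : b ≠ g a := fun h => hbm' (by rw [h]; simp)
    have hbgga : b ≠ g (g a) := fun h => hbm' (by rw [h]; simp)
    have hgb : g b = b := hb b hba hbga hbgga
    obtain ⟨k, hk, hmap⟩ := M24_exists_map_list [a, g a, g (g a), b]
      [ptN 23, ptN 0, ptN 1, ptN 2]
      (by
        simp only [List.nodup_cons, List.mem_cons, List.not_mem_nil, or_false, not_or,
          not_false_eq_true, List.nodup_nil, and_true]
        exact ⟨⟨Ne.symm ha, Ne.symm hgga, Ne.symm hba⟩,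
          ⟨Ne.symm hggga, Ne.symm hbga⟩, Ne.symm hbgga⟩)
      targets4_nodup rfl (by simp)
    simp only [List.map_cons, List.map_nil, List.cons.injEq, and_true] at hmap
    obtain ⟨e0, e1, e2, e3⟩ := hmap
    have hg' : k * g * k⁻¹ ∈ M24 := M24.mul_mem (M24.mul_mem hk hg) (M24.inv_mem hk)
    obtain ⟨k₂, hk₂, r, hr, he⟩ := conj_of_coset el_c3b_check.1 el_rep_check.2 el_c3b_check.2 hg'
      (by rw [← e0, conj_apply_map, e1]; rfl)
      (by rw [← e1, conj_apply_map, e2]; rfl)
      (by rw [← e2, conj_apply_map, hg3, e0]; rfl)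
      (by rw [← e3, conj_apply_map, hgb, e3]; rfl)
      (isOrd3L_of (hconj3 k))
    exact ⟨k, hk, k₂, hk₂, r, hr, he⟩

end Cfsg.Agent.Lib.Helper28
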