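import Cfsg.Agent.Lib.Helper28.ElemModel

set_option autoImplicit false

/-!
Fixed points and fixed objects of permutations coded by image lists: the set of fixed points,
the order, enumeration of an invariant set of objects by a certificate, and the count of the
objects fixed by a permutation.
-/

namespace Cfsg.Agent.Lib.Helper28

open Cfsg MulAction
open scoped Pointwise

/-- the fixed points of a conjugate -/
theorem fix_conj (k g : Equiv.Perm GolayPt) :
    (Finset.univ.filter fun p => (k * g * k⁻¹) p = p) =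
      k • (Finset.univ.filter fun p => g p = p) := by
  ext p
  rw [← Finset.inv_smul_mem_iff, Finset.mem_filter, Finset.mem_filter]
  simp only [Finset.mem_univ, true_and, Equiv.Perm.mul_apply, Equiv.Perm.smul_def]
  constructor
  · intro h
    have := congrArg (fun x => k⁻¹ x) h
    simpa using this
  · intro h
    have h' : g (k⁻¹ p) = k⁻¹ p := h
    rw [h']; simp

/-- the coded fixed points of an image list -/
def fixL (l : List ℕ) : List ℕ := (List.range 24).filter (fun a => decide (l.getD a 0 = a))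

theorem goodSet_fixL (l : List ℕ) : GoodSet (fixL l) :=
  ⟨(List.nodup_range).filter _, fun a ha => List.mem_range.mp (List.mem_filter.mp ha).1⟩

theorem fix_permOfList {l : List ℕ} (hl : GoodPerm l) :
    (Finset.univ.filter fun p => permOfList l p = p) = ptSet (fixL l) := by
  ext p
  rw [Finset.mem_filter, mem_ptSet]
  simp only [Finset.mem_univ, true_and]
  constructor
  · intro h
    refine ⟨(ptInv p).val, ?_, ptN_ptInv p⟩
    unfold fixL
    rw [List.mem_filter, List.mem_range, decide_eq_true_iff]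
    refine ⟨(ptInv p).2, ?_⟩
    rw [permOfList_apply hl] at h
    unfold listFun at h
    have h2 : ptN (l.getD (ptInv p).val 0) = ptN (ptInv p).val := by rw [h, ptN_ptInv]
    exact ptN_inj (getD_lt hl (ptInv p).2) (ptInv p).2 h2
  · rintro ⟨a, ha, rfl⟩
    unfold fixL at ha
    rw [List.mem_filter, List.mem_range, decide_eq_true_iff] at ha
    rw [permOfList_ptN hl ha.1, ha.2]

theorem fixedPointFree_permOfList {l : List ℕ} (hl : GoodPerm l) (h : fixL l = []) :
    ∀ p, permOfList l p ≠ p := by
  intro p hp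
  have : p ∈ (Finset.univ.filter fun p => permOfList l p = p) := by
    rw [Finset.mem_filter]; exact ⟨Finset.mem_univ _, hp⟩
  rw [fix_permOfList hl, h] at this
  simp [ptSet] at this

theorem orderOf_permOfList {l : List ℕ} (hl : GoodPerm l) (p : ℕ) [hp : Fact p.Prime]
    (hne : l ≠ idList) (hpow : permOfList l ^ p = 1) : orderOf (permOfList l) = p := by
  apply orderOf_eq_prime hpow
  intro h
  apply hne
  apply permOfList_injective hl goodPerm_idList
  rw [h, permOfList_idList]

theorem actsBy_permOfList {l : List ℕ} (hl : GoodPerm l) {t : ℕ}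
    (h : ∀ a : Fin 24, look t a.val = l.getD a.val 0) : ActsBy (permOfList l) t := by
  intro a ha
  have := h ⟨a, ha⟩
  simp only at this
  rw [this]
  exact ⟨getD_lt hl ha, permOfList_ptN hl ha⟩

/-! ### enumeration of invariant sets of objects -/

theorem CertModel.enum_of_cert {X Y : Type} [MulAction (Equiv.Perm GolayPt) Y]
    (M : CertModel X Y) (tabs : List ℕ) (hgens : ∀ t ∈ tabs, ∃ g ∈ M24, ActsBy g t) (F : Set Y)
    (hFinv : ∀ g ∈ M24, ∀ y ∈ F, g • y ∈ F) (N : ℕ) (hN : F.ncard = N) (hfin : F.Finite)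
    (root : X) (hroot : M.Good root) (hX : M.sem root ∈ F) (cert : List (List ℕ))
    (hcheck : distinctAux ((M.nodes tabs root cert).map M.code) 0 = true)
    (hlen : (M.nodes tabs root cert).length = N) :
    (∀ x ∈ M.nodes tabs root cert, M.Good x) ∧ ((M.nodes tabs root cert).map M.sem).Nodup ∧
      ∀ y, y ∈ F ↔ ∃ x ∈ M.nodes tabs root cert, M.sem x = y := by
  classical
  set nodes := M.nodes tabs root cert with hnodes
  have hs := M.nodes_sound M24 tabs hgens root hroot cert
  have hgood : ∀ x ∈ nodes, M.Good x := fun x hx => (hs x hx).1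
  have hnd : (nodes.map M.sem).Nodup := M.sem_nodup nodes hgood hcheck
  have hmemF : ∀ x ∈ nodes, M.sem x ∈ F := by
    intro x hx
    obtain ⟨_, g, hg, hgx⟩ := hs x hx
    rw [← hgx]
    exact hFinv g hg _ hX
  have hsub : ((nodes.map M.sem).toFinset : Set Y) ⊆ F := by
    intro y hy
    rw [Finset.mem_coe, List.mem_toFinset, List.mem_map] at hy
    obtain ⟨x, hx, rfl⟩ := hy
    exact hmemF x hx
  have heq : ((nodes.map M.sem).toFinset : Set Y) = F := by
    apply Set.eq_of_subset_of_ncard_le hsub _ hfin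
    rw [Set.ncard_coe_finset, List.toFinset_card_of_nodup hnd, List.length_map, hlen, hN]
  refine ⟨hgood, hnd, fun y => ?_⟩
  rw [← heq, Finset.mem_coe, List.mem_toFinset, List.mem_map]

/-- the number of objects fixed by a permutation, computed on codes -/
theorem CertModel.ncard_fixed {X Y : Type} [MulAction (Equiv.Perm GolayPt) Y]
    (M : CertModel X Y) (nodes : List X) (hgood : ∀ x ∈ nodes, M.Good x)
    (hnd : (nodes.map M.sem).Nodup) (F : Set Y) (hF : ∀ y, y ∈ F ↔ ∃ x ∈ nodes, M.sem x = y)
    (g : Equiv.Perm GolayPt) (t : ℕ) (hact : ActsBy g t) (eqB : X → X → Bool)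
    (heqB : ∀ x x', M.Good x → M.Good x' → (eqB x x' = true ↔ M.sem x = M.sem x')) :
    {y | y ∈ F ∧ g • y = y}.ncard = (nodes.filter (fun x => eqB (M.step t x) x)).length := by
  classical
  have hset : {y | y ∈ F ∧ g • y = y} =
      (((nodes.filter (fun x => eqB (M.step t x) x)).map M.sem).toFinset : Set Y) := by
    ext y
    rw [Finset.mem_coe, List.mem_toFinset, List.mem_map]
    constructor
    · rintro ⟨hyF, hgy⟩
      obtain ⟨x, hx, rfl⟩ := (hF y).mp hyF
      refine ⟨x, List.mem_filter.mpr ⟨hx, ?_⟩, rfl⟩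
      obtain ⟨h1, h2⟩ := M.smul_sem g t x hact (hgood x hx)
      rw [heqB _ _ h2 (hgood x hx), ← h1]
      exact hgy
    · rintro ⟨x, hx, rfl⟩
      obtain ⟨hx1, hx2⟩ := List.mem_filter.mp hx
      obtain ⟨h1, h2⟩ := M.smul_sem g t x hact (hgood x hx1)
      refine ⟨(hF _).mpr ⟨x, hx1, rfl⟩, ?_⟩
      rw [h1]
      exact (heqB _ _ h2 (hgood x hx1)).mp hx2
  rw [hset, Set.ncard_coe_finset, List.toFinset_card_of_nodup, List.length_map]
  exact (List.Sublist.map _ List.filter_sublist).nodup hnd

/-- conjugation does not change the number of fixed objects of an invariant set -/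
theorem ncard_fixed_conj {Y : Type*} [MulAction (Equiv.Perm GolayPt) Y] (F : Set Y)
    (k g : Equiv.Perm GolayPt) (hk : ∀ y ∈ F, k • y ∈ F) (hk' : ∀ y ∈ F, k⁻¹ • y ∈ F) :
    {y | y ∈ F ∧ (k * g * k⁻¹) • y = y}.ncard = {y | y ∈ F ∧ g • y = y}.ncard := by
  have : {y | y ∈ F ∧ (k * g * k⁻¹) • y = y} = (fun y => k • y) '' {y | y ∈ F ∧ g • y = y} := by
    ext y
    constructor
    · rintro ⟨hyF, hy⟩
      refine ⟨k⁻¹ • y, ⟨hk' y hyF, ?_⟩, smul_inv_smul k y⟩
      rw [mul_smul, mul_smul] at hy
      have := congrArg (fun z => k⁻¹ • z) hy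
      simpa using this
    · rintro ⟨y, ⟨hyF, hy⟩, rfl⟩
      refine ⟨hk y hyF, ?_⟩
      rw [mul_smul, mul_smul, inv_smul_smul, hy]
  rw [this, Set.ncard_image_of_injective _ (MulAction.injective k)]

end Cfsg.Agent.Lib.Helper28
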