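import Mathlib
import Cfsg.Prelude.Def_Blocks
import Cfsg.Prelude.Def_BlockRank

/-!
# S4640 farm, leaf [L] (helper28): equality of the `p`-regular ranks

Extension by zero from `N` to `G` is an injective linear map carrying the `p`-regular part of
`θ` to the `p`-regular part of any `χ` restricting to `θ` (all `p`-regular elements lie in `N`).
-/

set_option autoImplicit false

namespace Cfsg.Agent.Lib.Helper24.PIdx

open Cfsg

namespace Helper28

variable {G : Type*} [Group G]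

/-- extension by zero of a function on a subgroup -/
noncomputable def extZero (N : Subgroup G) : (N → ℂ) →ₗ[ℂ] (G → ℂ) where
  toFun h := fun g => by classical exact if hg : g ∈ N then h ⟨g, hg⟩ else 0
  map_add' h₁ h₂ := by
    funext g
    by_cases hg : g ∈ N <;> simp [hg]
  map_smul' c h := by
    funext g
    by_cases hg : g ∈ N <;> simp [hg]

theorem extZero_apply_mem (N : Subgroup G) (h : N → ℂ) (g : G) (hg : g ∈ N) :
    extZero N h g = h ⟨g, hg⟩ := by
  simp [extZero, hg]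

theorem extZero_apply_not_mem (N : Subgroup G) (h : N → ℂ) (g : G) (hg : g ∉ N) :
    extZero N h g = 0 := by
  simp [extZero, hg]

theorem extZero_injective (N : Subgroup G) : Function.Injective (extZero N) := by
  intro h₁ h₂ h
  funext n
  have := congrFun h (n : G)
  rw [extZero_apply_mem N h₁ n n.2, extZero_apply_mem N h₂ n n.2] at this
  simpa using this

theorem isPRegular_coe_iff (p : ℕ) (N : Subgroup G) (n : N) :
    Cfsg.IsPRegular p (n : G) ↔ Cfsg.IsPRegular p n := by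
  unfold Cfsg.IsPRegular
  rw [Subgroup.orderOf_coe]

theorem extZero_pRegularPart (p : ℕ) (N : Subgroup G)
    (hreg : ∀ g : G, Cfsg.IsPRegular p g → g ∈ N)
    (χ : G → ℂ) (θ : N → ℂ) (h : ∀ n : N, χ n = θ n) :
    extZero N (Cfsg.pRegularPart p θ) = Cfsg.pRegularPart p χ := by
  classical
  funext g
  by_cases hg : g ∈ N
  · rw [extZero_apply_mem N _ g hg]
    unfold Cfsg.pRegularPart
    by_cases hr : Cfsg.IsPRegular p g
    · have hr' : Cfsg.IsPRegular p (⟨g, hg⟩ : N) := (isPRegular_coe_iff p N ⟨g, hg⟩).1 hr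
      simp only [hr, hr', if_true]
      exact (h ⟨g, hg⟩).symm
    · have hr' : ¬ Cfsg.IsPRegular p (⟨g, hg⟩ : N) := fun h' =>
        hr ((isPRegular_coe_iff p N ⟨g, hg⟩).2 h')
      simp only [hr, hr', if_false]
  · rw [extZero_apply_not_mem N _ g hg]
    unfold Cfsg.pRegularPart
    have hr : ¬ Cfsg.IsPRegular p g := fun h' => hg (hreg g h')
    simp only [hr, if_false]

theorem blockRank_eq_aux {p : ℕ} (N : Subgroup G)
    (hreg : ∀ g : G, Cfsg.IsPRegular p g → g ∈ N)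
    (b : Set (Cfsg.IrrCharacter N)) (B : Set (Cfsg.IrrCharacter G))
    (h3 : ∀ χ ∈ B, ∃ θ ∈ b, ∀ n : N, (χ : G → ℂ) n = (θ : N → ℂ) n)
    (h4 : ∀ θ ∈ b, ∃ χ ∈ B, ∀ n : N, (χ : G → ℂ) n = (θ : N → ℂ) n) :
    Cfsg.blockRank p B = Cfsg.blockRank p b := by
  unfold Cfsg.blockRank
  set SB : Submodule ℂ (G → ℂ) := Submodule.span ℂ
    ((fun χ : Cfsg.IrrCharacter G => Cfsg.pRegularPart p (χ : G → ℂ)) '' B) with hSB
  set Sb : Submodule ℂ (N → ℂ) := Submodule.span ℂ
    ((fun θ : Cfsg.IrrCharacter N => Cfsg.pRegularPart p (θ : N → ℂ)) '' b) with hSb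
  have hmap : Sb.map (extZero N) = SB := by
    rw [hSb, hSB, Submodule.map_span]
    congr 1
    ext f
    constructor
    · rintro ⟨_, ⟨θ, hθ, rfl⟩, rfl⟩
      obtain ⟨χ, hχ, h⟩ := h4 θ hθ
      exact ⟨χ, hχ, (extZero_pRegularPart p N hreg _ _ h).symm⟩
    · rintro ⟨χ, hχ, rfl⟩
      obtain ⟨θ, hθ, h⟩ := h3 χ hχ
      exact ⟨_, ⟨θ, hθ, rfl⟩, extZero_pRegularPart p N hreg _ _ h⟩
  rw [← hmap]
  exact (Submodule.equivMapOfInjective (extZero N) (extZero_injective N) Sb).finrank_eq.symm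

end Helper28

variable {G : Type*} [Group G] [Fintype G] {p : ℕ} [Fact p.Prime] {M : Ideal Cfsg.AlgInt}

/-- [L] equality of the `p`-regular ranks (spare copy, helper28) -/
theorem Helper28.blockRank_eq_spare (N : Subgroup G) (hreg : ∀ g : G, Cfsg.IsPRegular p g → g ∈ N)
    (b : Set (Cfsg.IrrCharacter N)) (B : Set (Cfsg.IrrCharacter G))
    (h3 : ∀ χ ∈ B, ∃ θ ∈ b, ∀ n : N, (χ : G → ℂ) n = (θ : N → ℂ) n)
    (h4 : ∀ θ ∈ b, ∃ χ ∈ B, ∀ n : N, (χ : G → ℂ) n = (θ : N → ℂ) n) :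
    Cfsg.blockRank p B = Cfsg.blockRank p b :=
  Helper28.blockRank_eq_aux N hreg b B h3 h4

end Cfsg.Agent.Lib.Helper24.PIdx
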