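import Mathlib

set_option autoImplicit false

/-!
Generic lemmas on stabilizer chains in permutation groups: multiple transitivity from a base with
transitive levels, and the orbit-stabilizer count for subgroups of `Equiv.Perm α`.
-/

namespace Cfsg.Agent.Lib.Helper28

open MulAction

variable {α : Type*}

/-- if every level of the stabilizer chain of a base `b` is transitive on the remaining points,
every injective tuple is the image of the base -/
theorem exists_map_base (H : Subgroup (Equiv.Perm α)) (n : ℕ) (b : Fin n → α)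
    (hlevel : ∀ k : Fin n, ∀ p : α, (∀ j : Fin n, j < k → p ≠ b j) →
      ∃ h ∈ H, (∀ j : Fin n, j < k → h (b j) = b j) ∧ h (b k) = p)
    (x : Fin n ↪ α) : ∃ g ∈ H, ∀ i, g (b i) = x i := by
  have key : ∀ m : ℕ, m ≤ n → ∃ g ∈ H, ∀ i : Fin n, i.val < m → g (b i) = x i := by
    intro m
    induction m with
    | zero => intro _; exact ⟨1, H.one_mem, fun i hi => absurd hi (Nat.not_lt_zero _)⟩
    | succ m ih =>
      intro hm
      obtain ⟨g, hg, hgx⟩ := ih (Nat.le_of_succ_le hm)
      let k : Fin n := ⟨m, hm⟩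
      have hp : ∀ j : Fin n, j < k → g⁻¹ (x k) ≠ b j := by
        intro j hj hcon
        have h1 : g (b j) = x j := hgx j hj
        rw [← hcon] at h1
        simp at h1
        rw [h1] at hj
        exact lt_irrefl _ hj
      obtain ⟨h, hh, hfix, hmap⟩ := hlevel k (g⁻¹ (x k)) hp
      refine ⟨g * h, H.mul_mem hg hh, fun i hi => ?_⟩
      rw [Equiv.Perm.mul_apply]
      rcases Nat.lt_succ_iff_lt_or_eq.mp hi with hlt | heq
      · rw [hfix i hlt, hgx i hlt]
      · have hik : i = k := Fin.ext heq
        rw [hik, hmap]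
        simp
  obtain ⟨g, hg, hgx⟩ := key n le_rfl
  exact ⟨g, hg, fun i => hgx i i.2⟩

/-- multiple transitivity from a base with transitive levels -/
theorem isMultiplyPretransitive_of_base (H : Subgroup (Equiv.Perm α)) (n : ℕ) (b : Fin n → α)
    (hlevel : ∀ k : Fin n, ∀ p : α, (∀ j : Fin n, j < k → p ≠ b j) →
      ∃ h ∈ H, (∀ j : Fin n, j < k → h (b j) = b j) ∧ h (b k) = p) :
    IsMultiplyPretransitive H α n := by
  rw [isMultiplyPretransitive_iff]
  intro x y
  obtain ⟨g, hg, hgx⟩ := exists_map_base H n b hlevel x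
  obtain ⟨g', hg', hgy⟩ := exists_map_base H n b hlevel y
  refine ⟨⟨g' * g⁻¹, H.mul_mem hg' (H.inv_mem hg)⟩, ?_⟩
  ext i
  show (g' * g⁻¹) (x i) = y i
  rw [Equiv.Perm.mul_apply, ← hgx i]
  simp [hgy i]

/-- orbit-stabilizer for a subgroup of a permutation group -/
theorem card_eq_orbit_mul_card_inf_stabilizer [Finite α] (H : Subgroup (Equiv.Perm α)) (p : α) :
    Nat.card H = (orbit H p).ncard * Nat.card (H ⊓ stabilizer (Equiv.Perm α) p : Subgroup _) := by
  have h1 : Nat.card (stabilizer H p) * (stabilizer H p).index = Nat.card H :=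
    Subgroup.card_mul_index _
  have h2 : Nat.card (stabilizer H p) =
      Nat.card (H ⊓ stabilizer (Equiv.Perm α) p : Subgroup (Equiv.Perm α)) := by
    apply Nat.card_congr
    refine ⟨fun g => ⟨g.1.1, ⟨g.1.2, ?_⟩⟩, fun g => ⟨⟨g.1, g.2.1⟩, ?_⟩, fun g => rfl, fun g => rfl⟩
    · exact g.2
    · exact g.2.2
  rw [← h2, ← h1, MulAction.index_stabilizer, mul_comm]

end Cfsg.Agent.Lib.Helper28
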