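import Cfsg.Agent.Lib.Helper28.M24Trans
import Cfsg.Agent.Lib.Helper28.PermChain

set_option autoImplicit false

/-!
`Cfsg.M24` is 5-transitive on the 24 points; so is the subgroup generated by the three standard
generators.
-/

namespace Cfsg.Agent.Lib.Helper28

open Cfsg MulAction

/-- the first five base points -/
def m24base5 (i : Fin 5) : GolayPt := Helper4.pt (m24base (Fin.castLE (by norm_num) i))

theorem m24omega_of_ne : ∀ (k : Fin 5) (a : Fin 24),
    (∀ j : Fin 5, j < k → a ≠ m24base (Fin.castLE (by norm_num) j)) →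
      (m24omega (Fin.castLE (by norm_num) k)).testBit a.val = true := by
  decide +kernel

theorem m24_level5 (H : Subgroup (Equiv.Perm GolayPt)) (hH : Subgroup.closure m24gens ≤ H) :
    ∀ k : Fin 5, ∀ p : GolayPt, (∀ j : Fin 5, j < k → p ≠ m24base5 j) →
      ∃ h ∈ H, (∀ j : Fin 5, j < k → h (m24base5 j) = m24base5 j) ∧ h (m24base5 k) = p := by
  intro k p hp
  obtain ⟨a, rfl⟩ := Helper4.pt_bijective.2 p
  have ha : ∀ j : Fin 5, j < k → a ≠ m24base (Fin.castLE (by norm_num) j) := by
    intro j hj hcon
    exact hp j hj (by rw [hcon]; rfl)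
  obtain ⟨g, hg, hfix, hmap⟩ := m24_level (Fin.castLE (by norm_num) k) a (m24omega_of_ne k a ha)
  refine ⟨g, hH hg, fun j hj => ?_, hmap⟩
  exact hfix (Fin.castLE (by norm_num) j) (by
    rw [Fin.lt_def] at hj ⊢
    exact hj)

theorem closure_m24gens_isMultiplyPretransitive :
    IsMultiplyPretransitive (Subgroup.closure m24gens) GolayPt 5 :=
  isMultiplyPretransitive_of_base _ 5 m24base5 (m24_level5 _ le_rfl)

theorem M24_isMultiplyPretransitive : IsMultiplyPretransitive M24 GolayPt 5 :=
  isMultiplyPretransitive_of_base _ 5 m24base5 (m24_level5 _ m24gens_closure_le)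

/-- any injective 5-tuple is the image of the base 5-tuple under an element of `M24` -/
theorem M24_exists_map_base (x : Fin 5 ↪ GolayPt) : ∃ g ∈ M24, ∀ i, g (m24base5 i) = x i :=
  exists_map_base M24 5 m24base5 (m24_level5 _ m24gens_closure_le) x

end Cfsg.Agent.Lib.Helper28
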