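import Cfsg.Agent.Lib.Helper28.M24Multi
import Cfsg.Agent.Lib.Helper28.Octads
import Cfsg.Agent.Lib.Helper28.M24Act
import Cfsg.Prelude.Def_SporadicCombinatorics

set_option autoImplicit false

/-!
Sextets of the length-24 code: every 4-set lies in exactly one sextet, there are 1771 sextets,
and `Cfsg.M24` permutes them transitively.
-/

namespace Cfsg.Agent.Lib.Helper28

open Cfsg MulAction
open scoped Pointwise

/-- the sextet containing a given 4-set -/
noncomputable def sextetThrough (t : Finset GolayPt) : Finset (Finset GolayPt) :=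
  sextetOf golayCode t

theorem sextetThrough_mem {t : Finset GolayPt} (ht : t.card = 4) :
    sextetThrough t ∈ sextets ∧ t ∈ sextetThrough t := by
  have hC := golayCode_isGolayLike
  obtain ⟨h6, h4, _⟩ := hC.sextetOf_structure ht
  have hself0 := @self_mem_sextetOf GolayPt _ _ golayCode t
  have hself := hself0 ht
  refine ⟨⟨h6, h4, ?_⟩, hself⟩
  intro u hu v hv hne
  rw [mem_octads_iff]
  have h1 := hC.sextetOf_union ht (U := u) (V := v)
  exact h1 hu hv hne

theorem eq_sextetThrough {S : Finset (Finset GolayPt)} (hS : S ∈ sextets) {t : Finset GolayPt}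
    (ht : t ∈ S) : S = sextetThrough t := by
  have hC := golayCode_isGolayLike
  obtain ⟨h6, h4, hun⟩ := hS
  have ht4 := h4 t ht
  obtain ⟨h6', _, _⟩ := hC.sextetOf_structure ht4
  apply Finset.eq_of_subset_of_card_le
  · intro u hu
    by_cases hut : u = t
    · have hself0 := @self_mem_sextetOf GolayPt _ _ golayCode t
      have hself := hself0 ht4
      rw [hut]; exact hself
    · unfold sextetThrough
      rw [mem_sextetOf]
      refine ⟨(h4 u hu).le, ?_⟩
      have hoct := hun u hu t ht hut
      rw [mem_octads_iff] at hoct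
      have hd : Disjoint u t := by
        rw [Finset.disjoint_iff_inter_eq_empty, ← Finset.card_eq_zero]
        have := Finset.card_union_add_card_inter u t
        rw [hoct.2, h4 u hu, ht4] at this
        omega
      rw [← bind_union_of_disjoint hd]
      exact hoct.1
  · unfold sextetThrough
    rw [h6, h6']

theorem existsUnique_sextet {t : Finset GolayPt} (ht : t.card = 4) :
    ∃! S : Finset (Finset GolayPt), S ∈ sextets ∧ t ∈ S :=
  ⟨sextetThrough t, sextetThrough_mem ht, fun _ hS => eq_sextetThrough hS.1 hS.2⟩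

/-- the sextets as a finite set -/
noncomputable def sextetsF : Finset (Finset (Finset GolayPt)) :=
  (Set.toFinite sextets).toFinset

theorem mem_sextetsF {S : Finset (Finset GolayPt)} : S ∈ sextetsF ↔ S ∈ sextets := by
  unfold sextetsF
  rw [Set.Finite.mem_toFinset]

theorem ncard_sextets : sextets.ncard = 1771 := by
  classical
  have h1 : Finset.powersetCard 4 (Finset.univ : Finset GolayPt) = sextetsF.biUnion id := by
    ext t
    rw [Finset.mem_powersetCard, Finset.mem_biUnion]
    constructor
    · rintro ⟨_, ht⟩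
      exact ⟨sextetThrough t, mem_sextetsF.mpr (sextetThrough_mem ht).1, (sextetThrough_mem ht).2⟩
    · rintro ⟨S, hS, ht⟩
      rw [mem_sextetsF] at hS
      exact ⟨Finset.subset_univ _, hS.2.1 t ht⟩
  have h2 : (sextetsF.biUnion id).card = ∑ S ∈ sextetsF, 6 := by
    rw [Finset.card_biUnion]
    · apply Finset.sum_congr rfl
      intro S hS
      rw [mem_sextetsF] at hS
      exact hS.1
    · intro S hS S' hS' hne
      rw [Finset.mem_coe, mem_sextetsF] at hS hS'
      show Disjoint S S'
      rw [Finset.disjoint_left]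
      intro t ht ht'
      exact hne ((eq_sextetThrough hS ht).trans (eq_sextetThrough hS' ht').symm)
  rw [← h1, Finset.card_powersetCard, Finset.card_univ, Finset.sum_const, smul_eq_mul] at h2
  have h24 : Fintype.card GolayPt = 24 := rfl
  rw [h24] at h2
  have h3 : sextets.ncard = sextetsF.card := by
    unfold sextetsF
    rw [Set.ncard_eq_toFinset_card _ (Set.toFinite sextets)]
  have h4 : Nat.choose 24 4 = 10626 := by decide
  rw [h3]
  omega

/-- `M24` acts on sextets -/
theorem smul_mem_sextets {g : Equiv.Perm GolayPt} (hg : g ∈ M24) {S : Finset (Finset GolayPt)}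
    (hS : S ∈ sextets) : g • S ∈ sextets := by
  obtain ⟨h6, h4, hun⟩ := hS
  refine ⟨by rw [Finset.card_smul_finset, h6], ?_, ?_⟩
  · intro c hc
    rw [Finset.mem_smul_finset] at hc
    obtain ⟨c0, hc0, rfl⟩ := hc
    rw [Finset.card_smul_finset]
    exact h4 c0 hc0
  · intro c hc c' hc' hne
    rw [Finset.mem_smul_finset] at hc hc'
    obtain ⟨c0, hc0, rfl⟩ := hc
    obtain ⟨c1, hc1, rfl⟩ := hc'
    have hne' : c0 ≠ c1 := fun h => hne (by rw [h])
    rw [← Finset.smul_finset_union]
    exact smul_mem_octads hg (hun c0 hc0 c1 hc1 hne')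

/-- `M24` is transitive on sextets -/
theorem M24_sextet_transitive {S S' : Finset (Finset GolayPt)} (hS : S ∈ sextets)
    (hS' : S' ∈ sextets) : ∃ g ∈ M24, g • S = S' := by
  have hne : ∀ S : Finset (Finset GolayPt), S ∈ sextets → ∃ t, t ∈ S := by
    intro S hS
    have : S.Nonempty := by
      rw [← Finset.card_pos, hS.1]; norm_num
    exact this
  obtain ⟨t, ht⟩ := hne S hS
  obtain ⟨t', ht'⟩ := hne S' hS'
  obtain ⟨g, hg, hgt⟩ := M24_exists_map_set t t' (by rw [hS.2.1 t ht, hS'.2.1 t' ht'])
    (by rw [hS.2.1 t ht]; norm_num)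
  refine ⟨g, hg, ?_⟩
  rw [eq_sextetThrough (smul_mem_sextets hg hS) (Finset.smul_mem_smul_finset ht), hgt]
  exact (eq_sextetThrough hS' ht').symm

end Cfsg.Agent.Lib.Helper28
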