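import Cfsg.Agent.Lib.Helper28.FamCert
import Cfsg.Agent.Lib.Helper28.M24Mask
import Cfsg.Agent.Lib.Helper28.Sextets
import Cfsg.Agent.Lib.Helper28.Trios

set_option autoImplicit false

/-!
Decidable checks on coded sets and families: octads, trios, sextets, invariance under packed
tables; and the packaging of packed tables as elements of stabilizers in `M24`.
-/

namespace Cfsg.Agent.Lib.Helper28

open Cfsg MulAction
open scoped Pointwise

theorem testBit_setCode {l : List ℕ} (hl : l.Nodup) (b : ℕ) :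
    (setCode l).testBit b = true ↔ b ∈ l := by
  unfold setCode
  rw [← List.sum_toFinset _ hl, ← Nat.mem_bitIndices, ← List.mem_toFinset,
    Finset.toFinset_bitIndices_sum_two_pow, List.mem_toFinset]

theorem ptSet_eq_maskSet {l : List ℕ} (hl : GoodSet l) : ptSet l = maskSet (setCode l) := by
  ext x
  rw [mem_ptSet, mem_maskSet, testBit_setCode hl.1]
  constructor
  · rintro ⟨a, ha, rfl⟩
    rw [ptInv_ptN (hl.2 a ha)]; exact ha
  · intro h
    exact ⟨_, h, ptN_ptInv x⟩

theorem ptSet_mem_octads {l : List ℕ} (hl : GoodSet l) (hc : IsCodeMask (setCode l))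
    (h8 : l.length = 8) : ptSet l ∈ octads := by
  rw [mem_octads_iff]
  refine ⟨?_, by rw [card_ptSet hl, h8]⟩
  rw [ptSet_eq_maskSet hl]
  exact bind_maskSet_mem _ hc

theorem ptSet_mem_dodecads {l : List ℕ} (hl : GoodSet l) (hc : IsCodeMask (setCode l))
    (h12 : l.length = 12) : ptSet l ∈ dodecads := by
  rw [mem_dodecads_iff]
  refine ⟨?_, by rw [card_ptSet hl, h12]⟩
  rw [ptSet_eq_maskSet hl]
  exact bind_maskSet_mem _ hc

/-- the coded octads -/
def IsOctadList (l : List ℕ) : Prop := GoodSet l ∧ IsCodeMask (setCode l) ∧ l.length = 8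

instance (l : List ℕ) : Decidable (IsOctadList l) := by unfold IsOctadList; infer_instance

theorem IsOctadList.mem {l : List ℕ} (h : IsOctadList l) : ptSet l ∈ octads :=
  ptSet_mem_octads h.1 h.2.1 h.2.2

/-! ### equality and inclusion checks -/

/-- two lists have the same entries -/
def setEqB (l l' : List ℕ) : Bool := l.all (fun a => l'.contains a) && l'.all (fun a => l.contains a)

theorem ptSet_eq_of_setEqB {l l' : List ℕ} (h : setEqB l l' = true) : ptSet l = ptSet l' := by
  unfold setEqB at h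
  rw [Bool.and_eq_true, List.all_eq_true, List.all_eq_true] at h
  ext x
  rw [mem_ptSet, mem_ptSet]
  constructor
  · rintro ⟨a, ha, rfl⟩
    exact ⟨a, by simpa using h.1 a ha, rfl⟩
  · rintro ⟨a, ha, rfl⟩
    exact ⟨a, by simpa using h.2 a ha, rfl⟩

/-- every set of the first family occurs in the second -/
def famSubB (L L' : List (List ℕ)) : Bool := L.all (fun l => L'.any (fun l' => setEqB l l'))

theorem famSet_subset_of_famSubB {L L' : List (List ℕ)} (h : famSubB L L' = true) :
    famSet L ⊆ famSet L' := by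
  unfold famSubB at h
  rw [List.all_eq_true] at h
  intro s hs
  rw [mem_famSet] at hs ⊢
  obtain ⟨l, hl, rfl⟩ := hs
  have := h l hl
  rw [List.any_eq_true] at this
  obtain ⟨l', hl', he⟩ := this
  exact ⟨l', hl', (ptSet_eq_of_setEqB he).symm⟩

/-! ### Trios and sextets -/

/-- disjointness of coded sets -/
def listDisjoint (l l' : List ℕ) : Prop := ∀ a ∈ l, a ∉ l'

instance (l l' : List ℕ) : Decidable (listDisjoint l l') := by unfold listDisjoint; infer_instance

theorem disjoint_ptSet {l l' : List ℕ} (hl : GoodSet l) (hl' : GoodSet l')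
    (h : listDisjoint l l') : Disjoint (ptSet l) (ptSet l') := by
  rw [Finset.disjoint_left]
  intro x hx hx'
  rw [mem_ptSet] at hx hx'
  obtain ⟨a, ha, rfl⟩ := hx
  obtain ⟨b, hb, hab⟩ := hx'
  have : b = a := ptN_inj (hl'.2 b hb) (hl.2 a ha) hab
  rw [this] at hb
  exact h a ha hb

theorem goodFam_of_disjoint {L : List (List ℕ)} (hgood : ∀ l ∈ L, GoodSet l ∧ l ≠ [])
    (hpw : L.Pairwise listDisjoint) : GoodFam L := by
  refine ⟨fun l hl => (hgood l hl).1, ?_⟩
  show List.Pairwise (· ≠ ·) (L.map ptSet)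
  rw [List.pairwise_map]
  refine List.Pairwise.imp_of_mem ?_ hpw
  intro l l' hl hl' hd heq
  obtain ⟨hg, hne⟩ := hgood l hl
  obtain ⟨a, ha⟩ := List.exists_mem_of_ne_nil l hne
  have h1 : ptN a ∈ ptSet l := mem_ptSet.mpr ⟨a, ha, rfl⟩
  have h2 : Disjoint (ptSet l) (ptSet l') := disjoint_ptSet hg (hgood l' hl').1 hd
  rw [← heq] at h2
  exact (Finset.disjoint_left.mp h2 h1 h1).elim

/-- coded trios -/
def IsTrioList (L : List (List ℕ)) : Prop :=
  L.length = 3 ∧ (∀ l ∈ L, IsOctadList l) ∧ L.Pairwise listDisjoint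

instance (L : List (List ℕ)) : Decidable (IsTrioList L) := by unfold IsTrioList; infer_instance

theorem IsTrioList.goodFam {L : List (List ℕ)} (h : IsTrioList L) : GoodFam L := by
  apply goodFam_of_disjoint _ h.2.2
  intro l hl
  refine ⟨(h.2.1 l hl).1, ?_⟩
  intro he
  have := (h.2.1 l hl).2.2
  rw [he] at this
  simp at this

theorem IsTrioList.mem {L : List (List ℕ)} (h : IsTrioList L) : famSet L ∈ trios := by
  have hg := h.goodFam
  refine ⟨by rw [card_famSet hg, h.1], ?_, ?_⟩
  · intro o ho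
    rw [mem_famSet] at ho
    obtain ⟨l, hl, rfl⟩ := ho
    exact (h.2.1 l hl).mem
  · intro o ho o' ho' hne
    rw [mem_famSet] at ho ho'
    obtain ⟨l, hl, rfl⟩ := ho
    obtain ⟨l', hl', rfl⟩ := ho'
    haveI hsym : Std.Symm (fun l l' : List ℕ => Disjoint (ptSet l) (ptSet l') ∨ ¬ (l ∈ L ∧ l' ∈ L)) := by
      constructor
      intro a b hab
      rcases hab with hab | hab
      · exact Or.inl hab.symm
      · exact Or.inr (fun hc => hab ⟨hc.2, hc.1⟩)
    have hpw : L.Pairwise (fun l l' : List ℕ => Disjoint (ptSet l) (ptSet l') ∨ ¬ (l ∈ L ∧ l' ∈ L)) :=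
      List.Pairwise.imp_of_mem (fun {a b} ha hb hd =>
        Or.inl (disjoint_ptSet (h.2.1 a ha).1 (h.2.1 b hb).1 hd)) h.2.2
    have hne' : l ≠ l' := fun he => hne (by rw [he])
    rcases hpw.forall hl hl' hne' with hd | hd
    · exact hd
    · exact absurd ⟨hl, hl'⟩ hd

/-- coded sextets -/
def IsSextetList (L : List (List ℕ)) : Prop :=
  L.length = 6 ∧ (∀ l ∈ L, GoodSet l ∧ l.length = 4) ∧
    L.Pairwise (fun l l' => listDisjoint l l' ∧ IsCodeMask (setCode (l ++ l')))

instance (L : List (List ℕ)) : Decidable (IsSextetList L) := by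
  unfold IsSextetList; infer_instance

theorem IsSextetList.goodFam {L : List (List ℕ)} (h : IsSextetList L) : GoodFam L := by
  apply goodFam_of_disjoint _ (h.2.2.imp (fun hab => hab.1))
  intro l hl
  refine ⟨(h.2.1 l hl).1, ?_⟩
  intro he
  have := (h.2.1 l hl).2
  rw [he] at this
  simp at this

theorem ptSet_append (l l' : List ℕ) : ptSet (l ++ l') = ptSet l ∪ ptSet l' := by
  unfold ptSet
  rw [List.map_append, List.toFinset_append]

theorem IsSextetList.mem {L : List (List ℕ)} (h : IsSextetList L) : famSet L ∈ sextets := by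
  have hg := h.goodFam
  refine ⟨by rw [card_famSet hg, h.1], ?_, ?_⟩
  · intro t ht
    rw [mem_famSet] at ht
    obtain ⟨l, hl, rfl⟩ := ht
    rw [card_ptSet (h.2.1 l hl).1, (h.2.1 l hl).2]
  · intro o ho o' ho' hne
    rw [mem_famSet] at ho ho'
    obtain ⟨l, hl, rfl⟩ := ho
    obtain ⟨l', hl', rfl⟩ := ho'
    haveI hsym : Std.Symm (fun l l' : List ℕ => ptSet l ∪ ptSet l' ∈ octads ∨ ¬ (l ∈ L ∧ l' ∈ L)) := by
      constructor
      intro a b hab
      rcases hab with hab | hab
      · exact Or.inl (by rw [Finset.union_comm]; exact hab)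
      · exact Or.inr (fun hc => hab ⟨hc.2, hc.1⟩)
    have hpw : L.Pairwise (fun l l' : List ℕ => ptSet l ∪ ptSet l' ∈ octads ∨ ¬ (l ∈ L ∧ l' ∈ L)) := by
      refine List.Pairwise.imp_of_mem ?_ h.2.2
      intro a b ha hb hab
      left
      rw [← ptSet_append]
      apply ptSet_mem_octads _ hab.2
      · rw [List.length_append, (h.2.1 a ha).2, (h.2.1 b hb).2]
      · refine ⟨?_, ?_⟩
        · rw [List.nodup_append]
          refine ⟨(h.2.1 a ha).1.1, (h.2.1 b hb).1.1, ?_⟩
          intro x hx y hy hxy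
          exact hab.1 x hx (hxy ▸ hy)
        · intro x hx
          rcases List.mem_append.mp hx with hx | hx
          · exact (h.2.1 a ha).1.2 x hx
          · exact (h.2.1 b hb).1.2 x hx
    have hne' : l ≠ l' := fun he => hne (by rw [he])
    rcases hpw.forall hl hl' hne' with hd | hd
    · exact hd
    · exact absurd ⟨hl, hl'⟩ hd

/-! ### Packed tables as elements of stabilizers -/

/-- a packed table describes an element of `M24` -/
def TabM24 (t : ℕ) : Prop := TabValid t ∧ TabInj (tabOfNat t) ∧ TabCheck (tabOfNat t)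

instance (t : ℕ) : Decidable (TabM24 t) := by unfold TabM24; infer_instance

theorem TabM24.exists {t : ℕ} (h : TabM24 t) : ∃ g ∈ M24, ActsBy g t :=
  ⟨tabPerm (tabOfNat t) h.2.1, tabPerm_mem_M24 _ _ h.2.2, actsBy_tabPerm t h.1 h.2.1⟩

/-- generators of the stabilizer of a coded family from checks -/
theorem gens_stab_fam (tabs : List ℕ) (L₀ : List (List ℕ)) (hL₀ : GoodFam L₀)
    (h : ∀ t ∈ tabs, TabM24 t ∧ famSubB (stepFam t L₀) L₀ = true) :
    ∀ t ∈ tabs, ∃ g ∈ M24 ⊓ stabilizer (Equiv.Perm GolayPt) (famSet L₀), ActsBy g t := by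
  intro t ht
  obtain ⟨g, hg, hact⟩ := (h t ht).1.exists
  refine ⟨g, Subgroup.mem_inf.mpr ⟨hg, ?_⟩, hact⟩
  rw [mem_stabilizer_iff]
  obtain ⟨h1, h2⟩ := smul_famSet hact hL₀
  rw [h1]
  apply Finset.eq_of_subset_of_card_le (famSet_subset_of_famSubB (h t ht).2)
  rw [card_famSet hL₀, card_famSet h2]
  unfold stepFam
  rw [List.length_map]

/-- generators of the stabilizer of a coded set from checks -/
theorem gens_stab_set (tabs : List ℕ) (l₀ : List ℕ) (hl₀ : GoodSet l₀)
    (h : ∀ t ∈ tabs, TabM24 t ∧ setEqB (stepSet t l₀) l₀ = true) :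
    ∀ t ∈ tabs, ∃ g ∈ M24 ⊓ stabilizer (Equiv.Perm GolayPt) (ptSet l₀), ActsBy g t := by
  intro t ht
  obtain ⟨g, hg, hact⟩ := (h t ht).1.exists
  refine ⟨g, Subgroup.mem_inf.mpr ⟨hg, ?_⟩, hact⟩
  rw [mem_stabilizer_iff, (smul_ptSet hact hl₀).1]
  exact ptSet_eq_of_setEqB (h t ht).2

end Cfsg.Agent.Lib.Helper28
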