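import Cfsg.Agent.Lib.Helper28.CertClasses
import Cfsg.Agent.Lib.Helper28.FamCheck

set_option autoImplicit false

/-!
Classes of an invariant from certificates, for sets `F z` of objects depending equivariantly on
the base object `z`; and stabilizers of a coded set together with one or two coded points.
-/

namespace Cfsg.Agent.Lib.Helper28

open Cfsg MulAction
open scoped Pointwise

theorem classes_of_cert_dep {G A Y V : Type*} [Group G] [MulAction G A] [MulAction G Y]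
    (H : Subgroup G) (Z : A) (F : A → Set Y)
    (hFinv : ∀ g ∈ H, ∀ z, ∀ y ∈ F z, g • y ∈ F (g • z)) (N : ℕ)
    (hN : (F Z).ncard = N) (hfin : (F Z).Finite) {k : ℕ} (X : Fin k → Y) (hX : ∀ i, X i ∈ F Z)
    (Ls : Fin k → List Y) (hnd : ((List.ofFn Ls).flatten).Nodup)
    (hcert : ∀ i, ∀ y ∈ Ls i, ∃ g ∈ H ⊓ stabilizer G Z, g • X i = y)
    (n : Fin k → ℕ) (hn : ∀ i, (Ls i).length = n i) (hsum : ∑ i, n i = N)
    (inv : A → Y → V) (hinv : ∀ g ∈ H, ∀ z y, inv (g • z) (g • y) = inv z y)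
    (hdist : Function.Injective (fun i => inv Z (X i))) (h : G) (hh : h ∈ H) :
    (∀ y ∈ F (h • Z), ∃ i, inv (h • Z) y = inv Z (X i)) ∧
    (∀ i, {y | y ∈ F (h • Z) ∧ inv (h • Z) y = inv Z (X i)}.ncard = n i) ∧
    (∀ y ∈ F (h • Z), ∀ y' ∈ F (h • Z), inv (h • Z) y = inv (h • Z) y' →
      ∃ g ∈ H ⊓ stabilizer G (h • Z), g • y = y') := by
  have hF' : ∀ g ∈ H ⊓ stabilizer G Z, ∀ y ∈ F Z, g • y ∈ F Z := by
    intro g hg y hy
    obtain ⟨hgH, hgZ⟩ := Subgroup.mem_inf.mp hg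
    have hgZ' : g • Z = Z := hgZ
    have := hFinv g hgH Z y hy
    rw [hgZ'] at this
    exact this
  obtain ⟨h1, h2, h3⟩ := classes_of_lists (H ⊓ stabilizer G Z) Z (F Z) hF' N hN hfin X hX Ls hnd
    (fun i y hy => by
      obtain ⟨g, hg, hgy⟩ := hcert i y hy
      exact ⟨g, Subgroup.mem_inf.mpr ⟨hg, (Subgroup.mem_inf.mp hg).2⟩, hgy⟩)
    n hn hsum inv (fun g hg z y => hinv g (Subgroup.mem_inf.mp hg).1 z y) hdist
  have hhi : h⁻¹ ∈ H := H.inv_mem hh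
  have key : ∀ y, inv (h • Z) y = inv Z (h⁻¹ • y) := by
    intro y
    rw [← hinv h⁻¹ hhi (h • Z) y, inv_smul_smul]
  have hback : ∀ y ∈ F (h • Z), h⁻¹ • y ∈ F Z := by
    intro y hy
    have := hFinv h⁻¹ hhi (h • Z) y hy
    rw [inv_smul_smul] at this
    exact this
  refine ⟨?_, ?_, ?_⟩
  · intro y hy
    rw [key]
    exact h1 _ (hback y hy)
  · intro i
    rw [← h2 i]
    have : {y | y ∈ F (h • Z) ∧ inv (h • Z) y = inv Z (X i)} =
        (fun y => h • y) '' {y | y ∈ F Z ∧ inv Z y = inv Z (X i)} := by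
      ext y
      constructor
      · rintro ⟨hyF, hyi⟩
        refine ⟨h⁻¹ • y, ⟨hback y hyF, ?_⟩, smul_inv_smul h y⟩
        rw [← key]; exact hyi
      · rintro ⟨y, ⟨hyF, hyi⟩, rfl⟩
        refine ⟨hFinv _ hh Z y hyF, ?_⟩
        rw [key, inv_smul_smul]; exact hyi
    rw [this, Set.ncard_image_of_injective _ (MulAction.injective h)]
  · intro y hy y' hy' he
    rw [key, key] at he
    obtain ⟨g, hg, hgy⟩ := h3 _ (hback y hy) _ (hback y' hy') he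
    obtain ⟨hgH, hgZ⟩ := Subgroup.mem_inf.mp (Subgroup.mem_inf.mp hg).1
    have hgZ' : g • Z = Z := hgZ
    refine ⟨h * g * h⁻¹, Subgroup.mem_inf.mpr ⟨H.mul_mem (H.mul_mem hh hgH) hhi, ?_⟩, ?_⟩
    · rw [mem_stabilizer_iff, mul_smul, mul_smul, inv_smul_smul, hgZ']
    · rw [mul_smul, mul_smul, hgy, smul_inv_smul]

/-- classes of an invariant from a replayed certificate, dependent version -/
theorem CertModel.classes_dep {X Y : Type} [MulAction (Equiv.Perm GolayPt) Y] (M : CertModel X Y)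
    {A V : Type*} [MulAction (Equiv.Perm GolayPt) A] (Z₀ : A) (tabs : List ℕ)
    (hgens : ∀ t ∈ tabs, ∃ g ∈ M24 ⊓ stabilizer (Equiv.Perm GolayPt) Z₀, ActsBy g t)
    (F : A → Set Y) (hFinv : ∀ g ∈ M24, ∀ z, ∀ y ∈ F z, g • y ∈ F (g • z)) (N : ℕ)
    (hN : (F Z₀).ncard = N)
    (hfin : (F Z₀).Finite) {k : ℕ} (roots : Fin k → X) (hroots : ∀ i, M.Good (roots i))
    (hX : ∀ i, M.sem (roots i) ∈ F Z₀) (certs : Fin k → List (List ℕ)) (sizes : Fin k → ℕ)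
    (hcheck : distinctAux (((List.ofFn fun i => M.nodes tabs (roots i) (certs i)).flatten).map
      M.code) 0 = true)
    (hlen : ∀ i, (M.nodes tabs (roots i) (certs i)).length = sizes i)
    (hsum : ∑ i, sizes i = N)
    (inv : A → Y → V) (hinv : ∀ g ∈ M24, ∀ z y, inv (g • z) (g • y) = inv z y)
    (hdist : Function.Injective (fun i => inv Z₀ (M.sem (roots i))))
    (h : Equiv.Perm GolayPt) (hh : h ∈ M24) :
    (∀ y ∈ F (h • Z₀), ∃ i, inv (h • Z₀) y = inv Z₀ (M.sem (roots i))) ∧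
    (∀ i, {y | y ∈ F (h • Z₀) ∧ inv (h • Z₀) y = inv Z₀ (M.sem (roots i))}.ncard = sizes i) ∧
    (∀ y ∈ F (h • Z₀), ∀ y' ∈ F (h • Z₀), inv (h • Z₀) y = inv (h • Z₀) y' →
      ∃ g ∈ M24 ⊓ stabilizer (Equiv.Perm GolayPt) (h • Z₀), g • y = y') := by
  obtain ⟨h1, h2⟩ := M.main _ tabs hgens roots hroots certs hcheck
  exact classes_of_cert_dep M24 Z₀ F hFinv N hN hfin (fun i => M.sem (roots i)) hX
    (fun i => (M.nodes tabs (roots i) (certs i)).map M.sem) h1 h2 sizes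
    (fun i => by rw [List.length_map]; exact hlen i) hsum inv hinv hdist h hh

/-! ### coded sets with coded points -/

theorem ptN_mem_ptSet {l : List ℕ} (hl : GoodSet l) {a : ℕ} (ha : a < 24) :
    ptN a ∈ ptSet l ↔ a ∈ l := by
  rw [mem_ptSet]
  constructor
  · rintro ⟨b, hb, hab⟩
    rw [← ptN_inj (hl.2 b hb) ha hab]; exact hb
  · intro h
    exact ⟨a, h, rfl⟩

/-- generators of the stabilizer of a coded set and a coded point -/
theorem gens_stab_set_pt (tabs : List ℕ) (l₀ : List ℕ) (hl₀ : GoodSet l₀) (p₀ : ℕ) (hp₀ : p₀ < 24)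
    (h : ∀ t ∈ tabs, TabM24 t ∧ setEqB (stepSet t l₀) l₀ = true ∧ look t p₀ = p₀) :
    ∀ t ∈ tabs, ∃ g ∈ M24 ⊓ stabilizer (Equiv.Perm GolayPt)
      ((ptSet l₀, ptN p₀) : Finset GolayPt × GolayPt), ActsBy g t := by
  intro t ht
  obtain ⟨g, hg, hact⟩ := (h t ht).1.exists
  refine ⟨g, Subgroup.mem_inf.mpr ⟨hg, ?_⟩, hact⟩
  rw [mem_stabilizer_iff, Prod.smul_mk, (smul_ptSet hact hl₀).1, ptSet_eq_of_setEqB (h t ht).2.1]
  congr 1
  rw [Equiv.Perm.smul_def, (hact p₀ hp₀).2, (h t ht).2.2]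

/-- generators of the stabilizer of a coded set and two coded points -/
theorem gens_stab_set_pt2 (tabs : List ℕ) (l₀ : List ℕ) (hl₀ : GoodSet l₀) (p₀ q₀ : ℕ)
    (hp₀ : p₀ < 24) (hq₀ : q₀ < 24)
    (h : ∀ t ∈ tabs, TabM24 t ∧ setEqB (stepSet t l₀) l₀ = true ∧ look t p₀ = p₀ ∧
      look t q₀ = q₀) :
    ∀ t ∈ tabs, ∃ g ∈ M24 ⊓ stabilizer (Equiv.Perm GolayPt)
      ((ptSet l₀, ptN p₀, ptN q₀) : Finset GolayPt × GolayPt × GolayPt), ActsBy g t := by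
  intro t ht
  obtain ⟨g, hg, hact⟩ := (h t ht).1.exists
  refine ⟨g, Subgroup.mem_inf.mpr ⟨hg, ?_⟩, hact⟩
  rw [mem_stabilizer_iff, Prod.smul_mk, Prod.smul_mk, (smul_ptSet hact hl₀).1,
    ptSet_eq_of_setEqB (h t ht).2.1]
  congr 2
  · rw [Equiv.Perm.smul_def, (hact p₀ hp₀).2, (h t ht).2.2.1]
  · rw [Equiv.Perm.smul_def, (hact q₀ hq₀).2, (h t ht).2.2.2]

end Cfsg.Agent.Lib.Helper28
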