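import Cfsg.Agent.Lib.Helper28.M24Octad

set_option autoImplicit false

/-!
The pointwise stabilizer of an octad in `Cfsg.M24` is regular on the sixteen points outside the
octad.
-/

namespace Cfsg.Agent.Lib.Helper28

open Cfsg MulAction
open scoped Pointwise

/-- the pointwise stabilizer of an octad -/
def octadKer (o : Finset GolayPt) : Subgroup (Equiv.Perm GolayPt) :=
  M24 ⊓ fixingSubgroup (Equiv.Perm GolayPt) (o : Set GolayPt)

theorem mem_octadKer {o : Finset GolayPt} {g : Equiv.Perm GolayPt} :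
    g ∈ octadKer o ↔ g ∈ M24 ∧ ∀ x ∈ o, g x = x := by
  unfold octadKer
  rw [Subgroup.mem_inf, mem_fixingSubgroup_iff]
  exact Iff.rfl

theorem octadKer_comm {o : Finset GolayPt} (ho : o ∈ octads) {g k : Equiv.Perm GolayPt}
    (hg : g ∈ octadKer o) (hk : k ∈ octadKer o) : g * k = k * g := by
  have h1 := (octad_fixingSubgroup o ho).2
  have e1 : g * g = 1 := h1 g hg
  have e2 : k * k = 1 := h1 k hk
  have e3 : (g * k) * (g * k) = 1 := h1 _ ((octadKer o).mul_mem hg hk)
  have hg' : g⁻¹ = g := inv_eq_of_mul_eq_one_left e1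
  have hk' : k⁻¹ = k := inv_eq_of_mul_eq_one_left e2
  have : g * k = (g * k)⁻¹ := (inv_eq_of_mul_eq_one_left e3).symm
  rw [this, mul_inv_rev, hg', hk']

theorem baseOctad_compl_mask : ∀ a : Fin 24,
    (8536111 : ℕ).testBit a.val = false ↔ (m24omega 6).testBit a.val = true := by
  decide +kernel

theorem octadKer_base_transitive_aux {p : GolayPt} (hp : p ∉ baseOctad) :
    ∃ k ∈ octadKer baseOctad, k (Helper4.pt (m24base 6)) = p := by
  obtain ⟨a, rfl⟩ := Helper4.pt_bijective.2 p
  unfold baseOctad at hp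
  rw [pt_mem_maskSet, Bool.not_eq_true, baseOctad_compl_mask] at hp
  have h1 := orbit_baseStab (K := M24) m24gens_closure_le le_rfl 6
  have h2 : Helper4.pt a ∈ orbit (baseStab M24 (6 : Fin 7).val) (Helper4.pt (m24base 6)) := by
    rw [h1]
    exact ⟨a, hp, rfl⟩
  obtain ⟨k, hk⟩ := h2
  refine ⟨k.1, ?_, hk⟩
  unfold octadKer
  rw [inf_fixingSubgroup_baseOctad]
  exact k.2

theorem octadKer_base_free {g : Equiv.Perm GolayPt} (hg : g ∈ octadKer baseOctad) {p : GolayPt}
    (hp : p ∉ baseOctad) (hgp : g p = p) : g = 1 := by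
  obtain ⟨k, hk, rfl⟩ := octadKer_base_transitive_aux hp
  have hcomm := octadKer_comm baseOctad_mem hg hk
  have h1 : g (Helper4.pt (m24base 6)) = Helper4.pt (m24base 6) := by
    apply k.injective
    have := congrArg (fun e : Equiv.Perm GolayPt => e (Helper4.pt (m24base 6))) hcomm
    simp only [Equiv.Perm.mul_apply] at this
    rw [← this, hgp]
  have h2 : g ∈ baseStab M24 6 := by
    unfold octadKer at hg
    rwa [inf_fixingSubgroup_baseOctad] at hg
  have h3 : g ∈ baseStab M24 7 := by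
    refine ⟨h2.1, fun j hj => ?_⟩
    by_cases h6 : j.val < 6
    · exact h2.2 j h6
    · have : j = 6 := by
        apply Fin.ext
        have := j.2
        show j.val = 6
        omega
      rw [this]; exact h1
  rw [baseStab_seven le_rfl] at h3
  exact Subgroup.mem_bot.mp h3

/-- conjugating the pointwise stabilizer -/
theorem conj_mem_octadKer_iff {h : Equiv.Perm GolayPt} (hh : h ∈ M24) (g : Equiv.Perm GolayPt)
    (o : Finset GolayPt) : g ∈ octadKer (h • o) ↔ h⁻¹ * g * h ∈ octadKer o :=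
  conj_mem_inf_fixingSubgroup_iff hh g o

/-- the pointwise stabilizer of an octad is transitive on the points outside it -/
theorem octadKer_transitive {o : Finset GolayPt} (ho : o ∈ octads) {p q : GolayPt} (hp : p ∉ o)
    (hq : q ∉ o) : ∃ g ∈ octadKer o, g p = q := by
  obtain ⟨h, hh, rfl⟩ := M24_octad_transitive baseOctad_mem ho
  have hp' : h⁻¹ p ∉ baseOctad := by
    intro hc
    apply hp
    rw [Finset.mem_smul_finset]
    exact ⟨h⁻¹ p, hc, by simp [Equiv.Perm.smul_def]⟩
  have hq' : h⁻¹ q ∉ baseOctad := by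
    intro hc
    apply hq
    rw [Finset.mem_smul_finset]
    exact ⟨h⁻¹ q, hc, by simp [Equiv.Perm.smul_def]⟩
  obtain ⟨k1, hk1, e1⟩ := octadKer_base_transitive_aux hp'
  obtain ⟨k2, hk2, e2⟩ := octadKer_base_transitive_aux hq'
  refine ⟨h * (k2 * k1⁻¹) * h⁻¹, ?_, ?_⟩
  · rw [conj_mem_octadKer_iff hh]
    have : h⁻¹ * (h * (k2 * k1⁻¹) * h⁻¹) * h = k2 * k1⁻¹ := by group
    rw [this]
    exact (octadKer baseOctad).mul_mem hk2 ((octadKer baseOctad).inv_mem hk1)
  · simp only [Equiv.Perm.mul_apply]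
    rw [← e1]
    have : k1⁻¹ (k1 (Helper4.pt (m24base 6))) = Helper4.pt (m24base 6) := by simp
    rw [this, e2]
    simp

/-- a non-identity element of the pointwise stabilizer of an octad fixes no point outside it -/
theorem octadKer_free {o : Finset GolayPt} (ho : o ∈ octads) {g : Equiv.Perm GolayPt}
    (hg : g ∈ octadKer o) {p : GolayPt} (hp : p ∉ o) (hgp : g p = p) : g = 1 := by
  obtain ⟨h, hh, rfl⟩ := M24_octad_transitive baseOctad_mem ho
  have hp' : h⁻¹ p ∉ baseOctad := by
    intro hc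
    apply hp
    rw [Finset.mem_smul_finset]
    exact ⟨h⁻¹ p, hc, by simp [Equiv.Perm.smul_def]⟩
  rw [conj_mem_octadKer_iff hh] at hg
  have h1 : (h⁻¹ * g * h) (h⁻¹ p) = h⁻¹ p := by
    simp only [Equiv.Perm.mul_apply]
    have : h (h⁻¹ p) = p := by simp
    rw [this, hgp]
  have h2 := octadKer_base_free hg hp' h1
  have : g = h * (h⁻¹ * g * h) * h⁻¹ := by group
  rw [this, h2]
  group

theorem card_octadKer {o : Finset GolayPt} (ho : o ∈ octads) : Nat.card (octadKer o) = 16 :=
  (octad_fixingSubgroup o ho).1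

end Cfsg.Agent.Lib.Helper28
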