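import Cfsg.Agent.Lib.Helper28.TabPerm
import Cfsg.Agent.Lib.Helper28.Octads

set_option autoImplicit false

/-!
Fast orbit certificates.  Points are numbered by natural numbers, sets of points are lists of
numbers, families of sets are lists of lists, permutations are tables packed into one natural
number (five bits per entry).  A breadth-first-search certificate (for every node in order of
discovery, the generators producing a new node) is replayed by a structurally recursive function,
and distinctness of the nodes is checked through hash codes collected in a bit set.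
-/

namespace Cfsg.Agent.Lib.Helper28

open Cfsg MulAction
open scoped Pointwise

/-! ### Numbered points and packed tables -/

/-- the point numbered `a` -/
def ptN (a : ℕ) : GolayPt := Helper4.pt (Fin.ofNat 24 a)

theorem ptN_val (a : Fin 24) : ptN a.val = Helper4.pt a := by
  unfold ptN
  congr 1
  apply Fin.ext
  simp [Fin.ofNat, Nat.mod_eq_of_lt a.2]

theorem ptInv_ptN {a : ℕ} (ha : a < 24) : (ptInv (ptN a)).val = a := by
  have := ptN_val ⟨a, ha⟩
  simp only at this
  rw [this, ptInv_pt]

theorem ptN_ptInv (x : GolayPt) : ptN (ptInv x).val = x := by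
  rw [ptN_val, pt_ptInv]

theorem ptN_inj {a b : ℕ} (ha : a < 24) (hb : b < 24) (h : ptN a = ptN b) : a = b := by
  rw [← ptInv_ptN ha, ← ptInv_ptN hb, h]

/-- table lookup: five bits per entry -/
def look (t a : ℕ) : ℕ := (t >>> (5 * a)) % 32

/-- the `Fin`-table of a packed table -/
def tabOfNat (t : ℕ) : Fin 24 → Fin 24 := fun a => Fin.ofNat 24 (look t a.val)

/-- `g` acts on the numbered points through the packed table `t` -/
def ActsBy (g : Equiv.Perm GolayPt) (t : ℕ) : Prop :=
  ∀ a, a < 24 → look t a < 24 ∧ g (ptN a) = ptN (look t a)

/-- the entries of a packed table are below 24 -/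
def TabValid (t : ℕ) : Prop := ∀ a : Fin 24, look t a.val < 24

instance (t : ℕ) : Decidable (TabValid t) := by unfold TabValid; infer_instance

theorem actsBy_tabPerm (t : ℕ) (hv : TabValid t) (hinj : TabInj (tabOfNat t)) :
    ActsBy (tabPerm (tabOfNat t) hinj) t := by
  intro a ha
  refine ⟨hv ⟨a, ha⟩, ?_⟩
  have h1 := ptN_val ⟨a, ha⟩
  simp only at h1
  rw [h1, tabPerm_pt]
  rfl

theorem tabOfNat_pt {g : Equiv.Perm GolayPt} {t : ℕ} (hg : ActsBy g t) (a : Fin 24) :
    g (Helper4.pt a) = Helper4.pt (tabOfNat t a) := by
  rw [← ptN_val, (hg a.val a.2).2]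
  rfl

/-! ### Sets and families -/

/-- the set of points of a list of numbers -/
def ptSet (l : List ℕ) : Finset GolayPt := (l.map ptN).toFinset

/-- admissible lists: no repetition, entries below 24 -/
def GoodSet (l : List ℕ) : Prop := l.Nodup ∧ ∀ a ∈ l, a < 24

instance (l : List ℕ) : Decidable (GoodSet l) := by unfold GoodSet; infer_instance

/-- image of a list under a packed table -/
def stepSet (t : ℕ) (l : List ℕ) : List ℕ := l.map (look t)

theorem mem_ptSet {l : List ℕ} {x : GolayPt} : x ∈ ptSet l ↔ ∃ a ∈ l, ptN a = x := by
  unfold ptSet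
  rw [List.mem_toFinset, List.mem_map]

theorem nodup_map_ptN {l : List ℕ} (hl : GoodSet l) : (l.map ptN).Nodup :=
  hl.1.map_on (fun a ha b hb h => ptN_inj (hl.2 a ha) (hl.2 b hb) h)

theorem card_ptSet {l : List ℕ} (hl : GoodSet l) : (ptSet l).card = l.length := by
  unfold ptSet
  rw [List.toFinset_card_of_nodup (nodup_map_ptN hl), List.length_map]

theorem smul_ptSet {g : Equiv.Perm GolayPt} {t : ℕ} (hg : ActsBy g t) {l : List ℕ}
    (hl : GoodSet l) : g • ptSet l = ptSet (stepSet t l) ∧ GoodSet (stepSet t l) := by
  have hmap : (l.map ptN).map g = (stepSet t l).map ptN := by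
    unfold stepSet
    rw [List.map_map, List.map_map]
    apply List.map_congr_left
    intro a ha
    exact (hg a (hl.2 a ha)).2
  constructor
  · unfold ptSet
    rw [← hmap]
    ext x
    simp only [Finset.mem_smul_finset, List.mem_toFinset, List.mem_map]
    constructor
    · rintro ⟨y, ⟨a, ha, rfl⟩, rfl⟩
      exact ⟨ptN a, ⟨a, ha, rfl⟩, rfl⟩
    · rintro ⟨y, ⟨a, ha, rfl⟩, rfl⟩
      exact ⟨ptN a, ⟨a, ha, rfl⟩, rfl⟩
  · constructor
    · apply List.Nodup.of_map ptN
      rw [← hmap]
      exact (nodup_map_ptN hl).map g.injective
    · intro b hb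
      unfold stepSet at hb
      rw [List.mem_map] at hb
      obtain ⟨a, ha, rfl⟩ := hb
      exact (hg a (hl.2 a ha)).1

/-- the family of sets of a list of lists -/
def famSet (L : List (List ℕ)) : Finset (Finset GolayPt) := (L.map ptSet).toFinset

/-- admissible families -/
def GoodFam (L : List (List ℕ)) : Prop := (∀ l ∈ L, GoodSet l) ∧ (L.map ptSet).Nodup

/-- image of a family under a packed table -/
def stepFam (t : ℕ) (L : List (List ℕ)) : List (List ℕ) := L.map (stepSet t)

theorem card_famSet {L : List (List ℕ)} (hL : GoodFam L) : (famSet L).card = L.length := by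
  unfold famSet
  rw [List.toFinset_card_of_nodup hL.2, List.length_map]

theorem mem_famSet {L : List (List ℕ)} {s : Finset GolayPt} :
    s ∈ famSet L ↔ ∃ l ∈ L, ptSet l = s := by
  unfold famSet
  rw [List.mem_toFinset, List.mem_map]

theorem smul_famSet {g : Equiv.Perm GolayPt} {t : ℕ} (hg : ActsBy g t) {L : List (List ℕ)}
    (hL : GoodFam L) : g • famSet L = famSet (stepFam t L) ∧ GoodFam (stepFam t L) := by
  have hmap : (L.map ptSet).map (fun s => g • s) = (stepFam t L).map ptSet := by
    unfold stepFam
    rw [List.map_map, List.map_map]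
    apply List.map_congr_left
    intro l hl
    exact (smul_ptSet hg (hL.1 l hl)).1
  constructor
  · unfold famSet
    rw [← hmap]
    ext x
    rw [Finset.mem_smul_finset, List.mem_toFinset, List.mem_map]
    constructor
    · rintro ⟨y, hy, rfl⟩
      exact ⟨y, List.mem_toFinset.mp hy, rfl⟩
    · rintro ⟨y, hy, rfl⟩
      exact ⟨y, List.mem_toFinset.mpr hy, rfl⟩
  · constructor
    · intro l' hl'
      unfold stepFam at hl'
      rw [List.mem_map] at hl'
      obtain ⟨l, hl, rfl⟩ := hl'
      exact (smul_ptSet hg (hL.1 l hl)).2
    · rw [← hmap]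
      exact hL.2.map (MulAction.injective g)

/-! ### Codes -/

/-- the bit mask of a list of numbers -/
def setCode (l : List ℕ) : ℕ := (l.map (fun a => 2 ^ a)).sum

/-- the bit mask of a set of points -/
def setCodeS (s : Finset GolayPt) : ℕ := ∑ x ∈ s, 2 ^ (ptInv x).val

theorem setCode_eq {l : List ℕ} (hl : GoodSet l) : setCode l = setCodeS (ptSet l) := by
  unfold setCodeS ptSet setCode
  rw [List.sum_toFinset _ (nodup_map_ptN hl), List.map_map]
  congr 1
  apply List.map_congr_left
  intro a ha
  show 2 ^ a = 2 ^ (ptInv (ptN a)).val
  rw [ptInv_ptN (hl.2 a ha)]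

/-- hashed code of a list -/
def setHash (K M : ℕ) (l : List ℕ) : ℕ := (setCode l * K) % M

/-- hashed code of a set -/
def setHashS (K M : ℕ) (s : Finset GolayPt) : ℕ := (setCodeS s * K) % M

/-- quadratic hashed code of a list -/
def setHash2 (K M : ℕ) (l : List ℕ) : ℕ := (setCode l * setCode l * K) % M

/-- quadratic hashed code of a set -/
def setHash2S (K M : ℕ) (s : Finset GolayPt) : ℕ := (setCodeS s * setCodeS s * K) % M

/-- hashed code of a family of lists -/
def famCode (K P M : ℕ) (L : List (List ℕ)) : ℕ := (L.map (setHash2 K P)).sum % M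

/-- hashed code of a family of sets -/
def famCodeS (K P M : ℕ) (S : Finset (Finset GolayPt)) : ℕ := (∑ s ∈ S, setHash2S K P s) % M

theorem famCode_eq (K P M : ℕ) {L : List (List ℕ)} (hL : GoodFam L) :
    famCode K P M L = famCodeS K P M (famSet L) := by
  unfold famCodeS famSet famCode
  rw [List.sum_toFinset _ hL.2, List.map_map]
  congr 2
  apply List.map_congr_left
  intro l hl
  show setHash2 K P l = setHash2S K P (ptSet l)
  unfold setHash2 setHash2S
  rw [setCode_eq (hL.1 l hl)]

/-! ### Replaying a breadth-first search -/

/-- apply the `i`-th table of a list (identity if there is none) -/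
def stepI {X : Type} (step : ℕ → X → X) (tabs : List ℕ) (i : ℕ) (x : X) : X :=
  match tabs[i]? with
  | some t => step t x
  | none => x

/-- replay: `front` and `back` form the queue, the certificate lists for each processed node the
generators yielding new nodes; the result is the list of new nodes -/
def bfsRun {X : Type} (f : ℕ → X → X) : List (List ℕ) → List X → List X → List X
  | [], _, _ => []
  | gens :: cs, x :: fr, back =>
    gens.map (fun i => f i x) ++ bfsRun f cs fr ((gens.map (fun i => f i x)).reverse ++ back)
  | gens :: cs, [], back =>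
    match back.reverse with
    | [] => []
    | x :: fr => gens.map (fun i => f i x) ++ bfsRun f cs fr (gens.map (fun i => f i x)).reverse

theorem bfsRun_sound {X : Type} (f : ℕ → X → X) (P : X → Prop) (hf : ∀ i x, P x → P (f i x)) :
    ∀ (cert : List (List ℕ)) (front back : List X), (∀ x ∈ front, P x) → (∀ x ∈ back, P x) →
      ∀ x ∈ bfsRun f cert front back, P x := by
  intro cert
  induction cert with
  | nil => intro front back _ _ x hx; simp [bfsRun] at hx
  | cons gens cs ih =>
    intro front back hfr hb x hx
    cases front with
    | cons y fr =>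
      rw [bfsRun] at hx
      have hy := hfr y (by simp)
      have hnew : ∀ z ∈ gens.map (fun i => f i y), P z := by
        intro z hz
        rw [List.mem_map] at hz
        obtain ⟨i, _, rfl⟩ := hz
        exact hf i y hy
      rw [List.mem_append] at hx
      rcases hx with hx | hx
      · exact hnew x hx
      · apply ih fr _ (fun z hz => hfr z (List.mem_cons_of_mem _ hz)) _ x hx
        intro z hz
        rw [List.mem_append, List.mem_reverse] at hz
        rcases hz with hz | hz
        · exact hnew z hz
        · exact hb z hz
    | nil =>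
      rw [bfsRun] at hx
      cases hrev : back.reverse with
      | nil => rw [hrev] at hx; simp at hx
      | cons y fr =>
        rw [hrev] at hx
        simp only at hx
        have hbr : ∀ z ∈ y :: fr, P z := by
          intro z hz
          rw [← hrev, List.mem_reverse] at hz
          exact hb z hz
        have hy := hbr y (by simp)
        have hnew : ∀ z ∈ gens.map (fun i => f i y), P z := by
          intro z hz
          rw [List.mem_map] at hz
          obtain ⟨i, _, rfl⟩ := hz
          exact hf i y hy
        rw [List.mem_append] at hx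
        rcases hx with hx | hx
        · exact hnew x hx
        · apply ih fr _ (fun z hz => hbr z (List.mem_cons_of_mem _ hz)) _ x hx
          intro z hz
          rw [List.mem_reverse] at hz
          exact hnew z hz

/-! ### Distinctness through a bit set -/

/-- the codes are pairwise distinct and not yet in the bit set `seen` -/
def distinctAux : List ℕ → ℕ → Bool
  | [], _ => true
  | c :: cs, seen => !seen.testBit c && distinctAux cs (seen ||| (1 <<< c))

theorem distinctAux_sound : ∀ (cs : List ℕ) (seen : ℕ), distinctAux cs seen = true →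
    cs.Nodup ∧ ∀ c ∈ cs, seen.testBit c = false := by
  intro cs
  induction cs with
  | nil => intro seen _; exact ⟨List.nodup_nil, fun c hc => absurd hc List.not_mem_nil⟩
  | cons c cs ih =>
    intro seen h
    rw [distinctAux, Bool.and_eq_true, Bool.not_eq_true'] at h
    obtain ⟨h1, h2⟩ := h
    obtain ⟨ih1, ih2⟩ := ih _ h2
    have hkey : ∀ d ∈ cs, d ≠ c ∧ seen.testBit d = false := by
      intro d hd
      have := ih2 d hd
      rw [Nat.testBit_or, Bool.or_eq_false_iff] at this
      refine ⟨?_, this.1⟩
      rintro rfl
      have h3 := this.2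
      rw [Nat.one_shiftLeft, Nat.testBit_two_pow_self] at h3
      exact absurd h3 (by simp)
    constructor
    · rw [List.nodup_cons]
      exact ⟨fun hc => (hkey c hc).1 rfl, ih1⟩
    · intro d hd
      rcases List.mem_cons.mp hd with rfl | hd
      · exact h1
      · exact (hkey d hd).2

/-! ### Certificate models -/

/-- the data needed to replay orbit computations in a type `Y` through codes in a type `X` -/
structure CertModel (X Y : Type) [MulAction (Equiv.Perm GolayPt) Y] where
  /-- meaning of a code -/
  sem : X → Y
  /-- admissible codes -/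
  Good : X → Prop
  /-- action of a packed table -/
  step : ℕ → X → X
  /-- hash of a code -/
  code : X → ℕ
  /-- hash of an object -/
  codeS : Y → ℕ
  code_eq : ∀ x, Good x → code x = codeS (sem x)
  smul_sem : ∀ (g : Equiv.Perm GolayPt) (t : ℕ) (x : X), ActsBy g t → Good x →
    g • sem x = sem (step t x) ∧ Good (step t x)

/-- sets of points coded by lists of numbers -/
def setModel (K M : ℕ) : CertModel (List ℕ) (Finset GolayPt) where
  sem := ptSet
  Good := GoodSet
  step := stepSet
  code := setHash K M
  codeS := setHashS K M
  code_eq := fun l hl => by unfold setHash setHashS; rw [setCode_eq hl]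
  smul_sem := fun _ _ _ hg hl => smul_ptSet hg hl

/-- families of sets coded by lists of lists -/
def famModel (K P M : ℕ) : CertModel (List (List ℕ)) (Finset (Finset GolayPt)) where
  sem := famSet
  Good := GoodFam
  step := stepFam
  code := famCode K P M
  codeS := famCodeS K P M
  code_eq := fun _ hL => famCode_eq K P M hL
  smul_sem := fun _ _ _ hg hL => smul_famSet hg hL

namespace CertModel

variable {X Y : Type} [MulAction (Equiv.Perm GolayPt) Y] (M : CertModel X Y)

/-- the nodes reached by a certificate -/
def nodes (tabs : List ℕ) (root : X) (cert : List (List ℕ)) : List X :=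
  root :: bfsRun (stepI M.step tabs) cert [root] []

theorem nodes_sound (H : Subgroup (Equiv.Perm GolayPt)) (tabs : List ℕ)
    (hgens : ∀ t ∈ tabs, ∃ g ∈ H, ActsBy g t) (root : X) (hroot : M.Good root)
    (cert : List (List ℕ)) :
    ∀ x ∈ M.nodes tabs root cert, M.Good x ∧ ∃ g ∈ H, g • M.sem root = M.sem x := by
  have hP : ∀ i x, (M.Good x ∧ ∃ g ∈ H, g • M.sem root = M.sem x) →
      (M.Good (stepI M.step tabs i x) ∧ ∃ g ∈ H, g • M.sem root = M.sem (stepI M.step tabs i x)) := by
    intro i x hx
    unfold stepI
    cases hti : tabs[i]? with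
    | none => exact hx
    | some t =>
      simp only
      obtain ⟨g, hg, hact⟩ := hgens t (List.mem_of_getElem? hti)
      obtain ⟨hgood, g0, hg0, hg0x⟩ := hx
      obtain ⟨h1, h2⟩ := M.smul_sem g t x hact hgood
      exact ⟨h2, g * g0, H.mul_mem hg hg0, by rw [mul_smul, hg0x, h1]⟩
  have hroot' : M.Good root ∧ ∃ g ∈ H, g • M.sem root = M.sem root :=
    ⟨hroot, 1, H.one_mem, one_smul _ _⟩
  intro x hx
  unfold nodes at hx
  rcases List.mem_cons.mp hx with rfl | hx
  · exact hroot'
  · apply bfsRun_sound (stepI M.step tabs) _ hP cert [root] [] _ _ x hx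
    · intro z hz
      rw [List.mem_singleton] at hz
      rw [hz]; exact hroot'
    · intro z hz
      exact absurd hz List.not_mem_nil

theorem sem_nodup (xs : List X) (hgood : ∀ x ∈ xs, M.Good x)
    (hd : distinctAux (xs.map M.code) 0 = true) : (xs.map M.sem).Nodup := by
  have h1 := (distinctAux_sound _ _ hd).1
  have h2 : (xs.map M.sem).map M.codeS = xs.map M.code := by
    rw [List.map_map]
    apply List.map_congr_left
    intro x hx
    exact (M.code_eq x (hgood x hx)).symm
  rw [← h2] at h1
  exact List.Nodup.of_map _ h1

/-- the main soundness statement: from one global distinctness check, the lists of objects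
reached from the roots are duplicate-free, pairwise disjoint and contained in the orbits -/
theorem main (H : Subgroup (Equiv.Perm GolayPt)) (tabs : List ℕ)
    (hgens : ∀ t ∈ tabs, ∃ g ∈ H, ActsBy g t) {k : ℕ} (roots : Fin k → X)
    (hroots : ∀ i, M.Good (roots i)) (certs : Fin k → List (List ℕ))
    (hd : distinctAux (((List.ofFn fun i => M.nodes tabs (roots i) (certs i)).flatten).map M.code) 0
      = true) :
    ((List.ofFn fun i => (M.nodes tabs (roots i) (certs i)).map M.sem).flatten).Nodup ∧
    ∀ i, ∀ y ∈ (M.nodes tabs (roots i) (certs i)).map M.sem,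
      ∃ g ∈ H, g • M.sem (roots i) = y := by
  have hs := fun i => M.nodes_sound H tabs hgens (roots i) (hroots i) (certs i)
  constructor
  · have := M.sem_nodup _ (by
      intro x hx
      rw [List.mem_flatten] at hx
      obtain ⟨l, hl, hxl⟩ := hx
      rw [List.mem_ofFn] at hl
      obtain ⟨i, rfl⟩ := hl
      exact (hs i x hxl).1) hd
    rw [List.map_flatten, List.map_ofFn] at this
    exact this
  · intro i y hy
    rw [List.mem_map] at hy
    obtain ⟨x, hx, rfl⟩ := hy
    exact (hs i x hx).2

end CertModel

end Cfsg.Agent.Lib.Helper28
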