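import Cfsg.Agent.Lib.Helper28.OrbitPart
import Cfsg.Agent.Lib.Helper28.FamCert

set_option autoImplicit false

/-!
From orbit certificates for the stabilizer of a base object to the complete list of orbits of the
stabilizer of any `M24`-image of that object.
-/

namespace Cfsg.Agent.Lib.Helper28

open Cfsg MulAction
open scoped Pointwise

theorem pairwise_disjoint_of_nodup_flatten {Y : Type*} {k : ℕ} (Ls : Fin k → List Y)
    (hnd : ((List.ofFn Ls).flatten).Nodup) :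
    (∀ i, (Ls i).Nodup) ∧ ∀ i j, i ≠ j → ∀ y ∈ Ls i, y ∉ Ls j := by
  rw [List.nodup_flatten] at hnd
  obtain ⟨h1, h2⟩ := hnd
  refine ⟨fun i => h1 _ (List.mem_ofFn.mpr ⟨i, rfl⟩), ?_⟩
  rw [List.pairwise_ofFn] at h2
  intro i j hij y hy hy'
  rcases lt_or_gt_of_ne hij with h | h
  · exact (h2 h) hy hy'
  · exact (h2 h) hy' hy

/-- orbits of the stabilizer of an `M24`-image of a base object from certificates for the base
object -/
theorem orbits_of_cert {A Y : Type*} [MulAction (Equiv.Perm GolayPt) A]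
    [MulAction (Equiv.Perm GolayPt) Y] (Z₀ : A) (F : Set Y)
    (hFinv : ∀ g ∈ M24, ∀ y ∈ F, g • y ∈ F) (N : ℕ) (hN : F.ncard = N) (hfin : F.Finite)
    {k : ℕ} (X₀ : Fin k → Y) (hX : ∀ i, X₀ i ∈ F) (Ls : Fin k → List Y)
    (hnd : ((List.ofFn Ls).flatten).Nodup)
    (hcert : ∀ i, ∀ y ∈ Ls i, ∃ g ∈ M24 ⊓ stabilizer (Equiv.Perm GolayPt) Z₀, g • X₀ i = y)
    (n : Fin k → ℕ) (hn : ∀ i, (Ls i).length = n i) (hsum : ∑ i, n i = N)
    (h : Equiv.Perm GolayPt) (hh : h ∈ M24) (c : ℕ)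
    (hc : Nat.card (stabilizer M24 (h • Z₀)) = c)
    (harith : ∀ J : Finset (Fin k), J.Nonempty → (∑ j ∈ J, n j) ∣ c → ∃ j, J = {j}) :
    (∀ i, (orbit (stabilizer M24 (h • Z₀)) (h • X₀ i)).ncard = n i) ∧
      F = ⋃ i, orbit (stabilizer M24 (h • Z₀)) (h • X₀ i) := by
  classical
  obtain ⟨hnd1, hnd2⟩ := pairwise_disjoint_of_nodup_flatten Ls hnd
  have hinj : Function.Injective (fun y : Y => h • y) := MulAction.injective h
  refine orbits_partition (G := stabilizer M24 (h • Z₀)) F hfin N hN ?_ (fun i => h • X₀ i) ?_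
    (fun i => (fun y : Y => h • y) '' {y | y ∈ Ls i}) ?_ ?_ n ?_ hsum c hc harith
  · intro g y hy
    exact hFinv g.1.1 g.1.2 y hy
  · intro i
    exact hFinv h hh _ (hX i)
  · rintro i _ ⟨y, hy, rfl⟩
    obtain ⟨g, hg, rfl⟩ := hcert i y hy
    obtain ⟨hgM, hgZ⟩ := Subgroup.mem_inf.mp hg
    have hgZ' : g • Z₀ = Z₀ := hgZ
    have hconjM : h * g * h⁻¹ ∈ M24 := M24.mul_mem (M24.mul_mem hh hgM) (M24.inv_mem hh)
    have hconjZ : (⟨h * g * h⁻¹, hconjM⟩ : M24) • (h • Z₀) = h • Z₀ := by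
      show (h * g * h⁻¹) • (h • Z₀) = h • Z₀
      rw [mul_smul, mul_smul, inv_smul_smul, hgZ']
    refine ⟨⟨⟨h * g * h⁻¹, hconjM⟩, hconjZ⟩, ?_⟩
    show (h * g * h⁻¹) • (h • X₀ i) = h • g • X₀ i
    rw [mul_smul, mul_smul, inv_smul_smul]
  · intro i j hij
    rw [Set.disjoint_left]
    rintro _ ⟨y, hy, rfl⟩ ⟨y', hy', hyy'⟩
    have : y' = y := hinj hyy'
    rw [this] at hy'
    exact hnd2 i j hij y hy hy'
  · intro i
    rw [Set.ncard_image_of_injective _ hinj, ← hn i]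
    have : {y | y ∈ Ls i} = (((Ls i).toFinset : Finset Y) : Set Y) := by
      ext y; simp
    rw [this, Set.ncard_coe_finset, List.toFinset_card_of_nodup (hnd1 i)]

end Cfsg.Agent.Lib.Helper28

namespace Cfsg.Agent.Lib.Helper28

open Cfsg MulAction
open scoped Pointwise

/-- the complete list of orbits from a replayed certificate -/
theorem CertModel.orbits {X Y : Type} [MulAction (Equiv.Perm GolayPt) Y] (M : CertModel X Y)
    {A : Type*} [MulAction (Equiv.Perm GolayPt) A] (Z₀ : A) (tabs : List ℕ)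
    (hgens : ∀ t ∈ tabs, ∃ g ∈ M24 ⊓ stabilizer (Equiv.Perm GolayPt) Z₀, ActsBy g t)
    (F : Set Y) (hFinv : ∀ g ∈ M24, ∀ y ∈ F, g • y ∈ F) (N : ℕ) (hN : F.ncard = N)
    (hfin : F.Finite) {k : ℕ} (roots : Fin k → X) (hroots : ∀ i, M.Good (roots i))
    (hX : ∀ i, M.sem (roots i) ∈ F) (certs : Fin k → List (List ℕ)) (sizes : Fin k → ℕ)
    (hcheck : distinctAux (((List.ofFn fun i => M.nodes tabs (roots i) (certs i)).flatten).map
      M.code) 0 = true)
    (hlen : ∀ i, (M.nodes tabs (roots i) (certs i)).length = sizes i)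
    (hsum : ∑ i, sizes i = N) (h : Equiv.Perm GolayPt) (hh : h ∈ M24) (c : ℕ)
    (hc : Nat.card (stabilizer M24 (h • Z₀)) = c)
    (harith : ∀ J : Finset (Fin k), J.Nonempty → (∑ j ∈ J, sizes j) ∣ c → ∃ j, J = {j}) :
    (∀ i, (orbit (stabilizer M24 (h • Z₀)) (h • M.sem (roots i))).ncard = sizes i) ∧
      F = ⋃ i, orbit (stabilizer M24 (h • Z₀)) (h • M.sem (roots i)) := by
  obtain ⟨h1, h2⟩ := M.main _ tabs hgens roots hroots certs hcheck
  exact orbits_of_cert Z₀ F hFinv N hN hfin (fun i => M.sem (roots i)) hX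
    (fun i => (M.nodes tabs (roots i) (certs i)).map M.sem) h1 h2 sizes
    (fun i => by rw [List.length_map]; exact hlen i) hsum h hh c hc harith

theorem iUnion_fin_three {Y : Type*} (f : Fin 3 → Set Y) : (⋃ i, f i) = f 0 ∪ f 1 ∪ f 2 := by
  ext y
  simp only [Set.mem_iUnion, Set.mem_union]
  constructor
  · rintro ⟨i, hi⟩
    fin_cases i
    · exact Or.inl (Or.inl hi)
    · exact Or.inl (Or.inr hi)
    · exact Or.inr hi
  · rintro ((h | h) | h)
    · exact ⟨0, h⟩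
    · exact ⟨1, h⟩
    · exact ⟨2, h⟩

theorem iUnion_fin_four {Y : Type*} (f : Fin 4 → Set Y) :
    (⋃ i, f i) = f 0 ∪ f 1 ∪ f 2 ∪ f 3 := by
  ext y
  simp only [Set.mem_iUnion, Set.mem_union]
  constructor
  · rintro ⟨i, hi⟩
    fin_cases i
    · exact Or.inl (Or.inl (Or.inl hi))
    · exact Or.inl (Or.inl (Or.inr hi))
    · exact Or.inl (Or.inr hi)
    · exact Or.inr hi
  · rintro (((h | h) | h) | h)
    · exact ⟨0, h⟩
    · exact ⟨1, h⟩
    · exact ⟨2, h⟩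
    · exact ⟨3, h⟩

theorem iUnion_fin_five {Y : Type*} (f : Fin 5 → Set Y) :
    (⋃ i, f i) = f 0 ∪ f 1 ∪ f 2 ∪ f 3 ∪ f 4 := by
  ext y
  simp only [Set.mem_iUnion, Set.mem_union]
  constructor
  · rintro ⟨i, hi⟩
    fin_cases i
    · exact Or.inl (Or.inl (Or.inl (Or.inl hi)))
    · exact Or.inl (Or.inl (Or.inl (Or.inr hi)))
    · exact Or.inl (Or.inl (Or.inr hi))
    · exact Or.inl (Or.inr hi)
    · exact Or.inr hi
  · rintro ((((h | h) | h) | h) | h)
    · exact ⟨0, h⟩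
    · exact ⟨1, h⟩
    · exact ⟨2, h⟩
    · exact ⟨3, h⟩
    · exact ⟨4, h⟩

end Cfsg.Agent.Lib.Helper28
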