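import Mathlib

set_option autoImplicit false

/-!
Counting the `k`-subsets of a finite type meeting a fixed subset in exactly `j` points.
-/

namespace Cfsg.Agent.Lib.Helper28

open Finset

theorem card_powersetCard_filter_inter {α : Type*} [Fintype α] [DecidableEq α] (s : Finset α)
    (k j : ℕ) (hj : j ≤ k) :
    ((powersetCard k (univ : Finset α)).filter (fun t => (s ∩ t).card = j)).card =
      s.card.choose j * (sᶜ).card.choose (k - j) := by
  rw [← card_powersetCard, ← card_powersetCard, ← card_product]
  apply card_nbij' (fun t => (s ∩ t, sᶜ ∩ t)) (fun p => p.1 ∪ p.2)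
  · intro t ht
    rw [mem_coe, mem_filter, mem_powersetCard] at ht
    rw [mem_coe, mem_product, mem_powersetCard, mem_powersetCard]
    refine ⟨⟨inter_subset_left, ht.2⟩, inter_subset_left, ?_⟩
    have h1 : (s ∩ t).card + (sᶜ ∩ t).card = t.card := by
      rw [← card_union_of_disjoint, ← union_inter_distrib_right, union_compl, univ_inter]
      exact disjoint_of_subset_left inter_subset_left
        (disjoint_of_subset_right inter_subset_left disjoint_compl_right)
    simp only at h1 ⊢
    omega
  · intro p hp
    rw [mem_coe, mem_product, mem_powersetCard, mem_powersetCard] at hp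
    obtain ⟨⟨h1, h2⟩, h3, h4⟩ := hp
    have hd : Disjoint p.1 p.2 :=
      disjoint_of_subset_left h1 (disjoint_of_subset_right h3 disjoint_compl_right)
    rw [mem_coe, mem_filter, mem_powersetCard]
    refine ⟨⟨subset_univ _, ?_⟩, ?_⟩
    · rw [card_union_of_disjoint hd, h2, h4]; omega
    · rw [inter_union_distrib_left, inter_eq_right.mpr h1]
      have : s ∩ p.2 = ∅ := by
        rw [← disjoint_iff_inter_eq_empty]
        exact disjoint_of_subset_right h3 disjoint_compl_right
      rw [this, union_empty, h2]
  · intro t _
    simp only
    rw [← union_inter_distrib_right, union_compl, univ_inter]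
  · intro p hp
    rw [mem_coe, mem_product, mem_powersetCard, mem_powersetCard] at hp
    obtain ⟨⟨h1, _⟩, h3, _⟩ := hp
    have e1 : s ∩ p.2 = ∅ := by
      rw [← disjoint_iff_inter_eq_empty]
      exact disjoint_of_subset_right h3 disjoint_compl_right
    have e2 : sᶜ ∩ p.1 = ∅ := by
      rw [← disjoint_iff_inter_eq_empty]
      exact disjoint_of_subset_right h1 disjoint_compl_left
    apply Prod.ext
    · simp only
      rw [inter_union_distrib_left, inter_eq_right.mpr h1, e1, union_empty]
    · simp only
      rw [inter_union_distrib_left, inter_eq_right.mpr h3, e2, empty_union]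

/-- the same count as an `ncard` of a set of finsets -/
theorem ncard_inter_card_eq {α : Type*} [Fintype α] [DecidableEq α] (s : Finset α)
    (k j : ℕ) (hj : j ≤ k) :
    {t : Finset α | t.card = k ∧ (s ∩ t).card = j}.ncard =
      s.card.choose j * (Fintype.card α - s.card).choose (k - j) := by
  have : {t : Finset α | t.card = k ∧ (s ∩ t).card = j} =
      (((powersetCard k (univ : Finset α)).filter (fun t => (s ∩ t).card = j) :
        Finset (Finset α)) : Set (Finset α)) := by
    ext t
    simp [mem_powersetCard]
  rw [this, Set.ncard_coe_finset, card_powersetCard_filter_inter s k j hj, card_compl]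

end Cfsg.Agent.Lib.Helper28
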