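import Cfsg.Agent.Lib.Helper28.OctadSix
import Cfsg.Agent.Lib.Helper28.OctadReg
import Cfsg.Agent.Lib.Helper28.SubsetCount

set_option autoImplicit false

/-!
Pairs of disjoint 3-sets of the 24 points: 210 third sets lie with a given 3-set in an octad and
1120 do not; the stabilizer of the 3-set in `Cfsg.M24` is transitive on each kind.
-/

namespace Cfsg.Agent.Lib.Helper28

open Cfsg MulAction
open scoped Pointwise

theorem octad_eq_of_inter_ge {b c : Finset GolayPt} (hb : b ∈ octads) (hc : c ∈ octads)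
    (h : 5 ≤ (b ∩ c).card) : b = c := by
  by_contra hne
  rcases octad_inter_card hb hc hne with h1 | h1 | h1 <;> omega

theorem octad_eq_of_subset {s b c : Finset GolayPt} (h5 : 5 ≤ s.card) (hb : b ∈ octads)
    (hc : c ∈ octads) (hsb : s ⊆ b) (hsc : s ⊆ c) : b = c :=
  octad_eq_of_inter_ge hb hc (le_trans h5 (Finset.card_le_card (Finset.subset_inter hsb hsc)))

theorem exists_octad_of_card_five {s : Finset GolayPt} (hs : s.card = 5) :
    ∃ o ∈ octads, s ⊆ o := by
  obtain ⟨d, ⟨hd, hTd⟩, _⟩ := octads_isSteinerSystem.2 s hs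
  exact ⟨d, hd, hTd⟩

/-- the third sets in an octad with `T` -/
def inOctadWith (T : Finset GolayPt) : Set (Finset GolayPt) :=
  {U | U.card = 3 ∧ Disjoint T U ∧ ∃ o ∈ octads, T ∪ U ⊆ o}

/-- the third sets not in an octad with `T` -/
def notInOctadWith (T : Finset GolayPt) : Set (Finset GolayPt) :=
  {U | U.card = 3 ∧ Disjoint T U ∧ ¬ ∃ o ∈ octads, T ∪ U ⊆ o}

open Cfsg.Agent.Lib.Helper3.Steiner in
theorem ncard_inOctadWith {T : Finset GolayPt} (hT : T.card = 3) :
    (inOctadWith T).ncard = 210 := by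
  classical
  have h21 := lam3_5824 fintype_card_golayPt octads_isSteinerSystem T hT
  set F := (blocksF octads).filter (T ⊆ ·) with hF
  have hset : inOctadWith T =
      ((F.biUnion (fun o => Finset.powersetCard 3 (o \ T)) : Finset (Finset GolayPt)) :
        Set (Finset GolayPt)) := by
    ext U
    rw [Finset.mem_coe, Finset.mem_biUnion]
    constructor
    · rintro ⟨hU, hd, o, ho, hTU⟩
      refine ⟨o, ?_, ?_⟩
      · rw [hF, Finset.mem_filter, mem_blocksF]
        exact ⟨ho, Finset.union_subset_left hTU⟩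
      · rw [Finset.mem_powersetCard]
        refine ⟨?_, hU⟩
        intro x hx
        rw [Finset.mem_sdiff]
        exact ⟨hTU (Finset.mem_union_right _ hx), fun hxT => Finset.disjoint_left.mp hd hxT hx⟩
    · rintro ⟨o, ho, hU⟩
      rw [hF, Finset.mem_filter, mem_blocksF] at ho
      rw [Finset.mem_powersetCard] at hU
      refine ⟨hU.2, ?_, o, ho.1, ?_⟩
      · rw [Finset.disjoint_left]
        intro x hxT hxU
        exact (Finset.mem_sdiff.mp (hU.1 hxU)).2 hxT
      · exact Finset.union_subset ho.2 (fun x hx => (Finset.mem_sdiff.mp (hU.1 hx)).1)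
  rw [hset, Set.ncard_coe_finset, Finset.card_biUnion]
  · have : ∀ o ∈ F, (Finset.powersetCard 3 (o \ T)).card = 10 := by
      intro o ho
      rw [hF, Finset.mem_filter, mem_blocksF] at ho
      rw [Finset.card_powersetCard, Finset.card_sdiff_of_subset ho.2, octad_card ho.1, hT]
      decide
    rw [Finset.sum_congr rfl this, Finset.sum_const, h21]
    rfl
  · intro o ho o' ho' hne
    rw [Finset.mem_coe, hF, Finset.mem_filter, mem_blocksF] at ho ho'
    show Disjoint (Finset.powersetCard 3 (o \ T)) (Finset.powersetCard 3 (o' \ T))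
    rw [Finset.disjoint_left]
    intro U hU hU'
    rw [Finset.mem_powersetCard] at hU hU'
    apply hne
    apply octad_eq_of_subset (s := T ∪ U) _ ho.1 ho'.1
    · exact Finset.union_subset ho.2 (fun x hx => (Finset.mem_sdiff.mp (hU.1 hx)).1)
    · exact Finset.union_subset ho'.2 (fun x hx => (Finset.mem_sdiff.mp (hU'.1 hx)).1)
    · have hd : Disjoint T U := by
        rw [Finset.disjoint_left]
        intro x hxT hxU
        exact (Finset.mem_sdiff.mp (hU.1 hxU)).2 hxT
      rw [Finset.card_union_of_disjoint hd, hT, hU.2]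
      norm_num

theorem ncard_notInOctadWith {T : Finset GolayPt} (hT : T.card = 3) :
    (notInOctadWith T).ncard = 1120 := by
  classical
  have hall : {U : Finset GolayPt | U.card = 3 ∧ (T ∩ U).card = 0}.ncard = 1330 := by
    rw [ncard_inter_card_eq _ 3 0 (by norm_num), fintype_card_golayPt, hT]
    decide
  have hsplit : {U : Finset GolayPt | U.card = 3 ∧ (T ∩ U).card = 0} =
      inOctadWith T ∪ notInOctadWith T := by
    ext U
    simp only [Set.mem_ofPred_eq, Set.mem_union, inOctadWith, notInOctadWith, Finset.card_eq_zero,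
      ← Finset.disjoint_iff_inter_eq_empty]
    by_cases hex : ∃ o ∈ octads, T ∪ U ⊆ o
    · exact ⟨fun h => Or.inl ⟨h.1, h.2, hex⟩, fun h => h.elim (fun h => ⟨h.1, h.2.1⟩)
        (fun h => ⟨h.1, h.2.1⟩)⟩
    · exact ⟨fun h => Or.inr ⟨h.1, h.2, hex⟩, fun h => h.elim (fun h => ⟨h.1, h.2.1⟩)
        (fun h => ⟨h.1, h.2.1⟩)⟩
  have hdisj : Disjoint (inOctadWith T) (notInOctadWith T) := by
    rw [Set.disjoint_left]
    intro U h1 h2
    exact h2.2.2 h1.2.2
  have := Set.ncard_union_eq hdisj (Set.toFinite _) (Set.toFinite _)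
  rw [← hsplit, hall, ncard_inOctadWith hT] at this
  omega

theorem smul_subset_smul_iff' {g : Equiv.Perm GolayPt} {s t : Finset GolayPt} :
    g • s ⊆ g • t ↔ s ⊆ t := Finset.smul_finset_subset_smul_finset_iff

theorem disjoint_smul_iff' {g : Equiv.Perm GolayPt} {s t : Finset GolayPt} :
    Disjoint (g • s) (g • t) ↔ Disjoint s t := by
  rw [Finset.disjoint_iff_inter_eq_empty, Finset.disjoint_iff_inter_eq_empty,
    ← Finset.smul_finset_inter, Finset.smul_finset_eq_empty]

/-- the stabilizer of a 3-set is transitive on the third sets in an octad with it -/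
theorem inOctadWith_transitive {T U U' : Finset GolayPt} (hT : T.card = 3)
    (hU : U ∈ inOctadWith T) (hU' : U' ∈ inOctadWith T) :
    ∃ g ∈ M24, g • T = T ∧ g • U = U' := by
  obtain ⟨hU3, hdU, o, ho, hTU⟩ := hU
  obtain ⟨hU3', hdU', o', ho', hTU'⟩ := hU'
  obtain ⟨h, hh, hho⟩ := M24_octad_transitive ho ho'
  have h1 : h • T ⊆ o' := by
    rw [← hho]; exact smul_subset_smul_iff'.mpr (Finset.union_subset_left hTU)
  have h2 : h • U ⊆ o' := by
    rw [← hho]; exact smul_subset_smul_iff'.mpr (Finset.union_subset_right hTU)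
  obtain ⟨g, hg, _, hgT, hgU⟩ := octad_stab_map_two ho' (h • T) (h • U) T U' h1 h2
    (Finset.union_subset_left hTU') (Finset.union_subset_right hTU')
    (disjoint_smul_iff'.mpr hdU) hdU'
    (by rw [Finset.card_smul_finset]) (by rw [Finset.card_smul_finset, hU3, hU3'])
    (by rw [Finset.card_smul_finset, Finset.card_smul_finset, hT, hU3])
  refine ⟨g * h, M24.mul_mem hg hh, ?_, ?_⟩
  · rw [mul_smul, hgT]
  · rw [mul_smul, hgU]

end Cfsg.Agent.Lib.Helper28

namespace Cfsg.Agent.Lib.Helper28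

open Cfsg MulAction
open scoped Pointwise

theorem smul_eq_self_of_fix {k : Equiv.Perm GolayPt} {A : Finset GolayPt}
    (h : ∀ x ∈ A, k x = x) : k • A = A := by
  apply Finset.eq_of_subset_of_card_le
  · intro y hy
    rw [Finset.mem_smul_finset] at hy
    obtain ⟨x, hx, rfl⟩ := hy
    show k x ∈ A
    rw [h x hx]; exact hx
  · rw [Finset.card_smul_finset]

/-- the stabilizer of a 3-set is transitive on the third sets not in an octad with it -/
theorem notInOctadWith_transitive {T U U' : Finset GolayPt} (hT : T.card = 3)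
    (hU : U ∈ notInOctadWith T) (hU' : U' ∈ notInOctadWith T) :
    ∃ g ∈ M24, g • T = T ∧ g • U = U' := by
  obtain ⟨hU3, hdU, hnU⟩ := hU
  obtain ⟨hU3', hdU', hnU'⟩ := hU'
  obtain ⟨t1, t2, t3, ht12, ht13, ht23, rfl⟩ := Finset.card_eq_three.mp hT
  obtain ⟨x, y, z, hxy, hxz, hyz, rfl⟩ := Finset.card_eq_three.mp hU3
  obtain ⟨x', y', z', hxy', hxz', hyz', rfl⟩ := Finset.card_eq_three.mp hU3'
  have hx : x ∉ ({t1, t2, t3} : Finset GolayPt) :=
    fun h => Finset.disjoint_left.mp hdU h (by simp)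
  have hy : y ∉ ({t1, t2, t3} : Finset GolayPt) :=
    fun h => Finset.disjoint_left.mp hdU h (by simp)
  have hx' : x' ∉ ({t1, t2, t3} : Finset GolayPt) :=
    fun h => Finset.disjoint_left.mp hdU' h (by simp)
  have hy' : y' ∉ ({t1, t2, t3} : Finset GolayPt) :=
    fun h => Finset.disjoint_left.mp hdU' h (by simp)
  simp only [Finset.mem_insert, Finset.mem_singleton, not_or] at hx hy hx' hy'
  obtain ⟨g1, hg1, hmap⟩ := M24_exists_map_list [t1, t2, t3, x, y] [t1, t2, t3, x', y']
    (by
      simp only [List.nodup_cons, List.mem_cons, List.not_mem_nil, or_false, not_or,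
        List.nodup_nil, and_true, not_false_eq_true]
      exact ⟨⟨ht12, ht13, Ne.symm hx.1, Ne.symm hy.1⟩, ⟨ht23, Ne.symm hx.2.1, Ne.symm hy.2.1⟩,
        ⟨Ne.symm hx.2.2, Ne.symm hy.2.2⟩, hxy⟩)
    (by
      simp only [List.nodup_cons, List.mem_cons, List.not_mem_nil, or_false, not_or,
        List.nodup_nil, and_true, not_false_eq_true]
      exact ⟨⟨ht12, ht13, Ne.symm hx'.1, Ne.symm hy'.1⟩, ⟨ht23, Ne.symm hx'.2.1, Ne.symm hy'.2.1⟩,
        ⟨Ne.symm hx'.2.2, Ne.symm hy'.2.2⟩, hxy'⟩)
    rfl (by simp)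
  simp only [List.map_cons, List.map_nil, List.cons.injEq, and_true] at hmap
  obtain ⟨e1, e2, e3, e4, e5⟩ := hmap
  -- the octad through the five image points
  have hs5 : ({t1, t2, t3, x', y'} : Finset GolayPt).card = 5 := by
    rw [Finset.card_insert_of_notMem, Finset.card_insert_of_notMem, Finset.card_insert_of_notMem,
      Finset.card_insert_of_notMem, Finset.card_singleton]
    · simpa using hxy'
    · simp only [Finset.mem_insert, Finset.mem_singleton, not_or]
      exact ⟨Ne.symm hx'.2.2, Ne.symm hy'.2.2⟩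
    · simp only [Finset.mem_insert, Finset.mem_singleton, not_or]
      exact ⟨ht23, Ne.symm hx'.2.1, Ne.symm hy'.2.1⟩
    · simp only [Finset.mem_insert, Finset.mem_singleton, not_or]
      exact ⟨ht12, ht13, Ne.symm hx'.1, Ne.symm hy'.1⟩
  obtain ⟨o5, ho5, hs5o⟩ := exists_octad_of_card_five hs5
  have m1 : t1 ∈ o5 := hs5o (by simp)
  have m2 : t2 ∈ o5 := hs5o (by simp)
  have m3 : t3 ∈ o5 := hs5o (by simp)
  have m4 : x' ∈ o5 := hs5o (by simp)
  have m5 : y' ∈ o5 := hs5o (by simp)
  have hz' : z' ∉ o5 := by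
    intro hz
    apply hnU'
    refine ⟨o5, ho5, ?_⟩
    intro w hw
    simp only [Finset.mem_union, Finset.mem_insert, Finset.mem_singleton] at hw
    rcases hw with (rfl | rfl | rfl) | (rfl | rfl | rfl) <;> assumption
  have hgz : g1 z ∉ o5 := by
    intro hz
    apply hnU
    refine ⟨g1⁻¹ • o5, smul_mem_octads (M24.inv_mem hg1) ho5, ?_⟩
    intro w hw
    rw [Finset.mem_smul_finset]
    refine ⟨g1 w, ?_, by simp [Equiv.Perm.smul_def]⟩
    simp only [Finset.mem_union, Finset.mem_insert, Finset.mem_singleton] at hw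
    rcases hw with (rfl | rfl | rfl) | (rfl | rfl | rfl)
    · rw [e1]; exact m1
    · rw [e2]; exact m2
    · rw [e3]; exact m3
    · rw [e4]; exact m4
    · rw [e5]; exact m5
    · exact hz
  obtain ⟨k, hk, hkz⟩ := octadKer_transitive ho5 hgz hz'
  obtain ⟨hkM, hkfix⟩ := mem_octadKer.mp hk
  refine ⟨k * g1, M24.mul_mem hkM hg1, ?_, ?_⟩
  · rw [mul_smul]
    have : g1 • ({t1, t2, t3} : Finset GolayPt) = {t1, t2, t3} := by
      rw [Finset.smul_finset_insert, Finset.smul_finset_insert, Finset.smul_finset_singleton]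
      simp only [Equiv.Perm.smul_def, e1, e2, e3]
    rw [this]
    apply smul_eq_self_of_fix
    intro w hw
    simp only [Finset.mem_insert, Finset.mem_singleton] at hw
    rcases hw with rfl | rfl | rfl
    · exact hkfix _ m1
    · exact hkfix _ m2
    · exact hkfix _ m3
  · rw [Finset.smul_finset_insert, Finset.smul_finset_insert, Finset.smul_finset_singleton]
    simp only [Equiv.Perm.smul_def, Equiv.Perm.mul_apply, e4, e5, hkz, hkfix _ m4, hkfix _ m5]

/-- the stabilizer of a 3-set is transitive on each of the two kinds of disjoint 3-sets -/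
theorem threeSets_transitive {T U U' : Finset GolayPt} (hT : T.card = 3) (hU : U.card = 3)
    (hU' : U'.card = 3) (hd : Disjoint T U) (hd' : Disjoint T U')
    (h : (∃ o ∈ octads, T ∪ U ⊆ o) ↔ (∃ o ∈ octads, T ∪ U' ⊆ o)) :
    ∃ g ∈ M24, g • T = T ∧ g • U = U' := by
  by_cases hex : ∃ o ∈ octads, T ∪ U ⊆ o
  · exact inOctadWith_transitive hT ⟨hU, hd, hex⟩ ⟨hU', hd', h.mp hex⟩
  · exact notInOctadWith_transitive hT ⟨hU, hd, hex⟩ ⟨hU', hd', fun h' => hex (h.mpr h')⟩

end Cfsg.Agent.Lib.Helper28
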