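import Cfsg.Agent.Lib.Helper28.M12Trans
import Cfsg.Agent.Lib.Helper28.ThreeSets
import Cfsg.Agent.Lib.Helper28.Restrict
import Cfsg.Prelude.Def_SporadicCombinatorics

set_option autoImplicit false

/-!
The stabilizer of a dodecad `d` and a hexad `C` on it: faithful on `C` and on `d \ C`, inducing
the full symmetric group on `C`.
-/

namespace Cfsg.Agent.Lib.Helper28

open Cfsg MulAction
open scoped Pointwise

/-- an element of the dodecad stabilizer fixing five points of the dodecad is trivial -/
theorem eq_one_of_fix_five {d : Finset GolayPt} (hd : d ∈ dodecads) {g : Equiv.Perm GolayPt}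
    (hg : g ∈ M24) (hgd : g • d = d) (s : Finset GolayPt) (hs : s ⊆ d) (h5 : 5 ≤ s.card)
    (hfix : ∀ p ∈ s, g p = p) : g = 1 := by
  classical
  obtain ⟨t, hts, ht5⟩ := Finset.exists_subset_card_eq h5
  let e : Fin 5 ≃ ↥t := (Finset.equivFinOfCardEq ht5).symm
  let x : Fin 5 ↪ GolayPt := ⟨fun i => (e i).1, fun i j h => e.injective (Subtype.ext h)⟩
  have hx : ∀ i, x i ∈ d := fun i => hs (hts (e i).2)
  obtain ⟨g₀, _, huniq⟩ := dodecad_sharp hd x x hx hx
  have h1 := huniq g hg hgd (fun i => hfix _ (hts (e i).2))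
  have h2 := huniq 1 M24.one_mem (one_smul _ _) (fun i => rfl)
  rw [h1, h2]

/-- a permutation fixing all points but one fixes that point too -/
theorem perm_fix_of_fix_ne {α : Type*} (π : Equiv.Perm α) (a : α) (h : ∀ x, x ≠ a → π x = x) :
    π a = a := by
  by_contra hne
  have h1 := h (π a) hne
  exact hne (π.injective h1)

theorem hexad_subset {d C : Finset GolayPt} (hC : C ∈ hexadsOn d) : C ⊆ d := by
  obtain ⟨_, o, _, rfl⟩ := hC
  exact Finset.inter_subset_right

/-- an element of the dodecad stabilizer mapping five points of a hexad into the hexad stabilizes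
the hexad -/
theorem smul_hexad_eq {d C : Finset GolayPt} (hC : C ∈ hexadsOn d)
    {g : Equiv.Perm GolayPt} (hg : g ∈ M24) (hgd : g • d = d) (s : Finset GolayPt) (hs : s ⊆ C)
    (h5 : 5 ≤ s.card) (hmap : ∀ p ∈ s, g p ∈ C) : g • C = C := by
  classical
  obtain ⟨_, o, ho, rfl⟩ := hC
  have hgo : g • o = o := by
    apply octad_eq_of_subset (s := g • s) (by rw [Finset.card_smul_finset]; exact h5)
      (smul_mem_octads hg ho) ho
    · exact Finset.smul_finset_subset_smul_finset (hs.trans Finset.inter_subset_left)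
    · intro y hy
      rw [Finset.mem_smul_finset] at hy
      obtain ⟨p, hp, rfl⟩ := hy
      exact Finset.inter_subset_left (hmap p hp)
  rw [Finset.smul_finset_inter, hgo, hgd]

section Iso

variable {d C : Finset GolayPt}

/-- the elements of `M24` stabilizing `d` and `C`, as permutations stabilizing `C` -/
def hexadStabToPerm (d C : Finset GolayPt) :
    ↥(stabilizer M24 d ⊓ stabilizer M24 C) →* ↥(stabilizer (Equiv.Perm GolayPt) C) where
  toFun g := ⟨(g.1 : Equiv.Perm GolayPt), (Subgroup.mem_inf.mp g.2).2⟩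
  map_one' := rfl
  map_mul' _ _ := rfl

/-- restriction to the hexad -/
def hexadHom (d C : Finset GolayPt) :
    ↥(stabilizer M24 d ⊓ stabilizer M24 C) →* Equiv.Perm ↥C :=
  (restrictHom C).comp (hexadStabToPerm d C)

theorem hexadHom_apply (g : ↥(stabilizer M24 d ⊓ stabilizer M24 C)) (x : ↥C) :
    ((hexadHom d C g) x : GolayPt) = (g.1 : Equiv.Perm GolayPt) x := rfl

theorem hexadHom_injective (hd : d ∈ dodecads) (hC : C ∈ hexadsOn d) :
    Function.Injective (hexadHom d C) := by
  rw [injective_iff_map_eq_one]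
  intro g hg
  have hgd : (g.1 : Equiv.Perm GolayPt) • d = d := (Subgroup.mem_inf.mp g.2).1
  have h1 : (g.1 : Equiv.Perm GolayPt) = 1 := by
    apply eq_one_of_fix_five hd g.1.2 hgd C (hexad_subset hC) (by rw [hC.1]; norm_num)
    intro p hp
    have := hexadHom_apply g ⟨p, hp⟩
    rw [hg] at this
    exact this.symm
  exact Subtype.ext (Subtype.ext h1)

theorem hexadHom_surjective (hd : d ∈ dodecads) (hC : C ∈ hexadsOn d) :
    Function.Surjective (hexadHom d C) := by
  classical
  intro σ
  have hC6 : C.card = 6 := hC.1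
  let e : Fin 6 ≃ ↥C := (Finset.equivFinOfCardEq hC6).symm
  let x : Fin 5 ↪ GolayPt := ⟨fun i => (e i.castSucc).1, fun i j h =>
    Fin.castSucc_injective _ (e.injective (Subtype.ext h))⟩
  let y : Fin 5 ↪ GolayPt := ⟨fun i => (σ (e i.castSucc)).1, fun i j h =>
    Fin.castSucc_injective _ (e.injective (σ.injective (Subtype.ext h)))⟩
  have hCd := hexad_subset hC
  obtain ⟨g, ⟨hgM, hgd, hgx⟩, _⟩ := dodecad_sharp hd x y (fun i => hCd (e i.castSucc).2)
    (fun i => hCd (σ (e i.castSucc)).2)
  have hgC : g • C = C := by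
    apply smul_hexad_eq hC hgM hgd (Finset.univ.map x)
    · intro p hp
      rw [Finset.mem_map] at hp
      obtain ⟨i, _, rfl⟩ := hp
      exact (e i.castSucc).2
    · rw [Finset.card_map, Finset.card_univ, Fintype.card_fin]
    · intro p hp
      rw [Finset.mem_map] at hp
      obtain ⟨i, _, rfl⟩ := hp
      rw [hgx i]
      exact (σ (e i.castSucc)).2
  let g' : ↥(stabilizer M24 d ⊓ stabilizer M24 C) :=
    ⟨⟨g, hgM⟩, Subgroup.mem_inf.mpr ⟨hgd, hgC⟩⟩
  refine ⟨g', ?_⟩
  -- the two permutations agree on five of the six points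
  have hagree : ∀ i : Fin 5, hexadHom d C g' (e i.castSucc) = σ (e i.castSucc) := by
    intro i
    apply Subtype.ext
    rw [hexadHom_apply]
    exact hgx i
  have hfix : ∀ z : ↥C, z ≠ e (Fin.last 5) → (σ⁻¹ * hexadHom d C g') z = z := by
    intro z hz
    obtain ⟨j, rfl⟩ := e.surjective z
    have hj : j ≠ Fin.last 5 := fun h => hz (by rw [h])
    obtain ⟨i, rfl⟩ := Fin.exists_castSucc_eq.mpr hj
    rw [Equiv.Perm.mul_apply, hagree i]
    simp
  have hlast := perm_fix_of_fix_ne _ _ hfix
  have hall : σ⁻¹ * hexadHom d C g' = 1 := by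
    apply Equiv.ext
    intro z
    by_cases hz : z = e (Fin.last 5)
    · rw [hz]; exact hlast
    · exact hfix z hz
  rw [inv_mul_eq_one] at hall
  exact hall.symm

/-- the stabilizer of a dodecad and a hexad on it is the symmetric group of degree six -/
theorem hexadStab_equiv (hd : d ∈ dodecads) (hC : C ∈ hexadsOn d) :
    Nonempty (↥(stabilizer M24 d ⊓ stabilizer M24 C) ≃* Equiv.Perm (Fin 6)) := by
  classical
  have hC6 : C.card = 6 := hC.1
  exact ⟨(MulEquiv.ofBijective (hexadHom d C)
    ⟨hexadHom_injective hd hC, hexadHom_surjective hd hC⟩).trans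
    (Finset.equivFinOfCardEq hC6).permCongrHom⟩

end Iso

end Cfsg.Agent.Lib.Helper28
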