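import Cfsg.Agent.Lib.Helper28.Data5615
import Cfsg.Agent.Lib.Helper28.OctadAlt
import Cfsg.Agent.Lib.Helper28.OctadReg
import Cfsg.Agent.Lib.Helper28.ElemFix

set_option autoImplicit false

/-!
An octad lies in fifteen trios; its stabilizer is doubly transitive on them, with kernel the
pointwise stabilizer of the octad.
-/

namespace Cfsg.Agent.Lib.Helper28

open Cfsg MulAction
open scoped Pointwise

theorem mem_famSet_iff_any {x : List (List ℕ)} (hx : GoodFam x) {s : List ℕ} (hs : GoodSet s) :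
    ptSet s ∈ famSet x ↔ x.any (fun l => setEqB l s) = true := by
  rw [mem_famSet, List.any_eq_true]
  constructor
  · rintro ⟨l, hl, he⟩
    exact ⟨l, hl, (setEqB_iff (hx.1 l hl) hs).mpr he⟩
  · rintro ⟨l, hl, he⟩
    exact ⟨l, hl, ptSet_eq_of_setEqB he⟩

theorem ncard_filter_enum {X Y : Type*} (sem : X → Y) (nodes : List X)
    (hnd : (nodes.map sem).Nodup) (F : Set Y) (hF : ∀ y, y ∈ F ↔ ∃ x ∈ nodes, sem x = y)
    (P : Y → Prop) (pB : X → Bool) (hp : ∀ x ∈ nodes, pB x = true ↔ P (sem x)) :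
    {y | y ∈ F ∧ P y}.ncard = (nodes.filter pB).length := by
  classical
  have hset : {y | y ∈ F ∧ P y} = (((nodes.filter pB).map sem).toFinset : Set Y) := by
    ext y
    rw [Finset.mem_coe, List.mem_toFinset, List.mem_map]
    constructor
    · rintro ⟨hyF, hPy⟩
      obtain ⟨x, hx, rfl⟩ := (hF y).mp hyF
      exact ⟨x, List.mem_filter.mpr ⟨hx, (hp x hx).mpr hPy⟩, rfl⟩
    · rintro ⟨x, hx, rfl⟩
      obtain ⟨hx1, hx2⟩ := List.mem_filter.mp hx
      exact ⟨(hF _).mpr ⟨x, hx1, rfl⟩, (hp x hx1).mp hx2⟩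
  rw [hset, Set.ncard_coe_finset, List.toFinset_card_of_nodup, List.length_map]
  exact (List.Sublist.map _ List.filter_sublist).nodup hnd

theorem smul_famSet_eq_of_famSubB {g : Equiv.Perm GolayPt} {t : ℕ} (hact : ActsBy g t)
    {L : List (List ℕ)} (hL : GoodFam L) (h : famSubB (stepFam t L) L = true) :
    g • famSet L = famSet L := by
  obtain ⟨h1, h2⟩ := smul_famSet hact hL
  rw [h1]
  apply Finset.eq_of_subset_of_card_le (famSet_subset_of_famSubB h)
  rw [card_famSet hL, card_famSet h2]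
  unfold stepFam
  rw [List.length_map]

/-! ### the base octad -/

theorem base_trio_code {T : Finset (Finset GolayPt)} (hT : T ∈ trios)
    (ho : ptSet oc_base ∈ T) :
    ∃ x ∈ alltrio_nodes, GoodFam x ∧ famSet x = T ∧
      x.any (fun l => setEqB l oc_base) = true := by
  obtain ⟨x, hx, rfl⟩ := (alltrio_enum.2.2 T).mp hT
  have hg := alltrio_enum.1 x hx
  exact ⟨x, hx, hg, rfl, (mem_famSet_iff_any hg oc_base_check.1).mp ho⟩

theorem ncard_base_trios : {T | T ∈ trios ∧ ptSet oc_base ∈ T}.ncard = 15 := by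
  rw [ncard_filter_enum famSet alltrio_nodes alltrio_enum.2.1 trios alltrio_enum.2.2
    (fun T => ptSet oc_base ∈ T) (fun x => x.any (fun l => setEqB l oc_base))
    (fun x hx => (mem_famSet_iff_any (alltrio_enum.1 x hx) oc_base_check.1).symm)]
  exact ot_count_check

theorem base_trio_trans {T : Finset (Finset GolayPt)} (hT : T ∈ trios)
    (ho : ptSet oc_base ∈ T) :
    ∃ g ∈ M24, g • ptSet oc_base = ptSet oc_base ∧ g • famSet (octrio_roots 0) = T := by
  obtain ⟨x, hx, hg, rfl, hany⟩ := base_trio_code hT ho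
  have h1 := (ot_cover_check x hx hany).1
  rw [List.any_eq_true] at h1
  obtain ⟨y, hy, he⟩ := h1
  have hgens := gens_stab_set oc_tabs oc_base oc_base_check.1 oc_tabs_check
  obtain ⟨hgy, g, hgm, hgy2⟩ := octrio_model.nodes_sound _ oc_tabs hgens (octrio_roots 0)
    (octrio_rootcheck 0).goodFam (octrio_certs 0) y hy
  refine ⟨g, (Subgroup.mem_inf.mp hgm).1, mem_stabilizer_iff.mp (Subgroup.mem_inf.mp hgm).2, ?_⟩
  rw [(famEqB_iff hg hgy).mp he]
  exact hgy2

theorem ot_hgens : ∀ t ∈ ot_tabs,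
    ∃ g ∈ M24 ⊓ stabilizer (Equiv.Perm GolayPt) (ptSet oc_base) ⊓
      stabilizer (Equiv.Perm GolayPt) (famSet (octrio_roots 0)), ActsBy g t := by
  intro t ht
  obtain ⟨htab, hset, hfam⟩ := ot_tabs_check t ht
  obtain ⟨g, hg, hact⟩ := htab.exists
  refine ⟨g, Subgroup.mem_inf.mpr ⟨Subgroup.mem_inf.mpr ⟨hg, ?_⟩, ?_⟩, hact⟩
  · rw [mem_stabilizer_iff, (smul_ptSet hact oc_base_check.1).1]
    exact ptSet_eq_of_setEqB hset
  · rw [mem_stabilizer_iff]
    exact smul_famSet_eq_of_famSubB hact (octrio_rootcheck 0).goodFam hfam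

theorem base_trio_trans2 {T : Finset (Finset GolayPt)} (hT : T ∈ trios)
    (ho : ptSet oc_base ∈ T) (hne : T ≠ famSet (octrio_roots 0)) :
    ∃ g ∈ M24, g • ptSet oc_base = ptSet oc_base ∧
      g • famSet (octrio_roots 0) = famSet (octrio_roots 0) ∧ g • famSet ot_root = T := by
  obtain ⟨x, hx, hg, rfl, hany⟩ := base_trio_code hT ho
  rcases (ot_cover_check x hx hany).2 with h1 | h1
  · exact absurd ((famEqB_iff hg (octrio_rootcheck 0).goodFam).mp h1) hne
  rw [List.any_eq_true] at h1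
  obtain ⟨y, hy, he⟩ := h1
  obtain ⟨hgy, g, hgm, hgy2⟩ := ot_model.nodes_sound _ ot_tabs ot_hgens ot_root
    ot_check.1.goodFam ot_cert y hy
  obtain ⟨hgm1, hgm2⟩ := Subgroup.mem_inf.mp hgm
  obtain ⟨hgm3, hgm4⟩ := Subgroup.mem_inf.mp hgm1
  refine ⟨g, hgm3, mem_stabilizer_iff.mp hgm4, mem_stabilizer_iff.mp hgm2, ?_⟩
  rw [(famEqB_iff hg hgy).mp he]
  exact hgy2

theorem inv_smul_of_smul {Y : Type*} [MulAction (Equiv.Perm GolayPt) Y] {g : Equiv.Perm GolayPt}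
    {y : Y} (h : g • y = y) : g⁻¹ • y = y := by
  rw [inv_smul_eq_iff]; exact h.symm

theorem base_two_trans {T₁ T₂ T₁' T₂' : Finset (Finset GolayPt)} (h1 : T₁ ∈ trios)
    (h2 : T₂ ∈ trios) (h1' : T₁' ∈ trios) (h2' : T₂' ∈ trios) (o1 : ptSet oc_base ∈ T₁)
    (o2 : ptSet oc_base ∈ T₂) (o1' : ptSet oc_base ∈ T₁') (o2' : ptSet oc_base ∈ T₂')
    (hne : T₁ ≠ T₂) (hne' : T₁' ≠ T₂') :
    ∃ g ∈ M24, g • ptSet oc_base = ptSet oc_base ∧ g • T₁ = T₁' ∧ g • T₂ = T₂' := by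
  obtain ⟨a, ha, hao, haT⟩ := base_trio_trans h1 o1
  obtain ⟨a', ha', hao', haT'⟩ := base_trio_trans h1' o1'
  have hai := M24.inv_mem ha
  have hai' := M24.inv_mem ha'
  have hm2 : ptSet oc_base ∈ a⁻¹ • T₂ := by
    have := Finset.smul_mem_smul_finset (a := a⁻¹) o2
    rwa [inv_smul_of_smul hao] at this
  have hm2' : ptSet oc_base ∈ a'⁻¹ • T₂' := by
    have := Finset.smul_mem_smul_finset (a := a'⁻¹) o2'
    rwa [inv_smul_of_smul hao'] at this
  have hn2 : a⁻¹ • T₂ ≠ famSet (octrio_roots 0) := by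
    intro h
    apply hne
    rw [← haT, ← h, smul_inv_smul]
  have hn2' : a'⁻¹ • T₂' ≠ famSet (octrio_roots 0) := by
    intro h
    apply hne'
    rw [← haT', ← h, smul_inv_smul]
  obtain ⟨b, hb, hbo, hbR, hbQ⟩ := base_trio_trans2 (smul_mem_trios hai h2) hm2 hn2
  obtain ⟨b', hb', hbo', hbR', hbQ'⟩ := base_trio_trans2 (smul_mem_trios hai' h2') hm2' hn2'
  refine ⟨a' * b' * b⁻¹ * a⁻¹, M24.mul_mem (M24.mul_mem (M24.mul_mem ha' hb') (M24.inv_mem hb)) hai,
    ?_, ?_, ?_⟩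
  · rw [mul_smul, mul_smul, mul_smul, inv_smul_of_smul hao, inv_smul_of_smul hbo, hbo', hao']
  · rw [mul_smul, mul_smul, mul_smul, ← haT, inv_smul_smul, inv_smul_of_smul hbR, hbR', haT']
  · rw [mul_smul, mul_smul, mul_smul, ← hbQ, inv_smul_smul, hbQ', smul_inv_smul]

theorem ok_hgens : ∀ t ∈ ok_tabs, ∃ g ∈ octadKer (ptSet oc_base), ActsBy g t := by
  intro t ht
  obtain ⟨htab, hfix⟩ := ok_tabs_check t ht
  obtain ⟨g, hg, hact⟩ := htab.exists
  refine ⟨g, mem_octadKer.mpr ⟨hg, ?_⟩, hact⟩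
  intro x hx
  obtain ⟨a, ha, rfl⟩ := mem_ptSet.mp hx
  have ha24 := oc_base_check.1.2 a ha
  rw [(hact a ha24).2, hfix a ha]

theorem base_ker_fix {g : Equiv.Perm GolayPt} (hg : g ∈ octadKer (ptSet oc_base))
    {T : Finset (Finset GolayPt)} (hT : T ∈ trios) (ho : ptSet oc_base ∈ T) : g • T = T := by
  obtain ⟨l, hl, hgood, rfl⟩ := elems_of_cert _ _ ok_tabs ok_hgens ok_cert 16
    (card_octadKer oc_base_check.mem) ok_check.1 ok_check.2 g hg
  obtain ⟨x, hx, hgx, rfl, hany⟩ := base_trio_code hT ho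
  obtain ⟨hlook, hfix⟩ := ok_fix_check l hl
  have hact := actsBy_permOfList hgood hlook
  exact smul_famSet_eq_of_famSubB hact hgx (hfix x hx hany)

/-! ### the kernel of the action on the trios -/

/-- the elements of the octad stabilizer fixing every trio through the octad -/
def trioKer (o : Finset GolayPt) : Subgroup ↥(M24 ⊓ stabilizer (Equiv.Perm GolayPt) o) where
  carrier := {g | ∀ T ∈ trios, o ∈ T → g.1 • T = T}
  mul_mem' := by
    intro a b ha hb T hT ho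
    show (a.1 * b.1) • T = T
    rw [mul_smul, hb T hT ho, ha T hT ho]
  one_mem' := fun T _ _ => one_smul _ T
  inv_mem' := by
    intro a ha T hT ho
    show (a.1)⁻¹ • T = T
    exact inv_smul_of_smul (ha T hT ho)

theorem trioKer_normal (o : Finset GolayPt) : (trioKer o).Normal := by
  constructor
  intro n hn g T hT ho
  show (g.1 * n.1 * g.1⁻¹) • T = T
  have hg1 : g.1 ∈ M24 := (Subgroup.mem_inf.mp g.2).1
  have hgo : g.1 • o = o := mem_stabilizer_iff.mp (Subgroup.mem_inf.mp g.2).2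
  have hT' : g.1⁻¹ • T ∈ trios := smul_mem_trios (M24.inv_mem hg1) hT
  have ho' : o ∈ g.1⁻¹ • T := by
    have := Finset.smul_mem_smul_finset (a := g.1⁻¹) ho
    rwa [inv_smul_of_smul hgo] at this
  rw [mul_smul, mul_smul, hn _ hT' ho', smul_inv_smul]

theorem trioKer_pointwise {o : Finset GolayPt} (ho : o ∈ octads)
    (hker : ∀ g : ↥(M24 ⊓ stabilizer (Equiv.Perm GolayPt) o), (∀ p ∈ o, g.1 p = p) →
      g ∈ trioKer o)
    (hmove : ∃ g : ↥(M24 ⊓ stabilizer (Equiv.Perm GolayPt) o), g ∉ trioKer o) :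
    ∀ g ∈ trioKer o, ∀ p ∈ o, g.1 p = p := by
  classical
  have hsimple : IsSimpleGroup ↥(restrictHomOf M24 o).range := by
    rw [range_restrict_octad ho]
    apply alternatingGroup.isSimpleGroup
    rw [Nat.card_eq_fintype_card, Fintype.card_coe, octad_card ho]
    norm_num
  have hN : ((trioKer o).map (restrictHomOf M24 o).rangeRestrict).Normal :=
    Subgroup.Normal.map (trioKer_normal o) _ (restrictHomOf M24 o).rangeRestrict_surjective
  rcases hN.eq_bot_or_eq_top with hbot | htop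
  · intro g hg p hp
    have h1 : (restrictHomOf M24 o).rangeRestrict g ∈
        (trioKer o).map (restrictHomOf M24 o).rangeRestrict := Subgroup.mem_map_of_mem _ hg
    rw [hbot, Subgroup.mem_bot] at h1
    have h2 : restrictHomOf M24 o g = 1 := congrArg Subtype.val h1
    have h3 : g ∈ (restrictHomOf M24 o).ker := h2
    have h4 := (mem_ker_restrictHomOf_iff M24 o g).mp h3
    exact (mem_fixingSubgroup_iff _).mp h4 p hp
  · exfalso
    obtain ⟨h, hh⟩ := hmove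
    apply hh
    have h1 : (restrictHomOf M24 o).rangeRestrict h ∈
        (trioKer o).map (restrictHomOf M24 o).rangeRestrict := by rw [htop]; trivial
    obtain ⟨k, hk, hkh⟩ := Subgroup.mem_map.mp h1
    have h2 : restrictHomOf M24 o k = restrictHomOf M24 o h := congrArg Subtype.val hkh
    have h3 : k⁻¹ * h ∈ (restrictHomOf M24 o).ker := by
      rw [MonoidHom.mem_ker, map_mul, map_inv, h2, inv_mul_cancel]
    have h4 := (mem_ker_restrictHomOf_iff M24 o _).mp h3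
    have h5 : k⁻¹ * h ∈ trioKer o :=
      hker _ (fun p hp => (mem_fixingSubgroup_iff _).mp h4 p hp)
    have : h = k * (k⁻¹ * h) := by group
    rw [this]
    exact (trioKer o).mul_mem hk h5

/-! ### every octad -/

theorem octad_trios (o : Finset GolayPt) (ho : o ∈ octads) :
    {T : Finset (Finset GolayPt) | T ∈ trios ∧ o ∈ T}.ncard = 15 ∧
    (∀ T₁ T₂ T₁' T₂' : Finset (Finset GolayPt), T₁ ∈ trios → T₂ ∈ trios → T₁' ∈ trios →
      T₂' ∈ trios → o ∈ T₁ → o ∈ T₂ → o ∈ T₁' → o ∈ T₂' → T₁ ≠ T₂ → T₁' ≠ T₂' →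
      ∃ g ∈ M24, g • o = o ∧ g • T₁ = T₁' ∧ g • T₂ = T₂') ∧
    ∀ g ∈ M24, g • o = o → ((∀ T ∈ trios, o ∈ T → g • T = T) ↔ ∀ p ∈ o, g p = p) := by
  have hbase : ptSet oc_base ∈ octads := oc_base_check.mem
  obtain ⟨h, hh, rfl⟩ := M24_octad_transitive hbase ho
  have hhi := M24.inv_mem hh
  -- membership transfer
  have hmem : ∀ T : Finset (Finset GolayPt), h • ptSet oc_base ∈ T → ptSet oc_base ∈ h⁻¹ • T := by
    intro T hT
    have := Finset.smul_mem_smul_finset (a := h⁻¹) hT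
    rwa [inv_smul_smul] at this
  have hA : {T : Finset (Finset GolayPt) | T ∈ trios ∧ h • ptSet oc_base ∈ T}.ncard = 15 := by
    have hset : {T : Finset (Finset GolayPt) | T ∈ trios ∧ h • ptSet oc_base ∈ T} =
        (fun T => h • T) '' {T | T ∈ trios ∧ ptSet oc_base ∈ T} := by
      ext T
      constructor
      · rintro ⟨hT, hoT⟩
        exact ⟨h⁻¹ • T, ⟨smul_mem_trios hhi hT, hmem T hoT⟩, smul_inv_smul h T⟩
      · rintro ⟨T₀, ⟨hT₀, ho₀⟩, rfl⟩
        exact ⟨smul_mem_trios hh hT₀, Finset.smul_mem_smul_finset ho₀⟩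
    rw [hset, Set.ncard_image_of_injective _ (MulAction.injective h), ncard_base_trios]
  have hB : ∀ T₁ T₂ T₁' T₂' : Finset (Finset GolayPt), T₁ ∈ trios → T₂ ∈ trios → T₁' ∈ trios →
      T₂' ∈ trios → h • ptSet oc_base ∈ T₁ → h • ptSet oc_base ∈ T₂ → h • ptSet oc_base ∈ T₁' →
      h • ptSet oc_base ∈ T₂' → T₁ ≠ T₂ → T₁' ≠ T₂' →
      ∃ g ∈ M24, g • (h • ptSet oc_base) = h • ptSet oc_base ∧ g • T₁ = T₁' ∧ g • T₂ = T₂' := by
    intro T₁ T₂ T₁' T₂' h1 h2 h1' h2' o1 o2 o1' o2' hne hne'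
    obtain ⟨g, hg, hgo, hg1, hg2⟩ := base_two_trans (smul_mem_trios hhi h1)
      (smul_mem_trios hhi h2) (smul_mem_trios hhi h1') (smul_mem_trios hhi h2') (hmem _ o1)
      (hmem _ o2) (hmem _ o1') (hmem _ o2')
      (fun e => hne (MulAction.injective h⁻¹ e)) (fun e => hne' (MulAction.injective h⁻¹ e))
    refine ⟨h * g * h⁻¹, M24.mul_mem (M24.mul_mem hh hg) hhi, ?_, ?_, ?_⟩
    · rw [mul_smul, mul_smul, inv_smul_smul, hgo]
    · rw [mul_smul, mul_smul, hg1, smul_inv_smul]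
    · rw [mul_smul, mul_smul, hg2, smul_inv_smul]
  refine ⟨hA, hB, ?_⟩
  -- the kernel
  have hker : ∀ g : ↥(M24 ⊓ stabilizer (Equiv.Perm GolayPt) (h • ptSet oc_base)),
      (∀ p ∈ h • ptSet oc_base, g.1 p = p) → g ∈ trioKer (h • ptSet oc_base) := by
    intro g hg T hT hoT
    have hgk : g.1 ∈ octadKer (h • ptSet oc_base) :=
      mem_octadKer.mpr ⟨(Subgroup.mem_inf.mp g.2).1, hg⟩
    rw [conj_mem_octadKer_iff hh] at hgk
    have := base_ker_fix hgk (smul_mem_trios hhi hT) (hmem T hoT)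
    have e : g.1 * h = h * (h⁻¹ * g.1 * h) := by group
    calc g.1 • T = (g.1 * h) • (h⁻¹ • T) := by rw [mul_smul, smul_inv_smul]
      _ = h • ((h⁻¹ * g.1 * h) • (h⁻¹ • T)) := by rw [e, mul_smul]
      _ = T := by rw [this, smul_inv_smul]
  have hmove : ∃ g : ↥(M24 ⊓ stabilizer (Equiv.Perm GolayPt) (h • ptSet oc_base)),
      g ∉ trioKer (h • ptSet oc_base) := by
    have h15 : 1 < {T : Finset (Finset GolayPt) | T ∈ trios ∧ h • ptSet oc_base ∈ T}.ncard := by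
      rw [hA]; norm_num
    obtain ⟨T₁, T₂, ⟨hT₁, ho₁⟩, ⟨hT₂, ho₂⟩, hne⟩ := (Set.one_lt_ncard_iff (Set.toFinite _)).mp h15
    obtain ⟨g, hg, hgo, hg1, -⟩ := hB T₁ T₂ T₂ T₁ hT₁ hT₂ hT₂ hT₁ ho₁ ho₂ ho₂ ho₁ hne hne.symm
    refine ⟨⟨g, Subgroup.mem_inf.mpr ⟨hg, mem_stabilizer_iff.mpr hgo⟩⟩, ?_⟩
    intro hk
    apply hne
    rw [← hg1]
    exact (hk T₁ hT₁ ho₁).symm
  intro g hg hgo
  constructor
  · intro hfix p hp
    exact trioKer_pointwise ho hker hmove
      ⟨g, Subgroup.mem_inf.mpr ⟨hg, mem_stabilizer_iff.mpr hgo⟩⟩ hfix p hp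
  · intro hfix
    exact hker ⟨g, Subgroup.mem_inf.mpr ⟨hg, mem_stabilizer_iff.mpr hgo⟩⟩ hfix

end Cfsg.Agent.Lib.Helper28
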