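import Cfsg.Agent.Lib.Helper28.Data1597
import Cfsg.Agent.Lib.Helper28.HexadStab
import Cfsg.Agent.Lib.Helper28.M9
import Cfsg.Agent.Lib.Helper28.M12Trans
import Cfsg.Agent.Lib.Helper28.CentTwoB
import Cfsg.Agent.Lib.Helper28.OctadTrios
import Cfsg.Agent.Lib.Helper28.CertOrbits

set_option autoImplicit false

/-!
The quartets of a dodecad: a quartet is determined by two of its triples, there are 220 of them,
the stabilizer of the dodecad is transitive on them, the stabilizer of a quartet has order 432 and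
five orbits on quartets.
-/

namespace Cfsg.Agent.Lib.Helper28

open Cfsg MulAction
open scoped Pointwise

/-! ### coded sets -/

theorem goodSet_filter {l : List ℕ} (hl : GoodSet l) (p : ℕ → Bool) : GoodSet (l.filter p) :=
  ⟨hl.1.filter p, fun a ha => hl.2 a (List.mem_of_mem_filter ha)⟩

theorem ptSet_inter {l l' : List ℕ} (hl : GoodSet l) (hl' : GoodSet l') :
    ptSet l ∩ ptSet l' = ptSet (l.filter (fun a => decide (a ∈ l'))) := by
  ext y
  simp only [Finset.mem_inter, mem_ptSet, List.mem_filter, decide_eq_true_eq]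
  constructor
  · rintro ⟨⟨a, ha, rfl⟩, b, hb, hab⟩
    have : b = a := ptN_inj (hl'.2 b hb) (hl.2 a ha) hab
    rw [this] at hb
    exact ⟨a, ⟨ha, hb⟩, rfl⟩
  · rintro ⟨a, ⟨ha, hb⟩, rfl⟩
    exact ⟨⟨a, ha, rfl⟩, a, hb, rfl⟩

theorem ptSet_sdiff {l l' : List ℕ} (hl : GoodSet l) (hl' : GoodSet l') :
    ptSet l \ ptSet l' = ptSet (l.filter (fun a => decide (a ∉ l'))) := by
  ext y
  simp only [Finset.mem_sdiff, mem_ptSet, List.mem_filter, decide_eq_true_eq]
  constructor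
  · rintro ⟨⟨a, ha, rfl⟩, hn⟩
    exact ⟨a, ⟨ha, fun hb => hn ⟨a, hb, rfl⟩⟩, rfl⟩
  · rintro ⟨a, ⟨ha, hb⟩, rfl⟩
    refine ⟨⟨a, ha, rfl⟩, ?_⟩
    rintro ⟨b, hb', hab⟩
    have : b = a := ptN_inj (hl'.2 b hb') (hl.2 a ha) hab
    rw [this] at hb'
    exact hb hb'

theorem ptSet_subset_of_forall {l l' : List ℕ} (h : ∀ a ∈ l, a ∈ l') : ptSet l ⊆ ptSet l' := by
  intro y hy
  obtain ⟨a, ha, rfl⟩ := mem_ptSet.mp hy
  exact mem_ptSet.mpr ⟨a, h a ha, rfl⟩

/-! ### hexads and quartets under the group -/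

theorem hexad_eq_of_five {d C C' : Finset GolayPt} (hC : C ∈ hexadsOn d) (hC' : C' ∈ hexadsOn d)
    (s : Finset GolayPt) (h5 : 5 ≤ s.card) (hs : s ⊆ C) (hs' : s ⊆ C') : C = C' := by
  classical
  obtain ⟨_, o, ho, rfl⟩ := hC
  obtain ⟨_, o', ho', rfl⟩ := hC'
  have : o = o' := octad_eq_of_subset (s := s) h5 ho ho' (hs.trans Finset.inter_subset_left)
    (hs'.trans Finset.inter_subset_left)
  rw [this]

theorem smul_mem_hexadsOn {g : Equiv.Perm GolayPt} (hg : g ∈ M24) {d C : Finset GolayPt}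
    (hC : C ∈ hexadsOn d) : g • C ∈ hexadsOn (g • d) := by
  classical
  obtain ⟨hcard, o, ho, rfl⟩ := hC
  exact ⟨by rw [Finset.card_smul_finset]; exact hcard, g • o, smul_mem_octads hg ho,
    Finset.smul_finset_inter.symm⟩

theorem smul_mem_quartets {g : Equiv.Perm GolayPt} (hg : g ∈ M24) {d : Finset GolayPt}
    {Q : Finset (Finset GolayPt)} (hQ : Q ∈ quartets d) : g • Q ∈ quartets (g • d) := by
  classical
  obtain ⟨h4, h3, hh⟩ := hQ
  refine ⟨by rw [Finset.card_smul_finset]; exact h4, ?_, ?_⟩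
  · intro t' ht'
    obtain ⟨t, ht, rfl⟩ := Finset.mem_smul_finset.mp ht'
    exact ⟨by rw [Finset.card_smul_finset]; exact (h3 t ht).1,
      Finset.smul_finset_subset_smul_finset (h3 t ht).2⟩
  · intro t' ht' u' hu' hne
    obtain ⟨t, ht, rfl⟩ := Finset.mem_smul_finset.mp ht'
    obtain ⟨u, hu, rfl⟩ := Finset.mem_smul_finset.mp hu'
    have htu : t ≠ u := fun h => hne (by rw [h])
    rw [← Finset.smul_finset_union]
    exact smul_mem_hexadsOn hg (hh t ht u hu htu)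

theorem quartets_smul {g : Equiv.Perm GolayPt} (hg : g ∈ M24) (d : Finset GolayPt) :
    quartets (g • d) = (fun Q : Finset (Finset GolayPt) => g • Q) '' quartets d := by
  ext Q
  constructor
  · intro hQ
    refine ⟨g⁻¹ • Q, ?_, smul_inv_smul g Q⟩
    have := smul_mem_quartets (M24.inv_mem hg) hQ
    rwa [inv_smul_smul] at this
  · rintro ⟨Q', hQ', rfl⟩
    exact smul_mem_quartets hg hQ'

/-! ### the hexads of the base dodecad -/

theorem mem_hexadsOn_base {C : Finset GolayPt} :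
    C ∈ hexadsOn (ptSet m9_base) ↔ ∃ l ∈ qt_hexL, ptSet l = C := by
  classical
  constructor
  · rintro ⟨hcard, o, ho, rfl⟩
    obtain ⟨x, hx, rfl⟩ := (alloct_enum.2.2 o).mp ho
    have hgx := alloct_enum.1 x hx
    rw [ptSet_inter hgx m9_base_check.1] at hcard ⊢
    rw [card_ptSet (goodSet_filter hgx _)] at hcard
    refine ⟨_, ?_, rfl⟩
    unfold qt_hexL
    rw [List.mem_filter]
    exact ⟨List.mem_map.mpr ⟨x, hx, rfl⟩, by simpa using hcard⟩
  · rintro ⟨l, hl, rfl⟩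
    unfold qt_hexL at hl
    rw [List.mem_filter, List.mem_map] at hl
    obtain ⟨⟨x, hx, rfl⟩, hlen⟩ := hl
    have hgx := alloct_enum.1 x hx
    refine ⟨?_, ptSet x, (alloct_enum.2.2 _).mpr ⟨x, hx, rfl⟩,
      ptSet_inter hgx m9_base_check.1⟩
    rw [card_ptSet (goodSet_filter hgx _)]
    simpa using hlen

theorem qt_pair_hexad : ∀ l ∈ qt_q0, ∀ l' ∈ qt_q0, l ≠ l' →
    ptSet l ∪ ptSet l' ∈ hexadsOn (ptSet m9_base) := by
  intro l hl l' hl' hne
  have h := qt_q0_check.2.2 l hl l' hl' hne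
  rw [List.any_eq_true] at h
  obtain ⟨x, hx, hxe⟩ := h
  rw [← ptSet_append]
  exact mem_hexadsOn_base.mpr ⟨x, hx, ptSet_eq_of_setEqB hxe⟩

theorem qt_q0_good : GoodFam qt_q0 :=
  goodFam_of_disjoint (fun l hl => ⟨(qt_q0_check.1 l hl).1, (qt_q0_check.1 l hl).2.1⟩)
    qt_q0_check.2.1

theorem qt_q0_eq : famSet qt_q0 =
    {ptSet [0, 1, 2], ptSet [3, 4, 12], ptSet [5, 11, 16], ptSet [9, 15, 23]} := by
  simp [famSet, qt_q0]

theorem qt_q0_mem : famSet qt_q0 ∈ quartets (ptSet m9_base) := by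
  refine ⟨by rw [card_famSet qt_q0_good]; rfl, ?_, ?_⟩
  · intro t ht
    obtain ⟨l, hl, rfl⟩ := mem_famSet.mp ht
    obtain ⟨hg, -, hlen, hsub⟩ := qt_q0_check.1 l hl
    exact ⟨by rw [card_ptSet hg, hlen], ptSet_subset_of_forall hsub⟩
  · intro t ht u hu hne
    obtain ⟨l, hl, rfl⟩ := mem_famSet.mp ht
    obtain ⟨l', hl', rfl⟩ := mem_famSet.mp hu
    exact qt_pair_hexad l hl l' hl' (fun h => hne (by rw [h]))

/-! ### the normal form of a pair of triples -/

theorem qt_t0_eq : ptSet [0, 1, 2] = {ptN 0, ptN 1, ptN 2} := by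
  simp [ptSet]

theorem pair_normal_form {d : Finset GolayPt} (hd : d ∈ dodecads) {t u : Finset GolayPt}
    (ht : t.card = 3) (hu : u.card = 3) (htu : Disjoint t u) (hh : t ∪ u ∈ hexadsOn d) :
    ∃ g ∈ M24, g • d = ptSet m9_base ∧ g • t = ptSet [0, 1, 2] ∧ g • u = ptSet [3, 4, 12] := by
  classical
  obtain ⟨a, b, c, hab, hac, hbc, rfl⟩ := Finset.card_eq_three.mp ht
  obtain ⟨e, f, x, hef, hex, hfx, rfl⟩ := Finset.card_eq_three.mp hu
  have hsub := hexad_subset hh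
  have hd₀ : ptSet m9_base ∈ dodecads := m9_base_check.mem
  have hdis := Finset.disjoint_left.mp htu
  have hne : ∀ y ∈ ({a, b, c} : Finset GolayPt), ∀ z ∈ ({e, f, x} : Finset GolayPt), y ≠ z :=
    fun y hy z hz h => hdis hy (h ▸ hz)
  have hl : [a, b, c, e, f].Nodup := by
    have h1 := hne a (by simp) e (by simp)
    have h2 := hne a (by simp) f (by simp)
    have h3 := hne b (by simp) e (by simp)
    have h4 := hne b (by simp) f (by simp)
    have h5 := hne c (by simp) e (by simp)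
    have h6 := hne c (by simp) f (by simp)
    simp [hab, hac, hbc, hef, h1, h2, h3, h4, h5, h6]
  have hmem : ∀ y ∈ [a, b, c, e, f], y ∈ ({a, b, c} : Finset GolayPt) ∪ {e, f, x} := by
    intro y hy
    simp only [List.mem_cons, List.not_mem_nil, or_false] at hy
    rcases hy with rfl | rfl | rfl | rfl | rfl <;> simp
  have hld : ∀ y ∈ [a, b, c, e, f], y ∈ d := fun y hy => hsub (hmem y hy)
  have hg5 : GoodSet [0, 1, 2, 3, 4] := by decide
  have hl' : ([0, 1, 2, 3, 4].map ptN).Nodup := nodup_map_ptN hg5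
  have hld' : ∀ y ∈ [0, 1, 2, 3, 4].map ptN, y ∈ ptSet m9_base := by
    intro y hy
    obtain ⟨i, hi, rfl⟩ := List.mem_map.mp hy
    exact mem_ptSet.mpr ⟨i, (by decide : ∀ i ∈ [0, 1, 2, 3, 4], i ∈ m9_base) i hi, rfl⟩
  obtain ⟨g, hg, hgd, hmap⟩ := M24_dodecad_list_transitive hd hd₀ [a, b, c, e, f]
    ([0, 1, 2, 3, 4].map ptN) hl hl' hld hld' rfl (by simp)
  have hmap' := hmap
  simp only [List.map_cons, List.map_nil, List.cons.injEq, and_true] at hmap'
  obtain ⟨ha, hb, hc, he, hf⟩ := hmap'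
  have hgt : g • ({a, b, c} : Finset GolayPt) = ptSet [0, 1, 2] := by
    rw [Finset.smul_finset_insert, Finset.smul_finset_insert, Finset.smul_finset_singleton,
      Equiv.Perm.smul_def, Equiv.Perm.smul_def, Equiv.Perm.smul_def, ha, hb, hc, qt_t0_eq]
  refine ⟨g, hg, hgd, hgt, ?_⟩
  have h1 : g • (({a, b, c} : Finset GolayPt) ∪ {e, f, x}) ∈ hexadsOn (ptSet m9_base) := by
    have := smul_mem_hexadsOn hg hh
    rwa [hgd] at this
  have h2 : ptSet [0, 1, 2] ∪ ptSet [3, 4, 12] ∈ hexadsOn (ptSet m9_base) :=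
    qt_pair_hexad [0, 1, 2] (by decide) [3, 4, 12] (by decide) (by decide)
  have hEq : g • (({a, b, c} : Finset GolayPt) ∪ {e, f, x}) = ptSet [0, 1, 2] ∪ ptSet [3, 4, 12] := by
    apply hexad_eq_of_five h1 h2 (ptSet [0, 1, 2, 3, 4])
    · rw [card_ptSet hg5]; decide
    · intro y hy
      have hy' : y ∈ [0, 1, 2, 3, 4].map ptN := by
        unfold ptSet at hy
        exact List.mem_toFinset.mp hy
      rw [← hmap] at hy'
      obtain ⟨z, hz, rfl⟩ := List.mem_map.mp hy'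
      exact Finset.smul_mem_smul_finset (hmem z hz)
    · rw [← ptSet_append]
      exact ptSet_subset_of_forall (by decide)
  have hdisj0 : Disjoint (ptSet [0, 1, 2]) (ptSet [3, 4, 12]) :=
    disjoint_ptSet (by decide) (by decide) (by decide)
  have hu' : ({e, f, x} : Finset GolayPt) = (({a, b, c} : Finset GolayPt) ∪ {e, f, x}) \ {a, b, c} :=
    (Finset.union_sdiff_cancel_left htu).symm
  rw [hu', Finset.smul_finset_sdiff, hEq, hgt, Finset.union_sdiff_cancel_left hdisj0]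

/-! ### uniqueness at the base -/

theorem qt_key {s : Finset GolayPt} (hs : s.card = 3)
    (h1 : ptSet [0, 1, 2] ∪ s ∈ hexadsOn (ptSet m9_base))
    (h2 : ptSet [3, 4, 12] ∪ s ∈ hexadsOn (ptSet m9_base)) :
    s = ptSet [5, 11, 16] ∨ s = ptSet [9, 15, 23] := by
  classical
  obtain ⟨l, hl, hls⟩ := mem_hexadsOn_base.mp h1
  obtain ⟨l', hl', hls'⟩ := mem_hexadsOn_base.mp h2
  have hgl := qt_hexL_good l hl
  have hgl' := qt_hexL_good l' hl'
  have hg0 : GoodSet [0, 1, 2] := by decide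
  have hg1 : GoodSet [3, 4, 12] := by decide
  have hd1 : Disjoint (ptSet [0, 1, 2]) s := by
    apply Finset.card_union_eq_card_add_card.mp
    rw [h1.1, card_ptSet hg0, hs]
    rfl
  have hd2 : Disjoint (ptSet [3, 4, 12]) s := by
    apply Finset.card_union_eq_card_add_card.mp
    rw [h2.1, card_ptSet hg1, hs]
    rfl
  have hs1 : s = ptSet (l.filter (fun a => decide (a ∉ [0, 1, 2]))) := by
    rw [← ptSet_sdiff hgl hg0, hls, Finset.union_sdiff_cancel_left hd1]
  have hs2 : s = ptSet (l'.filter (fun a => decide (a ∉ [3, 4, 12]))) := by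
    rw [← ptSet_sdiff hgl' hg1, hls', Finset.union_sdiff_cancel_left hd2]
  have hlen : (l.filter (fun a => decide (a ∉ [0, 1, 2]))).length = 3 := by
    rw [← card_ptSet (goodSet_filter hgl _), ← hs1, hs]
  have hcode : setCode (l.filter (fun a => decide (a ∉ [0, 1, 2]))) =
      setCode (l'.filter (fun a => decide (a ∉ [3, 4, 12]))) := by
    rw [setCode_eq (goodSet_filter hgl _), setCode_eq (goodSet_filter hgl' _), ← hs1, ← hs2]
  rcases qt_key_check l hl hlen l' hl' hcode with h | h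
  · left
    rw [hs1, ptSet_eq_maskSet (goodSet_filter hgl _), h, ← ptSet_eq_maskSet (by decide)]
  · right
    rw [hs1, ptSet_eq_maskSet (goodSet_filter hgl _), h, ← ptSet_eq_maskSet (by decide)]

theorem qt_base_unique {Q : Finset (Finset GolayPt)} (hQ : Q ∈ quartets (ptSet m9_base))
    (ht : ptSet [0, 1, 2] ∈ Q) (hu : ptSet [3, 4, 12] ∈ Q) : Q = famSet qt_q0 := by
  classical
  obtain ⟨h4, h3, hh⟩ := hQ
  apply Finset.eq_of_subset_of_card_le
  · intro s hs
    rw [qt_q0_eq]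
    simp only [Finset.mem_insert, Finset.mem_singleton]
    by_cases e1 : s = ptSet [0, 1, 2]
    · left; exact e1
    by_cases e2 : s = ptSet [3, 4, 12]
    · right; left; exact e2
    right; right
    exact qt_key (h3 s hs).1 (hh _ ht s hs (Ne.symm e1)) (hh _ hu s hs (Ne.symm e2))
  · rw [h4, card_famSet qt_q0_good]
    rfl

/-! ### the normal form of a quartet -/

theorem quartet_normal_form {d : Finset GolayPt} (hd : d ∈ dodecads)
    {Q : Finset (Finset GolayPt)} (hQ : Q ∈ quartets d) {t u : Finset GolayPt} (ht : t ∈ Q)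
    (hu : u ∈ Q) (htu : t ≠ u) :
    ∃ g ∈ M24, g • d = ptSet m9_base ∧ g • t = ptSet [0, 1, 2] ∧ g • u = ptSet [3, 4, 12] ∧
      g • Q = famSet qt_q0 := by
  classical
  have h3 := hQ.2.1
  have hh := hQ.2.2 t ht u hu htu
  have hdisj : Disjoint t u := by
    apply Finset.card_union_eq_card_add_card.mp
    rw [hh.1, (h3 t ht).1, (h3 u hu).1]
  obtain ⟨g, hg, hgd, hgt, hgu⟩ := pair_normal_form hd (h3 t ht).1 (h3 u hu).1 hdisj hh
  refine ⟨g, hg, hgd, hgt, hgu, ?_⟩
  have hQ' : g • Q ∈ quartets (ptSet m9_base) := by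
    have := smul_mem_quartets hg hQ
    rwa [hgd] at this
  apply qt_base_unique hQ'
  · rw [← hgt]; exact Finset.smul_mem_smul_finset ht
  · rw [← hgu]; exact Finset.smul_mem_smul_finset hu

theorem exists_pair_of_quartet {d : Finset GolayPt} {Q : Finset (Finset GolayPt)}
    (hQ : Q ∈ quartets d) : ∃ t ∈ Q, ∃ u ∈ Q, t ≠ u :=
  Finset.one_lt_card.mp (by rw [hQ.1]; norm_num)

/-- a quartet is determined by two of its triples -/
theorem quartet_unique_of_pair (d : Finset GolayPt) (hd : d ∈ dodecads) (t u : Finset GolayPt)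
    (ht : t.card = 3) (hu : u.card = 3) (htu : Disjoint t u) (hh : t ∪ u ∈ hexadsOn d) :
    ∃! Q : Finset (Finset GolayPt), Q ∈ quartets d ∧ t ∈ Q ∧ u ∈ Q := by
  classical
  obtain ⟨g, hg, hgd, hgt, hgu⟩ := pair_normal_form hd ht hu htu hh
  refine ⟨g⁻¹ • famSet qt_q0, ⟨?_, ?_, ?_⟩, ?_⟩
  · have := smul_mem_quartets (M24.inv_mem hg) qt_q0_mem
    rwa [← hgd, inv_smul_smul] at this
  · rw [Finset.mem_inv_smul_finset_iff, hgt, qt_q0_eq]
    simp
  · rw [Finset.mem_inv_smul_finset_iff, hgu, qt_q0_eq]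
    simp
  · rintro Q' ⟨hQ', ht', hu'⟩
    have hQ'' : g • Q' ∈ quartets (ptSet m9_base) := by
      have := smul_mem_quartets hg hQ'
      rwa [hgd] at this
    have := qt_base_unique hQ'' (by rw [← hgt]; exact Finset.smul_mem_smul_finset ht')
      (by rw [← hgu]; exact Finset.smul_mem_smul_finset hu')
    rw [← this, inv_smul_smul]

/-! ### the stabilizer of the base quartet -/

/-- the stabilizer of the base dodecad, as a subgroup of permutations -/
def qtH : Subgroup (Equiv.Perm GolayPt) :=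
  M24 ⊓ stabilizer (Equiv.Perm GolayPt) (ptSet m9_base)

/-- the stabilizer of the base quartet in the stabilizer of the base dodecad -/
def qtK : Subgroup (Equiv.Perm GolayPt) :=
  qtH ⊓ stabilizer (Equiv.Perm GolayPt) (famSet qt_q0)

theorem mem_qtH {g : Equiv.Perm GolayPt} :
    g ∈ qtH ↔ g ∈ M24 ∧ g • ptSet m9_base = ptSet m9_base := by
  unfold qtH
  rw [Subgroup.mem_inf]
  exact Iff.rfl

theorem mem_qtK {g : Equiv.Perm GolayPt} :
    g ∈ qtK ↔ g ∈ M24 ∧ g • ptSet m9_base = ptSet m9_base ∧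
      g • famSet qt_q0 = famSet qt_q0 := by
  unfold qtK
  rw [Subgroup.mem_inf, mem_qtH, and_assoc]
  exact Iff.rfl

theorem qtH_card : Nat.card qtH = 95040 := by
  unfold qtH
  rw [← card_stabilizer_subgroup, card_stabilizer_dodecad m9_base_check.mem]

theorem qt_dgens : ∀ t ∈ s5_dtabs, ∃ g ∈ qtH, ActsBy g t :=
  gens_stab_set s5_dtabs m9_base m9_base_check.1 s5_dtabs_check

theorem smul_quartets_qtH {g : Equiv.Perm GolayPt} (hg : g ∈ qtH)
    {Q : Finset (Finset GolayPt)} (hQ : Q ∈ quartets (ptSet m9_base)) :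
    g • Q ∈ quartets (ptSet m9_base) := by
  obtain ⟨hgM, hgd⟩ := mem_qtH.mp hg
  have := smul_mem_quartets hgM hQ
  rwa [hgd] at this

theorem qt_nodes_quartet : ∀ x ∈ qt_omodel.nodes s5_dtabs qt_q0 qt_ocert,
    famSet x ∈ quartets (ptSet m9_base) := by
  intro x hx
  obtain ⟨-, g, hg, hgx⟩ := qt_omodel.nodes_sound qtH s5_dtabs qt_dgens qt_q0 qt_q0_good qt_ocert x hx
  have : g • famSet qt_q0 = famSet x := hgx
  rw [← this]
  exact smul_quartets_qtH hg qt_q0_mem

theorem qtK_card_le : Nat.card qtK ≤ 432 := by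
  have hs := qt_omodel.nodes_sound qtH s5_dtabs qt_dgens qt_q0 qt_q0_good qt_ocert
  have hnd : ((qt_omodel.nodes s5_dtabs qt_q0 qt_ocert).map famSet).Nodup :=
    qt_omodel.sem_nodup _ (fun x hx => (hs x hx).1) qt_ocheck.1
  have key := card_mul_le_of_orbit qtH qtK (famSet qt_q0) inf_le_left
    (fun c hc => (mem_qtK.mp hc).2.2) _ hnd (by
      intro z hz
      obtain ⟨x, hx, rfl⟩ := List.mem_map.mp hz
      exact (hs x hx).2)
  rw [List.length_map, qt_ocheck.2, qtH_card] at key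
  have h2 : (95040 : ℕ) = 432 * 220 := by norm_num
  rw [h2] at key
  exact Nat.le_of_mul_le_mul_right key (by norm_num)

theorem qt_hgens : ∀ t ∈ qt_tabs, ∃ g ∈ qtK, ActsBy g t := by
  intro t ht
  obtain ⟨htab, hset, hfam⟩ := qt_tabs_check t ht
  obtain ⟨g, hg, hact⟩ := htab.exists
  refine ⟨g, mem_qtK.mpr ⟨hg, ?_, ?_⟩, hact⟩
  · rw [(smul_ptSet hact m9_base_check.1).1]
    exact ptSet_eq_of_setEqB hset
  · exact smul_famSet_eq_of_famSubB hact qt_q0_good hfam

theorem qt_enum : Nat.card qtK = 432 ∧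
    ∀ g ∈ qtK, ∃ l ∈ qt_model.nodes qt_tabs idList qt_cert, GoodPerm l ∧ g = permOfList l :=
  elems_of_cert_le _ _ qt_tabs qt_hgens qt_cert 432 qtK_card_le qt_check.1 qt_check.2

theorem qt_orbit_ncard : (orbit qtH (famSet qt_q0)).ncard = 220 := by
  have h := card_eq_orbit_mul_card_inf_stabilizer' qtH (famSet qt_q0)
  rw [qtH_card] at h
  have h2 : Nat.card ↥(qtH ⊓ stabilizer (Equiv.Perm GolayPt) (famSet qt_q0)) = 432 := qt_enum.1
  rw [h2] at h
  omega

theorem quartets_base_eq : quartets (ptSet m9_base) = orbit qtH (famSet qt_q0) := by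
  ext Q
  constructor
  · intro hQ
    obtain ⟨t, ht, u, hu, htu⟩ := exists_pair_of_quartet hQ
    obtain ⟨g, hg, hgd, -, -, hgQ⟩ := quartet_normal_form m9_base_check.mem hQ ht hu htu
    have hginv : g⁻¹ ∈ qtH := qtH.inv_mem (mem_qtH.mpr ⟨hg, hgd⟩)
    refine ⟨⟨g⁻¹, hginv⟩, ?_⟩
    show g⁻¹ • famSet qt_q0 = Q
    rw [← hgQ, inv_smul_smul]
  · rintro ⟨g, rfl⟩
    exact smul_quartets_qtH g.2 qt_q0_mem

theorem ncard_quartets_base : (quartets (ptSet m9_base)).ncard = 220 := by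
  rw [quartets_base_eq, qt_orbit_ncard]

/-- a dodecad has 220 quartets -/
theorem ncard_quartets {d : Finset GolayPt} (hd : d ∈ dodecads) : (quartets d).ncard = 220 := by
  obtain ⟨g, hg, rfl⟩ := M24_dodecad_transitive m9_base_check.mem hd
  rw [quartets_smul hg, Set.ncard_image_of_injective _ (MulAction.injective g),
    ncard_quartets_base]

/-- the stabilizer of a dodecad is transitive on its quartets -/
theorem quartets_transitive {d : Finset GolayPt} (hd : d ∈ dodecads)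
    {Q Q' : Finset (Finset GolayPt)} (hQ : Q ∈ quartets d) (hQ' : Q' ∈ quartets d) :
    ∃ g : Equiv.Perm GolayPt, g ∈ M24 ∧ g • d = d ∧ g • Q = Q' := by
  obtain ⟨t, ht, u, hu, htu⟩ := exists_pair_of_quartet hQ
  obtain ⟨t', ht', u', hu', htu'⟩ := exists_pair_of_quartet hQ'
  obtain ⟨g, hg, hgd, -, -, hgQ⟩ := quartet_normal_form hd hQ ht hu htu
  obtain ⟨g', hg', hgd', -, -, hgQ'⟩ := quartet_normal_form hd hQ' ht' hu' htu'
  refine ⟨g'⁻¹ * g, M24.mul_mem (M24.inv_mem hg') hg, ?_, ?_⟩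
  · rw [mul_smul, hgd, ← hgd', inv_smul_smul]
  · rw [mul_smul, hgQ, ← hgQ', inv_smul_smul]

/-- the stabilizer of a quartet has order 432 -/
theorem card_quartet_stab {d : Finset GolayPt} (hd : d ∈ dodecads)
    {Q : Finset (Finset GolayPt)} (hQ : Q ∈ quartets d) :
    Nat.card ↥(stabilizer M24 d ⊓ stabilizer M24 Q) = 432 := by
  have h := card_eq_orbit_mul_card_inf_stabilizer' (stabilizer M24 d) Q
  rw [card_stabilizer_dodecad hd] at h
  have horb : orbit (stabilizer M24 d) Q = quartets d := by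
    ext Q'
    constructor
    · rintro ⟨g, rfl⟩
      have h1 := smul_mem_quartets g.1.2 hQ
      have hgd : (g.1.1 : Equiv.Perm GolayPt) • d = d := g.2
      rw [hgd] at h1
      exact h1
    · intro hQ'
      obtain ⟨g, hg, hgd, hgQ⟩ := quartets_transitive hd hQ hQ'
      exact ⟨⟨⟨g, hg⟩, hgd⟩, hgQ⟩
  rw [horb, ncard_quartets hd] at h
  omega

/-! ### orbits of a conjugate of a subgroup -/

theorem orbits_of_cert_sub {Y : Type*} [MulAction (Equiv.Perm GolayPt) Y]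
    (K₀ : Subgroup (Equiv.Perm GolayPt)) (h : Equiv.Perm GolayPt) (G : Subgroup ↥M24)
    (hconj : ∀ k ∈ K₀, ∃ x : ↥G, ((x : ↥M24) : Equiv.Perm GolayPt) = h * k * h⁻¹)
    (F : Set Y) (hFinv : ∀ x : ↥G, ∀ y ∈ F, ((x : ↥M24) : Equiv.Perm GolayPt) • y ∈ F)
    (N : ℕ) (hN : F.ncard = N) (hfin : F.Finite)
    {k : ℕ} (X₀ : Fin k → Y) (hX : ∀ i, h • X₀ i ∈ F) (Ls : Fin k → List Y)
    (hnd : ((List.ofFn Ls).flatten).Nodup)
    (hcert : ∀ i, ∀ y ∈ Ls i, ∃ g ∈ K₀, g • X₀ i = y)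
    (n : Fin k → ℕ) (hn : ∀ i, (Ls i).length = n i) (hsum : ∑ i, n i = N)
    (c : ℕ) (hc : Nat.card G = c)
    (harith : ∀ J : Finset (Fin k), J.Nonempty → (∑ j ∈ J, n j) ∣ c → ∃ j, J = {j}) :
    (∀ i, (orbit G (h • X₀ i)).ncard = n i) ∧ F = ⋃ i, orbit G (h • X₀ i) := by
  classical
  obtain ⟨hnd1, hnd2⟩ := pairwise_disjoint_of_nodup_flatten Ls hnd
  have hinj : Function.Injective (fun y : Y => h • y) := MulAction.injective h
  refine orbits_partition (G := G) F hfin N hN ?_ (fun i => h • X₀ i) hX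
    (fun i => (fun y : Y => h • y) '' {y | y ∈ Ls i}) ?_ ?_ n ?_ hsum c hc harith
  · intro x y hy
    exact hFinv x y hy
  · rintro i _ ⟨y, hy, rfl⟩
    obtain ⟨g, hg, rfl⟩ := hcert i y hy
    obtain ⟨x, hx⟩ := hconj g hg
    refine ⟨x, ?_⟩
    show ((x : ↥M24) : Equiv.Perm GolayPt) • (h • X₀ i) = h • g • X₀ i
    rw [hx, mul_smul, mul_smul, inv_smul_smul]
  · intro i j hij
    rw [Set.disjoint_left]
    rintro _ ⟨y, hy, rfl⟩ ⟨y', hy', hyy'⟩
    have : y' = y := hinj hyy'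
    rw [this] at hy'
    exact hnd2 i j hij y hy hy'
  · intro i
    rw [Set.ncard_image_of_injective _ hinj, ← hn i]
    have : {y | y ∈ Ls i} = (((Ls i).toFinset : Finset Y) : Set Y) := by
      ext y; simp
    rw [this, Set.ncard_coe_finset, List.toFinset_card_of_nodup (hnd1 i)]

/-! ### the orbits of a quartet stabilizer -/

theorem qt_roots_mem : ∀ i, famSet (qt_roots i) ∈ quartets (ptSet m9_base) := by
  intro i
  obtain ⟨x, hx, hsub, hlen, hgood, hpw⟩ := qt_roots_check.2 i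
  have hgf : GoodFam (qt_roots i) := goodFam_of_disjoint hgood hpw
  have hxq := qt_nodes_quartet x hx
  have : famSet (qt_roots i) = famSet x := by
    apply Finset.eq_of_subset_of_card_le (famSet_subset_of_famSubB hsub)
    rw [hxq.1, card_famSet hgf, hlen]
  rw [this]
  exact hxq

theorem qt_roots_good : ∀ i, GoodFam (qt_roots i) := by
  intro i
  obtain ⟨x, hx, hsub, hlen, hgood, hpw⟩ := qt_roots_check.2 i
  exact goodFam_of_disjoint hgood hpw

/-- a quartet stabilizer has five orbits on quartets, of sizes 1, 12, 27, 72 and 108 -/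
theorem quartet_stab_orbits (d : Finset GolayPt) (hd : d ∈ dodecads)
    (Q : Finset (Finset GolayPt)) (hQ : Q ∈ quartets d) :
    ∃ X₁ ∈ quartets d, ∃ X₂ ∈ quartets d, ∃ X₃ ∈ quartets d, ∃ X₄ ∈ quartets d,
      (orbit ↥(stabilizer M24 d ⊓ stabilizer M24 Q) X₁).ncard = 12 ∧
      (orbit ↥(stabilizer M24 d ⊓ stabilizer M24 Q) X₂).ncard = 27 ∧
      (orbit ↥(stabilizer M24 d ⊓ stabilizer M24 Q) X₃).ncard = 72 ∧
      (orbit ↥(stabilizer M24 d ⊓ stabilizer M24 Q) X₄).ncard = 108 ∧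
      quartets d = {Q} ∪ orbit ↥(stabilizer M24 d ⊓ stabilizer M24 Q) X₁ ∪
        orbit ↥(stabilizer M24 d ⊓ stabilizer M24 Q) X₂ ∪
        orbit ↥(stabilizer M24 d ⊓ stabilizer M24 Q) X₃ ∪
        orbit ↥(stabilizer M24 d ⊓ stabilizer M24 Q) X₄ := by
  classical
  obtain ⟨t, ht, u, hu, htu⟩ := exists_pair_of_quartet hQ
  obtain ⟨g, hg, hgd, -, -, hgQ⟩ := quartet_normal_form hd hQ ht hu htu
  have hh : g⁻¹ ∈ M24 := M24.inv_mem hg
  have hd' : g⁻¹ • ptSet m9_base = d := by rw [← hgd, inv_smul_smul]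
  have hQ' : g⁻¹ • famSet qt_q0 = Q := by rw [← hgQ, inv_smul_smul]
  have hc := card_quartet_stab hd hQ
  have hconj : ∀ k ∈ qtK, ∃ x : ↥(stabilizer M24 d ⊓ stabilizer M24 Q),
      ((x : ↥M24) : Equiv.Perm GolayPt) = g⁻¹ * k * g⁻¹⁻¹ := by
    intro k hk
    obtain ⟨hkM, hkd, hkQ⟩ := mem_qtK.mp hk
    have hM : g⁻¹ * k * g⁻¹⁻¹ ∈ M24 := M24.mul_mem (M24.mul_mem hh hkM) (M24.inv_mem hh)
    refine ⟨⟨⟨_, hM⟩, Subgroup.mem_inf.mpr ⟨?_, ?_⟩⟩, rfl⟩
    · show (g⁻¹ * k * g⁻¹⁻¹) • d = d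
      rw [← hd', mul_smul, mul_smul, inv_smul_smul, hkd]
    · show (g⁻¹ * k * g⁻¹⁻¹) • Q = Q
      rw [← hQ', mul_smul, mul_smul, inv_smul_smul, hkQ]
  have hFinv : ∀ x : ↥(stabilizer M24 d ⊓ stabilizer M24 Q), ∀ y ∈ quartets d,
      ((x : ↥M24) : Equiv.Perm GolayPt) • y ∈ quartets d := by
    intro x y hy
    have h1 := smul_mem_quartets x.1.2 hy
    have h2 : (x.1.1 : Equiv.Perm GolayPt) • d = d := (Subgroup.mem_inf.mp x.2).1
    rwa [h2] at h1
  have hX : ∀ i, g⁻¹ • qt_omodel.sem (qt_roots i) ∈ quartets d := by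
    intro i
    have := smul_mem_quartets hh (qt_roots_mem i)
    rwa [hd'] at this
  obtain ⟨hm1, hm2⟩ := qt_omodel.main qtK qt_tabs qt_hgens qt_roots qt_roots_good qt_certs
    qt_orb_check
  obtain ⟨h1, h2⟩ := orbits_of_cert_sub qtK g⁻¹ (stabilizer M24 d ⊓ stabilizer M24 Q) hconj
    (quartets d) hFinv 220 (ncard_quartets hd) (Set.toFinite _)
    (fun i => qt_omodel.sem (qt_roots i)) hX
    (fun i => (qt_omodel.nodes qt_tabs (qt_roots i) (qt_certs i)).map qt_omodel.sem) hm1 hm2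
    qt_sizes (fun i => by rw [List.length_map]; exact qt_orb_len i) (by decide) 432 hc
    (by decide)
  rw [iUnion_fin_five] at h2
  have h0 : orbit ↥(stabilizer M24 d ⊓ stabilizer M24 Q) (g⁻¹ • qt_omodel.sem (qt_roots 0)) =
      {Q} := by
    obtain ⟨a, ha⟩ := Set.ncard_eq_one.mp (h1 0)
    have hmem : g⁻¹ • qt_omodel.sem (qt_roots 0) ∈
        orbit ↥(stabilizer M24 d ⊓ stabilizer M24 Q) (g⁻¹ • qt_omodel.sem (qt_roots 0)) :=
      mem_orbit_self _
    rw [ha] at hmem ⊢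
    rw [Set.mem_singleton_iff] at hmem
    have h00 : qt_omodel.sem (qt_roots 0) = famSet qt_q0 := by
      show famSet (qt_roots 0) = famSet qt_q0
      rw [qt_roots_check.1]
    rw [← hmem, h00, hQ']
  rw [h0] at h2
  exact ⟨_, hX 1, _, hX 2, _, hX 3, _, hX 4, h1 1, h1 2, h1 3, h1 4, h2⟩

end Cfsg.Agent.Lib.Helper28
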