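import Cfsg.Agent.Lib.Helper28.Data2133
import Cfsg.Agent.Lib.Helper28.OctadReg
import Cfsg.Agent.Lib.Helper28.OctadAlt
import Cfsg.Agent.Lib.Helper28.Quartets
import Cfsg.Agent.Lib.Helper28.CentTwoB
import Cfsg.Agent.Lib.Helper28.CertClasses2
import Mathlib.LinearAlgebra.Matrix.GeneralLinearGroup.Card
import Mathlib.LinearAlgebra.Matrix.Transvection

set_option autoImplicit false

/-!
The stabilizer of an octad in `M24` acts on the sixteen points outside the octad as the affine group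
of a four-dimensional space over the field with two elements: an isomorphism of the stabilizer with
the group of invertible `5 × 5` matrices over `ZMod 2` whose second row is the second unit vector.
-/

namespace Cfsg.Agent.Lib.Helper28

open Cfsg MulAction
open scoped Pointwise

/-- the vector of a five-bit code -/
def vecOf (n : ℕ) : Fin 5 → ZMod 2 := fun i => if n.testBit i.val = true then 1 else 0

theorem vecOf_xor (m n : ℕ) : vecOf (m ^^^ n) = vecOf m + vecOf n := by
  funext i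
  simp only [vecOf, Pi.add_apply]
  rw [Nat.testBit_xor]
  cases h1 : m.testBit i.val <;> cases h2 : n.testBit i.val <;> decide

theorem vecOf_zero : vecOf 0 = 0 := by
  funext i
  simp [vecOf]

theorem char_two_vec {A B C D : Fin 5 → ZMod 2} (h : A + (B + (C + D)) = 0) : A + B + C = D := by
  funext i
  have h1 := congrFun h i
  simp only [Pi.add_apply, Pi.zero_apply] at h1 ⊢
  generalize A i = a at h1 ⊢
  generalize B i = b at h1 ⊢
  generalize C i = c at h1 ⊢
  generalize D i = d at h1 ⊢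
  revert a b c d
  decide

theorem ag_vec_check : (∀ a ∈ ag_comp, ∀ b ∈ ag_comp, vecOf (agc a) = vecOf (agc b) → a = b) ∧
    vecOf (agc 4) = Pi.single 1 1 ∧ vecOf (agc 6) = Pi.single 1 1 + Pi.single 0 1 ∧
    vecOf (agc 7) = Pi.single 1 1 + Pi.single 2 1 ∧ vecOf (agc 9) = Pi.single 1 1 + Pi.single 3 1 ∧
    vecOf (agc 13) = Pi.single 1 1 + Pi.single 4 1 ∧ vecOf 1 = Pi.single 0 1 := by
  decide +kernel

/-- the coordinate vector of a point -/
def agI (x : GolayPt) : Fin 5 → ZMod 2 := vecOf (agc (ptInv x).val)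

theorem agI_ptN {a : ℕ} (ha : a < 24) : agI (ptN a) = vecOf (agc a) := by
  unfold agI
  rw [ptInv_ptN ha]

/-- the base octad -/
def agO : Finset GolayPt := ptSet ag_O0

theorem agO_good : GoodSet ag_O0 := ag_O0_check.1.1

theorem agO_mem : agO ∈ octads := ag_O0_check.1.mem

theorem comp_lt {a : ℕ} (ha : a ∈ ag_comp) : a < 24 := (ag_O0_check.2.2.2.2.2.2 a ha).1

theorem exists_comp_of_not_mem {x : GolayPt} (hx : x ∉ agO) : ∃ a ∈ ag_comp, ptN a = x := by
  obtain ⟨a, ha, rfl⟩ : ∃ a, a < 24 ∧ ptN a = x := ⟨(ptInv x).val, (ptInv x).2, ptN_ptInv x⟩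
  have h : a ∉ ag_O0 := fun h => hx (mem_ptSet.mpr ⟨a, h, rfl⟩)
  exact ⟨a, ag_O0_check.2.2.2.2.2.1 a ha h, rfl⟩

theorem not_mem_of_comp {a : ℕ} (ha : a ∈ ag_comp) : ptN a ∉ agO := by
  have h := ag_O0_check.2.2.2.2.2.2 a ha
  intro hc
  exact h.2 ((ptN_mem_ptSet agO_good h.1).mp hc)

theorem agI_of_mem {x : GolayPt} (hx : x ∈ agO) : agI x = 0 := by
  obtain ⟨a, ha, rfl⟩ := mem_ptSet.mp hx
  rw [agI_ptN (agO_good.2 a ha), ag_codes_check.1 a ha, vecOf_zero]

theorem agI_one_of_not_mem {x : GolayPt} (hx : x ∉ agO) : agI x 1 = 1 := by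
  obtain ⟨a, ha, rfl⟩ := exists_comp_of_not_mem hx
  rw [agI_ptN (comp_lt ha)]
  have h : (agc a).testBit (1 : Fin 5).val = true := (ag_codes_check.2.1 a ha).2
  simp only [vecOf]
  rw [if_pos h]

theorem agI_inj {x y : GolayPt} (hx : x ∉ agO) (hy : y ∉ agO) (h : agI x = agI y) : x = y := by
  obtain ⟨a, ha, rfl⟩ := exists_comp_of_not_mem hx
  obtain ⟨b, hb, rfl⟩ := exists_comp_of_not_mem hy
  rw [agI_ptN (comp_lt ha), agI_ptN (comp_lt hb)] at h
  rw [ag_vec_check.1 a ha b hb h]

/-- the stabilizer of the base octad -/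
def agStab : Subgroup (Equiv.Perm GolayPt) := M24 ⊓ stabilizer (Equiv.Perm GolayPt) agO

theorem mem_agStab {g : Equiv.Perm GolayPt} : g ∈ agStab ↔ g ∈ M24 ∧ g • agO = agO := by
  unfold agStab
  rw [Subgroup.mem_inf]
  exact Iff.rfl

theorem agStab_card : Nat.card agStab = 322560 := card_M24_inf_stabilizer_octad agO_mem

theorem agStab_mem_iff {g : Equiv.Perm GolayPt} (hg : g ∈ agStab) (x : GolayPt) :
    g x ∈ agO ↔ x ∈ agO := by
  have h := (mem_agStab.mp hg).2
  constructor
  · intro hx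
    rw [← h] at hx
    exact (Finset.smul_mem_smul_finset_iff g).mp hx
  · intro hx
    rw [← h]
    exact Finset.smul_mem_smul_finset hx

/-! ### octads meeting the base octad in four points -/

theorem sum_vecOf (l : List ℕ) :
    (l.map (fun a => vecOf (agc a))).sum = vecOf ((l.map agc).foldr (· ^^^ ·) 0) := by
  induction l with
  | nil => simp [vecOf_zero]
  | cons a l ih => simp only [List.map_cons, List.sum_cons, List.foldr_cons, vecOf_xor, ih]

theorem sum_agI_octad {Y : Finset GolayPt} (hY : Y ∈ octads) (h4 : (Y ∩ agO).card = 4) :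
    ∑ y ∈ Y, agI y = 0 := by
  obtain ⟨x, hx, rfl⟩ := (alloct_enum.2.2 Y).mp hY
  have hgx := alloct_enum.1 x hx
  unfold agO at h4
  rw [ptSet_inter hgx agO_good, card_ptSet (goodSet_filter hgx _)] at h4
  have h0 := ag_oct_check x hx h4
  unfold ptSet
  rw [List.sum_toFinset _ (nodup_map_ptN hgx), List.map_map]
  have e : x.map (agI ∘ ptN) = x.map (fun a => vecOf (agc a)) := by
    apply List.map_congr_left
    intro a ha
    exact agI_ptN (hgx.2 a ha)
  rw [e, sum_vecOf, h0, vecOf_zero]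

theorem sum_agI_smul {g : Equiv.Perm GolayPt} (hg : g ∈ agStab) {Y : Finset GolayPt}
    (hY : Y ∈ octads) (h4 : (Y ∩ agO).card = 4) : ∑ y ∈ Y, agI (g y) = 0 := by
  have hg' := mem_agStab.mp hg
  have h1 : g • Y ∈ octads := smul_mem_octads hg'.1 hY
  have h2 : ((g • Y) ∩ agO).card = 4 := by
    have : (g • Y) ∩ agO = g • (Y ∩ agO) := by
      rw [Finset.smul_finset_inter, hg'.2]
    rw [this, Finset.card_smul_finset, h4]
  have h3 := sum_agI_octad h1 h2
  have h4' : g • Y = Y.image (fun y => g y) := rfl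
  rw [h4', Finset.sum_image (fun a _ b _ hab => g.injective hab)] at h3
  exact h3

/-- the side conditions of a step -/
def StepOK (a b c d o1 o2 o3 o4 : ℕ) : Prop :=
  IsOctadList [a, b, c, d, o1, o2, o3, o4] ∧
    ([a, b, c, d, o1, o2, o3, o4].filter (fun x => decide (x ∈ ag_O0))).length = 4 ∧
    (a ∈ ag_comp ∧ b ∈ ag_comp ∧ c ∈ ag_comp ∧ d ∈ ag_comp) ∧
    (o1 ∈ ag_O0 ∧ o2 ∈ ag_O0 ∧ o3 ∈ ag_O0 ∧ o4 ∈ ag_O0) ∧
    agc a ^^^ agc b ^^^ agc c = agc d

instance (a b c d o1 o2 o3 o4 : ℕ) : Decidable (StepOK a b c d o1 o2 o3 o4) := by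
  unfold StepOK IsOctadList
  infer_instance

theorem ag_step {g : Equiv.Perm GolayPt} (hg : g ∈ agStab) (M : Matrix (Fin 5) (Fin 5) (ZMod 2))
    (a b c d o1 o2 o3 o4 : ℕ) (hok : StepOK a b c d o1 o2 o3 o4)
    (ha : M.mulVec (agI (ptN a)) = agI (g (ptN a)))
    (hb : M.mulVec (agI (ptN b)) = agI (g (ptN b)))
    (hc : M.mulVec (agI (ptN c)) = agI (g (ptN c))) :
    M.mulVec (agI (ptN d)) = agI (g (ptN d)) := by
  obtain ⟨hoct, h4, hcomp, ho, hx⟩ := hok
  have hY : ptSet [a, b, c, d, o1, o2, o3, o4] ∈ octads := hoct.mem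
  have h4' : (ptSet [a, b, c, d, o1, o2, o3, o4] ∩ agO).card = 4 := by
    unfold agO
    rw [ptSet_inter hoct.1 agO_good, card_ptSet (goodSet_filter hoct.1 _), h4]
  have key := sum_agI_smul hg hY h4'
  unfold ptSet at key
  rw [List.sum_toFinset _ (nodup_map_ptN hoct.1)] at key
  simp only [List.map_cons, List.map_nil, List.sum_cons, List.sum_nil] at key
  have ez : ∀ o ∈ ag_O0, agI (g (ptN o)) = 0 := fun o ho' =>
    agI_of_mem ((agStab_mem_iff hg _).mpr (mem_ptSet.mpr ⟨o, ho', rfl⟩))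
  rw [ez o1 ho.1, ez o2 ho.2.1, ez o3 ho.2.2.1, ez o4 ho.2.2.2] at key
  simp only [add_zero] at key
  have hd : agI (ptN d) = agI (ptN a) + agI (ptN b) + agI (ptN c) := by
    rw [agI_ptN (comp_lt hcomp.1), agI_ptN (comp_lt hcomp.2.1), agI_ptN (comp_lt hcomp.2.2.1),
      agI_ptN (comp_lt hcomp.2.2.2), ← hx, vecOf_xor, vecOf_xor]
  rw [hd, Matrix.mulVec_add, Matrix.mulVec_add, ha, hb, hc]
  exact char_two_vec key

/-! ### the matrix of an element -/

/-- the five base points outside the octad -/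
def agB : Fin 5 → ℕ := ![6, 4, 7, 9, 13]

/-- the matrix of an element of the stabilizer -/
def agM (g : Equiv.Perm GolayPt) : Matrix (Fin 5) (Fin 5) (ZMod 2) :=
  Matrix.of fun i j => if j = 1 then agI (g (ptN 4)) i
    else agI (g (ptN (agB j))) i + agI (g (ptN 4)) i

theorem agB_facts : (∀ j, agB j ∈ ag_comp) ∧ agB 1 = 4 ∧
    ∀ j : Fin 5, j ≠ 1 → vecOf (agc (agB j)) = Pi.single 1 1 + Pi.single j 1 := by
  decide +kernel

theorem agI_base : agI (ptN 4) = Pi.single 1 1 := by
  rw [agI_ptN (by norm_num)]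
  exact ag_vec_check.2.1

theorem agI_agB {j : Fin 5} (hj : j ≠ 1) : agI (ptN (agB j)) = Pi.single 1 1 + Pi.single j 1 := by
  rw [agI_ptN (comp_lt (agB_facts.1 j))]
  exact agB_facts.2.2 j hj

theorem add_self_vec (A : Fin 5 → ZMod 2) : A + A = 0 := by
  funext i
  simp only [Pi.add_apply, Pi.zero_apply]
  generalize A i = a
  revert a
  decide

theorem single_eq_agI {j : Fin 5} (hj : j ≠ 1) :
    (Pi.single j 1 : Fin 5 → ZMod 2) = agI (ptN (agB j)) + agI (ptN 4) := by
  rw [agI_agB hj, agI_base, add_comm (Pi.single 1 1) (Pi.single j 1), add_assoc, add_self_vec,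
    add_zero]

/-- a matrix is determined by its values on the sixteen points -/
theorem eq_agM {g : Equiv.Perm GolayPt} (M : Matrix (Fin 5) (Fin 5) (ZMod 2))
    (hM : ∀ a ∈ ag_comp, M.mulVec (agI (ptN a)) = agI (g (ptN a))) : M = agM g := by
  have h4 := hM 4 (by decide)
  ext i j
  unfold agM
  rw [Matrix.of_apply]
  by_cases hj : j = 1
  · rw [if_pos hj, ← h4, agI_base, Matrix.mulVec_single_one, hj]
    rfl
  · rw [if_neg hj, ← h4, ← hM _ (agB_facts.1 j), ← Pi.add_apply, ← Matrix.mulVec_add,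
      ← single_eq_agI hj, Matrix.mulVec_single_one]
    rfl

theorem agM_base (g : Equiv.Perm GolayPt) : (agM g).mulVec (agI (ptN 4)) = agI (g (ptN 4)) := by
  rw [agI_base, Matrix.mulVec_single_one]
  funext i
  show agM g i 1 = _
  unfold agM
  rw [Matrix.of_apply, if_pos rfl]

theorem agM_agB (g : Equiv.Perm GolayPt) {j : Fin 5} (hj : j ≠ 1) :
    (agM g).mulVec (agI (ptN (agB j))) = agI (g (ptN (agB j))) := by
  rw [agI_agB hj, Matrix.mulVec_add, Matrix.mulVec_single_one, Matrix.mulVec_single_one]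
  funext i
  show agM g i 1 + agM g i j = _
  unfold agM
  rw [Matrix.of_apply, Matrix.of_apply, if_pos rfl, if_neg hj, add_comm, add_assoc]
  have := congrFun (add_self_vec (agI (g (ptN 4)))) i
  simp only [Pi.add_apply, Pi.zero_apply] at this
  rw [this, add_zero]

theorem agM_spec {g : Equiv.Perm GolayPt} (hg : g ∈ agStab) :
    ∀ a ∈ ag_comp, (agM g).mulVec (agI (ptN a)) = agI (g (ptN a)) := by
  have h4 := agM_base g
  have h6 : (agM g).mulVec (agI (ptN 6)) = agI (g (ptN 6)) := agM_agB g (j := 0) (by decide)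
  have h7 : (agM g).mulVec (agI (ptN 7)) = agI (g (ptN 7)) := agM_agB g (j := 2) (by decide)
  have h9 : (agM g).mulVec (agI (ptN 9)) = agI (g (ptN 9)) := agM_agB g (j := 3) (by decide)
  have h13 : (agM g).mulVec (agI (ptN 13)) = agI (g (ptN 13)) := agM_agB g (j := 4) (by decide)
  have h22 := ag_step hg (agM g) 4 6 7 22 1 2 5 17 (by decide +kernel) h4 h6 h7
  have h12 := ag_step hg (agM g) 4 6 9 12 2 3 5 14 (by decide +kernel) h4 h6 h9
  have h11 := ag_step hg (agM g) 4 7 9 11 0 3 5 17 (by decide +kernel) h4 h7 h9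
  have h19 := ag_step hg (agM g) 4 6 13 19 0 2 3 17 (by decide +kernel) h4 h6 h13
  have h21 := ag_step hg (agM g) 4 7 13 21 0 2 5 14 (by decide +kernel) h4 h7 h13
  have h15 := ag_step hg (agM g) 4 9 13 15 0 1 3 14 (by decide +kernel) h4 h9 h13
  have h10 := ag_step hg (agM g) 4 6 11 10 1 3 14 17 (by decide +kernel) h4 h6 h11
  have h16 := ag_step hg (agM g) 4 6 21 16 0 1 3 5 (by decide +kernel) h4 h6 h21
  have h18 := ag_step hg (agM g) 4 6 15 18 0 5 14 17 (by decide +kernel) h4 h6 h15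
  have h8 := ag_step hg (agM g) 4 7 15 8 2 3 14 17 (by decide +kernel) h4 h7 h15
  have h20 := ag_step hg (agM g) 4 6 8 20 0 1 2 14 (by decide +kernel) h4 h6 h8
  intro a ha
  simp only [ag_comp, List.mem_cons, List.mem_nil_iff, or_false] at ha
  rcases ha with rfl | rfl | rfl | rfl | rfl | rfl | rfl | rfl | rfl | rfl | rfl | rfl | rfl |
    rfl | rfl | rfl <;> assumption

theorem agM_apply {g : Equiv.Perm GolayPt} (hg : g ∈ agStab) {x : GolayPt} (hx : x ∉ agO) :
    (agM g).mulVec (agI x) = agI (g x) := by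
  obtain ⟨a, ha, rfl⟩ := exists_comp_of_not_mem hx
  exact agM_spec hg a ha

theorem agM_mul {g h : Equiv.Perm GolayPt} (hg : g ∈ agStab) (hh : h ∈ agStab) :
    agM (g * h) = agM g * agM h := by
  symm
  apply eq_agM
  intro a ha
  rw [← Matrix.mulVec_mulVec, agM_spec hh a ha, Equiv.Perm.mul_apply]
  exact agM_apply hg (fun hc => not_mem_of_comp ha ((agStab_mem_iff hh _).mp hc))

theorem agM_one : agM 1 = 1 :=
  (eq_agM 1 (fun a _ => by rw [Matrix.one_mulVec]; rfl)).symm

theorem agM_det {g : Equiv.Perm GolayPt} (hg : g ∈ agStab) : (agM g).det = 1 := by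
  have h : agM g * agM g⁻¹ = 1 := by
    rw [← agM_mul hg (agStab.inv_mem hg), mul_inv_cancel, agM_one]
  have h2 : (agM g).det * (agM g⁻¹).det = 1 := by rw [← Matrix.det_mul, h, Matrix.det_one]
  generalize (agM g).det = x at h2 ⊢
  generalize (agM g⁻¹).det = y at h2
  revert x y
  decide

theorem agM_row {g : Equiv.Perm GolayPt} (hg : g ∈ agStab) (j : Fin 5) :
    agM g 1 j = if j = 1 then 1 else 0 := by
  have h1 : ∀ a ∈ ag_comp, agI (g (ptN a)) 1 = 1 := fun a ha =>
    agI_one_of_not_mem (fun hc => not_mem_of_comp ha ((agStab_mem_iff hg _).mp hc))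
  unfold agM
  rw [Matrix.of_apply]
  by_cases hj : j = 1
  · rw [if_pos hj, if_pos hj, h1 4 (by decide)]
  · rw [if_neg hj, if_neg hj, h1 4 (by decide), h1 _ (agB_facts.1 j)]
    decide

/-- an element of `M24` fixing the sixteen points is trivial -/
theorem eq_one_of_fix_comp {k : Equiv.Perm GolayPt} (hk : k ∈ M24) (h : ∀ x ∉ agO, k x = x) :
    k = 1 := by
  have hO1 := ag_O0_check.2.1
  have hmem : k ∈ octadKer (ptSet ag_O1) := by
    refine mem_octadKer.mpr ⟨hk, fun x hx => h x ?_⟩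
    obtain ⟨a, ha, rfl⟩ := mem_ptSet.mp hx
    intro hc
    exact ag_O0_check.2.2.1 a ha ((ptN_mem_ptSet agO_good (hO1.1.2 a ha)).mp hc)
  have h4a : ptN 4 ∉ agO := fun hc =>
    ag_O0_check.2.2.2.1 ((ptN_mem_ptSet agO_good (by norm_num)).mp hc)
  have h4b : ptN 4 ∉ ptSet ag_O1 := fun hc =>
    ag_O0_check.2.2.2.2.1 ((ptN_mem_ptSet hO1.1 (by norm_num)).mp hc)
  exact octadKer_free hO1.mem hmem h4b (h _ h4a)

theorem agM_injOn {g h : Equiv.Perm GolayPt} (hg : g ∈ agStab) (hh : h ∈ agStab)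
    (e : agM g = agM h) : g = h := by
  have h1 : ∀ x ∉ agO, g x = h x := by
    intro x hx
    apply agI_inj (fun hc => hx ((agStab_mem_iff hg _).mp hc))
      (fun hc => hx ((agStab_mem_iff hh _).mp hc))
    rw [← agM_apply hg hx, ← agM_apply hh hx, e]
  have h2 : h⁻¹ * g = 1 := by
    apply eq_one_of_fix_comp (M24.mul_mem (M24.inv_mem (mem_agStab.mp hh).1) (mem_agStab.mp hg).1)
    intro x hx
    rw [Equiv.Perm.mul_apply, h1 x hx, c2b_inv_apply]
  exact (inv_mul_eq_one.mp h2).symm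

/-! ### counting the matrices -/

theorem card_GL_four_two : Nat.card (GL (Fin 4) (ZMod 2)) = 20160 := by
  have h := Matrix.card_GL_field (𝔽 := ZMod 2) (n := 4)
  rw [h]
  simp [Fin.prod_univ_four, ZMod.card]

/-- the matrices with second row the second unit vector -/
def AgRow (M : Matrix.SpecialLinearGroup (Fin 5) (ZMod 2)) : Prop :=
  ∀ j, M.1 1 j = if j = 1 then 1 else 0

theorem card_agRow_le : Nat.card {M : Matrix.SpecialLinearGroup (Fin 5) (ZMod 2) // AgRow M} ≤
    322560 := by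
  classical
  have hdet : ∀ M : {M : Matrix.SpecialLinearGroup (Fin 5) (ZMod 2) // AgRow M},
      (M.1.1.submatrix (Fin.succAbove 1) (Fin.succAbove 1)).det ≠ 0 := by
    intro M
    have h1 := M.1.2
    rw [Matrix.det_succ_row _ 1, Finset.sum_eq_single (1 : Fin 5)] at h1
    · rw [M.2 1, if_pos rfl] at h1
      intro h0
      rw [h0, mul_zero] at h1
      exact zero_ne_one h1
    · intro j _ hj
      rw [M.2 j, if_neg hj, mul_zero, zero_mul]
    · intro h
      exact absurd (Finset.mem_univ _) h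
  let φ : {M : Matrix.SpecialLinearGroup (Fin 5) (ZMod 2) // AgRow M} →
      GL (Fin 4) (ZMod 2) × (Fin 4 → ZMod 2) := fun M =>
    (Matrix.GeneralLinearGroup.mkOfDetNeZero _ (hdet M), fun i => M.1.1 (Fin.succAbove 1 i) 1)
  have hφ : Function.Injective φ := by
    intro M M' h
    have h1 := (Prod.ext_iff.mp h).1
    have h2 := (Prod.ext_iff.mp h).2
    apply Subtype.ext
    apply Subtype.ext
    ext i j
    by_cases hi : i = 1
    · rw [hi, M.2 j, M'.2 j]
    · obtain ⟨i', rfl⟩ := Fin.exists_succAbove_eq hi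
      by_cases hj : j = 1
      · rw [hj]
        exact congrFun h2 i'
      · obtain ⟨j', rfl⟩ := Fin.exists_succAbove_eq hj
        have := congrArg (fun u : GL (Fin 4) (ZMod 2) =>
          (u : Matrix (Fin 4) (Fin 4) (ZMod 2)) i' j') h1
        exact this
  have hle := Nat.card_le_card_of_injective φ hφ
  rw [Nat.card_prod, card_GL_four_two] at hle
  have h16 : Nat.card (Fin 4 → ZMod 2) = 16 := by
    rw [Nat.card_eq_fintype_card, Fintype.card_fun, ZMod.card, Fintype.card_fin]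
    norm_num
  rw [h16] at hle
  exact hle

/-- every matrix with second row the second unit vector comes from the stabilizer -/
theorem exists_agM_eq (M : Matrix.SpecialLinearGroup (Fin 5) (ZMod 2)) (hM : AgRow M) :
    ∃ g ∈ agStab, agM g = M.1 := by
  let f : ↥agStab → {M : Matrix.SpecialLinearGroup (Fin 5) (ZMod 2) // AgRow M} := fun g =>
    ⟨⟨agM g.1, agM_det g.2⟩, agM_row g.2⟩
  have hf : Function.Injective f := by
    intro g h e
    have e1 : agM g.1 = agM h.1 := congrArg (fun u => u.1.1) e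
    exact Subtype.ext (agM_injOn g.2 h.2 e1)
  have hb := hf.bijective_of_nat_card_le (by rw [agStab_card]; exact card_agRow_le)
  obtain ⟨g, hg⟩ := hb.2 ⟨M, hM⟩
  exact ⟨g.1, g.2, congrArg (fun u => u.1.1) hg⟩

end Cfsg.Agent.Lib.Helper28
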