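import Cfsg.Agent.Lib.Helper28.InvolTypes
import Cfsg.Agent.Lib.Helper28.HexadStab
import Cfsg.Prelude.Def_Spor_Mathieu

set_option autoImplicit false

/-!
The dodecad of squares `Spor.squareDodecad`, and elusivity of the degree-12 action of `Spor.M11`.
-/

namespace Cfsg.Agent.Lib.Helper28

open Cfsg MulAction
open scoped Pointwise

theorem card_squareDodecad : Spor.squareDodecad.card = 12 := by decide +kernel

theorem squareDodecad_mem : Spor.squareDodecad ∈ dodecads := by
  rw [mem_dodecads_iff]
  refine ⟨?_, card_squareDodecad⟩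
  unfold Spor.squareDodecad
  rw [support₂_eq_bsupp, bind_bsupp]
  exact Submodule.subset_span (Or.inl ⟨0, rfl⟩)

theorem some_zero_mem_squareDodecad : (some 0 : GolayPt) ∈ Spor.squareDodecad := by decide +kernel

/-- no octad lies inside a dodecad -/
theorem octad_not_subset_dodecad {o d : Finset GolayPt} (ho : o ∈ octads) (hd : d ∈ dodecads) :
    ¬ o ⊆ d := by
  intro hsub
  have hC := golayCode_isGolayLike
  obtain ⟨ho1, ho8⟩ := (mem_octads_iff o).mp ho
  obtain ⟨hd1, hd12⟩ := (mem_dodecads_iff d).mp hd
  have hmem : bind d + bind o ∈ golayCode := golayCode.add_mem hd1 ho1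
  have hw : hammingNorm (bind d + bind o) = 4 := by
    rw [← bind_symmDiff, hammingNorm_bind]
    have : symmDiff d o = d \ o := by
      rw [symmDiff_def, Finset.sdiff_eq_empty_iff_subset.mpr hsub]
      simp
    rw [this, Finset.card_sdiff_of_subset hsub]
    omega
  have hne : bind d + bind o ≠ 0 := by
    intro h0
    rw [h0] at hw
    simp at hw
  have := hC.minw _ hmem hne
  omega

theorem card_golayPt : Fintype.card GolayPt = 24 := by rfl

/-- a permutation of prime order `q` preserving a set whose complement has size prime to `q`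
fixes a point off the set -/
theorem exists_fixed_off {g : Equiv.Perm GolayPt} {d : Finset GolayPt} (hgd : g • d = d)
    {q : ℕ} (hq : q.Prime) (hgq : g ^ q = 1) (hnd : ¬ q ∣ 24 - d.card) :
    ∃ x : GolayPt, x ∉ d ∧ g x = x := by
  classical
  have hiff : ∀ x, g x ∉ d ↔ x ∉ d := by
    intro x
    rw [not_iff_not]
    conv_lhs => rw [← hgd]
    rw [← Equiv.Perm.smul_def, Finset.smul_mem_smul_finset_iff]
  have hcard : Fintype.card {x : GolayPt // x ∉ d} = 24 - d.card := by
    rw [Fintype.card_subtype]
    have : (Finset.univ.filter fun x => x ∉ d) = dᶜ := by ext x; simp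
    rw [this, Finset.card_compl, card_golayPt]
  haveI : Fact q.Prime := ⟨hq⟩
  have hσ : (g.subtypePerm (p := fun x => x ∉ d) hiff) ^ q ^ 1 = 1 := by
    rw [pow_one, Equiv.Perm.subtypePerm_pow]
    ext x
    simp [Equiv.Perm.subtypePerm_apply, hgq]
  obtain ⟨a, ha⟩ := Equiv.Perm.exists_fixed_point_of_prime (p := q) (n := 1)
    (by rw [hcard]; exact hnd) hσ
  refine ⟨a.1, a.2, ?_⟩
  have := congrArg Subtype.val ha
  simpa [Equiv.Perm.subtypePerm_apply] using this

/-- `M11` in its action on the twelve points off the dodecad of squares is elusive -/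
theorem m11_elusive (g : Equiv.Perm GolayPt) (hg : g ∈ Spor.M11) (hord : (orderOf g).Prime) :
    ∃ x : GolayPt, x ∉ Spor.squareDodecad ∧ g x = x := by
  classical
  have hd := squareDodecad_mem
  have h1 : g ∈ Spor.M12 ∧ g ∈ stabilizer (Equiv.Perm GolayPt) (some 0 : GolayPt) :=
    Subgroup.mem_inf.mp hg
  have h2 : g ∈ M24 ∧ g ∈ stabilizer (Equiv.Perm GolayPt) Spor.squareDodecad :=
    Subgroup.mem_inf.mp h1.1
  have hgM : g ∈ M24 := h2.1
  have hgd : g • Spor.squareDodecad = Spor.squareDodecad := h2.2
  have hgp : g (some 0) = some 0 := h1.2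
  by_cases h2o : orderOf g = 2
  · rcases involution_type hgM h2o with ⟨k, hk, _, hF⟩ | ⟨k, hk, _, hfpf⟩
    · have := octad_not_subset_dodecad hF hd
      rw [Finset.not_subset] at this
      obtain ⟨x, hx, hxd⟩ := this
      exact ⟨x, hxd, (Finset.mem_filter.mp hx).2⟩
    · exact absurd hgp (hfpf _)
  by_cases h3o : orderOf g = 3
  · rcases order_three_type hgM h3o with ⟨k, hk, _, hF⟩ | ⟨k, hk, _, hfpf⟩
    · by_contra hcon
      push Not at hcon
      have hsub : (Finset.univ.filter fun p => g p = p) ⊆ Spor.squareDodecad := by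
        intro x hx
        by_contra hxd
        exact hcon x hxd (Finset.mem_filter.mp hx).2
      have h1 := eq_one_of_fix_five hd hgM hgd _ hsub (by omega)
        (fun p hp => (Finset.mem_filter.mp hp).2)
      rw [h1, orderOf_one] at h3o
      omega
    · exact absurd hgp (hfpf _)
  · apply exists_fixed_off hgd hord (pow_orderOf_eq_one g)
    rw [card_squareDodecad]
    intro h
    have h12 : (24 - 12 : ℕ) = 2 * 2 * 3 := by norm_num
    rw [h12] at h
    rcases (Nat.Prime.dvd_mul hord).mp h with h | h
    · rcases (Nat.Prime.dvd_mul hord).mp h with h | h <;>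
        exact h2o ((Nat.prime_dvd_prime_iff_eq hord Nat.prime_two).mp h)
    · exact h3o ((Nat.prime_dvd_prime_iff_eq hord Nat.prime_three).mp h)

end Cfsg.Agent.Lib.Helper28
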