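import Mathlib
import Cfsg.Prelude.Def_Sporadic_a
import Cfsg.Agent.Lib.Helper28.SetSysIso

set_option autoImplicit false
set_option linter.unusedSectionVars false
set_option linter.unusedVariables false

/-!
Derived designs: adjoining a new point to the blocks of a set system, the derived system at the
new point, and bijections of `Option α` fixing the new point.
-/

namespace Cfsg.Agent.Lib.Helper28

open Cfsg

namespace Derived

variable {α β : Type*} [DecidableEq α] [DecidableEq β]

theorem insertNone_inter (b c : Finset α) :
    Finset.insertNone b ∩ Finset.insertNone c = Finset.insertNone (b ∩ c) := by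
  ext x
  cases x with
  | none => simp
  | some x => simp

theorem insertNone_subset {b c : Finset α} (h : b ⊆ c) :
    Finset.insertNone b ⊆ Finset.insertNone c := by
  intro x hx
  cases x with
  | none => exact Finset.none_mem_insertNone
  | some x => exact Finset.some_mem_insertNone.mpr (h (Finset.some_mem_insertNone.mp hx))

theorem insertNone_inj {b c : Finset α} (h : Finset.insertNone b = Finset.insertNone c) :
    b = c := by
  have := congrArg Finset.eraseNone h
  rwa [Finset.eraseNone_insertNone, Finset.eraseNone_insertNone] at this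

theorem insertNone_eraseNone_of_mem {o : Finset (Option α)} (h : none ∈ o) :
    Finset.insertNone (Finset.eraseNone o) = o := by
  rw [Finset.insertNone_eraseNone, Finset.insert_eq_of_mem h]

/-- a bijection fixing the new point is induced from a bijection of the old points -/
theorem eq_optionCongr (e : Option α ≃ Option β) (he : e none = none) :
    e = Equiv.optionCongr (Equiv.removeNone e) := by
  ext1 x
  cases x with
  | none => rw [he]; rfl
  | some x =>
    have hx : ∃ x', e (some x) = some x' := by
      cases h : e (some x) with
      | none =>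
        have := e.injective (h.trans he.symm)
        simp at this
      | some y => exact ⟨y, rfl⟩
    have h2 := Equiv.removeNone_some e hx
    rw [← h2]
    rfl

theorem image_insertNone_optionCongr (σ : α ≃ β) (b : Finset α) :
    (Finset.insertNone b).image (Equiv.optionCongr σ) = Finset.insertNone (b.image σ) := by
  ext y
  rw [Finset.mem_image]
  cases y with
  | none =>
    constructor
    · intro _
      exact Finset.none_mem_insertNone
    · intro _
      exact ⟨none, Finset.none_mem_insertNone, rfl⟩
  | some y =>
    rw [Finset.some_mem_insertNone, Finset.mem_image]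
    constructor
    · rintro ⟨a, ha, hay⟩
      cases a with
      | none => simp at hay
      | some a =>
        refine ⟨a, Finset.some_mem_insertNone.mp ha, ?_⟩
        simpa using hay
    · rintro ⟨a, ha, rfl⟩
      exact ⟨some a, Finset.some_mem_insertNone.mpr ha, rfl⟩

theorem image_insertNone (e : Option α ≃ Option β) (he : e none = none) (b : Finset α) :
    (Finset.insertNone b).image e = Finset.insertNone (b.image (Equiv.removeNone e)) := by
  conv_lhs => rw [eq_optionCongr e he]
  exact image_insertNone_optionCongr _ b

/-- the derived family at the new point -/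
def derived (𝓞 : Set (Finset (Option α))) : Set (Finset α) := {b | Finset.insertNone b ∈ 𝓞}

theorem mem_derived {𝓞 : Set (Finset (Option α))} {b : Finset α} :
    b ∈ derived 𝓞 ↔ Finset.insertNone b ∈ 𝓞 := Iff.rfl

theorem derived_steiner {t k : ℕ} {𝓞 : Set (Finset (Option α))}
    (h : IsSteinerSystem (t + 1) (k + 1) 𝓞) : IsSteinerSystem t k (derived 𝓞) := by
  refine ⟨fun b hb => ?_, fun s hs => ?_⟩
  · have := h.1 _ hb
    rw [Finset.card_insertNone] at this
    omega
  · have hs' : (Finset.insertNone s).card = t + 1 := by rw [Finset.card_insertNone, hs]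
    obtain ⟨o, ⟨ho, hso⟩, huniq⟩ := h.2 _ hs'
    have hnone : none ∈ o := hso Finset.none_mem_insertNone
    have ho' : Finset.insertNone (Finset.eraseNone o) = o := insertNone_eraseNone_of_mem hnone
    refine ⟨Finset.eraseNone o, ⟨?_, ?_⟩, ?_⟩
    · show Finset.insertNone (Finset.eraseNone o) ∈ 𝓞
      rw [ho']
      exact ho
    · intro x hx
      rw [Finset.mem_eraseNone]
      exact hso (Finset.some_mem_insertNone.mpr hx)
    · rintro b' ⟨hb', hsb'⟩
      have := huniq _ ⟨hb', insertNone_subset hsb'⟩
      rw [← this, Finset.eraseNone_insertNone]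

/-- the pull-back of a family along a bijection -/
def pull (e : α ≃ β) (𝓞 : Set (Finset β)) : Set (Finset α) := {b | b.image e ∈ 𝓞}

theorem mem_pull {e : α ≃ β} {𝓞 : Set (Finset β)} {b : Finset α} :
    b ∈ pull e 𝓞 ↔ b.image e ∈ 𝓞 := Iff.rfl

theorem pull_steiner {t k : ℕ} (e : α ≃ β) {𝓞 : Set (Finset β)} (h : IsSteinerSystem t k 𝓞) :
    IsSteinerSystem t k (pull e 𝓞) := by
  refine ⟨fun b hb => ?_, fun s hs => ?_⟩
  · have := h.1 _ hb
    rwa [Finset.card_image_of_injective _ e.injective] at this
  · have hs' : (s.image e).card = t := by rw [Finset.card_image_of_injective _ e.injective, hs]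
    obtain ⟨o, ⟨ho, hso⟩, huniq⟩ := h.2 _ hs'
    have ho' : (o.image e.symm).image e = o := by
      rw [Finset.image_image, Equiv.self_comp_symm, Finset.image_id]
    refine ⟨o.image e.symm, ⟨?_, ?_⟩, ?_⟩
    · show (o.image e.symm).image e ∈ 𝓞
      rw [ho']
      exact ho
    · intro x hx
      refine Finset.mem_image.mpr ⟨e x, hso (Finset.mem_image_of_mem _ hx), ?_⟩
      simp
    · rintro b' ⟨hb', hsb'⟩
      have := huniq _ ⟨hb', Finset.image_subset_image hsb'⟩
      rw [← this, Finset.image_image, Equiv.symm_comp_self, Finset.image_id]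

/-- a Steiner system contained in another one with the same parameters is equal to it -/
theorem steiner_eq_of_subset {t k : ℕ} (htk : t ≤ k) {B B' : Set (Finset α)}
    (hB : IsSteinerSystem t k B) (hB' : IsSteinerSystem t k B') (h : B ⊆ B') : B = B' := by
  apply Set.Subset.antisymm h
  intro o ho
  have hk : t ≤ o.card := by rw [hB'.1 o ho]; exact htk
  obtain ⟨s, hso, hs⟩ := Finset.exists_subset_card_eq hk
  obtain ⟨b, ⟨hb, hsb⟩, -⟩ := hB.2 s hs
  obtain ⟨o', -, huniq⟩ := hB'.2 s hs
  have h1 : b = o' := huniq _ ⟨h hb, hsb⟩
  have h2 : o = o' := huniq _ ⟨ho, hso⟩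
  rw [h2, ← h1]
  exact hb

/-- `Equiv.optionCongr` as a group homomorphism -/
def optHom (γ : Type*) : Equiv.Perm γ →* Equiv.Perm (Option γ) where
  toFun σ := Equiv.optionCongr σ
  map_one' := by
    ext1 x
    cases x <;> rfl
  map_mul' σ τ := by
    ext1 x
    cases x <;> rfl

theorem optHom_apply {γ : Type*} (σ : Equiv.Perm γ) : optHom γ σ = Equiv.optionCongr σ := rfl

theorem optHom_injective (γ : Type*) : Function.Injective (optHom γ) := by
  intro σ τ h
  exact Equiv.optionCongr_injective h

end Derived

end Cfsg.Agent.Lib.Helper28
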