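import Mathlib
import Cfsg.Agent.Lib.Helper28.SynthemeSix

set_option autoImplicit false
set_option linter.unusedSectionVars false
set_option linter.unusedVariables false

/-!
Finite computations with the synthemes of a 6-set: the duad-syntheme correspondence `omega`
(an outer automorphism of the symmetric group of degree 6 in tabular form), normalisation of an
ordered synthematic total and the determination of the correspondence by a total.
-/

namespace Cfsg.Agent.Lib.Helper28

namespace PlaneFour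

/-- the model correspondence from duads to synthemes -/
def omega : Fin 6 → Fin 6 → Fin 15 :=
  ![![0, 0, 4, 8, 10, 12], ![0, 0, 13, 9, 5, 7], ![4, 13, 0, 2, 6, 11], ![8, 9, 2, 0, 14, 3],
    ![10, 5, 6, 14, 0, 1], ![12, 7, 11, 3, 1, 0]]

theorem omega_symm : ∀ i j : Fin 6, omega i j = omega j i := by decide +kernel

theorem omega_surj : ∀ k : Fin 15, ∃ i j : Fin 6, i ≠ j ∧ omega i j = k := by decide +kernel

theorem omega_inj : ∀ i j k l : Fin 6, i ≠ j → k ≠ l → omega i j = omega k l →
    (i = k ∧ j = l) ∨ (i = l ∧ j = k) := by decide +kernel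

/-- the labelling of the six points attached to a base point and five synthemes -/
def lab (k : Fin 6 → Fin 15) (x0 : Fin 6) (u : Fin 6) : Fin 6 :=
  if u = 0 then x0 else syn (k u) x0

set_option maxRecDepth 100000 in
set_option synthInstance.maxSize 100000 in
set_option synthInstance.maxHeartbeats 4000000 in
theorem finA : ∀ k1 k2 : Fin 15, djb k1 k2 = true →
    ∀ k3 : Fin 15, djb k1 k3 = true → djb k2 k3 = true →
    ∀ k4 : Fin 15, djb k1 k4 = true → djb k2 k4 = true → djb k3 k4 = true →
    ∀ k5 : Fin 15, djb k1 k5 = true → djb k2 k5 = true → djb k3 k5 = true → djb k4 k5 = true →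
    ∃ x0 : Fin 6, (∀ u v : Fin 6, lab ![k1, k1, k2, k3, k4, k5] x0 u =
        lab ![k1, k1, k2, k3, k4, k5] x0 v → u = v) ∧
      ∀ j : Fin 6, j ≠ 0 → ∀ u : Fin 6,
        syn (![k1, k1, k2, k3, k4, k5] j) (lab ![k1, k1, k2, k3, k4, k5] x0 u) =
          lab ![k1, k1, k2, k3, k4, k5] x0 (syn (omega 0 j) u) := by
  decide +kernel

/-- the union of three synthemes is a complete bipartite graph -/
def K33 (s1 s2 s3 : Fin 15) : Prop :=
  ∀ u v : Fin 6, u ≠ v → (syn s1 u ≠ v ∧ syn s2 u ≠ v ∧ syn s3 u ≠ v) →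
    ∃ w : Fin 6, w ≠ u ∧ w ≠ v ∧ (syn s1 u ≠ w ∧ syn s2 u ≠ w ∧ syn s3 u ≠ w) ∧
      (syn s1 v ≠ w ∧ syn s2 v ≠ w ∧ syn s3 v ≠ w)

instance (s1 s2 s3 : Fin 15) : Decidable (K33 s1 s2 s3) := by
  unfold K33
  infer_instance

set_option maxRecDepth 100000 in
theorem finB : ∀ i j : Fin 6, i ≠ 0 → j ≠ 0 → i ≠ j → ∀ s : Fin 15,
    djb s (omega 0 i) = true → djb s (omega 0 j) = true → K33 s (omega 0 j) (omega 0 i) →
    s = omega i j := by
  decide +kernel

/-- in the model, two uncovered points have a unique common uncovered neighbour -/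
theorem model_unique : ∀ l m n : Fin 6, l ≠ m → l ≠ n → m ≠ n → ∀ u v : Fin 6, u ≠ v →
    ∀ w w' : Fin 6, w ≠ u → w ≠ v → w' ≠ u → w' ≠ v →
    (syn (omega m n) u ≠ w ∧ syn (omega l n) u ≠ w ∧ syn (omega l m) u ≠ w) →
    (syn (omega m n) v ≠ w ∧ syn (omega l n) v ≠ w ∧ syn (omega l m) v ≠ w) →
    (syn (omega m n) u ≠ w' ∧ syn (omega l n) u ≠ w' ∧ syn (omega l m) u ≠ w') →
    (syn (omega m n) v ≠ w' ∧ syn (omega l n) v ≠ w' ∧ syn (omega l m) v ≠ w') →
    w = w' := by
  decide +kernel

/-- no point of the 6-set other than the expected one can be the image of a point under a map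
commuting with all synthemes -/
theorem syn_separate : ∀ x y z : Fin 6, x ≠ y → x ≠ z → y ≠ z →
    ∃ k k' : Fin 15, syn k x = z ∧ syn k' x = z ∧ syn k y ≠ syn k' y := by decide +kernel

theorem syn_exists : ∀ x y : Fin 6, x ≠ y → ∃ k : Fin 15, syn k x = y := by decide +kernel

end PlaneFour

end Cfsg.Agent.Lib.Helper28
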