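import Mathlib
import Cfsg.Prelude.Def_Sporadic_a
import Cfsg.Agent.Lib.Helper3.Steiner

set_option autoImplicit false
set_option linter.unusedSectionVars false
set_option linter.unusedVariables false

/-!
Intersection numbers of a Steiner system `S(5,6,12)`: two blocks never meet in exactly one point
and the complement of a block is a block.
-/

namespace Cfsg.Agent.Lib.Helper28

open Cfsg Finset Cfsg.Agent.Lib.Helper3.Steiner

namespace S5612

variable {α : Type*} [Fintype α] [DecidableEq α] {B : Set (Finset α)}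

variable (hα : Fintype.card α = 12) (hB : Cfsg.IsSteinerSystem 5 6 B)
include hα hB

lemma lam4 (I : Finset α) (hI : I.card = 4) : ((blocksF B).filter (I ⊆ ·)).card = 4 := by
  have h := card_blocks_containing hB I (by omega)
  rw [hα, hI] at h
  norm_num [Nat.choose] at h
  omega

lemma lam3 (I : Finset α) (hI : I.card = 3) : ((blocksF B).filter (I ⊆ ·)).card = 12 := by
  have h := card_blocks_containing hB I (by omega)
  rw [hα, hI] at h
  norm_num [Nat.choose] at h
  omega

lemma lam2 (I : Finset α) (hI : I.card = 2) : ((blocksF B).filter (I ⊆ ·)).card = 30 := by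
  have h := card_blocks_containing hB I (by omega)
  rw [hα, hI] at h
  norm_num [Nat.choose] at h
  omega

lemma lam1 (I : Finset α) (hI : I.card = 1) : ((blocksF B).filter (I ⊆ ·)).card = 66 := by
  have h := card_blocks_containing hB I (by omega)
  rw [hα, hI] at h
  norm_num [Nat.choose] at h
  omega

lemma lam0 (I : Finset α) (hI : I.card = 0) : ((blocksF B).filter (I ⊆ ·)).card = 132 := by
  have h := card_blocks_containing hB I (by omega)
  rw [hα, hI] at h
  norm_num [Nat.choose] at h
  omega

variable {b : Finset α} (hb : b ∈ B)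
include hb

lemma sum4 : ∑ c ∈ (blocksF B).erase b, ((b ∩ c).card).choose 4 = 45 := by
  rw [sum_choose_inter hB hb 4 4 (lam4 hα hB)]; norm_num [Nat.choose]

lemma sum3 : ∑ c ∈ (blocksF B).erase b, ((b ∩ c).card).choose 3 = 220 := by
  rw [sum_choose_inter hB hb 3 12 (lam3 hα hB)]; norm_num [Nat.choose]

lemma sum2 : ∑ c ∈ (blocksF B).erase b, ((b ∩ c).card).choose 2 = 435 := by
  rw [sum_choose_inter hB hb 2 30 (lam2 hα hB)]; norm_num [Nat.choose]

lemma sum1 : ∑ c ∈ (blocksF B).erase b, ((b ∩ c).card).choose 1 = 390 := by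
  rw [sum_choose_inter hB hb 1 66 (lam1 hα hB)]; norm_num [Nat.choose]

lemma sum0 : ∑ c ∈ (blocksF B).erase b, ((b ∩ c).card).choose 0 = 131 := by
  rw [sum_choose_inter hB hb 0 132 (lam0 hα hB)]; norm_num [Nat.choose]

omit hα in
lemma inter_le4 {c : Finset α} (hc : c ∈ (blocksF B).erase b) : (b ∩ c).card ≤ 4 := by
  rw [mem_erase, mem_blocksF] at hc
  have := inter_card_lt hB hb hc.2 (Ne.symm hc.1)
  omega

/-- two distinct blocks of an S(5,6,12) do not meet in exactly one point. -/
theorem inter_card_ne_one {c : Finset α} (hc : c ∈ B) (hbc : b ≠ c) : (b ∩ c).card ≠ 1 := by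
  have hcm : c ∈ (blocksF B).erase b := by
    rw [mem_erase, mem_blocksF]; exact ⟨Ne.symm hbc, hc⟩
  have h1 : ∀ c ∈ (blocksF B).erase b,
      2 * ((b ∩ c).card).choose 2 + 4 * ((b ∩ c).card).choose 4 =
        ((b ∩ c).card).choose 1 + 3 * ((b ∩ c).card).choose 3 := by
    rw [← Finset.sum_eq_sum_iff_of_le]
    · rw [Finset.sum_add_distrib, Finset.sum_add_distrib, ← Finset.mul_sum, ← Finset.mul_sum,
        ← Finset.mul_sum, sum4 hα hB hb, sum3 hα hB hb, sum2 hα hB hb, sum1 hα hB hb]
      norm_num
    · intro d hd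
      have := inter_le4 hB hb hd
      interval_cases (b ∩ d).card <;> simp [Nat.choose]
  have h1c := h1 c hcm
  intro h
  rw [h] at h1c
  simp [Nat.choose] at h1c

/-- the complement of a block of an S(5,6,12) is a block -/
theorem compl_mem : bᶜ ∈ B := by
  have key : ∀ c ∈ (blocksF B).erase b,
      (if (b ∩ c).card = 0 then 1 else 0) + ((b ∩ c).card).choose 1 + ((b ∩ c).card).choose 3 =
        ((b ∩ c).card).choose 0 + ((b ∩ c).card).choose 2 + ((b ∩ c).card).choose 4 := by
    intro d hd
    have := inter_le4 hB hb hd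
    interval_cases (b ∩ d).card <;> simp [Nat.choose]
  have hsum := Finset.sum_congr rfl key
  rw [Finset.sum_add_distrib, Finset.sum_add_distrib, Finset.sum_add_distrib,
    Finset.sum_add_distrib, sum4 hα hB hb, sum3 hα hB hb, sum2 hα hB hb,
    sum1 hα hB hb, sum0 hα hB hb, ← Finset.card_filter] at hsum
  have hcard : (((blocksF B).erase b).filter (fun c => (b ∩ c).card = 0)).card = 1 := by omega
  obtain ⟨c, hc⟩ := Finset.card_eq_one.mp hcard
  have hcm : c ∈ ((blocksF B).erase b).filter (fun c => (b ∩ c).card = 0) := by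
    rw [hc]
    exact mem_singleton_self c
  rw [mem_filter, mem_erase, mem_blocksF, card_eq_zero] at hcm
  obtain ⟨⟨-, hcB⟩, hdisj⟩ := hcm
  have hsub : c ⊆ bᶜ := by
    intro x hx
    rw [mem_compl]
    intro hxb
    have : x ∈ b ∩ c := mem_inter.mpr ⟨hxb, hx⟩
    rw [hdisj] at this
    exact absurd this (notMem_empty x)
  have hcc : bᶜ.card ≤ c.card := by
    rw [card_compl, hα, hB.1 b hb, hB.1 c hcB]
  rw [← Finset.eq_of_subset_of_card_le hsub hcc]
  exact hcB

end S5612

end Cfsg.Agent.Lib.Helper28
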