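import Mathlib
import Cfsg.Prelude.Def_Sporadic_a
import Cfsg.Agent.Lib.Helper28.Steiner5612
import Cfsg.Agent.Lib.Helper28.SixTables
import Cfsg.Agent.Lib.Helper28.Derived

set_option autoImplicit false
set_option linter.unusedSectionVars false
set_option linter.unusedVariables false

/-!
Steiner systems `S(5,6,12)` on the set `Fin 6 ⊕ Fin 6` containing the left half as a block:
after a relabelling of the right half the system is the explicit model built from the
duad-syntheme correspondence `omega`.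
-/

namespace Cfsg.Agent.Lib.Helper28

open Cfsg Finset PlaneFour

namespace SixSix

/-- the twelve points -/
abbrev X := Fin 6 ⊕ Fin 6

theorem card_X : Fintype.card X = 12 := by
  simp [X]

/-- the complement of a pair -/
abbrev Q (i j : Fin 6) : Finset (Fin 6) := univ \ {i, j}

/-! ### Small facts on subsets of `Fin 6` -/

theorem card_Q : ∀ i j : Fin 6, i ≠ j → (Q i j).card = 4 := by decide

theorem card_Q_inter : ∀ i j l : Fin 6, i ≠ j → i ≠ l → j ≠ l → (Q i j ∩ Q i l).card = 3 := by
  decide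

theorem Q_ne : ∀ i j l : Fin 6, i ≠ j → i ≠ l → j ≠ l → Q i j ≠ Q i l := by decide

theorem Q_comm (i j : Fin 6) : Q i j = Q j i := by
  unfold Q
  rw [pair_comm]

theorem card_T : ∀ l m n : Fin 6, l ≠ m → l ≠ n → m ≠ n →
    (univ \ ({l, m, n} : Finset (Fin 6))).card = 3 := by decide

set_option maxRecDepth 100000 in
theorem four_superset : ∀ l m n : Fin 6, l ≠ m → l ≠ n → m ≠ n → ∀ I : Finset (Fin 6),
    univ \ ({l, m, n} : Finset (Fin 6)) ⊆ I → I.card = 4 →
    I = Q m n ∨ I = Q l n ∨ I = Q l m := by decide +kernel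

theorem T_subset : ∀ l m n : Fin 6, univ \ ({l, m, n} : Finset (Fin 6)) ⊆ Q m n ∧
    univ \ ({l, m, n} : Finset (Fin 6)) ⊆ Q l n ∧ univ \ ({l, m, n} : Finset (Fin 6)) ⊆ Q l m := by
  decide

/-! ### Subsets of `X` -/

theorem ds_inter (I J I' J' : Finset (Fin 6)) :
    I.disjSum J ∩ I'.disjSum J' = (I ∩ I').disjSum (J ∩ J') := by
  ext x
  rcases x with a | b
  · simp only [mem_inter, inl_mem_disjSum]
  · simp only [mem_inter, inr_mem_disjSum]

theorem ds_compl (I J : Finset (Fin 6)) : (I.disjSum J)ᶜ = Iᶜ.disjSum Jᶜ := by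
  ext x
  rcases x with a | b
  · simp only [mem_compl, inl_mem_disjSum]
  · simp only [mem_compl, inr_mem_disjSum]

theorem image_ds (π : Equiv.Perm (Fin 6)) (I J : Finset (Fin 6)) :
    (I.disjSum J).image (Equiv.sumCongr (Equiv.refl (Fin 6)) π) = I.disjSum (J.image π) := by
  ext x
  rw [mem_image]
  rcases x with a | b
  · rw [inl_mem_disjSum]
    constructor
    · rintro ⟨y, hy, hyx⟩
      rcases y with a' | b'
      · have : a' = a := by simpa using hyx
        rw [← this]
        exact inl_mem_disjSum.mp hy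
      · simp at hyx
    · intro ha
      exact ⟨Sum.inl a, inl_mem_disjSum.mpr ha, rfl⟩
  · rw [inr_mem_disjSum, mem_image]
    constructor
    · rintro ⟨y, hy, hyx⟩
      rcases y with a' | b'
      · simp at hyx
      · have : π b' = b := by simpa using hyx
        exact ⟨b', inr_mem_disjSum.mp hy, this⟩
    · rintro ⟨b', hb', rfl⟩
      exact ⟨Sum.inr b', inr_mem_disjSum.mpr hb', rfl⟩

/-! ### Basic facts on a system containing the left half -/

section Basic

variable {D : Set (Finset X)} (hD : IsSteinerSystem 5 6 D)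
  (hA : (univ : Finset (Fin 6)).disjSum (∅ : Finset (Fin 6)) ∈ D)
include hD

theorem card_of_mem {I J : Finset (Fin 6)} (h : I.disjSum J ∈ D) : I.card + J.card = 6 := by
  have := hD.1 _ h
  rwa [card_disjSum] at this

theorem compl_mem' {I J : Finset (Fin 6)} (h : I.disjSum J ∈ D) : Iᶜ.disjSum Jᶜ ∈ D := by
  rw [← ds_compl]
  exact S5612.compl_mem card_X hD h

theorem eq_of_inter {I J I' J' : Finset (Fin 6)} (h : I.disjSum J ∈ D) (h' : I'.disjSum J' ∈ D)
    (h5 : 5 ≤ (I ∩ I').card + (J ∩ J').card) : I = I' ∧ J = J' := by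
  by_contra hne
  have hne' : I.disjSum J ≠ I'.disjSum J' := fun e => hne (disjSum_inj.mp e)
  have := Cfsg.Agent.Lib.Helper3.Steiner.inter_card_lt hD h h' hne'
  rw [ds_inter, card_disjSum] at this
  omega

theorem exists_hexad (I J : Finset (Fin 6)) (h5 : I.card + J.card = 5) :
    ∃ I' J' : Finset (Fin 6), I'.disjSum J' ∈ D ∧ I ⊆ I' ∧ J ⊆ J' := by
  obtain ⟨h, ⟨hh, hsub⟩, -⟩ := hD.2 (I.disjSum J) (by rw [card_disjSum]; exact h5)
  refine ⟨h.toLeft, h.toRight, by rw [toLeft_disjSum_toRight]; exact hh, ?_, ?_⟩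
  · exact (disjSum_subset.mp hsub).1
  · exact (disjSum_subset.mp hsub).2

include hA

theorem left_card {I J : Finset (Fin 6)} (h : I.disjSum J ∈ D) :
    I.card = 0 ∨ I.card = 2 ∨ I.card = 3 ∨ I.card = 4 ∨ I.card = 6 := by
  have hle : I.card ≤ 6 := by
    have := card_le_univ I
    simpa using this
  by_cases e : I.disjSum J = (univ : Finset (Fin 6)).disjSum (∅ : Finset (Fin 6))
  · have := (disjSum_inj.mp e).1
    rw [this]
    right; right; right; right
    simp
  · have h1 := S5612.inter_card_ne_one card_X hD h hA e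
    have h2 := Cfsg.Agent.Lib.Helper3.Steiner.inter_card_lt hD h hA e
    rw [ds_inter, card_disjSum, inter_univ, inter_empty, card_empty, add_zero] at h1 h2
    omega

/-- the second point outside the left half of the block through a 4-subset and a point -/
theorem exists_mate {i j : Fin 6} (hij : i ≠ j) (u : Fin 6) :
    ∃ v, v ≠ u ∧ (Q i j).disjSum {u, v} ∈ D := by
  obtain ⟨I', J', hmem, hI, hJ⟩ := exists_hexad hD (Q i j) {u} (by
    rw [card_Q i j hij, card_singleton])
  have hc := card_of_mem hD hmem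
  have h3 := left_card hD hA hmem
  have h4 : 4 ≤ I'.card := by
    rw [← card_Q i j hij]
    exact card_le_card hI
  have hu : u ∈ J' := hJ (mem_singleton_self u)
  have hJ1 : 1 ≤ J'.card := card_pos.mpr ⟨u, hu⟩
  have hI4 : I'.card = 4 := by omega
  have hIQ : Q i j = I' := eq_of_subset_of_card_le hI (by rw [hI4, card_Q i j hij])
  have hJ2 : J'.card = 2 := by omega
  have he : (J'.erase u).card = 1 := by rw [card_erase_of_mem hu, hJ2]
  obtain ⟨v, hv⟩ := card_eq_one.mp he
  have hvm : v ∈ J'.erase u := by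
    rw [hv]
    exact mem_singleton_self v
  refine ⟨v, (mem_erase.mp hvm).1, ?_⟩
  have hJ' : J' = {u, v} := by
    rw [← insert_erase hu, hv]
  rw [hIQ, ← hJ']
  exact hmem

omit hA in
theorem mate_unique {i j : Fin 6} (hij : i ≠ j) {u v v' : Fin 6} (hv : v ≠ u) (hv' : v' ≠ u)
    (h1 : (Q i j).disjSum {u, v} ∈ D) (h2 : (Q i j).disjSum {u, v'} ∈ D) : v = v' := by
  have := eq_of_inter hD h1 h2 (by
    rw [inter_self, card_Q i j hij]
    have : u ∈ ({u, v} : Finset (Fin 6)) ∩ {u, v'} := by simp
    have := card_pos.mpr ⟨u, this⟩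
    omega)
  have hvm : v ∈ ({u, v'} : Finset (Fin 6)) := by
    rw [← this.2]
    simp
  rw [mem_insert, mem_singleton] at hvm
  rcases hvm with h | h
  · exact absurd h hv
  · exact h

/-- the syntheme attached to a pair of points of the left half -/
theorem exists_code : ∃ c : Fin 6 → Fin 6 → Fin 15, ∀ i j : Fin 6, i ≠ j → ∀ u v : Fin 6, u ≠ v →
    ((Q i j).disjSum {u, v} ∈ D ↔ syn (c i j) u = v) := by
  have h : ∀ i j : Fin 6, ∃ k : Fin 15, i ≠ j → ∀ u v : Fin 6, u ≠ v →
      ((Q i j).disjSum {u, v} ∈ D ↔ syn k u = v) := by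
    intro i j
    by_cases hij : i = j
    · exact ⟨0, fun h => absurd hij h⟩
    · have hm := exists_mate hD hA hij
      choose f hf using hm
      have hinv : ∀ u, f (f u) = u := by
        intro u
        have h1 := (hf u).2
        have h2 := (hf (f u)).2
        rw [pair_comm] at h1
        exact (mate_unique hD hij (hf u).1.symm (hf (f u)).1 h1 h2).symm
      obtain ⟨k, hk⟩ := syn_classify f hinv (fun u => (hf u).1)
      refine ⟨k, fun _ u v huv => ?_⟩
      rw [← hk u]
      constructor
      · intro h1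
        exact mate_unique hD hij (hf u).1 huv.symm (hf u).2 h1
      · intro h1
        rw [← h1]
        exact (hf u).2
  choose c hc using h
  exact ⟨c, hc⟩

end Basic

/-! ### Properties of the code -/

section Code

variable {D : Set (Finset X)} (hD : IsSteinerSystem 5 6 D)
  (hA : (univ : Finset (Fin 6)).disjSum (∅ : Finset (Fin 6)) ∈ D)
  {c : Fin 6 → Fin 6 → Fin 15}
  (hc : ∀ i j : Fin 6, i ≠ j → ∀ u v : Fin 6, u ≠ v →
    ((Q i j).disjSum {u, v} ∈ D ↔ syn (c i j) u = v))
include hD hc

theorem code_symm {i j : Fin 6} (hij : i ≠ j) : c i j = c j i := by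
  apply syn_injective
  intro u
  have hne : u ≠ syn (c i j) u := (syn_ne (c i j) u).symm
  have h1 := (hc i j hij u _ hne).mpr rfl
  rw [Q_comm] at h1
  exact ((hc j i hij.symm u _ hne).mp h1).symm

theorem code_djb {i j l : Fin 6} (hij : i ≠ j) (hil : i ≠ l) (hjl : j ≠ l) :
    djb (c i j) (c i l) = true := by
  rw [djb_iff]
  intro u heq
  have hne : u ≠ syn (c i j) u := (syn_ne (c i j) u).symm
  have h1 := (hc i j hij u _ hne).mpr rfl
  have h2 := (hc i l hil u _ hne).mpr heq.symm
  have := eq_of_inter hD h1 h2 (by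
    rw [card_Q_inter i j l hij hil hjl, inter_self, card_pair hne])
  exact Q_ne i j l hij hil hjl this.1

include hA

/-- a block meeting the left half in three points avoids the synthemes of the three pairs -/
theorem no_mix {i j : Fin 6} (hij : i ≠ j) {u v : Fin 6} (huv : u ≠ v) {I J : Finset (Fin 6)}
    (hIJ : I.disjSum J ∈ D) (hI : I ⊆ Q i j) (hI3 : I.card = 3) (hu : u ∈ J) (hv : v ∈ J) :
    syn (c i j) u ≠ v := by
  intro h
  have h1 := (hc i j hij u v huv).mpr h
  have hJ : ({u, v} : Finset (Fin 6)) ∩ J = {u, v} := by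
    apply inter_eq_left.mpr
    intro x hx
    rw [mem_insert, mem_singleton] at hx
    rcases hx with rfl | rfl <;> assumption
  have := eq_of_inter hD h1 hIJ (by
    rw [inter_eq_right.mpr hI, hI3, hJ, card_pair huv])
  have h4 := card_Q i j hij
  rw [this.1, hI3] at h4
  omega

theorem code_K33 {l m n : Fin 6} (hlm : l ≠ m) (hln : l ≠ n) (hmn : m ≠ n) :
    K33 (c m n) (c l n) (c l m) := by
  intro u v huv hunc
  obtain ⟨I', J', hmem, hI, hJ⟩ := exists_hexad hD (univ \ ({l, m, n} : Finset (Fin 6))) {u, v} (by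
    rw [card_T l m n hlm hln hmn, card_pair huv])
  have hcard := card_of_mem hD hmem
  have h3 := left_card hD hA hmem
  have hI3 : 3 ≤ I'.card := by
    rw [← card_T l m n hlm hln hmn]
    exact card_le_card hI
  have hJ2 : 2 ≤ J'.card := by
    rw [← card_pair huv]
    exact card_le_card hJ
  have hu : u ∈ J' := hJ (by simp)
  have hv : v ∈ J' := hJ (by simp)
  have hcases : I'.card = 3 ∨ I'.card = 4 := by omega
  rcases hcases with hI' | hI'
  · -- the block has type 3+3
    have hJ3 : J'.card = 3 := by omega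
    have hIT : univ \ ({l, m, n} : Finset (Fin 6)) = I' :=
      eq_of_subset_of_card_le hI (by rw [hI', card_T l m n hlm hln hmn])
    have he : (J' \ {u, v}).card = 1 := by
      rw [card_sdiff_of_subset hJ, hJ3, card_pair huv]
    obtain ⟨w, hw⟩ := card_eq_one.mp he
    have hwm : w ∈ J' \ {u, v} := by
      rw [hw]
      exact mem_singleton_self w
    rw [mem_sdiff, mem_insert, mem_singleton, not_or] at hwm
    have hT := T_subset l m n
    rw [hIT] at hT
    refine ⟨w, hwm.2.1, hwm.2.2, ⟨?_, ?_, ?_⟩, ⟨?_, ?_, ?_⟩⟩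
    · exact no_mix hD hA hc hmn (Ne.symm hwm.2.1) hmem hT.1 hI' hu hwm.1
    · exact no_mix hD hA hc hln (Ne.symm hwm.2.1) hmem hT.2.1 hI' hu hwm.1
    · exact no_mix hD hA hc hlm (Ne.symm hwm.2.1) hmem hT.2.2 hI' hu hwm.1
    · exact no_mix hD hA hc hmn (Ne.symm hwm.2.2) hmem hT.1 hI' hv hwm.1
    · exact no_mix hD hA hc hln (Ne.symm hwm.2.2) hmem hT.2.1 hI' hv hwm.1
    · exact no_mix hD hA hc hlm (Ne.symm hwm.2.2) hmem hT.2.2 hI' hv hwm.1
  · -- the block has type 4+2: impossible
    exfalso
    have hJ2' : J'.card = 2 := by omega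
    have hJe : ({u, v} : Finset (Fin 6)) = J' :=
      eq_of_subset_of_card_le hJ (by rw [hJ2', card_pair huv])
    rw [← hJe] at hmem
    rcases four_superset l m n hlm hln hmn I' hI hI' with h | h | h
    · rw [h] at hmem
      exact hunc.1 ((hc m n hmn u v huv).mp hmem)
    · rw [h] at hmem
      exact hunc.2.1 ((hc l n hln u v huv).mp hmem)
    · rw [h] at hmem
      exact hunc.2.2 ((hc l m hlm u v huv).mp hmem)

end Code

/-! ### The model -/

/-- the pair `u`, `v` is not matched by the synthemes of the three pairs from `l`, `m`, `n` -/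
def unc (l m n u v : Fin 6) : Prop :=
  syn (omega m n) u ≠ v ∧ syn (omega l n) u ≠ v ∧ syn (omega l m) u ≠ v

/-- blocks of the model of type 4+2 -/
def M42 (I J : Finset (Fin 6)) : Prop :=
  ∃ i j u v : Fin 6, i ≠ j ∧ u ≠ v ∧ I = Q i j ∧ J = {u, v} ∧ syn (omega i j) u = v

/-- blocks of the model of type 3+3 -/
def M33 (I J : Finset (Fin 6)) : Prop :=
  ∃ l m n u v w : Fin 6, l ≠ m ∧ l ≠ n ∧ m ≠ n ∧ u ≠ v ∧ u ≠ w ∧ v ≠ w ∧
    I = univ \ {l, m, n} ∧ J = {u, v, w} ∧ unc l m n u v ∧ unc l m n u w ∧ unc l m n v w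

/-- the blocks of the model -/
def Model (I J : Finset (Fin 6)) : Prop :=
  (I = univ ∧ J = ∅) ∨ (I = ∅ ∧ J = univ) ∨ M42 I J ∨ M42 Iᶜ Jᶜ ∨ M33 I J

/-- the model as a family of subsets of `X` -/
def ModelSet : Set (Finset X) := {h | Model h.toLeft h.toRight}

theorem compl_of_card_two {I : Finset (Fin 6)} (h : Iᶜ.card = 2) :
    ∃ i j : Fin 6, i ≠ j ∧ I = Q i j := by
  obtain ⟨i, j, hij, he⟩ := card_eq_two.mp h
  refine ⟨i, j, hij, ?_⟩
  rw [← compl_compl I, he]
  exact compl_eq_univ_sdiff _

theorem compl_of_card_three {I : Finset (Fin 6)} (h : Iᶜ.card = 3) :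
    ∃ l m n : Fin 6, l ≠ m ∧ l ≠ n ∧ m ≠ n ∧ I = univ \ {l, m, n} := by
  obtain ⟨l, m, n, hlm, hln, hmn, he⟩ := card_eq_three.mp h
  refine ⟨l, m, n, hlm, hln, hmn, ?_⟩
  rw [← compl_compl I, he]
  exact compl_eq_univ_sdiff _

theorem card_compl_six (I : Finset (Fin 6)) : Iᶜ.card = 6 - I.card := by
  rw [card_compl]
  simp

section Classify

variable {D : Set (Finset X)} (hD : IsSteinerSystem 5 6 D)
  (hA : (univ : Finset (Fin 6)).disjSum (∅ : Finset (Fin 6)) ∈ D)
  (hc : ∀ i j : Fin 6, i ≠ j → ∀ u v : Fin 6, u ≠ v →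
    ((Q i j).disjSum {u, v} ∈ D ↔ syn (omega i j) u = v))
include hD hA hc

theorem model_of_mem_four {I J : Finset (Fin 6)} (h : I.disjSum J ∈ D) (hI : I.card = 4) :
    M42 I J := by
  have hcard := card_of_mem hD h
  obtain ⟨i, j, hij, rfl⟩ := compl_of_card_two (I := I) (by rw [card_compl_six, hI])
  obtain ⟨u, v, huv, rfl⟩ := card_eq_two.mp (show J.card = 2 by omega)
  exact ⟨i, j, u, v, hij, huv, rfl, rfl, (hc i j hij u v huv).mp h⟩

theorem model_of_mem {I J : Finset (Fin 6)} (h : I.disjSum J ∈ D) : Model I J := by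
  have hcard := card_of_mem hD h
  rcases left_card hD hA h with h0 | h2 | h3 | h4 | h6
  · right; left
    refine ⟨card_eq_zero.mp h0, ?_⟩
    rw [← card_eq_iff_eq_univ]
    simp
    omega
  · right; right; right; left
    have h' := compl_mem' hD h
    exact model_of_mem_four hD hA hc h' (by rw [card_compl_six, h2])
  · right; right; right; right
    obtain ⟨l, m, n, hlm, hln, hmn, rfl⟩ := compl_of_card_three (I := I) (by
      rw [card_compl_six, h3])
    obtain ⟨u, v, w, huv, huw, hvw, rfl⟩ := card_eq_three.mp (show J.card = 3 by omega)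
    have hT := T_subset l m n
    refine ⟨l, m, n, u, v, w, hlm, hln, hmn, huv, huw, hvw, rfl, rfl, ⟨?_, ?_, ?_⟩, ⟨?_, ?_, ?_⟩,
      ⟨?_, ?_, ?_⟩⟩
    · exact no_mix hD hA hc hmn huv h hT.1 h3 (by simp) (by simp)
    · exact no_mix hD hA hc hln huv h hT.2.1 h3 (by simp) (by simp)
    · exact no_mix hD hA hc hlm huv h hT.2.2 h3 (by simp) (by simp)
    · exact no_mix hD hA hc hmn huw h hT.1 h3 (by simp) (by simp)
    · exact no_mix hD hA hc hln huw h hT.2.1 h3 (by simp) (by simp)
    · exact no_mix hD hA hc hlm huw h hT.2.2 h3 (by simp) (by simp)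
    · exact no_mix hD hA hc hmn hvw h hT.1 h3 (by simp) (by simp)
    · exact no_mix hD hA hc hln hvw h hT.2.1 h3 (by simp) (by simp)
    · exact no_mix hD hA hc hlm hvw h hT.2.2 h3 (by simp) (by simp)
  · right; right; left
    exact model_of_mem_four hD hA hc h h4
  · left
    have hI : I = univ := by
      rw [← card_eq_iff_eq_univ]
      simpa using h6
    refine ⟨hI, ?_⟩
    rw [← card_eq_zero]
    omega

theorem mem_of_model {I J : Finset (Fin 6)} (h : Model I J) : I.disjSum J ∈ D := by
  rcases h with ⟨rfl, rfl⟩ | ⟨rfl, rfl⟩ | h | h | h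
  · exact hA
  · have := compl_mem' hD hA
    simpa using this
  · obtain ⟨i, j, u, v, hij, huv, rfl, rfl, hs⟩ := h
    exact (hc i j hij u v huv).mpr hs
  · obtain ⟨i, j, u, v, hij, huv, hI, hJ, hs⟩ := h
    have h1 := (hc i j hij u v huv).mpr hs
    rw [← hI, ← hJ] at h1
    have := compl_mem' hD h1
    rwa [compl_compl, compl_compl] at this
  · obtain ⟨l, m, n, u, v, w, hlm, hln, hmn, huv, huw, hvw, rfl, rfl, h1, h2, h3⟩ := h
    obtain ⟨I', J', hmem, hI, hJ⟩ := exists_hexad hD (univ \ ({l, m, n} : Finset (Fin 6))) {u, v}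
      (by rw [card_T l m n hlm hln hmn, card_pair huv])
    have hcard := card_of_mem hD hmem
    have hl := left_card hD hA hmem
    have hI3 : 3 ≤ I'.card := by
      rw [← card_T l m n hlm hln hmn]
      exact card_le_card hI
    have hJ2 : 2 ≤ J'.card := by
      rw [← card_pair huv]
      exact card_le_card hJ
    have hu : u ∈ J' := hJ (by simp)
    have hv : v ∈ J' := hJ (by simp)
    have hcases : I'.card = 3 ∨ I'.card = 4 := by omega
    rcases hcases with hI' | hI'
    · have hJ3 : J'.card = 3 := by omega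
      have hIT : univ \ ({l, m, n} : Finset (Fin 6)) = I' :=
        eq_of_subset_of_card_le hI (by rw [hI', card_T l m n hlm hln hmn])
      have he : (J' \ {u, v}).card = 1 := by
        rw [card_sdiff_of_subset hJ, hJ3, card_pair huv]
      obtain ⟨w', hw'⟩ := card_eq_one.mp he
      have hwm : w' ∈ J' \ {u, v} := by
        rw [hw']
        exact mem_singleton_self w'
      rw [mem_sdiff, mem_insert, mem_singleton, not_or] at hwm
      have hT := T_subset l m n
      rw [hIT] at hT
      have e : w = w' := by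
        apply model_unique l m n hlm hln hmn u v huv w w' (Ne.symm huw) (Ne.symm hvw)
          hwm.2.1 hwm.2.2 h2 h3
        · exact ⟨no_mix hD hA hc hmn (Ne.symm hwm.2.1) hmem hT.1 hI' hu hwm.1,
            no_mix hD hA hc hln (Ne.symm hwm.2.1) hmem hT.2.1 hI' hu hwm.1,
            no_mix hD hA hc hlm (Ne.symm hwm.2.1) hmem hT.2.2 hI' hu hwm.1⟩
        · exact ⟨no_mix hD hA hc hmn (Ne.symm hwm.2.2) hmem hT.1 hI' hv hwm.1,
            no_mix hD hA hc hln (Ne.symm hwm.2.2) hmem hT.2.1 hI' hv hwm.1,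
            no_mix hD hA hc hlm (Ne.symm hwm.2.2) hmem hT.2.2 hI' hv hwm.1⟩
      have hJ' : J' = {u, v, w} := by
        have hsub : ({u, v, w} : Finset (Fin 6)) ⊆ J' := by
          intro x hx
          simp only [mem_insert, mem_singleton] at hx
          rcases hx with rfl | rfl | rfl
          · exact hu
          · exact hv
          · rw [e]
            exact hwm.1
        exact (eq_of_subset_of_card_le hsub (by
          rw [hJ3, card_insert_of_notMem, card_pair hvw]
          simp only [mem_insert, mem_singleton, not_or]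
          exact ⟨huv, huw⟩)).symm
      rw [hIT, ← hJ']
      exact hmem
    · exfalso
      have hJ2' : J'.card = 2 := by omega
      have hJe : ({u, v} : Finset (Fin 6)) = J' :=
        eq_of_subset_of_card_le hJ (by rw [hJ2', card_pair huv])
      rw [← hJe] at hmem
      rcases four_superset l m n hlm hln hmn I' hI hI' with h | h | h
      · rw [h] at hmem
        exact h1.1 ((hc m n hmn u v huv).mp hmem)
      · rw [h] at hmem
        exact h1.2.1 ((hc l n hln u v huv).mp hmem)
      · rw [h] at hmem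
        exact h1.2.2 ((hc l m hlm u v huv).mp hmem)

theorem mem_iff_model (h : Finset X) : h ∈ D ↔ h ∈ ModelSet := by
  show h ∈ D ↔ Model h.toLeft h.toRight
  constructor
  · intro hh
    apply model_of_mem hD hA hc
    rw [toLeft_disjSum_toRight]
    exact hh
  · intro hm
    have := mem_of_model hD hA hc hm
    rwa [toLeft_disjSum_toRight] at this

end Classify

/-! ### The relabelling -/

theorem exists_relabel {D : Set (Finset X)} (hD : IsSteinerSystem 5 6 D)
    (hA : (univ : Finset (Fin 6)).disjSum (∅ : Finset (Fin 6)) ∈ D) :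
    ∃ π : Equiv.Perm (Fin 6), ∀ h : Finset X,
      h.image (Equiv.sumCongr (Equiv.refl (Fin 6)) π) ∈ D ↔ h ∈ ModelSet := by
  obtain ⟨c, hc⟩ := exists_code hD hA
  have hdj : ∀ j l : Fin 6, j ≠ 0 → l ≠ 0 → j ≠ l → djb (c 0 j) (c 0 l) = true :=
    fun j l hj hl hjl => code_djb hD hc (Ne.symm hj) (Ne.symm hl) hjl
  obtain ⟨x0, hinj, hcomm⟩ := finA (c 0 1) (c 0 2) (hdj 1 2 (by decide) (by decide) (by decide))
    (c 0 3) (hdj 1 3 (by decide) (by decide) (by decide))
    (hdj 2 3 (by decide) (by decide) (by decide))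
    (c 0 4) (hdj 1 4 (by decide) (by decide) (by decide))
    (hdj 2 4 (by decide) (by decide) (by decide)) (hdj 3 4 (by decide) (by decide) (by decide))
    (c 0 5) (hdj 1 5 (by decide) (by decide) (by decide))
    (hdj 2 5 (by decide) (by decide) (by decide)) (hdj 3 5 (by decide) (by decide) (by decide))
    (hdj 4 5 (by decide) (by decide) (by decide))
  have hkv : ∀ j : Fin 6, j ≠ 0 → (![c 0 1, c 0 1, c 0 2, c 0 3, c 0 4, c 0 5] : Fin 6 → Fin 15) j =
      c 0 j := by
    intro j hj
    fin_cases j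
    · exact absurd rfl hj
    all_goals rfl
  have hbij : Function.Bijective (lab ![c 0 1, c 0 1, c 0 2, c 0 3, c 0 4, c 0 5] x0) :=
    ⟨fun u v h => hinj u v h, Finite.injective_iff_surjective.mp (fun u v h => hinj u v h)⟩
  set π : Equiv.Perm (Fin 6) := Equiv.ofBijective _ hbij with hπ
  have hπc : ∀ j : Fin 6, j ≠ 0 → ∀ u : Fin 6, syn (c 0 j) (π u) = π (syn (omega 0 j) u) := by
    intro j hj u
    have := hcomm j hj u
    rw [hkv j hj] at this
    exact this
  refine ⟨π, ?_⟩
  -- the relabelled system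
  have hE : IsSteinerSystem 5 6 (Derived.pull (Equiv.sumCongr (Equiv.refl (Fin 6)) π) D) :=
    Derived.pull_steiner _ hD
  have hmemE : ∀ I J : Finset (Fin 6),
      I.disjSum J ∈ Derived.pull (Equiv.sumCongr (Equiv.refl (Fin 6)) π) D ↔
        I.disjSum (J.image π) ∈ D := by
    intro I J
    rw [Derived.mem_pull, image_ds]
  have hAE : (univ : Finset (Fin 6)).disjSum (∅ : Finset (Fin 6)) ∈
      Derived.pull (Equiv.sumCongr (Equiv.refl (Fin 6)) π) D := by
    rw [hmemE, image_empty]
    exact hA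
  obtain ⟨c', hc'⟩ := exists_code hE hAE
  -- relation between the codes
  have hrel : ∀ i j : Fin 6, i ≠ j → ∀ u v : Fin 6, u ≠ v →
      (syn (c' i j) u = v ↔ syn (c i j) (π u) = π v) := by
    intro i j hij u v huv
    rw [← hc' i j hij u v huv, hmemE, image_insert, image_singleton,
      hc i j hij (π u) (π v) (fun h => huv (π.injective h))]
  have h0 : ∀ j : Fin 6, j ≠ 0 → c' 0 j = omega 0 j := by
    intro j hj
    apply syn_injective
    intro u
    have hne : u ≠ syn (omega 0 j) u := (syn_ne _ u).symm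
    rw [hrel 0 j (Ne.symm hj) u _ hne, hπc j hj u]
  have hall : ∀ i j : Fin 6, i ≠ j → c' i j = omega i j := by
    intro i j hij
    by_cases hi : i = 0
    · rw [hi] at hij ⊢
      exact h0 j (Ne.symm hij)
    by_cases hj : j = 0
    · rw [hj] at hij ⊢
      rw [code_symm hE hc' hij, omega_symm]
      exact h0 i hi
    apply finB i j hi hj hij
    · have := code_djb hE hc' hij hi hj
      rwa [code_symm hE hc' hi, h0 i hi] at this
    · have := code_djb hE hc' (Ne.symm hij) hj hi
      rwa [code_symm hE hc' hj, h0 j hj, ← code_symm hE hc' hij] at this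
    · have := code_K33 hE hAE hc' (Ne.symm hi) (Ne.symm hj) hij
      rwa [h0 j hj, h0 i hi] at this
  have hcω : ∀ i j : Fin 6, i ≠ j → ∀ u v : Fin 6, u ≠ v →
      ((Q i j).disjSum {u, v} ∈ Derived.pull (Equiv.sumCongr (Equiv.refl (Fin 6)) π) D ↔
        syn (omega i j) u = v) := by
    intro i j hij u v huv
    rw [hc' i j hij u v huv, hall i j hij]
  intro h
  rw [← mem_iff_model hE hAE hcω h]
  exact Iff.rfl

end SixSix

end Cfsg.Agent.Lib.Helper28
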