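import Mathlib
import Cfsg.Prelude.Def_Sporadic_a
import Cfsg.Agent.Lib.Helper28.SixSix
import Cfsg.Agent.Lib.Helper28.SetSysIso

set_option autoImplicit false
set_option linter.unusedSectionVars false
set_option linter.unusedVariables false

/-!
Every Steiner system `S(5,6,12)` is isomorphic to the explicit model `SixSix.ModelSet`, with a
prescribed block and a prescribed labelling of this block.
-/

namespace Cfsg.Agent.Lib.Helper28

open Cfsg Finset PlaneFour SixSix

namespace Witt12

variable {α : Type*} [Fintype α] [DecidableEq α]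

/-- coordinates adapted to a block with a given labelling -/
theorem exists_frame (hα : Fintype.card α = 12) {D : Set (Finset α)}
    (hD : IsSteinerSystem 5 6 D) {A0 : Finset α} (hA0 : A0 ∈ D) (a : Fin 6 → α)
    (ha : Function.Injective a) (hA : A0 = univ.image a) :
    ∃ e : X ≃ α, (∀ i, e (Sum.inl i) = a i) ∧ ∀ h : Finset X, h.image e ∈ D ↔ h ∈ ModelSet := by
  classical
  have hmemA : ∀ i, a i ∈ A0 := fun i => by
    rw [hA]
    exact mem_image_of_mem _ (mem_univ _)
  let e1 : Fin 6 ≃ {x // x ∈ A0} := Equiv.ofBijective (fun i => ⟨a i, hmemA i⟩) ⟨by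
    intro i j h
    exact ha (congrArg Subtype.val h), by
    rintro ⟨x, hx⟩
    rw [hA, mem_image] at hx
    obtain ⟨i, -, rfl⟩ := hx
    exact ⟨i, rfl⟩⟩
  have hcard2 : Fintype.card {x // ¬ x ∈ A0} = 6 := by
    rw [Fintype.card_subtype_compl, hα, Fintype.card_coe, hD.1 A0 hA0]
  let e2 : Fin 6 ≃ {x // ¬ x ∈ A0} := (Fintype.equivFinOfCardEq hcard2).symm
  let ψ0 : X ≃ α := (Equiv.sumCongr e1 e2).trans (Equiv.sumCompl (· ∈ A0))
  have hψl : ∀ i, ψ0 (Sum.inl i) = a i := fun i => rfl
  have hψr : ∀ u, ψ0 (Sum.inr u) ∉ A0 := fun u => (e2 u).2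
  have himg : ((univ : Finset (Fin 6)).disjSum (∅ : Finset (Fin 6))).image ψ0 = A0 := by
    ext x
    rw [mem_image]
    constructor
    · rintro ⟨y, hy, rfl⟩
      rcases y with i | u
      · rw [hψl]
        exact hmemA i
      · rw [inr_mem_disjSum] at hy
        exact absurd hy (notMem_empty u)
    · intro hx
      rw [hA, mem_image] at hx
      obtain ⟨i, -, rfl⟩ := hx
      exact ⟨Sum.inl i, inl_mem_disjSum.mpr (mem_univ i), hψl i⟩
  have hD' : IsSteinerSystem 5 6 (Derived.pull ψ0 D) := Derived.pull_steiner ψ0 hD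
  have hA' : (univ : Finset (Fin 6)).disjSum (∅ : Finset (Fin 6)) ∈ Derived.pull ψ0 D := by
    rw [Derived.mem_pull, himg]
    exact hA0
  obtain ⟨π, hπ⟩ := exists_relabel hD' hA'
  refine ⟨(Equiv.sumCongr (Equiv.refl (Fin 6)) π).trans ψ0, fun i => ?_, fun h => ?_⟩
  · rw [Equiv.trans_apply]
    exact hψl i
  · rw [← hπ h, Derived.mem_pull, image_image]
    rfl

theorem exists_block (hα : Fintype.card α = 12) {D : Set (Finset α)}
    (hD : IsSteinerSystem 5 6 D) : ∃ A0, A0 ∈ D := by
  have h5 : 5 ≤ (univ : Finset α).card := by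
    rw [card_univ, hα]
    norm_num
  obtain ⟨s, -, hs⟩ := exists_subset_card_eq h5
  obtain ⟨b0, ⟨hb0, -⟩, -⟩ := hD.2 s hs
  exact ⟨b0, hb0⟩

theorem iso_of_frame {D : Set (Finset α)} {e : X ≃ α}
    (he : ∀ h : Finset X, h.image e ∈ D ↔ h ∈ ModelSet) :
    (fun h : Finset X => h.image e) '' ModelSet = D := by
  ext d
  constructor
  · rintro ⟨h, hm, rfl⟩
    exact (he h).mpr hm
  · intro hd
    refine ⟨d.image e.symm, ?_, ?_⟩
    · rw [← he, image_image, Equiv.self_comp_symm, image_id]
      exact hd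
    · show (d.image e.symm).image e = d
      rw [image_image, Equiv.self_comp_symm, image_id]

/-- every `S(5,6,12)` is isomorphic to the model -/
theorem iso_model (hα : Fintype.card α = 12) {D : Set (Finset α)}
    (hD : IsSteinerSystem 5 6 D) : SetSystemIso ModelSet D := by
  obtain ⟨A0, hA0⟩ := exists_block hα hD
  have hc : A0.card = 6 := hD.1 A0 hA0
  let f : Fin 6 ≃ {x // x ∈ A0} := (Finset.equivFinOfCardEq hc).symm
  have hinj : Function.Injective (fun i => (f i : α)) := fun i j h => f.injective (Subtype.ext h)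
  have himg : A0 = univ.image (fun i => (f i : α)) := by
    ext x
    rw [mem_image]
    constructor
    · intro hx
      exact ⟨f.symm ⟨x, hx⟩, mem_univ _, by simp⟩
    · rintro ⟨i, -, rfl⟩
      exact (f i).2
  obtain ⟨e, -, he⟩ := exists_frame hα hD hA0 _ hinj himg
  exact ⟨e, iso_of_frame he⟩

theorem steiner_5_6_12_iso {β : Type*} [Fintype β] [DecidableEq β] (hα : Fintype.card α = 12)
    (hβ : Fintype.card β = 12) {D : Set (Finset α)} {D' : Set (Finset β)}
    (hD : IsSteinerSystem 5 6 D) (hD' : IsSteinerSystem 5 6 D') : SetSystemIso D D' :=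
  SetSys.iso_trans (SetSys.iso_symm (iso_model hα hD)) (iso_model hβ hD')

end Witt12

end Cfsg.Agent.Lib.Helper28
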