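import Cfsg.Agent.Lib.Helper28.PrimeGens
import Cfsg.Agent.Lib.Helper28.M24Transport
import Cfsg.Agent.Lib.Helper28.M24Stab

set_option autoImplicit false

/-!
Simplicity of `M23`, `M24` and `M22` (as subgroups of the symmetric group on the 24 points).
`M23` is generated by two elements of order 23, `M22` by two elements of order 11.
-/

namespace Cfsg.Agent.Lib.Helper28

open Cfsg MulAction
open scoped Pointwise

/-! ### `M23` -/

/-- two elements of order 23 of `M23` and their inverses -/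
def m23tabs : Fin 4 → Fin 24 → Fin 24 := ![
  ![1, 2, 3, 4, 5, 6, 7, 8, 9, 10, 11, 12, 13, 14, 15, 16, 17, 18, 19, 20, 21, 22, 0, 23],
  ![22, 0, 1, 2, 3, 4, 5, 6, 7, 8, 9, 10, 11, 12, 13, 14, 15, 16, 17, 18, 19, 20, 21, 23],
  ![18, 5, 21, 2, 22, 16, 3, 19, 9, 17, 20, 4, 7, 11, 0, 13, 12, 15, 6, 8, 14, 1, 10, 23],
  ![14, 21, 3, 6, 11, 1, 18, 12, 19, 8, 22, 13, 16, 15, 20, 17, 5, 9, 0, 7, 10, 2, 4, 23]]

set_option maxRecDepth 100000 in
theorem m23tabs_inj : ∀ i, TabInj (m23tabs i) := by decide +kernel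

set_option maxRecDepth 100000 in
set_option maxHeartbeats 4000000 in
theorem m23tabs_check : ∀ i, TabCheck (m23tabs i) := by decide +kernel

set_option maxRecDepth 100000 in
theorem m23tabs_fix : ∀ i : Fin 4, m23tabs i 23 = 23 := by decide +kernel

set_option maxRecDepth 100000 in
theorem m23tabs_pow : ∀ (i : Fin 4) (a : Fin 24), (m23tabs i)^[23] a = a := by decide +kernel

/-- the group `M23` -/
def G23 : Subgroup (Equiv.Perm GolayPt) := M24 ⊓ stabilizer (Equiv.Perm GolayPt) (Helper4.pt 23)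

theorem mem_G23 {g : Equiv.Perm GolayPt} :
    g ∈ G23 ↔ g ∈ M24 ∧ g (Helper4.pt 23) = Helper4.pt 23 := by
  unfold G23
  rw [Subgroup.mem_inf]
  exact Iff.rfl

set_option maxRecDepth 100000 in
theorem m24base_vals : m24base 0 = 23 ∧ m24base 1 = 0 ∧ m24base 2 = 1 := by decide

theorem G23_eq : G23 = baseStab M24 1 := by
  ext g
  rw [mem_G23, mem_baseStab]
  constructor
  · rintro ⟨h1, h2⟩
    refine ⟨h1, fun j hj => ?_⟩
    have : j = 0 := Fin.ext (Nat.lt_one_iff.mp hj)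
    rw [this, m24base_vals.1]; exact h2
  · rintro ⟨h1, h2⟩
    refine ⟨h1, ?_⟩
    have := h2 0 (by norm_num)
    rwa [m24base_vals.1] at this

theorem card_G23 : Nat.card G23 = 10200960 := by
  rw [G23_eq]
  exact (card_baseStab m24gens_closure_le le_rfl).2.1

theorem m23gen_mem (i : Fin 4) : tabPerm (m23tabs i) (m23tabs_inj i) ∈ G23 := by
  rw [mem_G23]
  refine ⟨tabPerm_mem_M24 _ _ (m23tabs_check i), ?_⟩
  rw [tabPerm_pt, m23tabs_fix]

def m23b : Fin 6 → Fin 24 := ![0, 1, 2, 3, 5, 4]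

def m23om : Fin 6 → ℕ := fun k => m24omega ⟨k.val + 1, by omega⟩

def m23tr : Fin 6 → Fin 24 → List (Fin 4) := ![
  ![[],
    [0],
    [0, 0],
    [0, 0, 0],
    [3, 1],
    [2, 0],
    [2, 2],
    [3, 0, 2],
    [2, 0, 2],
    [1, 2, 1],
    [2, 1],
    [0, 2, 1],
    [1, 1, 3],
    [1, 3],
    [3],
    [0, 3],
    [2, 2, 0],
    [1, 2],
    [2],
    [0, 2],
    [3, 3],
    [3, 0],
    [1],
    []],
  ![[],
    [],
    [1, 1, 3, 1, 1],
    [1, 1, 1, 3, 0, 0],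
    [0, 0, 2, 0, 0],
    [0, 0, 3, 0],
    [3, 0, 0, 2, 2, 0],
    [0, 3, 3, 3, 3],
    [2, 2, 0, 0, 2],
    [1, 2, 1, 1],
    [2, 1, 1, 2, 2, 0],
    [3, 3, 0, 2, 0],
    [0, 2, 0, 2, 2, 2],
    [0, 0, 3, 1, 1, 3, 0, 0],
    [3, 1, 1, 3, 3],
    [0, 2, 1, 2, 0],
    [1, 3, 0, 3, 1],
    [2, 1, 3, 1, 3],
    [1, 2, 0, 2, 2, 1],
    [1, 3, 3, 0, 0, 3],
    [1, 2, 2, 0, 0],
    [1, 3, 1, 3, 0, 0, 0],
    [2, 0, 0, 2, 1, 1, 2],
    []],
  ![[],
    [],
    [],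
    [3, 1, 1, 2, 0, 3, 1, 2],
    [3, 3, 3, 0, 0, 2, 1, 1],
    [1, 2, 1, 1, 2, 2, 1, 1, 1],
    [2, 2, 1, 1, 2, 0, 2, 0, 2, 0],
    [3, 0, 3, 3, 3, 3, 3, 1],
    [3, 3, 3, 0, 2, 1, 3, 1],
    [0, 0, 0, 2, 2, 0, 2, 0, 0],
    [0, 2, 0, 3, 0, 2, 1, 1],
    [2, 1, 2, 1, 2],
    [2, 2, 1, 3, 0],
    [2, 2, 0, 0, 3, 3, 3, 0, 0],
    [2, 2, 2, 1, 1, 2, 2, 2, 0],
    [0, 2, 2, 2, 2, 0, 3],
    [3, 0, 3, 0, 3],
    [0, 0, 3, 1, 2, 1, 3, 1],
    [1, 2, 0, 3, 3],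
    [3, 3, 1, 2, 1, 2, 2, 1, 2],
    [3, 3, 0, 0, 3, 1],
    [0, 2, 2, 2, 0, 3, 0, 2, 2],
    [3, 0, 3, 0, 2, 1, 3, 0],
    []],
  ![[],
    [],
    [],
    [],
    [2, 2, 2, 2, 2, 2, 0, 2, 0, 3, 0],
    [3, 1, 1, 1, 1, 2, 2, 0, 2, 1],
    [3, 3, 0, 2, 1, 2, 0, 2, 0, 0, 0],
    [0, 3, 1, 3, 0, 3, 3, 0, 0, 0, 2],
    [1, 1, 2, 1, 1, 2, 2, 0, 2, 2, 1],
    [1, 1, 1, 1, 1, 3, 1, 1, 2],
    [2, 0, 2, 1, 3, 0, 2, 0, 2, 2, 2, 0],
    [2, 1, 2, 2, 1, 3, 0, 0, 2],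
    [3, 0, 2, 0, 2, 0, 2, 1, 1, 3, 1, 1],
    [3, 0, 0, 2, 0, 0, 0, 0, 0],
    [1, 2, 2, 2, 1, 1, 2, 1, 1, 2, 2, 2],
    [3, 1, 1, 2, 0, 3, 3, 0, 3],
    [3, 1, 1, 1, 2, 2, 1, 2, 0, 2, 1],
    [3, 3, 1, 1, 1, 3, 0, 3, 1, 1, 3],
    [2, 1, 1, 1, 2, 1, 2, 0, 3, 0],
    [0, 0, 3, 0, 0, 2, 1, 2, 2, 1, 1],
    [3, 0, 2, 2, 0, 3, 3, 0, 3, 0, 2],
    [2, 0, 2, 0, 3, 0, 3, 3, 0, 0, 2],
    [2, 2, 0, 0, 2, 1, 1, 2, 0, 3, 1, 1],
    []],
  ![[],
    [],
    [],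
    [],
    [],
    [],
    [],
    [],
    [],
    [],
    [],
    [],
    [],
    [],
    [2, 2, 2, 2, 2, 2, 0, 0, 3, 0, 0, 0, 3],
    [],
    [],
    [2, 2, 2, 1, 1, 2, 0, 3, 1, 2, 0, 0, 2],
    [],
    [],
    [],
    [],
    [],
    []],
  ![[],
    [],
    [],
    [],
    [],
    [],
    [3, 1, 2, 2, 1, 1, 2, 2, 0, 2, 0, 0, 0, 2, 0],
    [1, 2, 0, 0, 3, 1, 2, 2, 1, 1, 2, 0, 0],
    [1, 2, 0, 2, 1, 1, 3, 3, 0, 3, 3, 1, 2, 2, 1, 3],
    [1, 3, 0, 0, 2, 1, 2, 2, 0, 2, 1, 1, 1, 1, 1, 1],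
    [1, 3, 3, 0, 2, 2, 2, 2, 2, 0, 0, 2, 1, 3, 1, 1],
    [3, 3, 0, 3, 0, 0, 2, 2, 1, 3, 0, 3, 3, 1, 1],
    [0, 3, 0, 3, 0, 0, 3, 3, 1, 2, 2, 2, 0],
    [0, 0, 2, 0, 2, 2, 1, 2, 0, 3, 1, 3, 0, 3],
    [],
    [3, 3, 1, 3, 0, 3, 3, 3, 3, 3, 0],
    [2, 1, 2, 0, 0, 2, 1, 3, 1, 1, 1, 2, 2, 0, 2],
    [],
    [2, 0, 0, 2, 2, 2, 0, 3, 3, 3, 0, 0, 0],
    [0, 2, 1, 1, 1, 2, 1, 2, 0, 3],
    [1, 2, 0, 3, 1, 1, 2, 1, 2, 2, 1, 1, 1, 2, 2, 2],
    [2, 1, 1, 1, 3, 0, 2, 2, 1, 2, 1, 1, 2, 1, 2],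
    [3, 3, 0, 3, 1, 2, 2, 1, 1, 3, 0, 0, 2],
    []]]

set_option maxRecDepth 100000 in
set_option maxHeartbeats 4000000 in
theorem m23tr_spec : ∀ (k : Fin 6) (p : Fin 24), (m23om k).testBit p.val = true →
    (∀ j : Fin 6, j < k → twordTab m23tabs (m23tr k p) (m23b j) = m23b j) ∧
      twordTab m23tabs (m23tr k p) (m23b k) = p := by
  decide +kernel

set_option maxRecDepth 100000 in
theorem m23om_card : ∀ k : Fin 6,
    (Finset.univ.filter fun a : Fin 24 => (m23om k).testBit a.val = true).card =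
      (![23, 22, 21, 20, 3, 16] : Fin 6 → ℕ) k := by
  decide +kernel

set_option maxRecDepth 100000 in
theorem m23b_eq : ∀ k : Fin 6, m23b k = m24base ⟨k.val + 1, by omega⟩ := by decide

/-- upper bound for the basic orbits of subgroups of `M24` fixing the first base points -/
theorem m24_upper (k : Fin 7) (g : Equiv.Perm GolayPt) (hg : g ∈ baseStab M24 k.val) :
    (m24omega k).testBit (ptInv (g (Helper4.pt (m24base k)))).val = true := by
  have horb : g (Helper4.pt (m24base k)) ∈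
      orbit (baseStab M24 k.val) (Helper4.pt (m24base k)) := ⟨⟨g, hg⟩, rfl⟩
  rw [orbit_baseStab m24gens_closure_le le_rfl k] at horb
  obtain ⟨p, hp, hpg⟩ := horb
  rw [← hpg, ptInv_pt]
  exact hp

theorem G23_upper (k : Fin 6) (g : Equiv.Perm GolayPt) (hg : g ∈ G23)
    (hfix : ∀ j : Fin 6, j < k → g (Helper4.pt (m23b j)) = Helper4.pt (m23b j)) :
    (m23om k).testBit (ptInv (g (Helper4.pt (m23b k)))).val = true := by
  rw [mem_G23] at hg
  rw [m23b_eq]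
  apply m24_upper ⟨k.val + 1, by omega⟩ g
  refine ⟨hg.1, fun j hj => ?_⟩
  rcases Nat.eq_zero_or_pos j.val with h0 | hpos
  · have : j = 0 := Fin.ext h0
    rw [this, m24base_vals.1]; exact hg.2
  · have hj' : j.val - 1 < 6 := by have := j.2; omega
    have hlt : (⟨j.val - 1, hj'⟩ : Fin 6) < k := by
      show j.val - 1 < k.val
      have : j.val < k.val + 1 := hj
      omega
    have := hfix ⟨j.val - 1, hj'⟩ hlt
    rw [m23b_eq] at this
    have e : (⟨(⟨j.val - 1, hj'⟩ : Fin 6).val + 1, by omega⟩ : Fin 7) = j := by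
      apply Fin.ext
      show j.val - 1 + 1 = j.val
      omega
    rwa [e] at this

theorem G23_rigid {g : Equiv.Perm GolayPt} (hg : g ∈ G23)
    (hfix : ∀ j : Fin 6, g (Helper4.pt (m23b j)) = Helper4.pt (m23b j)) : g = 1 := by
  rw [mem_G23] at hg
  apply eq_one_of_fix_base hg.1
  intro j
  rcases Nat.eq_zero_or_pos j.val with h0 | hpos
  · have : j = 0 := Fin.ext h0
    rw [this, m24base_vals.1]; exact hg.2
  · have hj' : j.val - 1 < 6 := by have := j.2; omega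
    have := hfix ⟨j.val - 1, hj'⟩
    rw [m23b_eq] at this
    have e : (⟨(⟨j.val - 1, hj'⟩ : Fin 6).val + 1, by omega⟩ : Fin 7) = j := by
      apply Fin.ext
      show j.val - 1 + 1 = j.val
      omega
    rwa [e] at this

theorem G23_le_closure :
    G23 ≤ Subgroup.closure (Set.range fun i => tabPerm (m23tabs i) (m23tabs_inj i)) := by
  apply le_closure_of_chain G23 m23tabs m23tabs_inj m23gen_mem m23b m23om ![23, 22, 21, 20, 3, 16]
    G23_upper m23tr m23tr_spec m23om_card (fun g hg hfix => G23_rigid hg hfix)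
  rw [card_G23]; decide

/-- the 23 points other than `∞` -/
def D23 : Set GolayPt := {x | x ≠ Helper4.pt 23}

theorem ncard_D23 : D23.ncard = 23 := by
  have : D23 = ((Finset.univ.erase (Helper4.pt 23) : Finset GolayPt) : Set GolayPt) := by
    ext x
    simp [D23]
  rw [this, Set.ncard_coe_finset, Finset.card_erase_of_mem (Finset.mem_univ _), Finset.card_univ]
  rfl

theorem G23_faithfulOn : FaithfulOn G23 D23 where
  inv := by
    intro g hg x hx hcon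
    rw [mem_G23] at hg
    exact hx (g.injective (hcon.trans hg.2.symm))
  faithful := by
    intro g hg hfix
    rw [mem_G23] at hg
    apply Equiv.ext
    intro x
    by_cases hx : x = Helper4.pt 23
    · rw [hx]; exact hg.2
    · exact hfix x hx

set_option maxRecDepth 100000 in
theorem m24omega_low : (∀ a : Fin 24, (m24omega 0).testBit a.val = true) ∧
    (∀ a : Fin 24, a ≠ 23 → (m24omega 1).testBit a.val = true) ∧
    (∀ a : Fin 24, a ≠ 23 → a ≠ 0 → (m24omega 2).testBit a.val = true) ∧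
    (∀ a : Fin 24, a ≠ 23 → a ≠ 0 → a ≠ 1 → (m24omega 3).testBit a.val = true) ∧
    m24base 3 = 2 := by
  decide +kernel

/-- level lemma for `M24` with explicit small levels -/
theorem M24_level (k : Fin 7) (a : Fin 24) (ha : (m24omega k).testBit a.val = true) :
    ∃ g ∈ M24, (∀ j : Fin 7, j < k → g (Helper4.pt (m24base j)) = Helper4.pt (m24base j)) ∧
      g (Helper4.pt (m24base k)) = Helper4.pt a := by
  obtain ⟨g, hg, h1, h2⟩ := m24_level k a ha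
  exact ⟨g, m24gens_closure_le hg, h1, h2⟩

theorem G23_twoTransOn : TwoTransOn G23 D23 := by
  apply twoTransOn_of_levels G23 D23 G23_faithfulOn.inv (Helper4.pt 0) (Helper4.pt 1)
  · intro p hp
    obtain ⟨a, rfl⟩ := Helper4.pt_bijective.2 p
    have ha : a ≠ 23 := fun h => hp (by rw [h])
    obtain ⟨g, hg, h1, h2⟩ := M24_level 1 a (m24omega_low.2.1 a ha)
    refine ⟨g, mem_G23.mpr ⟨hg, ?_⟩, ?_⟩
    · have := h1 0 (by decide)
      rwa [m24base_vals.1] at this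
    · rwa [m24base_vals.2.1] at h2
  · intro p hp hne
    obtain ⟨a, rfl⟩ := Helper4.pt_bijective.2 p
    have ha : a ≠ 23 := fun h => hp (by rw [h])
    have ha0 : a ≠ 0 := fun h => hne (by rw [h])
    obtain ⟨g, hg, h1, h2⟩ := M24_level 2 a (m24omega_low.2.2.1 a ha ha0)
    refine ⟨g, mem_G23.mpr ⟨hg, ?_⟩, ?_, ?_⟩
    · have := h1 0 (by decide)
      rwa [m24base_vals.1] at this
    · have := h1 1 (by decide)
      rwa [m24base_vals.2.1] at this
    · rwa [m24base_vals.2.2] at h2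

theorem G23_nontrivial : Nontrivial G23 := by
  rw [← Finite.one_lt_card_iff_nontrivial, card_G23]
  norm_num

/-- `M23` is simple -/
theorem G23_isSimpleGroup : IsSimpleGroup G23 := by
  apply isSimpleGroup_of_prime_gens G23_faithfulOn G23_twoTransOn (Helper4.pt 0)
    (fun h => by have := Helper4.pt_bijective.1 h; revert this; decide) 23 (by norm_num)
    (by rw [ncard_D23])
    (by rw [card_G23]; norm_num)
    (Set.range fun i => tabPerm (m23tabs i) (m23tabs_inj i)) _ G23_le_closure G23_nontrivial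
  rintro _ ⟨i, rfl⟩
  exact ⟨m23gen_mem i, tabPerm_pow_eq_one _ _ 23 (m23tabs_pow i)⟩

/-! ### `M24` -/

theorem M24_faithfulOn : FaithfulOn M24 (Set.univ : Set GolayPt) where
  inv := fun _ _ _ _ => Set.mem_univ _
  faithful := by
    intro g _ hfix
    apply Equiv.ext
    intro x
    exact hfix x (Set.mem_univ _)

theorem M24_twoTransOn : TwoTransOn M24 (Set.univ : Set GolayPt) := by
  apply twoTransOn_of_levels M24 _ M24_faithfulOn.inv (Helper4.pt 23) (Helper4.pt 0)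
  · intro p _
    obtain ⟨a, rfl⟩ := Helper4.pt_bijective.2 p
    obtain ⟨g, hg, _, h2⟩ := M24_level 0 a (m24omega_low.1 a)
    refine ⟨g, hg, ?_⟩
    rwa [m24base_vals.1] at h2
  · intro p _ hne
    obtain ⟨a, rfl⟩ := Helper4.pt_bijective.2 p
    have ha : a ≠ 23 := fun h => hne (by rw [h])
    obtain ⟨g, hg, h1, h2⟩ := M24_level 1 a (m24omega_low.2.1 a ha)
    refine ⟨g, hg, ?_, ?_⟩
    · have := h1 0 (by decide)
      rwa [m24base_vals.1] at this
    · rwa [m24base_vals.2.1] at h2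

theorem M24_nontrivial : Nontrivial M24 := by
  rw [← Finite.one_lt_card_iff_nontrivial, card_M24]
  norm_num

/-- `M24` is simple -/
theorem M24_isSimpleGroup : IsSimpleGroup M24 := by
  apply isSimpleGroup_of_stabilizer M24_faithfulOn M24_twoTransOn (Helper4.pt 23)
    (Set.mem_univ _) _ G23_isSimpleGroup M24_nontrivial
  rw [Set.ncard_univ, natCard_golayPt]
  intro h
  obtain ⟨p, k, hp, hk, hpk⟩ := h
  have hp' : Nat.Prime p := Nat.prime_iff.mpr hp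
  have h2 : (2 : ℕ) ∣ p ^ k := by rw [hpk]; norm_num
  have h3 : (3 : ℕ) ∣ p ^ k := by rw [hpk]; norm_num
  have e2 := (Nat.prime_dvd_prime_iff_eq Nat.prime_two hp').mp (Nat.Prime.dvd_of_dvd_pow Nat.prime_two h2)
  have e3 := (Nat.prime_dvd_prime_iff_eq Nat.prime_three hp').mp (Nat.Prime.dvd_of_dvd_pow Nat.prime_three h3)
  omega

/-! ### `M22` -/

/-- two elements of order 11 of `M22` and their inverses -/
def m22tabs : Fin 4 → Fin 24 → Fin 24 := ![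
  ![0, 15, 18, 2, 19, 16, 8, 20, 22, 10, 6, 4, 11, 17, 5, 7, 1, 21, 9, 14, 12, 3, 13, 23],
  ![0, 16, 3, 21, 11, 14, 10, 15, 6, 18, 9, 12, 20, 22, 19, 1, 5, 13, 2, 4, 7, 17, 8, 23],
  ![0, 9, 12, 13, 19, 15, 2, 5, 6, 11, 14, 4, 17, 18, 8, 3, 21, 16, 1, 7, 10, 22, 20, 23],
  ![0, 18, 6, 15, 11, 7, 8, 19, 14, 1, 20, 9, 2, 3, 10, 5, 17, 12, 13, 4, 22, 16, 21, 23]]

set_option maxRecDepth 100000 in
theorem m22tabs_inj : ∀ i, TabInj (m22tabs i) := by decide +kernel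

set_option maxRecDepth 100000 in
set_option maxHeartbeats 4000000 in
theorem m22tabs_check : ∀ i, TabCheck (m22tabs i) := by decide +kernel

set_option maxRecDepth 100000 in
theorem m22tabs_fix : ∀ i : Fin 4, m22tabs i 23 = 23 ∧ m22tabs i 0 = 0 := by decide +kernel

set_option maxRecDepth 100000 in
theorem m22tabs_pow : ∀ (i : Fin 4) (a : Fin 24), (m22tabs i)^[11] a = a := by decide +kernel

/-- the group `M22` -/
def G22 : Subgroup (Equiv.Perm GolayPt) :=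
  M24 ⊓ stabilizer (Equiv.Perm GolayPt) (Helper4.pt 23) ⊓
    stabilizer (Equiv.Perm GolayPt) (Helper4.pt 0)

theorem mem_G22 {g : Equiv.Perm GolayPt} :
    g ∈ G22 ↔ g ∈ M24 ∧ g (Helper4.pt 23) = Helper4.pt 23 ∧ g (Helper4.pt 0) = Helper4.pt 0 := by
  unfold G22
  rw [Subgroup.mem_inf, Subgroup.mem_inf, and_assoc]
  exact Iff.rfl

theorem G22_eq : G22 = baseStab M24 2 := by
  ext g
  rw [mem_G22, mem_baseStab]
  constructor
  · rintro ⟨h1, h2, h3⟩
    refine ⟨h1, fun j hj => ?_⟩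
    rcases Nat.eq_zero_or_pos j.val with h0 | hpos
    · have : j = 0 := Fin.ext h0
      rw [this, m24base_vals.1]; exact h2
    · have : j = 1 := Fin.ext (by show j.val = 1; omega)
      rw [this, m24base_vals.2.1]; exact h3
  · rintro ⟨h1, h2⟩
    refine ⟨h1, ?_, ?_⟩
    · have := h2 0 (by norm_num)
      rwa [m24base_vals.1] at this
    · have := h2 1 (by norm_num)
      rwa [m24base_vals.2.1] at this

theorem card_G22 : Nat.card G22 = 443520 := by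
  rw [G22_eq]
  exact (card_baseStab m24gens_closure_le le_rfl).2.2.1

theorem m22gen_mem (i : Fin 4) : tabPerm (m22tabs i) (m22tabs_inj i) ∈ G22 := by
  rw [mem_G22]
  refine ⟨tabPerm_mem_M24 _ _ (m22tabs_check i), ?_, ?_⟩
  · rw [tabPerm_pt, (m22tabs_fix i).1]
  · rw [tabPerm_pt, (m22tabs_fix i).2]

def m22b : Fin 5 → Fin 24 := ![1, 2, 3, 5, 4]

def m22om : Fin 5 → ℕ := fun k => m24omega ⟨k.val + 2, by omega⟩

def m22tr : Fin 5 → Fin 24 → List (Fin 4) := ![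
  ![[],
    [],
    [1, 3],
    [2, 0],
    [0, 2, 2],
    [3, 0],
    [0, 0, 2],
    [0, 0],
    [2, 1, 3, 0],
    [2],
    [0, 2],
    [2, 2],
    [3, 3, 1],
    [3, 3],
    [1, 3, 0],
    [0],
    [1],
    [3, 1],
    [3],
    [3, 0, 0],
    [0, 0, 0],
    [2, 1],
    [2, 2, 1],
    []],
  ![[],
    [],
    [],
    [1, 1, 1, 3, 0, 2],
    [2, 2, 2, 2, 0],
    [2, 0, 0, 2, 0],
    [2, 2, 1, 1, 1, 2, 0],
    [0, 2, 1, 1, 2, 0],
    [1, 2, 1, 1],
    [1, 3, 3, 3, 3],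
    [2, 1, 2],
    [1, 2, 2, 0, 0],
    [0, 2, 1, 2, 1],
    [2, 0, 0, 0, 2, 1],
    [3, 0, 3],
    [1, 2, 0, 2, 0, 2],
    [1, 3, 1, 1, 3],
    [1, 1, 3, 3, 0],
    [2, 2, 0, 2, 1, 2, 0],
    [0, 0, 2, 0, 0],
    [1, 3, 0, 2, 1],
    [0, 0, 3, 0],
    [3, 0, 0, 0, 2, 0],
    []],
  ![[],
    [],
    [],
    [],
    [0, 0, 0, 3, 0, 3, 0, 2, 0],
    [3, 1, 2, 1, 1, 2, 0, 3],
    [1, 1, 1, 3, 1, 3, 0, 2, 0],
    [0, 3, 3, 1, 2, 2, 0],
    [2, 1, 2, 1, 1, 3, 1, 1],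
    [0, 3, 0, 0, 3, 3],
    [1, 2, 1, 3, 1, 2, 0],
    [3, 0, 0, 3, 3, 3, 1],
    [2, 2, 1, 1, 2, 1],
    [0, 2, 2, 1, 3, 0, 2, 2],
    [0, 2, 1, 2, 1, 3, 0, 3],
    [3, 0, 0, 3, 1, 3, 0, 2, 2],
    [2, 2, 2, 0, 2, 0, 2, 0, 0],
    [3, 3, 3, 1, 3, 0, 0],
    [2, 2, 0, 3, 0, 3, 3, 0],
    [1, 3, 0, 2, 0, 3, 0],
    [0, 0, 2, 0, 0, 3, 0, 3],
    [3, 1, 1, 1, 2, 2, 0, 2],
    [0, 0, 0, 2, 2, 0, 3, 3, 0],
    []],
  ![[],
    [],
    [],
    [],
    [],
    [],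
    [],
    [],
    [],
    [],
    [],
    [],
    [],
    [],
    [0, 3, 3, 0, 3, 1, 3, 0, 0, 2],
    [],
    [],
    [0, 0, 2, 1, 2, 2, 0, 0, 3, 3],
    [],
    [],
    [],
    [],
    [],
    []],
  ![[],
    [],
    [],
    [],
    [],
    [],
    [0, 0, 3, 3, 1, 1, 2, 2, 0, 2, 0, 3, 0],
    [0, 2, 2, 2, 2, 1, 1, 2, 0, 3, 1],
    [0, 3, 1, 3, 1, 3, 0, 3, 3, 1, 1, 3],
    [3, 1, 1, 3, 3, 3, 1, 2, 0, 3, 0],
    [3, 1, 1, 1, 3, 3, 0, 0, 2, 0, 2, 0, 0],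
    [1, 1, 1, 1, 3, 1, 1, 1, 1, 3],
    [3, 1, 2, 0, 2, 1, 1, 1, 1],
    [2, 1, 2, 1, 3, 3, 0, 2, 1, 2, 0],
    [],
    [3, 1, 1, 3, 0, 2, 0, 3, 1, 3, 1, 3, 0],
    [1, 3, 0, 2, 0, 3, 3, 3, 0, 2, 2, 1],
    [],
    [1, 3, 1, 1, 3, 0, 2, 0, 0, 2, 2, 1],
    [3, 1, 2, 1, 3, 0, 3, 0, 0, 2, 0],
    [0, 2, 2, 1, 3, 0, 3, 0, 0, 2, 1, 3],
    [3, 1, 3, 0, 2, 2, 1, 2, 0, 2, 1, 3],
    [1, 2, 2, 0, 3, 0, 2, 0, 0, 2, 0, 2],
    []]]

set_option maxRecDepth 100000 in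
set_option maxHeartbeats 4000000 in
theorem m22tr_spec : ∀ (k : Fin 5) (p : Fin 24), (m22om k).testBit p.val = true →
    (∀ j : Fin 5, j < k → twordTab m22tabs (m22tr k p) (m22b j) = m22b j) ∧
      twordTab m22tabs (m22tr k p) (m22b k) = p := by
  decide +kernel

set_option maxRecDepth 100000 in
theorem m22om_card : ∀ k : Fin 5,
    (Finset.univ.filter fun a : Fin 24 => (m22om k).testBit a.val = true).card =
      (![22, 21, 20, 3, 16] : Fin 5 → ℕ) k := by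
  decide +kernel

set_option maxRecDepth 100000 in
theorem m22b_eq : ∀ k : Fin 5, m22b k = m24base ⟨k.val + 2, by omega⟩ := by decide

theorem G22_fix_base {g : Equiv.Perm GolayPt} (hg : g ∈ G22) (n : ℕ)
    (hfix : ∀ j : Fin 5, j.val < n → g (Helper4.pt (m22b j)) = Helper4.pt (m22b j)) :
    ∀ j : Fin 7, j.val < n + 2 → g (Helper4.pt (m24base j)) = Helper4.pt (m24base j) := by
  rw [mem_G22] at hg
  intro j hj
  by_cases h0 : j.val = 0
  · have : j = 0 := Fin.ext h0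
    rw [this, m24base_vals.1]; exact hg.2.1
  by_cases h1 : j.val = 1
  · have : j = 1 := Fin.ext h1
    rw [this, m24base_vals.2.1]; exact hg.2.2
  have hj' : j.val - 2 < 5 := by have := j.2; omega
  have := hfix ⟨j.val - 2, hj'⟩ (by show j.val - 2 < n; omega)
  rw [m22b_eq] at this
  have e : (⟨(⟨j.val - 2, hj'⟩ : Fin 5).val + 2, by omega⟩ : Fin 7) = j := by
    apply Fin.ext
    show j.val - 2 + 2 = j.val
    omega
  rwa [e] at this

theorem G22_upper (k : Fin 5) (g : Equiv.Perm GolayPt) (hg : g ∈ G22)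
    (hfix : ∀ j : Fin 5, j < k → g (Helper4.pt (m22b j)) = Helper4.pt (m22b j)) :
    (m22om k).testBit (ptInv (g (Helper4.pt (m22b k)))).val = true := by
  rw [m22b_eq]
  apply m24_upper ⟨k.val + 2, by omega⟩ g
  exact ⟨(mem_G22.mp hg).1, G22_fix_base hg k.val (fun j hj => hfix j hj)⟩

theorem G22_rigid {g : Equiv.Perm GolayPt} (hg : g ∈ G22)
    (hfix : ∀ j : Fin 5, g (Helper4.pt (m22b j)) = Helper4.pt (m22b j)) : g = 1 := by
  apply eq_one_of_fix_base (mem_G22.mp hg).1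
  intro j
  exact G22_fix_base hg 5 (fun j _ => hfix j) j (by have := j.2; omega)

theorem G22_le_closure :
    G22 ≤ Subgroup.closure (Set.range fun i => tabPerm (m22tabs i) (m22tabs_inj i)) := by
  apply le_closure_of_chain G22 m22tabs m22tabs_inj m22gen_mem m22b m22om ![22, 21, 20, 3, 16]
    G22_upper m22tr m22tr_spec m22om_card (fun g hg hfix => G22_rigid hg hfix)
  rw [card_G22]; decide

/-- the 22 points other than `∞` and `0` -/
def D22 : Set GolayPt := {x | x ≠ Helper4.pt 23 ∧ x ≠ Helper4.pt 0}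

theorem ncard_D22 : D22.ncard = 22 := by
  have : D22 = (((Finset.univ.erase (Helper4.pt 23)).erase (Helper4.pt 0) : Finset GolayPt) :
      Set GolayPt) := by
    ext x
    simp [D22, and_comm]
  have h0 : Helper4.pt 0 ∈ (Finset.univ.erase (Helper4.pt 23) : Finset GolayPt) := by
    rw [Finset.mem_erase]
    refine ⟨fun h => ?_, Finset.mem_univ _⟩
    have := Helper4.pt_bijective.1 h
    revert this; decide
  rw [this, Set.ncard_coe_finset, Finset.card_erase_of_mem h0,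
    Finset.card_erase_of_mem (Finset.mem_univ _), Finset.card_univ]
  rfl

theorem G22_faithfulOn : FaithfulOn G22 D22 where
  inv := by
    intro g hg x hx
    rw [mem_G22] at hg
    exact ⟨fun hcon => hx.1 (g.injective (hcon.trans hg.2.1.symm)),
      fun hcon => hx.2 (g.injective (hcon.trans hg.2.2.symm))⟩
  faithful := by
    intro g hg hfix
    rw [mem_G22] at hg
    apply Equiv.ext
    intro x
    by_cases hx : x = Helper4.pt 23
    · rw [hx]; exact hg.2.1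
    by_cases hx0 : x = Helper4.pt 0
    · rw [hx0]; exact hg.2.2
    · exact hfix x ⟨hx, hx0⟩

theorem G22_twoTransOn : TwoTransOn G22 D22 := by
  apply twoTransOn_of_levels G22 D22 G22_faithfulOn.inv (Helper4.pt 1) (Helper4.pt 2)
  · intro p hp
    obtain ⟨a, rfl⟩ := Helper4.pt_bijective.2 p
    have ha : a ≠ 23 := fun h => hp.1 (by rw [h])
    have ha0 : a ≠ 0 := fun h => hp.2 (by rw [h])
    obtain ⟨g, hg, h1, h2⟩ := M24_level 2 a (m24omega_low.2.2.1 a ha ha0)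
    refine ⟨g, mem_G22.mpr ⟨hg, ?_, ?_⟩, ?_⟩
    · have := h1 0 (by decide)
      rwa [m24base_vals.1] at this
    · have := h1 1 (by decide)
      rwa [m24base_vals.2.1] at this
    · rwa [m24base_vals.2.2] at h2
  · intro p hp hne
    obtain ⟨a, rfl⟩ := Helper4.pt_bijective.2 p
    have ha : a ≠ 23 := fun h => hp.1 (by rw [h])
    have ha0 : a ≠ 0 := fun h => hp.2 (by rw [h])
    have ha1 : a ≠ 1 := fun h => hne (by rw [h])
    obtain ⟨g, hg, h1, h2⟩ := M24_level 3 a (m24omega_low.2.2.2.1 a ha ha0 ha1)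
    refine ⟨g, mem_G22.mpr ⟨hg, ?_, ?_⟩, ?_, ?_⟩
    · have := h1 0 (by decide)
      rwa [m24base_vals.1] at this
    · have := h1 1 (by decide)
      rwa [m24base_vals.2.1] at this
    · have := h1 2 (by decide)
      rwa [m24base_vals.2.2] at this
    · rwa [m24omega_low.2.2.2.2] at h2

theorem G22_nontrivial : Nontrivial G22 := by
  rw [← Finite.one_lt_card_iff_nontrivial, card_G22]
  norm_num

/-- `M22` is simple -/
theorem G22_isSimpleGroup : IsSimpleGroup G22 := by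
  apply isSimpleGroup_of_prime_gens G22_faithfulOn G22_twoTransOn (Helper4.pt 1)
    ⟨fun h => by have := Helper4.pt_bijective.1 h; revert this; decide,
      fun h => by have := Helper4.pt_bijective.1 h; revert this; decide⟩ 11 (by norm_num)
    (by rw [ncard_D22]; norm_num)
    (by rw [card_G22]; norm_num)
    (Set.range fun i => tabPerm (m22tabs i) (m22tabs_inj i)) _ G22_le_closure G22_nontrivial
  rintro _ ⟨i, rfl⟩
  exact ⟨m22gen_mem i, tabPerm_pow_eq_one _ _ 11 (m22tabs_pow i)⟩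

end Cfsg.Agent.Lib.Helper28
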