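import Mathlib
import Cfsg.Prelude.Def_Sporadic_a
import Cfsg.Agent.Lib.Helper3.Steiner

set_option autoImplicit false
set_option linter.unusedSectionVars false
set_option linter.unusedVariables false

/-!
Intersection numbers of the small Witt designs `S(4,7,23)` and `S(3,6,22)`.
-/

namespace Cfsg.Agent.Lib.Helper28

open Cfsg Finset Cfsg.Agent.Lib.Helper3.Steiner

namespace SteinerSmall

variable {α : Type*} [Fintype α] [DecidableEq α] {B : Set (Finset α)}

section S4723

variable (hα : Fintype.card α = 23) (hB : Cfsg.IsSteinerSystem 4 7 B)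
include hα hB

lemma lam3_4723 (I : Finset α) (hI : I.card = 3) : ((blocksF B).filter (I ⊆ ·)).card = 5 := by
  have h := card_blocks_containing hB I (by omega)
  rw [hα, hI] at h
  norm_num [Nat.choose] at h
  omega

lemma lam2_4723 (I : Finset α) (hI : I.card = 2) : ((blocksF B).filter (I ⊆ ·)).card = 21 := by
  have h := card_blocks_containing hB I (by omega)
  rw [hα, hI] at h
  norm_num [Nat.choose] at h
  omega

lemma lam1_4723 (I : Finset α) (hI : I.card = 1) : ((blocksF B).filter (I ⊆ ·)).card = 77 := by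
  have h := card_blocks_containing hB I (by omega)
  rw [hα, hI] at h
  norm_num [Nat.choose] at h
  omega

lemma lam0_4723 (I : Finset α) (hI : I.card = 0) : ((blocksF B).filter (I ⊆ ·)).card = 253 := by
  have h := card_blocks_containing hB I (by omega)
  rw [hα, hI] at h
  norm_num [Nat.choose] at h
  omega

variable {b : Finset α} (hb : b ∈ B)
include hb

lemma sum3_4723 : ∑ c ∈ (blocksF B).erase b, ((b ∩ c).card).choose 3 = 140 := by
  rw [sum_choose_inter hB hb 3 5 (lam3_4723 hα hB)]; norm_num [Nat.choose]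

lemma sum2_4723 : ∑ c ∈ (blocksF B).erase b, ((b ∩ c).card).choose 2 = 420 := by
  rw [sum_choose_inter hB hb 2 21 (lam2_4723 hα hB)]; norm_num [Nat.choose]

lemma sum1_4723 : ∑ c ∈ (blocksF B).erase b, ((b ∩ c).card).choose 1 = 532 := by
  rw [sum_choose_inter hB hb 1 77 (lam1_4723 hα hB)]; norm_num [Nat.choose]

lemma sum0_4723 : ∑ c ∈ (blocksF B).erase b, ((b ∩ c).card).choose 0 = 252 := by
  rw [sum_choose_inter hB hb 0 253 (lam0_4723 hα hB)]; norm_num [Nat.choose]

omit hα in
lemma inter_le3_4723 {c : Finset α} (hc : c ∈ (blocksF B).erase b) : (b ∩ c).card ≤ 3 := by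
  rw [mem_erase, mem_blocksF] at hc
  have := inter_card_lt hB hb hc.2 (Ne.symm hc.1)
  omega

/-- two distinct blocks of an S(4,7,23) meet in 1 or 3 points. -/
theorem inter_card_4723 {c : Finset α} (hc : c ∈ B) (hbc : b ≠ c) :
    (b ∩ c).card = 1 ∨ (b ∩ c).card = 3 := by
  have hcm : c ∈ (blocksF B).erase b := by
    rw [mem_erase, mem_blocksF]; exact ⟨Ne.symm hbc, hc⟩
  have hle := inter_le3_4723 hB hb hcm
  have h2 : ∀ c ∈ (blocksF B).erase b, 3 * ((b ∩ c).card).choose 3 = ((b ∩ c).card).choose 2 := by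
    rw [← Finset.sum_eq_sum_iff_of_le]
    · rw [← Finset.mul_sum, sum3_4723 hα hB hb, sum2_4723 hα hB hb]
      norm_num
    · intro d hd
      have := inter_le3_4723 hB hb hd
      interval_cases (b ∩ d).card <;> simp [Nat.choose]
  have h0 : ∀ c ∈ (blocksF B).erase b,
      ((b ∩ c).card).choose 1 + ((b ∩ c).card).choose 3 =
        ((b ∩ c).card).choose 0 + ((b ∩ c).card).choose 2 := by
    rw [← Finset.sum_eq_sum_iff_of_le]
    · rw [Finset.sum_add_distrib, Finset.sum_add_distrib, sum3_4723 hα hB hb, sum2_4723 hα hB hb,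
        sum1_4723 hα hB hb, sum0_4723 hα hB hb]
    · intro d hd
      have := inter_le3_4723 hB hb hd
      interval_cases (b ∩ d).card <;> simp [Nat.choose]
  have h2c := h2 c hcm
  have h0c := h0 c hcm
  interval_cases h : (b ∩ c).card <;> simp_all [Nat.choose]

end S4723

section S3622

variable (hα : Fintype.card α = 22) (hB : Cfsg.IsSteinerSystem 3 6 B)
include hα hB

lemma lam2_3622 (I : Finset α) (hI : I.card = 2) : ((blocksF B).filter (I ⊆ ·)).card = 5 := by
  have h := card_blocks_containing hB I (by omega)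
  rw [hα, hI] at h
  norm_num [Nat.choose] at h
  omega

lemma lam1_3622 (I : Finset α) (hI : I.card = 1) : ((blocksF B).filter (I ⊆ ·)).card = 21 := by
  have h := card_blocks_containing hB I (by omega)
  rw [hα, hI] at h
  norm_num [Nat.choose] at h
  omega

lemma lam0_3622 (I : Finset α) (hI : I.card = 0) : ((blocksF B).filter (I ⊆ ·)).card = 77 := by
  have h := card_blocks_containing hB I (by omega)
  rw [hα, hI] at h
  norm_num [Nat.choose] at h
  omega

variable {b : Finset α} (hb : b ∈ B)
include hb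

lemma sum2_3622 : ∑ c ∈ (blocksF B).erase b, ((b ∩ c).card).choose 2 = 60 := by
  rw [sum_choose_inter hB hb 2 5 (lam2_3622 hα hB)]; norm_num [Nat.choose]

lemma sum1_3622 : ∑ c ∈ (blocksF B).erase b, ((b ∩ c).card).choose 1 = 120 := by
  rw [sum_choose_inter hB hb 1 21 (lam1_3622 hα hB)]; norm_num [Nat.choose]

lemma sum0_3622 : ∑ c ∈ (blocksF B).erase b, ((b ∩ c).card).choose 0 = 76 := by
  rw [sum_choose_inter hB hb 0 77 (lam0_3622 hα hB)]; norm_num [Nat.choose]

omit hα in
lemma inter_le2_3622 {c : Finset α} (hc : c ∈ (blocksF B).erase b) : (b ∩ c).card ≤ 2 := by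
  rw [mem_erase, mem_blocksF] at hc
  have := inter_card_lt hB hb hc.2 (Ne.symm hc.1)
  omega

/-- two distinct blocks of an S(3,6,22) meet in 0 or 2 points. -/
theorem inter_card_3622 {c : Finset α} (hc : c ∈ B) (hbc : b ≠ c) :
    (b ∩ c).card = 0 ∨ (b ∩ c).card = 2 := by
  have hcm : c ∈ (blocksF B).erase b := by
    rw [mem_erase, mem_blocksF]; exact ⟨Ne.symm hbc, hc⟩
  have hle := inter_le2_3622 hB hb hcm
  have h1 : ∀ c ∈ (blocksF B).erase b, 2 * ((b ∩ c).card).choose 2 = ((b ∩ c).card).choose 1 := by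
    rw [← Finset.sum_eq_sum_iff_of_le]
    · rw [← Finset.mul_sum, sum2_3622 hα hB hb, sum1_3622 hα hB hb]
      norm_num
    · intro d hd
      have := inter_le2_3622 hB hb hd
      interval_cases (b ∩ d).card <;> simp [Nat.choose]
  have h1c := h1 c hcm
  interval_cases h : (b ∩ c).card <;> simp_all [Nat.choose]

end S3622

end SteinerSmall

end Cfsg.Agent.Lib.Helper28
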