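import Mathlib
import Cfsg.Prelude.Def_Sporadic_a
import Cfsg.Prelude.Def_Sporadic
import Cfsg.Agent.Lib.Helper28.WittGolay
import Cfsg.Agent.Lib.Helper28.SetSysIso
import Cfsg.Agent.Lib.Helper28.Derived
import Cfsg.Agent.Lib.Helper28.SteinerSmall
import Cfsg.Agent.Lib.Helper28.M24Simple
import Cfsg.Agent.S0369
import Cfsg.Agent.S0366

set_option autoImplicit false
set_option linter.unusedSectionVars false
set_option linter.unusedVariables false

/-!
The Steiner systems `S(4,7,23)`: coordinates in the Golay code, uniqueness and the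
automorphism group.
-/

namespace Cfsg.Agent.Lib.Helper28

open Cfsg PlaneFour Derived Cfsg.Agent.Lib.Helper4

namespace Witt

/-! ### Facts on the concrete octads -/

set_option maxRecDepth 100000 in
theorem gmask1_octad : ∀ j : Fin 17, IsCodeMask (gmask1 j) ∧
    (Finset.univ.filter fun a : Fin 24 => (gmask1 j).testBit a.val = true).card = 8 ∧
    (gmask1 j).testBit 23 = true ∧ ((gmask1 j).testBit 0 = true ↔ j.val < 16) := by
  decide +kernel

theorem gen_mem_octads (j : Fin 17) : maskSet (gmask1 j) ∈ octads :=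
  maskSet_mem_octads _ (gmask1_octad j).1 (gmask1_octad j).2.1

theorem none_mem_gen (j : Fin 17) : (none : GolayPt) ∈ maskSet (gmask1 j) := by
  rw [mem_maskSet]
  exact (gmask1_octad j).2.2.1

theorem zero_mem_gen (j : Fin 17) : (some 0 : GolayPt) ∈ maskSet (gmask1 j) ↔ j.val < 16 := by
  rw [mem_maskSet]
  exact (gmask1_octad j).2.2.2

theorem octads_even_inter {o o' : Finset GolayPt} (ho : o ∈ octads) (ho' : o' ∈ octads) :
    Even (o ∩ o').card := by
  rw [mem_octads_iff] at ho ho'
  have := golayCode_isGolayLike.even_inter (bind o) (bind o') ho.1 ho'.1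
  rwa [bsupp_bind, bsupp_bind] at this

theorem card_of_mem_octads {o : Finset GolayPt} (ho : o ∈ octads) : o.card = 8 :=
  ((mem_octads_iff o).mp ho).2

theorem mem_M24_of_octads (τ : Equiv.Perm GolayPt) (h : ∀ o ∈ octads, o.image τ ∈ octads) :
    τ ∈ M24 := by
  rw [Cfsg.Agent.S0369.result]
  exact SetSys.mem_aut_iff.mpr h

theorem image_mem_octads_of_mem_M24 {τ : Equiv.Perm GolayPt} (h : τ ∈ M24) {o : Finset GolayPt}
    (ho : o ∈ octads) : o.image τ ∈ octads := by
  rw [Cfsg.Agent.S0369.result] at h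
  exact SetSys.mem_aut_iff.mp h o ho

theorem card_inter_image (τ : Equiv.Perm GolayPt) (g o : Finset GolayPt) :
    (g ∩ o.image τ).card = (g.image τ.symm ∩ o).card := by
  have h2 : g ∩ o.image τ = (g.image τ.symm ∩ o).image τ := by
    rw [Finset.image_inter _ _ τ.injective, Finset.image_image, Equiv.self_comp_symm,
      Finset.image_id]
  rw [h2, Finset.card_image_of_injective _ τ.injective]

/-- a permutation whose inverse maps the octads through the point `none` to octads maps
all octads to octads -/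
theorem image_mem_octads_of_symm (τ : Equiv.Perm GolayPt)
    (h1 : ∀ o ∈ octads, none ∈ o → o.image τ.symm ∈ octads) (o : Finset GolayPt)
    (ho : o ∈ octads) : o.image τ ∈ octads := by
  have hdot : ∀ j, dot₂ (bind (maskSet (gmask1 j))) (bind (o.image τ)) = 0 := by
    intro j
    unfold dot₂
    rw [dot_eq_card_inter, bsupp_bind, bsupp_bind, card_inter_image]
    have hg := h1 _ (gen_mem_octads j) (none_mem_gen j)
    exact ZMod.natCast_eq_zero_iff_even.mpr (octads_even_inter hg ho)
  have hmem := mem_code_of_gens gmask1 coef1 hcoef1 _ hdot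
  rw [mem_octads_iff]
  exact ⟨hmem, by rw [Finset.card_image_of_injective _ τ.injective]; exact card_of_mem_octads ho⟩

/-! ### Coordinates for an `S(4,7,23)` -/

section Coords

variable {α : Type*} [Fintype α] [DecidableEq α]

theorem exists_coords_23 (hα : Fintype.card α = 23) {B : Set (Finset α)}
    (hB : IsSteinerSystem 4 7 B) :
    ∃ Ψ : Option α ≃ GolayPt, Ψ none = none ∧
      ∀ b ∈ B, (Finset.insertNone b).image Ψ ∈ octads := by
  classical
  have h4 : 4 ≤ (Finset.univ : Finset α).card := by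
    rw [Finset.card_univ, hα]
    norm_num
  obtain ⟨s, -, hs⟩ := Finset.exists_subset_card_eq h4
  obtain ⟨b0, ⟨hb0, -⟩, -⟩ := hB.2 s hs
  have hb07 := hB.1 b0 hb0
  obtain ⟨p2, hp2⟩ : b0.Nonempty := by
    rw [← Finset.card_pos, hb07]
    norm_num
  obtain ⟨p3, hp3⟩ : ∃ p3, p3 ∉ b0 := by
    by_contra hcon
    simp only [not_exists, not_not] at hcon
    have : b0 = Finset.univ := Finset.eq_univ_iff_forall.mpr hcon
    rw [this, Finset.card_univ, hα] at hb07
    norm_num at hb07
  have h23 : p2 ≠ p3 := fun e => hp3 (e ▸ hp2)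
  set 𝓑 : Set (Finset (Option α)) := (fun b => Finset.insertNone b) '' B with h𝓑
  have hint : ∀ b ∈ B, ∀ c ∈ B, b ≠ c → (b ∩ c).card = 1 ∨ (b ∩ c).card = 3 :=
    fun b hb c hc hbc => SteinerSmall.inter_card_4723 hα hB hb hc hbc
  have heven : ∀ b ∈ 𝓑, ∀ c ∈ 𝓑, Even (b ∩ c).card := by
    rintro _ ⟨b, hb, rfl⟩ _ ⟨c, hc, rfl⟩
    show Even (Finset.insertNone b ∩ Finset.insertNone c).card
    rw [insertNone_inter, Finset.card_insertNone]
    by_cases hbc : b = c
    · rw [hbc, Finset.inter_self, hB.1 c hc]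
      decide
    · rcases hint b hb c hc hbc with h | h <;> rw [h] <;> decide
  have hle4 : ∀ b ∈ 𝓑, ∀ c ∈ 𝓑, b ≠ c → (b ∩ c).card ≤ 4 := by
    rintro _ ⟨b, hb, rfl⟩ _ ⟨c, hc, rfl⟩ hne
    show (Finset.insertNone b ∩ Finset.insertNone c).card ≤ 4
    rw [insertNone_inter, Finset.card_insertNone]
    have hbc : b ≠ c := fun e => hne (by rw [e])
    rcases hint b hb c hc hbc with h | h <;> omega
  have hF : OctFam 𝓑 (none : Option α) (some p2) (some p3) (Finset.insertNone b0) :=
    { card24 := by rw [Fintype.card_option, hα]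
      card8 := by
        rintro _ ⟨b, hb, rfl⟩
        show (Finset.insertNone b).card = 8
        rw [Finset.card_insertNone, hB.1 b hb]
      le4 := hle4
      ne12 := by simp
      ne13 := by simp
      ne23 := by simpa using h23
      plane := by
        intro x y hxy hx hy
        obtain ⟨x', rfl⟩ : ∃ x', x = some x' := Option.ne_none_iff_exists'.mp hx.1
        obtain ⟨y', rfl⟩ : ∃ y', y = some y' := Option.ne_none_iff_exists'.mp hy.1
        have hx2 : x' ≠ p2 := fun e => hx.2.1 (by rw [e])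
        have hx3 : x' ≠ p3 := fun e => hx.2.2 (by rw [e])
        have hy2 : y' ≠ p2 := fun e => hy.2.1 (by rw [e])
        have hy3 : y' ≠ p3 := fun e => hy.2.2 (by rw [e])
        have hxy' : x' ≠ y' := fun e => hxy (by rw [e])
        have hc : ({p2, p3, x', y'} : Finset α).card = 4 := by
          rw [Finset.card_insert_of_notMem, Finset.card_insert_of_notMem, Finset.card_pair hxy']
          · simp only [Finset.mem_insert, Finset.mem_singleton, not_or]
            exact ⟨hx3.symm, hy3.symm⟩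
          · simp only [Finset.mem_insert, Finset.mem_singleton, not_or]
            exact ⟨h23, hx2.symm, hy2.symm⟩
        obtain ⟨b, ⟨hb, hsb⟩, huniq⟩ := hB.2 _ hc
        refine ⟨Finset.insertNone b, ⟨⟨b, hb, rfl⟩, Finset.none_mem_insertNone,
          Finset.some_mem_insertNone.mpr (hsb (by simp)),
          Finset.some_mem_insertNone.mpr (hsb (by simp)),
          Finset.some_mem_insertNone.mpr (hsb (by simp)),
          Finset.some_mem_insertNone.mpr (hsb (by simp))⟩, ?_⟩
        rintro _ ⟨⟨b', hb', rfl⟩, -, a2, a3, a4, a5⟩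
        show Finset.insertNone b' = Finset.insertNone b
        rw [Finset.some_mem_insertNone] at a2 a3 a4 a5
        have : b' = b := by
          apply huniq b' ⟨hb', ?_⟩
          intro z hz
          simp only [Finset.mem_insert, Finset.mem_singleton] at hz
          rcases hz with rfl | rfl | rfl | rfl <;> assumption
        rw [this]
      hb0 := ⟨b0, hb0, rfl⟩
      h1 := Finset.none_mem_insertNone
      h2 := Finset.some_mem_insertNone.mpr hp2
      h3 := fun h => hp3 (Finset.some_mem_insertNone.mp h) }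
  have hd : ∀ T : Finset (Option α), T ⊆ Finset.insertNone b0 → T.card = 3 → none ∉ T →
      some p2 ∉ T → ∃ b1 ∈ 𝓑, none ∈ b1 ∧ some p3 ∈ b1 ∧ some p2 ∉ b1 ∧ T ⊆ b1 := by
    intro T hT hT3 h1T h2T
    set T' := Finset.eraseNone T with hT'
    have hT'3 : T'.card = 3 := by rw [hT', Finset.card_eraseNone_of_not_mem h1T, hT3]
    have hT'b : T' ⊆ b0 := by
      intro z hz
      rw [hT', Finset.mem_eraseNone] at hz
      exact Finset.some_mem_insertNone.mp (hT hz)
    have h3T : p3 ∉ T' := fun h => hp3 (hT'b h)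
    have h2T' : p2 ∉ T' := by
      intro h
      rw [hT', Finset.mem_eraseNone] at h
      exact h2T h
    have hc : (insert p3 T').card = 4 := by rw [Finset.card_insert_of_notMem h3T, hT'3]
    obtain ⟨b1, ⟨hb1, hsb⟩, -⟩ := hB.2 _ hc
    have a3 : p3 ∈ b1 := hsb (by simp)
    have aT : T' ⊆ b1 := fun z hz => hsb (by simp [hz])
    refine ⟨Finset.insertNone b1, ⟨b1, hb1, rfl⟩, Finset.none_mem_insertNone,
      Finset.some_mem_insertNone.mpr a3, ?_, ?_⟩
    · intro a2
      rw [Finset.some_mem_insertNone] at a2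
      have hne : b1 ≠ b0 := fun e => hp3 (e ▸ a3)
      have hlt := Cfsg.Agent.Lib.Helper3.Steiner.inter_card_lt hB hb1 hb0 hne
      have hsub : insert p2 T' ⊆ b1 ∩ b0 := by
        intro z hz
        simp only [Finset.mem_insert] at hz
        rcases hz with rfl | hz
        · exact Finset.mem_inter.mpr ⟨a2, hp2⟩
        · exact Finset.mem_inter.mpr ⟨aT hz, hT'b hz⟩
      have hc4 : (insert p2 T').card = 4 := by rw [Finset.card_insert_of_notMem h2T', hT'3]
      have := Finset.card_le_card hsub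
      omega
    · intro z hz
      cases z with
      | none => exact absurd hz h1T
      | some z =>
        apply Finset.some_mem_insertNone.mpr
        apply aT
        rw [hT', Finset.mem_eraseNone]
        exact hz
  obtain ⟨Ψ, h0, -, -, hΨ⟩ := hF.toGolay heven hd
  exact ⟨Ψ, h0, fun b hb => hΨ _ ⟨b, hb, rfl⟩⟩

theorem coords_23_iff {B : Set (Finset α)} (hB : IsSteinerSystem 4 7 B) (Ψ : Option α ≃ GolayPt)
    (hΨ : ∀ b ∈ B, (Finset.insertNone b).image Ψ ∈ octads) (b : Finset α) :
    b ∈ B ↔ (Finset.insertNone b).image Ψ ∈ octads := by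
  have hS : IsSteinerSystem 4 7 (derived (pull Ψ octads)) :=
    derived_steiner (t := 4) (k := 7) (pull_steiner Ψ octads_isSteinerSystem)
  have : B = derived (pull Ψ octads) :=
    steiner_eq_of_subset (by norm_num) hB hS (fun b hb => hΨ b hb)
  rw [this]
  exact Iff.rfl

end Coords

/-! ### Uniqueness -/

section Unique

variable {α β : Type*} [Fintype α] [DecidableEq α] [Fintype β] [DecidableEq β]

theorem steiner_4_7_23_iso (hα : Fintype.card α = 23) (hβ : Fintype.card β = 23)
    {B : Set (Finset α)} {B' : Set (Finset β)} (hB : IsSteinerSystem 4 7 B)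
    (hB' : IsSteinerSystem 4 7 B') : SetSystemIso B B' := by
  obtain ⟨Ψ, h0, hΨ⟩ := exists_coords_23 hα hB
  obtain ⟨Ψ', h0', hΨ'⟩ := exists_coords_23 hβ hB'
  have hiff' := coords_23_iff hB' Ψ' hΨ'
  set Θ : Option α ≃ Option β := Ψ.trans Ψ'.symm with hΘ
  have hΘ0 : Θ none = none := by
    rw [hΘ, Equiv.trans_apply, h0, Equiv.symm_apply_eq, h0']
  refine ⟨Equiv.removeNone Θ, SetSys.steiner_image_eq (by norm_num) hB hB' _ ?_⟩
  intro b hb
  rw [hiff', ← image_insertNone Θ hΘ0, Finset.image_image]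
  have : (⇑Ψ' ∘ ⇑Θ) = ⇑Ψ := by
    funext x
    simp [hΘ]
  rw [this]
  exact hΨ b hb

end Unique

/-! ### The automorphism group -/

section Aut

variable {α : Type*} [Fintype α] [DecidableEq α]

/-- the homomorphism induced by the coordinates -/
def tauHom (Ψ : Option α ≃ GolayPt) : Equiv.Perm α →* Equiv.Perm GolayPt :=
  Ψ.permCongrHom.toMonoidHom.comp (optHom α)

theorem tauHom_apply (Ψ : Option α ≃ GolayPt) (σ : Equiv.Perm α) (x : Option α) :
    tauHom Ψ σ (Ψ x) = Ψ (Equiv.optionCongr σ x) := by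
  show Ψ ((Equiv.optionCongr σ) (Ψ.symm (Ψ x))) = _
  rw [Equiv.symm_apply_apply]

theorem tauHom_injective (Ψ : Option α ≃ GolayPt) : Function.Injective (tauHom Ψ) := by
  intro σ τ h
  apply optHom_injective α
  exact Ψ.permCongrHom.injective h

theorem image_tauHom (Ψ : Option α ≃ GolayPt) (σ : Equiv.Perm α) (b : Finset α) :
    ((Finset.insertNone b).image Ψ).image (tauHom Ψ σ) =
      (Finset.insertNone (b.image σ)).image Ψ := by
  rw [Finset.image_image, ← image_insertNone_optionCongr, Finset.image_image]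
  congr 1
  funext x
  exact tauHom_apply Ψ σ x

variable {B : Set (Finset α)} (Ψ : Option α ≃ GolayPt) (h0 : Ψ none = none)
  (hiff : ∀ b : Finset α, b ∈ B ↔ (Finset.insertNone b).image Ψ ∈ octads)
include h0 hiff

theorem octad_eq_image {o : Finset GolayPt} (ho : o ∈ octads) (hn : none ∈ o) :
    ∃ b ∈ B, o = (Finset.insertNone b).image Ψ := by
  have hs0 : Ψ.symm none = none := by rw [Equiv.symm_apply_eq, h0]
  have hn' : none ∈ o.image Ψ.symm := by
    rw [← hs0]
    exact Finset.mem_image_of_mem _ hn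
  have h1 : Finset.insertNone (Finset.eraseNone (o.image Ψ.symm)) = o.image Ψ.symm :=
    insertNone_eraseNone_of_mem hn'
  have h2 : (Finset.insertNone (Finset.eraseNone (o.image Ψ.symm))).image Ψ = o := by
    rw [h1, Finset.image_image, Equiv.self_comp_symm, Finset.image_id]
  refine ⟨Finset.eraseNone (o.image Ψ.symm), ?_, h2.symm⟩
  rw [hiff, h2]
  exact ho

theorem tauHom_mem_M24 {σ : Equiv.Perm α} (hσ : σ ∈ setSystemAut B) : tauHom Ψ σ ∈ M24 := by
  apply mem_M24_of_octads
  apply image_mem_octads_of_symm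
  intro o ho hn
  obtain ⟨b, hb, rfl⟩ := octad_eq_image Ψ h0 hiff ho hn
  have hinv : (tauHom Ψ σ).symm = tauHom Ψ σ⁻¹ := by
    rw [map_inv]
    rfl
  rw [hinv, image_tauHom, ← hiff]
  exact SetSys.mem_aut_iff.mp ((setSystemAut B).inv_mem hσ) b hb

theorem tauHom_none (σ : Equiv.Perm α) : tauHom Ψ σ none = none := by
  have := tauHom_apply Ψ σ none
  rw [h0] at this
  rw [this]
  show Ψ none = none
  exact h0

theorem exists_of_mem_G23 {g : Equiv.Perm GolayPt} (hg : g ∈ M24) (hgn : g none = none) :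
    ∃ σ ∈ setSystemAut B, tauHom Ψ σ = g := by
  set g' : Equiv.Perm (Option α) := Ψ.symm.permCongr g with hg'
  have hg'0 : g' none = none := by
    show Ψ.symm (g (Ψ.symm.symm none)) = none
    rw [Equiv.symm_symm, h0, hgn, Equiv.symm_apply_eq, h0]
  have hopt := eq_optionCongr g' hg'0
  have htau : tauHom Ψ (Equiv.removeNone g') = g := by
    ext1 x
    show Ψ ((Equiv.optionCongr (Equiv.removeNone g')) (Ψ.symm x)) = g x
    rw [← hopt]
    show Ψ (Ψ.symm (g (Ψ.symm.symm (Ψ.symm x)))) = g x
    simp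
  refine ⟨Equiv.removeNone g', ?_, htau⟩
  rw [SetSys.mem_aut_iff]
  intro b hb
  rw [hiff, ← image_tauHom, htau]
  exact image_mem_octads_of_mem_M24 hg ((hiff b).mp hb)

theorem map_tauHom_eq : (setSystemAut B).map (tauHom Ψ) = G23 := by
  ext g
  rw [Subgroup.mem_map, mem_G23]
  have hpt : Helper4.pt 23 = none := by decide
  rw [hpt]
  constructor
  · rintro ⟨σ, hσ, rfl⟩
    exact ⟨tauHom_mem_M24 Ψ h0 hiff hσ, tauHom_none Ψ h0 hiff σ⟩
  · rintro ⟨hg, hgn⟩
    exact exists_of_mem_G23 Ψ h0 hiff hg hgn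

/-- the automorphism group is isomorphic to the point stabiliser in `M24` -/
noncomputable def autEquivG23 : setSystemAut B ≃* G23 :=
  (Subgroup.equivMapOfInjective _ (tauHom Ψ) (tauHom_injective Ψ)).trans
    (MulEquiv.subgroupCongr (map_tauHom_eq Ψ h0 hiff))

theorem pretransitive_23 : MulAction.IsMultiplyPretransitive (setSystemAut B) α 4 := by
  rw [MulAction.isMultiplyPretransitive_iff]
  intro x y
  have h5 := Cfsg.Agent.S0366.result
  rw [MulAction.isMultiplyPretransitive_iff] at h5
  let ext5 : (Fin 4 ↪ α) → (Fin 5 ↪ GolayPt) := fun x =>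
    ((finSuccEquiv 4).toEmbedding.trans x.optionMap).trans Ψ.toEmbedding
  have e0 : ∀ x : Fin 4 ↪ α, ext5 x 0 = none := by
    intro x
    show Ψ (Option.map x (finSuccEquiv 4 0)) = none
    rw [finSuccEquiv_zero]
    exact h0
  have es : ∀ (x : Fin 4 ↪ α) (i : Fin 4), ext5 x i.succ = Ψ (some (x i)) := by
    intro x i
    show Ψ (Option.map x (finSuccEquiv 4 i.succ)) = _
    rw [finSuccEquiv_succ]
    rfl
  obtain ⟨g, hg⟩ := h5 (ext5 x) (ext5 y)
  have hg0 : g.1 none = none := by
    have h1 := DFunLike.congr_fun hg 0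
    have h2 : g.1 (ext5 x 0) = ext5 y 0 := h1
    rwa [e0, e0] at h2
  obtain ⟨σ, hσ, hσg⟩ := exists_of_mem_G23 Ψ h0 hiff g.2 hg0
  refine ⟨⟨σ, hσ⟩, ?_⟩
  ext i
  show σ (x i) = y i
  have h1 := DFunLike.congr_fun hg i.succ
  have h2 : g.1 (ext5 x i.succ) = ext5 y i.succ := h1
  rw [es, es, ← hσg, tauHom_apply] at h2
  have h3 := Ψ.injective h2
  simpa using h3

end Aut

theorem aut_23 {α : Type*} [Fintype α] [DecidableEq α] (hα : Fintype.card α = 23)
    {B : Set (Finset α)} (hB : IsSteinerSystem 4 7 B) :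
    IsM23 (setSystemAut B) ∧ MulAction.IsMultiplyPretransitive (setSystemAut B) α 4 := by
  obtain ⟨Ψ, h0, hΨ⟩ := exists_coords_23 hα hB
  have hiff := coords_23_iff hB Ψ hΨ
  have e := autEquivG23 Ψ h0 hiff
  refine ⟨⟨?_, ?_⟩, pretransitive_23 Ψ h0 hiff⟩
  · haveI : IsSimpleGroup ↥G23 := G23_isSimpleGroup
    exact e.isSimpleGroup
  · rw [Nat.card_congr e.toEquiv]
    exact card_G23

end Witt

end Cfsg.Agent.Lib.Helper28
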