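import Cfsg.Agent.Lib.Helper28.PermChain

set_option autoImplicit false

/-!
Simplicity criteria for a permutation group `G ≤ Equiv.Perm α` that is 2-transitive and faithful
on an invariant set `D`:

* `isSimpleGroup_of_prime_gens`: if a prime `p` divides `|D|`, `p²` does not divide `|G|` and `G`
  is generated by elements of order `p`, then `G` is simple;
* `isSimpleGroup_of_stabilizer`: if `|D|` is not a prime power and a point stabilizer is simple,
  then `G` is simple.
-/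

namespace Cfsg.Agent.Lib.Helper28

open MulAction

variable {α : Type*}

/-- `G` is 2-transitive on the set `D` -/
def TwoTransOn (G : Subgroup (Equiv.Perm α)) (D : Set α) : Prop :=
  ∀ x ∈ D, ∀ y ∈ D, x ≠ y → ∀ x' ∈ D, ∀ y' ∈ D, x' ≠ y' → ∃ g ∈ G, g x = x' ∧ g y = y'

/-- `G` preserves `D` and acts faithfully on it -/
structure FaithfulOn (G : Subgroup (Equiv.Perm α)) (D : Set α) : Prop where
  inv : ∀ g ∈ G, ∀ x ∈ D, g x ∈ D
  faithful : ∀ g ∈ G, (∀ x ∈ D, g x = x) → g = 1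

/-- a nontrivial normal subgroup of a 2-transitive faithful group is transitive -/
theorem normal_transitive {G : Subgroup (Equiv.Perm α)} {D : Set α} (hF : FaithfulOn G D)
    (h2 : TwoTransOn G D) (N : Subgroup G) [hN : N.Normal] (hne : N ≠ ⊥) :
    ∀ x' ∈ D, ∀ y' ∈ D, ∃ n ∈ N, (n : Equiv.Perm α) x' = y' := by
  obtain ⟨⟨n, hn⟩, hn1⟩ := (Subgroup.ne_bot_iff_exists_ne_one (H := N)).mp hne
  have hn1' : (n : Equiv.Perm α) ≠ 1 := fun h => hn1 (Subtype.ext (Subtype.ext h))
  have hex : ∃ x ∈ D, (n : Equiv.Perm α) x ≠ x := by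
    by_contra hcon
    push Not at hcon
    exact hn1' (hF.faithful _ n.2 hcon)
  obtain ⟨x, hx, hnx⟩ := hex
  intro x' hx' y' hy'
  by_cases hxy : x' = y'
  · exact ⟨1, N.one_mem, by rw [hxy]; rfl⟩
  · obtain ⟨g, hg, hgx, hgy⟩ := h2 x hx ((n : Equiv.Perm α) x) (hF.inv _ n.2 x hx)
      (fun h => hnx h.symm) x' hx' y' hy' hxy
    refine ⟨⟨g, hg⟩ * n * ⟨g, hg⟩⁻¹, hN.conj_mem n hn ⟨g, hg⟩, ?_⟩
    show (g * (n : Equiv.Perm α) * g⁻¹) x' = y'
    rw [Equiv.Perm.mul_apply, Equiv.Perm.mul_apply, ← hgx]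
    simp [hgy]

/-- the order of a transitive subgroup is divisible by the degree -/
theorem ncard_dvd_card_of_transitive [Finite α] {G : Subgroup (Equiv.Perm α)} {D : Set α}
    (hF : FaithfulOn G D) (N : Subgroup G) (x0 : α) (hx0 : x0 ∈ D)
    (htr : ∀ y' ∈ D, ∃ n ∈ N, (n : Equiv.Perm α) x0 = y') : D.ncard ∣ Nat.card N := by
  have hcard : Nat.card (N.map G.subtype) = Nat.card N :=
    Subgroup.card_map_of_injective (Subgroup.subtype_injective G)
  have horb : orbit (N.map G.subtype) x0 = D := by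
    ext y
    constructor
    · rintro ⟨⟨g, hg⟩, rfl⟩
      obtain ⟨n, hn, rfl⟩ := hg
      exact hF.inv _ n.2 x0 hx0
    · intro hy
      obtain ⟨n, hn, hny⟩ := htr y hy
      exact ⟨⟨n.1, ⟨n, hn, rfl⟩⟩, hny⟩
  have h := card_eq_orbit_mul_card_inf_stabilizer (N.map G.subtype) x0
  rw [horb, hcard] at h
  exact ⟨_, h⟩

/-- simplicity from generation by elements of prime order `p` with `p ∣ |D|`, `p² ∤ |G|` -/
theorem isSimpleGroup_of_prime_gens [Finite α] {G : Subgroup (Equiv.Perm α)} {D : Set α}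
    (hF : FaithfulOn G D) (h2 : TwoTransOn G D) (x0 : α) (hx0 : x0 ∈ D) (p : ℕ) (hp : p.Prime)
    (hpD : p ∣ D.ncard) (hp2 : ¬ p ^ 2 ∣ Nat.card G) (S : Set (Equiv.Perm α))
    (hS : ∀ s ∈ S, s ∈ G ∧ s ^ p = 1) (hgen : G ≤ Subgroup.closure S) (hnt : Nontrivial G) :
    IsSimpleGroup G := by
  refine ⟨fun N hN => ?_⟩
  by_cases hne : N = ⊥
  · exact Or.inl hne
  right
  have hpN : p ∣ Nat.card N :=
    hpD.trans (ncard_dvd_card_of_transitive hF N x0 hx0
      (fun y' hy' => normal_transitive hF h2 N hne x0 hx0 y' hy'))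
  have hidx : ¬ p ∣ N.index := by
    intro h
    apply hp2
    rw [← Subgroup.card_mul_index N, pow_two]
    exact mul_dvd_mul hpN h
  have hSN : ∀ s ∈ S, ∃ h : s ∈ G, (⟨s, h⟩ : G) ∈ N := by
    intro s hs
    obtain ⟨hsG, hsp⟩ := hS s hs
    refine ⟨hsG, ?_⟩
    rw [← QuotientGroup.eq_one_iff]
    have h1 : ((⟨s, hsG⟩ : G) : G ⧸ N) ^ p = 1 := by
      rw [← QuotientGroup.mk_pow]
      have : (⟨s, hsG⟩ : G) ^ p = 1 := Subtype.ext hsp
      rw [this]; rfl
    have h2 : orderOf ((⟨s, hsG⟩ : G) : G ⧸ N) ∣ p := orderOf_dvd_of_pow_eq_one h1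
    have h3 : orderOf ((⟨s, hsG⟩ : G) : G ⧸ N) ∣ N.index := by
      rw [Subgroup.index_eq_card]
      exact orderOf_dvd_natCard _
    rcases (Nat.dvd_prime hp).mp h2 with h | h
    · exact orderOf_eq_one_iff.mp h
    · rw [h] at h3; exact absurd h3 hidx
  rw [eq_top_iff]
  intro g _
  have hg : (g : Equiv.Perm α) ∈ Subgroup.closure S := hgen g.2
  have key : ∀ x ∈ Subgroup.closure S, ∃ h : x ∈ G, (⟨x, h⟩ : G) ∈ N := by
    intro x hx
    induction hx using Subgroup.closure_induction with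
    | mem x hx => exact hSN x hx
    | one => exact ⟨G.one_mem, N.one_mem⟩
    | mul x y _ _ ihx ihy =>
      obtain ⟨hx, hxN⟩ := ihx
      obtain ⟨hy, hyN⟩ := ihy
      exact ⟨G.mul_mem hx hy, N.mul_mem hxN hyN⟩
    | inv x _ ihx =>
      obtain ⟨hx, hxN⟩ := ihx
      exact ⟨G.inv_mem hx, N.inv_mem hxN⟩
  obtain ⟨_, h⟩ := key _ hg
  exact h

/-- simplicity from a simple point stabilizer, when the degree is not a prime power -/
theorem isSimpleGroup_of_stabilizer [Finite α] {G : Subgroup (Equiv.Perm α)} {D : Set α}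
    (hF : FaithfulOn G D) (h2 : TwoTransOn G D) (x0 : α) (hx0 : x0 ∈ D)
    (hD : ¬ IsPrimePow D.ncard)
    (hst : IsSimpleGroup ↥(G ⊓ stabilizer (Equiv.Perm α) x0)) (hnt : Nontrivial G) :
    IsSimpleGroup G := by
  refine ⟨fun N hN => ?_⟩
  by_cases hne : N = ⊥
  · exact Or.inl hne
  right
  have htr := normal_transitive hF h2 N hne
  -- the intersection with the point stabilizer
  let ι : ↥(G ⊓ stabilizer (Equiv.Perm α) x0) →* G := Subgroup.inclusion inf_le_left
  have hcases := (inferInstance : (N.comap ι).Normal).eq_bot_or_eq_top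
  rcases hcases with hbot | htop
  · -- regular case
    exfalso
    have hstab1 : ∀ n ∈ N, (n : Equiv.Perm α) x0 = x0 → n = 1 := by
      intro n hn hfix
      have hmem : (n : Equiv.Perm α) ∈ G ⊓ stabilizer (Equiv.Perm α) x0 := ⟨n.2, hfix⟩
      have h1 : (⟨(n : Equiv.Perm α), hmem⟩ : ↥(G ⊓ stabilizer (Equiv.Perm α) x0)) ∈ N.comap ι := by
        rw [Subgroup.mem_comap]
        have : ι ⟨(n : Equiv.Perm α), hmem⟩ = n := Subtype.ext rfl
        rw [this]; exact hn
      rw [hbot, Subgroup.mem_bot] at h1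
      have h2 : (n : Equiv.Perm α) = 1 := congrArg Subtype.val h1
      exact Subtype.ext h2
    have hinj : ∀ n ∈ N, ∀ n' ∈ N, (n : Equiv.Perm α) x0 = (n' : Equiv.Perm α) x0 → n = n' := by
      intro n hn n' hn' h
      have h1 := hstab1 (n⁻¹ * n') (N.mul_mem (N.inv_mem hn) hn') (by
        show ((n : Equiv.Perm α)⁻¹ * (n' : Equiv.Perm α)) x0 = x0
        rw [Equiv.Perm.mul_apply, ← h]; simp)
      exact (inv_mul_eq_one.mp h1)
    -- |N| = |D|
    have hcard : Nat.card N = D.ncard := by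
      have hcard' : Nat.card (N.map G.subtype) = Nat.card N :=
        Subgroup.card_map_of_injective (Subgroup.subtype_injective G)
      have horb : orbit (N.map G.subtype) x0 = D := by
        ext y
        constructor
        · rintro ⟨⟨g, hg⟩, rfl⟩
          obtain ⟨n, hn, rfl⟩ := hg
          exact hF.inv _ n.2 x0 hx0
        · intro hy
          obtain ⟨n, hn, hny⟩ := htr x0 hx0 y hy
          exact ⟨⟨n.1, ⟨n, hn, rfl⟩⟩, hny⟩
      have h := card_eq_orbit_mul_card_inf_stabilizer (N.map G.subtype) x0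
      have htriv : Nat.card ↥(N.map G.subtype ⊓ stabilizer (Equiv.Perm α) x0) = 1 := by
        rw [Subgroup.card_eq_one, Subgroup.eq_bot_iff_forall]
        rintro g ⟨⟨n, hn, rfl⟩, hfix⟩
        have := hstab1 n hn hfix
        rw [this]; rfl
      rw [horb, hcard', htriv, mul_one] at h
      exact h
    -- all nonidentity elements of N have the same order
    have hord : ∀ n ∈ N, n ≠ 1 → ∀ n' ∈ N, n' ≠ 1 → orderOf n = orderOf n' := by
      intro n hn hn1 n' hn' hn1'
      have hy : (n : Equiv.Perm α) x0 ≠ x0 := fun h => hn1 (hstab1 n hn h)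
      have hy' : (n' : Equiv.Perm α) x0 ≠ x0 := fun h => hn1' (hstab1 n' hn' h)
      obtain ⟨g, hg, hgx, hgy⟩ := h2 x0 hx0 _ (hF.inv _ n.2 x0 hx0) (fun h => hy h.symm)
        x0 hx0 _ (hF.inv _ n'.2 x0 hx0) (fun h => hy' h.symm)
      have hconj : (⟨g, hg⟩ : G) * n * (⟨g, hg⟩ : G)⁻¹ = n' := by
        apply hinj _ (hN.conj_mem n hn ⟨g, hg⟩) _ hn'
        show (g * (n : Equiv.Perm α) * g⁻¹) x0 = _
        rw [Equiv.Perm.mul_apply, Equiv.Perm.mul_apply]
        have : g⁻¹ x0 = x0 := by rw [Equiv.Perm.inv_eq_iff_eq, hgx]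
        rw [this, hgy]
      rw [← hconj]
      have := (MulAut.conj (⟨g, hg⟩ : G)).orderOf_eq n
      simp only [MulAut.conj_apply] at this
      exact this.symm
    -- a nonidentity element
    obtain ⟨⟨n0, hn0⟩, hn01⟩ := (Subgroup.ne_bot_iff_exists_ne_one (H := N)).mp hne
    have hn01' : n0 ≠ 1 := fun h => hn01 (Subtype.ext h)
    have hcard2 : Nat.card N ≠ 1 := by
      intro h
      rw [Subgroup.card_eq_one] at h
      exact hne h
    let p := (Nat.card N).minFac
    have hp : p.Prime := Nat.minFac_prime hcard2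
    have : Fact p.Prime := ⟨hp⟩
    obtain ⟨⟨m, hm⟩, hmord⟩ := exists_prime_orderOf_dvd_card' (G := N) p (Nat.minFac_dvd _)
    have hmord' : orderOf m = p := by
      rw [← hmord]
      exact (Subgroup.orderOf_mk m hm).symm
    have hm1 : m ≠ 1 := by
      intro h
      rw [h, orderOf_one] at hmord'
      exact hp.one_lt.ne' hmord'.symm
    have hpg : IsPGroup p N := by
      intro ⟨n, hn⟩
      by_cases hn1 : n = 1
      · exact ⟨0, by subst hn1; simp⟩
      · refine ⟨1, ?_⟩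
        have h1 : orderOf n = p := by rw [hord n hn hn1 m hm hm1, hmord']
        apply Subtype.ext
        show n ^ p ^ 1 = 1
        rw [pow_one, ← h1]
        exact pow_orderOf_eq_one n
    obtain ⟨k, hk⟩ := hpg.exists_card_eq
    apply hD
    rw [← hcard, hk]
    have hk0 : k ≠ 0 := by
      intro h
      rw [h, pow_zero] at hk
      exact hcard2 hk
    exact ⟨p, k, Nat.prime_iff.mp hp, Nat.pos_of_ne_zero hk0, rfl⟩
  · -- N contains the point stabilizer
    rw [eq_top_iff]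
    intro g _
    obtain ⟨n, hn, hng⟩ := htr x0 hx0 ((g : Equiv.Perm α) x0) (hF.inv _ g.2 x0 hx0)
    have hmem : ((n⁻¹ * g : G) : Equiv.Perm α) ∈ G ⊓ stabilizer (Equiv.Perm α) x0 := by
      refine ⟨(n⁻¹ * g).2, ?_⟩
      show ((n : Equiv.Perm α)⁻¹ * (g : Equiv.Perm α)) x0 = x0
      rw [Equiv.Perm.mul_apply, ← hng]; simp
    have h1 : (⟨_, hmem⟩ : ↥(G ⊓ stabilizer (Equiv.Perm α) x0)) ∈ N.comap ι := by
      rw [htop]; trivial
    rw [Subgroup.mem_comap] at h1
    have h2 : ι ⟨_, hmem⟩ = n⁻¹ * g := Subtype.ext rfl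
    rw [h2] at h1
    have := N.mul_mem hn h1
    rwa [mul_inv_cancel_left] at this

end Cfsg.Agent.Lib.Helper28
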