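import Cfsg.Agent.Lib.Helper28.MaskChain
import Cfsg.Agent.Lib.Helper28.PermSimple

set_option autoImplicit false

/-!
Tools to show that a permutation group on the 24 points is generated by explicit table
permutations (by comparing orders along a stabilizer chain), powers of table permutations,
and 2-transitivity from two chain levels.
-/

namespace Cfsg.Agent.Lib.Helper28

open Cfsg MulAction
open scoped Pointwise

theorem tabPerm_pow_pt (t : Fin 24 → Fin 24) (h : TabInj t) (n : ℕ) (a : Fin 24) :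
    (tabPerm t h ^ n) (Helper4.pt a) = Helper4.pt (t^[n] a) := by
  induction n generalizing a with
  | zero => rfl
  | succ n ih =>
    rw [pow_succ, Equiv.Perm.mul_apply, tabPerm_pt, ih, Function.iterate_succ_apply]

theorem tabPerm_pow_eq_one (t : Fin 24 → Fin 24) (h : TabInj t) (n : ℕ)
    (hn : ∀ a : Fin 24, t^[n] a = a) : tabPerm t h ^ n = 1 :=
  perm_eq_one_of_table (t^[n]) (tabPerm_pow_pt t h n) hn

/-- a group with a known order is generated by table permutations whose words give a full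
stabilizer chain -/
theorem le_closure_of_chain (G : Subgroup (Equiv.Perm GolayPt)) {m n : ℕ}
    (tabs : Fin m → Fin 24 → Fin 24) (hinj : ∀ i, TabInj (tabs i))
    (hmem : ∀ i, tabPerm (tabs i) (hinj i) ∈ G)
    (b : Fin n → Fin 24) (om : Fin n → ℕ) (sz : Fin n → ℕ)
    (hupper : ∀ k : Fin n, ∀ g ∈ G,
      (∀ j : Fin n, j < k → g (Helper4.pt (b j)) = Helper4.pt (b j)) →
        (om k).testBit (ptInv (g (Helper4.pt (b k)))).val = true)
    (tr : Fin n → Fin 24 → List (Fin m))
    (hspec : ∀ (k : Fin n) (p : Fin 24), (om k).testBit p.val = true →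
      (∀ j : Fin n, j < k → twordTab tabs (tr k p) (b j) = b j) ∧
        twordTab tabs (tr k p) (b k) = p)
    (hsz : ∀ k : Fin n,
      (Finset.univ.filter fun a : Fin 24 => (om k).testBit a.val = true).card = sz k)
    (hrigid : ∀ g ∈ G, (∀ j : Fin n, g (Helper4.pt (b j)) = Helper4.pt (b j)) → g = 1)
    (hcard : Nat.card G = ∏ k : Fin n, sz k) :
    G ≤ Subgroup.closure (Set.range fun i => tabPerm (tabs i) (hinj i)) := by
  set K := Subgroup.closure (Set.range fun i => tabPerm (tabs i) (hinj i)) with hK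
  have hKG : K ≤ G := by
    rw [hK, Subgroup.closure_le]
    rintro _ ⟨i, rfl⟩
    exact hmem i
  have hgenK : ∀ i, tabPerm (tabs i) (hinj i) ∈ K := fun i =>
    Subgroup.subset_closure ⟨i, rfl⟩
  have hcardK : Nat.card K = ∏ k : Fin n, sz k := by
    apply card_of_maskChain K b om sz
    · intro k g hg hfix
      exact hupper k g (hKG hg) hfix
    · intro k a ha
      obtain ⟨h1, h2⟩ := hspec k a ha
      refine ⟨twordPerm tabs hinj (tr k a), twordPerm_mem tabs hinj K hgenK _, fun j hj => ?_, ?_⟩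
      · rw [twordPerm_pt, h1 j hj]
      · rw [twordPerm_pt, h2]
    · exact hsz
    · intro g hg hfix
      exact hrigid g (hKG hg) hfix
  have : K = G := Subgroup.eq_of_le_of_card_ge hKG (by rw [hcard, hcardK])
  rw [this]

/-- 2-transitivity on an invariant set from the first two levels of a chain -/
theorem twoTransOn_of_levels {α : Type*} (H : Subgroup (Equiv.Perm α)) (D : Set α)
    (hD : ∀ g ∈ H, ∀ x ∈ D, g x ∈ D) (b0 b1 : α)
    (h0 : ∀ p ∈ D, ∃ g ∈ H, g b0 = p)
    (h1 : ∀ p ∈ D, p ≠ b0 → ∃ g ∈ H, g b0 = b0 ∧ g b1 = p) : TwoTransOn H D := by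
  have key : ∀ x ∈ D, ∀ y ∈ D, x ≠ y → ∃ g ∈ H, g b0 = x ∧ g b1 = y := by
    intro x hx y hy hxy
    obtain ⟨g1, hg1, hg1x⟩ := h0 x hx
    have hy' : g1⁻¹ y ∈ D := hD _ (H.inv_mem hg1) y hy
    have hne : g1⁻¹ y ≠ b0 := by
      intro h
      apply hxy
      rw [← hg1x, ← h]
      simp
    obtain ⟨g2, hg2, hg20, hg21⟩ := h1 _ hy' hne
    refine ⟨g1 * g2, H.mul_mem hg1 hg2, ?_, ?_⟩
    · rw [Equiv.Perm.mul_apply, hg20, hg1x]
    · rw [Equiv.Perm.mul_apply, hg21]
      simp
  intro x hx y hy hxy x' hx' y' hy' hxy'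
  obtain ⟨g, hg, hgx, hgy⟩ := key x hx y hy hxy
  obtain ⟨g', hg', hgx', hgy'⟩ := key x' hx' y' hy' hxy'
  refine ⟨g' * g⁻¹, H.mul_mem hg' (H.inv_mem hg), ?_, ?_⟩
  · rw [Equiv.Perm.mul_apply, ← hgx]
    simp [hgx']
  · rw [Equiv.Perm.mul_apply, ← hgy]
    simp [hgy']

end Cfsg.Agent.Lib.Helper28
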