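import Cfsg.Agent.Lib.Helper28.M12Trans
import Cfsg.Agent.Lib.Helper28.PrimeGens
import Cfsg.Agent.Lib.Helper28.SubgroupTransport

set_option autoImplicit false

/-!
Simplicity of `M11` (the stabilizer in `M12` of the point `∞`) and of `M12`.
`M11` is generated by two elements of order 11 and is 2-transitive on the 11 remaining points of
the base dodecad; `M12` then is simple because its degree 12 is not a prime power.
-/

namespace Cfsg.Agent.Lib.Helper28

open Cfsg MulAction
open scoped Pointwise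

/-- two elements of order 11 of `M11` and their inverses -/
def m11tabs : Fin 4 → Fin 24 → Fin 24 := ![
  ![11, 12, 16, 15, 0, 3, 8, 10, 14, 1, 22, 5, 2, 7, 19, 9, 4, 18, 13, 17, 20, 6, 21, 23],
  ![4, 9, 12, 5, 16, 11, 21, 13, 6, 15, 7, 0, 1, 18, 8, 3, 2, 19, 17, 14, 20, 22, 10, 23],
  ![3, 4, 1, 16, 15, 12, 21, 7, 20, 5, 22, 0, 11, 18, 8, 9, 2, 14, 19, 17, 10, 13, 6, 23],
  ![11, 2, 16, 0, 1, 9, 22, 7, 14, 15, 20, 12, 5, 21, 17, 4, 3, 19, 13, 18, 8, 6, 10, 23]]

set_option maxRecDepth 100000 in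
theorem m11tabs_inj : ∀ i, TabInj (m11tabs i) := by decide +kernel

set_option maxRecDepth 100000 in
set_option maxHeartbeats 4000000 in
theorem m11tabs_check : ∀ i, TabCheck (m11tabs i) := by decide +kernel

set_option maxRecDepth 100000 in
theorem m11tabs_d0 : ∀ (i : Fin 4) (a : Fin 24), d0mask.testBit a.val = true →
    d0mask.testBit (m11tabs i a).val = true := by decide +kernel

set_option maxRecDepth 100000 in
theorem m11tabs_fix : ∀ i : Fin 4, m11tabs i 23 = 23 := by decide +kernel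

set_option maxRecDepth 100000 in
theorem m11tabs_pow : ∀ (i : Fin 4) (a : Fin 24), (m11tabs i)^[11] a = a := by decide +kernel

/-- the group `M11` -/
def G11 : Subgroup (Equiv.Perm GolayPt) := M12 ⊓ stabilizer (Equiv.Perm GolayPt) (Helper4.pt 23)

theorem mem_G11 {g : Equiv.Perm GolayPt} :
    g ∈ G11 ↔ g ∈ M12 ∧ g (Helper4.pt 23) = Helper4.pt 23 := by
  unfold G11
  rw [Subgroup.mem_inf]
  exact Iff.rfl

theorem m11gen_mem (i : Fin 4) : tabPerm (m11tabs i) (m11tabs_inj i) ∈ G11 := by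
  rw [mem_G11, mem_M12]
  refine ⟨⟨tabPerm_mem_M24 _ _ (m11tabs_check i),
    smul_maskSet_of_table (m11tabs i) (tabPerm_pt _ _) d0mask (m11tabs_d0 i)⟩, ?_⟩
  rw [tabPerm_pt, m11tabs_fix]

theorem card_baseDodecad : baseDodecad.card = 12 :=
  ((mem_dodecads_iff baseDodecad).mp baseDodecad_mem).2

theorem orbit_M12_pt23 : orbit M12 (Helper4.pt 23) = (baseDodecad : Set GolayPt) := by
  ext y
  constructor
  · rintro ⟨⟨g, hg⟩, rfl⟩
    exact (apply_mem_of_smul_eq (mem_M12.mp hg).2 _).mpr pt23_mem_baseDodecad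
  · intro hy
    obtain ⟨g, hg, hgy⟩ := M12_exists_map_point (Finset.mem_coe.mp hy)
    exact ⟨⟨g, hg⟩, hgy⟩

theorem card_G11 : Nat.card G11 = 7920 := by
  have h := card_eq_orbit_mul_card_inf_stabilizer M12 (Helper4.pt 23)
  rw [orbit_M12_pt23, Set.ncard_coe_finset, card_baseDodecad, card_M12] at h
  unfold G11
  omega

/-- the eleven points of the base dodecad other than `∞` -/
def D11 : Set GolayPt := {x | x ∈ baseDodecad ∧ x ≠ Helper4.pt 23}

theorem pt_mem_D11 (a : Fin 24) : Helper4.pt a ∈ D11 ↔ (d0mask.testBit a.val = true ∧ a ≠ 23) := by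
  unfold D11 baseDodecad
  rw [Set.mem_setOf_eq, pt_mem_maskSet]
  constructor
  · rintro ⟨h1, h2⟩
    exact ⟨h1, fun h => h2 (by rw [h])⟩
  · rintro ⟨h1, h2⟩
    exact ⟨h1, fun h => h2 (Helper4.pt_bijective.1 h)⟩

theorem ncard_D11 : D11.ncard = 11 := by
  have : D11 = ((baseDodecad.erase (Helper4.pt 23) : Finset GolayPt) : Set GolayPt) := by
    ext x
    simp [D11, and_comm]
  rw [this, Set.ncard_coe_finset, Finset.card_erase_of_mem pt23_mem_baseDodecad, card_baseDodecad]

def m11b : Fin 4 → Fin 24 := ![0, 1, 2, 3]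

def m11om' : Fin 4 → ℕ := ![105023, 105022, 105020, 105016]

def m11tr' : Fin 4 → Fin 24 → List (Fin 4) := ![
  ![[],
    [3, 1],
    [0, 3, 0],
    [2],
    [1],
    [0, 0],
    [],
    [],
    [],
    [3, 0, 0],
    [],
    [0],
    [3, 0],
    [],
    [],
    [2, 1],
    [1, 1],
    [],
    [],
    [],
    [],
    [],
    [],
    []],
  ![[],
    [],
    [3, 0, 3, 3, 0],
    [3, 0, 0, 0],
    [2, 2, 2, 1, 2],
    [0, 3, 0, 2],
    [],
    [],
    [],
    [2, 1, 3, 3, 0],
    [],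
    [2, 0],
    [1, 3],
    [],
    [],
    [2, 2, 2, 0, 0],
    [1, 2, 2, 0, 0],
    [],
    [],
    [],
    [],
    [],
    [],
    []],
  ![[],
    [],
    [],
    [0, 2, 0, 3, 1, 2],
    [3, 3, 0, 0, 3, 0],
    [0, 3, 1, 1, 3, 1],
    [],
    [],
    [],
    [2, 1, 1, 2],
    [],
    [0, 0, 2, 2],
    [0, 0, 0, 0, 3, 0],
    [],
    [],
    [1, 2, 1, 1, 1, 1],
    [3, 3, 1, 1],
    [],
    [],
    [],
    [],
    [],
    [],
    []],
  ![[],
    [],
    [],
    [],
    [3, 3, 0, 2, 2, 1, 2, 1],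
    [0, 2, 1, 3, 0, 2, 0],
    [],
    [],
    [],
    [2, 0, 0, 3, 0, 0, 0, 0],
    [],
    [3, 3, 1, 1, 3, 0, 0, 3],
    [2, 2, 1, 3, 0, 3, 1, 2],
    [],
    [],
    [1, 1, 1, 1, 2, 1, 1, 3],
    [2, 0, 3, 3, 3, 0, 3, 0],
    [],
    [],
    [],
    [],
    [],
    [],
    []]]

set_option maxRecDepth 100000 in
set_option maxHeartbeats 4000000 in
theorem m11tr'_spec : ∀ (k : Fin 4) (p : Fin 24), (m11om' k).testBit p.val = true →
    (∀ j : Fin 4, j < k → twordTab m11tabs (m11tr' k p) (m11b j) = m11b j) ∧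
      twordTab m11tabs (m11tr' k p) (m11b k) = p := by
  decide +kernel

set_option maxRecDepth 100000 in
theorem m11om'_upper : ∀ (k : Fin 4) (c : Fin 24), d0mask.testBit c.val = true → c ≠ 23 →
    (∀ j : Fin 4, j < k → c ≠ m11b j) → (m11om' k).testBit c.val = true := by
  decide +kernel

set_option maxRecDepth 100000 in
theorem m11om'_card : ∀ k : Fin 4,
    (Finset.univ.filter fun a : Fin 24 => (m11om' k).testBit a.val = true).card =
      (![11, 10, 9, 8] : Fin 4 → ℕ) k := by
  decide +kernel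

set_option maxRecDepth 100000 in
theorem m11b_facts : (∀ k : Fin 4, d0mask.testBit (m11b k).val = true ∧ m11b k ≠ 23) ∧
    (∀ i j : Fin 4, m11b i = m11b j → i = j) ∧
    (∀ j : Fin 5, m12base j = 23 ∨ ∃ k : Fin 4, m12base j = m11b k) := by
  decide +kernel

theorem G11_rigid {g : Equiv.Perm GolayPt} (hg : g ∈ G11)
    (hfix : ∀ j : Fin 4, g (Helper4.pt (m11b j)) = Helper4.pt (m11b j)) : g = 1 := by
  rw [mem_G11] at hg
  apply M12_eq_one_of_fix hg.1
  intro j
  rcases m11b_facts.2.2 j with h | ⟨k, h⟩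
  · rw [h]; exact hg.2
  · rw [h]; exact hfix k

theorem G11_upper (k : Fin 4) (g : Equiv.Perm GolayPt) (hg : g ∈ G11)
    (hfix : ∀ j : Fin 4, j < k → g (Helper4.pt (m11b j)) = Helper4.pt (m11b j)) :
    (m11om' k).testBit (ptInv (g (Helper4.pt (m11b k)))).val = true := by
  rw [mem_G11] at hg
  apply m11om'_upper
  · rw [testBit_apply_of_smul_eq (mem_M12.mp hg.1).2]
    exact (m11b_facts.1 k).1
  · intro hcon
    have h1 : g (Helper4.pt (m11b k)) = Helper4.pt 23 := by rw [← hcon, pt_ptInv]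
    have h2 := Helper4.pt_bijective.1 (g.injective (h1.trans hg.2.symm))
    exact (m11b_facts.1 k).2 h2
  · intro j hj hcon
    have h1 : g (Helper4.pt (m11b k)) = Helper4.pt (m11b j) := by rw [← hcon, pt_ptInv]
    have h2 := Helper4.pt_bijective.1 (g.injective (h1.trans (hfix j hj).symm))
    have h3 := m11b_facts.2.1 _ _ h2
    rw [h3] at hj
    exact lt_irrefl _ hj

theorem G11_le_closure :
    G11 ≤ Subgroup.closure (Set.range fun i => tabPerm (m11tabs i) (m11tabs_inj i)) := by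
  apply le_closure_of_chain G11 m11tabs m11tabs_inj m11gen_mem m11b m11om' ![11, 10, 9, 8]
    G11_upper m11tr' m11tr'_spec m11om'_card (fun g hg hfix => G11_rigid hg hfix)
  rw [card_G11]; decide

theorem G11_faithfulOn : FaithfulOn G11 D11 where
  inv := by
    intro g hg x hx
    rw [mem_G11] at hg
    refine ⟨(apply_mem_of_smul_eq (mem_M12.mp hg.1).2 x).mpr hx.1, ?_⟩
    intro hcon
    exact hx.2 (g.injective (hcon.trans hg.2.symm))
  faithful := by
    intro g hg hfix
    apply G11_rigid hg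
    intro j
    apply hfix
    rw [pt_mem_D11]
    exact m11b_facts.1 j

theorem G11_twoTransOn : TwoTransOn G11 D11 := by
  apply twoTransOn_of_levels G11 D11 G11_faithfulOn.inv (Helper4.pt 0) (Helper4.pt 1)
  · intro p hp
    obtain ⟨a, rfl⟩ := Helper4.pt_bijective.2 p
    rw [pt_mem_D11] at hp
    have ha : (m12om 1).testBit a.val = true := by
      rw [m12om_mem]
      refine ⟨hp.1, ?_⟩
      decide +revert
    obtain ⟨g, hg, h1, h2⟩ := M12_level 1 a ha
    exact ⟨g, mem_G11.mpr ⟨hg, h1 0 (by decide)⟩, h2⟩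
  · intro p hp hne
    obtain ⟨a, rfl⟩ := Helper4.pt_bijective.2 p
    rw [pt_mem_D11] at hp
    have hne' : a ≠ 0 := fun h => hne (by rw [h])
    have ha : (m12om 2).testBit a.val = true := by
      rw [m12om_mem]
      refine ⟨hp.1, ?_⟩
      have := hp.2
      decide +revert
    obtain ⟨g, hg, h1, h2⟩ := M12_level 2 a ha
    exact ⟨g, mem_G11.mpr ⟨hg, h1 0 (by decide)⟩, h1 1 (by decide), h2⟩

theorem G11_nontrivial : Nontrivial G11 := by
  rw [← Finite.one_lt_card_iff_nontrivial, card_G11]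
  norm_num

/-- `M11` is simple -/
theorem G11_isSimpleGroup : IsSimpleGroup G11 := by
  apply isSimpleGroup_of_prime_gens G11_faithfulOn G11_twoTransOn (Helper4.pt 0)
    ((pt_mem_D11 0).mpr (by decide)) 11 (by norm_num) (by rw [ncard_D11])
    (by rw [card_G11]; norm_num)
    (Set.range fun i => tabPerm (m11tabs i) (m11tabs_inj i)) _ G11_le_closure G11_nontrivial
  rintro _ ⟨i, rfl⟩
  exact ⟨m11gen_mem i, tabPerm_pow_eq_one _ _ 11 (m11tabs_pow i)⟩

/-! ### `M12` -/

theorem M12_faithfulOn : FaithfulOn M12 (baseDodecad : Set GolayPt) where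
  inv := by
    intro g hg x hx
    exact (apply_mem_of_smul_eq (mem_M12.mp hg).2 x).mpr hx
  faithful := by
    intro g hg hfix
    apply M12_eq_one_of_fix hg
    intro j
    apply hfix
    rw [Finset.mem_coe]
    unfold baseDodecad
    rw [pt_mem_maskSet]
    revert j
    decide

theorem M12_twoTransOn : TwoTransOn M12 (baseDodecad : Set GolayPt) := by
  apply twoTransOn_of_levels M12 _ M12_faithfulOn.inv (Helper4.pt 23) (Helper4.pt 0)
  · intro p hp
    exact M12_exists_map_point (Finset.mem_coe.mp hp)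
  · intro p hp hne
    obtain ⟨a, rfl⟩ := Helper4.pt_bijective.2 p
    have hp' : d0mask.testBit a.val = true := by
      have : Helper4.pt a ∈ maskSet d0mask := Finset.mem_coe.mp hp
      rwa [pt_mem_maskSet] at this
    have hne' : a ≠ 23 := fun h => hne (by rw [h])
    have ha : (m12om 1).testBit a.val = true := by
      rw [m12om_mem]
      refine ⟨hp', ?_⟩
      decide +revert
    obtain ⟨g, hg, h1, h2⟩ := M12_level 1 a ha
    exact ⟨g, hg, h1 0 (by decide), h2⟩

theorem M12_nontrivial : Nontrivial M12 := by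
  rw [← Finite.one_lt_card_iff_nontrivial, card_M12]
  norm_num

/-- `M12` is simple -/
theorem M12_isSimpleGroup : IsSimpleGroup M12 := by
  apply isSimpleGroup_of_stabilizer M12_faithfulOn M12_twoTransOn (Helper4.pt 23)
    (Finset.mem_coe.mpr pt23_mem_baseDodecad) _ G11_isSimpleGroup M12_nontrivial
  rw [Set.ncard_coe_finset, card_baseDodecad]
  intro h
  obtain ⟨p, k, hp, hk, hpk⟩ := h
  have hp' : Nat.Prime p := Nat.prime_iff.mpr hp
  have h2 : (2 : ℕ) ∣ p ^ k := by rw [hpk]; norm_num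
  have h3 : (3 : ℕ) ∣ p ^ k := by rw [hpk]; norm_num
  have e2 := (Nat.prime_dvd_prime_iff_eq Nat.prime_two hp').mp (Nat.Prime.dvd_of_dvd_pow Nat.prime_two h2)
  have e3 := (Nat.prime_dvd_prime_iff_eq Nat.prime_three hp').mp (Nat.Prime.dvd_of_dvd_pow Nat.prime_three h3)
  omega

end Cfsg.Agent.Lib.Helper28
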