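import Mathlib
import Cfsg.Agent.Lib.Helper28.Witt12
import Cfsg.Agent.Lib.Helper28.Witt23
import Cfsg.Agent.Lib.Helper28.M12Trans
import Cfsg.Agent.Lib.Helper28.SquareDodecad
import Cfsg.Agent.S0383
import Cfsg.Agent.S0385

/-!
# The automorphism group of a Steiner system `S(5,6,12)`

Frames (`Witt12.exists_frame`) for arbitrary labelled blocks give sharp 5-transitivity; the
comparison with the hexads on a dodecad gives simplicity.
-/

set_option autoImplicit false
open scoped Pointwise

namespace Cfsg.Agent.Lib.Helper28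

open Cfsg Finset PlaneFour SixSix

namespace Aut12

/-! ### The blocks of type 4+2 in the model -/

theorem Q_eq_omega : ∀ i j i' j' : Fin 6, i ≠ j → i' ≠ j' → Q i j = Q i' j' →
    omega i j = omega i' j' := by decide +kernel

theorem pair_syn : ∀ (k : Fin 15) (u v u' v' : Fin 6), ({u, v} : Finset (Fin 6)) = {u', v'} →
    syn k u' = v' → syn k u = v := by decide +kernel

theorem Q_ne_univ : ∀ i j : Fin 6, Q i j ≠ univ := by decide +kernel

theorem Q_ne_empty : ∀ i j : Fin 6, Q i j ≠ ∅ := by decide +kernel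

theorem Q_compl_ne : ∀ i j i' j' : Fin 6, i ≠ j → i' ≠ j' → (Q i j)ᶜ ≠ Q i' j' := by
  decide +kernel

theorem Q_ne_T : ∀ i j l m n : Fin 6, i ≠ j → l ≠ m → l ≠ n → m ≠ n →
    Q i j ≠ univ \ {l, m, n} := by decide +kernel

theorem third_point : ∀ x y : Fin 6, ∃ z, z ≠ x ∧ z ≠ y := by decide +kernel

theorem model_Q_pair {i j u v : Fin 6} (hij : i ≠ j) (huv : u ≠ v) :
    Model (Q i j) {u, v} ↔ syn (omega i j) u = v := by
  constructor
  · rintro (⟨h, -⟩ | ⟨h, -⟩ | ⟨i', j', u', v', hij', -, hQ, hJ, hs⟩ |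
      ⟨i', j', u', v', hij', -, hQ, -, -⟩ | ⟨l, m, n, u', v', w', hlm, hln, hmn, -, -, -, hQ, -⟩)
    · exact absurd h (Q_ne_univ i j)
    · exact absurd h (Q_ne_empty i j)
    · rw [Q_eq_omega i j i' j' hij hij' hQ]
      exact pair_syn _ u v u' v' hJ hs
    · exact absurd hQ (Q_compl_ne i j i' j' hij hij')
    · exact absurd hQ (Q_ne_T i j l m n hij hlm hln hmn)
  · intro h
    exact Or.inr (Or.inr (Or.inl ⟨i, j, u, v, hij, huv, rfl, rfl, h⟩))

theorem mem_modelSet_Q_pair {i j u v : Fin 6} (hij : i ≠ j) (huv : u ≠ v) :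
    (Q i j).disjSum {u, v} ∈ ModelSet ↔ syn (omega i j) u = v := by
  show Model ((Q i j).disjSum {u, v}).toLeft ((Q i j).disjSum {u, v}).toRight ↔ _
  rw [toLeft_disjSum, toRight_disjSum]
  exact model_Q_pair hij huv

/-- an automorphism of the model fixing the left half pointwise is trivial -/
theorem model_rigid (g : Equiv.Perm X) (hfix : ∀ i, g (Sum.inl i) = Sum.inl i)
    (hg : ∀ h ∈ ModelSet, h.image g ∈ ModelSet) : g = 1 := by
  have hr : ∀ u, ∃ w, g (Sum.inr u) = Sum.inr w := by
    intro u
    rcases hgu : g (Sum.inr u) with i | w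
    · exfalso
      have h1 : g (Sum.inr u) = g (Sum.inl i) := by rw [hgu, hfix]
      exact Sum.inr_ne_inl (g.injective h1)
    · exact ⟨w, rfl⟩
  choose p hp using hr
  have hpinj : Function.Injective p := by
    intro u v huv
    have h1 : g (Sum.inr u) = g (Sum.inr v) := by rw [hp, hp, huv]
    exact Sum.inr_injective (g.injective h1)
  obtain ⟨π, hπp⟩ : ∃ π : Equiv.Perm (Fin 6), ∀ u, π u = p u :=
    ⟨Equiv.ofBijective p ⟨hpinj, Finite.injective_iff_surjective.mp hpinj⟩, fun u => rfl⟩
  have hgπ : g = Equiv.sumCongr (Equiv.refl (Fin 6)) π := by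
    ext x
    rcases x with i | u
    · rw [hfix]
      rfl
    · show g (Sum.inr u) = Sum.inr (π u)
      rw [hp, hπp]
  have hcomm1 : ∀ i j : Fin 6, i ≠ j → ∀ u v : Fin 6, u ≠ v → syn (omega i j) u = v →
      syn (omega i j) (π u) = π v := by
    intro i j hij u v huv hs
    have h1 := hg _ ((mem_modelSet_Q_pair hij huv).mpr hs)
    rw [hgπ, image_ds, image_insert, image_singleton] at h1
    exact (mem_modelSet_Q_pair hij (fun h => huv (π.injective h))).mp h1
  have hcomm : ∀ (k : Fin 15) (u : Fin 6), π (syn k u) = syn k (π u) := by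
    intro k u
    obtain ⟨i, j, hij, rfl⟩ := omega_surj k
    exact (hcomm1 i j hij u _ (Ne.symm (syn_ne _ u)) rfl).symm
  have hπ : π = 1 := by
    by_contra hne
    obtain ⟨x, hx⟩ : ∃ x, π x ≠ x := by
      by_contra hall
      apply hne
      ext x
      by_contra hx
      exact hall ⟨x, fun h => hx (by rw [h]; rfl)⟩
    obtain ⟨z, hzx, hzy⟩ := third_point x (π x)
    obtain ⟨k, k', hk, hk', hne'⟩ :=
      syn_separate x (π x) z (Ne.symm hx) (Ne.symm hzx) (Ne.symm hzy)
    apply hne'
    rw [← hcomm, ← hcomm, hk, hk']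
  rw [hgπ, hπ]
  ext x
  rcases x with i | u <;> rfl

/-! ### Labelled blocks -/

variable {α : Type*} [Fintype α] [DecidableEq α]

theorem exists_label {D : Set (Finset α)} (hD : IsSteinerSystem 5 6 D) (x : Fin 5 ↪ α) :
    ∃ A0 ∈ D, ∃ a : Fin 6 → α, Function.Injective a ∧ A0 = univ.image a ∧
      ∀ i : Fin 5, a i.succ = x i := by
  have hs : (univ.map x).card = 5 := by rw [card_map, card_univ, Fintype.card_fin]
  obtain ⟨A0, ⟨hA0, hsA⟩, -⟩ := hD.2 _ hs
  have hc : A0.card = 6 := hD.1 A0 hA0
  have h1 : (A0 \ univ.map x).card = 1 := by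
    rw [card_sdiff_of_subset hsA, hc, hs]
  obtain ⟨q, hq⟩ := card_eq_one.mp h1
  have hq' : q ∈ A0 \ univ.map x := by
    rw [hq]
    exact mem_singleton_self q
  rw [mem_sdiff] at hq'
  have hinj : Function.Injective (Fin.cons q (fun i => x i) : Fin 6 → α) := by
    apply Fin.cons_injective_of_injective
    · rintro ⟨i, hi⟩
      apply hq'.2
      have hi' : x i = q := hi
      rw [← hi']
      exact mem_map_of_mem x (mem_univ i)
    · exact x.injective
  refine ⟨A0, hA0, Fin.cons q (fun i => x i), hinj, ?_, fun i => ?_⟩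
  · symm
    apply eq_of_subset_of_card_le
    · intro y hy
      rw [mem_image] at hy
      obtain ⟨i, -, rfl⟩ := hy
      cases i using Fin.cases with
      | zero =>
        rw [Fin.cons_zero]
        exact hq'.1
      | succ i =>
        rw [Fin.cons_succ]
        exact hsA (mem_map_of_mem x (mem_univ i))
    · rw [card_image_of_injective _ hinj, card_univ, Fintype.card_fin, hc]
  · rw [Fin.cons_succ]

/-- an automorphism fixing five points is trivial -/
theorem eq_one_of_fix_five (hα : Fintype.card α = 12) {D : Set (Finset α)}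
    (hD : IsSteinerSystem 5 6 D) {g : Equiv.Perm α} (hg : g ∈ setSystemAut D) (x : Fin 5 ↪ α)
    (hx : ∀ i, g (x i) = x i) : g = 1 := by
  obtain ⟨A0, hA0, a, ha, hA, hax⟩ := exists_label hD x
  have hs : (univ.map x).card = 5 := by rw [card_map, card_univ, Fintype.card_fin]
  have hsA : univ.map x ⊆ A0 := by
    intro y hy
    rw [mem_map] at hy
    obtain ⟨i, -, rfl⟩ := hy
    rw [hA, ← hax i]
    exact mem_image_of_mem _ (mem_univ _)
  have himg : A0.image g = A0 := by
    obtain ⟨b, -, huniq⟩ := hD.2 _ hs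
    have h1 : A0.image g = b := huniq _ ⟨image_mem_of_mem_aut hg hA0, fun y hy => by
      rw [mem_map] at hy
      obtain ⟨i, -, rfl⟩ := hy
      have h2 : x i = g (x i) := (hx i).symm
      rw [h2]
      exact mem_image_of_mem g (hsA (mem_map_of_mem x (mem_univ i)))⟩
    have h2 : A0 = b := huniq _ ⟨hA0, hsA⟩
    rw [h1, ← h2]
  have hfix0 : g (a 0) = a 0 := by
    have hmem : ∀ y ∈ A0, y ∉ univ.map x → y = a 0 := by
      intro y hy hys
      rw [hA, mem_image] at hy
      obtain ⟨i, -, rfl⟩ := hy
      cases i using Fin.cases with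
      | zero => rfl
      | succ i =>
        exfalso
        apply hys
        rw [hax i]
        exact mem_map_of_mem x (mem_univ i)
    apply hmem
    · rw [← himg]
      apply mem_image_of_mem g
      rw [hA]
      exact mem_image_of_mem a (mem_univ 0)
    · intro h
      rw [mem_map] at h
      obtain ⟨i, -, hi⟩ := h
      have h1 : g (x i) = g (a 0) := by
        rw [hx i]
        exact hi
      have h2 := g.injective h1
      rw [← hax i] at h2
      exact Fin.succ_ne_zero i (ha h2)
  have hfix : ∀ i, g (a i) = a i := by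
    intro i
    cases i using Fin.cases with
    | zero => exact hfix0
    | succ i =>
      rw [hax i]
      exact hx i
  obtain ⟨e, hel, he⟩ := Witt12.exists_frame hα hD hA0 a ha hA
  have hg' : (e.trans (g.trans e.symm) : Equiv.Perm X) = 1 := by
    apply model_rigid
    · intro i
      show e.symm (g (e (Sum.inl i))) = Sum.inl i
      rw [hel, hfix, ← hel, Equiv.symm_apply_apply]
    · intro h hh
      rw [← he] at hh ⊢
      have h1 := image_mem_of_mem_aut hg hh
      have h2 : (h.image (e.trans (g.trans e.symm))).image e = (h.image e).image g := by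
        rw [image_image, image_image]
        congr 1
        funext y
        show e (e.symm (g (e y))) = g (e y)
        rw [Equiv.apply_symm_apply]
      rw [h2]
      exact h1
  ext z
  have h1 := DFunLike.congr_fun hg' (e.symm z)
  have h2 : e.symm (g (e (e.symm z))) = e.symm z := h1
  rw [Equiv.apply_symm_apply] at h2
  exact e.symm.injective h2

/-- transitivity on ordered 5-tuples -/
theorem exists_aut_map (hα : Fintype.card α = 12) {D : Set (Finset α)}
    (hD : IsSteinerSystem 5 6 D) (x y : Fin 5 ↪ α) :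
    ∃ g : Equiv.Perm α, g ∈ setSystemAut D ∧ ∀ i, g (x i) = y i := by
  obtain ⟨A, hA, a, ha, hAa, hax⟩ := exists_label hD x
  obtain ⟨A', hA', a', ha', hAa', hay⟩ := exists_label hD y
  obtain ⟨e, hel, he⟩ := Witt12.exists_frame hα hD hA a ha hAa
  obtain ⟨e', hel', he'⟩ := Witt12.exists_frame hα hD hA' a' ha' hAa'
  refine ⟨e.symm.trans e', ?_, fun i => ?_⟩
  · apply mem_aut_of_image_mem
    intro b hb
    have h1 : (b.image e.symm).image e = b := by
      rw [image_image, Equiv.self_comp_symm, image_id]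
    have h2 : b.image e.symm ∈ ModelSet := by
      rw [← he, h1]
      exact hb
    have h3 := (he' _).mpr h2
    rw [image_image] at h3
    exact h3
  · show e' (e.symm (x i)) = y i
    rw [← hax i, ← hel, Equiv.symm_apply_apply, hel', hay]

theorem pretransitive_5 (hα : Fintype.card α = 12) {D : Set (Finset α)}
    (hD : IsSteinerSystem 5 6 D) : MulAction.IsMultiplyPretransitive (setSystemAut D) α 5 := by
  rw [MulAction.isMultiplyPretransitive_iff]
  intro x y
  obtain ⟨g, hg, hgx⟩ := exists_aut_map hα hD x y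
  refine ⟨⟨g, hg⟩, ?_⟩
  ext i
  exact hgx i

theorem stabilizer_eq_bot (hα : Fintype.card α = 12) {D : Set (Finset α)}
    (hD : IsSteinerSystem 5 6 D) (x : Fin 5 ↪ α) :
    MulAction.stabilizer (setSystemAut D) x = ⊥ := by
  rw [Subgroup.eq_bot_iff_forall]
  intro g hg
  rw [MulAction.mem_stabilizer_iff] at hg
  apply Subtype.ext
  show (g : Equiv.Perm α) = 1
  apply eq_one_of_fix_five hα hD g.2 x
  intro i
  have h1 := DFunLike.congr_fun hg i
  exact h1

theorem card_aut (hα : Fintype.card α = 12) {D : Set (Finset α)}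
    (hD : IsSteinerSystem 5 6 D) : Nat.card (setSystemAut D) = 95040 := by
  obtain ⟨x0⟩ : Nonempty (Fin 5 ↪ α) := Function.Embedding.nonempty_of_card_le (by
    rw [Fintype.card_fin, hα]
    norm_num)
  have hpt := pretransitive_5 hα hD
  rw [MulAction.isMultiplyPretransitive_iff] at hpt
  have hbij : Function.Bijective (fun g : setSystemAut D => g • x0) := by
    constructor
    · intro g g' h
      have h' : g • x0 = g' • x0 := h
      have h1 : g'⁻¹ * g ∈ MulAction.stabilizer (setSystemAut D) x0 := by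
        rw [MulAction.mem_stabilizer_iff, mul_smul, inv_smul_eq_iff]
        exact h'
      rw [stabilizer_eq_bot hα hD x0, Subgroup.mem_bot] at h1
      exact (inv_mul_eq_one.mp h1).symm
    · intro y
      exact hpt x0 y
  rw [Nat.card_eq_of_bijective _ hbij, Nat.card_eq_fintype_card, Fintype.card_embedding_eq, hα,
    Fintype.card_fin]
  rfl

/-! ### The hexads on a dodecad -/

section Concrete

variable {d : Finset GolayPt}

/-- the system of hexads on a dodecad -/
def hexSys (d : Finset GolayPt) : Set (Finset {p : GolayPt // p ∈ d}) :=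
  {h | ∃ o ∈ octads, (o ∩ d).card = 6 ∧ h = Finset.subtype (fun p => p ∈ d) o}

theorem mem_iff_of_smul_eq {g : Equiv.Perm GolayPt} (hgd : g • d = d) (x : GolayPt) :
    g x ∈ d ↔ x ∈ d := by
  conv_lhs => rw [← hgd]
  exact Finset.smul_mem_smul_finset_iff g

/-- restriction of a permutation stabilising `d` -/
def resPerm (g : Equiv.Perm GolayPt) (hgd : g • d = d) : Equiv.Perm {p : GolayPt // p ∈ d} :=
  g.subtypePerm (mem_iff_of_smul_eq hgd)

theorem resPerm_apply (g : Equiv.Perm GolayPt) (hgd : g • d = d) (t : {p : GolayPt // p ∈ d}) :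
    ((resPerm g hgd t : {p : GolayPt // p ∈ d}) : GolayPt) = g t := rfl

theorem resPerm_mem_aut {g : Equiv.Perm GolayPt} (hg : g ∈ M24) (hgd : g • d = d) :
    resPerm g hgd ∈ setSystemAut (hexSys d) := by
  apply mem_aut_of_image_mem
  rintro h ⟨o, ho, h6, rfl⟩
  refine ⟨o.image g, Witt.image_mem_octads_of_mem_M24 hg ho, ?_, ?_⟩
  · have h1 : o.image g ∩ d = (o ∩ d).image g := by
      ext y
      simp only [mem_inter, mem_image]
      constructor
      · rintro ⟨⟨z, hz, rfl⟩, hyd⟩
        exact ⟨z, ⟨hz, (mem_iff_of_smul_eq hgd z).mp hyd⟩, rfl⟩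
      · rintro ⟨z, ⟨hz, hzd⟩, rfl⟩
        exact ⟨⟨z, hz, rfl⟩, (mem_iff_of_smul_eq hgd z).mpr hzd⟩
    rw [h1, card_image_of_injective _ g.injective, h6]
  · ext t
    simp only [mem_image, mem_subtype]
    constructor
    · rintro ⟨s, hs, rfl⟩
      exact ⟨s.1, hs, rfl⟩
    · rintro ⟨z, hz, hzt⟩
      have hzd : z ∈ d := (mem_iff_of_smul_eq hgd z).mp (by
        rw [hzt]
        exact t.2)
      exact ⟨⟨z, hzd⟩, hz, Subtype.ext hzt⟩

theorem stab_smul (g : MulAction.stabilizer M24 d) : (g.1.1 : Equiv.Perm GolayPt) • d = d :=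
  MulAction.mem_stabilizer_iff.mp g.2

/-- the restriction homomorphism -/
def resHom (d : Finset GolayPt) : MulAction.stabilizer M24 d →* setSystemAut (hexSys d) :=
  MonoidHom.mk' (fun g => ⟨resPerm g.1.1 (stab_smul g), resPerm_mem_aut g.1.2 (stab_smul g)⟩) (by
    intro g g'
    apply Subtype.ext
    ext t
    rfl)

theorem resHom_injective (hd : d ∈ dodecads) : Function.Injective (resHom d) := by
  rw [injective_iff_map_eq_one]
  intro g hg
  have hfix : ∀ t ∈ d, (g.1.1 : Equiv.Perm GolayPt) t = t := by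
    intro t ht
    have h1 := DFunLike.congr_fun (congrArg Subtype.val hg) ⟨t, ht⟩
    exact congrArg Subtype.val h1
  have hc : d.card = 12 := ((mem_dodecads_iff d).mp hd).2
  obtain ⟨x, hx⟩ : ∃ x : Fin 5 ↪ GolayPt, Set.range x ⊆ d :=
    Function.Embedding.exists_of_card_le_finset (by
      rw [Fintype.card_fin, hc]
      norm_num)
  have hx' : ∀ i, x i ∈ d := fun i => hx (Set.mem_range_self i)
  obtain ⟨g0, -, huniq⟩ := dodecad_sharp hd x x hx' hx'
  have h1 := huniq g.1.1 g.1.2 (stab_smul g) (fun i => hfix _ (hx' i))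
  have h2 := huniq 1 (one_mem _) (one_smul _ _) (fun i => rfl)
  apply Subtype.ext
  apply Subtype.ext
  show (g.1.1 : Equiv.Perm GolayPt) = 1
  rw [h1, ← h2]

theorem card_subtype_dodecad (hd : d ∈ dodecads) :
    Fintype.card {p : GolayPt // p ∈ d} = 12 := by
  rw [Fintype.card_coe]
  exact ((mem_dodecads_iff d).mp hd).2

theorem hexSys_steiner (hd : d ∈ dodecads) : IsSteinerSystem 5 6 (hexSys d) :=
  Cfsg.Agent.S0385.result d hd

theorem resHom_bijective (hd : d ∈ dodecads) : Function.Bijective (resHom d) :=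
  (resHom_injective hd).bijective_of_nat_card_le (by
    rw [card_aut (card_subtype_dodecad hd) (hexSys_steiner hd), card_stabilizer_dodecad hd])

/-- the dodecad stabiliser is the automorphism group of the hexads -/
noncomputable def resEquiv (hd : d ∈ dodecads) :
    MulAction.stabilizer M24 d ≃* setSystemAut (hexSys d) :=
  MulEquiv.ofBijective (resHom d) (resHom_bijective hd)

theorem aut_hexSys_simple (hd : d ∈ dodecads) : IsSimpleGroup (setSystemAut (hexSys d)) := by
  have := Cfsg.Agent.S0383.result d hd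
  exact (resEquiv hd).symm.isSimpleGroup

end Concrete

/-- the automorphism group of any `S(5,6,12)` -/
theorem aut_12 (hα : Fintype.card α = 12) {D : Set (Finset α)} (hD : IsSteinerSystem 5 6 D) :
    IsM12 (setSystemAut D) ∧ MulAction.IsMultiplyPretransitive (setSystemAut D) α 5 ∧
      ∀ x : Fin 5 ↪ α, MulAction.stabilizer (setSystemAut D) x = ⊥ := by
  refine ⟨⟨?_, card_aut hα hD⟩, pretransitive_5 hα hD, stabilizer_eq_bot hα hD⟩
  have hd := squareDodecad_mem
  obtain ⟨e, he⟩ := Witt12.steiner_5_6_12_iso hα (card_subtype_dodecad hd) hD (hexSys_steiner hd)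
  have := aut_hexSys_simple hd
  exact (SetSys.autCongr e he).isSimpleGroup

end Aut12

end Cfsg.Agent.Lib.Helper28
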