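import Cfsg.Agent.Lib.Helper28.AutGens

set_option autoImplicit false

/-!
A variant of `aut_inner_of_gens`: the centralizer of `b` is a given finite list, and the
conclusion is that every automorphism lies in a coset `Inn G * τ` for `τ` in a given set of
automorphisms (containing the possible behaviours on the generators).
-/

namespace Cfsg.Agent.Lib.Helper28

theorem coset_of_conj_mul {G : Type*} [Group G] {T : Set (MulAut G)} {φ : MulAut G} (g : G)
    (h : ∃ τ ∈ T, MulAut.conj g * φ * τ⁻¹ ∈ (MulAut.conj : G →* MulAut G).range) :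
    ∃ τ ∈ T, φ * τ⁻¹ ∈ (MulAut.conj : G →* MulAut G).range := by
  obtain ⟨τ, hτ, h1⟩ := h
  refine ⟨τ, hτ, ?_⟩
  have h2 : MulAut.conj g ∈ (MulAut.conj : G →* MulAut G).range := ⟨g, rfl⟩
  rw [mul_assoc] at h1
  exact (Subgroup.mul_mem_cancel_left _ h2).mp h1

/-- the criterion: every automorphism is inner up to one of the automorphisms in `T` -/
theorem aut_coset_of_gens {G : Type*} [Group G] [Finite G] (p r s : ℕ) [Fact p.Prime]
    (a b : G) {n N : ℕ} (e : Fin n → G) (m : Fin n → ℕ) (cb : Fin N → G)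
    (hfac : (Nat.card G).factorization p = 1)
    (ha : orderOf a = p)
    (hba : b * a * b⁻¹ = a ^ r)
    (hs : (s * r) % p = (s + 1) % p)
    (hk : ∀ k, 0 < k → k < p → ∃ i, (k * r ^ i) % p = 1 ∨ (k * r ^ i) % p = p - 1)
    (hCa : ∀ g : G, g * a = a * g → g ∈ Subgroup.zpowers a)
    (hCb : ∀ g : G, g * b = b * g → ∃ j, g = cb j)
    (heb : ∀ k, e k * b * (e k)⁻¹ = b ^ m k)
    (hgen : Subgroup.closure (insert a (insert b (Set.range e))) = ⊤)
    (rels : List (List (Fin (n + 1))))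
    (hR : ∀ w ∈ rels, evalW (Fin.cons a e : Fin (n + 1) → G) w = 1)
    (T : Set (MulAut G))
    (hrel : ∀ (a' : G) (i : Fin n → Fin N), (a' = a ∨ a' = a⁻¹) →
      (∀ w ∈ rels, evalW (Fin.cons a' (fun k => e k * cb (i k)) : Fin (n + 1) → G) w = 1) →
        ∃ τ ∈ T, τ a = a' ∧ τ b = b ∧ ∀ k, τ (e k) = e k * cb (i k))
    (φ : MulAut G) : ∃ τ ∈ T, φ * τ⁻¹ ∈ (MulAut.conj : G →* MulAut G).range := by
  classical
  have hp : p.Prime := Fact.out
  have ha1 : a ≠ 1 := by
    intro h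
    rw [h, orderOf_one] at ha
    exact hp.one_lt.ne ha
  have hap : a ^ p = 1 := by rw [← ha]; exact pow_orderOf_eq_one a
  -- Step 1: Sylow
  obtain ⟨g, hg⟩ := exists_conj_of_card_prime p hfac (Subgroup.zpowers (φ a))
    (Subgroup.zpowers a) (by rw [Nat.card_zpowers, MulEquiv.orderOf_eq, ha])
    (by rw [Nat.card_zpowers, ha])
  apply coset_of_conj_mul g⁻¹
  set φ1 : MulAut G := MulAut.conj g⁻¹ * φ with hφ1
  have h1 : φ1 a ∈ Subgroup.zpowers a := by
    have := (hg (φ a)).mp (Subgroup.mem_zpowers _)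
    rw [hφ1, MulAut.mul_apply, MulAut.conj_apply, inv_inv]
    exact this
  -- Step 2: multipliers
  obtain ⟨k, hkp, hk1⟩ := exists_pow_of_mem_zpowers hp.pos ha h1
  have hk0 : 0 < k := by
    rcases Nat.eq_zero_or_pos k with h0 | h0
    · exfalso
      rw [h0, pow_zero] at hk1
      exact ha1 (φ1.injective (hk1.trans (map_one φ1).symm))
    · exact h0
  obtain ⟨i, hi⟩ := hk k hk0 hkp
  apply coset_of_conj_mul (b ^ i)
  set φ2 : MulAut G := MulAut.conj (b ^ i) * φ1 with hφ2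
  have h2 : φ2 a = a ^ ((k * r ^ i) % p) := by
    rw [hφ2, MulAut.mul_apply, MulAut.conj_apply, hk1, ← conj_pow, conj_pow_of_conj hba,
      ← pow_mul, mul_comm (r ^ i) k]
    conv_rhs => rw [← ha, pow_mod_orderOf]
  have h2' : φ2 a = a ∨ φ2 a = a⁻¹ := by
    rcases hi with hi | hi
    · left; rw [h2, hi, pow_one]
    · right
      rw [h2, hi]
      apply eq_inv_of_mul_eq_one_left
      rw [← pow_succ, Nat.sub_add_cancel hp.one_le, hap]
  -- Step 3: the image of `b`
  have h3 : φ2 b * a * (φ2 b)⁻¹ = a ^ r := by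
    have e1 : φ2 (b * a * b⁻¹) = φ2 (a ^ r) := congrArg φ2 hba
    rw [map_mul, map_mul, map_inv, map_pow] at e1
    rcases h2' with h | h
    · rw [h] at e1; exact e1
    · rw [h] at e1
      calc φ2 b * a * (φ2 b)⁻¹ = (φ2 b * a⁻¹ * (φ2 b)⁻¹)⁻¹ := by group
        _ = (a⁻¹ ^ r)⁻¹ := by rw [e1]
        _ = a ^ r := by rw [inv_pow, inv_inv]
  have h3c : (b⁻¹ * φ2 b) * a = a * (b⁻¹ * φ2 b) := by
    have e1 : φ2 b * a = a ^ r * φ2 b := by rw [← h3]; group
    have e2 : b⁻¹ * a ^ r = a * b⁻¹ := by rw [← hba]; group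
    calc b⁻¹ * φ2 b * a = b⁻¹ * (φ2 b * a) := by group
      _ = b⁻¹ * a ^ r * φ2 b := by rw [e1]; group
      _ = a * (b⁻¹ * φ2 b) := by rw [e2]; group
  obtain ⟨t, ht⟩ := Subgroup.mem_zpowers_iff.mp (hCa _ h3c)
  have hb' : φ2 b = b * a ^ t := by rw [ht]; group
  have keyz : ∀ z : ℤ, b * a ^ z * b⁻¹ = a ^ ((r : ℤ) * z) := by
    intro z
    rw [← conj_zpow, hba, ← zpow_natCast, ← zpow_mul]
  set mm : ℤ := (s : ℤ) * r * t with hmm
  apply coset_of_conj_mul (a ^ mm)
  set φ3 : MulAut G := MulAut.conj (a ^ mm) * φ2 with hφ3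
  have h4a : φ3 a = φ2 a := by
    rw [hφ3, MulAut.mul_apply, MulAut.conj_apply]
    rcases h2' with h | h
    · rw [h]; group
    · rw [h]; group
  have hdvd : (p : ℤ) ∣ mm + r * t - r * mm := by
    have h5 : (p : ℤ) ∣ ((s + 1 : ℕ) : ℤ) - ((s * r : ℕ) : ℤ) := (Nat.modEq_iff_dvd).mp hs
    push_cast at h5
    have : mm + r * t - r * mm = (r * t) * ((s : ℤ) + 1 - s * r) := by rw [hmm]; ring
    rw [this]
    exact Dvd.dvd.mul_left h5 _
  have h4b : φ3 b = b := by
    rw [hφ3, MulAut.mul_apply, MulAut.conj_apply, hb']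
    have e1 : b * a ^ t = a ^ ((r : ℤ) * t) * b := by rw [← keyz t]; group
    have e2 : b * (a ^ mm)⁻¹ = (a ^ ((r : ℤ) * mm))⁻¹ * b := by rw [← keyz mm]; group
    calc a ^ mm * (b * a ^ t) * (a ^ mm)⁻¹
        = a ^ mm * a ^ ((r : ℤ) * t) * (b * (a ^ mm)⁻¹) := by rw [e1]; group
      _ = a ^ mm * a ^ ((r : ℤ) * t) * (a ^ ((r : ℤ) * mm))⁻¹ * b := by rw [e2]; group
      _ = a ^ (mm + r * t - r * mm) * b := by rw [zpow_sub, zpow_add]
      _ = b := by rw [(orderOf_dvd_iff_zpow_eq_one).mp (by rw [ha]; exact hdvd), one_mul]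
  -- Step 4: the images of the other generators
  have h4a' : φ3 a = a ∨ φ3 a = a⁻¹ := by rw [h4a]; exact h2'
  have h5 : ∀ k : Fin n, ∃ j, φ3 (e k) = e k * cb j := by
    intro k
    have e1 : φ3 (e k) * b * (φ3 (e k))⁻¹ = b ^ m k := by
      have := congrArg φ3 (heb k)
      rw [map_mul, map_mul, map_inv, map_pow, h4b] at this
      exact this
    have hc : ((e k)⁻¹ * φ3 (e k)) * b = b * ((e k)⁻¹ * φ3 (e k)) := by
      have e2 : φ3 (e k) * b = b ^ m k * φ3 (e k) := by rw [← e1]; group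
      have e3 : (e k)⁻¹ * b ^ m k = b * (e k)⁻¹ := by rw [← heb k]; group
      calc (e k)⁻¹ * φ3 (e k) * b = (e k)⁻¹ * (φ3 (e k) * b) := by group
        _ = (e k)⁻¹ * b ^ m k * φ3 (e k) := by rw [e2]; group
        _ = b * ((e k)⁻¹ * φ3 (e k)) := by rw [e3]; group
    obtain ⟨j, hj⟩ := hCb _ hc
    exact ⟨j, by rw [← hj]; group⟩
  choose j hje using h5
  obtain ⟨τ, hτT, hτa, hτb, hτe⟩ := hrel (φ3 a) j h4a' (by
    intro w hw
    have h := congrArg φ3 (hR w hw)
    rw [map_one] at h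
    rw [← h]
    have h' := map_evalW φ3.toMonoidHom (Fin.cons a e : Fin (n + 1) → G) w
    refine Eq.trans ?_ h'.symm
    congr 1
    funext k
    refine Fin.cases ?_ (fun l => ?_) k
    · simp
    · simp [hje l])
  refine ⟨τ, hτT, ?_⟩
  have h7 : φ3 = τ := by
    have h8 : φ3.toMonoidHom = τ.toMonoidHom := by
      apply MonoidHom.eq_of_eqOn_dense hgen
      intro x hx
      simp only [Set.mem_insert_iff, Set.mem_range] at hx
      rcases hx with rfl | rfl | ⟨k, rfl⟩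
      · exact hτa.symm
      · exact h4b.trans hτb.symm
      · show φ3 (e k) = τ (e k)
        rw [hje k, hτe k]
    ext x
    exact DFunLike.congr_fun h8 x
  rw [h7, mul_inv_cancel]
  exact Subgroup.one_mem _

/-- index two from the coset description -/
theorem card_out_eq_two {G : Type*} [Group G] (τ : MulAut G)
    (hτ : τ ∉ (MulAut.conj : G →* MulAut G).range)
    (h : ∀ φ : MulAut G, ∃ σ ∈ ({1, τ} : Set (MulAut G)),
      φ * σ⁻¹ ∈ (MulAut.conj : G →* MulAut G).range) :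
    Nat.card (MulAut G ⧸ (MulAut.conj : G →* MulAut G).range) = 2 := by
  have h1 : ((MulAut.conj : G →* MulAut G).range).index = 2 := by
    rw [Subgroup.index_eq_two_iff]
    refine ⟨τ⁻¹, fun φ => ?_⟩
    obtain ⟨σ, hσ, hφ⟩ := h φ
    simp only [Set.mem_insert_iff, Set.mem_singleton_iff] at hσ
    rcases hσ with rfl | rfl
    · rw [inv_one, mul_one] at hφ
      refine Or.inr ⟨hφ, fun h2 => ?_⟩
      have h3 := (Subgroup.mul_mem_cancel_left _ hφ).mp h2
      exact hτ (by simpa using Subgroup.inv_mem _ h3)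
    · refine Or.inl ⟨hφ, fun h2 => ?_⟩
      have h3 := (Subgroup.mul_mem_cancel_left _ h2).mp hφ
      exact hτ (by simpa using Subgroup.inv_mem _ h3)
  exact h1

end Cfsg.Agent.Lib.Helper28
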