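import Mathlib

/-!
# Verified Schreier–Sims: the abstract part

A finite group `G₀` acts on `X`.  A *level* consists of a base point `b`, a list `O` of points
(the basic orbit), a transversal `u : X → G₀` and the generators `S'` of the next group of the chain.
`GoodChain S levels` collects the conditions of the Schreier–Sims lemma (all Schreier generators sift
through the chain); `chain_main` derives the order of `closure S` and soundness of sifting.
-/

set_option autoImplicit false

namespace Cfsg.Agent.Lib.Helper28.BSGS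

open MulAction

variable {G₀ : Type*} [Group G₀] {X : Type*} [MulAction G₀ X]

theorem level_step [Finite G₀] [DecidableEq X] (S : Set G₀) (L : Subgroup G₀) (b : X)
    (O : Finset X) (u : X → G₀)
    (hL : L ≤ Subgroup.closure S) (hLb : ∀ l ∈ L, l • b = b)
    (hO : ∀ x ∈ O, ∃ g ∈ Subgroup.closure S, g • b = x)
    (hb : b ∈ O) (hub : u b = 1) (hu : ∀ x ∈ O, u x • b = x)
    (hS : ∀ s ∈ S, ∀ x ∈ O, s • x ∈ O ∧ (u (s • x))⁻¹ * s * u x ∈ L) :
    (∀ g ∈ Subgroup.closure S, g • b ∈ O ∧ (u (g • b))⁻¹ * g ∈ L) ∧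
    (∀ x ∈ O, u x ∈ Subgroup.closure S) ∧
    Nat.card (Subgroup.closure S) = O.card * Nat.card L := by
  have hT1 : (1 : G₀) • b ∈ O ∧ (u ((1 : G₀) • b))⁻¹ * 1 ∈ L := by
    rw [one_smul, hub]
    refine ⟨hb, ?_⟩
    rw [inv_one, one_mul]
    exact L.one_mem
  have hP : ∀ g ∈ Subgroup.closure S, ∀ t : G₀, (t • b ∈ O ∧ (u (t • b))⁻¹ * t ∈ L) →
      ((g * t) • b ∈ O ∧ (u ((g * t) • b))⁻¹ * (g * t) ∈ L) := by
    intro g hg
    induction hg using Subgroup.closure_induction with
    | mem s hs =>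
      intro t ht
      obtain ⟨h1, h2⟩ := hS s hs (t • b) ht.1
      rw [mul_smul]
      refine ⟨h1, ?_⟩
      have h3 : (u (s • t • b))⁻¹ * (s * t) =
          ((u (s • t • b))⁻¹ * s * u (t • b)) * ((u (t • b))⁻¹ * t) := by group
      rw [h3]
      exact L.mul_mem h2 ht.2
    | one => intro t ht; rwa [one_mul]
    | mul g h _ _ ihg ihh =>
      intro t ht
      rw [mul_assoc]
      exact ihg _ (ihh t ht)
    | inv g _ ih =>
      intro t ht
      have hpow : ∀ k : ℕ, ∀ t : G₀, (t • b ∈ O ∧ (u (t • b))⁻¹ * t ∈ L) →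
          ((g ^ k * t) • b ∈ O ∧ (u ((g ^ k * t) • b))⁻¹ * (g ^ k * t) ∈ L) := by
        intro k
        induction k with
        | zero => intro t ht; rwa [pow_zero, one_mul]
        | succ k ihk =>
          intro t ht
          rw [pow_succ, mul_assoc]
          exact ihk _ (ih t ht)
      have hinv : g⁻¹ = g ^ (orderOf g - 1) := by
        apply inv_eq_of_mul_eq_one_right
        rw [← pow_succ', Nat.sub_add_cancel (orderOf_pos g), pow_orderOf_eq_one]
      rw [hinv]
      exact hpow _ t ht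
  have hfirst : ∀ g ∈ Subgroup.closure S, g • b ∈ O ∧ (u (g • b))⁻¹ * g ∈ L := by
    intro g hg
    have := hP g hg 1 hT1
    rwa [mul_one] at this
  have hux : ∀ x ∈ O, u x ∈ Subgroup.closure S := by
    intro x hx
    obtain ⟨g, hg, hgx⟩ := hO x hx
    have h1 := (hfirst g hg).2
    rw [hgx] at h1
    have h2 : u x = g * ((u x)⁻¹ * g)⁻¹ := by group
    rw [h2]
    exact (Subgroup.closure S).mul_mem hg ((Subgroup.closure S).inv_mem (hL h1))
  refine ⟨hfirst, hux, ?_⟩
  let f : {x // x ∈ O} × L → Subgroup.closure S := fun p =>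
    ⟨u p.1.1 * p.2.1, (Subgroup.closure S).mul_mem (hux p.1.1 p.1.2) (hL p.2.2)⟩
  have hinj : Function.Injective f := by
    rintro ⟨⟨x, hx⟩, ⟨l, hl⟩⟩ ⟨⟨y, hy⟩, ⟨l', hl'⟩⟩ hxy
    have h0 : u x * l = u y * l' := congrArg Subtype.val hxy
    have h1 : (u x * l) • b = x := by rw [mul_smul, hLb l hl, hu x hx]
    have h2 : (u y * l') • b = y := by rw [mul_smul, hLb l' hl', hu y hy]
    have hxy' : x = y := by rw [← h1, ← h2, h0]
    subst hxy'
    have hll : l = l' := mul_left_cancel h0
    subst hll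
    rfl
  have hsurj : Function.Surjective f := by
    rintro ⟨g, hg⟩
    obtain ⟨h1, h2⟩ := hfirst g hg
    refine ⟨(⟨g • b, h1⟩, ⟨(u (g • b))⁻¹ * g, h2⟩), ?_⟩
    apply Subtype.ext
    show u (g • b) * ((u (g • b))⁻¹ * g) = g
    rw [mul_inv_cancel_left]
  have hcard := Nat.card_congr (Equiv.ofBijective f ⟨hinj, hsurj⟩)
  rw [← hcard, Nat.card_prod, Nat.card_eq_fintype_card, Fintype.card_coe]

/-- one level of a stabilizer chain -/
structure SLevel (G₀ : Type*) (X : Type*) where
  /-- base point -/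
  b : X
  /-- basic orbit -/
  O : List X
  /-- transversal -/
  u : X → G₀
  /-- generators of the next group -/
  S' : List G₀

/-- semantic sifting through a chain -/
def Sifts : List (SLevel G₀ X) → G₀ → Prop
  | [], h => h = 1
  | lv :: rest, h => h • lv.b ∈ lv.O ∧ Sifts rest ((lv.u (h • lv.b))⁻¹ * h)

/-- the conditions of the Schreier–Sims lemma along a chain -/
def GoodChain : List G₀ → List (SLevel G₀ X) → Prop
  | S, [] => S = []
  | S, lv :: rest =>
      (∀ s ∈ lv.S', s ∈ S ∧ s • lv.b = lv.b) ∧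
      lv.O.Nodup ∧ lv.b ∈ lv.O ∧ lv.u lv.b = 1 ∧ (∀ x ∈ lv.O, lv.u x • lv.b = x) ∧
      (∀ x ∈ lv.O, ∃ g ∈ Subgroup.closure {s | s ∈ S}, g • lv.b = x) ∧
      (∀ s ∈ S, ∀ x ∈ lv.O, Sifts (lv :: rest) (s * lv.u x)) ∧
      GoodChain lv.S' rest

/-- product of the lengths of the basic orbits -/
def chainSize : List (SLevel G₀ X) → ℕ
  | [] => 1
  | lv :: rest => lv.O.length * chainSize rest

theorem chain_main [Finite G₀] : ∀ (levels : List (SLevel G₀ X)) (S : List G₀),
    GoodChain S levels →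
    Nat.card (Subgroup.closure {s | s ∈ S}) = chainSize levels ∧
    ∀ h, Sifts levels h → h ∈ Subgroup.closure {s | s ∈ S} := by
  classical
  intro levels
  induction levels with
  | nil =>
    intro S hS
    have hS' : S = [] := hS
    subst hS'
    have hbot : Subgroup.closure {s : G₀ | s ∈ ([] : List G₀)} = ⊥ := by
      have : {s : G₀ | s ∈ ([] : List G₀)} = ∅ := by
        ext s; simp
      rw [this, Subgroup.closure_empty]
    rw [hbot]
    refine ⟨?_, ?_⟩
    · rw [Subgroup.card_bot]; rfl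
    · intro h hh
      have : h = 1 := hh
      rw [this]; exact Subgroup.one_mem _
  | cons lv rest ih =>
    intro S hS
    obtain ⟨hS', hnd, hb, hub, hu, hO, hsift, hrest⟩ := hS
    obtain ⟨ihcard, ihsift⟩ := ih lv.S' hrest
    have hL : Subgroup.closure {s | s ∈ lv.S'} ≤ Subgroup.closure {s | s ∈ S} :=
      Subgroup.closure_mono (fun s hs => (hS' s hs).1)
    have hLb : ∀ l ∈ Subgroup.closure {s | s ∈ lv.S'}, l • lv.b = lv.b := by
      intro l hl
      have hle : Subgroup.closure {s | s ∈ lv.S'} ≤ stabilizer G₀ lv.b := by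
        rw [Subgroup.closure_le]
        intro s hs
        exact mem_stabilizer_iff.mpr (hS' s hs).2
      exact mem_stabilizer_iff.mp (hle hl)
    have hstep := level_step {s | s ∈ S} (Subgroup.closure {s | s ∈ lv.S'}) lv.b lv.O.toFinset lv.u
      hL hLb (fun x hx => hO x (List.mem_toFinset.mp hx)) (List.mem_toFinset.mpr hb) hub
      (fun x hx => hu x (List.mem_toFinset.mp hx))
      (by
        intro s hs x hx
        have hx' := List.mem_toFinset.mp hx
        have h1 := hsift s hs x hx'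
        obtain ⟨h2, h3⟩ := h1
        rw [mul_smul, hu x hx'] at h2 h3
        refine ⟨List.mem_toFinset.mpr h2, ?_⟩
        have h4 := ihsift _ h3
        rwa [← mul_assoc] at h4)
    obtain ⟨hfirst, hux, hcard⟩ := hstep
    refine ⟨?_, ?_⟩
    · rw [hcard, ihcard, List.toFinset_card_of_nodup hnd]
      rfl
    · intro h hh
      obtain ⟨h1, h2⟩ := hh
      have h3 := hL (ihsift _ h2)
      have h4 := hux _ (List.mem_toFinset.mpr h1)
      have h5 : h = lv.u (h • lv.b) * ((lv.u (h • lv.b))⁻¹ * h) := by group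
      rw [h5]
      exact Subgroup.mul_mem _ h4 h3

/-- the stabilizer of the first base point is generated by the next generators -/
theorem chain_stab [Finite G₀] (lv : SLevel G₀ X) (rest : List (SLevel G₀ X)) (S : List G₀)
    (hS : GoodChain S (lv :: rest)) :
    ∀ g ∈ Subgroup.closure {s | s ∈ S}, g • lv.b = lv.b → g ∈ Subgroup.closure {s | s ∈ lv.S'} := by
  classical
  obtain ⟨hS', hnd, hb, hub, hu, hO, hsift, hrest⟩ := hS
  obtain ⟨ihcard, ihsift⟩ := chain_main rest lv.S' hrest
  have hL : Subgroup.closure {s | s ∈ lv.S'} ≤ Subgroup.closure {s | s ∈ S} :=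
    Subgroup.closure_mono (fun s hs => (hS' s hs).1)
  have hLb : ∀ l ∈ Subgroup.closure {s | s ∈ lv.S'}, l • lv.b = lv.b := by
    intro l hl
    have hle : Subgroup.closure {s | s ∈ lv.S'} ≤ stabilizer G₀ lv.b := by
      rw [Subgroup.closure_le]
      intro s hs
      exact mem_stabilizer_iff.mpr (hS' s hs).2
    exact mem_stabilizer_iff.mp (hle hl)
  have hstep := level_step {s | s ∈ S} (Subgroup.closure {s | s ∈ lv.S'}) lv.b lv.O.toFinset lv.u
    hL hLb (fun x hx => hO x (List.mem_toFinset.mp hx)) (List.mem_toFinset.mpr hb) hub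
    (fun x hx => hu x (List.mem_toFinset.mp hx))
    (by
      intro s hs x hx
      have hx' := List.mem_toFinset.mp hx
      have h1 := hsift s hs x hx'
      obtain ⟨h2, h3⟩ := h1
      rw [mul_smul, hu x hx'] at h2 h3
      refine ⟨List.mem_toFinset.mpr h2, ?_⟩
      have h4 := ihsift _ h3
      rwa [← mul_assoc] at h4)
  intro g hg hgb
  have h1 := (hstep.1 g hg).2
  rw [hgb, hub, inv_one, one_mul] at h1
  exact h1

/-- reachability along a breadth-first list -/
theorem reach_of_steps (S : Set G₀) (b : X) (R : X → Prop)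
    (hR : ∀ x, R x ↔ ∃ g ∈ Subgroup.closure S, g • b = x) :
    R b ∧ ∀ s ∈ S, ∀ x, R x → R (s • x) := by
  constructor
  · rw [hR]; exact ⟨1, Subgroup.one_mem _, one_smul _ _⟩
  · intro s hs x hx
    rw [hR] at hx ⊢
    obtain ⟨g, hg, rfl⟩ := hx
    exact ⟨s * g, Subgroup.mul_mem _ (Subgroup.subset_closure hs) hg, mul_smul _ _ _⟩

end Cfsg.Agent.Lib.Helper28.BSGS
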