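import Cfsg.Agent.Lib.Helper28.BSGSCore

/-!
# Verified Schreier–Sims: chains whose next generators lie in the group generated so far

A variant of `GoodChain`: the generators of the next group of the chain are only required to lie in
the subgroup generated by the present generators (and to fix the base point).
-/

set_option autoImplicit false

namespace Cfsg.Agent.Lib.Helper28.BSGS

open MulAction

variable {G₀ : Type*} [Group G₀] {X : Type*} [MulAction G₀ X]

/-- the conditions of the Schreier–Sims lemma along a chain -/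
def GoodChainW : List G₀ → List (SLevel G₀ X) → Prop
  | S, [] => S = []
  | S, lv :: rest =>
      (∀ s ∈ lv.S', s ∈ Subgroup.closure {t | t ∈ S} ∧ s • lv.b = lv.b) ∧
      lv.O.Nodup ∧ lv.b ∈ lv.O ∧ lv.u lv.b = 1 ∧ (∀ x ∈ lv.O, lv.u x • lv.b = x) ∧
      (∀ x ∈ lv.O, ∃ g ∈ Subgroup.closure {s | s ∈ S}, g • lv.b = x) ∧
      (∀ s ∈ S, ∀ x ∈ lv.O, Sifts (lv :: rest) (s * lv.u x)) ∧
      GoodChainW lv.S' rest

theorem chain_mainW [Finite G₀] : ∀ (levels : List (SLevel G₀ X)) (S : List G₀),
    GoodChainW S levels →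
    (Nat.card (Subgroup.closure {s | s ∈ S}) = chainSize levels ∧
    ∀ h, Sifts levels h → h ∈ Subgroup.closure {s | s ∈ S}) ∧
    ∀ g ∈ Subgroup.closure {s | s ∈ S}, Sifts levels g := by
  classical
  intro levels
  induction levels with
  | nil =>
    intro S hS
    have hS' : S = [] := hS
    subst hS'
    have hbot : Subgroup.closure {s : G₀ | s ∈ ([] : List G₀)} = ⊥ := by
      have : {s : G₀ | s ∈ ([] : List G₀)} = ∅ := by
        ext s; simp
      rw [this, Subgroup.closure_empty]
    rw [hbot]
    refine ⟨⟨?_, ?_⟩, ?_⟩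
    · rw [Subgroup.card_bot]; rfl
    · intro h hh
      have : h = 1 := hh
      rw [this]; exact Subgroup.one_mem _
    · intro g hg
      rw [Subgroup.mem_bot] at hg
      exact hg
  | cons lv rest ih =>
    intro S hS
    obtain ⟨hS', hnd, hb, hub, hu, hO, hsift, hrest⟩ := hS
    obtain ⟨⟨ihcard, ihsift⟩, ihcomp⟩ := ih lv.S' hrest
    have hL : Subgroup.closure {s | s ∈ lv.S'} ≤ Subgroup.closure {s | s ∈ S} := by
      rw [Subgroup.closure_le]
      intro s hs
      exact (hS' s hs).1
    have hLb : ∀ l ∈ Subgroup.closure {s | s ∈ lv.S'}, l • lv.b = lv.b := by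
      intro l hl
      have hle : Subgroup.closure {s | s ∈ lv.S'} ≤ stabilizer G₀ lv.b := by
        rw [Subgroup.closure_le]
        intro s hs
        exact mem_stabilizer_iff.mpr (hS' s hs).2
      exact mem_stabilizer_iff.mp (hle hl)
    have hstep := level_step {s | s ∈ S} (Subgroup.closure {s | s ∈ lv.S'}) lv.b lv.O.toFinset lv.u
      hL hLb (fun x hx => hO x (List.mem_toFinset.mp hx)) (List.mem_toFinset.mpr hb) hub
      (fun x hx => hu x (List.mem_toFinset.mp hx))
      (by
        intro s hs x hx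
        have hx' := List.mem_toFinset.mp hx
        have h1 := hsift s hs x hx'
        obtain ⟨h2, h3⟩ := h1
        rw [mul_smul, hu x hx'] at h2 h3
        refine ⟨List.mem_toFinset.mpr h2, ?_⟩
        have h4 := ihsift _ h3
        rwa [← mul_assoc] at h4)
    obtain ⟨hfirst, hux, hcard⟩ := hstep
    refine ⟨⟨?_, ?_⟩, ?_⟩
    · rw [hcard, ihcard, List.toFinset_card_of_nodup hnd]
      rfl
    · intro h hh
      obtain ⟨h1, h2⟩ := hh
      have h3 := hL (ihsift _ h2)
      have h4 := hux _ (List.mem_toFinset.mpr h1)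
      have h5 : h = lv.u (h • lv.b) * ((lv.u (h • lv.b))⁻¹ * h) := by group
      rw [h5]
      exact Subgroup.mul_mem _ h4 h3
    · intro g hg
      obtain ⟨h1, h2⟩ := hfirst g hg
      exact ⟨List.mem_toFinset.mp h1, ihcomp _ h2⟩

/-- the stabilizer of the first base point is generated by the next generators -/
theorem chain_stabW [Finite G₀] (lv : SLevel G₀ X) (rest : List (SLevel G₀ X)) (S : List G₀)
    (hS : GoodChainW S (lv :: rest)) :
    ∀ g ∈ Subgroup.closure {s | s ∈ S}, g • lv.b = lv.b → g ∈ Subgroup.closure {s | s ∈ lv.S'} := by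
  intro g hg hgb
  have hcomp := (chain_mainW (lv :: rest) S hS).2 g hg
  obtain ⟨hS', hnd, hb, hub, hu, hO, hsift, hrest⟩ := hS
  obtain ⟨_, h2⟩ := hcomp
  rw [hgb, hub, inv_one, one_mul] at h2
  exact ((chain_mainW rest lv.S' hrest).1).2 g h2

end Cfsg.Agent.Lib.Helper28.BSGS
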