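import Cfsg.Agent.Lib.Helper28.F4Vec
import Cfsg.Agent.Lib.Helper28.BSGSCoreW
import Cfsg.Agent.Lib.Helper28.BSGSMat

/-!
# Verified Schreier–Sims for subgroups of `GL₉(4)`

Matrices are stored as numbers: the low 162 bits are the nine columns of the matrix, the next 162
bits the columns of its inverse.  Points are packed vectors, transversals are kept in binary search
trees.  `ChainOK` collects the Boolean certificates; `mat_main` derives the order of the generated
group and the soundness of sifting.  Sifting is done in product form: the images of the base points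
determine transversal elements `u₁, …, uₖ`, and at the end `g = u₁ ⋯ uₖ` is checked on the basis.
-/

set_option autoImplicit false

namespace Cfsg.Agent.Lib.Helper28.F4

open MulAction Cfsg.Agent.Lib.Helper28.BSGS Cfsg.Spor
open Cfsg.Agent.Lib.Helper28.BSGSMat (Tree Entry sortedB sortedB_nodup)
open scoped MatrixGroups

/-- image of a vector under a word of matrices (the last matrix acts first) -/
def evalW (ws : List ℕ) (v : ℕ) : ℕ := ws.foldr (fun c v => mv (decM c) v) v

theorem evalW_cons (c : ℕ) (ws : List ℕ) (v : ℕ) :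
    evalW (c :: ws) v = mv (decM c) (evalW ws v) := rfl

theorem evalW_append (ws ws' : List ℕ) (v : ℕ) :
    evalW (ws ++ ws') v = evalW ws (evalW ws' v) := by
  unfold evalW
  rw [List.foldr_append]

/-- image of a basis vector under a word: the innermost product is a column -/
def evalC : List ℕ → ℕ → ℕ
  | [], k => Nat.shiftLeft 1 k
  | [c], k => col c k
  | c :: c' :: ws, k => mv (decM c) (evalC (c' :: ws) k)

/-- two words agree on the standard basis -/
def wordEqB (ws ws' : List ℕ) : Bool :=
  [0, 1, 2, 3, 4, 5, 6, 7, 8].all fun k => Nat.beq (key (evalC ws k)) (key (evalC ws' k))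

/-- the code of the inverse -/
def inv (c : ℕ) : ℕ := Nat.shiftRight c 162

/-- the code describes an invertible matrix -/
def invOK (c : ℕ) : Bool := wordEqB [c, inv c] []

section sem
variable {F : Type*} [Field F] {ω : F} [hd : Data F ω]

/-- the product of the matrices of a word -/
def wprod (ω : F) (ws : List ℕ) : Matrix F9 F9 F := (ws.map (matOf ω)).prod

omit hd in
theorem wprod_nil : wprod ω [] = 1 := rfl

omit hd in
theorem wprod_cons (c : ℕ) (ws : List ℕ) : wprod ω (c :: ws) = matOf ω c * wprod ω ws := by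
  unfold wprod
  rw [List.map_cons, List.prod_cons]

omit hd in
theorem wprod_append (ws ws' : List ℕ) : wprod ω (ws ++ ws') = wprod ω ws * wprod ω ws' := by
  unfold wprod
  rw [List.map_append, List.prod_append]

theorem ofV_evalW (ws : List ℕ) (v : ℕ) :
    ofV ω (evalW ws v) = Matrix.mulVec (wprod ω ws) (ofV ω v) := by
  induction ws with
  | nil => rw [wprod_nil, Matrix.one_mulVec]; rfl
  | cons c ws ih =>
    rw [evalW_cons, ← mulVec_ofV, ih, wprod_cons, Matrix.mulVec_mulVec]

theorem ofV_evalC (ws : List ℕ) (z : F9) :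
    ofV ω (evalC ws (idx z)) = Matrix.mulVec (wprod ω ws) (ofV ω (2 ^ idx z)) := by
  induction ws with
  | nil =>
    rw [wprod_nil, Matrix.one_mulVec]
    show ofV ω (1 <<< idx z) = _
    rw [Nat.one_shiftLeft]
  | cons c ws ih =>
    cases ws with
    | nil =>
      rw [wprod_cons, wprod_nil, mul_one, ofV_bas, Matrix.mulVec_single_one]
      rfl
    | cons c' ws' =>
      show ofV ω (mv (decM c) (evalC (c' :: ws') (idx z))) = _
      rw [← mulVec_ofV, ih, wprod_cons c, Matrix.mulVec_mulVec]

theorem idx_mem (z : F9) : idx z ∈ [0, 1, 2, 3, 4, 5, 6, 7, 8] := by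
  revert z
  decide

theorem wordEqB_spec {ws ws' : List ℕ} (h : wordEqB ws ws' = true) :
    wprod ω ws = wprod ω ws' := by
  unfold wordEqB at h
  rw [List.all_eq_true] at h
  apply mat_eq_of_basis (ω := ω)
  intro z
  rw [← ofV_evalC, ← ofV_evalC]
  exact ofV_eq_of_key (Nat.eq_of_beq_eq_true (h _ (idx_mem z)))

theorem wordEqB_of_eq {ws ws' : List ℕ} (h : wprod ω ws = wprod ω ws') :
    wordEqB ws ws' = true := by
  unfold wordEqB
  rw [List.all_eq_true]
  intro k hk
  have hk9 : k < 9 := by
    simp only [List.mem_cons, List.not_mem_nil, or_false] at hk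
    omega
  obtain ⟨z, rfl⟩ := idx_surj k hk9
  have h1 : key (evalC ws (idx z)) = key (evalC ws' (idx z)) := by
    apply key_eq_of_ofV (ω := ω)
    rw [ofV_evalC, ofV_evalC, h]
  rw [h1]
  exact Nat.beq_refl _

/-- `g` is the product of the matrices of the word `ws` -/
def ActsBy (ω : F) (g : GL F9 F) (ws : List ℕ) : Prop := (g : Matrix F9 F9 F) = wprod ω ws

omit hd in
theorem actsBy_one : ActsBy ω 1 [] := rfl

omit hd in
theorem actsBy_append {g h : GL F9 F} {ws ws' : List ℕ} (hg : ActsBy ω g ws)
    (hh : ActsBy ω h ws') : ActsBy ω (g * h) (ws ++ ws') := by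
  unfold ActsBy at *
  rw [Units.val_mul, hg, hh, wprod_append]

omit hd in
theorem actsBy_cons {g h : GL F9 F} {c : ℕ} {ws : List ℕ} (hg : ActsBy ω g [c])
    (hh : ActsBy ω h ws) : ActsBy ω (g * h) (c :: ws) :=
  actsBy_append hg hh

omit hd in
theorem actsBy_pow {g : GL F9 F} {c : ℕ} (hg : ActsBy ω g [c]) (k : ℕ) :
    ActsBy ω (g ^ k) (List.replicate k c) := by
  induction k with
  | zero => rw [pow_zero]; exact actsBy_one
  | succ k ih =>
    rw [pow_succ', List.replicate_succ]
    exact actsBy_cons hg ih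

theorem actsBy_smul {g : GL F9 F} {ws : List ℕ} (hg : ActsBy ω g ws) (v : ℕ) :
    g • ofV ω v = ofV ω (evalW ws v) := by
  rw [gl_smul, hg, ofV_evalW]

theorem eq_of_wordEqB {g h : GL F9 F} {ws ws' : List ℕ} (hg : ActsBy ω g ws)
    (hh : ActsBy ω h ws') (he : wordEqB ws ws' = true) : g = h := by
  apply Units.ext
  rw [hg, hh, wordEqB_spec he]

theorem eq_one_of_wordEqB {g : GL F9 F} {ws : List ℕ} (hg : ActsBy ω g ws)
    (he : wordEqB ws [] = true) : g = 1 :=
  eq_of_wordEqB hg actsBy_one he

theorem wordEqB_of_acts {g : GL F9 F} {ws ws' : List ℕ} (hg : ActsBy ω g ws)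
    (hh : ActsBy ω g ws') : wordEqB ws ws' = true := by
  apply wordEqB_of_eq (ω := ω)
  rw [← hg, ← hh]

theorem invOK_spec {c : ℕ} (h : invOK c = true) : matOf ω c * matOf ω (inv c) = 1 := by
  have := wordEqB_spec (ω := ω) h
  rwa [wprod_cons, wprod_cons, wprod_nil, mul_one] at this

/-- the element of `GL₉(F)` of a code -/
noncomputable def glOf (ω : F) [Data F ω] (c : ℕ) : GL F9 F :=
  if h : invOK c = true then
    ⟨matOf ω c, matOf ω (inv c), invOK_spec h, mul_eq_one_comm.mp (invOK_spec h)⟩
  else 1

theorem glOf_acts {c : ℕ} (h : invOK c = true) : ActsBy ω (glOf ω c) [c] := by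
  unfold ActsBy glOf
  rw [dif_pos h, wprod_cons, wprod_nil, mul_one]

theorem glOf_inv_acts {c : ℕ} (h : invOK c = true) : ActsBy ω (glOf ω c)⁻¹ [inv c] := by
  unfold ActsBy glOf
  rw [dif_pos h, wprod_cons, wprod_nil, mul_one]
  rfl

theorem glOf_val {c : ℕ} (h : invOK c = true) :
    ((glOf ω c : GL F9 F) : Matrix F9 F9 F) = matOf ω c := by
  have := glOf_acts (ω := ω) h
  unfold ActsBy at this
  rwa [wprod_cons, wprod_nil, mul_one] at this

theorem glOf_smul {c : ℕ} (h : invOK c = true) (k : ℕ) :
    glOf ω c • ofV ω k = ofV ω (mv (decM c) k) :=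
  actsBy_smul (glOf_acts h) k

/-! ### chains -/

/-- a level: base point, transversal, and the generators of the next group with their words in the
present generators -/
abbrev CLevel := ℕ × Tree × List (ℕ × List ℕ)

/-- Boolean sifting of a word through the chain, in product form -/
def siftP : List CLevel → List ℕ → List ℕ → List ℕ → Bool
  | [], ws, _, us => wordEqB ws us
  | lv :: rest, ws, acc, us =>
      match lv.2.1.lookup (key (evalW acc (evalW ws lv.1))) with
      | none => false
      | some e => siftP rest ws (inv e.2.1 :: acc) (us ++ [e.2.1])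

/-- transversal element of a point -/
noncomputable def semU (ω : F) [Data F ω] (T : Tree) (x : F9 → F) : GL F9 F :=
  match T.lookup (toKey ω x) with
  | none => 1
  | some e => glOf ω e.2.1

/-- the group elements of a list of codes -/
noncomputable def semGens (ω : F) [Data F ω] (gens : List ℕ) : List (GL F9 F) :=
  gens.map (glOf ω)

/-- the semantic level of a code level -/
noncomputable def semLevel (ω : F) [Data F ω] (lv : CLevel) : SLevel (GL F9 F) (F9 → F) where
  b := ofV ω lv.1
  O := lv.2.1.toList.map fun e => ofV ω e.1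
  u := semU ω lv.2.1
  S' := semGens ω (lv.2.2.map fun ng => ng.1)

/-- the semantic chain -/
noncomputable def semLevels (ω : F) [Data F ω] (levels : List CLevel) :
    List (SLevel (GL F9 F) (F9 → F)) :=
  levels.map (semLevel ω)

/-- a transversal entry is valid, maps the base point to its point, and is found in the tree -/
def entryOK (b : ℕ) (T : Tree) (e : Entry) : Bool :=
  Nat.blt e.1 262144 && invOK e.2.1 && Nat.beq (key (mv (decM e.2.1) b)) e.1 &&
  (T.lookup e.1).isSome

/-- the entry of the base point is the identity -/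
def headOK (b : ℕ) (T : Tree) : Bool :=
  match T.lookup b with
  | none => false
  | some e => wordEqB [e.2.1] []

/-- the parent of an entry is one level higher and is mapped to the entry by a generator -/
def reachOK (gens : List ℕ) (b : ℕ) (T : Tree) (e : Entry) : Bool :=
  Nat.beq e.1 b || (match T.lookup e.2.2.2 with
    | none => false
    | some e' => Nat.beq (Nat.succ e'.2.2.1) e.2.2.1 &&
        gens.any fun g => Nat.beq (key (mv (decM g) e'.1)) e.1)

/-- all conditions on one entry -/
def entryAll (gens : List ℕ) (lv : CLevel) (rest : List CLevel) (e : Entry) : Bool :=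
  entryOK lv.1 lv.2.1 e && reachOK gens lv.1 lv.2.1 e &&
  gens.all fun g => siftP (lv :: rest) [g, e.2.1] [] []

/-- the matrices of a word in the generators -/
def wordOf (gens : List ℕ) (w : List ℕ) : List ℕ := w.map fun i => gens.getD i 0

/-- a generator of the next group is valid, fixes the base point and is a word in the present
generators -/
def nextOK (gens : List ℕ) (b : ℕ) (ng : ℕ × List ℕ) : Bool :=
  invOK ng.1 && Nat.beq (key (mv (decM ng.1) b)) b &&
  (ng.2.all fun i => Nat.blt i gens.length) && wordEqB [ng.1] (wordOf gens ng.2)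

/-- all conditions at one level -/
def LevelOK (gens : List ℕ) (lv : CLevel) (rest : List CLevel) : Prop :=
  lv.1 < 262144 ∧ headOK lv.1 lv.2.1 = true ∧
  sortedB (lv.2.1.toList.map fun e => e.1) = true ∧
  (∀ e ∈ lv.2.1.toList, entryAll gens lv rest e = true) ∧
  (∀ ng ∈ lv.2.2, nextOK gens lv.1 ng = true)

/-- the certificate of a chain -/
def ChainOK : List ℕ → List CLevel → Prop
  | gens, [] => gens = []
  | gens, lv :: rest => LevelOK gens lv rest ∧ ChainOK (lv.2.2.map fun ng => ng.1) rest

/-- product of the orbit lengths -/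
def codeSize : List CLevel → ℕ
  | [] => 1
  | lv :: rest => lv.2.1.toList.length * codeSize rest

/-- well-formed levels -/
def LevelsWF (levels : List CLevel) : Prop :=
  ∀ lv ∈ levels, lv.1 < 262144 ∧ ∀ e ∈ lv.2.1.toList, e.1 < 262144 ∧ invOK e.2.1 = true

theorem entryOK_spec {b : ℕ} {T : Tree} {e : Entry} (h : entryOK b T e = true) :
    e.1 < 262144 ∧ invOK e.2.1 = true ∧ key (mv (decM e.2.1) b) = e.1 ∧
    ∃ e', T.lookup e.1 = some e' := by
  unfold entryOK at h
  simp only [Bool.and_eq_true] at h
  obtain ⟨⟨⟨h1, h2⟩, h3⟩, h4⟩ := h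
  refine ⟨?_, h2, Nat.eq_of_beq_eq_true h3, ?_⟩
  · rw [Nat.blt_eq] at h1; exact h1
  · exact Option.isSome_iff_exists.mp h4

theorem entryAll_spec {gens : List ℕ} {lv : CLevel} {rest : List CLevel} {e : Entry}
    (h : entryAll gens lv rest e = true) :
    entryOK lv.1 lv.2.1 e = true ∧ reachOK gens lv.1 lv.2.1 e = true ∧
    ∀ g ∈ gens, siftP (lv :: rest) [g, e.2.1] [] [] = true := by
  unfold entryAll at h
  simp only [Bool.and_eq_true, List.all_eq_true] at h
  exact ⟨h.1.1, h.1.2, h.2⟩

theorem chainOK_wf : ∀ (levels : List CLevel) (gens : List ℕ),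
    ChainOK gens levels → LevelsWF levels := by
  intro levels
  induction levels with
  | nil => intro gens _ lv hlv; simp at hlv
  | cons lv rest ih =>
    intro gens h lv' hlv'
    obtain ⟨h1, h2⟩ := h
    rcases List.mem_cons.mp hlv' with rfl | hmem
    · obtain ⟨k1, _, _, k4, _⟩ := h1
      refine ⟨k1, fun e he => ?_⟩
      obtain ⟨e1, e2, _⟩ := entryOK_spec (entryAll_spec (k4 e he)).1
      exact ⟨e1, e2⟩
    · exact ih _ h2 lv' hmem

theorem siftP_sound : ∀ (levels : List CLevel) (ws acc us : List ℕ) (h r p : GL F9 F),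
    LevelsWF levels → ActsBy ω h ws → ActsBy ω r (acc ++ ws) → ActsBy ω p us → h = p * r →
    siftP levels ws acc us = true → Sifts (semLevels ω levels) r := by
  intro levels
  induction levels with
  | nil =>
    intro ws acc us h r p _ hh _ hp hpr hs
    show r = 1
    unfold siftP at hs
    have h1 : h = p := eq_of_wordEqB hh hp hs
    rw [h1] at hpr
    have h2 : p * r = p * 1 := by rw [mul_one]; exact hpr.symm
    exact mul_left_cancel h2
  | cons lv rest ih =>
    intro ws acc us h r p hwf hh hr hp hpr hs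
    have hlv := hwf lv List.mem_cons_self
    have hwf' : LevelsWF rest := fun lv' hlv' => hwf lv' (List.mem_cons_of_mem _ hlv')
    unfold siftP at hs
    have hb : r • ofV ω lv.1 = ofV ω (key (evalW acc (evalW ws lv.1))) := by
      rw [ofV_key, ← evalW_append]
      exact actsBy_smul hr lv.1
    cases hf : lv.2.1.lookup (key (evalW acc (evalW ws lv.1))) with
    | none => rw [hf] at hs; simp at hs
    | some e =>
      rw [hf] at hs
      obtain ⟨he, hey⟩ := Tree.lookup_some _ hf
      obtain ⟨he1, he2⟩ := hlv.2 e he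
      have hpt : r • ofV ω lv.1 = ofV ω e.1 := by rw [hb, hey]
      show r • ofV ω lv.1 ∈ (lv.2.1.toList.map fun e => ofV ω e.1) ∧
        Sifts (semLevels ω rest) ((semU ω lv.2.1 (r • ofV ω lv.1))⁻¹ * r)
      rw [hpt]
      refine ⟨List.mem_map.mpr ⟨e, he, rfl⟩, ?_⟩
      have hu : semU ω lv.2.1 (ofV ω e.1) = glOf ω e.2.1 := by
        unfold semU
        rw [toKey_ofV he1, hey, hf]
      rw [hu]
      apply ih ws (inv e.2.1 :: acc) (us ++ [e.2.1]) h _ (p * glOf ω e.2.1) hwf' hh _ _ _ hs
      · exact actsBy_cons (glOf_inv_acts he2) hr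
      · exact actsBy_append hp (glOf_acts he2)
      · rw [hpr]; group

theorem mem_semGens {gens : List ℕ} {g : ℕ} (hg : g ∈ gens) : glOf ω g ∈ semGens ω gens :=
  List.mem_map.mpr ⟨g, hg, rfl⟩

theorem reach_sound (gens : List ℕ) (hg : ∀ g ∈ gens, invOK g = true) (b : ℕ) (T : Tree)
    (hr : ∀ e ∈ T.toList, reachOK gens b T e = true) :
    ∀ (d : ℕ) (e : Entry), e ∈ T.toList → e.2.2.1 = d →
      ∃ g ∈ Subgroup.closure {s | s ∈ semGens ω gens}, g • ofV ω b = ofV ω e.1 := by
  have step : ∀ (d : ℕ) (e : Entry), e ∈ T.toList → e.2.2.1 = d →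
      (∀ e' : Entry, e' ∈ T.toList → Nat.succ e'.2.2.1 = d →
        ∃ g ∈ Subgroup.closure {s | s ∈ semGens ω gens}, g • ofV ω b = ofV ω e'.1) →
      ∃ g ∈ Subgroup.closure {s | s ∈ semGens ω gens}, g • ofV ω b = ofV ω e.1 := by
    intro d e he hd ih
    have h1 := hr e he
    unfold reachOK at h1
    rw [Bool.or_eq_true] at h1
    rcases h1 with h1 | h1
    · refine ⟨1, Subgroup.one_mem _, ?_⟩
      rw [one_smul, Nat.eq_of_beq_eq_true h1]
    · cases hf : T.lookup e.2.2.2 with
      | none => rw [hf] at h1; simp at h1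
      | some e' =>
        rw [hf] at h1
        simp only [Bool.and_eq_true] at h1
        obtain ⟨h2, h3⟩ := h1
        have h2' : Nat.succ e'.2.2.1 = e.2.2.1 := Nat.eq_of_beq_eq_true h2
        obtain ⟨g', hg', hgb⟩ := ih e' (Tree.lookup_some _ hf).1 (h2'.trans hd)
        rw [List.any_eq_true] at h3
        obtain ⟨g, hgm, h4⟩ := h3
        refine ⟨glOf ω g * g', Subgroup.mul_mem _ (Subgroup.subset_closure (mem_semGens hgm)) hg', ?_⟩
        rw [mul_smul, hgb, glOf_smul (hg g hgm), ← ofV_key, Nat.eq_of_beq_eq_true h4]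
  intro d
  induction d with
  | zero =>
    intro e he hd
    apply step 0 e he hd
    intro e' _ h
    exact absurd h (Nat.succ_ne_zero _)
  | succ d ih =>
    intro e he hd
    apply step (d + 1) e he hd
    intro e' he' h
    exact ih e' he' (Nat.succ.inj h)

/-- the transversal element of a listed point is the element of an entry with the same key -/
theorem semU_spec {b : ℕ} {T : Tree} (k3 : ∀ e ∈ T.toList, entryOK b T e = true) :
    ∀ e ∈ T.toList, ∃ e' ∈ T.toList, e'.1 = e.1 ∧ semU ω T (ofV ω e.1) = glOf ω e'.2.1 := by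
  intro e he
  obtain ⟨e1, _, _, e', he'⟩ := entryOK_spec (k3 e he)
  obtain ⟨m1, m2⟩ := Tree.lookup_some _ he'
  refine ⟨e', m1, m2, ?_⟩
  unfold semU
  rw [toKey_ofV e1, he']

/-- the group element of a word in the generators -/
noncomputable def wordGL (ω : F) [Data F ω] (gens : List ℕ) (w : List ℕ) : GL F9 F :=
  (w.map fun i => glOf ω (gens.getD i 0)).prod

theorem wordGL_acts (gens : List ℕ) (hg : ∀ g ∈ gens, invOK g = true) :
    ∀ w : List ℕ, (∀ i ∈ w, i < gens.length) → ActsBy ω (wordGL ω gens w) (wordOf gens w) := by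
  intro w
  induction w with
  | nil => intro _; exact actsBy_one
  | cons i w ih =>
    intro hw
    have hi : i < gens.length := hw i List.mem_cons_self
    have hmem : gens.getD i 0 ∈ gens := by
      rw [List.getD_eq_getElem _ _ hi]
      exact List.getElem_mem hi
    show ActsBy ω (glOf ω (gens.getD i 0) * wordGL ω gens w) (gens.getD i 0 :: wordOf gens w)
    exact actsBy_cons (glOf_acts (hg _ hmem)) (ih fun j hj => hw j (List.mem_cons_of_mem _ hj))

theorem wordGL_mem (gens : List ℕ) :
    ∀ w : List ℕ, (∀ i ∈ w, i < gens.length) →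
      wordGL ω gens w ∈ Subgroup.closure {s | s ∈ semGens ω gens} := by
  intro w
  induction w with
  | nil => intro _; exact Subgroup.one_mem _
  | cons i w ih =>
    intro hw
    have hi : i < gens.length := hw i List.mem_cons_self
    have hmem : gens.getD i 0 ∈ gens := by
      rw [List.getD_eq_getElem _ _ hi]
      exact List.getElem_mem hi
    show glOf ω (gens.getD i 0) * wordGL ω gens w ∈ _
    exact Subgroup.mul_mem _ (Subgroup.subset_closure (mem_semGens hmem))
      (ih fun j hj => hw j (List.mem_cons_of_mem _ hj))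

theorem nextOK_spec (gens : List ℕ) (hg : ∀ g ∈ gens, invOK g = true) (b : ℕ)
    (ng : ℕ × List ℕ) (h : nextOK gens b ng = true) :
    invOK ng.1 = true ∧ glOf ω ng.1 ∈ Subgroup.closure {s | s ∈ semGens ω gens} ∧
      glOf ω ng.1 • ofV ω b = ofV ω b := by
  unfold nextOK at h
  simp only [Bool.and_eq_true, List.all_eq_true] at h
  obtain ⟨⟨⟨h1, h2⟩, h3⟩, h4⟩ := h
  have hw : ∀ i ∈ ng.2, i < gens.length := by
    intro i hi
    have := h3 i hi
    rwa [Nat.blt_eq] at this
  refine ⟨h1, ?_, ?_⟩
  · have : glOf ω ng.1 = wordGL ω gens ng.2 :=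
      eq_of_wordEqB (glOf_acts h1) (wordGL_acts gens hg ng.2 hw) h4
    rw [this]
    exact wordGL_mem gens ng.2 hw
  · rw [glOf_smul h1, ← ofV_key, Nat.eq_of_beq_eq_true h2]

theorem chainOK_sound : ∀ (levels : List CLevel) (gens : List ℕ),
    (∀ g ∈ gens, invOK g = true) → ChainOK gens levels →
    GoodChainW (semGens ω gens) (semLevels ω levels) := by
  intro levels
  induction levels with
  | nil =>
    intro gens _ h
    show semGens ω gens = []
    have : gens = [] := h
    rw [this]; rfl
  | cons lv rest ih =>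
    intro gens hg h
    have hwf := chainOK_wf _ _ h
    obtain ⟨h1, h2⟩ := h
    obtain ⟨k1, k2, k4, kall, knext⟩ := h1
    have k3 : ∀ e ∈ lv.2.1.toList, entryOK lv.1 lv.2.1 e = true :=
      fun e he => (entryAll_spec (kall e he)).1
    have k5 : ∀ e ∈ lv.2.1.toList, reachOK gens lv.1 lv.2.1 e = true :=
      fun e he => (entryAll_spec (kall e he)).2.1
    have k6 : ∀ g ∈ gens, ∀ e ∈ lv.2.1.toList, siftP (lv :: rest) [g, e.2.1] [] [] = true :=
      fun g hgm e he => (entryAll_spec (kall e he)).2.2 g hgm
    have hsemU := semU_spec (ω := ω) k3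
    -- the head entry
    obtain ⟨e0, hf0⟩ : ∃ e0, lv.2.1.lookup lv.1 = some e0 := by
      unfold headOK at k2
      cases hl : lv.2.1.lookup lv.1 with
      | none => rw [hl] at k2; simp at k2
      | some e0 => exact ⟨e0, rfl⟩
    have hid0 : wordEqB [e0.2.1] [] = true := by
      unfold headOK at k2
      rw [hf0] at k2
      exact k2
    obtain ⟨he0, he0b⟩ := Tree.lookup_some _ hf0
    have hnextvalid : ∀ g ∈ (lv.2.2.map fun ng => ng.1), invOK g = true := by
      intro g hgm
      rw [List.mem_map] at hgm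
      obtain ⟨ng, hng, rfl⟩ := hgm
      exact (nextOK_spec (ω := ω) gens hg lv.1 ng (knext ng hng)).1
    show (∀ s ∈ semGens ω (lv.2.2.map fun ng => ng.1),
        s ∈ Subgroup.closure {t | t ∈ semGens ω gens} ∧ s • ofV ω lv.1 = ofV ω lv.1) ∧
      (lv.2.1.toList.map fun e => ofV ω e.1).Nodup ∧
      ofV ω lv.1 ∈ (lv.2.1.toList.map fun e => ofV ω e.1) ∧
      semU ω lv.2.1 (ofV ω lv.1) = 1 ∧
      (∀ x ∈ (lv.2.1.toList.map fun e => ofV ω e.1), semU ω lv.2.1 x • ofV ω lv.1 = x) ∧
      (∀ x ∈ (lv.2.1.toList.map fun e => ofV ω e.1),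
        ∃ g ∈ Subgroup.closure {s | s ∈ semGens ω gens}, g • ofV ω lv.1 = x) ∧
      (∀ s ∈ semGens ω gens, ∀ x ∈ (lv.2.1.toList.map fun e => ofV ω e.1),
        Sifts (semLevels ω (lv :: rest)) (s * semU ω lv.2.1 x)) ∧
      GoodChainW (semGens ω (lv.2.2.map fun ng => ng.1)) (semLevels ω rest)
    refine ⟨?_, ?_, ?_, ?_, ?_, ?_, ?_, ?_⟩
    · intro s hs
      unfold semGens at hs
      rw [List.mem_map] at hs
      obtain ⟨g, hgm, rfl⟩ := hs
      rw [List.mem_map] at hgm
      obtain ⟨ng, hng, rfl⟩ := hgm
      exact (nextOK_spec (ω := ω) gens hg lv.1 ng (knext ng hng)).2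
    · have hnd := sortedB_nodup _ k4
      have hnd2 : (List.map (ofV ω) (lv.2.1.toList.map fun e => e.1)).Nodup := by
        apply List.Nodup.map_on _ hnd
        intro a ha c hc hac
        rw [List.mem_map] at ha hc
        obtain ⟨ea, hea, rfl⟩ := ha
        obtain ⟨ec, hec, rfl⟩ := hc
        exact ofV_inj (entryOK_spec (k3 ea hea)).1 (entryOK_spec (k3 ec hec)).1 hac
      rwa [List.map_map] at hnd2
    · exact List.mem_map.mpr ⟨e0, he0, by rw [he0b]⟩
    · have hu0 : semU ω lv.2.1 (ofV ω lv.1) = glOf ω e0.2.1 := by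
        unfold semU
        rw [toKey_ofV k1, hf0]
      rw [hu0]
      exact eq_one_of_wordEqB (glOf_acts (entryOK_spec (k3 e0 he0)).2.1) hid0
    · intro x hx
      rw [List.mem_map] at hx
      obtain ⟨e, he, rfl⟩ := hx
      obtain ⟨e', he', m2, m3⟩ := hsemU e he
      obtain ⟨q1, q2, q3, _⟩ := entryOK_spec (k3 e' he')
      rw [m3, glOf_smul q2, ← ofV_key, q3, m2]
    · intro x hx
      rw [List.mem_map] at hx
      obtain ⟨e, he, rfl⟩ := hx
      exact reach_sound gens hg lv.1 lv.2.1 k5 _ e he rfl
    · intro s hs x hx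
      unfold semGens at hs
      rw [List.mem_map] at hs
      obtain ⟨g, hgm, rfl⟩ := hs
      rw [List.mem_map] at hx
      obtain ⟨e, he, rfl⟩ := hx
      obtain ⟨e', he', m2, m3⟩ := hsemU e he
      obtain ⟨q1, q2, q3, _⟩ := entryOK_spec (k3 e' he')
      rw [m3]
      have hact : ActsBy ω (glOf ω g * glOf ω e'.2.1) [g, e'.2.1] :=
        actsBy_cons (glOf_acts (hg g hgm)) (glOf_acts q2)
      exact siftP_sound (lv :: rest) [g, e'.2.1] [] [] _ _ 1 hwf hact hact actsBy_one
        (one_mul _).symm (k6 g hgm e' he')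
    · exact ih _ hnextvalid h2

theorem chainSize_sem : ∀ (levels : List CLevel),
    chainSize (semLevels ω levels) = codeSize levels := by
  intro levels
  induction levels with
  | nil => rfl
  | cons lv rest ih =>
    show (lv.2.1.toList.map fun e => ofV ω e.1).length * chainSize (semLevels ω rest) = _
    rw [List.length_map, ih]
    rfl

/-- the group generated by a list of codes -/
noncomputable def genGroup (ω : F) [Data F ω] (gens : List ℕ) : Subgroup (GL F9 F) :=
  Subgroup.closure {s | s ∈ semGens ω gens}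

theorem glOf_mem_genGroup {gens : List ℕ} {g : ℕ} (hg : g ∈ gens) :
    glOf ω g ∈ genGroup ω gens :=
  Subgroup.subset_closure (mem_semGens hg)

/-- order of the generated group, soundness and completeness of sifting -/
theorem mat_main [Finite F] (gens : List ℕ) (levels : List CLevel)
    (hg : ∀ g ∈ gens, invOK g = true) (hc : ChainOK gens levels) :
    Nat.card (genGroup ω gens) = codeSize levels ∧
    (∀ (ws : List ℕ) (h : GL F9 F), ActsBy ω h ws →
      siftP levels ws [] [] = true → h ∈ genGroup ω gens) ∧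
    ∀ z ∈ genGroup ω gens, Sifts (semLevels ω levels) z := by
  have hgood := chainOK_sound (ω := ω) levels gens hg hc
  obtain ⟨⟨h1, h2⟩, h3⟩ := chain_mainW _ _ hgood
  refine ⟨?_, ?_, h3⟩
  · unfold genGroup
    rw [h1, chainSize_sem]
  · intro ws h hact hs
    exact h2 h (siftP_sound levels ws [] [] h h 1 (chainOK_wf _ _ hc) hact hact actsBy_one
      (one_mul _).symm hs)

end sem

end Cfsg.Agent.Lib.Helper28.F4
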