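import Cfsg.Agent.Lib.Helper28.BSGSF4

/-!
# Verified Schreier–Sims for subgroups of `GL₉(4)`: further tools

Splitting a certificate over the entries of a transversal into blocks, and factorizations of
generators into elements of given order.
-/

set_option autoImplicit false

namespace Cfsg.Agent.Lib.Helper28.F4

open MulAction Cfsg.Agent.Lib.Helper28.BSGS Cfsg.Spor
open Cfsg.Agent.Lib.Helper28.BSGSMat (Tree Entry sortedB sortedB_nodup)
open scoped MatrixGroups

/-- the `i`-th block of `s` entries -/
def chunkN (s : ℕ) (l : List Entry) (i : ℕ) : List Entry := (l.drop (s * i)).take s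

theorem mem_chunkN {s : ℕ} (hs : 0 < s) {l : List Entry} {e : Entry} (he : e ∈ l) :
    ∃ i, s * i < l.length ∧ e ∈ chunkN s l i := by
  obtain ⟨k, hk, rfl⟩ := List.mem_iff_getElem.mp he
  have h0 : s * (k / s) + k % s = k := Nat.div_add_mod k s
  have hmod : k % s < s := Nat.mod_lt _ hs
  refine ⟨k / s, by omega, ?_⟩
  unfold chunkN
  rw [List.mem_iff_getElem]
  have h1 : k % s < ((l.drop (s * (k / s))).take s).length := by
    rw [List.length_take, List.length_drop]; omega
  refine ⟨k % s, h1, ?_⟩
  rw [List.getElem_take, List.getElem_drop]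
  congr 1

/-- a Boolean condition on all entries, checked block by block -/
theorem all_of_chunks {s : ℕ} (hs : 0 < s) (l : List Entry) (f : Entry → Bool) (n : ℕ)
    (hlen : l.length ≤ s * n) (h : ∀ i, i < n → (chunkN s l i).all f = true) :
    ∀ e ∈ l, f e = true := by
  intro e he
  obtain ⟨i, hi, hmem⟩ := mem_chunkN hs he
  have hin : i < n := by
    by_contra hcon
    have : s * n ≤ s * i := Nat.mul_le_mul_left s (by omega)
    omega
  have := h i hin
  rw [List.all_eq_true] at this
  exact this e hmem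

/-- the generator `t` is a product `p * q` of two elements of the group with
`p ^ r = q ^ r = 1` -/
def prodOK (levels : List CLevel) (r t : ℕ) (f : ℕ × ℕ) : Bool :=
  wordEqB [t] [f.1, f.2] && invOK f.1 && invOK f.2 &&
  wordEqB (List.replicate r f.1) [] && wordEqB (List.replicate r f.2) [] &&
  siftP levels [f.1] [] [] && siftP levels [f.2] [] []

/-- every listed generator is such a product -/
def prodsOK (levels : List CLevel) (r : ℕ) (ts : List ℕ) (fs : List (ℕ × ℕ)) : Bool :=
  ts.all fun t => fs.any fun f => prodOK levels r t f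

section sem
variable {F : Type*} [Field F] [Finite F] {ω : F} [hd : Data F ω]

theorem prodsOK_sound (gens : List ℕ) (levels : List CLevel)
    (hg : ∀ g ∈ gens, invOK g = true) (hc : ChainOK gens levels) (r : ℕ) (ts : List ℕ)
    (hts : ∀ t ∈ ts, invOK t = true) (fs : List (ℕ × ℕ))
    (h : prodsOK levels r ts fs = true) :
    ∀ t ∈ ts, ∃ p ∈ genGroup ω gens, ∃ q ∈ genGroup ω gens,
      p ^ r = 1 ∧ q ^ r = 1 ∧ glOf ω t = p * q := by
  intro t ht
  unfold prodsOK at h
  rw [List.all_eq_true] at h
  have h1 := h t ht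
  rw [List.any_eq_true] at h1
  obtain ⟨f, _, hf⟩ := h1
  unfold prodOK at hf
  simp only [Bool.and_eq_true] at hf
  obtain ⟨⟨⟨⟨⟨⟨k1, k2⟩, k3⟩, k4⟩, k5⟩, k6⟩, k7⟩ := hf
  have hmain := (mat_main (ω := ω) gens levels hg hc).2.1
  refine ⟨glOf ω f.1, ?_, glOf ω f.2, ?_, ?_, ?_, ?_⟩
  · exact hmain _ _ (glOf_acts k2) k6
  · exact hmain _ _ (glOf_acts k3) k7
  · exact eq_one_of_wordEqB (actsBy_pow (glOf_acts k2) r) k4
  · exact eq_one_of_wordEqB (actsBy_pow (glOf_acts k3) r) k5
  · exact eq_of_wordEqB (glOf_acts (hts t ht)) (actsBy_cons (glOf_acts k2) (glOf_acts k3)) k1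

end sem

end Cfsg.Agent.Lib.Helper28.F4
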