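import Cfsg.Agent.Lib.Helper28.BSGSF4b

/-!
# Verified computations in subgroups of `GL₉(4)`: tables of elements

Finite tables of matrices (stored in a search tree keyed by a hash of the matrix): sets closed under
conjugation by a generated group, subgroups given by a complete table of their elements, words in
two letters and relators that are scalar matrices.
-/

set_option autoImplicit false

namespace Cfsg.Agent.Lib.Helper28.F4

open MulAction Cfsg.Agent.Lib.Helper28.BSGS Cfsg.Spor
open Cfsg.Agent.Lib.Helper28.BSGSMat (Tree Entry sortedB sortedB_nodup)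
open scoped MatrixGroups

/-- a hash of a word: its first four columns -/
def hashW (ws : List ℕ) : ℕ :=
  key (evalC ws 0) + 262144 * (key (evalC ws 1) + 262144 * (key (evalC ws 2) +
    262144 * key (evalC ws 3)))

/-- look up the matrix of a word in a table -/
def findW (T : Tree) (ws : List ℕ) : Bool :=
  match T.lookup (hashW ws) with
  | none => false
  | some e => wordEqB ws [e.2.1]

/-- all codes of a table are invertible -/
def TableValid (T : Tree) : Prop := ∀ e ∈ T.toList, invOK e.2.1 = true

/-- the conjugate by `g` of the element of an entry is in the table -/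
def conjOK (T : Tree) (g : ℕ) (e : Entry) : Bool := findW T [g, e.2.1, inv g]

/-- the entry is the identity, or its parent is one level higher and gives the entry after right
multiplication by a generator -/
def tabReach (T : Tree) (sgens : List ℕ) (e : Entry) : Bool :=
  (Nat.beq e.2.2.1 0 && wordEqB [e.2.1] []) ||
  (match T.lookup e.2.2.2 with
    | none => false
    | some e' => Nat.beq (Nat.succ e'.2.2.1) e.2.2.1 &&
        sgens.any fun s => wordEqB [e'.2.1, s] [e.2.1])

/-- the table is closed under right multiplication by the generators -/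
def tabClosed (T : Tree) (sgens : List ℕ) (e : Entry) : Bool :=
  sgens.all fun s => findW T [e.2.1, s]

/-- the key of an entry is the hash of its code -/
def tabKey (e : Entry) : Bool := Nat.beq e.1 (hashW [e.2.1])

/-- the word maps the first basis vector to a multiple of itself -/
def scalB (ws : List ℕ) : Bool :=
  Nat.beq (key (evalW ws 1)) 1 || Nat.beq (key (evalW ws 1)) 512 ||
    Nat.beq (key (evalW ws 1)) 513

/-- power of a word -/
def powW (w : List ℕ) : ℕ → List ℕ
  | 0 => []
  | m + 1 => w ++ powW w m

/-- value of a word in two letters -/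
def gw {M : Type*} [Monoid M] (a b : M) : List Bool → M
  | [] => 1
  | false :: w => a * gw a b w
  | true :: w => b * gw a b w

/-- the codes of a word in two letters -/
def cw (a b : ℕ) (w : List Bool) : List ℕ := w.map fun i => bif i then b else a

/-- all relators map the first basis vector to a multiple of itself -/
def fpB (a t : ℕ) (rels : List (List Bool × ℕ)) : Bool :=
  rels.all fun r => scalB (powW (cw a t r.1) r.2)

theorem map_gw {M N : Type*} [Monoid M] [Monoid N] (f : M →* N) (a b : M) (w : List Bool) :
    f (gw a b w) = gw (f a) (f b) w := by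
  induction w with
  | nil => exact map_one f
  | cons i w ih =>
    cases i
    · show f (a * gw a b w) = f a * gw (f a) (f b) w
      rw [map_mul, ih]
    · show f (b * gw a b w) = f b * gw (f a) (f b) w
      rw [map_mul, ih]

theorem gw_mem {M : Type*} [Group M] (H : Subgroup M) {a b : M} (ha : a ∈ H) (hb : b ∈ H)
    (w : List Bool) : gw a b w ∈ H := by
  induction w with
  | nil => exact H.one_mem
  | cons i w ih =>
    cases i
    · exact H.mul_mem ha ih
    · exact H.mul_mem hb ih

section sem
variable {F : Type*} [Field F] {ω : F} [hd : Data F ω]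

/-- the elements of a table -/
def codeSet (ω : F) [Data F ω] (T : Tree) : Set (GL F9 F) :=
  {h | ∃ e ∈ T.toList, h = glOf ω e.2.1}

theorem findW_spec {T : Tree} (hT : TableValid T) {ws : List ℕ} {g : GL F9 F}
    (hg : ActsBy ω g ws) (h : findW T ws = true) : g ∈ codeSet ω T := by
  unfold findW at h
  cases hf : T.lookup (hashW ws) with
  | none => rw [hf] at h; simp at h
  | some e =>
    rw [hf] at h
    obtain ⟨he, _⟩ := Tree.lookup_some _ hf
    exact ⟨e, he, eq_of_wordEqB hg (glOf_acts (hT e he)) h⟩

theorem wordEqB_col {ws ws' : List ℕ} (h : wordEqB ws ws' = true) (k : ℕ)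
    (hk : k ∈ [0, 1, 2, 3, 4, 5, 6, 7, 8]) : key (evalC ws k) = key (evalC ws' k) := by
  unfold wordEqB at h
  rw [List.all_eq_true] at h
  exact Nat.eq_of_beq_eq_true (h k hk)

theorem hashW_eq_of_wprod {ws ws' : List ℕ} (h : wprod ω ws = wprod ω ws') :
    hashW ws = hashW ws' := by
  have h1 := wordEqB_of_eq (ω := ω) h
  unfold hashW
  rw [wordEqB_col h1 0 (by simp), wordEqB_col h1 1 (by simp), wordEqB_col h1 2 (by simp),
    wordEqB_col h1 3 (by simp)]

theorem actsBy_conj {g c : ℕ} (hg : invOK g = true) (hc : invOK c = true) :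
    ActsBy ω (glOf ω g * glOf ω c * (glOf ω g)⁻¹) [g, c, inv g] := by
  rw [mul_assoc]
  exact actsBy_cons (glOf_acts hg) (actsBy_cons (glOf_acts hc) (glOf_inv_acts hg))

theorem conj_mem {T : Tree} (hT : TableValid T) {g : ℕ} (hg : invOK g = true)
    (h : ∀ e ∈ T.toList, conjOK T g e = true) :
    ∀ z ∈ codeSet ω T, glOf ω g * z * (glOf ω g)⁻¹ ∈ codeSet ω T := by
  rintro z ⟨e, he, rfl⟩
  exact findW_spec hT (actsBy_conj hg (hT e he)) (h e he)

/-- a table closed under conjugation by the generators is closed under conjugation by the group -/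
theorem conj_mem_closure [Finite F] {T : Tree} (hT : TableValid T) (gens : List ℕ)
    (hg : ∀ g ∈ gens, invOK g = true)
    (h : ∀ g ∈ gens, ∀ e ∈ T.toList, conjOK T g e = true) :
    ∀ y ∈ genGroup ω gens, ∀ z ∈ codeSet ω T, y * z * y⁻¹ ∈ codeSet ω T := by
  intro y hy
  unfold genGroup at hy
  induction hy using Subgroup.closure_induction with
  | mem s hs =>
    have hs' : s ∈ semGens ω gens := hs
    unfold semGens at hs'
    obtain ⟨g, hgm, rfl⟩ := List.mem_map.mp hs'
    exact conj_mem hT (hg g hgm) (h g hgm)
  | one => intro z hz; rwa [one_mul, inv_one, mul_one]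
  | mul a b _ _ iha ihb =>
    intro z hz
    have h1 := iha _ (ihb z hz)
    have h2 : a * b * z * (a * b)⁻¹ = a * (b * z * b⁻¹) * a⁻¹ := by group
    rw [h2]; exact h1
  | inv a _ iha =>
    have hpow : ∀ k : ℕ, ∀ z ∈ codeSet ω T, a ^ k * z * (a ^ k)⁻¹ ∈ codeSet ω T := by
      intro k
      induction k with
      | zero => intro z hz; rwa [pow_zero, one_mul, inv_one, mul_one]
      | succ k ihk =>
        intro z hz
        have h1 := iha _ (ihk z hz)
        have h2 : a ^ (k + 1) * z * (a ^ (k + 1))⁻¹ = a * (a ^ k * z * (a ^ k)⁻¹) * a⁻¹ := by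
          rw [pow_succ']; group
        rw [h2]; exact h1
    have hinv : a⁻¹ = a ^ (orderOf a - 1) := by
      have hpos : 0 < orderOf a := orderOf_pos a
      have h1 : a ^ (orderOf a - 1) * a = 1 := by
        rw [← pow_succ, Nat.sub_add_cancel hpos, pow_orderOf_eq_one]
      exact (eq_inv_of_mul_eq_one_left h1).symm
    rw [hinv]
    exact hpow _

/-- elements of the group generated by `sgens` lie in a table closed under right multiplication -/
theorem tab_le [Finite F] {T : Tree} (hT : TableValid T) (sgens : List ℕ)
    (hg : ∀ g ∈ sgens, invOK g = true) (h1 : findW T [] = true)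
    (hcl : ∀ e ∈ T.toList, tabClosed T sgens e = true) :
    ∀ y ∈ genGroup ω sgens, y ∈ codeSet ω T := by
  have hP : ∀ y ∈ genGroup ω sgens, ∀ z ∈ codeSet ω T, z * y ∈ codeSet ω T := by
    intro y hy
    unfold genGroup at hy
    induction hy using Subgroup.closure_induction with
    | mem s hs =>
      have hs' : s ∈ semGens ω sgens := hs
      unfold semGens at hs'
      obtain ⟨g, hgm, rfl⟩ := List.mem_map.mp hs'
      rintro z ⟨e, he, rfl⟩
      have h2 := hcl e he
      unfold tabClosed at h2
      rw [List.all_eq_true] at h2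
      exact findW_spec hT (actsBy_cons (glOf_acts (hT e he)) (glOf_acts (hg g hgm))) (h2 g hgm)
    | one => intro z hz; rwa [mul_one]
    | mul a b _ _ iha ihb =>
      intro z hz
      rw [← mul_assoc]
      exact ihb _ (iha z hz)
    | inv a _ iha =>
      have hpow : ∀ k : ℕ, ∀ z ∈ codeSet ω T, z * a ^ k ∈ codeSet ω T := by
        intro k
        induction k with
        | zero => intro z hz; rwa [pow_zero, mul_one]
        | succ k ihk =>
          intro z hz
          rw [pow_succ, ← mul_assoc]
          exact iha _ (ihk z hz)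
      have hinv : a⁻¹ = a ^ (orderOf a - 1) := by
        have hpos : 0 < orderOf a := orderOf_pos a
        have h1 : a ^ (orderOf a - 1) * a = 1 := by
          rw [← pow_succ, Nat.sub_add_cancel hpos, pow_orderOf_eq_one]
        exact (eq_inv_of_mul_eq_one_left h1).symm
      rw [hinv]
      exact hpow _
  intro y hy
  have h0 : (1 : GL F9 F) ∈ codeSet ω T := findW_spec hT actsBy_one h1
  have := hP y hy 1 h0
  rwa [one_mul] at this

/-- the elements of a table reachable from the identity lie in the group generated by `sgens` -/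
theorem tab_ge {T : Tree} (hT : TableValid T) (sgens : List ℕ)
    (hg : ∀ g ∈ sgens, invOK g = true)
    (hr : ∀ e ∈ T.toList, tabReach T sgens e = true) :
    ∀ z ∈ codeSet ω T, z ∈ genGroup ω sgens := by
  have step : ∀ (d : ℕ) (e : Entry), e ∈ T.toList → e.2.2.1 = d →
      glOf ω e.2.1 ∈ genGroup ω sgens := by
    intro d
    induction d with
    | zero =>
      intro e he hd
      have h1 := hr e he
      unfold tabReach at h1
      rw [Bool.or_eq_true] at h1
      rcases h1 with h1 | h1
      · rw [Bool.and_eq_true] at h1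
        rw [eq_one_of_wordEqB (glOf_acts (hT e he)) h1.2]
        exact Subgroup.one_mem _
      · cases hf : T.lookup e.2.2.2 with
        | none => rw [hf] at h1; simp at h1
        | some e' =>
          rw [hf] at h1
          simp only [Bool.and_eq_true] at h1
          have h2 : Nat.succ e'.2.2.1 = e.2.2.1 := Nat.eq_of_beq_eq_true h1.1
          rw [hd] at h2
          exact absurd h2 (Nat.succ_ne_zero _)
    | succ d ih =>
      intro e he hd
      have h1 := hr e he
      unfold tabReach at h1
      rw [Bool.or_eq_true] at h1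
      rcases h1 with h1 | h1
      · rw [Bool.and_eq_true] at h1
        rw [eq_one_of_wordEqB (glOf_acts (hT e he)) h1.2]
        exact Subgroup.one_mem _
      · cases hf : T.lookup e.2.2.2 with
        | none => rw [hf] at h1; simp at h1
        | some e' =>
          rw [hf] at h1
          simp only [Bool.and_eq_true] at h1
          obtain ⟨h2, h3⟩ := h1
          have h2' : Nat.succ e'.2.2.1 = e.2.2.1 := Nat.eq_of_beq_eq_true h2
          have he' := (Tree.lookup_some _ hf).1
          have ih' := ih e' he' (Nat.succ.inj (h2'.trans hd))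
          rw [List.any_eq_true] at h3
          obtain ⟨s, hsm, h4⟩ := h3
          have h5 : glOf ω e'.2.1 * glOf ω s = glOf ω e.2.1 :=
            eq_of_wordEqB (actsBy_cons (glOf_acts (hT e' he')) (glOf_acts (hg s hsm)))
              (glOf_acts (hT e he)) h4
          rw [← h5]
          exact Subgroup.mul_mem _ ih' (glOf_mem_genGroup hsm)
  rintro z ⟨e, he, rfl⟩
  exact step _ e he rfl

/-- the order of a group given by a complete table of its elements -/
theorem tab_card [Finite F] {T : Tree} (hT : TableValid T) (sgens : List ℕ)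
    (hg : ∀ g ∈ sgens, invOK g = true) (h1 : findW T [] = true)
    (hcl : ∀ e ∈ T.toList, tabClosed T sgens e = true)
    (hr : ∀ e ∈ T.toList, tabReach T sgens e = true)
    (hk : ∀ e ∈ T.toList, tabKey e = true)
    (hs : sortedB (T.toList.map fun e => e.1) = true) :
    Nat.card (genGroup ω sgens) = T.toList.length := by
  classical
  have hset : ((genGroup ω sgens : Subgroup (GL F9 F)) : Set (GL F9 F)) = codeSet ω T := by
    ext z
    exact ⟨fun hz => tab_le hT sgens hg h1 hcl z hz, fun hz => tab_ge hT sgens hg hr z hz⟩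
  have hnd : (T.toList.map fun e => e.1).Nodup := sortedB_nodup _ hs
  have hnd' : T.toList.Nodup := List.Nodup.of_map _ hnd
  have hinj : ∀ e ∈ T.toList, ∀ e' ∈ T.toList, glOf ω e.2.1 = glOf ω e'.2.1 → e = e' := by
    intro e he e' he' heq
    have h2 : wprod ω [e.2.1] = wprod ω [e'.2.1] := by
      have a1 := glOf_acts (ω := ω) (hT e he)
      have a2 := glOf_acts (ω := ω) (hT e' he')
      unfold ActsBy at a1 a2
      rw [← a1, ← a2, heq]
    have h3 := hashW_eq_of_wprod h2
    have k1 : e.1 = hashW [e.2.1] := Nat.eq_of_beq_eq_true (hk e he)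
    have k2 : e'.1 = hashW [e'.2.1] := Nat.eq_of_beq_eq_true (hk e' he')
    have h4 : e.1 = e'.1 := by rw [k1, k2, h3]
    exact List.inj_on_of_nodup_map hnd he he' h4
  have hfin : codeSet ω T = ↑((T.toList.map fun e => glOf ω e.2.1).toFinset) := by
    ext z
    simp only [codeSet, Set.mem_setOf_eq, List.coe_toFinset, List.mem_map]
    constructor
    · rintro ⟨e, he, rfl⟩; exact ⟨e, he, rfl⟩
    · rintro ⟨e, he, rfl⟩; exact ⟨e, he, rfl⟩
  have hcard : Nat.card (genGroup ω sgens) = Set.ncard (codeSet ω T) := by
    rw [← hset]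
    exact Nat.card_coe_set_eq _
  rw [hcard, hfin, Set.ncard_coe_finset, List.toFinset_card_of_nodup, List.length_map]
  exact List.Nodup.map_on hinj hnd'

theorem actsBy_powW {g : GL F9 F} {w : List ℕ} (hg : ActsBy ω g w) (m : ℕ) :
    ActsBy ω (g ^ m) (powW w m) := by
  induction m with
  | zero => rw [pow_zero]; exact actsBy_one
  | succ m ih =>
    rw [pow_succ']
    exact actsBy_append hg ih

theorem actsBy_gw {a b : ℕ} (ha : invOK a = true) (hb : invOK b = true) (w : List Bool) :
    ActsBy ω (gw (glOf ω a) (glOf ω b) w) (cw a b w) := by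
  induction w with
  | nil => exact actsBy_one
  | cons i w ih =>
    cases i
    · exact actsBy_cons (glOf_acts ha) ih
    · exact actsBy_cons (glOf_acts hb) ih

/-- a scalar matrix maps the first basis vector to a multiple of itself -/
theorem scalB_of_scalar {g : GL F9 F} {ws : List ℕ} (hg : ActsBy ω g ws) {c : F}
    (hc : c = 1 ∨ c = ω ∨ c = ω ^ 2) (h : (g : Matrix F9 F9 F) = c • (1 : Matrix F9 F9 F)) :
    scalB ws = true := by
  have h1 : g • ofV ω 1 = ofV ω (evalW ws 1) := actsBy_smul hg 1
  have h2 : g • ofV ω 1 = c • ofV ω 1 := by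
    rw [gl_smul, h, Matrix.smul_mulVec, Matrix.one_mulVec]
  unfold scalB
  rcases hc with hc | hc | hc
  · have h3 : ofV ω (evalW ws 1) = ofV ω 1 := by rw [← h1, h2, hc, one_smul]
    have h4 : key (evalW ws 1) = key 1 := key_eq_of_ofV h3
    have h5 : key 1 = 1 := by decide
    rw [h4, h5]; rfl
  · have h3 : ofV ω (evalW ws 1) = ofV ω (mulw 1) := by rw [← h1, h2, hc, ofV_mulw]
    have h4 : key (evalW ws 1) = key (mulw 1) := key_eq_of_ofV h3
    have h5 : key (mulw 1) = 512 := by decide
    rw [h4, h5]; rfl
  · have h3 : ofV ω (evalW ws 1) = ofV ω (mulw (mulw 1)) := by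
      rw [← h1, h2, hc, ofV_mulw, ofV_mulw, pow_two, mul_smul]
    have h4 : key (evalW ws 1) = key (mulw (mulw 1)) := key_eq_of_ofV h3
    have h5 : key (mulw (mulw 1)) = 513 := by decide
    rw [h4, h5]; rfl

/-- if all relators are scalar matrices, the Boolean test succeeds -/
theorem fpB_of_rels {a t : ℕ} (ha : invOK a = true) (ht : invOK t = true)
    (rels : List (List Bool × ℕ))
    (h : ∀ r ∈ rels, ∃ c : F, (c = 1 ∨ c = ω ∨ c = ω ^ 2) ∧
      ((gw (glOf ω a) (glOf ω t) r.1 ^ r.2 : GL F9 F) : Matrix F9 F9 F) =
        c • (1 : Matrix F9 F9 F)) :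
    fpB a t rels = true := by
  unfold fpB
  rw [List.all_eq_true]
  intro r hr
  obtain ⟨c, hc, hcs⟩ := h r hr
  exact scalB_of_scalar (actsBy_powW (actsBy_gw ha ht r.1) r.2) hc hcs

end sem

end Cfsg.Agent.Lib.Helper28.F4
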