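import Cfsg.Agent.Lib.Helper28.BSGSPerm
import Cfsg.Agent.Lib.Helper28.BSGSCore2

/-!
# Verified Schreier–Sims: images of the base

An element of the group of a verified chain that fixes all base points is the identity, and the
images of the base points under an element of the group pass a Boolean test (`imgOK`).  The
contrapositive excludes, by `decide +kernel`, that a list of points is the list of images of the
base points under an element of the group.
-/

set_option autoImplicit false

namespace Cfsg.Agent.Lib.Helper28.BSGS

open MulAction

section Core

variable {G₀ : Type*} [Group G₀] {X : Type*} [MulAction G₀ X]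

/-- an element that sifts and fixes all base points is the identity -/
theorem eq_one_of_sifts_fix : ∀ (levels : List (SLevel G₀ X)) (S : List G₀),
    GoodChain S levels → ∀ g : G₀, Sifts levels g → (∀ lv ∈ levels, g • lv.b = lv.b) → g = 1 := by
  intro levels
  induction levels with
  | nil =>
    intro S _ g hs _
    exact hs
  | cons lv rest ih =>
    intro S hS g hs hfix
    obtain ⟨_, _, _, hub, _, _, _, hrest⟩ := hS
    obtain ⟨_, h2⟩ := hs
    rw [hfix lv List.mem_cons_self, hub, inv_one, one_mul] at h2
    exact ih lv.S' hrest g h2 (fun lv' hlv' => hfix lv' (List.mem_cons_of_mem _ hlv'))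

end Core

/-- whether a list of images of the base points can come from an element of the group -/
def imgOK (w : ℕ) : List CLevel → List ℕ → Bool
  | [], _ => true
  | _ :: _, [] => true
  | lv :: rest, y :: ys =>
      match findE lv.2 y with
      | none => false
      | some e => imgOK w rest (ys.map fun x => look w e.2.2 x)

section Sem

variable (n w : ℕ) [NeZero n]

/-- the element maps the first base points to the listed points -/
def ImgRel (g : Equiv.Perm (Fin n)) : List CLevel → List ℕ → Prop
  | [], _ => True
  | _ :: _, [] => True
  | lv :: rest, y :: ys => y < n ∧ g (pt n lv.1) = pt n y ∧ ImgRel g rest ys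

theorem imgRel_step {tu tv : ℕ} (h : pairOK n w tu tv = true) (g : Equiv.Perm (Fin n)) :
    ∀ (levels : List CLevel) (ys : List ℕ), ImgRel n g levels ys →
      ImgRel n ((permOf n w tu tv)⁻¹ * g) levels (ys.map fun x => look w tv x) := by
  intro levels
  induction levels with
  | nil => intro ys _; trivial
  | cons lv rest ih =>
    intro ys hrel
    cases ys with
    | nil => trivial
    | cons y ys =>
      obtain ⟨h1, h2, h3⟩ := hrel
      refine ⟨(pairOK_spec h h1).2.2.1, ?_, ih ys h3⟩
      apply Fin.ext
      rw [Equiv.Perm.mul_apply, h2, permOf_inv_apply h, pt_val n h1,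
        pt_val n (pairOK_spec h h1).2.2.1]

theorem imgOK_of_sifts : ∀ (levels : List CLevel) (gens : List (ℕ × ℕ)) (ys : List ℕ)
    (g : Equiv.Perm (Fin n)), LevelsWF n w levels → Sifts (semLevels n w gens levels) g →
    ImgRel n g levels ys → imgOK w levels ys = true := by
  intro levels
  induction levels with
  | nil =>
    intro gens ys g _ _ _
    unfold imgOK
    rfl
  | cons lv rest ih =>
    intro gens ys g hwf hs hrel
    cases ys with
    | nil => unfold imgOK; rfl
    | cons y ys =>
      obtain ⟨hy, hgy, hrest⟩ := hrel
      have hs' : g • pt n lv.1 ∈ (lv.2.map fun e => pt n e.1) ∧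
          Sifts (semLevels n w (nextGens w gens lv.1) rest)
            ((semU n w lv.2 (g • pt n lv.1))⁻¹ * g) := hs
      obtain ⟨hO, hsr⟩ := hs'
      rw [Equiv.Perm.smul_def, hgy] at hO hsr
      obtain ⟨e, he, hey⟩ := List.mem_map.mp hO
      have hwf0 := hwf lv List.mem_cons_self
      have he1 : e.1 = y := by
        have h1 := congrArg Fin.val hey
        rwa [pt_val n (hwf0.2 e he).1, pt_val n hy] at h1
      obtain ⟨e', he'⟩ := findE_of_mem he
      rw [he1] at he'
      obtain ⟨hmem', _⟩ := findE_some he'
      have hpair := (hwf0.2 e' hmem').2
      have hu : semU n w lv.2 (pt n y) = permOf n w e'.2.1 e'.2.2 := by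
        unfold semU
        rw [pt_val n hy, he']
      rw [hu] at hsr
      unfold imgOK
      rw [he']
      exact ih (nextGens w gens lv.1) _ _
        (fun lv' hlv' => hwf lv' (List.mem_cons_of_mem _ hlv')) hsr
        (imgRel_step n w hpair g rest ys hrest)

/-- the images of the base points under an element of the group pass the test -/
theorem imgOK_of_mem (gens : List (ℕ × ℕ)) (levels : List CLevel)
    (hg : gensOK n w gens = true) (hc : checkChain n w gens levels = true)
    (g : Equiv.Perm (Fin n)) (hgm : g ∈ genGroup n w gens) (ys : List ℕ)
    (hrel : ImgRel n g levels ys) : imgOK w levels ys = true := by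
  have hgood := checkChain_sound n w levels gens (gensOK_spec n w hg) hc
  have hs := chain_complete _ _ hgood g hgm
  exact imgOK_of_sifts n w levels gens ys g (checkChain_wf n w _ _ hc) hs hrel

/-- an element of the group that fixes all base points is the identity -/
theorem eq_one_of_fix_base (gens : List (ℕ × ℕ)) (levels : List CLevel)
    (hg : gensOK n w gens = true) (hc : checkChain n w gens levels = true)
    (g : Equiv.Perm (Fin n)) (hgm : g ∈ genGroup n w gens)
    (hfix : ∀ lv ∈ levels, g (pt n lv.1) = pt n lv.1) : g = 1 := by
  have hgood := checkChain_sound n w levels gens (gensOK_spec n w hg) hc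
  have hs := chain_complete _ _ hgood g hgm
  apply eq_one_of_sifts_fix _ _ hgood g hs
  have key : ∀ (levels : List CLevel) (gens : List (ℕ × ℕ)),
      (∀ lv ∈ levels, g (pt n lv.1) = pt n lv.1) →
      ∀ lv ∈ semLevels n w gens levels, g • lv.b = lv.b := by
    intro levels
    induction levels with
    | nil =>
      intro gens _ lv hlv
      simp [semLevels] at hlv
    | cons lv0 rest ih =>
      intro gens hfix lv hlv
      unfold semLevels at hlv
      rcases List.mem_cons.mp hlv with rfl | hlv'
      · exact hfix lv0 List.mem_cons_self
      · exact ih _ (fun lv' hlv'' => hfix lv' (List.mem_cons_of_mem _ hlv'')) lv hlv'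
  exact key levels gens hfix

end Sem

end Cfsg.Agent.Lib.Helper28.BSGS
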