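import Cfsg.Agent.Lib.Helper28.BSGSImg

/-!
# Verified Schreier–Sims: the images of the base under an element

The list of the images of the base points under an element is related to the element.
-/

set_option autoImplicit false

namespace Cfsg.Agent.Lib.Helper28.BSGS

variable (n : ℕ) [NeZero n]

/-- the images of the base points under an element -/
theorem imgRel_self (g : Equiv.Perm (Fin n)) : ∀ levels : List CLevel,
    ImgRel n g levels (levels.map fun lv => (g (pt n lv.1)).val) := by
  intro levels
  induction levels with
  | nil => trivial
  | cons lv rest ih =>
    exact ⟨(g (pt n lv.1)).isLt, (pt_of_val n _).symm, ih⟩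

end Cfsg.Agent.Lib.Helper28.BSGS
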