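import Cfsg.Agent.Lib.Helper28.BSGSMat
import Cfsg.Agent.Lib.Helper28.BSGSCore2

/-!
# Verified Schreier–Sims for subgroups of `GL₇(11)`: further tools

Completeness of sifting, the decomposition of the elements along a chain of two levels, products of
elements of given order, words in two generators and a certificate for the triviality of the
centre.
-/

set_option autoImplicit false

namespace Cfsg.Agent.Lib.Helper28.BSGSMat

open MulAction Cfsg.Agent.Lib.Helper28.BSGS

theorem mat_complete (gens : List ℕ) (levels : List CLevel) (hg : gensOK gens = true)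
    (hc : checkChain gens levels = true) :
    ∀ z ∈ genGroup gens, Sifts (semLevels gens levels) z :=
  chain_complete _ _ (checkChain_sound levels gens (gensOK_spec hg) hc)

theorem wordEqB_of_eq' {g h : GL (Fin 7) (ZMod 11)} {ws ws' : List M7} (hg : ActsBy g ws)
    (hh : ActsBy h ws') (heq : g = h) : wordEqB ws ws' = true := by
  subst heq
  exact wordEqB_of_eq hg hh

/-- every element is a product of transversal elements -/
theorem two_level_decomp (gens : List ℕ) (b1 : ℕ) (T1 : Tree) (b2 : ℕ) (T2 : Tree)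
    (hg : gensOK gens = true) (hc : checkChain gens [(b1, T1), (b2, T2)] = true)
    (z : GL (Fin 7) (ZMod 11)) (hz : z ∈ genGroup gens) :
    ∃ e1 ∈ T1.toList, ∃ e2 ∈ T2.toList, z • ptK b1 = ptK e1.1 ∧
      z = glOf e1.2.1 * glOf e2.2.1 := by
  have hs := mat_complete gens _ hg hc z hz
  have hc' := hc
  unfold checkChain at hc'
  rw [Bool.and_eq_true] at hc'
  obtain ⟨hl1, hc2⟩ := hc'
  unfold checkChain at hc2
  rw [Bool.and_eq_true] at hc2
  obtain ⟨hl2, _⟩ := hc2
  obtain ⟨_, _, k3, _⟩ := levelOK_spec hl1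
  obtain ⟨_, _, k3', _⟩ := levelOK_spec hl2
  obtain ⟨h1, h2, h3⟩ : z • ptK b1 ∈ (T1.toList.map fun e => ptK e.1) ∧
      ((semU T1 (z • ptK b1))⁻¹ * z) • ptK b2 ∈ (T2.toList.map fun e => ptK e.1) ∧
      (semU T2 (((semU T1 (z • ptK b1))⁻¹ * z) • ptK b2))⁻¹ *
        ((semU T1 (z • ptK b1))⁻¹ * z) = 1 := hs
  rw [List.mem_map] at h1
  obtain ⟨e, he, hez⟩ := h1
  obtain ⟨e1, he1, m2, m3⟩ := semU_spec k3 e he
  rw [← hez, m3] at h2 h3
  rw [List.mem_map] at h2
  obtain ⟨e', he', hez'⟩ := h2
  obtain ⟨e2, he2, m2', m3'⟩ := semU_spec k3' e' he'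
  rw [← hez', m3'] at h3
  refine ⟨e1, he1, e2, he2, by rw [← hez, m2], ?_⟩
  have hz' : z = glOf e1.2.1 * (glOf e2.2.1 *
      ((glOf e2.2.1)⁻¹ * ((glOf e1.2.1)⁻¹ * z))) := by group
  rw [hz', h3, mul_one]

/-- the generator `t` is a product `p * q` of two elements of the group with
`p ^ r = q ^ r = 1` -/
def prodOK (levels : List CLevel) (r t : ℕ) (f : ℕ × ℕ) : Bool :=
  wordEqB [decM t] [decM f.1, decM f.2] && invOK f.1 && invOK f.2 &&
  idB (List.replicate r (decM f.1)) && idB (List.replicate r (decM f.2)) &&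
  siftB levels [decM f.1] && siftB levels [decM f.2]

/-- every listed generator is such a product -/
def prodsOK (levels : List CLevel) (r : ℕ) (ts : List ℕ) (fs : List (ℕ × ℕ)) : Bool :=
  ts.all fun t => fs.any fun f => prodOK levels r t f

theorem prodsOK_sound (gens : List ℕ) (levels : List CLevel) (hg : gensOK gens = true)
    (hc : checkChain gens levels = true) (r : ℕ) (ts : List ℕ)
    (hts : ∀ t ∈ ts, invOK t = true) (fs : List (ℕ × ℕ))
    (h : prodsOK levels r ts fs = true) :
    ∀ t ∈ ts, ∃ p ∈ genGroup gens, ∃ q ∈ genGroup gens,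
      p ^ r = 1 ∧ q ^ r = 1 ∧ glOf t = p * q := by
  intro t ht
  unfold prodsOK at h
  rw [List.all_eq_true] at h
  have h1 := h t ht
  rw [List.any_eq_true] at h1
  obtain ⟨f, _, hf⟩ := h1
  unfold prodOK at hf
  simp only [Bool.and_eq_true] at hf
  obtain ⟨⟨⟨⟨⟨⟨k1, k2⟩, k3⟩, k4⟩, k5⟩, k6⟩, k7⟩ := hf
  have hmain := (mat_main gens levels hg hc).2
  refine ⟨glOf f.1, ?_, glOf f.2, ?_, ?_, ?_, ?_⟩
  · exact hmain _ _ (actsBy_single (glOf_acts k2)) k6
  · exact hmain _ _ (actsBy_single (glOf_acts k3)) k7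
  · exact eq_one_of_idB (actsBy_pow (glOf_acts k2) r) k4
  · exact eq_one_of_idB (actsBy_pow (glOf_acts k3) r) k5
  · exact eq_of_wordEqB (actsBy_single (glOf_acts (hts t ht)))
      (actsBy_cons (glOf_acts k2) (actsBy_single (glOf_acts k3))) k1

/-- the product of a word in two elements -/
def wordG (x y : GL (Fin 7) (ZMod 11)) : List Bool → GL (Fin 7) (ZMod 11)
  | [] => 1
  | b :: w => cond b y x * wordG x y w

/-- the matrices of a word in two codes -/
def wordM (x y : ℕ) (w : List Bool) : List M7 := w.map fun b => decM (cond b y x)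

theorem wordG_cons_false (x y : GL (Fin 7) (ZMod 11)) (w : List Bool) :
    wordG x y (false :: w) = x * wordG x y w := rfl

theorem wordG_cons_true (x y : GL (Fin 7) (ZMod 11)) (w : List Bool) :
    wordG x y (true :: w) = y * wordG x y w := rfl

theorem wordM_cons_false (x y : ℕ) (w : List Bool) :
    wordM x y (false :: w) = decM x :: wordM x y w := rfl

theorem wordM_cons_true (x y : ℕ) (w : List Bool) :
    wordM x y (true :: w) = decM y :: wordM x y w := rfl

theorem actsBy_word {x y : ℕ} (hx : invOK x = true) (hy : invOK y = true) :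
    ∀ w : List Bool, ActsBy (wordG (glOf x) (glOf y) w) (wordM x y w) := by
  intro w
  induction w with
  | nil => exact actsBy_one
  | cons b w ih =>
    cases b
    · rw [wordG_cons_false, wordM_cons_false]
      exact actsBy_cons (glOf_acts hx) ih
    · rw [wordG_cons_true, wordM_cons_true]
      exact actsBy_cons (glOf_acts hy) ih

theorem wordG_mem (x y : GL (Fin 7) (ZMod 11)) :
    ∀ w : List Bool, wordG x y w ∈ Subgroup.closure ({x, y} : Set (GL (Fin 7) (ZMod 11))) := by
  intro w
  induction w with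
  | nil => exact Subgroup.one_mem _
  | cons b w ih =>
    cases b
    · rw [wordG_cons_false]
      exact Subgroup.mul_mem _ (Subgroup.subset_closure (Set.mem_insert _ _)) ih
    · rw [wordG_cons_true]
      exact Subgroup.mul_mem _
        (Subgroup.subset_closure (Set.mem_insert_of_mem _ (Set.mem_singleton _))) ih

/-- certificate for the triviality of the centre: the points of the first basic orbit fixed by `a`
give only candidates that are trivial or do not commute with `x` or `y` -/
def centOK (a x y : ℕ) (T1 T2 : Tree) : Bool :=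
  T1.toList.all fun e1 => !(Nat.beq (key (mv (decM a) (unkey e1.1))) e1.1) ||
    T2.toList.all fun e2 => idB [decM e1.2.1, decM e2.2.1] ||
      !(wordEqB [decM e1.2.1, decM e2.2.1, decM x] [decM x, decM e1.2.1, decM e2.2.1]) ||
      !(wordEqB [decM e1.2.1, decM e2.2.1, decM y] [decM y, decM e1.2.1, decM e2.2.1])

theorem center_trivial (gens : List ℕ) (b1 : ℕ) (T1 : Tree) (b2 : ℕ) (T2 : Tree)
    (hg : gensOK gens = true) (hc : checkChain gens [(b1, T1), (b2, T2)] = true)
    (a x y : ℕ) (ha : invOK a = true) (hx : invOK x = true) (hy : invOK y = true)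
    (hfix : Nat.beq (key (mv (decM a) (unkey b1))) b1 = true)
    (hcent : centOK a x y T1 T2 = true)
    (z : GL (Fin 7) (ZMod 11)) (hz : z ∈ genGroup gens)
    (hza : z * glOf a = glOf a * z) (hzx : z * glOf x = glOf x * z)
    (hzy : z * glOf y = glOf y * z) : z = 1 := by
  obtain ⟨e1, he1, e2, he2, hpt, hzz⟩ := two_level_decomp gens b1 T1 b2 T2 hg hc z hz
  have hwf := checkChain_wf _ _ hc
  obtain ⟨_, w1⟩ := hwf (b1, T1) List.mem_cons_self
  obtain ⟨_, w2⟩ := hwf (b2, T2) (List.mem_cons_of_mem _ List.mem_cons_self)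
  obtain ⟨q1, q2⟩ := w1 e1 he1
  obtain ⟨_, q2'⟩ := w2 e2 he2
  -- the point is fixed by `a`
  have hfixed : key (mv (decM a) (unkey e1.1)) = e1.1 := by
    apply ptK_inj (key_lt _) q1
    rw [← glOf_ptK ha, ← hpt, ← mul_smul, ← hza, mul_smul, glOf_ptK ha,
      Nat.eq_of_beq_eq_true hfix]
  unfold centOK at hcent
  rw [List.all_eq_true] at hcent
  have h1 := hcent e1 he1
  rw [hfixed, Nat.beq_refl, Bool.not_true, Bool.false_or, List.all_eq_true] at h1
  have h2 := h1 e2 he2
  have hact : ActsBy z [decM e1.2.1, decM e2.2.1] := by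
    rw [hzz]
    exact actsBy_cons (glOf_acts q2) (actsBy_single (glOf_acts q2'))
  simp only [Bool.or_eq_true, Bool.not_eq_true'] at h2
  rcases h2 with (h2 | h2) | h2
  · exact eq_one_of_idB hact h2
  · exfalso
    have hl : ActsBy (z * glOf x) [decM e1.2.1, decM e2.2.1, decM x] := by
      rw [hzz, mul_assoc]
      exact actsBy_cons (glOf_acts q2)
        (actsBy_cons (glOf_acts q2') (actsBy_single (glOf_acts hx)))
    have hr : ActsBy (glOf x * z) [decM x, decM e1.2.1, decM e2.2.1] :=
      actsBy_cons (glOf_acts hx) hact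
    rw [wordEqB_of_eq' hl hr hzx] at h2
    exact Bool.noConfusion h2
  · exfalso
    have hl : ActsBy (z * glOf y) [decM e1.2.1, decM e2.2.1, decM y] := by
      rw [hzz, mul_assoc]
      exact actsBy_cons (glOf_acts q2)
        (actsBy_cons (glOf_acts q2') (actsBy_single (glOf_acts hy)))
    have hr : ActsBy (glOf y * z) [decM y, decM e1.2.1, decM e2.2.1] :=
      actsBy_cons (glOf_acts hy) hact
    rw [wordEqB_of_eq' hl hr hzy] at h2
    exact Bool.noConfusion h2

end Cfsg.Agent.Lib.Helper28.BSGSMat
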