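import Cfsg.Agent.Lib.Helper28.BSGSMat2

/-!
# Verified Schreier–Sims for subgroups of `GL₇(11)`: centralizers

A certificate listing all elements of the group commuting with a given element, and general
lemmas on centralizers: the centralizer in a subgroup, and the splitting of a group with a central
involution and a subgroup of index two avoiding it.
-/

set_option autoImplicit false

namespace Cfsg.Agent.Lib.Helper28.BSGSMat

open MulAction Cfsg.Agent.Lib.Helper28.BSGS

theorem ne_of_wordEqB_false {g h : GL (Fin 7) (ZMod 11)} {ws ws' : List M7} (hg : ActsBy g ws)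
    (hh : ActsBy h ws') (he : wordEqB ws ws' = false) : g ≠ h := by
  intro heq
  rw [wordEqB_of_eq' hg hh heq] at he
  exact Bool.noConfusion he

/-- all products of transversal elements commuting with `t` are listed in `cents` -/
def centListOK (t : ℕ) (T1 T2 : Tree) (cents : List (ℕ × ℕ)) : Bool :=
  T1.toList.all fun e1 => T2.toList.all fun e2 =>
    !(wordEqB [decM e1.2.1, decM e2.2.1, decM t] [decM t, decM e1.2.1, decM e2.2.1]) ||
      cents.any fun c => Nat.beq c.1 e1.2.1 && Nat.beq c.2 e2.2.1

theorem cent_enum (gens : List ℕ) (b1 : ℕ) (T1 : Tree) (b2 : ℕ) (T2 : Tree)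
    (hg : gensOK gens = true) (hc : checkChain gens [(b1, T1), (b2, T2)] = true)
    (t : ℕ) (ht : invOK t = true) (cents : List (ℕ × ℕ))
    (h : centListOK t T1 T2 cents = true)
    (z : GL (Fin 7) (ZMod 11)) (hz : z ∈ genGroup gens) (hzt : z * glOf t = glOf t * z) :
    z ∈ cents.map fun c => glOf c.1 * glOf c.2 := by
  obtain ⟨e1, he1, e2, he2, _, hzz⟩ := two_level_decomp gens b1 T1 b2 T2 hg hc z hz
  have hwf := checkChain_wf _ _ hc
  obtain ⟨_, w1⟩ := hwf (b1, T1) List.mem_cons_self
  obtain ⟨_, w2⟩ := hwf (b2, T2) (List.mem_cons_of_mem _ List.mem_cons_self)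
  obtain ⟨_, q2⟩ := w1 e1 he1
  obtain ⟨_, q2'⟩ := w2 e2 he2
  have hact : ActsBy z [decM e1.2.1, decM e2.2.1] := by
    rw [hzz]
    exact actsBy_cons (glOf_acts q2) (actsBy_single (glOf_acts q2'))
  have hl : ActsBy (z * glOf t) [decM e1.2.1, decM e2.2.1, decM t] := by
    rw [hzz, mul_assoc]
    exact actsBy_cons (glOf_acts q2)
      (actsBy_cons (glOf_acts q2') (actsBy_single (glOf_acts ht)))
  have hr : ActsBy (glOf t * z) [decM t, decM e1.2.1, decM e2.2.1] :=
    actsBy_cons (glOf_acts ht) hact
  unfold centListOK at h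
  rw [List.all_eq_true] at h
  have h1 := h e1 he1
  rw [List.all_eq_true] at h1
  have h2 := h1 e2 he2
  rw [wordEqB_of_eq' hl hr hzt, Bool.not_true, Bool.false_or, List.any_eq_true] at h2
  obtain ⟨c, hcm, hcc⟩ := h2
  rw [Bool.and_eq_true] at hcc
  rw [List.mem_map]
  refine ⟨c, hcm, ?_⟩
  rw [Nat.eq_of_beq_eq_true hcc.1, Nat.eq_of_beq_eq_true hcc.2, hzz]

end Cfsg.Agent.Lib.Helper28.BSGSMat

namespace Cfsg.Agent.Lib.Helper28.CentTools

/-- a subgroup all of whose elements occur in a list has at most as many elements as the list -/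
theorem card_le_of_forall_mem_list {G : Type*} [Group G] (C : Subgroup G) (l : List G)
    (h : ∀ z ∈ C, z ∈ l) : Nat.card C ≤ l.length := by
  classical
  have hsub : (C : Set G) ⊆ ↑l.toFinset := by
    intro z hz
    rw [Finset.mem_coe, List.mem_toFinset]
    exact h z hz
  have h1 : Nat.card C = (C : Set G).ncard := (Nat.card_coe_set_eq (C : Set G))
  rw [h1]
  calc (C : Set G).ncard ≤ (↑l.toFinset : Set G).ncard :=
        Set.ncard_le_ncard hsub (Finset.finite_toSet _)
    _ = l.toFinset.card := Set.ncard_coe_finset _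
    _ ≤ l.length := List.toFinset_card_le l

/-- the centralizer of an element of a subgroup, computed in the ambient group -/
theorem cent_equiv {G₀ : Type*} [Group G₀] (J : Subgroup G₀) (t : J) :
    Nonempty (↥(Subgroup.centralizer ({t} : Set J)) ≃*
      ↥(Subgroup.centralizer ({(t : G₀)} : Set G₀) ⊓ J)) := by
  refine ⟨{ toFun := fun z => ⟨(z.1 : G₀), ⟨?_, z.1.2⟩⟩
            invFun := fun w => ⟨⟨w.1, w.2.2⟩, ?_⟩
            left_inv := fun z => rfl
            right_inv := fun w => rfl
            map_mul' := fun a b => rfl }⟩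
  · show (z.1 : G₀) ∈ Subgroup.centralizer ({(t : G₀)} : Set G₀)
    rw [Subgroup.mem_centralizer_iff]
    intro h hh
    rw [Set.mem_singleton_iff] at hh
    subst hh
    have := (Subgroup.mem_centralizer_iff.mp z.2) t (Set.mem_singleton t)
    exact congrArg Subtype.val this
  · rw [Subgroup.mem_centralizer_iff]
    intro h hh
    rw [Set.mem_singleton_iff] at hh
    subst hh
    apply Subtype.ext
    exact (Subgroup.mem_centralizer_iff.mp w.2.1) (h : G₀) (Set.mem_singleton _)

/-- a group with a central involution `t` and a subgroup `K` avoiding `t`, of order at most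
`2 |K|`, is the direct product of `⟨t⟩` and `K` -/
theorem prod_iso {G : Type*} [Group G] (C K : Subgroup G) [Finite C] (t : G)
    (ht2 : orderOf t = 2) (htC : t ∈ C) (hKC : K ≤ C) (hcomm : ∀ k ∈ K, t * k = k * t)
    (htK : t ∉ K) (hcard : Nat.card C ≤ 2 * Nat.card K) :
    Nonempty (C ≃* Multiplicative (ZMod 2) × K) := by
  haveI : Fact (Nat.Prime 2) := ⟨Nat.prime_two⟩
  have comm : ∀ (a : Subgroup.zpowers t) (k : K),
      Commute ((Subgroup.zpowers t).subtype a) (K.subtype k) := by
    intro a k
    obtain ⟨i, hi⟩ := Subgroup.mem_zpowers_iff.mp a.2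
    show Commute (a : G) (k : G)
    rw [← hi]
    exact Commute.zpow_left (hcomm k k.2) i
  let φ : Subgroup.zpowers t × K →* G :=
    MonoidHom.noncommCoprod (Subgroup.zpowers t).subtype K.subtype comm
  have hφ : ∀ x, φ x = (x.1 : G) * (x.2 : G) := fun x => rfl
  have hdisj : Disjoint (Subgroup.zpowers t) K := by
    rw [Subgroup.disjoint_def]
    intro x hxz hxk
    obtain ⟨i, hi⟩ := Subgroup.mem_zpowers_iff.mp hxz
    have h2 : x = t ^ (i % 2) := by
      rw [← hi, ← zpow_mod_orderOf t i, ht2]
      rfl
    have hcases : i % 2 = 0 ∨ i % 2 = 1 := by omega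
    rcases hcases with h | h
    · rw [h2, h, zpow_zero]
    · exfalso
      apply htK
      rw [h, zpow_one] at h2
      rw [← h2]; exact hxk
  have hinj : Function.Injective φ := by
    rw [MonoidHom.noncommCoprod_injective]
    refine ⟨Subgroup.subtype_injective _, Subgroup.subtype_injective _, ?_⟩
    rw [Subgroup.range_subtype, Subgroup.range_subtype]
    exact hdisj
  have hrange : ∀ x, φ x ∈ C := by
    intro x
    rw [hφ]
    exact C.mul_mem ((Subgroup.zpowers_le.mpr htC) x.1.2) (hKC x.2.2)
  let φ' : Subgroup.zpowers t × K →* C := φ.codRestrict C hrange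
  have hinj' : Function.Injective φ' := by
    intro a b hab
    apply hinj
    exact congrArg Subtype.val hab
  have hcz : Nat.card (Subgroup.zpowers t) = 2 := by rw [Nat.card_zpowers, ht2]
  have hcard' : Nat.card C ≤ Nat.card (Subgroup.zpowers t × K) := by
    rw [Nat.card_prod, hcz]; exact hcard
  have hbij : Function.Bijective φ' := hinj'.bijective_of_nat_card_le hcard'
  have e1 : Subgroup.zpowers t × K ≃* C := MulEquiv.ofBijective φ' hbij
  have hc2 : Nat.card (Multiplicative (ZMod 2)) = 2 := by
    rw [Nat.card_eq_fintype_card, Fintype.card_multiplicative, ZMod.card]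
  have e2 : Subgroup.zpowers t ≃* Multiplicative (ZMod 2) := mulEquivOfPrimeCardEq hcz hc2
  exact ⟨e1.symm.trans (MulEquiv.prodCongr e2 (MulEquiv.refl K))⟩

end Cfsg.Agent.Lib.Helper28.CentTools
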