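/-!
# Big packed tables assembled from chunks

A packed table with many entries is written as a list of chunks, each a number holding `c` entries
of `w` bits; `assemble w c chunks` is the number holding all entries.  This file has no imports, so
that the data files using it compile fast.
-/

set_option autoImplicit false

namespace Cfsg.Agent.Lib.Helper28.BigTab

/-- the number whose base-`2 ^ (w * c)` digits are the chunks, lowest first -/
def assemble (w c : Nat) : List Nat → Nat
  | [] => 0
  | ch :: rest => ch + 2 ^ (w * c) * assemble w c rest

end Cfsg.Agent.Lib.Helper28.BigTab
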