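import Cfsg.Agent.Lib.Helper28.BSGSPerm
import Cfsg.Agent.Lib.Helper28.Co1Asm

/-!
# Lookups in big packed tables assembled from chunks

`look w (assemble w c chunks) j` is the entry `j % c` of the chunk `j / c`: a lookup in a big table
can be done in a small chunk.
-/

set_option autoImplicit false

namespace Cfsg.Agent.Lib.Helper28.BigTab

open Cfsg.Agent.Lib.Helper28.BSGS

/-- lookup in a chunked table -/
def lookC (w c : ℕ) (chunks : List ℕ) (j : ℕ) : ℕ := look w (chunks.getD (j / c) 0) (j % c)

theorem look_zero (w j : ℕ) : look w 0 j = 0 := by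
  unfold look
  simp

theorem look_add_low (w c ch R j : ℕ) (hj : j < c) :
    look w (ch + 2 ^ (w * c) * R) j = look w ch j := by
  unfold look
  rw [Nat.shiftRight_eq_div_pow, Nat.shiftRight_eq_div_pow]
  obtain ⟨k, rfl⟩ : ∃ k, c = j + 1 + k := ⟨c - j - 1, by omega⟩
  have e : 2 ^ (w * (j + 1 + k)) * R = 2 ^ (w * j) * (2 ^ w * (2 ^ (w * k) * R)) := by
    rw [show w * (j + 1 + k) = w * j + (w + w * k) by ring, pow_add, pow_add]
    ring
  rw [e, Nat.add_mul_div_left _ _ (Nat.two_pow_pos _), Nat.add_mul_mod_self_left]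

theorem look_add_high (w c ch R j : ℕ) (hch : ch < 2 ^ (w * c)) (hj : c ≤ j) :
    look w (ch + 2 ^ (w * c) * R) j = look w R (j - c) := by
  unfold look
  rw [Nat.shiftRight_eq_div_pow, Nat.shiftRight_eq_div_pow]
  obtain ⟨k, rfl⟩ : ∃ k, j = c + k := ⟨j - c, by omega⟩
  rw [show c + k - c = k by omega, show w * (c + k) = w * c + w * k by ring, pow_add,
    ← Nat.div_div_eq_div_mul, Nat.add_mul_div_left _ _ (Nat.two_pow_pos _),
    Nat.div_eq_of_lt hch, Nat.zero_add]

/-- a lookup in the assembled table is a lookup in a chunk -/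
theorem look_assemble (w c : ℕ) (hc : 0 < c) : ∀ (chunks : List ℕ),
    (∀ ch ∈ chunks, ch < 2 ^ (w * c)) → ∀ j, look w (assemble w c chunks) j = lookC w c chunks j := by
  intro chunks
  induction chunks with
  | nil =>
    intro _ j
    unfold lookC
    simp [assemble, look_zero]
  | cons ch rest ih =>
    intro h j
    have hch : ch < 2 ^ (w * c) := h ch List.mem_cons_self
    have hrest : ∀ x ∈ rest, x < 2 ^ (w * c) := fun x hx => h x (List.mem_cons_of_mem _ hx)
    show look w (ch + 2 ^ (w * c) * assemble w c rest) j = _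
    by_cases hj : j < c
    · rw [look_add_low w c ch _ j hj]
      unfold lookC
      rw [Nat.div_eq_of_lt hj, Nat.mod_eq_of_lt hj]
      rfl
    · have hj' : c ≤ j := Nat.le_of_not_lt hj
      rw [look_add_high w c ch _ j hch hj', ih hrest (j - c)]
      unfold lookC
      obtain ⟨k, rfl⟩ : ∃ k, j = k + c := ⟨j - c, by omega⟩
      rw [Nat.add_sub_cancel, Nat.add_div_right _ hc, Nat.add_mod_right]
      rfl

end Cfsg.Agent.Lib.Helper28.BigTab
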