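import Cfsg.Agent.Lib.Helper28.AffineOctad

set_option autoImplicit false

/-!
The centralizer in `M24` of an involution fixing the points of an octad is isomorphic to the
centralizer of a transvection in `SL(5, 2)`.
-/

namespace Cfsg.Agent.Lib.Helper28

open Cfsg MulAction
open scoped Pointwise

theorem exists_agZ : ∃ z ∈ M24, ActsBy z ag_z := ag_z_check.1.exists

/-- the translation by the first basis vector -/
noncomputable def agZ : Equiv.Perm GolayPt := Classical.choose exists_agZ

theorem agZ_mem : agZ ∈ M24 := (Classical.choose_spec exists_agZ).1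

theorem agZ_acts : ActsBy agZ ag_z := (Classical.choose_spec exists_agZ).2

theorem agZ_fix {x : GolayPt} (hx : x ∈ agO) : agZ x = x := by
  obtain ⟨a, ha, rfl⟩ := mem_ptSet.mp hx
  rw [(agZ_acts a (agO_good.2 a ha)).2, ag_z_check.2.1 a ha]

theorem agZ_comp {a : ℕ} (ha : a ∈ ag_comp) : agZ (ptN a) = ptN (look ag_z a) :=
  (agZ_acts a (comp_lt ha)).2

theorem agZ_move {x : GolayPt} (hx : x ∉ agO) : agZ x ≠ x := by
  obtain ⟨a, ha, rfl⟩ := exists_comp_of_not_mem hx
  rw [agZ_comp ha]
  intro h
  have h' := ag_z_check.2.2 a ha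
  exact h'.2.1 (ptN_inj (comp_lt h'.1) (comp_lt ha) h)

theorem agZ_stab : agZ ∈ agStab := by
  refine mem_agStab.mpr ⟨agZ_mem, ?_⟩
  ext x
  rw [Finset.mem_smul_finset]
  constructor
  · rintro ⟨y, hy, rfl⟩
    rw [Equiv.Perm.smul_def, agZ_fix hy]
    exact hy
  · intro hx
    exact ⟨x, hx, by rw [Equiv.Perm.smul_def, agZ_fix hx]⟩

theorem agZ_sq : agZ * agZ = 1 :=
  (octad_fixingSubgroup agO agO_mem).2 agZ (mem_octadKer.mpr ⟨agZ_mem, fun _ hx => agZ_fix hx⟩)

theorem agZ_ne_one : agZ ≠ 1 := by
  intro h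
  apply agZ_move (not_mem_of_comp (a := 4) (by decide))
  rw [h]
  rfl

theorem agM_agZ : agM agZ = Matrix.transvection 0 1 1 := by
  symm
  apply eq_agM
  intro a ha
  have h' := ag_z_check.2.2 a ha
  rw [Matrix.transvection, Matrix.add_mulVec, Matrix.one_mulVec, Matrix.single_mulVec, one_mul,
    agI_one_of_not_mem (not_mem_of_comp ha), agZ_comp ha, agI_ptN (comp_lt ha),
    agI_ptN (comp_lt h'.1), h'.2.2, vecOf_xor, ag_vec_check.2.2.2.2.2.2]
  rfl

theorem smul_agO_of_comm {c : Equiv.Perm GolayPt} (hc : agZ * c = c * agZ) : c • agO = agO := by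
  apply Finset.eq_of_subset_of_card_le
  · intro x hx
    obtain ⟨y, hy, rfl⟩ := Finset.mem_smul_finset.mp hx
    by_contra hn
    apply agZ_move hn
    rw [Equiv.Perm.smul_def]
    have := congrArg (fun e : Equiv.Perm GolayPt => e y) hc
    simp only [Equiv.Perm.mul_apply] at this
    rw [this, agZ_fix hy]
  · rw [Finset.card_smul_finset]

theorem agRow_of_comm (m : Matrix.SpecialLinearGroup (Fin 5) (ZMod 2))
    (h : Matrix.transvection 0 1 1 * m.1 = m.1 * Matrix.transvection 0 1 1) : AgRow m := by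
  have key : ∀ j, m.1 1 j = if j = 1 then m.1 0 0 else 0 := by
    intro j
    have h0 := congrFun (congrFun h 0) j
    rw [Matrix.transvection, Matrix.add_mul, Matrix.mul_add, Matrix.one_mul, Matrix.mul_one,
      Matrix.add_apply, Matrix.add_apply, Matrix.single_mul_apply_same, one_mul] at h0
    have h1 := add_left_cancel h0
    by_cases hj : j = 1
    · subst hj
      rw [Matrix.mul_single_apply_same, mul_one] at h1
      rw [if_pos rfl, h1]
    · rw [Matrix.mul_single_apply_of_ne _ _ _ _ _ hj] at h1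
      rw [if_neg hj, h1]
  have h00 : m.1 0 0 = 1 := by
    by_contra hne
    have hz : m.1 0 0 = 0 := by
      generalize m.1 0 0 = x at hne
      revert x
      decide
    have hdet : m.1.det = 0 := by
      apply Matrix.det_eq_zero_of_row_eq_zero 1
      intro j
      rw [key j, hz]
      split_ifs <;> rfl
    rw [m.2] at hdet
    exact one_ne_zero hdet
  intro j
  rw [key j, h00]

/-- the matrix of an element of the stabilizer, in the special linear group -/
def agSL (g : Equiv.Perm GolayPt) (hg : g ∈ agStab) : Matrix.SpecialLinearGroup (Fin 5) (ZMod 2) :=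
  ⟨agM g, agM_det hg⟩

/-- the centralizer of an involution fixing an octad is the centralizer of a transvection -/
theorem cent_2A_iso (s : Matrix.SpecialLinearGroup (Fin 5) (ZMod 2))
    (hs : (s : Matrix (Fin 5) (Fin 5) (ZMod 2)) = Matrix.transvection 0 1 1) :
    ∃ z : ↥M24, orderOf z = 2 ∧ Nonempty (↥(Subgroup.centralizer ({z} : Set ↥M24)) ≃*
      ↥(Subgroup.centralizer ({s} : Set (Matrix.SpecialLinearGroup (Fin 5) (ZMod 2))))) := by
  refine ⟨⟨agZ, agZ_mem⟩, ?_, ?_⟩
  · apply orderOf_eq_prime
    · rw [pow_two]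
      exact Subtype.ext agZ_sq
    · intro h
      exact agZ_ne_one (congrArg Subtype.val h)
  · have hcomm : ∀ c : ↥(Subgroup.centralizer ({(⟨agZ, agZ_mem⟩ : ↥M24)} : Set ↥M24)),
        agZ * c.1.1 = c.1.1 * agZ := by
      intro c
      have h := Subgroup.mem_centralizer_iff.mp c.2 ⟨agZ, agZ_mem⟩ (Set.mem_singleton _)
      exact congrArg Subtype.val h
    have hstab : ∀ c : ↥(Subgroup.centralizer ({(⟨agZ, agZ_mem⟩ : ↥M24)} : Set ↥M24)),
        c.1.1 ∈ agStab := fun c => mem_agStab.mpr ⟨c.1.2, smul_agO_of_comm (hcomm c)⟩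
    have hcent : ∀ c : ↥(Subgroup.centralizer ({(⟨agZ, agZ_mem⟩ : ↥M24)} : Set ↥M24)),
        agSL c.1.1 (hstab c) ∈
          Subgroup.centralizer ({s} : Set (Matrix.SpecialLinearGroup (Fin 5) (ZMod 2))) := by
      intro c
      refine Subgroup.mem_centralizer_iff.mpr ?_
      intro h hh
      rw [Set.mem_singleton_iff] at hh
      subst hh
      apply Subtype.ext
      show (h : Matrix (Fin 5) (Fin 5) (ZMod 2)) * agM c.1.1 = agM c.1.1 * h
      rw [hs, ← agM_agZ, ← agM_mul agZ_stab (hstab c), ← agM_mul (hstab c) agZ_stab, hcomm c]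
    let F : ↥(Subgroup.centralizer ({(⟨agZ, agZ_mem⟩ : ↥M24)} : Set ↥M24)) →*
        ↥(Subgroup.centralizer ({s} : Set (Matrix.SpecialLinearGroup (Fin 5) (ZMod 2)))) :=
      MonoidHom.mk' (fun c => ⟨agSL c.1.1 (hstab c), hcent c⟩) (by
        intro c c'
        apply Subtype.ext
        apply Subtype.ext
        exact agM_mul (hstab c) (hstab c'))
    have hinj : Function.Injective F := by
      intro c c' e
      have e1 : agM c.1.1 = agM c'.1.1 := congrArg (fun u => u.1.1) e
      exact Subtype.ext (Subtype.ext (agM_injOn (hstab c) (hstab c') e1))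
    have hsurj : Function.Surjective F := by
      intro m
      have hm := Subgroup.mem_centralizer_iff.mp m.2 s (Set.mem_singleton _)
      have hmat : Matrix.transvection 0 1 1 * m.1.1 = m.1.1 * Matrix.transvection 0 1 1 := by
        have := congrArg Subtype.val hm
        rw [← hs]
        exact this
      obtain ⟨g, hg, hgm⟩ := exists_agM_eq m.1 (agRow_of_comm m.1 hmat)
      have hgz : agZ * g = g * agZ := by
        apply agM_injOn (agStab.mul_mem agZ_stab hg) (agStab.mul_mem hg agZ_stab)
        rw [agM_mul agZ_stab hg, agM_mul hg agZ_stab, agM_agZ, hgm]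
        exact hmat
      refine ⟨⟨⟨g, (mem_agStab.mp hg).1⟩, ?_⟩, ?_⟩
      · rw [Subgroup.mem_centralizer_iff]
        intro h hh
        rw [Set.mem_singleton_iff] at hh
        subst hh
        exact Subtype.ext hgz
      · apply Subtype.ext
        apply Subtype.ext
        exact hgm
    exact ⟨MulEquiv.ofBijective F ⟨hinj, hsurj⟩⟩

end Cfsg.Agent.Lib.Helper28
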