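import Cfsg.Agent.Lib.Helper28.CertOrbits

set_option autoImplicit false

/-!
Classes of an invariant from certificates: if duplicate-free pairwise disjoint lists of images of
roots under the stabilizer of a base object exhaust an invariant set, and an invariant separates
the roots, then the classes of the invariant are the lists, and the stabilizer is transitive on
every class.  A transported version for `M24`-images of the base object.
-/

namespace Cfsg.Agent.Lib.Helper28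

open Cfsg MulAction
open scoped Pointwise

theorem classes_of_lists {G A Y V : Type*} [Group G] [MulAction G A] [MulAction G Y]
    (H : Subgroup G) (Z : A) (F : Set Y) (hFinv : ∀ g ∈ H, ∀ y ∈ F, g • y ∈ F) (N : ℕ)
    (hN : F.ncard = N) (hfin : F.Finite) {k : ℕ} (X : Fin k → Y) (hX : ∀ i, X i ∈ F)
    (Ls : Fin k → List Y) (hnd : ((List.ofFn Ls).flatten).Nodup)
    (hcert : ∀ i, ∀ y ∈ Ls i, ∃ g ∈ H ⊓ stabilizer G Z, g • X i = y)
    (n : Fin k → ℕ) (hn : ∀ i, (Ls i).length = n i) (hsum : ∑ i, n i = N)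
    (inv : A → Y → V) (hinv : ∀ g ∈ H, ∀ z y, inv (g • z) (g • y) = inv z y)
    (hdist : Function.Injective (fun i => inv Z (X i))) :
    (∀ y ∈ F, ∃ i, inv Z y = inv Z (X i)) ∧
    (∀ i, {y | y ∈ F ∧ inv Z y = inv Z (X i)}.ncard = n i) ∧
    (∀ y ∈ F, ∀ y' ∈ F, inv Z y = inv Z y' → ∃ g ∈ H ⊓ stabilizer G Z, g • y = y') := by
  classical
  obtain ⟨hnd1, hnd2⟩ := pairwise_disjoint_of_nodup_flatten Ls hnd
  have hLF : ∀ i, ∀ y ∈ Ls i, y ∈ F := by
    intro i y hy
    obtain ⟨g, hg, rfl⟩ := hcert i y hy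
    exact hFinv g (Subgroup.mem_inf.mp hg).1 _ (hX i)
  have hLinv : ∀ i, ∀ y ∈ Ls i, inv Z y = inv Z (X i) := by
    intro i y hy
    obtain ⟨g, hg, rfl⟩ := hcert i y hy
    obtain ⟨hgH, hgZ⟩ := Subgroup.mem_inf.mp hg
    have hgZ' : g • Z = Z := hgZ
    conv_lhs => rw [← hgZ']
    exact hinv g hgH Z (X i)
  have hS : ∀ i, {y | y ∈ Ls i}.ncard = n i := by
    intro i
    have : {y | y ∈ Ls i} = (((Ls i).toFinset : Finset Y) : Set Y) := by
      ext y; simp
    rw [this, Set.ncard_coe_finset, List.toFinset_card_of_nodup (hnd1 i), hn i]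
  have hSfin : ∀ i, ({y | y ∈ Ls i} : Set Y).Finite := fun i => hfin.subset (hLF i)
  have hdisj : ∀ i j, i ≠ j → Disjoint ({y | y ∈ Ls i} : Set Y) {y | y ∈ Ls j} := by
    intro i j hij
    rw [Set.disjoint_left]
    intro y hy hy'
    exact hnd2 i j hij y hy hy'
  have hU : (⋃ i ∈ (Finset.univ : Finset (Fin k)), {y | y ∈ Ls i}) = F := by
    apply Set.eq_of_subset_of_ncard_le _ _ hfin
    · intro y hy
      simp only [Finset.mem_univ, Set.iUnion_true, Set.mem_iUnion] at hy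
      obtain ⟨i, hi⟩ := hy
      exact hLF i y hi
    · rw [(ncard_biUnion_of_disjoint (fun i => {y | y ∈ Ls i}) hSfin hdisj Finset.univ).1, hN,
        ← hsum]
      exact le_of_eq (Finset.sum_congr rfl (fun i _ => (hS i).symm))
  have hcover : ∀ y ∈ F, ∃ j, y ∈ Ls j := by
    intro y hy
    rw [← hU] at hy
    simp only [Finset.mem_univ, Set.iUnion_true, Set.mem_iUnion] at hy
    exact hy
  refine ⟨?_, ?_, ?_⟩
  · intro y hy
    obtain ⟨j, hj⟩ := hcover y hy
    exact ⟨j, hLinv j y hj⟩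
  · intro i
    have : {y | y ∈ F ∧ inv Z y = inv Z (X i)} = {y | y ∈ Ls i} := by
      ext y
      constructor
      · rintro ⟨hyF, hyi⟩
        obtain ⟨j, hj⟩ := hcover y hyF
        have : j = i := hdist (by show inv Z (X j) = inv Z (X i); rw [← hLinv j y hj, hyi])
        rw [← this]; exact hj
      · intro hy
        exact ⟨hLF i y hy, hLinv i y hy⟩
    rw [this, hS i]
  · intro y hy y' hy' he
    obtain ⟨j, hj⟩ := hcover y hy
    obtain ⟨j', hj'⟩ := hcover y' hy'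
    have : j = j' := hdist (by
      show inv Z (X j) = inv Z (X j'); rw [← hLinv j y hj, ← hLinv j' y' hj', he])
    subst this
    obtain ⟨g, hg, rfl⟩ := hcert j y hj
    obtain ⟨g', hg', rfl⟩ := hcert j y' hj'
    exact ⟨g' * g⁻¹, Subgroup.mul_mem _ hg' (Subgroup.inv_mem _ hg), by
      rw [mul_smul, inv_smul_smul]⟩

/-- classes of an invariant relative to an image `h • Z` of the base object -/
theorem classes_of_cert {G A Y V : Type*} [Group G] [MulAction G A] [MulAction G Y]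
    (H : Subgroup G) (Z : A) (F : Set Y) (hFinv : ∀ g ∈ H, ∀ y ∈ F, g • y ∈ F) (N : ℕ)
    (hN : F.ncard = N) (hfin : F.Finite) {k : ℕ} (X : Fin k → Y) (hX : ∀ i, X i ∈ F)
    (Ls : Fin k → List Y) (hnd : ((List.ofFn Ls).flatten).Nodup)
    (hcert : ∀ i, ∀ y ∈ Ls i, ∃ g ∈ H ⊓ stabilizer G Z, g • X i = y)
    (n : Fin k → ℕ) (hn : ∀ i, (Ls i).length = n i) (hsum : ∑ i, n i = N)
    (inv : A → Y → V) (hinv : ∀ g ∈ H, ∀ z y, inv (g • z) (g • y) = inv z y)
    (hdist : Function.Injective (fun i => inv Z (X i))) (h : G) (hh : h ∈ H) :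
    (∀ y ∈ F, ∃ i, inv (h • Z) y = inv Z (X i)) ∧
    (∀ i, {y | y ∈ F ∧ inv (h • Z) y = inv Z (X i)}.ncard = n i) ∧
    (∀ y ∈ F, ∀ y' ∈ F, inv (h • Z) y = inv (h • Z) y' →
      ∃ g ∈ H ⊓ stabilizer G (h • Z), g • y = y') := by
  obtain ⟨h1, h2, h3⟩ := classes_of_lists H Z F hFinv N hN hfin X hX Ls hnd hcert n hn hsum inv
    hinv hdist
  have hhi : h⁻¹ ∈ H := H.inv_mem hh
  have key : ∀ y, inv (h • Z) y = inv Z (h⁻¹ • y) := by
    intro y
    rw [← hinv h⁻¹ hhi (h • Z) y, inv_smul_smul]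
  refine ⟨?_, ?_, ?_⟩
  · intro y hy
    rw [key]
    exact h1 _ (hFinv _ hhi y hy)
  · intro i
    rw [← h2 i]
    have : {y | y ∈ F ∧ inv (h • Z) y = inv Z (X i)} =
        (fun y => h • y) '' {y | y ∈ F ∧ inv Z y = inv Z (X i)} := by
      ext y
      constructor
      · rintro ⟨hyF, hyi⟩
        refine ⟨h⁻¹ • y, ⟨hFinv _ hhi y hyF, ?_⟩, smul_inv_smul h y⟩
        rw [← key]; exact hyi
      · rintro ⟨y, ⟨hyF, hyi⟩, rfl⟩
        refine ⟨hFinv _ hh y hyF, ?_⟩
        rw [key, inv_smul_smul]; exact hyi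
    rw [this, Set.ncard_image_of_injective _ (MulAction.injective h)]
  · intro y hy y' hy' he
    rw [key, key] at he
    obtain ⟨g, hg, hgy⟩ := h3 _ (hFinv _ hhi y hy) _ (hFinv _ hhi y' hy') he
    obtain ⟨hgH, hgZ⟩ := Subgroup.mem_inf.mp hg
    have hgZ' : g • Z = Z := hgZ
    refine ⟨h * g * h⁻¹, Subgroup.mem_inf.mpr ⟨H.mul_mem (H.mul_mem hh hgH) hhi, ?_⟩, ?_⟩
    · rw [mem_stabilizer_iff, mul_smul, mul_smul, inv_smul_smul, hgZ']
    · rw [mul_smul, mul_smul, hgy, smul_inv_smul]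

/-- classes of an invariant from a replayed certificate -/
theorem CertModel.classes {X Y : Type} [MulAction (Equiv.Perm GolayPt) Y] (M : CertModel X Y)
    {A V : Type*} [MulAction (Equiv.Perm GolayPt) A] (Z₀ : A) (tabs : List ℕ)
    (hgens : ∀ t ∈ tabs, ∃ g ∈ M24 ⊓ stabilizer (Equiv.Perm GolayPt) Z₀, ActsBy g t)
    (F : Set Y) (hFinv : ∀ g ∈ M24, ∀ y ∈ F, g • y ∈ F) (N : ℕ) (hN : F.ncard = N)
    (hfin : F.Finite) {k : ℕ} (roots : Fin k → X) (hroots : ∀ i, M.Good (roots i))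
    (hX : ∀ i, M.sem (roots i) ∈ F) (certs : Fin k → List (List ℕ)) (sizes : Fin k → ℕ)
    (hcheck : distinctAux (((List.ofFn fun i => M.nodes tabs (roots i) (certs i)).flatten).map
      M.code) 0 = true)
    (hlen : ∀ i, (M.nodes tabs (roots i) (certs i)).length = sizes i)
    (hsum : ∑ i, sizes i = N)
    (inv : A → Y → V) (hinv : ∀ g ∈ M24, ∀ z y, inv (g • z) (g • y) = inv z y)
    (hdist : Function.Injective (fun i => inv Z₀ (M.sem (roots i))))
    (h : Equiv.Perm GolayPt) (hh : h ∈ M24) :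
    (∀ y ∈ F, ∃ i, inv (h • Z₀) y = inv Z₀ (M.sem (roots i))) ∧
    (∀ i, {y | y ∈ F ∧ inv (h • Z₀) y = inv Z₀ (M.sem (roots i))}.ncard = sizes i) ∧
    (∀ y ∈ F, ∀ y' ∈ F, inv (h • Z₀) y = inv (h • Z₀) y' →
      ∃ g ∈ M24 ⊓ stabilizer (Equiv.Perm GolayPt) (h • Z₀), g • y = y') := by
  obtain ⟨h1, h2⟩ := M.main _ tabs hgens roots hroots certs hcheck
  exact classes_of_cert M24 Z₀ F hFinv N hN hfin (fun i => M.sem (roots i)) hX
    (fun i => (M.nodes tabs (roots i) (certs i)).map M.sem) h1 h2 sizes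
    (fun i => by rw [List.length_map]; exact hlen i) hsum inv hinv hdist h hh

end Cfsg.Agent.Lib.Helper28
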