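import Cfsg.Agent.Lib.Helper28.PermChain

set_option autoImplicit false

/-!
Generic stabilizer chains in a permutation group `H ≤ Equiv.Perm α` along a base
`b : Fin n → α`: `chainStab H b k` fixes the first `k` base points; if the basic orbits are known
and the chain ends in the trivial group, the order of `H` is the product of the orbit sizes.
-/

namespace Cfsg.Agent.Lib.Helper28

open MulAction

variable {α : Type*}

/-- the subgroup of `H` fixing the first `k` points of the base `b` -/
def chainStab (H : Subgroup (Equiv.Perm α)) {n : ℕ} (b : Fin n → α) (k : ℕ) :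
    Subgroup (Equiv.Perm α) where
  carrier := {g | g ∈ H ∧ ∀ j : Fin n, j.val < k → g (b j) = b j}
  one_mem' := ⟨H.one_mem, fun _ _ => rfl⟩
  mul_mem' := by
    rintro g h ⟨hg, hg'⟩ ⟨hh, hh'⟩
    refine ⟨H.mul_mem hg hh, fun j hj => ?_⟩
    rw [Equiv.Perm.mul_apply, hh' j hj, hg' j hj]
  inv_mem' := by
    rintro g ⟨hg, hg'⟩
    refine ⟨H.inv_mem hg, fun j hj => ?_⟩
    rw [Equiv.Perm.inv_eq_iff_eq, hg' j hj]

theorem mem_chainStab {H : Subgroup (Equiv.Perm α)} {n : ℕ} {b : Fin n → α} {k : ℕ}
    {g : Equiv.Perm α} :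
    g ∈ chainStab H b k ↔ g ∈ H ∧ ∀ j : Fin n, j.val < k → g (b j) = b j := Iff.rfl

theorem chainStab_le (H : Subgroup (Equiv.Perm α)) {n : ℕ} (b : Fin n → α) (k : ℕ) :
    chainStab H b k ≤ H := fun _ hg => hg.1

theorem chainStab_zero (H : Subgroup (Equiv.Perm α)) {n : ℕ} (b : Fin n → α) :
    chainStab H b 0 = H := by
  ext g
  rw [mem_chainStab]
  exact ⟨fun h => h.1, fun h => ⟨h, fun j hj => absurd hj (Nat.not_lt_zero _)⟩⟩

theorem chainStab_succ (H : Subgroup (Equiv.Perm α)) {n : ℕ} (b : Fin n → α) (k : Fin n) :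
    chainStab H b (k.val + 1) =
      chainStab H b k.val ⊓ stabilizer (Equiv.Perm α) (b k) := by
  ext g
  rw [Subgroup.mem_inf, mem_chainStab, mem_chainStab, MulAction.mem_stabilizer_iff]
  constructor
  · rintro ⟨hg, h⟩
    exact ⟨⟨hg, fun j hj => h j (Nat.lt_succ_of_lt hj)⟩, h k (Nat.lt_succ_self _)⟩
  · rintro ⟨⟨hg, h⟩, hk⟩
    refine ⟨hg, fun j hj => ?_⟩
    rcases Nat.lt_succ_iff_lt_or_eq.mp hj with hlt | heq
    · exact h j hlt
    · have : j = k := Fin.ext heq
      rw [this]; exact hk

/-- the basic orbit, from an upper bound (an invariant) and a lower bound (transversal) -/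
theorem orbit_chainStab (H : Subgroup (Equiv.Perm α)) {n : ℕ} (b : Fin n → α) (k : Fin n)
    (Ω : Set α)
    (hupper : ∀ g ∈ H, (∀ j : Fin n, j < k → g (b j) = b j) → g (b k) ∈ Ω)
    (hlower : ∀ x ∈ Ω, ∃ g ∈ H, (∀ j : Fin n, j < k → g (b j) = b j) ∧ g (b k) = x) :
    orbit (chainStab H b k.val) (b k) = Ω := by
  ext x
  constructor
  · rintro ⟨⟨g, hg⟩, rfl⟩
    exact hupper g hg.1 (fun j hj => hg.2 j hj)
  · intro hx
    obtain ⟨g, hg, hfix, hmap⟩ := hlower x hx
    exact ⟨⟨g, ⟨hg, fun j hj => hfix j hj⟩⟩, hmap⟩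

theorem card_chainStab_step [Finite α] (H : Subgroup (Equiv.Perm α)) {n : ℕ} (b : Fin n → α)
    (k : Fin n) :
    Nat.card (chainStab H b k.val) =
      (orbit (chainStab H b k.val) (b k)).ncard * Nat.card (chainStab H b (k.val + 1)) := by
  rw [card_eq_orbit_mul_card_inf_stabilizer (chainStab H b k.val) (b k), chainStab_succ]

/-- the order of `H` as the product of the basic orbit sizes -/
theorem card_eq_prod_of_chain [Finite α] (H : Subgroup (Equiv.Perm α)) {n : ℕ} (b : Fin n → α)
    (sz : Fin n → ℕ)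
    (horb : ∀ k : Fin n, (orbit (chainStab H b k.val) (b k)).ncard = sz k)
    (hrigid : ∀ g ∈ H, (∀ j : Fin n, g (b j) = b j) → g = 1) :
    Nat.card H = ∏ k : Fin n, sz k := by
  have key : ∀ m : ℕ, m ≤ n →
      Nat.card H = (∏ j ∈ Finset.univ.filter (fun j : Fin n => j.val < m), sz j) *
        Nat.card (chainStab H b m) := by
    intro m
    induction m with
    | zero =>
      intro _
      rw [chainStab_zero]
      simp
    | succ m ih =>
      intro hm
      rw [ih (Nat.le_of_succ_le hm)]
      let k : Fin n := ⟨m, hm⟩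
      have hstep := card_chainStab_step H b k
      rw [horb k] at hstep
      have hk : k.val = m := rfl
      rw [hk] at hstep
      rw [hstep, ← mul_assoc]
      congr 1
      have hset : Finset.univ.filter (fun j : Fin n => j.val < m + 1) =
          insert k (Finset.univ.filter (fun j : Fin n => j.val < m)) := by
        ext j
        simp only [Finset.mem_filter, Finset.mem_univ, true_and, Finset.mem_insert]
        constructor
        · intro h
          rcases Nat.lt_succ_iff_lt_or_eq.mp h with h1 | h1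
          · exact Or.inr h1
          · exact Or.inl (Fin.ext h1)
        · rintro (h | h)
          · rw [h]; exact Nat.lt_succ_self _
          · exact Nat.lt_succ_of_lt h
      rw [hset, Finset.prod_insert, mul_comm]
      simp [k]
  have hn := key n le_rfl
  have hbot : chainStab H b n = ⊥ := by
    rw [Subgroup.eq_bot_iff_forall]
    intro g hg
    exact hrigid g hg.1 (fun j => hg.2 j j.2)
  rw [hbot, Subgroup.card_bot, mul_one] at hn
  rw [hn]
  apply Finset.prod_congr _ (fun _ _ => rfl)
  ext j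
  simp

/-- peeling off a transversal element -/
theorem inv_mul_mem_chainStab_succ {H : Subgroup (Equiv.Perm α)} {n : ℕ} {b : Fin n → α}
    {k : Fin n} {g t : Equiv.Perm α} (hg : g ∈ chainStab H b k.val)
    (ht : t ∈ chainStab H b k.val) (htg : t (b k) = g (b k)) :
    t⁻¹ * g ∈ chainStab H b (k.val + 1) := by
  rw [chainStab_succ, Subgroup.mem_inf]
  refine ⟨Subgroup.mul_mem _ (Subgroup.inv_mem _ ht) hg, ?_⟩
  rw [MulAction.mem_stabilizer_iff]
  show (t⁻¹ * g) (b k) = b k
  rw [Equiv.Perm.mul_apply, ← htg]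
  simp

end Cfsg.Agent.Lib.Helper28
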