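import Cfsg.Agent.Lib.Helper28.Co1Seg

/-! Certificates for the first Conway group on 98280 points: the vectors 3780 to 7559 (generated). -/

set_option autoImplicit false
set_option Elab.async false
set_option maxRecDepth 1000000

namespace Cfsg.Agent.Lib.Helper28.Co1A

theorem blk_36 : ∀ i : Fin 105, VecOK (3780 + i.val) := by
  decide +kernel

theorem blk_37 : ∀ i : Fin 105, VecOK (3885 + i.val) := by
  decide +kernel

theorem blk_38 : ∀ i : Fin 105, VecOK (3990 + i.val) := by
  decide +kernel

theorem blk_39 : ∀ i : Fin 105, VecOK (4095 + i.val) := by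
  decide +kernel

theorem blk_40 : ∀ i : Fin 105, VecOK (4200 + i.val) := by
  decide +kernel

theorem blk_41 : ∀ i : Fin 105, VecOK (4305 + i.val) := by
  decide +kernel

theorem blk_42 : ∀ i : Fin 105, VecOK (4410 + i.val) := by
  decide +kernel

theorem blk_43 : ∀ i : Fin 105, VecOK (4515 + i.val) := by
  decide +kernel

theorem blk_44 : ∀ i : Fin 105, VecOK (4620 + i.val) := by
  decide +kernel

theorem blk_45 : ∀ i : Fin 105, VecOK (4725 + i.val) := by
  decide +kernel

theorem blk_46 : ∀ i : Fin 105, VecOK (4830 + i.val) := by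
  decide +kernel

theorem blk_47 : ∀ i : Fin 105, VecOK (4935 + i.val) := by
  decide +kernel

theorem blk_48 : ∀ i : Fin 105, VecOK (5040 + i.val) := by
  decide +kernel

theorem blk_49 : ∀ i : Fin 105, VecOK (5145 + i.val) := by
  decide +kernel

theorem blk_50 : ∀ i : Fin 105, VecOK (5250 + i.val) := by
  decide +kernel

theorem blk_51 : ∀ i : Fin 105, VecOK (5355 + i.val) := by
  decide +kernel

theorem blk_52 : ∀ i : Fin 105, VecOK (5460 + i.val) := by
  decide +kernel

theorem blk_53 : ∀ i : Fin 105, VecOK (5565 + i.val) := by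
  decide +kernel

theorem blk_54 : ∀ i : Fin 105, VecOK (5670 + i.val) := by
  decide +kernel

theorem blk_55 : ∀ i : Fin 105, VecOK (5775 + i.val) := by
  decide +kernel

theorem blk_56 : ∀ i : Fin 105, VecOK (5880 + i.val) := by
  decide +kernel

theorem blk_57 : ∀ i : Fin 105, VecOK (5985 + i.val) := by
  decide +kernel

theorem blk_58 : ∀ i : Fin 105, VecOK (6090 + i.val) := by
  decide +kernel

theorem blk_59 : ∀ i : Fin 105, VecOK (6195 + i.val) := by
  decide +kernel

theorem blk_60 : ∀ i : Fin 105, VecOK (6300 + i.val) := by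
  decide +kernel

theorem blk_61 : ∀ i : Fin 105, VecOK (6405 + i.val) := by
  decide +kernel

theorem blk_62 : ∀ i : Fin 105, VecOK (6510 + i.val) := by
  decide +kernel

theorem blk_63 : ∀ i : Fin 105, VecOK (6615 + i.val) := by
  decide +kernel

theorem blk_64 : ∀ i : Fin 105, VecOK (6720 + i.val) := by
  decide +kernel

theorem blk_65 : ∀ i : Fin 105, VecOK (6825 + i.val) := by
  decide +kernel

theorem blk_66 : ∀ i : Fin 105, VecOK (6930 + i.val) := by
  decide +kernel

theorem blk_67 : ∀ i : Fin 105, VecOK (7035 + i.val) := by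
  decide +kernel

theorem blk_68 : ∀ i : Fin 105, VecOK (7140 + i.val) := by
  decide +kernel

theorem blk_69 : ∀ i : Fin 105, VecOK (7245 + i.val) := by
  decide +kernel

theorem blk_70 : ∀ i : Fin 105, VecOK (7350 + i.val) := by
  decide +kernel

theorem blk_71 : ∀ i : Fin 105, VecOK (7455 + i.val) := by
  decide +kernel

theorem seg_1 : Seg 3780 7560 :=
  seg_step (seg_step (seg_step (seg_step (seg_step (seg_step (seg_step (seg_step (seg_step (seg_step (seg_step (seg_step (seg_step (seg_step (seg_step (seg_step (seg_step (seg_step (seg_step (seg_step (seg_step (seg_step (seg_step (seg_step (seg_step (seg_step (seg_step (seg_step (seg_step (seg_step (seg_step (seg_step (seg_step (seg_step (seg_step (seg_step (seg_nil 3780) blk_36) blk_37) blk_38) blk_39) blk_40) blk_41) blk_42) blk_43) blk_44) blk_45) blk_46) blk_47) blk_48) blk_49) blk_50) blk_51) blk_52) blk_53) blk_54) blk_55) blk_56) blk_57) blk_58) blk_59) blk_60) blk_61) blk_62) blk_63) blk_64) blk_65) blk_66) blk_67) blk_68) blk_69) blk_70) blk_71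

end Cfsg.Agent.Lib.Helper28.Co1A
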