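import Cfsg.Agent.Lib.Helper28.Co1Seg

/-! Certificates for the first Conway group on 98280 points: the vectors 37800 to 41579 (generated). -/

set_option autoImplicit false
set_option Elab.async false
set_option maxRecDepth 1000000

namespace Cfsg.Agent.Lib.Helper28.Co1A

theorem blk_360 : ∀ i : Fin 105, VecOK (37800 + i.val) := by
  decide +kernel

theorem blk_361 : ∀ i : Fin 105, VecOK (37905 + i.val) := by
  decide +kernel

theorem blk_362 : ∀ i : Fin 105, VecOK (38010 + i.val) := by
  decide +kernel

theorem blk_363 : ∀ i : Fin 105, VecOK (38115 + i.val) := by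
  decide +kernel

theorem blk_364 : ∀ i : Fin 105, VecOK (38220 + i.val) := by
  decide +kernel

theorem blk_365 : ∀ i : Fin 105, VecOK (38325 + i.val) := by
  decide +kernel

theorem blk_366 : ∀ i : Fin 105, VecOK (38430 + i.val) := by
  decide +kernel

theorem blk_367 : ∀ i : Fin 105, VecOK (38535 + i.val) := by
  decide +kernel

theorem blk_368 : ∀ i : Fin 105, VecOK (38640 + i.val) := by
  decide +kernel

theorem blk_369 : ∀ i : Fin 105, VecOK (38745 + i.val) := by
  decide +kernel

theorem blk_370 : ∀ i : Fin 105, VecOK (38850 + i.val) := by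
  decide +kernel

theorem blk_371 : ∀ i : Fin 105, VecOK (38955 + i.val) := by
  decide +kernel

theorem blk_372 : ∀ i : Fin 105, VecOK (39060 + i.val) := by
  decide +kernel

theorem blk_373 : ∀ i : Fin 105, VecOK (39165 + i.val) := by
  decide +kernel

theorem blk_374 : ∀ i : Fin 105, VecOK (39270 + i.val) := by
  decide +kernel

theorem blk_375 : ∀ i : Fin 105, VecOK (39375 + i.val) := by
  decide +kernel

theorem blk_376 : ∀ i : Fin 105, VecOK (39480 + i.val) := by
  decide +kernel

theorem blk_377 : ∀ i : Fin 105, VecOK (39585 + i.val) := by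
  decide +kernel

theorem blk_378 : ∀ i : Fin 105, VecOK (39690 + i.val) := by
  decide +kernel

theorem blk_379 : ∀ i : Fin 105, VecOK (39795 + i.val) := by
  decide +kernel

theorem blk_380 : ∀ i : Fin 105, VecOK (39900 + i.val) := by
  decide +kernel

theorem blk_381 : ∀ i : Fin 105, VecOK (40005 + i.val) := by
  decide +kernel

theorem blk_382 : ∀ i : Fin 105, VecOK (40110 + i.val) := by
  decide +kernel

theorem blk_383 : ∀ i : Fin 105, VecOK (40215 + i.val) := by
  decide +kernel

theorem blk_384 : ∀ i : Fin 105, VecOK (40320 + i.val) := by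
  decide +kernel

theorem blk_385 : ∀ i : Fin 105, VecOK (40425 + i.val) := by
  decide +kernel

theorem blk_386 : ∀ i : Fin 105, VecOK (40530 + i.val) := by
  decide +kernel

theorem blk_387 : ∀ i : Fin 105, VecOK (40635 + i.val) := by
  decide +kernel

theorem blk_388 : ∀ i : Fin 105, VecOK (40740 + i.val) := by
  decide +kernel

theorem blk_389 : ∀ i : Fin 105, VecOK (40845 + i.val) := by
  decide +kernel

theorem blk_390 : ∀ i : Fin 105, VecOK (40950 + i.val) := by
  decide +kernel

theorem blk_391 : ∀ i : Fin 105, VecOK (41055 + i.val) := by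
  decide +kernel

theorem blk_392 : ∀ i : Fin 105, VecOK (41160 + i.val) := by
  decide +kernel

theorem blk_393 : ∀ i : Fin 105, VecOK (41265 + i.val) := by
  decide +kernel

theorem blk_394 : ∀ i : Fin 105, VecOK (41370 + i.val) := by
  decide +kernel

theorem blk_395 : ∀ i : Fin 105, VecOK (41475 + i.val) := by
  decide +kernel

theorem seg_10 : Seg 37800 41580 :=
  seg_step (seg_step (seg_step (seg_step (seg_step (seg_step (seg_step (seg_step (seg_step (seg_step (seg_step (seg_step (seg_step (seg_step (seg_step (seg_step (seg_step (seg_step (seg_step (seg_step (seg_step (seg_step (seg_step (seg_step (seg_step (seg_step (seg_step (seg_step (seg_step (seg_step (seg_step (seg_step (seg_step (seg_step (seg_step (seg_step (seg_nil 37800) blk_360) blk_361) blk_362) blk_363) blk_364) blk_365) blk_366) blk_367) blk_368) blk_369) blk_370) blk_371) blk_372) blk_373) blk_374) blk_375) blk_376) blk_377) blk_378) blk_379) blk_380) blk_381) blk_382) blk_383) blk_384) blk_385) blk_386) blk_387) blk_388) blk_389) blk_390) blk_391) blk_392) blk_393) blk_394) blk_395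

end Cfsg.Agent.Lib.Helper28.Co1A
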