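import Cfsg.Agent.Lib.Helper28.Co1Seg

/-! Certificates for the first Conway group on 98280 points: the vectors 45360 to 49139 (generated). -/

set_option autoImplicit false
set_option Elab.async false
set_option maxRecDepth 1000000

namespace Cfsg.Agent.Lib.Helper28.Co1A

theorem blk_432 : ∀ i : Fin 105, VecOK (45360 + i.val) := by
  decide +kernel

theorem blk_433 : ∀ i : Fin 105, VecOK (45465 + i.val) := by
  decide +kernel

theorem blk_434 : ∀ i : Fin 105, VecOK (45570 + i.val) := by
  decide +kernel

theorem blk_435 : ∀ i : Fin 105, VecOK (45675 + i.val) := by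
  decide +kernel

theorem blk_436 : ∀ i : Fin 105, VecOK (45780 + i.val) := by
  decide +kernel

theorem blk_437 : ∀ i : Fin 105, VecOK (45885 + i.val) := by
  decide +kernel

theorem blk_438 : ∀ i : Fin 105, VecOK (45990 + i.val) := by
  decide +kernel

theorem blk_439 : ∀ i : Fin 105, VecOK (46095 + i.val) := by
  decide +kernel

theorem blk_440 : ∀ i : Fin 105, VecOK (46200 + i.val) := by
  decide +kernel

theorem blk_441 : ∀ i : Fin 105, VecOK (46305 + i.val) := by
  decide +kernel

theorem blk_442 : ∀ i : Fin 105, VecOK (46410 + i.val) := by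
  decide +kernel

theorem blk_443 : ∀ i : Fin 105, VecOK (46515 + i.val) := by
  decide +kernel

theorem blk_444 : ∀ i : Fin 105, VecOK (46620 + i.val) := by
  decide +kernel

theorem blk_445 : ∀ i : Fin 105, VecOK (46725 + i.val) := by
  decide +kernel

theorem blk_446 : ∀ i : Fin 105, VecOK (46830 + i.val) := by
  decide +kernel

theorem blk_447 : ∀ i : Fin 105, VecOK (46935 + i.val) := by
  decide +kernel

theorem blk_448 : ∀ i : Fin 105, VecOK (47040 + i.val) := by
  decide +kernel

theorem blk_449 : ∀ i : Fin 105, VecOK (47145 + i.val) := by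
  decide +kernel

theorem blk_450 : ∀ i : Fin 105, VecOK (47250 + i.val) := by
  decide +kernel

theorem blk_451 : ∀ i : Fin 105, VecOK (47355 + i.val) := by
  decide +kernel

theorem blk_452 : ∀ i : Fin 105, VecOK (47460 + i.val) := by
  decide +kernel

theorem blk_453 : ∀ i : Fin 105, VecOK (47565 + i.val) := by
  decide +kernel

theorem blk_454 : ∀ i : Fin 105, VecOK (47670 + i.val) := by
  decide +kernel

theorem blk_455 : ∀ i : Fin 105, VecOK (47775 + i.val) := by
  decide +kernel

theorem blk_456 : ∀ i : Fin 105, VecOK (47880 + i.val) := by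
  decide +kernel

theorem blk_457 : ∀ i : Fin 105, VecOK (47985 + i.val) := by
  decide +kernel

theorem blk_458 : ∀ i : Fin 105, VecOK (48090 + i.val) := by
  decide +kernel

theorem blk_459 : ∀ i : Fin 105, VecOK (48195 + i.val) := by
  decide +kernel

theorem blk_460 : ∀ i : Fin 105, VecOK (48300 + i.val) := by
  decide +kernel

theorem blk_461 : ∀ i : Fin 105, VecOK (48405 + i.val) := by
  decide +kernel

theorem blk_462 : ∀ i : Fin 105, VecOK (48510 + i.val) := by
  decide +kernel

theorem blk_463 : ∀ i : Fin 105, VecOK (48615 + i.val) := by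
  decide +kernel

theorem blk_464 : ∀ i : Fin 105, VecOK (48720 + i.val) := by
  decide +kernel

theorem blk_465 : ∀ i : Fin 105, VecOK (48825 + i.val) := by
  decide +kernel

theorem blk_466 : ∀ i : Fin 105, VecOK (48930 + i.val) := by
  decide +kernel

theorem blk_467 : ∀ i : Fin 105, VecOK (49035 + i.val) := by
  decide +kernel

theorem seg_12 : Seg 45360 49140 :=
  seg_step (seg_step (seg_step (seg_step (seg_step (seg_step (seg_step (seg_step (seg_step (seg_step (seg_step (seg_step (seg_step (seg_step (seg_step (seg_step (seg_step (seg_step (seg_step (seg_step (seg_step (seg_step (seg_step (seg_step (seg_step (seg_step (seg_step (seg_step (seg_step (seg_step (seg_step (seg_step (seg_step (seg_step (seg_step (seg_step (seg_nil 45360) blk_432) blk_433) blk_434) blk_435) blk_436) blk_437) blk_438) blk_439) blk_440) blk_441) blk_442) blk_443) blk_444) blk_445) blk_446) blk_447) blk_448) blk_449) blk_450) blk_451) blk_452) blk_453) blk_454) blk_455) blk_456) blk_457) blk_458) blk_459) blk_460) blk_461) blk_462) blk_463) blk_464) blk_465) blk_466) blk_467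

end Cfsg.Agent.Lib.Helper28.Co1A
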