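import Cfsg.Agent.Lib.Helper28.Co1Seg

/-! Certificates for the first Conway group on 98280 points: the vectors 49140 to 52919 (generated). -/

set_option autoImplicit false
set_option Elab.async false
set_option maxRecDepth 1000000

namespace Cfsg.Agent.Lib.Helper28.Co1A

theorem blk_468 : ∀ i : Fin 105, VecOK (49140 + i.val) := by
  decide +kernel

theorem blk_469 : ∀ i : Fin 105, VecOK (49245 + i.val) := by
  decide +kernel

theorem blk_470 : ∀ i : Fin 105, VecOK (49350 + i.val) := by
  decide +kernel

theorem blk_471 : ∀ i : Fin 105, VecOK (49455 + i.val) := by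
  decide +kernel

theorem blk_472 : ∀ i : Fin 105, VecOK (49560 + i.val) := by
  decide +kernel

theorem blk_473 : ∀ i : Fin 105, VecOK (49665 + i.val) := by
  decide +kernel

theorem blk_474 : ∀ i : Fin 105, VecOK (49770 + i.val) := by
  decide +kernel

theorem blk_475 : ∀ i : Fin 105, VecOK (49875 + i.val) := by
  decide +kernel

theorem blk_476 : ∀ i : Fin 105, VecOK (49980 + i.val) := by
  decide +kernel

theorem blk_477 : ∀ i : Fin 105, VecOK (50085 + i.val) := by
  decide +kernel

theorem blk_478 : ∀ i : Fin 105, VecOK (50190 + i.val) := by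
  decide +kernel

theorem blk_479 : ∀ i : Fin 105, VecOK (50295 + i.val) := by
  decide +kernel

theorem blk_480 : ∀ i : Fin 105, VecOK (50400 + i.val) := by
  decide +kernel

theorem blk_481 : ∀ i : Fin 105, VecOK (50505 + i.val) := by
  decide +kernel

theorem blk_482 : ∀ i : Fin 105, VecOK (50610 + i.val) := by
  decide +kernel

theorem blk_483 : ∀ i : Fin 105, VecOK (50715 + i.val) := by
  decide +kernel

theorem blk_484 : ∀ i : Fin 105, VecOK (50820 + i.val) := by
  decide +kernel

theorem blk_485 : ∀ i : Fin 105, VecOK (50925 + i.val) := by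
  decide +kernel

theorem blk_486 : ∀ i : Fin 105, VecOK (51030 + i.val) := by
  decide +kernel

theorem blk_487 : ∀ i : Fin 105, VecOK (51135 + i.val) := by
  decide +kernel

theorem blk_488 : ∀ i : Fin 105, VecOK (51240 + i.val) := by
  decide +kernel

theorem blk_489 : ∀ i : Fin 105, VecOK (51345 + i.val) := by
  decide +kernel

theorem blk_490 : ∀ i : Fin 105, VecOK (51450 + i.val) := by
  decide +kernel

theorem blk_491 : ∀ i : Fin 105, VecOK (51555 + i.val) := by
  decide +kernel

theorem blk_492 : ∀ i : Fin 105, VecOK (51660 + i.val) := by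
  decide +kernel

theorem blk_493 : ∀ i : Fin 105, VecOK (51765 + i.val) := by
  decide +kernel

theorem blk_494 : ∀ i : Fin 105, VecOK (51870 + i.val) := by
  decide +kernel

theorem blk_495 : ∀ i : Fin 105, VecOK (51975 + i.val) := by
  decide +kernel

theorem blk_496 : ∀ i : Fin 105, VecOK (52080 + i.val) := by
  decide +kernel

theorem blk_497 : ∀ i : Fin 105, VecOK (52185 + i.val) := by
  decide +kernel

theorem blk_498 : ∀ i : Fin 105, VecOK (52290 + i.val) := by
  decide +kernel

theorem blk_499 : ∀ i : Fin 105, VecOK (52395 + i.val) := by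
  decide +kernel

theorem blk_500 : ∀ i : Fin 105, VecOK (52500 + i.val) := by
  decide +kernel

theorem blk_501 : ∀ i : Fin 105, VecOK (52605 + i.val) := by
  decide +kernel

theorem blk_502 : ∀ i : Fin 105, VecOK (52710 + i.val) := by
  decide +kernel

theorem blk_503 : ∀ i : Fin 105, VecOK (52815 + i.val) := by
  decide +kernel

theorem seg_13 : Seg 49140 52920 :=
  seg_step (seg_step (seg_step (seg_step (seg_step (seg_step (seg_step (seg_step (seg_step (seg_step (seg_step (seg_step (seg_step (seg_step (seg_step (seg_step (seg_step (seg_step (seg_step (seg_step (seg_step (seg_step (seg_step (seg_step (seg_step (seg_step (seg_step (seg_step (seg_step (seg_step (seg_step (seg_step (seg_step (seg_step (seg_step (seg_step (seg_nil 49140) blk_468) blk_469) blk_470) blk_471) blk_472) blk_473) blk_474) blk_475) blk_476) blk_477) blk_478) blk_479) blk_480) blk_481) blk_482) blk_483) blk_484) blk_485) blk_486) blk_487) blk_488) blk_489) blk_490) blk_491) blk_492) blk_493) blk_494) blk_495) blk_496) blk_497) blk_498) blk_499) blk_500) blk_501) blk_502) blk_503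

end Cfsg.Agent.Lib.Helper28.Co1A
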