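import Cfsg.Agent.Lib.Helper28.Co1Seg

/-! Certificates for the first Conway group on 98280 points: the vectors 52920 to 56699 (generated). -/

set_option autoImplicit false
set_option Elab.async false
set_option maxRecDepth 1000000

namespace Cfsg.Agent.Lib.Helper28.Co1A

theorem blk_504 : ∀ i : Fin 105, VecOK (52920 + i.val) := by
  decide +kernel

theorem blk_505 : ∀ i : Fin 105, VecOK (53025 + i.val) := by
  decide +kernel

theorem blk_506 : ∀ i : Fin 105, VecOK (53130 + i.val) := by
  decide +kernel

theorem blk_507 : ∀ i : Fin 105, VecOK (53235 + i.val) := by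
  decide +kernel

theorem blk_508 : ∀ i : Fin 105, VecOK (53340 + i.val) := by
  decide +kernel

theorem blk_509 : ∀ i : Fin 105, VecOK (53445 + i.val) := by
  decide +kernel

theorem blk_510 : ∀ i : Fin 105, VecOK (53550 + i.val) := by
  decide +kernel

theorem blk_511 : ∀ i : Fin 105, VecOK (53655 + i.val) := by
  decide +kernel

theorem blk_512 : ∀ i : Fin 105, VecOK (53760 + i.val) := by
  decide +kernel

theorem blk_513 : ∀ i : Fin 105, VecOK (53865 + i.val) := by
  decide +kernel

theorem blk_514 : ∀ i : Fin 105, VecOK (53970 + i.val) := by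
  decide +kernel

theorem blk_515 : ∀ i : Fin 105, VecOK (54075 + i.val) := by
  decide +kernel

theorem blk_516 : ∀ i : Fin 105, VecOK (54180 + i.val) := by
  decide +kernel

theorem blk_517 : ∀ i : Fin 105, VecOK (54285 + i.val) := by
  decide +kernel

theorem blk_518 : ∀ i : Fin 105, VecOK (54390 + i.val) := by
  decide +kernel

theorem blk_519 : ∀ i : Fin 105, VecOK (54495 + i.val) := by
  decide +kernel

theorem blk_520 : ∀ i : Fin 105, VecOK (54600 + i.val) := by
  decide +kernel

theorem blk_521 : ∀ i : Fin 105, VecOK (54705 + i.val) := by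
  decide +kernel

theorem blk_522 : ∀ i : Fin 105, VecOK (54810 + i.val) := by
  decide +kernel

theorem blk_523 : ∀ i : Fin 105, VecOK (54915 + i.val) := by
  decide +kernel

theorem blk_524 : ∀ i : Fin 105, VecOK (55020 + i.val) := by
  decide +kernel

theorem blk_525 : ∀ i : Fin 105, VecOK (55125 + i.val) := by
  decide +kernel

theorem blk_526 : ∀ i : Fin 105, VecOK (55230 + i.val) := by
  decide +kernel

theorem blk_527 : ∀ i : Fin 105, VecOK (55335 + i.val) := by
  decide +kernel

theorem blk_528 : ∀ i : Fin 105, VecOK (55440 + i.val) := by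
  decide +kernel

theorem blk_529 : ∀ i : Fin 105, VecOK (55545 + i.val) := by
  decide +kernel

theorem blk_530 : ∀ i : Fin 105, VecOK (55650 + i.val) := by
  decide +kernel

theorem blk_531 : ∀ i : Fin 105, VecOK (55755 + i.val) := by
  decide +kernel

theorem blk_532 : ∀ i : Fin 105, VecOK (55860 + i.val) := by
  decide +kernel

theorem blk_533 : ∀ i : Fin 105, VecOK (55965 + i.val) := by
  decide +kernel

theorem blk_534 : ∀ i : Fin 105, VecOK (56070 + i.val) := by
  decide +kernel

theorem blk_535 : ∀ i : Fin 105, VecOK (56175 + i.val) := by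
  decide +kernel

theorem blk_536 : ∀ i : Fin 105, VecOK (56280 + i.val) := by
  decide +kernel

theorem blk_537 : ∀ i : Fin 105, VecOK (56385 + i.val) := by
  decide +kernel

theorem blk_538 : ∀ i : Fin 105, VecOK (56490 + i.val) := by
  decide +kernel

theorem blk_539 : ∀ i : Fin 105, VecOK (56595 + i.val) := by
  decide +kernel

theorem seg_14 : Seg 52920 56700 :=
  seg_step (seg_step (seg_step (seg_step (seg_step (seg_step (seg_step (seg_step (seg_step (seg_step (seg_step (seg_step (seg_step (seg_step (seg_step (seg_step (seg_step (seg_step (seg_step (seg_step (seg_step (seg_step (seg_step (seg_step (seg_step (seg_step (seg_step (seg_step (seg_step (seg_step (seg_step (seg_step (seg_step (seg_step (seg_step (seg_step (seg_nil 52920) blk_504) blk_505) blk_506) blk_507) blk_508) blk_509) blk_510) blk_511) blk_512) blk_513) blk_514) blk_515) blk_516) blk_517) blk_518) blk_519) blk_520) blk_521) blk_522) blk_523) blk_524) blk_525) blk_526) blk_527) blk_528) blk_529) blk_530) blk_531) blk_532) blk_533) blk_534) blk_535) blk_536) blk_537) blk_538) blk_539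

end Cfsg.Agent.Lib.Helper28.Co1A
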