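import Cfsg.Agent.Lib.Helper28.Co1Seg

/-! Certificates for the first Conway group on 98280 points: the vectors 56700 to 60479 (generated). -/

set_option autoImplicit false
set_option Elab.async false
set_option maxRecDepth 1000000

namespace Cfsg.Agent.Lib.Helper28.Co1A

theorem blk_540 : ∀ i : Fin 105, VecOK (56700 + i.val) := by
  decide +kernel

theorem blk_541 : ∀ i : Fin 105, VecOK (56805 + i.val) := by
  decide +kernel

theorem blk_542 : ∀ i : Fin 105, VecOK (56910 + i.val) := by
  decide +kernel

theorem blk_543 : ∀ i : Fin 105, VecOK (57015 + i.val) := by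
  decide +kernel

theorem blk_544 : ∀ i : Fin 105, VecOK (57120 + i.val) := by
  decide +kernel

theorem blk_545 : ∀ i : Fin 105, VecOK (57225 + i.val) := by
  decide +kernel

theorem blk_546 : ∀ i : Fin 105, VecOK (57330 + i.val) := by
  decide +kernel

theorem blk_547 : ∀ i : Fin 105, VecOK (57435 + i.val) := by
  decide +kernel

theorem blk_548 : ∀ i : Fin 105, VecOK (57540 + i.val) := by
  decide +kernel

theorem blk_549 : ∀ i : Fin 105, VecOK (57645 + i.val) := by
  decide +kernel

theorem blk_550 : ∀ i : Fin 105, VecOK (57750 + i.val) := by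
  decide +kernel

theorem blk_551 : ∀ i : Fin 105, VecOK (57855 + i.val) := by
  decide +kernel

theorem blk_552 : ∀ i : Fin 105, VecOK (57960 + i.val) := by
  decide +kernel

theorem blk_553 : ∀ i : Fin 105, VecOK (58065 + i.val) := by
  decide +kernel

theorem blk_554 : ∀ i : Fin 105, VecOK (58170 + i.val) := by
  decide +kernel

theorem blk_555 : ∀ i : Fin 105, VecOK (58275 + i.val) := by
  decide +kernel

theorem blk_556 : ∀ i : Fin 105, VecOK (58380 + i.val) := by
  decide +kernel

theorem blk_557 : ∀ i : Fin 105, VecOK (58485 + i.val) := by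
  decide +kernel

theorem blk_558 : ∀ i : Fin 105, VecOK (58590 + i.val) := by
  decide +kernel

theorem blk_559 : ∀ i : Fin 105, VecOK (58695 + i.val) := by
  decide +kernel

theorem blk_560 : ∀ i : Fin 105, VecOK (58800 + i.val) := by
  decide +kernel

theorem blk_561 : ∀ i : Fin 105, VecOK (58905 + i.val) := by
  decide +kernel

theorem blk_562 : ∀ i : Fin 105, VecOK (59010 + i.val) := by
  decide +kernel

theorem blk_563 : ∀ i : Fin 105, VecOK (59115 + i.val) := by
  decide +kernel

theorem blk_564 : ∀ i : Fin 105, VecOK (59220 + i.val) := by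
  decide +kernel

theorem blk_565 : ∀ i : Fin 105, VecOK (59325 + i.val) := by
  decide +kernel

theorem blk_566 : ∀ i : Fin 105, VecOK (59430 + i.val) := by
  decide +kernel

theorem blk_567 : ∀ i : Fin 105, VecOK (59535 + i.val) := by
  decide +kernel

theorem blk_568 : ∀ i : Fin 105, VecOK (59640 + i.val) := by
  decide +kernel

theorem blk_569 : ∀ i : Fin 105, VecOK (59745 + i.val) := by
  decide +kernel

theorem blk_570 : ∀ i : Fin 105, VecOK (59850 + i.val) := by
  decide +kernel

theorem blk_571 : ∀ i : Fin 105, VecOK (59955 + i.val) := by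
  decide +kernel

theorem blk_572 : ∀ i : Fin 105, VecOK (60060 + i.val) := by
  decide +kernel

theorem blk_573 : ∀ i : Fin 105, VecOK (60165 + i.val) := by
  decide +kernel

theorem blk_574 : ∀ i : Fin 105, VecOK (60270 + i.val) := by
  decide +kernel

theorem blk_575 : ∀ i : Fin 105, VecOK (60375 + i.val) := by
  decide +kernel

theorem seg_15 : Seg 56700 60480 :=
  seg_step (seg_step (seg_step (seg_step (seg_step (seg_step (seg_step (seg_step (seg_step (seg_step (seg_step (seg_step (seg_step (seg_step (seg_step (seg_step (seg_step (seg_step (seg_step (seg_step (seg_step (seg_step (seg_step (seg_step (seg_step (seg_step (seg_step (seg_step (seg_step (seg_step (seg_step (seg_step (seg_step (seg_step (seg_step (seg_step (seg_nil 56700) blk_540) blk_541) blk_542) blk_543) blk_544) blk_545) blk_546) blk_547) blk_548) blk_549) blk_550) blk_551) blk_552) blk_553) blk_554) blk_555) blk_556) blk_557) blk_558) blk_559) blk_560) blk_561) blk_562) blk_563) blk_564) blk_565) blk_566) blk_567) blk_568) blk_569) blk_570) blk_571) blk_572) blk_573) blk_574) blk_575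

end Cfsg.Agent.Lib.Helper28.Co1A
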