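import Cfsg.Agent.Lib.Helper28.Co1Seg

/-! Certificates for the first Conway group on 98280 points: the vectors 60480 to 64259 (generated). -/

set_option autoImplicit false
set_option Elab.async false
set_option maxRecDepth 1000000

namespace Cfsg.Agent.Lib.Helper28.Co1A

theorem blk_576 : ∀ i : Fin 105, VecOK (60480 + i.val) := by
  decide +kernel

theorem blk_577 : ∀ i : Fin 105, VecOK (60585 + i.val) := by
  decide +kernel

theorem blk_578 : ∀ i : Fin 105, VecOK (60690 + i.val) := by
  decide +kernel

theorem blk_579 : ∀ i : Fin 105, VecOK (60795 + i.val) := by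
  decide +kernel

theorem blk_580 : ∀ i : Fin 105, VecOK (60900 + i.val) := by
  decide +kernel

theorem blk_581 : ∀ i : Fin 105, VecOK (61005 + i.val) := by
  decide +kernel

theorem blk_582 : ∀ i : Fin 105, VecOK (61110 + i.val) := by
  decide +kernel

theorem blk_583 : ∀ i : Fin 105, VecOK (61215 + i.val) := by
  decide +kernel

theorem blk_584 : ∀ i : Fin 105, VecOK (61320 + i.val) := by
  decide +kernel

theorem blk_585 : ∀ i : Fin 105, VecOK (61425 + i.val) := by
  decide +kernel

theorem blk_586 : ∀ i : Fin 105, VecOK (61530 + i.val) := by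
  decide +kernel

theorem blk_587 : ∀ i : Fin 105, VecOK (61635 + i.val) := by
  decide +kernel

theorem blk_588 : ∀ i : Fin 105, VecOK (61740 + i.val) := by
  decide +kernel

theorem blk_589 : ∀ i : Fin 105, VecOK (61845 + i.val) := by
  decide +kernel

theorem blk_590 : ∀ i : Fin 105, VecOK (61950 + i.val) := by
  decide +kernel

theorem blk_591 : ∀ i : Fin 105, VecOK (62055 + i.val) := by
  decide +kernel

theorem blk_592 : ∀ i : Fin 105, VecOK (62160 + i.val) := by
  decide +kernel

theorem blk_593 : ∀ i : Fin 105, VecOK (62265 + i.val) := by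
  decide +kernel

theorem blk_594 : ∀ i : Fin 105, VecOK (62370 + i.val) := by
  decide +kernel

theorem blk_595 : ∀ i : Fin 105, VecOK (62475 + i.val) := by
  decide +kernel

theorem blk_596 : ∀ i : Fin 105, VecOK (62580 + i.val) := by
  decide +kernel

theorem blk_597 : ∀ i : Fin 105, VecOK (62685 + i.val) := by
  decide +kernel

theorem blk_598 : ∀ i : Fin 105, VecOK (62790 + i.val) := by
  decide +kernel

theorem blk_599 : ∀ i : Fin 105, VecOK (62895 + i.val) := by
  decide +kernel

theorem blk_600 : ∀ i : Fin 105, VecOK (63000 + i.val) := by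
  decide +kernel

theorem blk_601 : ∀ i : Fin 105, VecOK (63105 + i.val) := by
  decide +kernel

theorem blk_602 : ∀ i : Fin 105, VecOK (63210 + i.val) := by
  decide +kernel

theorem blk_603 : ∀ i : Fin 105, VecOK (63315 + i.val) := by
  decide +kernel

theorem blk_604 : ∀ i : Fin 105, VecOK (63420 + i.val) := by
  decide +kernel

theorem blk_605 : ∀ i : Fin 105, VecOK (63525 + i.val) := by
  decide +kernel

theorem blk_606 : ∀ i : Fin 105, VecOK (63630 + i.val) := by
  decide +kernel

theorem blk_607 : ∀ i : Fin 105, VecOK (63735 + i.val) := by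
  decide +kernel

theorem blk_608 : ∀ i : Fin 105, VecOK (63840 + i.val) := by
  decide +kernel

theorem blk_609 : ∀ i : Fin 105, VecOK (63945 + i.val) := by
  decide +kernel

theorem blk_610 : ∀ i : Fin 105, VecOK (64050 + i.val) := by
  decide +kernel

theorem blk_611 : ∀ i : Fin 105, VecOK (64155 + i.val) := by
  decide +kernel

theorem seg_16 : Seg 60480 64260 :=
  seg_step (seg_step (seg_step (seg_step (seg_step (seg_step (seg_step (seg_step (seg_step (seg_step (seg_step (seg_step (seg_step (seg_step (seg_step (seg_step (seg_step (seg_step (seg_step (seg_step (seg_step (seg_step (seg_step (seg_step (seg_step (seg_step (seg_step (seg_step (seg_step (seg_step (seg_step (seg_step (seg_step (seg_step (seg_step (seg_step (seg_nil 60480) blk_576) blk_577) blk_578) blk_579) blk_580) blk_581) blk_582) blk_583) blk_584) blk_585) blk_586) blk_587) blk_588) blk_589) blk_590) blk_591) blk_592) blk_593) blk_594) blk_595) blk_596) blk_597) blk_598) blk_599) blk_600) blk_601) blk_602) blk_603) blk_604) blk_605) blk_606) blk_607) blk_608) blk_609) blk_610) blk_611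

end Cfsg.Agent.Lib.Helper28.Co1A
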