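import Cfsg.Agent.Lib.Helper28.Co1Seg

/-! Certificates for the first Conway group on 98280 points: the vectors 64260 to 68039 (generated). -/

set_option autoImplicit false
set_option Elab.async false
set_option maxRecDepth 1000000

namespace Cfsg.Agent.Lib.Helper28.Co1A

theorem blk_612 : ∀ i : Fin 105, VecOK (64260 + i.val) := by
  decide +kernel

theorem blk_613 : ∀ i : Fin 105, VecOK (64365 + i.val) := by
  decide +kernel

theorem blk_614 : ∀ i : Fin 105, VecOK (64470 + i.val) := by
  decide +kernel

theorem blk_615 : ∀ i : Fin 105, VecOK (64575 + i.val) := by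
  decide +kernel

theorem blk_616 : ∀ i : Fin 105, VecOK (64680 + i.val) := by
  decide +kernel

theorem blk_617 : ∀ i : Fin 105, VecOK (64785 + i.val) := by
  decide +kernel

theorem blk_618 : ∀ i : Fin 105, VecOK (64890 + i.val) := by
  decide +kernel

theorem blk_619 : ∀ i : Fin 105, VecOK (64995 + i.val) := by
  decide +kernel

theorem blk_620 : ∀ i : Fin 105, VecOK (65100 + i.val) := by
  decide +kernel

theorem blk_621 : ∀ i : Fin 105, VecOK (65205 + i.val) := by
  decide +kernel

theorem blk_622 : ∀ i : Fin 105, VecOK (65310 + i.val) := by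
  decide +kernel

theorem blk_623 : ∀ i : Fin 105, VecOK (65415 + i.val) := by
  decide +kernel

theorem blk_624 : ∀ i : Fin 105, VecOK (65520 + i.val) := by
  decide +kernel

theorem blk_625 : ∀ i : Fin 105, VecOK (65625 + i.val) := by
  decide +kernel

theorem blk_626 : ∀ i : Fin 105, VecOK (65730 + i.val) := by
  decide +kernel

theorem blk_627 : ∀ i : Fin 105, VecOK (65835 + i.val) := by
  decide +kernel

theorem blk_628 : ∀ i : Fin 105, VecOK (65940 + i.val) := by
  decide +kernel

theorem blk_629 : ∀ i : Fin 105, VecOK (66045 + i.val) := by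
  decide +kernel

theorem blk_630 : ∀ i : Fin 105, VecOK (66150 + i.val) := by
  decide +kernel

theorem blk_631 : ∀ i : Fin 105, VecOK (66255 + i.val) := by
  decide +kernel

theorem blk_632 : ∀ i : Fin 105, VecOK (66360 + i.val) := by
  decide +kernel

theorem blk_633 : ∀ i : Fin 105, VecOK (66465 + i.val) := by
  decide +kernel

theorem blk_634 : ∀ i : Fin 105, VecOK (66570 + i.val) := by
  decide +kernel

theorem blk_635 : ∀ i : Fin 105, VecOK (66675 + i.val) := by
  decide +kernel

theorem blk_636 : ∀ i : Fin 105, VecOK (66780 + i.val) := by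
  decide +kernel

theorem blk_637 : ∀ i : Fin 105, VecOK (66885 + i.val) := by
  decide +kernel

theorem blk_638 : ∀ i : Fin 105, VecOK (66990 + i.val) := by
  decide +kernel

theorem blk_639 : ∀ i : Fin 105, VecOK (67095 + i.val) := by
  decide +kernel

theorem blk_640 : ∀ i : Fin 105, VecOK (67200 + i.val) := by
  decide +kernel

theorem blk_641 : ∀ i : Fin 105, VecOK (67305 + i.val) := by
  decide +kernel

theorem blk_642 : ∀ i : Fin 105, VecOK (67410 + i.val) := by
  decide +kernel

theorem blk_643 : ∀ i : Fin 105, VecOK (67515 + i.val) := by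
  decide +kernel

theorem blk_644 : ∀ i : Fin 105, VecOK (67620 + i.val) := by
  decide +kernel

theorem blk_645 : ∀ i : Fin 105, VecOK (67725 + i.val) := by
  decide +kernel

theorem blk_646 : ∀ i : Fin 105, VecOK (67830 + i.val) := by
  decide +kernel

theorem blk_647 : ∀ i : Fin 105, VecOK (67935 + i.val) := by
  decide +kernel

theorem seg_17 : Seg 64260 68040 :=
  seg_step (seg_step (seg_step (seg_step (seg_step (seg_step (seg_step (seg_step (seg_step (seg_step (seg_step (seg_step (seg_step (seg_step (seg_step (seg_step (seg_step (seg_step (seg_step (seg_step (seg_step (seg_step (seg_step (seg_step (seg_step (seg_step (seg_step (seg_step (seg_step (seg_step (seg_step (seg_step (seg_step (seg_step (seg_step (seg_step (seg_nil 64260) blk_612) blk_613) blk_614) blk_615) blk_616) blk_617) blk_618) blk_619) blk_620) blk_621) blk_622) blk_623) blk_624) blk_625) blk_626) blk_627) blk_628) blk_629) blk_630) blk_631) blk_632) blk_633) blk_634) blk_635) blk_636) blk_637) blk_638) blk_639) blk_640) blk_641) blk_642) blk_643) blk_644) blk_645) blk_646) blk_647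

end Cfsg.Agent.Lib.Helper28.Co1A
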