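import Cfsg.Agent.Lib.Helper28.Co1Seg

/-! Certificates for the first Conway group on 98280 points: the vectors 68040 to 71819 (generated). -/

set_option autoImplicit false
set_option Elab.async false
set_option maxRecDepth 1000000

namespace Cfsg.Agent.Lib.Helper28.Co1A

theorem blk_648 : ∀ i : Fin 105, VecOK (68040 + i.val) := by
  decide +kernel

theorem blk_649 : ∀ i : Fin 105, VecOK (68145 + i.val) := by
  decide +kernel

theorem blk_650 : ∀ i : Fin 105, VecOK (68250 + i.val) := by
  decide +kernel

theorem blk_651 : ∀ i : Fin 105, VecOK (68355 + i.val) := by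
  decide +kernel

theorem blk_652 : ∀ i : Fin 105, VecOK (68460 + i.val) := by
  decide +kernel

theorem blk_653 : ∀ i : Fin 105, VecOK (68565 + i.val) := by
  decide +kernel

theorem blk_654 : ∀ i : Fin 105, VecOK (68670 + i.val) := by
  decide +kernel

theorem blk_655 : ∀ i : Fin 105, VecOK (68775 + i.val) := by
  decide +kernel

theorem blk_656 : ∀ i : Fin 105, VecOK (68880 + i.val) := by
  decide +kernel

theorem blk_657 : ∀ i : Fin 105, VecOK (68985 + i.val) := by
  decide +kernel

theorem blk_658 : ∀ i : Fin 105, VecOK (69090 + i.val) := by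
  decide +kernel

theorem blk_659 : ∀ i : Fin 105, VecOK (69195 + i.val) := by
  decide +kernel

theorem blk_660 : ∀ i : Fin 105, VecOK (69300 + i.val) := by
  decide +kernel

theorem blk_661 : ∀ i : Fin 105, VecOK (69405 + i.val) := by
  decide +kernel

theorem blk_662 : ∀ i : Fin 105, VecOK (69510 + i.val) := by
  decide +kernel

theorem blk_663 : ∀ i : Fin 105, VecOK (69615 + i.val) := by
  decide +kernel

theorem blk_664 : ∀ i : Fin 105, VecOK (69720 + i.val) := by
  decide +kernel

theorem blk_665 : ∀ i : Fin 105, VecOK (69825 + i.val) := by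
  decide +kernel

theorem blk_666 : ∀ i : Fin 105, VecOK (69930 + i.val) := by
  decide +kernel

theorem blk_667 : ∀ i : Fin 105, VecOK (70035 + i.val) := by
  decide +kernel

theorem blk_668 : ∀ i : Fin 105, VecOK (70140 + i.val) := by
  decide +kernel

theorem blk_669 : ∀ i : Fin 105, VecOK (70245 + i.val) := by
  decide +kernel

theorem blk_670 : ∀ i : Fin 105, VecOK (70350 + i.val) := by
  decide +kernel

theorem blk_671 : ∀ i : Fin 105, VecOK (70455 + i.val) := by
  decide +kernel

theorem blk_672 : ∀ i : Fin 105, VecOK (70560 + i.val) := by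
  decide +kernel

theorem blk_673 : ∀ i : Fin 105, VecOK (70665 + i.val) := by
  decide +kernel

theorem blk_674 : ∀ i : Fin 105, VecOK (70770 + i.val) := by
  decide +kernel

theorem blk_675 : ∀ i : Fin 105, VecOK (70875 + i.val) := by
  decide +kernel

theorem blk_676 : ∀ i : Fin 105, VecOK (70980 + i.val) := by
  decide +kernel

theorem blk_677 : ∀ i : Fin 105, VecOK (71085 + i.val) := by
  decide +kernel

theorem blk_678 : ∀ i : Fin 105, VecOK (71190 + i.val) := by
  decide +kernel

theorem blk_679 : ∀ i : Fin 105, VecOK (71295 + i.val) := by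
  decide +kernel

theorem blk_680 : ∀ i : Fin 105, VecOK (71400 + i.val) := by
  decide +kernel

theorem blk_681 : ∀ i : Fin 105, VecOK (71505 + i.val) := by
  decide +kernel

theorem blk_682 : ∀ i : Fin 105, VecOK (71610 + i.val) := by
  decide +kernel

theorem blk_683 : ∀ i : Fin 105, VecOK (71715 + i.val) := by
  decide +kernel

theorem seg_18 : Seg 68040 71820 :=
  seg_step (seg_step (seg_step (seg_step (seg_step (seg_step (seg_step (seg_step (seg_step (seg_step (seg_step (seg_step (seg_step (seg_step (seg_step (seg_step (seg_step (seg_step (seg_step (seg_step (seg_step (seg_step (seg_step (seg_step (seg_step (seg_step (seg_step (seg_step (seg_step (seg_step (seg_step (seg_step (seg_step (seg_step (seg_step (seg_step (seg_nil 68040) blk_648) blk_649) blk_650) blk_651) blk_652) blk_653) blk_654) blk_655) blk_656) blk_657) blk_658) blk_659) blk_660) blk_661) blk_662) blk_663) blk_664) blk_665) blk_666) blk_667) blk_668) blk_669) blk_670) blk_671) blk_672) blk_673) blk_674) blk_675) blk_676) blk_677) blk_678) blk_679) blk_680) blk_681) blk_682) blk_683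

end Cfsg.Agent.Lib.Helper28.Co1A
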