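import Cfsg.Agent.Lib.Helper28.Co1Seg

/-! Certificates for the first Conway group on 98280 points: the vectors 71820 to 75599 (generated). -/

set_option autoImplicit false
set_option Elab.async false
set_option maxRecDepth 1000000

namespace Cfsg.Agent.Lib.Helper28.Co1A

theorem blk_684 : ∀ i : Fin 105, VecOK (71820 + i.val) := by
  decide +kernel

theorem blk_685 : ∀ i : Fin 105, VecOK (71925 + i.val) := by
  decide +kernel

theorem blk_686 : ∀ i : Fin 105, VecOK (72030 + i.val) := by
  decide +kernel

theorem blk_687 : ∀ i : Fin 105, VecOK (72135 + i.val) := by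
  decide +kernel

theorem blk_688 : ∀ i : Fin 105, VecOK (72240 + i.val) := by
  decide +kernel

theorem blk_689 : ∀ i : Fin 105, VecOK (72345 + i.val) := by
  decide +kernel

theorem blk_690 : ∀ i : Fin 105, VecOK (72450 + i.val) := by
  decide +kernel

theorem blk_691 : ∀ i : Fin 105, VecOK (72555 + i.val) := by
  decide +kernel

theorem blk_692 : ∀ i : Fin 105, VecOK (72660 + i.val) := by
  decide +kernel

theorem blk_693 : ∀ i : Fin 105, VecOK (72765 + i.val) := by
  decide +kernel

theorem blk_694 : ∀ i : Fin 105, VecOK (72870 + i.val) := by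
  decide +kernel

theorem blk_695 : ∀ i : Fin 105, VecOK (72975 + i.val) := by
  decide +kernel

theorem blk_696 : ∀ i : Fin 105, VecOK (73080 + i.val) := by
  decide +kernel

theorem blk_697 : ∀ i : Fin 105, VecOK (73185 + i.val) := by
  decide +kernel

theorem blk_698 : ∀ i : Fin 105, VecOK (73290 + i.val) := by
  decide +kernel

theorem blk_699 : ∀ i : Fin 105, VecOK (73395 + i.val) := by
  decide +kernel

theorem blk_700 : ∀ i : Fin 105, VecOK (73500 + i.val) := by
  decide +kernel

theorem blk_701 : ∀ i : Fin 105, VecOK (73605 + i.val) := by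
  decide +kernel

theorem blk_702 : ∀ i : Fin 105, VecOK (73710 + i.val) := by
  decide +kernel

theorem blk_703 : ∀ i : Fin 105, VecOK (73815 + i.val) := by
  decide +kernel

theorem blk_704 : ∀ i : Fin 105, VecOK (73920 + i.val) := by
  decide +kernel

theorem blk_705 : ∀ i : Fin 105, VecOK (74025 + i.val) := by
  decide +kernel

theorem blk_706 : ∀ i : Fin 105, VecOK (74130 + i.val) := by
  decide +kernel

theorem blk_707 : ∀ i : Fin 105, VecOK (74235 + i.val) := by
  decide +kernel

theorem blk_708 : ∀ i : Fin 105, VecOK (74340 + i.val) := by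
  decide +kernel

theorem blk_709 : ∀ i : Fin 105, VecOK (74445 + i.val) := by
  decide +kernel

theorem blk_710 : ∀ i : Fin 105, VecOK (74550 + i.val) := by
  decide +kernel

theorem blk_711 : ∀ i : Fin 105, VecOK (74655 + i.val) := by
  decide +kernel

theorem blk_712 : ∀ i : Fin 105, VecOK (74760 + i.val) := by
  decide +kernel

theorem blk_713 : ∀ i : Fin 105, VecOK (74865 + i.val) := by
  decide +kernel

theorem blk_714 : ∀ i : Fin 105, VecOK (74970 + i.val) := by
  decide +kernel

theorem blk_715 : ∀ i : Fin 105, VecOK (75075 + i.val) := by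
  decide +kernel

theorem blk_716 : ∀ i : Fin 105, VecOK (75180 + i.val) := by
  decide +kernel

theorem blk_717 : ∀ i : Fin 105, VecOK (75285 + i.val) := by
  decide +kernel

theorem blk_718 : ∀ i : Fin 105, VecOK (75390 + i.val) := by
  decide +kernel

theorem blk_719 : ∀ i : Fin 105, VecOK (75495 + i.val) := by
  decide +kernel

theorem seg_19 : Seg 71820 75600 :=
  seg_step (seg_step (seg_step (seg_step (seg_step (seg_step (seg_step (seg_step (seg_step (seg_step (seg_step (seg_step (seg_step (seg_step (seg_step (seg_step (seg_step (seg_step (seg_step (seg_step (seg_step (seg_step (seg_step (seg_step (seg_step (seg_step (seg_step (seg_step (seg_step (seg_step (seg_step (seg_step (seg_step (seg_step (seg_step (seg_step (seg_nil 71820) blk_684) blk_685) blk_686) blk_687) blk_688) blk_689) blk_690) blk_691) blk_692) blk_693) blk_694) blk_695) blk_696) blk_697) blk_698) blk_699) blk_700) blk_701) blk_702) blk_703) blk_704) blk_705) blk_706) blk_707) blk_708) blk_709) blk_710) blk_711) blk_712) blk_713) blk_714) blk_715) blk_716) blk_717) blk_718) blk_719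

end Cfsg.Agent.Lib.Helper28.Co1A
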