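import Cfsg.Agent.Lib.Helper28.Co1Seg

/-! Certificates for the first Conway group on 98280 points: the vectors 7560 to 11339 (generated). -/

set_option autoImplicit false
set_option Elab.async false
set_option maxRecDepth 1000000

namespace Cfsg.Agent.Lib.Helper28.Co1A

theorem blk_72 : ∀ i : Fin 105, VecOK (7560 + i.val) := by
  decide +kernel

theorem blk_73 : ∀ i : Fin 105, VecOK (7665 + i.val) := by
  decide +kernel

theorem blk_74 : ∀ i : Fin 105, VecOK (7770 + i.val) := by
  decide +kernel

theorem blk_75 : ∀ i : Fin 105, VecOK (7875 + i.val) := by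
  decide +kernel

theorem blk_76 : ∀ i : Fin 105, VecOK (7980 + i.val) := by
  decide +kernel

theorem blk_77 : ∀ i : Fin 105, VecOK (8085 + i.val) := by
  decide +kernel

theorem blk_78 : ∀ i : Fin 105, VecOK (8190 + i.val) := by
  decide +kernel

theorem blk_79 : ∀ i : Fin 105, VecOK (8295 + i.val) := by
  decide +kernel

theorem blk_80 : ∀ i : Fin 105, VecOK (8400 + i.val) := by
  decide +kernel

theorem blk_81 : ∀ i : Fin 105, VecOK (8505 + i.val) := by
  decide +kernel

theorem blk_82 : ∀ i : Fin 105, VecOK (8610 + i.val) := by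
  decide +kernel

theorem blk_83 : ∀ i : Fin 105, VecOK (8715 + i.val) := by
  decide +kernel

theorem blk_84 : ∀ i : Fin 105, VecOK (8820 + i.val) := by
  decide +kernel

theorem blk_85 : ∀ i : Fin 105, VecOK (8925 + i.val) := by
  decide +kernel

theorem blk_86 : ∀ i : Fin 105, VecOK (9030 + i.val) := by
  decide +kernel

theorem blk_87 : ∀ i : Fin 105, VecOK (9135 + i.val) := by
  decide +kernel

theorem blk_88 : ∀ i : Fin 105, VecOK (9240 + i.val) := by
  decide +kernel

theorem blk_89 : ∀ i : Fin 105, VecOK (9345 + i.val) := by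
  decide +kernel

theorem blk_90 : ∀ i : Fin 105, VecOK (9450 + i.val) := by
  decide +kernel

theorem blk_91 : ∀ i : Fin 105, VecOK (9555 + i.val) := by
  decide +kernel

theorem blk_92 : ∀ i : Fin 105, VecOK (9660 + i.val) := by
  decide +kernel

theorem blk_93 : ∀ i : Fin 105, VecOK (9765 + i.val) := by
  decide +kernel

theorem blk_94 : ∀ i : Fin 105, VecOK (9870 + i.val) := by
  decide +kernel

theorem blk_95 : ∀ i : Fin 105, VecOK (9975 + i.val) := by
  decide +kernel

theorem blk_96 : ∀ i : Fin 105, VecOK (10080 + i.val) := by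
  decide +kernel

theorem blk_97 : ∀ i : Fin 105, VecOK (10185 + i.val) := by
  decide +kernel

theorem blk_98 : ∀ i : Fin 105, VecOK (10290 + i.val) := by
  decide +kernel

theorem blk_99 : ∀ i : Fin 105, VecOK (10395 + i.val) := by
  decide +kernel

theorem blk_100 : ∀ i : Fin 105, VecOK (10500 + i.val) := by
  decide +kernel

theorem blk_101 : ∀ i : Fin 105, VecOK (10605 + i.val) := by
  decide +kernel

theorem blk_102 : ∀ i : Fin 105, VecOK (10710 + i.val) := by
  decide +kernel

theorem blk_103 : ∀ i : Fin 105, VecOK (10815 + i.val) := by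
  decide +kernel

theorem blk_104 : ∀ i : Fin 105, VecOK (10920 + i.val) := by
  decide +kernel

theorem blk_105 : ∀ i : Fin 105, VecOK (11025 + i.val) := by
  decide +kernel

theorem blk_106 : ∀ i : Fin 105, VecOK (11130 + i.val) := by
  decide +kernel

theorem blk_107 : ∀ i : Fin 105, VecOK (11235 + i.val) := by
  decide +kernel

theorem seg_2 : Seg 7560 11340 :=
  seg_step (seg_step (seg_step (seg_step (seg_step (seg_step (seg_step (seg_step (seg_step (seg_step (seg_step (seg_step (seg_step (seg_step (seg_step (seg_step (seg_step (seg_step (seg_step (seg_step (seg_step (seg_step (seg_step (seg_step (seg_step (seg_step (seg_step (seg_step (seg_step (seg_step (seg_step (seg_step (seg_step (seg_step (seg_step (seg_step (seg_nil 7560) blk_72) blk_73) blk_74) blk_75) blk_76) blk_77) blk_78) blk_79) blk_80) blk_81) blk_82) blk_83) blk_84) blk_85) blk_86) blk_87) blk_88) blk_89) blk_90) blk_91) blk_92) blk_93) blk_94) blk_95) blk_96) blk_97) blk_98) blk_99) blk_100) blk_101) blk_102) blk_103) blk_104) blk_105) blk_106) blk_107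

end Cfsg.Agent.Lib.Helper28.Co1A
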