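import Cfsg.Agent.Lib.Helper28.Co1Seg

/-! Certificates for the first Conway group on 98280 points: the vectors 75600 to 79379 (generated). -/

set_option autoImplicit false
set_option Elab.async false
set_option maxRecDepth 1000000

namespace Cfsg.Agent.Lib.Helper28.Co1A

theorem blk_720 : ∀ i : Fin 105, VecOK (75600 + i.val) := by
  decide +kernel

theorem blk_721 : ∀ i : Fin 105, VecOK (75705 + i.val) := by
  decide +kernel

theorem blk_722 : ∀ i : Fin 105, VecOK (75810 + i.val) := by
  decide +kernel

theorem blk_723 : ∀ i : Fin 105, VecOK (75915 + i.val) := by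
  decide +kernel

theorem blk_724 : ∀ i : Fin 105, VecOK (76020 + i.val) := by
  decide +kernel

theorem blk_725 : ∀ i : Fin 105, VecOK (76125 + i.val) := by
  decide +kernel

theorem blk_726 : ∀ i : Fin 105, VecOK (76230 + i.val) := by
  decide +kernel

theorem blk_727 : ∀ i : Fin 105, VecOK (76335 + i.val) := by
  decide +kernel

theorem blk_728 : ∀ i : Fin 105, VecOK (76440 + i.val) := by
  decide +kernel

theorem blk_729 : ∀ i : Fin 105, VecOK (76545 + i.val) := by
  decide +kernel

theorem blk_730 : ∀ i : Fin 105, VecOK (76650 + i.val) := by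
  decide +kernel

theorem blk_731 : ∀ i : Fin 105, VecOK (76755 + i.val) := by
  decide +kernel

theorem blk_732 : ∀ i : Fin 105, VecOK (76860 + i.val) := by
  decide +kernel

theorem blk_733 : ∀ i : Fin 105, VecOK (76965 + i.val) := by
  decide +kernel

theorem blk_734 : ∀ i : Fin 105, VecOK (77070 + i.val) := by
  decide +kernel

theorem blk_735 : ∀ i : Fin 105, VecOK (77175 + i.val) := by
  decide +kernel

theorem blk_736 : ∀ i : Fin 105, VecOK (77280 + i.val) := by
  decide +kernel

theorem blk_737 : ∀ i : Fin 105, VecOK (77385 + i.val) := by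
  decide +kernel

theorem blk_738 : ∀ i : Fin 105, VecOK (77490 + i.val) := by
  decide +kernel

theorem blk_739 : ∀ i : Fin 105, VecOK (77595 + i.val) := by
  decide +kernel

theorem blk_740 : ∀ i : Fin 105, VecOK (77700 + i.val) := by
  decide +kernel

theorem blk_741 : ∀ i : Fin 105, VecOK (77805 + i.val) := by
  decide +kernel

theorem blk_742 : ∀ i : Fin 105, VecOK (77910 + i.val) := by
  decide +kernel

theorem blk_743 : ∀ i : Fin 105, VecOK (78015 + i.val) := by
  decide +kernel

theorem blk_744 : ∀ i : Fin 105, VecOK (78120 + i.val) := by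
  decide +kernel

theorem blk_745 : ∀ i : Fin 105, VecOK (78225 + i.val) := by
  decide +kernel

theorem blk_746 : ∀ i : Fin 105, VecOK (78330 + i.val) := by
  decide +kernel

theorem blk_747 : ∀ i : Fin 105, VecOK (78435 + i.val) := by
  decide +kernel

theorem blk_748 : ∀ i : Fin 105, VecOK (78540 + i.val) := by
  decide +kernel

theorem blk_749 : ∀ i : Fin 105, VecOK (78645 + i.val) := by
  decide +kernel

theorem blk_750 : ∀ i : Fin 105, VecOK (78750 + i.val) := by
  decide +kernel

theorem blk_751 : ∀ i : Fin 105, VecOK (78855 + i.val) := by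
  decide +kernel

theorem blk_752 : ∀ i : Fin 105, VecOK (78960 + i.val) := by
  decide +kernel

theorem blk_753 : ∀ i : Fin 105, VecOK (79065 + i.val) := by
  decide +kernel

theorem blk_754 : ∀ i : Fin 105, VecOK (79170 + i.val) := by
  decide +kernel

theorem blk_755 : ∀ i : Fin 105, VecOK (79275 + i.val) := by
  decide +kernel

theorem seg_20 : Seg 75600 79380 :=
  seg_step (seg_step (seg_step (seg_step (seg_step (seg_step (seg_step (seg_step (seg_step (seg_step (seg_step (seg_step (seg_step (seg_step (seg_step (seg_step (seg_step (seg_step (seg_step (seg_step (seg_step (seg_step (seg_step (seg_step (seg_step (seg_step (seg_step (seg_step (seg_step (seg_step (seg_step (seg_step (seg_step (seg_step (seg_step (seg_step (seg_nil 75600) blk_720) blk_721) blk_722) blk_723) blk_724) blk_725) blk_726) blk_727) blk_728) blk_729) blk_730) blk_731) blk_732) blk_733) blk_734) blk_735) blk_736) blk_737) blk_738) blk_739) blk_740) blk_741) blk_742) blk_743) blk_744) blk_745) blk_746) blk_747) blk_748) blk_749) blk_750) blk_751) blk_752) blk_753) blk_754) blk_755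

end Cfsg.Agent.Lib.Helper28.Co1A
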