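import Cfsg.Agent.Lib.Helper28.Co1Seg

/-! Certificates for the first Conway group on 98280 points: the vectors 79380 to 83159 (generated). -/

set_option autoImplicit false
set_option Elab.async false
set_option maxRecDepth 1000000

namespace Cfsg.Agent.Lib.Helper28.Co1A

theorem blk_756 : ∀ i : Fin 105, VecOK (79380 + i.val) := by
  decide +kernel

theorem blk_757 : ∀ i : Fin 105, VecOK (79485 + i.val) := by
  decide +kernel

theorem blk_758 : ∀ i : Fin 105, VecOK (79590 + i.val) := by
  decide +kernel

theorem blk_759 : ∀ i : Fin 105, VecOK (79695 + i.val) := by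
  decide +kernel

theorem blk_760 : ∀ i : Fin 105, VecOK (79800 + i.val) := by
  decide +kernel

theorem blk_761 : ∀ i : Fin 105, VecOK (79905 + i.val) := by
  decide +kernel

theorem blk_762 : ∀ i : Fin 105, VecOK (80010 + i.val) := by
  decide +kernel

theorem blk_763 : ∀ i : Fin 105, VecOK (80115 + i.val) := by
  decide +kernel

theorem blk_764 : ∀ i : Fin 105, VecOK (80220 + i.val) := by
  decide +kernel

theorem blk_765 : ∀ i : Fin 105, VecOK (80325 + i.val) := by
  decide +kernel

theorem blk_766 : ∀ i : Fin 105, VecOK (80430 + i.val) := by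
  decide +kernel

theorem blk_767 : ∀ i : Fin 105, VecOK (80535 + i.val) := by
  decide +kernel

theorem blk_768 : ∀ i : Fin 105, VecOK (80640 + i.val) := by
  decide +kernel

theorem blk_769 : ∀ i : Fin 105, VecOK (80745 + i.val) := by
  decide +kernel

theorem blk_770 : ∀ i : Fin 105, VecOK (80850 + i.val) := by
  decide +kernel

theorem blk_771 : ∀ i : Fin 105, VecOK (80955 + i.val) := by
  decide +kernel

theorem blk_772 : ∀ i : Fin 105, VecOK (81060 + i.val) := by
  decide +kernel

theorem blk_773 : ∀ i : Fin 105, VecOK (81165 + i.val) := by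
  decide +kernel

theorem blk_774 : ∀ i : Fin 105, VecOK (81270 + i.val) := by
  decide +kernel

theorem blk_775 : ∀ i : Fin 105, VecOK (81375 + i.val) := by
  decide +kernel

theorem blk_776 : ∀ i : Fin 105, VecOK (81480 + i.val) := by
  decide +kernel

theorem blk_777 : ∀ i : Fin 105, VecOK (81585 + i.val) := by
  decide +kernel

theorem blk_778 : ∀ i : Fin 105, VecOK (81690 + i.val) := by
  decide +kernel

theorem blk_779 : ∀ i : Fin 105, VecOK (81795 + i.val) := by
  decide +kernel

theorem blk_780 : ∀ i : Fin 105, VecOK (81900 + i.val) := by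
  decide +kernel

theorem blk_781 : ∀ i : Fin 105, VecOK (82005 + i.val) := by
  decide +kernel

theorem blk_782 : ∀ i : Fin 105, VecOK (82110 + i.val) := by
  decide +kernel

theorem blk_783 : ∀ i : Fin 105, VecOK (82215 + i.val) := by
  decide +kernel

theorem blk_784 : ∀ i : Fin 105, VecOK (82320 + i.val) := by
  decide +kernel

theorem blk_785 : ∀ i : Fin 105, VecOK (82425 + i.val) := by
  decide +kernel

theorem blk_786 : ∀ i : Fin 105, VecOK (82530 + i.val) := by
  decide +kernel

theorem blk_787 : ∀ i : Fin 105, VecOK (82635 + i.val) := by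
  decide +kernel

theorem blk_788 : ∀ i : Fin 105, VecOK (82740 + i.val) := by
  decide +kernel

theorem blk_789 : ∀ i : Fin 105, VecOK (82845 + i.val) := by
  decide +kernel

theorem blk_790 : ∀ i : Fin 105, VecOK (82950 + i.val) := by
  decide +kernel

theorem blk_791 : ∀ i : Fin 105, VecOK (83055 + i.val) := by
  decide +kernel

theorem seg_21 : Seg 79380 83160 :=
  seg_step (seg_step (seg_step (seg_step (seg_step (seg_step (seg_step (seg_step (seg_step (seg_step (seg_step (seg_step (seg_step (seg_step (seg_step (seg_step (seg_step (seg_step (seg_step (seg_step (seg_step (seg_step (seg_step (seg_step (seg_step (seg_step (seg_step (seg_step (seg_step (seg_step (seg_step (seg_step (seg_step (seg_step (seg_step (seg_step (seg_nil 79380) blk_756) blk_757) blk_758) blk_759) blk_760) blk_761) blk_762) blk_763) blk_764) blk_765) blk_766) blk_767) blk_768) blk_769) blk_770) blk_771) blk_772) blk_773) blk_774) blk_775) blk_776) blk_777) blk_778) blk_779) blk_780) blk_781) blk_782) blk_783) blk_784) blk_785) blk_786) blk_787) blk_788) blk_789) blk_790) blk_791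

end Cfsg.Agent.Lib.Helper28.Co1A
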