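import Cfsg.Agent.Lib.Helper28.Co1Seg

/-! Certificates for the first Conway group on 98280 points: the vectors 83160 to 86939 (generated). -/

set_option autoImplicit false
set_option Elab.async false
set_option maxRecDepth 1000000

namespace Cfsg.Agent.Lib.Helper28.Co1A

theorem blk_792 : ∀ i : Fin 105, VecOK (83160 + i.val) := by
  decide +kernel

theorem blk_793 : ∀ i : Fin 105, VecOK (83265 + i.val) := by
  decide +kernel

theorem blk_794 : ∀ i : Fin 105, VecOK (83370 + i.val) := by
  decide +kernel

theorem blk_795 : ∀ i : Fin 105, VecOK (83475 + i.val) := by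
  decide +kernel

theorem blk_796 : ∀ i : Fin 105, VecOK (83580 + i.val) := by
  decide +kernel

theorem blk_797 : ∀ i : Fin 105, VecOK (83685 + i.val) := by
  decide +kernel

theorem blk_798 : ∀ i : Fin 105, VecOK (83790 + i.val) := by
  decide +kernel

theorem blk_799 : ∀ i : Fin 105, VecOK (83895 + i.val) := by
  decide +kernel

theorem blk_800 : ∀ i : Fin 105, VecOK (84000 + i.val) := by
  decide +kernel

theorem blk_801 : ∀ i : Fin 105, VecOK (84105 + i.val) := by
  decide +kernel

theorem blk_802 : ∀ i : Fin 105, VecOK (84210 + i.val) := by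
  decide +kernel

theorem blk_803 : ∀ i : Fin 105, VecOK (84315 + i.val) := by
  decide +kernel

theorem blk_804 : ∀ i : Fin 105, VecOK (84420 + i.val) := by
  decide +kernel

theorem blk_805 : ∀ i : Fin 105, VecOK (84525 + i.val) := by
  decide +kernel

theorem blk_806 : ∀ i : Fin 105, VecOK (84630 + i.val) := by
  decide +kernel

theorem blk_807 : ∀ i : Fin 105, VecOK (84735 + i.val) := by
  decide +kernel

theorem blk_808 : ∀ i : Fin 105, VecOK (84840 + i.val) := by
  decide +kernel

theorem blk_809 : ∀ i : Fin 105, VecOK (84945 + i.val) := by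
  decide +kernel

theorem blk_810 : ∀ i : Fin 105, VecOK (85050 + i.val) := by
  decide +kernel

theorem blk_811 : ∀ i : Fin 105, VecOK (85155 + i.val) := by
  decide +kernel

theorem blk_812 : ∀ i : Fin 105, VecOK (85260 + i.val) := by
  decide +kernel

theorem blk_813 : ∀ i : Fin 105, VecOK (85365 + i.val) := by
  decide +kernel

theorem blk_814 : ∀ i : Fin 105, VecOK (85470 + i.val) := by
  decide +kernel

theorem blk_815 : ∀ i : Fin 105, VecOK (85575 + i.val) := by
  decide +kernel

theorem blk_816 : ∀ i : Fin 105, VecOK (85680 + i.val) := by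
  decide +kernel

theorem blk_817 : ∀ i : Fin 105, VecOK (85785 + i.val) := by
  decide +kernel

theorem blk_818 : ∀ i : Fin 105, VecOK (85890 + i.val) := by
  decide +kernel

theorem blk_819 : ∀ i : Fin 105, VecOK (85995 + i.val) := by
  decide +kernel

theorem blk_820 : ∀ i : Fin 105, VecOK (86100 + i.val) := by
  decide +kernel

theorem blk_821 : ∀ i : Fin 105, VecOK (86205 + i.val) := by
  decide +kernel

theorem blk_822 : ∀ i : Fin 105, VecOK (86310 + i.val) := by
  decide +kernel

theorem blk_823 : ∀ i : Fin 105, VecOK (86415 + i.val) := by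
  decide +kernel

theorem blk_824 : ∀ i : Fin 105, VecOK (86520 + i.val) := by
  decide +kernel

theorem blk_825 : ∀ i : Fin 105, VecOK (86625 + i.val) := by
  decide +kernel

theorem blk_826 : ∀ i : Fin 105, VecOK (86730 + i.val) := by
  decide +kernel

theorem blk_827 : ∀ i : Fin 105, VecOK (86835 + i.val) := by
  decide +kernel

theorem seg_22 : Seg 83160 86940 :=
  seg_step (seg_step (seg_step (seg_step (seg_step (seg_step (seg_step (seg_step (seg_step (seg_step (seg_step (seg_step (seg_step (seg_step (seg_step (seg_step (seg_step (seg_step (seg_step (seg_step (seg_step (seg_step (seg_step (seg_step (seg_step (seg_step (seg_step (seg_step (seg_step (seg_step (seg_step (seg_step (seg_step (seg_step (seg_step (seg_step (seg_nil 83160) blk_792) blk_793) blk_794) blk_795) blk_796) blk_797) blk_798) blk_799) blk_800) blk_801) blk_802) blk_803) blk_804) blk_805) blk_806) blk_807) blk_808) blk_809) blk_810) blk_811) blk_812) blk_813) blk_814) blk_815) blk_816) blk_817) blk_818) blk_819) blk_820) blk_821) blk_822) blk_823) blk_824) blk_825) blk_826) blk_827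

end Cfsg.Agent.Lib.Helper28.Co1A
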