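import Cfsg.Agent.Lib.Helper28.Co1Seg

/-! Certificates for the first Conway group on 98280 points: the vectors 90720 to 94499 (generated). -/

set_option autoImplicit false
set_option Elab.async false
set_option maxRecDepth 1000000

namespace Cfsg.Agent.Lib.Helper28.Co1A

theorem blk_864 : ∀ i : Fin 105, VecOK (90720 + i.val) := by
  decide +kernel

theorem blk_865 : ∀ i : Fin 105, VecOK (90825 + i.val) := by
  decide +kernel

theorem blk_866 : ∀ i : Fin 105, VecOK (90930 + i.val) := by
  decide +kernel

theorem blk_867 : ∀ i : Fin 105, VecOK (91035 + i.val) := by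
  decide +kernel

theorem blk_868 : ∀ i : Fin 105, VecOK (91140 + i.val) := by
  decide +kernel

theorem blk_869 : ∀ i : Fin 105, VecOK (91245 + i.val) := by
  decide +kernel

theorem blk_870 : ∀ i : Fin 105, VecOK (91350 + i.val) := by
  decide +kernel

theorem blk_871 : ∀ i : Fin 105, VecOK (91455 + i.val) := by
  decide +kernel

theorem blk_872 : ∀ i : Fin 105, VecOK (91560 + i.val) := by
  decide +kernel

theorem blk_873 : ∀ i : Fin 105, VecOK (91665 + i.val) := by
  decide +kernel

theorem blk_874 : ∀ i : Fin 105, VecOK (91770 + i.val) := by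
  decide +kernel

theorem blk_875 : ∀ i : Fin 105, VecOK (91875 + i.val) := by
  decide +kernel

theorem blk_876 : ∀ i : Fin 105, VecOK (91980 + i.val) := by
  decide +kernel

theorem blk_877 : ∀ i : Fin 105, VecOK (92085 + i.val) := by
  decide +kernel

theorem blk_878 : ∀ i : Fin 105, VecOK (92190 + i.val) := by
  decide +kernel

theorem blk_879 : ∀ i : Fin 105, VecOK (92295 + i.val) := by
  decide +kernel

theorem blk_880 : ∀ i : Fin 105, VecOK (92400 + i.val) := by
  decide +kernel

theorem blk_881 : ∀ i : Fin 105, VecOK (92505 + i.val) := by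
  decide +kernel

theorem blk_882 : ∀ i : Fin 105, VecOK (92610 + i.val) := by
  decide +kernel

theorem blk_883 : ∀ i : Fin 105, VecOK (92715 + i.val) := by
  decide +kernel

theorem blk_884 : ∀ i : Fin 105, VecOK (92820 + i.val) := by
  decide +kernel

theorem blk_885 : ∀ i : Fin 105, VecOK (92925 + i.val) := by
  decide +kernel

theorem blk_886 : ∀ i : Fin 105, VecOK (93030 + i.val) := by
  decide +kernel

theorem blk_887 : ∀ i : Fin 105, VecOK (93135 + i.val) := by
  decide +kernel

theorem blk_888 : ∀ i : Fin 105, VecOK (93240 + i.val) := by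
  decide +kernel

theorem blk_889 : ∀ i : Fin 105, VecOK (93345 + i.val) := by
  decide +kernel

theorem blk_890 : ∀ i : Fin 105, VecOK (93450 + i.val) := by
  decide +kernel

theorem blk_891 : ∀ i : Fin 105, VecOK (93555 + i.val) := by
  decide +kernel

theorem blk_892 : ∀ i : Fin 105, VecOK (93660 + i.val) := by
  decide +kernel

theorem blk_893 : ∀ i : Fin 105, VecOK (93765 + i.val) := by
  decide +kernel

theorem blk_894 : ∀ i : Fin 105, VecOK (93870 + i.val) := by
  decide +kernel

theorem blk_895 : ∀ i : Fin 105, VecOK (93975 + i.val) := by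
  decide +kernel

theorem blk_896 : ∀ i : Fin 105, VecOK (94080 + i.val) := by
  decide +kernel

theorem blk_897 : ∀ i : Fin 105, VecOK (94185 + i.val) := by
  decide +kernel

theorem blk_898 : ∀ i : Fin 105, VecOK (94290 + i.val) := by
  decide +kernel

theorem blk_899 : ∀ i : Fin 105, VecOK (94395 + i.val) := by
  decide +kernel

theorem seg_24 : Seg 90720 94500 :=
  seg_step (seg_step (seg_step (seg_step (seg_step (seg_step (seg_step (seg_step (seg_step (seg_step (seg_step (seg_step (seg_step (seg_step (seg_step (seg_step (seg_step (seg_step (seg_step (seg_step (seg_step (seg_step (seg_step (seg_step (seg_step (seg_step (seg_step (seg_step (seg_step (seg_step (seg_step (seg_step (seg_step (seg_step (seg_step (seg_step (seg_nil 90720) blk_864) blk_865) blk_866) blk_867) blk_868) blk_869) blk_870) blk_871) blk_872) blk_873) blk_874) blk_875) blk_876) blk_877) blk_878) blk_879) blk_880) blk_881) blk_882) blk_883) blk_884) blk_885) blk_886) blk_887) blk_888) blk_889) blk_890) blk_891) blk_892) blk_893) blk_894) blk_895) blk_896) blk_897) blk_898) blk_899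

end Cfsg.Agent.Lib.Helper28.Co1A
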