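import Cfsg.Agent.Lib.Helper28.Co1Seg

/-! Certificates for the first Conway group on 98280 points: the vectors 94500 to 98279 (generated). -/

set_option autoImplicit false
set_option Elab.async false
set_option maxRecDepth 1000000

namespace Cfsg.Agent.Lib.Helper28.Co1A

theorem blk_900 : ∀ i : Fin 105, VecOK (94500 + i.val) := by
  decide +kernel

theorem blk_901 : ∀ i : Fin 105, VecOK (94605 + i.val) := by
  decide +kernel

theorem blk_902 : ∀ i : Fin 105, VecOK (94710 + i.val) := by
  decide +kernel

theorem blk_903 : ∀ i : Fin 105, VecOK (94815 + i.val) := by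
  decide +kernel

theorem blk_904 : ∀ i : Fin 105, VecOK (94920 + i.val) := by
  decide +kernel

theorem blk_905 : ∀ i : Fin 105, VecOK (95025 + i.val) := by
  decide +kernel

theorem blk_906 : ∀ i : Fin 105, VecOK (95130 + i.val) := by
  decide +kernel

theorem blk_907 : ∀ i : Fin 105, VecOK (95235 + i.val) := by
  decide +kernel

theorem blk_908 : ∀ i : Fin 105, VecOK (95340 + i.val) := by
  decide +kernel

theorem blk_909 : ∀ i : Fin 105, VecOK (95445 + i.val) := by
  decide +kernel

theorem blk_910 : ∀ i : Fin 105, VecOK (95550 + i.val) := by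
  decide +kernel

theorem blk_911 : ∀ i : Fin 105, VecOK (95655 + i.val) := by
  decide +kernel

theorem blk_912 : ∀ i : Fin 105, VecOK (95760 + i.val) := by
  decide +kernel

theorem blk_913 : ∀ i : Fin 105, VecOK (95865 + i.val) := by
  decide +kernel

theorem blk_914 : ∀ i : Fin 105, VecOK (95970 + i.val) := by
  decide +kernel

theorem blk_915 : ∀ i : Fin 105, VecOK (96075 + i.val) := by
  decide +kernel

theorem blk_916 : ∀ i : Fin 105, VecOK (96180 + i.val) := by
  decide +kernel

theorem blk_917 : ∀ i : Fin 105, VecOK (96285 + i.val) := by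
  decide +kernel

theorem blk_918 : ∀ i : Fin 105, VecOK (96390 + i.val) := by
  decide +kernel

theorem blk_919 : ∀ i : Fin 105, VecOK (96495 + i.val) := by
  decide +kernel

theorem blk_920 : ∀ i : Fin 105, VecOK (96600 + i.val) := by
  decide +kernel

theorem blk_921 : ∀ i : Fin 105, VecOK (96705 + i.val) := by
  decide +kernel

theorem blk_922 : ∀ i : Fin 105, VecOK (96810 + i.val) := by
  decide +kernel

theorem blk_923 : ∀ i : Fin 105, VecOK (96915 + i.val) := by
  decide +kernel

theorem blk_924 : ∀ i : Fin 105, VecOK (97020 + i.val) := by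
  decide +kernel

theorem blk_925 : ∀ i : Fin 105, VecOK (97125 + i.val) := by
  decide +kernel

theorem blk_926 : ∀ i : Fin 105, VecOK (97230 + i.val) := by
  decide +kernel

theorem blk_927 : ∀ i : Fin 105, VecOK (97335 + i.val) := by
  decide +kernel

theorem blk_928 : ∀ i : Fin 105, VecOK (97440 + i.val) := by
  decide +kernel

theorem blk_929 : ∀ i : Fin 105, VecOK (97545 + i.val) := by
  decide +kernel

theorem blk_930 : ∀ i : Fin 105, VecOK (97650 + i.val) := by
  decide +kernel

theorem blk_931 : ∀ i : Fin 105, VecOK (97755 + i.val) := by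
  decide +kernel

theorem blk_932 : ∀ i : Fin 105, VecOK (97860 + i.val) := by
  decide +kernel

theorem blk_933 : ∀ i : Fin 105, VecOK (97965 + i.val) := by
  decide +kernel

theorem blk_934 : ∀ i : Fin 105, VecOK (98070 + i.val) := by
  decide +kernel

theorem blk_935 : ∀ i : Fin 105, VecOK (98175 + i.val) := by
  decide +kernel

theorem seg_25 : Seg 94500 98280 :=
  seg_step (seg_step (seg_step (seg_step (seg_step (seg_step (seg_step (seg_step (seg_step (seg_step (seg_step (seg_step (seg_step (seg_step (seg_step (seg_step (seg_step (seg_step (seg_step (seg_step (seg_step (seg_step (seg_step (seg_step (seg_step (seg_step (seg_step (seg_step (seg_step (seg_step (seg_step (seg_step (seg_step (seg_step (seg_step (seg_step (seg_nil 94500) blk_900) blk_901) blk_902) blk_903) blk_904) blk_905) blk_906) blk_907) blk_908) blk_909) blk_910) blk_911) blk_912) blk_913) blk_914) blk_915) blk_916) blk_917) blk_918) blk_919) blk_920) blk_921) blk_922) blk_923) blk_924) blk_925) blk_926) blk_927) blk_928) blk_929) blk_930) blk_931) blk_932) blk_933) blk_934) blk_935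

end Cfsg.Agent.Lib.Helper28.Co1A
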