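import Cfsg.Agent.Lib.Helper28.Co1Seg

/-! Certificates for the first Conway group on 98280 points: the vectors 11340 to 15119 (generated). -/

set_option autoImplicit false
set_option Elab.async false
set_option maxRecDepth 1000000

namespace Cfsg.Agent.Lib.Helper28.Co1A

theorem blk_108 : ∀ i : Fin 105, VecOK (11340 + i.val) := by
  decide +kernel

theorem blk_109 : ∀ i : Fin 105, VecOK (11445 + i.val) := by
  decide +kernel

theorem blk_110 : ∀ i : Fin 105, VecOK (11550 + i.val) := by
  decide +kernel

theorem blk_111 : ∀ i : Fin 105, VecOK (11655 + i.val) := by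
  decide +kernel

theorem blk_112 : ∀ i : Fin 105, VecOK (11760 + i.val) := by
  decide +kernel

theorem blk_113 : ∀ i : Fin 105, VecOK (11865 + i.val) := by
  decide +kernel

theorem blk_114 : ∀ i : Fin 105, VecOK (11970 + i.val) := by
  decide +kernel

theorem blk_115 : ∀ i : Fin 105, VecOK (12075 + i.val) := by
  decide +kernel

theorem blk_116 : ∀ i : Fin 105, VecOK (12180 + i.val) := by
  decide +kernel

theorem blk_117 : ∀ i : Fin 105, VecOK (12285 + i.val) := by
  decide +kernel

theorem blk_118 : ∀ i : Fin 105, VecOK (12390 + i.val) := by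
  decide +kernel

theorem blk_119 : ∀ i : Fin 105, VecOK (12495 + i.val) := by
  decide +kernel

theorem blk_120 : ∀ i : Fin 105, VecOK (12600 + i.val) := by
  decide +kernel

theorem blk_121 : ∀ i : Fin 105, VecOK (12705 + i.val) := by
  decide +kernel

theorem blk_122 : ∀ i : Fin 105, VecOK (12810 + i.val) := by
  decide +kernel

theorem blk_123 : ∀ i : Fin 105, VecOK (12915 + i.val) := by
  decide +kernel

theorem blk_124 : ∀ i : Fin 105, VecOK (13020 + i.val) := by
  decide +kernel

theorem blk_125 : ∀ i : Fin 105, VecOK (13125 + i.val) := by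
  decide +kernel

theorem blk_126 : ∀ i : Fin 105, VecOK (13230 + i.val) := by
  decide +kernel

theorem blk_127 : ∀ i : Fin 105, VecOK (13335 + i.val) := by
  decide +kernel

theorem blk_128 : ∀ i : Fin 105, VecOK (13440 + i.val) := by
  decide +kernel

theorem blk_129 : ∀ i : Fin 105, VecOK (13545 + i.val) := by
  decide +kernel

theorem blk_130 : ∀ i : Fin 105, VecOK (13650 + i.val) := by
  decide +kernel

theorem blk_131 : ∀ i : Fin 105, VecOK (13755 + i.val) := by
  decide +kernel

theorem blk_132 : ∀ i : Fin 105, VecOK (13860 + i.val) := by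
  decide +kernel

theorem blk_133 : ∀ i : Fin 105, VecOK (13965 + i.val) := by
  decide +kernel

theorem blk_134 : ∀ i : Fin 105, VecOK (14070 + i.val) := by
  decide +kernel

theorem blk_135 : ∀ i : Fin 105, VecOK (14175 + i.val) := by
  decide +kernel

theorem blk_136 : ∀ i : Fin 105, VecOK (14280 + i.val) := by
  decide +kernel

theorem blk_137 : ∀ i : Fin 105, VecOK (14385 + i.val) := by
  decide +kernel

theorem blk_138 : ∀ i : Fin 105, VecOK (14490 + i.val) := by
  decide +kernel

theorem blk_139 : ∀ i : Fin 105, VecOK (14595 + i.val) := by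
  decide +kernel

theorem blk_140 : ∀ i : Fin 105, VecOK (14700 + i.val) := by
  decide +kernel

theorem blk_141 : ∀ i : Fin 105, VecOK (14805 + i.val) := by
  decide +kernel

theorem blk_142 : ∀ i : Fin 105, VecOK (14910 + i.val) := by
  decide +kernel

theorem blk_143 : ∀ i : Fin 105, VecOK (15015 + i.val) := by
  decide +kernel

theorem seg_3 : Seg 11340 15120 :=
  seg_step (seg_step (seg_step (seg_step (seg_step (seg_step (seg_step (seg_step (seg_step (seg_step (seg_step (seg_step (seg_step (seg_step (seg_step (seg_step (seg_step (seg_step (seg_step (seg_step (seg_step (seg_step (seg_step (seg_step (seg_step (seg_step (seg_step (seg_step (seg_step (seg_step (seg_step (seg_step (seg_step (seg_step (seg_step (seg_step (seg_nil 11340) blk_108) blk_109) blk_110) blk_111) blk_112) blk_113) blk_114) blk_115) blk_116) blk_117) blk_118) blk_119) blk_120) blk_121) blk_122) blk_123) blk_124) blk_125) blk_126) blk_127) blk_128) blk_129) blk_130) blk_131) blk_132) blk_133) blk_134) blk_135) blk_136) blk_137) blk_138) blk_139) blk_140) blk_141) blk_142) blk_143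

end Cfsg.Agent.Lib.Helper28.Co1A
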