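import Cfsg.Agent.Lib.Helper28.Co1Seg

/-! Certificates for the first Conway group on 98280 points: the vectors 15120 to 18899 (generated). -/

set_option autoImplicit false
set_option Elab.async false
set_option maxRecDepth 1000000

namespace Cfsg.Agent.Lib.Helper28.Co1A

theorem blk_144 : ∀ i : Fin 105, VecOK (15120 + i.val) := by
  decide +kernel

theorem blk_145 : ∀ i : Fin 105, VecOK (15225 + i.val) := by
  decide +kernel

theorem blk_146 : ∀ i : Fin 105, VecOK (15330 + i.val) := by
  decide +kernel

theorem blk_147 : ∀ i : Fin 105, VecOK (15435 + i.val) := by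
  decide +kernel

theorem blk_148 : ∀ i : Fin 105, VecOK (15540 + i.val) := by
  decide +kernel

theorem blk_149 : ∀ i : Fin 105, VecOK (15645 + i.val) := by
  decide +kernel

theorem blk_150 : ∀ i : Fin 105, VecOK (15750 + i.val) := by
  decide +kernel

theorem blk_151 : ∀ i : Fin 105, VecOK (15855 + i.val) := by
  decide +kernel

theorem blk_152 : ∀ i : Fin 105, VecOK (15960 + i.val) := by
  decide +kernel

theorem blk_153 : ∀ i : Fin 105, VecOK (16065 + i.val) := by
  decide +kernel

theorem blk_154 : ∀ i : Fin 105, VecOK (16170 + i.val) := by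
  decide +kernel

theorem blk_155 : ∀ i : Fin 105, VecOK (16275 + i.val) := by
  decide +kernel

theorem blk_156 : ∀ i : Fin 105, VecOK (16380 + i.val) := by
  decide +kernel

theorem blk_157 : ∀ i : Fin 105, VecOK (16485 + i.val) := by
  decide +kernel

theorem blk_158 : ∀ i : Fin 105, VecOK (16590 + i.val) := by
  decide +kernel

theorem blk_159 : ∀ i : Fin 105, VecOK (16695 + i.val) := by
  decide +kernel

theorem blk_160 : ∀ i : Fin 105, VecOK (16800 + i.val) := by
  decide +kernel

theorem blk_161 : ∀ i : Fin 105, VecOK (16905 + i.val) := by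
  decide +kernel

theorem blk_162 : ∀ i : Fin 105, VecOK (17010 + i.val) := by
  decide +kernel

theorem blk_163 : ∀ i : Fin 105, VecOK (17115 + i.val) := by
  decide +kernel

theorem blk_164 : ∀ i : Fin 105, VecOK (17220 + i.val) := by
  decide +kernel

theorem blk_165 : ∀ i : Fin 105, VecOK (17325 + i.val) := by
  decide +kernel

theorem blk_166 : ∀ i : Fin 105, VecOK (17430 + i.val) := by
  decide +kernel

theorem blk_167 : ∀ i : Fin 105, VecOK (17535 + i.val) := by
  decide +kernel

theorem blk_168 : ∀ i : Fin 105, VecOK (17640 + i.val) := by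
  decide +kernel

theorem blk_169 : ∀ i : Fin 105, VecOK (17745 + i.val) := by
  decide +kernel

theorem blk_170 : ∀ i : Fin 105, VecOK (17850 + i.val) := by
  decide +kernel

theorem blk_171 : ∀ i : Fin 105, VecOK (17955 + i.val) := by
  decide +kernel

theorem blk_172 : ∀ i : Fin 105, VecOK (18060 + i.val) := by
  decide +kernel

theorem blk_173 : ∀ i : Fin 105, VecOK (18165 + i.val) := by
  decide +kernel

theorem blk_174 : ∀ i : Fin 105, VecOK (18270 + i.val) := by
  decide +kernel

theorem blk_175 : ∀ i : Fin 105, VecOK (18375 + i.val) := by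
  decide +kernel

theorem blk_176 : ∀ i : Fin 105, VecOK (18480 + i.val) := by
  decide +kernel

theorem blk_177 : ∀ i : Fin 105, VecOK (18585 + i.val) := by
  decide +kernel

theorem blk_178 : ∀ i : Fin 105, VecOK (18690 + i.val) := by
  decide +kernel

theorem blk_179 : ∀ i : Fin 105, VecOK (18795 + i.val) := by
  decide +kernel

theorem seg_4 : Seg 15120 18900 :=
  seg_step (seg_step (seg_step (seg_step (seg_step (seg_step (seg_step (seg_step (seg_step (seg_step (seg_step (seg_step (seg_step (seg_step (seg_step (seg_step (seg_step (seg_step (seg_step (seg_step (seg_step (seg_step (seg_step (seg_step (seg_step (seg_step (seg_step (seg_step (seg_step (seg_step (seg_step (seg_step (seg_step (seg_step (seg_step (seg_step (seg_nil 15120) blk_144) blk_145) blk_146) blk_147) blk_148) blk_149) blk_150) blk_151) blk_152) blk_153) blk_154) blk_155) blk_156) blk_157) blk_158) blk_159) blk_160) blk_161) blk_162) blk_163) blk_164) blk_165) blk_166) blk_167) blk_168) blk_169) blk_170) blk_171) blk_172) blk_173) blk_174) blk_175) blk_176) blk_177) blk_178) blk_179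

end Cfsg.Agent.Lib.Helper28.Co1A
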