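import Cfsg.Agent.Lib.Helper28.Co1Seg

/-! Certificates for the first Conway group on 98280 points: the vectors 18900 to 22679 (generated). -/

set_option autoImplicit false
set_option Elab.async false
set_option maxRecDepth 1000000

namespace Cfsg.Agent.Lib.Helper28.Co1A

theorem blk_180 : ∀ i : Fin 105, VecOK (18900 + i.val) := by
  decide +kernel

theorem blk_181 : ∀ i : Fin 105, VecOK (19005 + i.val) := by
  decide +kernel

theorem blk_182 : ∀ i : Fin 105, VecOK (19110 + i.val) := by
  decide +kernel

theorem blk_183 : ∀ i : Fin 105, VecOK (19215 + i.val) := by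
  decide +kernel

theorem blk_184 : ∀ i : Fin 105, VecOK (19320 + i.val) := by
  decide +kernel

theorem blk_185 : ∀ i : Fin 105, VecOK (19425 + i.val) := by
  decide +kernel

theorem blk_186 : ∀ i : Fin 105, VecOK (19530 + i.val) := by
  decide +kernel

theorem blk_187 : ∀ i : Fin 105, VecOK (19635 + i.val) := by
  decide +kernel

theorem blk_188 : ∀ i : Fin 105, VecOK (19740 + i.val) := by
  decide +kernel

theorem blk_189 : ∀ i : Fin 105, VecOK (19845 + i.val) := by
  decide +kernel

theorem blk_190 : ∀ i : Fin 105, VecOK (19950 + i.val) := by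
  decide +kernel

theorem blk_191 : ∀ i : Fin 105, VecOK (20055 + i.val) := by
  decide +kernel

theorem blk_192 : ∀ i : Fin 105, VecOK (20160 + i.val) := by
  decide +kernel

theorem blk_193 : ∀ i : Fin 105, VecOK (20265 + i.val) := by
  decide +kernel

theorem blk_194 : ∀ i : Fin 105, VecOK (20370 + i.val) := by
  decide +kernel

theorem blk_195 : ∀ i : Fin 105, VecOK (20475 + i.val) := by
  decide +kernel

theorem blk_196 : ∀ i : Fin 105, VecOK (20580 + i.val) := by
  decide +kernel

theorem blk_197 : ∀ i : Fin 105, VecOK (20685 + i.val) := by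
  decide +kernel

theorem blk_198 : ∀ i : Fin 105, VecOK (20790 + i.val) := by
  decide +kernel

theorem blk_199 : ∀ i : Fin 105, VecOK (20895 + i.val) := by
  decide +kernel

theorem blk_200 : ∀ i : Fin 105, VecOK (21000 + i.val) := by
  decide +kernel

theorem blk_201 : ∀ i : Fin 105, VecOK (21105 + i.val) := by
  decide +kernel

theorem blk_202 : ∀ i : Fin 105, VecOK (21210 + i.val) := by
  decide +kernel

theorem blk_203 : ∀ i : Fin 105, VecOK (21315 + i.val) := by
  decide +kernel

theorem blk_204 : ∀ i : Fin 105, VecOK (21420 + i.val) := by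
  decide +kernel

theorem blk_205 : ∀ i : Fin 105, VecOK (21525 + i.val) := by
  decide +kernel

theorem blk_206 : ∀ i : Fin 105, VecOK (21630 + i.val) := by
  decide +kernel

theorem blk_207 : ∀ i : Fin 105, VecOK (21735 + i.val) := by
  decide +kernel

theorem blk_208 : ∀ i : Fin 105, VecOK (21840 + i.val) := by
  decide +kernel

theorem blk_209 : ∀ i : Fin 105, VecOK (21945 + i.val) := by
  decide +kernel

theorem blk_210 : ∀ i : Fin 105, VecOK (22050 + i.val) := by
  decide +kernel

theorem blk_211 : ∀ i : Fin 105, VecOK (22155 + i.val) := by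
  decide +kernel

theorem blk_212 : ∀ i : Fin 105, VecOK (22260 + i.val) := by
  decide +kernel

theorem blk_213 : ∀ i : Fin 105, VecOK (22365 + i.val) := by
  decide +kernel

theorem blk_214 : ∀ i : Fin 105, VecOK (22470 + i.val) := by
  decide +kernel

theorem blk_215 : ∀ i : Fin 105, VecOK (22575 + i.val) := by
  decide +kernel

theorem seg_5 : Seg 18900 22680 :=
  seg_step (seg_step (seg_step (seg_step (seg_step (seg_step (seg_step (seg_step (seg_step (seg_step (seg_step (seg_step (seg_step (seg_step (seg_step (seg_step (seg_step (seg_step (seg_step (seg_step (seg_step (seg_step (seg_step (seg_step (seg_step (seg_step (seg_step (seg_step (seg_step (seg_step (seg_step (seg_step (seg_step (seg_step (seg_step (seg_step (seg_nil 18900) blk_180) blk_181) blk_182) blk_183) blk_184) blk_185) blk_186) blk_187) blk_188) blk_189) blk_190) blk_191) blk_192) blk_193) blk_194) blk_195) blk_196) blk_197) blk_198) blk_199) blk_200) blk_201) blk_202) blk_203) blk_204) blk_205) blk_206) blk_207) blk_208) blk_209) blk_210) blk_211) blk_212) blk_213) blk_214) blk_215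

end Cfsg.Agent.Lib.Helper28.Co1A
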