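import Cfsg.Agent.Lib.Helper28.Co1Seg

/-! Certificates for the first Conway group on 98280 points: the vectors 22680 to 26459 (generated). -/

set_option autoImplicit false
set_option Elab.async false
set_option maxRecDepth 1000000

namespace Cfsg.Agent.Lib.Helper28.Co1A

theorem blk_216 : ∀ i : Fin 105, VecOK (22680 + i.val) := by
  decide +kernel

theorem blk_217 : ∀ i : Fin 105, VecOK (22785 + i.val) := by
  decide +kernel

theorem blk_218 : ∀ i : Fin 105, VecOK (22890 + i.val) := by
  decide +kernel

theorem blk_219 : ∀ i : Fin 105, VecOK (22995 + i.val) := by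
  decide +kernel

theorem blk_220 : ∀ i : Fin 105, VecOK (23100 + i.val) := by
  decide +kernel

theorem blk_221 : ∀ i : Fin 105, VecOK (23205 + i.val) := by
  decide +kernel

theorem blk_222 : ∀ i : Fin 105, VecOK (23310 + i.val) := by
  decide +kernel

theorem blk_223 : ∀ i : Fin 105, VecOK (23415 + i.val) := by
  decide +kernel

theorem blk_224 : ∀ i : Fin 105, VecOK (23520 + i.val) := by
  decide +kernel

theorem blk_225 : ∀ i : Fin 105, VecOK (23625 + i.val) := by
  decide +kernel

theorem blk_226 : ∀ i : Fin 105, VecOK (23730 + i.val) := by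
  decide +kernel

theorem blk_227 : ∀ i : Fin 105, VecOK (23835 + i.val) := by
  decide +kernel

theorem blk_228 : ∀ i : Fin 105, VecOK (23940 + i.val) := by
  decide +kernel

theorem blk_229 : ∀ i : Fin 105, VecOK (24045 + i.val) := by
  decide +kernel

theorem blk_230 : ∀ i : Fin 105, VecOK (24150 + i.val) := by
  decide +kernel

theorem blk_231 : ∀ i : Fin 105, VecOK (24255 + i.val) := by
  decide +kernel

theorem blk_232 : ∀ i : Fin 105, VecOK (24360 + i.val) := by
  decide +kernel

theorem blk_233 : ∀ i : Fin 105, VecOK (24465 + i.val) := by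
  decide +kernel

theorem blk_234 : ∀ i : Fin 105, VecOK (24570 + i.val) := by
  decide +kernel

theorem blk_235 : ∀ i : Fin 105, VecOK (24675 + i.val) := by
  decide +kernel

theorem blk_236 : ∀ i : Fin 105, VecOK (24780 + i.val) := by
  decide +kernel

theorem blk_237 : ∀ i : Fin 105, VecOK (24885 + i.val) := by
  decide +kernel

theorem blk_238 : ∀ i : Fin 105, VecOK (24990 + i.val) := by
  decide +kernel

theorem blk_239 : ∀ i : Fin 105, VecOK (25095 + i.val) := by
  decide +kernel

theorem blk_240 : ∀ i : Fin 105, VecOK (25200 + i.val) := by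
  decide +kernel

theorem blk_241 : ∀ i : Fin 105, VecOK (25305 + i.val) := by
  decide +kernel

theorem blk_242 : ∀ i : Fin 105, VecOK (25410 + i.val) := by
  decide +kernel

theorem blk_243 : ∀ i : Fin 105, VecOK (25515 + i.val) := by
  decide +kernel

theorem blk_244 : ∀ i : Fin 105, VecOK (25620 + i.val) := by
  decide +kernel

theorem blk_245 : ∀ i : Fin 105, VecOK (25725 + i.val) := by
  decide +kernel

theorem blk_246 : ∀ i : Fin 105, VecOK (25830 + i.val) := by
  decide +kernel

theorem blk_247 : ∀ i : Fin 105, VecOK (25935 + i.val) := by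
  decide +kernel

theorem blk_248 : ∀ i : Fin 105, VecOK (26040 + i.val) := by
  decide +kernel

theorem blk_249 : ∀ i : Fin 105, VecOK (26145 + i.val) := by
  decide +kernel

theorem blk_250 : ∀ i : Fin 105, VecOK (26250 + i.val) := by
  decide +kernel

theorem blk_251 : ∀ i : Fin 105, VecOK (26355 + i.val) := by
  decide +kernel

theorem seg_6 : Seg 22680 26460 :=
  seg_step (seg_step (seg_step (seg_step (seg_step (seg_step (seg_step (seg_step (seg_step (seg_step (seg_step (seg_step (seg_step (seg_step (seg_step (seg_step (seg_step (seg_step (seg_step (seg_step (seg_step (seg_step (seg_step (seg_step (seg_step (seg_step (seg_step (seg_step (seg_step (seg_step (seg_step (seg_step (seg_step (seg_step (seg_step (seg_step (seg_nil 22680) blk_216) blk_217) blk_218) blk_219) blk_220) blk_221) blk_222) blk_223) blk_224) blk_225) blk_226) blk_227) blk_228) blk_229) blk_230) blk_231) blk_232) blk_233) blk_234) blk_235) blk_236) blk_237) blk_238) blk_239) blk_240) blk_241) blk_242) blk_243) blk_244) blk_245) blk_246) blk_247) blk_248) blk_249) blk_250) blk_251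

end Cfsg.Agent.Lib.Helper28.Co1A
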