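import Cfsg.Agent.Lib.Helper28.Co1Seg

/-! Certificates for the first Conway group on 98280 points: the vectors 26460 to 30239 (generated). -/

set_option autoImplicit false
set_option Elab.async false
set_option maxRecDepth 1000000

namespace Cfsg.Agent.Lib.Helper28.Co1A

theorem blk_252 : ∀ i : Fin 105, VecOK (26460 + i.val) := by
  decide +kernel

theorem blk_253 : ∀ i : Fin 105, VecOK (26565 + i.val) := by
  decide +kernel

theorem blk_254 : ∀ i : Fin 105, VecOK (26670 + i.val) := by
  decide +kernel

theorem blk_255 : ∀ i : Fin 105, VecOK (26775 + i.val) := by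
  decide +kernel

theorem blk_256 : ∀ i : Fin 105, VecOK (26880 + i.val) := by
  decide +kernel

theorem blk_257 : ∀ i : Fin 105, VecOK (26985 + i.val) := by
  decide +kernel

theorem blk_258 : ∀ i : Fin 105, VecOK (27090 + i.val) := by
  decide +kernel

theorem blk_259 : ∀ i : Fin 105, VecOK (27195 + i.val) := by
  decide +kernel

theorem blk_260 : ∀ i : Fin 105, VecOK (27300 + i.val) := by
  decide +kernel

theorem blk_261 : ∀ i : Fin 105, VecOK (27405 + i.val) := by
  decide +kernel

theorem blk_262 : ∀ i : Fin 105, VecOK (27510 + i.val) := by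
  decide +kernel

theorem blk_263 : ∀ i : Fin 105, VecOK (27615 + i.val) := by
  decide +kernel

theorem blk_264 : ∀ i : Fin 105, VecOK (27720 + i.val) := by
  decide +kernel

theorem blk_265 : ∀ i : Fin 105, VecOK (27825 + i.val) := by
  decide +kernel

theorem blk_266 : ∀ i : Fin 105, VecOK (27930 + i.val) := by
  decide +kernel

theorem blk_267 : ∀ i : Fin 105, VecOK (28035 + i.val) := by
  decide +kernel

theorem blk_268 : ∀ i : Fin 105, VecOK (28140 + i.val) := by
  decide +kernel

theorem blk_269 : ∀ i : Fin 105, VecOK (28245 + i.val) := by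
  decide +kernel

theorem blk_270 : ∀ i : Fin 105, VecOK (28350 + i.val) := by
  decide +kernel

theorem blk_271 : ∀ i : Fin 105, VecOK (28455 + i.val) := by
  decide +kernel

theorem blk_272 : ∀ i : Fin 105, VecOK (28560 + i.val) := by
  decide +kernel

theorem blk_273 : ∀ i : Fin 105, VecOK (28665 + i.val) := by
  decide +kernel

theorem blk_274 : ∀ i : Fin 105, VecOK (28770 + i.val) := by
  decide +kernel

theorem blk_275 : ∀ i : Fin 105, VecOK (28875 + i.val) := by
  decide +kernel

theorem blk_276 : ∀ i : Fin 105, VecOK (28980 + i.val) := by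
  decide +kernel

theorem blk_277 : ∀ i : Fin 105, VecOK (29085 + i.val) := by
  decide +kernel

theorem blk_278 : ∀ i : Fin 105, VecOK (29190 + i.val) := by
  decide +kernel

theorem blk_279 : ∀ i : Fin 105, VecOK (29295 + i.val) := by
  decide +kernel

theorem blk_280 : ∀ i : Fin 105, VecOK (29400 + i.val) := by
  decide +kernel

theorem blk_281 : ∀ i : Fin 105, VecOK (29505 + i.val) := by
  decide +kernel

theorem blk_282 : ∀ i : Fin 105, VecOK (29610 + i.val) := by
  decide +kernel

theorem blk_283 : ∀ i : Fin 105, VecOK (29715 + i.val) := by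
  decide +kernel

theorem blk_284 : ∀ i : Fin 105, VecOK (29820 + i.val) := by
  decide +kernel

theorem blk_285 : ∀ i : Fin 105, VecOK (29925 + i.val) := by
  decide +kernel

theorem blk_286 : ∀ i : Fin 105, VecOK (30030 + i.val) := by
  decide +kernel

theorem blk_287 : ∀ i : Fin 105, VecOK (30135 + i.val) := by
  decide +kernel

theorem seg_7 : Seg 26460 30240 :=
  seg_step (seg_step (seg_step (seg_step (seg_step (seg_step (seg_step (seg_step (seg_step (seg_step (seg_step (seg_step (seg_step (seg_step (seg_step (seg_step (seg_step (seg_step (seg_step (seg_step (seg_step (seg_step (seg_step (seg_step (seg_step (seg_step (seg_step (seg_step (seg_step (seg_step (seg_step (seg_step (seg_step (seg_step (seg_step (seg_step (seg_nil 26460) blk_252) blk_253) blk_254) blk_255) blk_256) blk_257) blk_258) blk_259) blk_260) blk_261) blk_262) blk_263) blk_264) blk_265) blk_266) blk_267) blk_268) blk_269) blk_270) blk_271) blk_272) blk_273) blk_274) blk_275) blk_276) blk_277) blk_278) blk_279) blk_280) blk_281) blk_282) blk_283) blk_284) blk_285) blk_286) blk_287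

end Cfsg.Agent.Lib.Helper28.Co1A
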