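import Cfsg.Agent.Lib.Helper28.Co1Seg

/-! Certificates for the first Conway group on 98280 points: the vectors 30240 to 34019 (generated). -/

set_option autoImplicit false
set_option Elab.async false
set_option maxRecDepth 1000000

namespace Cfsg.Agent.Lib.Helper28.Co1A

theorem blk_288 : ∀ i : Fin 105, VecOK (30240 + i.val) := by
  decide +kernel

theorem blk_289 : ∀ i : Fin 105, VecOK (30345 + i.val) := by
  decide +kernel

theorem blk_290 : ∀ i : Fin 105, VecOK (30450 + i.val) := by
  decide +kernel

theorem blk_291 : ∀ i : Fin 105, VecOK (30555 + i.val) := by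
  decide +kernel

theorem blk_292 : ∀ i : Fin 105, VecOK (30660 + i.val) := by
  decide +kernel

theorem blk_293 : ∀ i : Fin 105, VecOK (30765 + i.val) := by
  decide +kernel

theorem blk_294 : ∀ i : Fin 105, VecOK (30870 + i.val) := by
  decide +kernel

theorem blk_295 : ∀ i : Fin 105, VecOK (30975 + i.val) := by
  decide +kernel

theorem blk_296 : ∀ i : Fin 105, VecOK (31080 + i.val) := by
  decide +kernel

theorem blk_297 : ∀ i : Fin 105, VecOK (31185 + i.val) := by
  decide +kernel

theorem blk_298 : ∀ i : Fin 105, VecOK (31290 + i.val) := by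
  decide +kernel

theorem blk_299 : ∀ i : Fin 105, VecOK (31395 + i.val) := by
  decide +kernel

theorem blk_300 : ∀ i : Fin 105, VecOK (31500 + i.val) := by
  decide +kernel

theorem blk_301 : ∀ i : Fin 105, VecOK (31605 + i.val) := by
  decide +kernel

theorem blk_302 : ∀ i : Fin 105, VecOK (31710 + i.val) := by
  decide +kernel

theorem blk_303 : ∀ i : Fin 105, VecOK (31815 + i.val) := by
  decide +kernel

theorem blk_304 : ∀ i : Fin 105, VecOK (31920 + i.val) := by
  decide +kernel

theorem blk_305 : ∀ i : Fin 105, VecOK (32025 + i.val) := by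
  decide +kernel

theorem blk_306 : ∀ i : Fin 105, VecOK (32130 + i.val) := by
  decide +kernel

theorem blk_307 : ∀ i : Fin 105, VecOK (32235 + i.val) := by
  decide +kernel

theorem blk_308 : ∀ i : Fin 105, VecOK (32340 + i.val) := by
  decide +kernel

theorem blk_309 : ∀ i : Fin 105, VecOK (32445 + i.val) := by
  decide +kernel

theorem blk_310 : ∀ i : Fin 105, VecOK (32550 + i.val) := by
  decide +kernel

theorem blk_311 : ∀ i : Fin 105, VecOK (32655 + i.val) := by
  decide +kernel

theorem blk_312 : ∀ i : Fin 105, VecOK (32760 + i.val) := by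
  decide +kernel

theorem blk_313 : ∀ i : Fin 105, VecOK (32865 + i.val) := by
  decide +kernel

theorem blk_314 : ∀ i : Fin 105, VecOK (32970 + i.val) := by
  decide +kernel

theorem blk_315 : ∀ i : Fin 105, VecOK (33075 + i.val) := by
  decide +kernel

theorem blk_316 : ∀ i : Fin 105, VecOK (33180 + i.val) := by
  decide +kernel

theorem blk_317 : ∀ i : Fin 105, VecOK (33285 + i.val) := by
  decide +kernel

theorem blk_318 : ∀ i : Fin 105, VecOK (33390 + i.val) := by
  decide +kernel

theorem blk_319 : ∀ i : Fin 105, VecOK (33495 + i.val) := by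
  decide +kernel

theorem blk_320 : ∀ i : Fin 105, VecOK (33600 + i.val) := by
  decide +kernel

theorem blk_321 : ∀ i : Fin 105, VecOK (33705 + i.val) := by
  decide +kernel

theorem blk_322 : ∀ i : Fin 105, VecOK (33810 + i.val) := by
  decide +kernel

theorem blk_323 : ∀ i : Fin 105, VecOK (33915 + i.val) := by
  decide +kernel

theorem seg_8 : Seg 30240 34020 :=
  seg_step (seg_step (seg_step (seg_step (seg_step (seg_step (seg_step (seg_step (seg_step (seg_step (seg_step (seg_step (seg_step (seg_step (seg_step (seg_step (seg_step (seg_step (seg_step (seg_step (seg_step (seg_step (seg_step (seg_step (seg_step (seg_step (seg_step (seg_step (seg_step (seg_step (seg_step (seg_step (seg_step (seg_step (seg_step (seg_step (seg_nil 30240) blk_288) blk_289) blk_290) blk_291) blk_292) blk_293) blk_294) blk_295) blk_296) blk_297) blk_298) blk_299) blk_300) blk_301) blk_302) blk_303) blk_304) blk_305) blk_306) blk_307) blk_308) blk_309) blk_310) blk_311) blk_312) blk_313) blk_314) blk_315) blk_316) blk_317) blk_318) blk_319) blk_320) blk_321) blk_322) blk_323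

end Cfsg.Agent.Lib.Helper28.Co1A
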