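import Cfsg.Agent.Lib.Helper28.Co1Seg

/-! Certificates for the first Conway group on 98280 points: the vectors 34020 to 37799 (generated). -/

set_option autoImplicit false
set_option Elab.async false
set_option maxRecDepth 1000000

namespace Cfsg.Agent.Lib.Helper28.Co1A

theorem blk_324 : ∀ i : Fin 105, VecOK (34020 + i.val) := by
  decide +kernel

theorem blk_325 : ∀ i : Fin 105, VecOK (34125 + i.val) := by
  decide +kernel

theorem blk_326 : ∀ i : Fin 105, VecOK (34230 + i.val) := by
  decide +kernel

theorem blk_327 : ∀ i : Fin 105, VecOK (34335 + i.val) := by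
  decide +kernel

theorem blk_328 : ∀ i : Fin 105, VecOK (34440 + i.val) := by
  decide +kernel

theorem blk_329 : ∀ i : Fin 105, VecOK (34545 + i.val) := by
  decide +kernel

theorem blk_330 : ∀ i : Fin 105, VecOK (34650 + i.val) := by
  decide +kernel

theorem blk_331 : ∀ i : Fin 105, VecOK (34755 + i.val) := by
  decide +kernel

theorem blk_332 : ∀ i : Fin 105, VecOK (34860 + i.val) := by
  decide +kernel

theorem blk_333 : ∀ i : Fin 105, VecOK (34965 + i.val) := by
  decide +kernel

theorem blk_334 : ∀ i : Fin 105, VecOK (35070 + i.val) := by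
  decide +kernel

theorem blk_335 : ∀ i : Fin 105, VecOK (35175 + i.val) := by
  decide +kernel

theorem blk_336 : ∀ i : Fin 105, VecOK (35280 + i.val) := by
  decide +kernel

theorem blk_337 : ∀ i : Fin 105, VecOK (35385 + i.val) := by
  decide +kernel

theorem blk_338 : ∀ i : Fin 105, VecOK (35490 + i.val) := by
  decide +kernel

theorem blk_339 : ∀ i : Fin 105, VecOK (35595 + i.val) := by
  decide +kernel

theorem blk_340 : ∀ i : Fin 105, VecOK (35700 + i.val) := by
  decide +kernel

theorem blk_341 : ∀ i : Fin 105, VecOK (35805 + i.val) := by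
  decide +kernel

theorem blk_342 : ∀ i : Fin 105, VecOK (35910 + i.val) := by
  decide +kernel

theorem blk_343 : ∀ i : Fin 105, VecOK (36015 + i.val) := by
  decide +kernel

theorem blk_344 : ∀ i : Fin 105, VecOK (36120 + i.val) := by
  decide +kernel

theorem blk_345 : ∀ i : Fin 105, VecOK (36225 + i.val) := by
  decide +kernel

theorem blk_346 : ∀ i : Fin 105, VecOK (36330 + i.val) := by
  decide +kernel

theorem blk_347 : ∀ i : Fin 105, VecOK (36435 + i.val) := by
  decide +kernel

theorem blk_348 : ∀ i : Fin 105, VecOK (36540 + i.val) := by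
  decide +kernel

theorem blk_349 : ∀ i : Fin 105, VecOK (36645 + i.val) := by
  decide +kernel

theorem blk_350 : ∀ i : Fin 105, VecOK (36750 + i.val) := by
  decide +kernel

theorem blk_351 : ∀ i : Fin 105, VecOK (36855 + i.val) := by
  decide +kernel

theorem blk_352 : ∀ i : Fin 105, VecOK (36960 + i.val) := by
  decide +kernel

theorem blk_353 : ∀ i : Fin 105, VecOK (37065 + i.val) := by
  decide +kernel

theorem blk_354 : ∀ i : Fin 105, VecOK (37170 + i.val) := by
  decide +kernel

theorem blk_355 : ∀ i : Fin 105, VecOK (37275 + i.val) := by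
  decide +kernel

theorem blk_356 : ∀ i : Fin 105, VecOK (37380 + i.val) := by
  decide +kernel

theorem blk_357 : ∀ i : Fin 105, VecOK (37485 + i.val) := by
  decide +kernel

theorem blk_358 : ∀ i : Fin 105, VecOK (37590 + i.val) := by
  decide +kernel

theorem blk_359 : ∀ i : Fin 105, VecOK (37695 + i.val) := by
  decide +kernel

theorem seg_9 : Seg 34020 37800 :=
  seg_step (seg_step (seg_step (seg_step (seg_step (seg_step (seg_step (seg_step (seg_step (seg_step (seg_step (seg_step (seg_step (seg_step (seg_step (seg_step (seg_step (seg_step (seg_step (seg_step (seg_step (seg_step (seg_step (seg_step (seg_step (seg_step (seg_step (seg_step (seg_step (seg_step (seg_step (seg_step (seg_step (seg_step (seg_step (seg_step (seg_nil 34020) blk_324) blk_325) blk_326) blk_327) blk_328) blk_329) blk_330) blk_331) blk_332) blk_333) blk_334) blk_335) blk_336) blk_337) blk_338) blk_339) blk_340) blk_341) blk_342) blk_343) blk_344) blk_345) blk_346) blk_347) blk_348) blk_349) blk_350) blk_351) blk_352) blk_353) blk_354) blk_355) blk_356) blk_357) blk_358) blk_359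

end Cfsg.Agent.Lib.Helper28.Co1A
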