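import Cfsg.Agent.Lib.Helper28.Co1CertB0
import Cfsg.Agent.Lib.Helper28.Co1CertB1
import Cfsg.Agent.Lib.Helper28.Co1CertB2
import Cfsg.Agent.Lib.Helper28.Co1CertB3
import Cfsg.Agent.Lib.Helper28.Co1CertB4
import Cfsg.Agent.Lib.Helper28.Co1CertB5
import Cfsg.Agent.Lib.Helper28.Co1CertB6
import Cfsg.Agent.Lib.Helper28.Co1CertB7
import Cfsg.Agent.Lib.Helper28.Co1CertB8
import Cfsg.Agent.Lib.Helper28.Co1CertB9
import Cfsg.Agent.Lib.Helper28.Co1CertB10
import Cfsg.Agent.Lib.Helper28.Co1CertB11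
import Cfsg.Agent.Lib.Helper28.Co1CertB12
import Cfsg.Agent.Lib.Helper28.Co1CertB13
import Cfsg.Agent.Lib.Helper28.Co1CertB14
import Cfsg.Agent.Lib.Helper28.Co1CertB15
import Cfsg.Agent.Lib.Helper28.Co1CertB16
import Cfsg.Agent.Lib.Helper28.Co1CertB17
import Cfsg.Agent.Lib.Helper28.Co1CertB18
import Cfsg.Agent.Lib.Helper28.Co1CertB19
import Cfsg.Agent.Lib.Helper28.Co1CertB20
import Cfsg.Agent.Lib.Helper28.Co1CertB21
import Cfsg.Agent.Lib.Helper28.Co1CertB22
import Cfsg.Agent.Lib.Helper28.Co1CertB23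
import Cfsg.Agent.Lib.Helper28.Co1CertB24
import Cfsg.Agent.Lib.Helper28.Co1CertB25

/-!
# Certificates for the first Conway group on 98280 points: all vectors
-/

set_option autoImplicit false

namespace Cfsg.Agent.Lib.Helper28.Co1A

theorem seg_all : Seg 0 NP :=
  seg_trans seg_0 (seg_trans seg_1 (seg_trans seg_2 (seg_trans seg_3 (seg_trans seg_4
  (seg_trans seg_5 (seg_trans seg_6 (seg_trans seg_7 (seg_trans seg_8 (seg_trans seg_9
  (seg_trans seg_10 (seg_trans seg_11 (seg_trans seg_12 (seg_trans seg_13 (seg_trans seg_14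
  (seg_trans seg_15 (seg_trans seg_16 (seg_trans seg_17 (seg_trans seg_18 (seg_trans seg_19
  (seg_trans seg_20 (seg_trans seg_21 (seg_trans seg_22 (seg_trans seg_23 (seg_trans seg_24
  seg_25))))))))))))))))))))))))

end Cfsg.Agent.Lib.Helper28.Co1A
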