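import Cfsg.Agent.Lib.Helper28.Co1Seg
import Cfsg.Agent.Lib.Helper4.Orb.GrpCo1

/-!
# The first Conway group on 98280 points: what the certificates mean

From the conditions `VecOK j` for all `j < 98280`: every list `xl j` codes a vector of the rank-24
lattice of sum of squares 32, the lists are distinct and no two are opposite, and each of the nine
explicit automorphisms of the lattice maps the `j`-th vector to plus or minus the vector whose index
the table gives.
-/

set_option autoImplicit false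

namespace Cfsg.Agent.Lib.Helper28.Co1A

open Cfsg Cfsg.Agent.Lib.Helper28.BSGS Cfsg.Agent.Lib.Helper28.BigTab
open Cfsg.Agent.Lib.Helper28.Co1Data
open Cfsg.Agent.Helper4.CO Cfsg.Agent.Helper4.LC

/-! ### packed vectors -/

theorem packD_append (l : List ℕ) (d : ℕ) : packD (l ++ [d]) = packD l + 16 ^ l.length * d := by
  induction l with
  | nil => simp [packD]
  | cons a as ih =>
    simp only [List.cons_append, packD, ih, List.length_cons, pow_succ]
    ring

theorem packD_digits (X : ℕ) : ∀ k : ℕ, packD ((List.range k).map (dig X)) = X % 16 ^ k := by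
  intro k
  induction k with
  | zero => simp [packD, Nat.mod_one]
  | succ k ih =>
    rw [List.range_succ, List.map_append, List.map_cons, List.map_nil, packD_append, ih,
      List.length_map, List.length_range, Nat.mod_pow_succ]
    rfl

theorem enc_dig (d : ℕ) : enc ((d : ℤ) - 8) = d := by
  unfold enc
  omega

theorem pack_unpack (X : ℕ) (hX : X < 16 ^ 24) : pack (unpack X) = X := by
  unfold pack unpack
  rw [List.map_map]
  have h : (enc ∘ fun p => ((dig X p : ℕ) : ℤ) - 8) = dig X := by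
    funext p
    exact enc_dig _
  rw [h, packD_digits, Nat.mod_eq_of_lt hX]

theorem look_lt (w t a : ℕ) : look w t a < 2 ^ w := Nat.mod_lt _ (Nat.two_pow_pos w)

theorem vecN_lt (j : ℕ) : vecN j < 16 ^ 24 := by
  have h : vecN j < 2 ^ 96 := look_lt 96 _ _
  have e : (16 : ℕ) ^ 24 = 2 ^ 96 := by norm_num
  rw [e]
  exact h

theorem unpack_length (X : ℕ) : (unpack X).length = 24 := by
  unfold unpack
  simp

theorem xl_length (j : ℕ) : (xl j).length = 24 := unpack_length _

theorem pack_xl (j : ℕ) : pack (xl j) = vecN j := pack_unpack _ (vecN_lt j)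

/-! ### opposite lists -/

theorem negL_negL (l : List ℤ) : negL (negL l) = l := by
  unfold negL
  rw [List.map_map]
  have : ((fun v : ℤ => -v) ∘ fun v : ℤ => -v) = id := by
    funext v
    simp
  rw [this, List.map_id]

theorem negL_length (l : List ℤ) : (negL l).length = l.length := by
  unfold negL
  simp

theorem toV_negL (l : List ℤ) : toV (negL l) = -toV l := by
  funext p
  unfold toV negL
  rw [Pi.neg_apply]
  have h := List.getD_map (f := fun v : ℤ => -v) (l := l) (n := (ptInv p).val) (d := (0 : ℤ))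
  simpa using h

theorem fpos_negL : ∀ l : List ℤ, fpos l = true → fpos (negL l) = false := by
  intro l
  induction l with
  | nil => intro h; simp [fpos] at h
  | cons v vs ih =>
    intro h
    unfold negL
    rw [List.map_cons]
    unfold fpos at h ⊢
    by_cases hv : v = 0
    · rw [if_pos hv] at h
      rw [if_pos (by omega)]
      exact ih h
    · rw [if_neg hv] at h
      rw [if_neg (by omega)]
      have h1 : 0 < v := of_decide_eq_true h
      exact decide_eq_false (by omega)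

/-- the number `16 + 16^2 + … + 16^k` -/
def cnegK : ℕ → ℕ
  | 0 => 0
  | k + 1 => 16 + 16 * cnegK k

theorem pack_negL : ∀ l : List ℤ, Bd l → pack (negL l) + pack l = cnegK l.length := by
  intro l
  induction l with
  | nil => intro _; rfl
  | cons v vs ih =>
    intro hb
    have hv := hb v List.mem_cons_self
    have hvs : Bd vs := fun x hx => hb x (List.mem_cons_of_mem _ hx)
    have h := ih hvs
    unfold pack negL at h ⊢
    simp only [List.map_cons, packD, List.length_cons, cnegK] at h ⊢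
    have e : enc (-v) + enc v = 16 := by
      unfold enc
      omega
    omega

theorem cnegK_24 : cnegK 24 = cneg := by decide

/-! ### the fast action of a signed permutation -/

theorem actM_eq (p f : List ℕ) (X : ℕ) : actM p f X = (Gen.mono p (sgnOf f)).actN X := by
  show packD (List.zipWith (fun a b => if b = 0 then dig X a else 16 - dig X a) p f) =
    packD (List.zipWith (fun a b => adj b (dig X a)) p (sgnOf f))
  unfold sgnOf
  rw [List.zipWith_map_right]
  have e : (fun (a b : ℕ) => if b = 0 then dig X a else 16 - dig X a) =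
      fun (a b : ℕ) => adj (if b = 0 then 1 else -1) (dig X a) := by
    funext a b
    unfold adj
    by_cases hb : b = 0
    · simp [hb]
    · simp [hb]
  rw [e]

theorem getD_bd (x : List ℤ) (hx : Bd x) (a : ℕ) : -7 ≤ x.getD a 0 ∧ x.getD a 0 ≤ 7 := by
  by_cases ha : a < x.length
  · rw [List.getD_eq_getElem _ _ ha]
    exact hx _ (List.getElem_mem ha)
  · rw [List.getD_eq_default _ _ (Nat.le_of_not_lt ha)]
    omega

theorem monoAct_bd (x : List ℤ) (hx : Bd x) : ∀ (p : List ℕ) (s : List ℤ),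
    (∀ b ∈ s, b = 1 ∨ b = -1) → Bd (monoAct p s x) := by
  intro p
  induction p with
  | nil => intro s _ v hv; simp [monoAct] at hv
  | cons a as ih =>
    intro s hs
    cases s with
    | nil => intro v hv; simp [monoAct] at hv
    | cons b bs =>
      intro v hv
      unfold monoAct at hv
      rw [List.zipWith_cons_cons, List.mem_cons] at hv
      rcases hv with rfl | hv
      · have h1 := getD_bd x hx a
        rcases hs b List.mem_cons_self with rfl | rfl
        · omega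
        · omega
      · exact ih bs (fun b' hb' => hs b' (List.mem_cons_of_mem _ hb')) v hv

theorem bd_negL (l : List ℤ) (h : Bd l) : Bd (negL l) := by
  intro v hv
  unfold negL at hv
  rw [List.mem_map] at hv
  obtain ⟨u, hu, rfl⟩ := hv
  have := h u hu
  omega

theorem bd_of_norm (l : List ℤ) (h : dotL l l = 32) : Bd l := by
  intro v hv
  have h1 := sq_le_dotL_self l v hv
  rw [h] at h1
  constructor <;> nlinarith

/-- the generator acts on the `j`-th pair as the table says (on lists) -/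
def ActL (g : Gen) (tC : List ℕ) (j : ℕ) : Prop :=
  g.act (xl j) = xl (lk tC j) ∨ g.act (xl j) = negL (xl (lk tC j))

theorem actL_of_actM (p f tC : List ℕ) (hw : (Gen.mono p (sgnOf f)).Wf)
    (hgood : (Gen.mono p (sgnOf f)).Good) (j : ℕ) (hbd : Bd (xl j)) (h : ActM p f tC j) :
    ActL (Gen.mono p (sgnOf f)) tC j := by
  obtain ⟨g', hg'⟩ := Gen.elt (Gen.mono p (sgnOf f)) hgood
  have hlen : ((Gen.mono p (sgnOf f)).act (xl j)).length = 24 := (hg' (xl j) (xl_length j)).1
  have hlbd : Bd ((Gen.mono p (sgnOf f)).act (xl j)) := monoAct_bd (xl j) hbd p (sgnOf f) hw.2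
  have hN : actM p f (vecN j) = pack ((Gen.mono p (sgnOf f)).act (xl j)) := by
    rw [actM_eq, ← Gen.actN_pack _ hw (xl j) (xl_length j) hbd, pack_xl]
  rcases h with h | h
  · left
    have h1 := unpack_pack _ hlen hlbd
    rw [← hN, h] at h1
    exact h1.symm
  · right
    have h2 := pack_negL _ hlbd
    rw [hlen, cnegK_24] at h2
    have h3 : pack (negL ((Gen.mono p (sgnOf f)).act (xl j))) = vecN (lk tC j) := by
      rw [hN] at h
      omega
    have h4 := unpack_pack _ (by rw [negL_length]; exact hlen) (bd_negL _ hlbd)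
    rw [h3] at h4
    have h5 : xl (lk tC j) = negL ((Gen.mono p (sgnOf f)).act (xl j)) := h4
    rw [h5, negL_negL]

/-! ### the generator that is not a signed permutation -/

theorem unpack_eq (X : ℕ) : unpack X = [((dig X 0 : ℕ) : ℤ) - 8, ((dig X 1 : ℕ) : ℤ) - 8, ((dig X 2 : ℕ) : ℤ) - 8, ((dig X 3 : ℕ) : ℤ) - 8, ((dig X 4 : ℕ) : ℤ) - 8, ((dig X 5 : ℕ) : ℤ) - 8, ((dig X 6 : ℕ) : ℤ) - 8, ((dig X 7 : ℕ) : ℤ) - 8, ((dig X 8 : ℕ) : ℤ) - 8, ((dig X 9 : ℕ) : ℤ) - 8, ((dig X 10 : ℕ) : ℤ) - 8, ((dig X 11 : ℕ) : ℤ) - 8, ((dig X 12 : ℕ) : ℤ) - 8, ((dig X 13 : ℕ) : ℤ) - 8, ((dig X 14 : ℕ) : ℤ) - 8, ((dig X 15 : ℕ) : ℤ) - 8, ((dig X 16 : ℕ) : ℤ) - 8, ((dig X 17 : ℕ) : ℤ) - 8, ((dig X 18 : ℕ) : ℤ) - 8, ((dig X 19 : ℕ) : ℤ) - 8, ((dig X 20 : ℕ) : ℤ) - 8, ((dig X 21 : ℕ) : ℤ) - 8, ((dig X 22 : ℕ) : ℤ) - 8, ((dig X 23 : ℕ) : ℤ) - 8] := rfl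

set_option maxHeartbeats 4000000 in
set_option maxRecDepth 100000 in
theorem xiL_eq (x0 x1 x2 x3 x4 x5 x6 x7 x8 x9 x10 x11 x12 x13 x14 x15 x16 x17 x18 x19 x20 x21 x22 x23 : ℤ) :
    actL C3.m0 [x0, x1, x2, x3, x4, x5, x6, x7, x8, x9, x10, x11, x12, x13, x14, x15, x16, x17, x18, x19, x20, x21, x22, x23] = xiL [x0, x1, x2, x3, x4, x5, x6, x7, x8, x9, x10, x11, x12, x13, x14, x15, x16, x17, x18, x19, x20, x21, x22, x23] := by
  simp only [actL, mulVecL, C3.m0, xiL, dotL, List.map_cons, List.map_nil]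
  ring_nf

theorem gm0_act (j : ℕ) : gm0.act (xl j) = xiL (xl j) := by
  show actL C3.m0 (unpack (vecN j)) = xiL (unpack (vecN j))
  rw [unpack_eq]
  exact xiL_eq _ _ _ _ _ _ _ _ _ _ _ _ _ _ _ _ _ _ _ _ _ _ _ _

theorem actL_of_actX (j : ℕ) (h : ActX tm0C j) : ActL gm0 tm0C j := by
  unfold ActL
  rw [gm0_act]
  exact h

/-! ### all lists code vectors of the lattice -/

/-- the nine generators -/
def gens9 : List Gen := [gn_g0, gn_g1, gn_g2, gm0, gn_m1, gn_k1, gn_k2, gn_k3, gn_k4]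

theorem gens9_good : ∀ i : ℕ, i < 9 → (gens9.getD i gm0).Good := by
  intro i hi
  interval_cases i
  exacts [gn_g0_good, gn_g1_good, gn_g2_good, gm0_good, gn_m1_good, gn_k1_good, gn_k2_good,
    gn_k3_good, gn_k4_good]

theorem vecOK_parts {j : ℕ} (h : VecOK j) :
    (ActM mp_g0 mf_g0 tg0C j ∧ ActM mp_g1 mf_g1 tg1C j ∧ ActM mp_g2 mf_g2 tg2C j ∧
      ActM mp_m1 mf_m1 tm1C j ∧ ActM mp_k1 mf_k1 tk1C j ∧ ActM mp_k2 mf_k2 tk2C j ∧
      ActM mp_k3 mf_k3 tk3C j ∧ ActM mp_k4 mf_k4 tk4C j) ∧ ActX tm0C j ∧ TreeAt j := by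
  unfold VecOK at h
  obtain ⟨_, _, a0, a1, a2, a4, a5, a6, a7, a8, a3, _, _, _, _, _, _, _, _, _, ht⟩ := h
  exact ⟨⟨a0, a1, a2, a4, a5, a6, a7, a8⟩, a3, ht⟩

theorem vecOK_pairs {j : ℕ} (h : VecOK j) :
    PairAt tg0C tg0iC j ∧ PairAt tg1C tg1iC j ∧ PairAt tg2C tg2iC j ∧ PairAt tm0C tm0iC j ∧
      PairAt tm1C tm1iC j ∧ PairAt tk1C tk1iC j ∧ PairAt tk2C tk2iC j ∧ PairAt tk3C tk3iC j ∧
      PairAt tk4C tk4iC j := by
  unfold VecOK at h
  obtain ⟨_, _, _, _, _, _, _, _, _, _, _, p0, p1, p2, p3, p4, p5, p6, p7, p8, _⟩ := h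
  exact ⟨p0, p1, p2, p3, p4, p5, p6, p7, p8⟩

theorem vecOK_sorted {j : ℕ} (h : VecOK j) : (j + 1 < NP → vecN j < vecN (j + 1)) ∧
    fpos (xl j) = true := by
  unfold VecOK at h
  exact ⟨h.1, h.2.1⟩

theorem actL_0 (j : ℕ) (hj : VecOK j) (hbd : Bd (xl j)) : ActL gn_g0 tg0C j :=
  actL_of_actM mp_g0 mf_g0 tg0C gn_g0_wf gn_g0_good j hbd (vecOK_parts hj).1.1
theorem actL_1 (j : ℕ) (hj : VecOK j) (hbd : Bd (xl j)) : ActL gn_g1 tg1C j :=
  actL_of_actM mp_g1 mf_g1 tg1C gn_g1_wf gn_g1_good j hbd (vecOK_parts hj).1.2.1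
theorem actL_2 (j : ℕ) (hj : VecOK j) (hbd : Bd (xl j)) : ActL gn_g2 tg2C j :=
  actL_of_actM mp_g2 mf_g2 tg2C gn_g2_wf gn_g2_good j hbd (vecOK_parts hj).1.2.2.1
theorem actL_3 (j : ℕ) (hj : VecOK j) : ActL gm0 tm0C j :=
  actL_of_actX j (vecOK_parts hj).2.1
theorem actL_4 (j : ℕ) (hj : VecOK j) (hbd : Bd (xl j)) : ActL gn_m1 tm1C j :=
  actL_of_actM mp_m1 mf_m1 tm1C gn_m1_wf gn_m1_good j hbd (vecOK_parts hj).1.2.2.2.1
theorem actL_5 (j : ℕ) (hj : VecOK j) (hbd : Bd (xl j)) : ActL gn_k1 tk1C j :=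
  actL_of_actM mp_k1 mf_k1 tk1C gn_k1_wf gn_k1_good j hbd (vecOK_parts hj).1.2.2.2.2.1
theorem actL_6 (j : ℕ) (hj : VecOK j) (hbd : Bd (xl j)) : ActL gn_k2 tk2C j :=
  actL_of_actM mp_k2 mf_k2 tk2C gn_k2_wf gn_k2_good j hbd (vecOK_parts hj).1.2.2.2.2.2.1
theorem actL_7 (j : ℕ) (hj : VecOK j) (hbd : Bd (xl j)) : ActL gn_k3 tk3C j :=
  actL_of_actM mp_k3 mf_k3 tk3C gn_k3_wf gn_k3_good j hbd (vecOK_parts hj).1.2.2.2.2.2.2.1
theorem actL_8 (j : ℕ) (hj : VecOK j) (hbd : Bd (xl j)) : ActL gn_k4 tk4C j :=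
  actL_of_actM mp_k4 mf_k4 tk4C gn_k4_wf gn_k4_good j hbd (vecOK_parts hj).1.2.2.2.2.2.2.2

theorem actL_all (j : ℕ) (hj : VecOK j) (hbd : Bd (xl j)) :
    ∀ i : ℕ, i < 9 → ActL (gens9.getD i gm0) (fwdTabs.getD i []) j := by
  intro i hi
  interval_cases i
  · exact actL_0 j hj hbd
  · exact actL_1 j hj hbd
  · exact actL_2 j hj hbd
  · exact actL_3 j hj
  · exact actL_4 j hj hbd
  · exact actL_5 j hj hbd
  · exact actL_6 j hj hbd
  · exact actL_7 j hj hbd
  · exact actL_8 j hj hbd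

/-- the list codes a vector of the lattice of sum of squares 32 -/
def PV (j : ℕ) : Prop := toV (xl j) ∈ leechLattice ∧ dotL (xl j) (xl j) = 32

theorem pv_step (g : Gen) (hgood : g.Good) (tC : List ℕ) (i j : ℕ) (hi : PV i)
    (hact : ActL g tC i) (hk : lk tC i = j) : PV j := by
  obtain ⟨g', hg'⟩ := Gen.elt g hgood
  obtain ⟨_, hsp⟩ := hg' (xl i) (xl_length i)
  have h1 := hsp ⟨toV (xl i), hi.1⟩ rfl
  have hmem : ((g' • (⟨toV (xl i), hi.1⟩ : leechLattice) : leechLattice) : GolayPt → ℤ) ∈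
      leechLattice := (g' • (⟨toV (xl i), hi.1⟩ : leechLattice)).2
  have hnorm := co0_sqNorm' g' ⟨toV (xl i), hi.1⟩
  rw [h1] at hmem hnorm
  have hn32 : sqNorm (toV (xl i)) = 32 := by rw [sqNorm_toV _ (xl_length i)]; exact hi.2
  have hnorm' : sqNorm (toV (g.act (xl i))) = 32 := by rw [hnorm]; exact hn32
  unfold ActL at hact
  rw [hk] at hact
  rcases hact with h | h
  · rw [h] at hmem hnorm'
    exact ⟨hmem, by rw [← sqNorm_toV _ (xl_length j)]; exact hnorm'⟩
  · rw [h, toV_negL] at hmem hnorm'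
    refine ⟨?_, ?_⟩
    · have := leechLattice.neg_mem hmem
      rwa [neg_neg] at this
    · rw [sqNorm_neg'] at hnorm'
      rw [← sqNorm_toV _ (xl_length j)]
      exact hnorm'

set_option maxRecDepth 100000 in
theorem pv_root : PV 0 := by
  have h : InLP (xl 0) ∧ dotL (xl 0) (xl 0) = 32 := by decide +kernel
  exact ⟨inLP_sound h.1, h.2⟩

theorem pv_all (hall : Seg 0 NP) : ∀ (D j : ℕ), j < NP → treeDep j = D → PV j := by
  intro D
  induction D with
  | zero =>
    intro j hj hd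
    have ht : TreeAt j := (vecOK_parts (hall j (Nat.zero_le _) hj)).2.2
    unfold TreeAt at ht
    by_cases h0 : j = 0
    · rw [h0]; exact pv_root
    · rw [if_neg h0] at ht
      omega
  | succ D ih =>
    intro j hj hd
    have ht : TreeAt j := (vecOK_parts (hall j (Nat.zero_le _) hj)).2.2
    unfold TreeAt at ht
    by_cases h0 : j = 0
    · rw [if_pos h0] at ht
      omega
    · rw [if_neg h0] at ht
      obtain ⟨hp, hg, hlk, hdep⟩ := ht
      have hpv : PV (treePar j) := ih (treePar j) hp (by omega)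
      have hbd : Bd (xl (treePar j)) := bd_of_norm _ hpv.2
      have hact := actL_all (treePar j) (hall _ (Nat.zero_le _) hp) hbd (treeGen j) hg
      exact pv_step _ (gens9_good _ hg) _ _ j hpv hact hlk

theorem pv (hall : Seg 0 NP) (j : ℕ) (hj : j < NP) : PV j := pv_all hall _ j hj rfl

theorem actL_fin (hall : Seg 0 NP) (j : ℕ) (hj : j < NP) (i : ℕ) (hi : i < 9) :
    ActL (gens9.getD i gm0) (fwdTabs.getD i []) j :=
  actL_all j (hall j (Nat.zero_le _) hj) (bd_of_norm _ (pv hall j hj).2) i hi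

end Cfsg.Agent.Lib.Helper28.Co1A
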