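import Cfsg.Prelude.Def_Spor_Conway
import Cfsg.Prelude.Def_KGroupFacts
import Cfsg.Agent.Lib.Helper28.Co1Sound
import Cfsg.Agent.Lib.Helper28.Co1CertAll

/-!
# The first Conway group of the list and a group on 98280 points

The automorphism group of the rank-24 lattice acts on the 98280 pairs `±v` of vectors of sum of
squares 32; the kernel is the centre, because the quotient by the centre is simple.  Nine explicit
automorphisms induce nine explicit permutations given by tables.
-/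

set_option autoImplicit false
set_option maxRecDepth 100000

namespace Cfsg.Agent.Lib.Helper28.Co1B

open Cfsg Cfsg.Spor MulAction
open Cfsg.Agent.Helper4.CO Cfsg.Agent.Helper4.CO.Grp Cfsg.Agent.Helper4.LC
open Cfsg.Agent.Lib.Helper28.BSGS Cfsg.Agent.Lib.Helper28.BigTab
open Cfsg.Agent.Lib.Helper28.Co1A Cfsg.Agent.Lib.Helper28.Co1Data

/-! ### the 98280 vectors -/

/-- the vectors -/
def xs (i : Fin NP) : leechLattice := ⟨toV (xl i.val), (Co1A.pv seg_all i.val i.isLt).1⟩

theorem xs_coe (i : Fin NP) : ((xs i : leechLattice) : GolayPt → ℤ) = toV (xl i.val) := rfl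

theorem xs_norm (i : Fin NP) : sqNorm ((xs i : leechLattice) : GolayPt → ℤ) = 32 := by
  rw [xs_coe, sqNorm_toV _ (xl_length _)]
  exact (Co1A.pv seg_all i.val i.isLt).2

theorem xs_mem (i : Fin NP) : xs i ∈ minSet := xs_norm i

theorem vecN_mono : ∀ (d i : ℕ), i + d + 1 < NP → vecN i < vecN (i + d + 1) := by
  intro d
  induction d with
  | zero =>
    intro i hi
    exact (vecOK_sorted (seg_all i (Nat.zero_le _) (by omega))).1 hi
  | succ d ih =>
    intro i hi
    have h1 := ih i (by omega)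
    have h2 := (vecOK_sorted (seg_all (i + d + 1) (Nat.zero_le _) (by omega))).1 hi
    exact lt_trans h1 h2

theorem vecN_inj {i j : ℕ} (hi : i < NP) (hj : j < NP) (h : vecN i = vecN j) : i = j := by
  rcases Nat.lt_trichotomy i j with hlt | heq | hgt
  · exfalso
    obtain ⟨d, rfl⟩ : ∃ d, j = i + d + 1 := ⟨j - i - 1, by omega⟩
    have := vecN_mono d i hj
    omega
  · exact heq
  · exfalso
    obtain ⟨d, rfl⟩ : ∃ d, i = j + d + 1 := ⟨i - j - 1, by omega⟩
    have := vecN_mono d j hi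
    omega

theorem xl_inj {i j : ℕ} (hi : i < NP) (hj : j < NP) (h : xl i = xl j) : i = j := by
  apply vecN_inj hi hj
  rw [← pack_xl i, ← pack_xl j, h]

theorem xs_inj : Function.Injective xs := by
  intro i j h
  apply Fin.ext
  apply xl_inj i.isLt j.isLt
  have h1 : ((xs i : leechLattice) : GolayPt → ℤ) = ((xs j : leechLattice) : GolayPt → ℤ) := by
    rw [h]
  rw [xs_coe, xs_coe] at h1
  exact toV_inj (xl_length _) (xl_length _) h1

theorem xs_ne_neg (i j : Fin NP) : xs i ≠ -xs j := by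
  intro h
  have h1 : ((xs i : leechLattice) : GolayPt → ℤ) = ((-xs j : leechLattice) : GolayPt → ℤ) := by
    rw [h]
  rw [AddSubgroup.coe_neg, xs_coe, xs_coe, ← toV_negL] at h1
  have h2 : xl i.val = negL (xl j.val) :=
    toV_inj (xl_length _) (by rw [negL_length]; exact xl_length _) h1
  have h3 := (vecOK_sorted (seg_all i.val (Nat.zero_le _) i.isLt)).2
  have h4 := fpos_negL _ (vecOK_sorted (seg_all j.val (Nat.zero_le _) j.isLt)).2
  rw [h2, h4] at h3
  exact absurd h3 (by simp)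

/-- the opposite vectors -/
def xn (i : Fin NP) : leechLattice := -xs i

theorem xn_inj : Function.Injective xn := by
  intro i j h
  exact xs_inj (neg_injective h)

theorem minSet_finite : (minSet : Set leechLattice).Finite :=
  Set.finite_of_ncard_ne_zero (by rw [ncard_minSet]; norm_num)

theorem neg_mem_minSet {x : leechLattice} (hx : x ∈ minSet) : -x ∈ minSet := by
  show sqNorm ((-x : leechLattice) : GolayPt → ℤ) = 32
  rw [AddSubgroup.coe_neg, sqNorm_neg']
  exact hx

theorem cover_eq : Set.range xs ∪ Set.range xn = minSet := by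
  apply Set.eq_of_subset_of_ncard_le _ _ minSet_finite
  · intro x hx
    rcases hx with ⟨i, rfl⟩ | ⟨i, rfl⟩
    · exact xs_mem i
    · exact neg_mem_minSet (xs_mem i)
  · have hdisj : Disjoint (Set.range xs) (Set.range xn) := by
      rw [Set.disjoint_left]
      rintro x ⟨i, rfl⟩ ⟨j, hj⟩
      exact xs_ne_neg i j hj.symm
    rw [Set.ncard_union_eq hdisj (Set.finite_range xs) (Set.finite_range xn), ncard_minSet,
      ← Set.image_univ, ← Set.image_univ, Set.ncard_image_of_injective _ xs_inj,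
      Set.ncard_image_of_injective _ xn_inj, Set.ncard_univ, Nat.card_fin]
    show 196560 ≤ 98280 + 98280
    norm_num

theorem cover (x : leechLattice) (hx : x ∈ minSet) : ∃ i, x = xs i ∨ x = -xs i := by
  rw [← cover_eq] at hx
  rcases hx with ⟨i, rfl⟩ | ⟨i, rfl⟩
  · exact ⟨i, Or.inl rfl⟩
  · exact ⟨i, Or.inr rfl⟩

/-! ### the action on the pairs -/

theorem smul_mem_minSet (g : ↥Co0) {x : leechLattice} (hx : x ∈ minSet) : g • x ∈ minSet := by
  show sqNorm ((g • x : leechLattice) : GolayPt → ℤ) = 32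
  rw [co0_sqNorm']
  exact hx

theorem exists_idx (g : ↥Co0) (i : Fin NP) : ∃ j, g • xs i = xs j ∨ g • xs i = -xs j :=
  cover _ (smul_mem_minSet g (xs_mem i))

/-- the index of the image of the `i`-th pair -/
noncomputable def idx (g : ↥Co0) (i : Fin NP) : Fin NP := (exists_idx g i).choose

theorem idx_spec (g : ↥Co0) (i : Fin NP) : g • xs i = xs (idx g i) ∨ g • xs i = -xs (idx g i) :=
  (exists_idx g i).choose_spec

theorem pm_unique {x : leechLattice} {j k : Fin NP} (hj : x = xs j ∨ x = -xs j)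
    (hk : x = xs k ∨ x = -xs k) : j = k := by
  rcases hj with hj | hj <;> rcases hk with hk | hk
  · exact xs_inj (hj.symm.trans hk)
  · exact absurd (hj.symm.trans hk) (xs_ne_neg j k)
  · exact absurd (hk.symm.trans hj) (xs_ne_neg k j)
  · exact xs_inj (neg_injective (hj.symm.trans hk))

theorem idx_eq {g : ↥Co0} {i j : Fin NP} (h : g • xs i = xs j ∨ g • xs i = -xs j) :
    idx g i = j := pm_unique (idx_spec g i) h

theorem idx_one (i : Fin NP) : idx 1 i = i := idx_eq (Or.inl (one_smul _ _))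

theorem idx_mul (g h : ↥Co0) (i : Fin NP) : idx (g * h) i = idx g (idx h i) := by
  apply idx_eq
  rw [mul_smul]
  rcases idx_spec h i with h1 | h1 <;> rcases idx_spec g (idx h i) with h2 | h2
  · left; rw [h1, h2]
  · right; rw [h1, h2]
  · right; rw [h1, co0_smul_neg, h2]
  · left; rw [h1, co0_smul_neg, h2, neg_neg]

/-- the action on the indices -/
noncomputable def fP : ↥Co0 →* Equiv.Perm (Fin NP) where
  toFun g :=
    { toFun := idx g
      invFun := idx g⁻¹
      left_inv := fun i => by rw [← idx_mul, inv_mul_cancel, idx_one]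
      right_inv := fun i => by rw [← idx_mul, mul_inv_cancel, idx_one] }
  map_one' := Equiv.ext fun i => idx_one i
  map_mul' g h := Equiv.ext fun i => idx_mul g h i

theorem fP_apply (g : ↥Co0) (i : Fin NP) : fP g i = idx g i := rfl

/-! ### the nine tables -/

set_option maxRecDepth 100000 in
theorem bd_tg0 : ∀ ch ∈ tg0C, ch < 2 ^ (17 * 4096) := by decide +kernel

theorem look_tg0 (j : ℕ) : look 17 tg0 j = lk tg0C j :=
  look_assemble 17 4096 (by norm_num) tg0C bd_tg0 j

set_option maxRecDepth 100000 in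
theorem bd_tg0i : ∀ ch ∈ tg0iC, ch < 2 ^ (17 * 4096) := by decide +kernel

theorem look_tg0i (j : ℕ) : look 17 tg0i j = lk tg0iC j :=
  look_assemble 17 4096 (by norm_num) tg0iC bd_tg0i j

set_option maxRecDepth 100000 in
theorem bd_tg1 : ∀ ch ∈ tg1C, ch < 2 ^ (17 * 4096) := by decide +kernel

theorem look_tg1 (j : ℕ) : look 17 tg1 j = lk tg1C j :=
  look_assemble 17 4096 (by norm_num) tg1C bd_tg1 j

set_option maxRecDepth 100000 in
theorem bd_tg1i : ∀ ch ∈ tg1iC, ch < 2 ^ (17 * 4096) := by decide +kernel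

theorem look_tg1i (j : ℕ) : look 17 tg1i j = lk tg1iC j :=
  look_assemble 17 4096 (by norm_num) tg1iC bd_tg1i j

set_option maxRecDepth 100000 in
theorem bd_tg2 : ∀ ch ∈ tg2C, ch < 2 ^ (17 * 4096) := by decide +kernel

theorem look_tg2 (j : ℕ) : look 17 tg2 j = lk tg2C j :=
  look_assemble 17 4096 (by norm_num) tg2C bd_tg2 j

set_option maxRecDepth 100000 in
theorem bd_tg2i : ∀ ch ∈ tg2iC, ch < 2 ^ (17 * 4096) := by decide +kernel

theorem look_tg2i (j : ℕ) : look 17 tg2i j = lk tg2iC j :=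
  look_assemble 17 4096 (by norm_num) tg2iC bd_tg2i j

set_option maxRecDepth 100000 in
theorem bd_tm0 : ∀ ch ∈ tm0C, ch < 2 ^ (17 * 4096) := by decide +kernel

theorem look_tm0 (j : ℕ) : look 17 tm0 j = lk tm0C j :=
  look_assemble 17 4096 (by norm_num) tm0C bd_tm0 j

set_option maxRecDepth 100000 in
theorem bd_tm0i : ∀ ch ∈ tm0iC, ch < 2 ^ (17 * 4096) := by decide +kernel

theorem look_tm0i (j : ℕ) : look 17 tm0i j = lk tm0iC j :=
  look_assemble 17 4096 (by norm_num) tm0iC bd_tm0i j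

set_option maxRecDepth 100000 in
theorem bd_tm1 : ∀ ch ∈ tm1C, ch < 2 ^ (17 * 4096) := by decide +kernel

theorem look_tm1 (j : ℕ) : look 17 tm1 j = lk tm1C j :=
  look_assemble 17 4096 (by norm_num) tm1C bd_tm1 j

set_option maxRecDepth 100000 in
theorem bd_tm1i : ∀ ch ∈ tm1iC, ch < 2 ^ (17 * 4096) := by decide +kernel

theorem look_tm1i (j : ℕ) : look 17 tm1i j = lk tm1iC j :=
  look_assemble 17 4096 (by norm_num) tm1iC bd_tm1i j

set_option maxRecDepth 100000 in
theorem bd_tk1 : ∀ ch ∈ tk1C, ch < 2 ^ (17 * 4096) := by decide +kernel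

theorem look_tk1 (j : ℕ) : look 17 tk1 j = lk tk1C j :=
  look_assemble 17 4096 (by norm_num) tk1C bd_tk1 j

set_option maxRecDepth 100000 in
theorem bd_tk1i : ∀ ch ∈ tk1iC, ch < 2 ^ (17 * 4096) := by decide +kernel

theorem look_tk1i (j : ℕ) : look 17 tk1i j = lk tk1iC j :=
  look_assemble 17 4096 (by norm_num) tk1iC bd_tk1i j

set_option maxRecDepth 100000 in
theorem bd_tk2 : ∀ ch ∈ tk2C, ch < 2 ^ (17 * 4096) := by decide +kernel

theorem look_tk2 (j : ℕ) : look 17 tk2 j = lk tk2C j :=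
  look_assemble 17 4096 (by norm_num) tk2C bd_tk2 j

set_option maxRecDepth 100000 in
theorem bd_tk2i : ∀ ch ∈ tk2iC, ch < 2 ^ (17 * 4096) := by decide +kernel

theorem look_tk2i (j : ℕ) : look 17 tk2i j = lk tk2iC j :=
  look_assemble 17 4096 (by norm_num) tk2iC bd_tk2i j

set_option maxRecDepth 100000 in
theorem bd_tk3 : ∀ ch ∈ tk3C, ch < 2 ^ (17 * 4096) := by decide +kernel

theorem look_tk3 (j : ℕ) : look 17 tk3 j = lk tk3C j :=
  look_assemble 17 4096 (by norm_num) tk3C bd_tk3 j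

set_option maxRecDepth 100000 in
theorem bd_tk3i : ∀ ch ∈ tk3iC, ch < 2 ^ (17 * 4096) := by decide +kernel

theorem look_tk3i (j : ℕ) : look 17 tk3i j = lk tk3iC j :=
  look_assemble 17 4096 (by norm_num) tk3iC bd_tk3i j

set_option maxRecDepth 100000 in
theorem bd_tk4 : ∀ ch ∈ tk4C, ch < 2 ^ (17 * 4096) := by decide +kernel

theorem look_tk4 (j : ℕ) : look 17 tk4 j = lk tk4C j :=
  look_assemble 17 4096 (by norm_num) tk4C bd_tk4 j

set_option maxRecDepth 100000 in
theorem bd_tk4i : ∀ ch ∈ tk4iC, ch < 2 ^ (17 * 4096) := by decide +kernel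

theorem look_tk4i (j : ℕ) : look 17 tk4i j = lk tk4iC j :=
  look_assemble 17 4096 (by norm_num) tk4iC bd_tk4i j


theorem pairOK_of (t t' : ℕ) (tC tC' : List ℕ) (h1 : ∀ j, look 17 t j = lk tC j)
    (h2 : ∀ j, look 17 t' j = lk tC' j) (h : ∀ j, j < NP → PairAt tC tC' j) :
    pairOK NP 17 t t' = true := by
  unfold pairOK
  rw [List.all_eq_true]
  intro a ha
  rw [List.mem_range] at ha
  obtain ⟨p1, p2, p3, p4⟩ := h a ha
  simp only [h1, h2, Bool.and_eq_true, decide_eq_true_eq, beq_iff_eq]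
  exact ⟨⟨⟨p1, p2⟩, p3⟩, p4⟩

theorem pair_g0 : pairOK NP 17 tg0 tg0i = true :=
  pairOK_of tg0 tg0i tg0C tg0iC look_tg0 look_tg0i
    (fun j hj => (vecOK_pairs (seg_all j (Nat.zero_le _) hj)).1)

theorem pair_g1 : pairOK NP 17 tg1 tg1i = true :=
  pairOK_of tg1 tg1i tg1C tg1iC look_tg1 look_tg1i
    (fun j hj => (vecOK_pairs (seg_all j (Nat.zero_le _) hj)).2.1)

theorem pair_g2 : pairOK NP 17 tg2 tg2i = true :=
  pairOK_of tg2 tg2i tg2C tg2iC look_tg2 look_tg2i
    (fun j hj => (vecOK_pairs (seg_all j (Nat.zero_le _) hj)).2.2.1)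

theorem pair_m0 : pairOK NP 17 tm0 tm0i = true :=
  pairOK_of tm0 tm0i tm0C tm0iC look_tm0 look_tm0i
    (fun j hj => (vecOK_pairs (seg_all j (Nat.zero_le _) hj)).2.2.2.1)

theorem pair_m1 : pairOK NP 17 tm1 tm1i = true :=
  pairOK_of tm1 tm1i tm1C tm1iC look_tm1 look_tm1i
    (fun j hj => (vecOK_pairs (seg_all j (Nat.zero_le _) hj)).2.2.2.2.1)

theorem pair_k1 : pairOK NP 17 tk1 tk1i = true :=
  pairOK_of tk1 tk1i tk1C tk1iC look_tk1 look_tk1i
    (fun j hj => (vecOK_pairs (seg_all j (Nat.zero_le _) hj)).2.2.2.2.2.1)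

theorem pair_k2 : pairOK NP 17 tk2 tk2i = true :=
  pairOK_of tk2 tk2i tk2C tk2iC look_tk2 look_tk2i
    (fun j hj => (vecOK_pairs (seg_all j (Nat.zero_le _) hj)).2.2.2.2.2.2.1)

theorem pair_k3 : pairOK NP 17 tk3 tk3i = true :=
  pairOK_of tk3 tk3i tk3C tk3iC look_tk3 look_tk3i
    (fun j hj => (vecOK_pairs (seg_all j (Nat.zero_le _) hj)).2.2.2.2.2.2.2.1)

theorem pair_k4 : pairOK NP 17 tk4 tk4i = true :=
  pairOK_of tk4 tk4i tk4C tk4iC look_tk4 look_tk4i
    (fun j hj => (vecOK_pairs (seg_all j (Nat.zero_le _) hj)).2.2.2.2.2.2.2.2)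


theorem gen_mem (g : Gen) (hgood : g.Good) (t t' : ℕ) (tC : List ℕ)
    (hlook : ∀ j, look 17 t j = lk tC j) (hact : ∀ j, j < NP → ActL g tC j)
    (hp : pairOK NP 17 t t' = true) : permOf NP 17 t t' ∈ fP.range := by
  obtain ⟨g', hg'⟩ := Gen.elt g hgood
  refine ⟨g', ?_⟩
  apply Equiv.ext
  intro i
  rw [fP_apply]
  apply idx_eq
  have hv : (permOf NP 17 t t' i).val = lk tC i.val := by rw [permOf_apply hp, hlook]
  have hsp := (hg' (xl i.val) (xl_length _)).2 (xs i) rfl
  have hx : ((xs (permOf NP 17 t t' i) : leechLattice) : GolayPt → ℤ) = toV (xl (lk tC i.val)) := by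
    rw [xs_coe, hv]
  rcases hact i.val i.isLt with h | h
  · left
    apply Subtype.ext
    rw [hsp, h, hx]
  · right
    apply Subtype.ext
    rw [hsp, h, toV_negL, AddSubgroup.coe_neg, hx]

theorem mem_g0 : permOf NP 17 tg0 tg0i ∈ fP.range :=
  gen_mem gn_g0 (gens9_good 0 (by norm_num)) tg0 tg0i tg0C look_tg0
    (fun j hj => actL_fin seg_all j hj 0 (by norm_num)) pair_g0

theorem mem_g1 : permOf NP 17 tg1 tg1i ∈ fP.range :=
  gen_mem gn_g1 (gens9_good 1 (by norm_num)) tg1 tg1i tg1C look_tg1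
    (fun j hj => actL_fin seg_all j hj 1 (by norm_num)) pair_g1

theorem mem_g2 : permOf NP 17 tg2 tg2i ∈ fP.range :=
  gen_mem gn_g2 (gens9_good 2 (by norm_num)) tg2 tg2i tg2C look_tg2
    (fun j hj => actL_fin seg_all j hj 2 (by norm_num)) pair_g2

theorem mem_m0 : permOf NP 17 tm0 tm0i ∈ fP.range :=
  gen_mem gm0 (gens9_good 3 (by norm_num)) tm0 tm0i tm0C look_tm0
    (fun j hj => actL_fin seg_all j hj 3 (by norm_num)) pair_m0

theorem mem_m1 : permOf NP 17 tm1 tm1i ∈ fP.range :=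
  gen_mem gn_m1 (gens9_good 4 (by norm_num)) tm1 tm1i tm1C look_tm1
    (fun j hj => actL_fin seg_all j hj 4 (by norm_num)) pair_m1

theorem mem_k1 : permOf NP 17 tk1 tk1i ∈ fP.range :=
  gen_mem gn_k1 (gens9_good 5 (by norm_num)) tk1 tk1i tk1C look_tk1
    (fun j hj => actL_fin seg_all j hj 5 (by norm_num)) pair_k1

theorem mem_k2 : permOf NP 17 tk2 tk2i ∈ fP.range :=
  gen_mem gn_k2 (gens9_good 6 (by norm_num)) tk2 tk2i tk2C look_tk2
    (fun j hj => actL_fin seg_all j hj 6 (by norm_num)) pair_k2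

theorem mem_k3 : permOf NP 17 tk3 tk3i ∈ fP.range :=
  gen_mem gn_k3 (gens9_good 7 (by norm_num)) tk3 tk3i tk3C look_tk3
    (fun j hj => actL_fin seg_all j hj 7 (by norm_num)) pair_k3

theorem mem_k4 : permOf NP 17 tk4 tk4i ∈ fP.range :=
  gen_mem gn_k4 (gens9_good 8 (by norm_num)) tk4 tk4i tk4C look_tk4
    (fun j hj => actL_fin seg_all j hj 8 (by norm_num)) pair_k4


/-! ### the kernel of the action -/

theorem center_le_ker : Subgroup.center ↥Co0 ≤ fP.ker := by
  intro z hz
  rw [MonoidHom.mem_ker]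
  apply Equiv.ext
  intro i
  rw [fP_apply, Equiv.Perm.one_apply]
  rcases center_cases z hz with h | h
  · exact idx_eq (Or.inl (h _))
  · exact idx_eq (Or.inr (h _))

/-- the action of the quotient by the centre -/
noncomputable def fQ : (↥Co0 ⧸ Subgroup.center ↥Co0) →* Equiv.Perm (Fin NP) :=
  QuotientGroup.lift (Subgroup.center ↥Co0) fP center_le_ker

theorem fQ_mk (g : ↥Co0) : fQ (QuotientGroup.mk g) = fP g := rfl

/-- the group on 98280 points -/
noncomputable def K0 : Subgroup (Equiv.Perm (Fin NP)) := fQ.range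

theorem range_le : fP.range ≤ K0 := by
  rintro _ ⟨g, rfl⟩
  exact ⟨QuotientGroup.mk g, fQ_mk g⟩

set_option maxRecDepth 100000 in
theorem g0_moves : lk tg0C 1 ≠ 1 := by decide +kernel

theorem perm_g0_ne : permOf NP 17 tg0 tg0i ≠ 1 := by
  intro h
  have h1 := permOf_apply pair_g0 (⟨1, by norm_num⟩ : Fin NP)
  rw [h, Equiv.Perm.one_apply, look_tg0] at h1
  exact g0_moves h1.symm

theorem fQ_inj : Function.Injective fQ := by
  rw [← MonoidHom.ker_eq_bot_iff]
  have hsimple := co1_simpCard.1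
  rcases (MonoidHom.normal_ker fQ).eq_bot_or_eq_top with h | h
  · exact h
  · exfalso
    obtain ⟨g, hg⟩ := mem_g0
    have hk : (QuotientGroup.mk g : ↥Co0 ⧸ Subgroup.center ↥Co0) ∈ fQ.ker := by
      rw [h]; exact Subgroup.mem_top _
    rw [MonoidHom.mem_ker, fQ_mk, hg] at hk
    exact perm_g0_ne hk

/-- the first Conway group of the list is the group on 98280 points -/
noncomputable def co1Equiv : Cfsg.Spor.Co1 ≃* ↥K0 := MonoidHom.ofInjective fQ_inj

theorem card_K0 : Nat.card ↥K0 = 4157776806543360000 := by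
  rw [← Nat.card_congr co1Equiv.toEquiv]
  exact co1_simpCard.2

/-- the nine table pairs -/
noncomputable def GENS9 : List (ℕ × ℕ) := [(tg0, tg0i), (tg1, tg1i), (tg2, tg2i), (tm0, tm0i), (tm1, tm1i), (tk1, tk1i), (tk2, tk2i), (tk3, tk3i), (tk4, tk4i)]

theorem gens9_ok : gensOK NP 17 GENS9 = true := by
  unfold gensOK GENS9
  simp only [List.all_cons, List.all_nil, Bool.and_true, Bool.and_eq_true]
  exact ⟨pair_g0, pair_g1, pair_g2, pair_m0, pair_m1, pair_k1, pair_k2, pair_k3, pair_k4⟩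

theorem gens9_le : genGroup NP 17 GENS9 ≤ K0 := by
  unfold genGroup
  rw [Subgroup.closure_le]
  intro s hs
  have hs' : s ∈ semGens NP 17 GENS9 := hs
  unfold semGens GENS9 at hs'
  simp only [List.map_cons, List.map_nil, List.mem_cons, List.not_mem_nil, or_false] at hs'
  apply range_le
  rcases hs' with h | h | h | h | h | h | h | h | h
  · rw [h]; exact mem_g0
  · rw [h]; exact mem_g1
  · rw [h]; exact mem_g2
  · rw [h]; exact mem_m0
  · rw [h]; exact mem_m1
  · rw [h]; exact mem_k1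
  · rw [h]; exact mem_k2
  · rw [h]; exact mem_k3
  · rw [h]; exact mem_k4

end Cfsg.Agent.Lib.Helper28.Co1B
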