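import Cfsg.Agent.Lib.Helper28.Co1Seg

/-! Certificates for the first Conway group on 98280 points: the vectors 0 to 3779 (generated). -/

set_option autoImplicit false
set_option Elab.async false
set_option maxRecDepth 1000000

namespace Cfsg.Agent.Lib.Helper28.Co1A

theorem blk_0 : ∀ i : Fin 105, VecOK (0 + i.val) := by
  decide +kernel

theorem blk_1 : ∀ i : Fin 105, VecOK (105 + i.val) := by
  decide +kernel

theorem blk_2 : ∀ i : Fin 105, VecOK (210 + i.val) := by
  decide +kernel

theorem blk_3 : ∀ i : Fin 105, VecOK (315 + i.val) := by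
  decide +kernel

theorem blk_4 : ∀ i : Fin 105, VecOK (420 + i.val) := by
  decide +kernel

theorem blk_5 : ∀ i : Fin 105, VecOK (525 + i.val) := by
  decide +kernel

theorem blk_6 : ∀ i : Fin 105, VecOK (630 + i.val) := by
  decide +kernel

theorem blk_7 : ∀ i : Fin 105, VecOK (735 + i.val) := by
  decide +kernel

theorem blk_8 : ∀ i : Fin 105, VecOK (840 + i.val) := by
  decide +kernel

theorem blk_9 : ∀ i : Fin 105, VecOK (945 + i.val) := by
  decide +kernel

theorem blk_10 : ∀ i : Fin 105, VecOK (1050 + i.val) := by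
  decide +kernel

theorem blk_11 : ∀ i : Fin 105, VecOK (1155 + i.val) := by
  decide +kernel

theorem blk_12 : ∀ i : Fin 105, VecOK (1260 + i.val) := by
  decide +kernel

theorem blk_13 : ∀ i : Fin 105, VecOK (1365 + i.val) := by
  decide +kernel

theorem blk_14 : ∀ i : Fin 105, VecOK (1470 + i.val) := by
  decide +kernel

theorem blk_15 : ∀ i : Fin 105, VecOK (1575 + i.val) := by
  decide +kernel

theorem blk_16 : ∀ i : Fin 105, VecOK (1680 + i.val) := by
  decide +kernel

theorem blk_17 : ∀ i : Fin 105, VecOK (1785 + i.val) := by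
  decide +kernel

theorem blk_18 : ∀ i : Fin 105, VecOK (1890 + i.val) := by
  decide +kernel

theorem blk_19 : ∀ i : Fin 105, VecOK (1995 + i.val) := by
  decide +kernel

theorem blk_20 : ∀ i : Fin 105, VecOK (2100 + i.val) := by
  decide +kernel

theorem blk_21 : ∀ i : Fin 105, VecOK (2205 + i.val) := by
  decide +kernel

theorem blk_22 : ∀ i : Fin 105, VecOK (2310 + i.val) := by
  decide +kernel

theorem blk_23 : ∀ i : Fin 105, VecOK (2415 + i.val) := by
  decide +kernel

theorem blk_24 : ∀ i : Fin 105, VecOK (2520 + i.val) := by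
  decide +kernel

theorem blk_25 : ∀ i : Fin 105, VecOK (2625 + i.val) := by
  decide +kernel

theorem blk_26 : ∀ i : Fin 105, VecOK (2730 + i.val) := by
  decide +kernel

theorem blk_27 : ∀ i : Fin 105, VecOK (2835 + i.val) := by
  decide +kernel

theorem blk_28 : ∀ i : Fin 105, VecOK (2940 + i.val) := by
  decide +kernel

theorem blk_29 : ∀ i : Fin 105, VecOK (3045 + i.val) := by
  decide +kernel

theorem blk_30 : ∀ i : Fin 105, VecOK (3150 + i.val) := by
  decide +kernel

theorem blk_31 : ∀ i : Fin 105, VecOK (3255 + i.val) := by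
  decide +kernel

theorem blk_32 : ∀ i : Fin 105, VecOK (3360 + i.val) := by
  decide +kernel

theorem blk_33 : ∀ i : Fin 105, VecOK (3465 + i.val) := by
  decide +kernel

theorem blk_34 : ∀ i : Fin 105, VecOK (3570 + i.val) := by
  decide +kernel

theorem blk_35 : ∀ i : Fin 105, VecOK (3675 + i.val) := by
  decide +kernel

theorem seg_0 : Seg 0 3780 :=
  seg_step (seg_step (seg_step (seg_step (seg_step (seg_step (seg_step (seg_step (seg_step (seg_step (seg_step (seg_step (seg_step (seg_step (seg_step (seg_step (seg_step (seg_step (seg_step (seg_step (seg_step (seg_step (seg_step (seg_step (seg_step (seg_step (seg_step (seg_step (seg_step (seg_step (seg_step (seg_step (seg_step (seg_step (seg_step (seg_step (seg_nil 0) blk_0) blk_1) blk_2) blk_3) blk_4) blk_5) blk_6) blk_7) blk_8) blk_9) blk_10) blk_11) blk_12) blk_13) blk_14) blk_15) blk_16) blk_17) blk_18) blk_19) blk_20) blk_21) blk_22) blk_23) blk_24) blk_25) blk_26) blk_27) blk_28) blk_29) blk_30) blk_31) blk_32) blk_33) blk_34) blk_35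

end Cfsg.Agent.Lib.Helper28.Co1A
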