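import Cfsg.Agent.Lib.Helper28.Co1Seg

/-! Certificates for the first Conway group on 98280 points: the vectors 41580 to 45359 (generated). -/

set_option autoImplicit false
set_option Elab.async false
set_option maxRecDepth 1000000

namespace Cfsg.Agent.Lib.Helper28.Co1A

theorem blk_396 : ∀ i : Fin 105, VecOK (41580 + i.val) := by
  decide +kernel

theorem blk_397 : ∀ i : Fin 105, VecOK (41685 + i.val) := by
  decide +kernel

theorem blk_398 : ∀ i : Fin 105, VecOK (41790 + i.val) := by
  decide +kernel

theorem blk_399 : ∀ i : Fin 105, VecOK (41895 + i.val) := by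
  decide +kernel

theorem blk_400 : ∀ i : Fin 105, VecOK (42000 + i.val) := by
  decide +kernel

theorem blk_401 : ∀ i : Fin 105, VecOK (42105 + i.val) := by
  decide +kernel

theorem blk_402 : ∀ i : Fin 105, VecOK (42210 + i.val) := by
  decide +kernel

theorem blk_403 : ∀ i : Fin 105, VecOK (42315 + i.val) := by
  decide +kernel

theorem blk_404 : ∀ i : Fin 105, VecOK (42420 + i.val) := by
  decide +kernel

theorem blk_405 : ∀ i : Fin 105, VecOK (42525 + i.val) := by
  decide +kernel

theorem blk_406 : ∀ i : Fin 105, VecOK (42630 + i.val) := by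
  decide +kernel

theorem blk_407 : ∀ i : Fin 105, VecOK (42735 + i.val) := by
  decide +kernel

theorem blk_408 : ∀ i : Fin 105, VecOK (42840 + i.val) := by
  decide +kernel

theorem blk_409 : ∀ i : Fin 105, VecOK (42945 + i.val) := by
  decide +kernel

theorem blk_410 : ∀ i : Fin 105, VecOK (43050 + i.val) := by
  decide +kernel

theorem blk_411 : ∀ i : Fin 105, VecOK (43155 + i.val) := by
  decide +kernel

theorem blk_412 : ∀ i : Fin 105, VecOK (43260 + i.val) := by
  decide +kernel

theorem blk_413 : ∀ i : Fin 105, VecOK (43365 + i.val) := by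
  decide +kernel

theorem blk_414 : ∀ i : Fin 105, VecOK (43470 + i.val) := by
  decide +kernel

theorem blk_415 : ∀ i : Fin 105, VecOK (43575 + i.val) := by
  decide +kernel

theorem blk_416 : ∀ i : Fin 105, VecOK (43680 + i.val) := by
  decide +kernel

theorem blk_417 : ∀ i : Fin 105, VecOK (43785 + i.val) := by
  decide +kernel

theorem blk_418 : ∀ i : Fin 105, VecOK (43890 + i.val) := by
  decide +kernel

theorem blk_419 : ∀ i : Fin 105, VecOK (43995 + i.val) := by
  decide +kernel

theorem blk_420 : ∀ i : Fin 105, VecOK (44100 + i.val) := by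
  decide +kernel

theorem blk_421 : ∀ i : Fin 105, VecOK (44205 + i.val) := by
  decide +kernel

theorem blk_422 : ∀ i : Fin 105, VecOK (44310 + i.val) := by
  decide +kernel

theorem blk_423 : ∀ i : Fin 105, VecOK (44415 + i.val) := by
  decide +kernel

theorem blk_424 : ∀ i : Fin 105, VecOK (44520 + i.val) := by
  decide +kernel

theorem blk_425 : ∀ i : Fin 105, VecOK (44625 + i.val) := by
  decide +kernel

theorem blk_426 : ∀ i : Fin 105, VecOK (44730 + i.val) := by
  decide +kernel

theorem blk_427 : ∀ i : Fin 105, VecOK (44835 + i.val) := by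
  decide +kernel

theorem blk_428 : ∀ i : Fin 105, VecOK (44940 + i.val) := by
  decide +kernel

theorem blk_429 : ∀ i : Fin 105, VecOK (45045 + i.val) := by
  decide +kernel

theorem blk_430 : ∀ i : Fin 105, VecOK (45150 + i.val) := by
  decide +kernel

theorem blk_431 : ∀ i : Fin 105, VecOK (45255 + i.val) := by
  decide +kernel

theorem seg_11 : Seg 41580 45360 :=
  seg_step (seg_step (seg_step (seg_step (seg_step (seg_step (seg_step (seg_step (seg_step (seg_step (seg_step (seg_step (seg_step (seg_step (seg_step (seg_step (seg_step (seg_step (seg_step (seg_step (seg_step (seg_step (seg_step (seg_step (seg_step (seg_step (seg_step (seg_step (seg_step (seg_step (seg_step (seg_step (seg_step (seg_step (seg_step (seg_step (seg_nil 41580) blk_396) blk_397) blk_398) blk_399) blk_400) blk_401) blk_402) blk_403) blk_404) blk_405) blk_406) blk_407) blk_408) blk_409) blk_410) blk_411) blk_412) blk_413) blk_414) blk_415) blk_416) blk_417) blk_418) blk_419) blk_420) blk_421) blk_422) blk_423) blk_424) blk_425) blk_426) blk_427) blk_428) blk_429) blk_430) blk_431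

end Cfsg.Agent.Lib.Helper28.Co1A
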