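import Cfsg.Agent.Lib.Helper28.Co1Seg

/-! Certificates for the first Conway group on 98280 points: the vectors 86940 to 90719 (generated). -/

set_option autoImplicit false
set_option Elab.async false
set_option maxRecDepth 1000000

namespace Cfsg.Agent.Lib.Helper28.Co1A

theorem blk_828 : ∀ i : Fin 105, VecOK (86940 + i.val) := by
  decide +kernel

theorem blk_829 : ∀ i : Fin 105, VecOK (87045 + i.val) := by
  decide +kernel

theorem blk_830 : ∀ i : Fin 105, VecOK (87150 + i.val) := by
  decide +kernel

theorem blk_831 : ∀ i : Fin 105, VecOK (87255 + i.val) := by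
  decide +kernel

theorem blk_832 : ∀ i : Fin 105, VecOK (87360 + i.val) := by
  decide +kernel

theorem blk_833 : ∀ i : Fin 105, VecOK (87465 + i.val) := by
  decide +kernel

theorem blk_834 : ∀ i : Fin 105, VecOK (87570 + i.val) := by
  decide +kernel

theorem blk_835 : ∀ i : Fin 105, VecOK (87675 + i.val) := by
  decide +kernel

theorem blk_836 : ∀ i : Fin 105, VecOK (87780 + i.val) := by
  decide +kernel

theorem blk_837 : ∀ i : Fin 105, VecOK (87885 + i.val) := by
  decide +kernel

theorem blk_838 : ∀ i : Fin 105, VecOK (87990 + i.val) := by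
  decide +kernel

theorem blk_839 : ∀ i : Fin 105, VecOK (88095 + i.val) := by
  decide +kernel

theorem blk_840 : ∀ i : Fin 105, VecOK (88200 + i.val) := by
  decide +kernel

theorem blk_841 : ∀ i : Fin 105, VecOK (88305 + i.val) := by
  decide +kernel

theorem blk_842 : ∀ i : Fin 105, VecOK (88410 + i.val) := by
  decide +kernel

theorem blk_843 : ∀ i : Fin 105, VecOK (88515 + i.val) := by
  decide +kernel

theorem blk_844 : ∀ i : Fin 105, VecOK (88620 + i.val) := by
  decide +kernel

theorem blk_845 : ∀ i : Fin 105, VecOK (88725 + i.val) := by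
  decide +kernel

theorem blk_846 : ∀ i : Fin 105, VecOK (88830 + i.val) := by
  decide +kernel

theorem blk_847 : ∀ i : Fin 105, VecOK (88935 + i.val) := by
  decide +kernel

theorem blk_848 : ∀ i : Fin 105, VecOK (89040 + i.val) := by
  decide +kernel

theorem blk_849 : ∀ i : Fin 105, VecOK (89145 + i.val) := by
  decide +kernel

theorem blk_850 : ∀ i : Fin 105, VecOK (89250 + i.val) := by
  decide +kernel

theorem blk_851 : ∀ i : Fin 105, VecOK (89355 + i.val) := by
  decide +kernel

theorem blk_852 : ∀ i : Fin 105, VecOK (89460 + i.val) := by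
  decide +kernel

theorem blk_853 : ∀ i : Fin 105, VecOK (89565 + i.val) := by
  decide +kernel

theorem blk_854 : ∀ i : Fin 105, VecOK (89670 + i.val) := by
  decide +kernel

theorem blk_855 : ∀ i : Fin 105, VecOK (89775 + i.val) := by
  decide +kernel

theorem blk_856 : ∀ i : Fin 105, VecOK (89880 + i.val) := by
  decide +kernel

theorem blk_857 : ∀ i : Fin 105, VecOK (89985 + i.val) := by
  decide +kernel

theorem blk_858 : ∀ i : Fin 105, VecOK (90090 + i.val) := by
  decide +kernel

theorem blk_859 : ∀ i : Fin 105, VecOK (90195 + i.val) := by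
  decide +kernel

theorem blk_860 : ∀ i : Fin 105, VecOK (90300 + i.val) := by
  decide +kernel

theorem blk_861 : ∀ i : Fin 105, VecOK (90405 + i.val) := by
  decide +kernel

theorem blk_862 : ∀ i : Fin 105, VecOK (90510 + i.val) := by
  decide +kernel

theorem blk_863 : ∀ i : Fin 105, VecOK (90615 + i.val) := by
  decide +kernel

theorem seg_23 : Seg 86940 90720 :=
  seg_step (seg_step (seg_step (seg_step (seg_step (seg_step (seg_step (seg_step (seg_step (seg_step (seg_step (seg_step (seg_step (seg_step (seg_step (seg_step (seg_step (seg_step (seg_step (seg_step (seg_step (seg_step (seg_step (seg_step (seg_step (seg_step (seg_step (seg_step (seg_step (seg_step (seg_step (seg_step (seg_step (seg_step (seg_step (seg_step (seg_nil 86940) blk_828) blk_829) blk_830) blk_831) blk_832) blk_833) blk_834) blk_835) blk_836) blk_837) blk_838) blk_839) blk_840) blk_841) blk_842) blk_843) blk_844) blk_845) blk_846) blk_847) blk_848) blk_849) blk_850) blk_851) blk_852) blk_853) blk_854) blk_855) blk_856) blk_857) blk_858) blk_859) blk_860) blk_861) blk_862) blk_863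

end Cfsg.Agent.Lib.Helper28.Co1A
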