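import Cfsg.Agent.Lib.Helper28.BigTab
import Cfsg.Agent.Lib.Helper4.Orb.C3.Cfg
import Cfsg.Agent.Lib.Helper28.Co1DataV0
import Cfsg.Agent.Lib.Helper28.Co1DataV1
import Cfsg.Agent.Lib.Helper28.Co1DataV2
import Cfsg.Agent.Lib.Helper28.Co1DataV3
import Cfsg.Agent.Lib.Helper28.Co1DataTree
import Cfsg.Agent.Lib.Helper28.Co1DataT_tg0
import Cfsg.Agent.Lib.Helper28.Co1DataT_tg0i
import Cfsg.Agent.Lib.Helper28.Co1DataT_tg1
import Cfsg.Agent.Lib.Helper28.Co1DataT_tg1i
import Cfsg.Agent.Lib.Helper28.Co1DataT_tg2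
import Cfsg.Agent.Lib.Helper28.Co1DataT_tg2i
import Cfsg.Agent.Lib.Helper28.Co1DataT_tm0
import Cfsg.Agent.Lib.Helper28.Co1DataT_tm0i
import Cfsg.Agent.Lib.Helper28.Co1DataT_tm1
import Cfsg.Agent.Lib.Helper28.Co1DataT_tm1i
import Cfsg.Agent.Lib.Helper28.Co1DataT_tk1
import Cfsg.Agent.Lib.Helper28.Co1DataT_tk1i
import Cfsg.Agent.Lib.Helper28.Co1DataT_tk2
import Cfsg.Agent.Lib.Helper28.Co1DataT_tk2i
import Cfsg.Agent.Lib.Helper28.Co1DataT_tk3
import Cfsg.Agent.Lib.Helper28.Co1DataT_tk3i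
import Cfsg.Agent.Lib.Helper28.Co1DataT_tk4
import Cfsg.Agent.Lib.Helper28.Co1DataT_tk4i

/-!
# The first Conway group on 98280 points: definitions for the certificates

The 98280 pairs `±v` of vectors of sum of squares 32 of the rank-24 lattice are numbered; the
`j`-th pair is represented by the vector `xl j` whose first nonzero entry is positive.  Nine explicit
automorphisms of the lattice (eight signed permutations of the coordinates and one other) permute
the pairs as nine explicit tables say.  The conditions on the `j`-th vector are collected in the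
decidable proposition `VecOK j`, checked block by block; a spanning tree of the points under the
nine tables shows that all the lists code vectors of the lattice.
-/

set_option autoImplicit false

namespace Cfsg.Agent.Lib.Helper28.Co1A

open Cfsg.Agent.Lib.Helper28.BSGS Cfsg.Agent.Lib.Helper28.BigTab Cfsg.Agent.Lib.Helper28.Co1Data
open Cfsg.Agent.Helper4.CO Cfsg.Agent.Helper4.LC

/-- the number of points -/
abbrev NP : ℕ := 98280

/-- the chunks of packed vectors, 1024 vectors of 96 bits each -/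
def XV : List ℕ := [vc0, vc1, vc2, vc3, vc4, vc5, vc6, vc7, vc8, vc9, vc10, vc11, vc12, vc13, vc14, vc15, vc16, vc17, vc18, vc19, vc20, vc21, vc22, vc23, vc24, vc25, vc26, vc27, vc28, vc29, vc30, vc31, vc32, vc33, vc34, vc35, vc36, vc37, vc38, vc39, vc40, vc41, vc42, vc43, vc44, vc45, vc46, vc47, vc48, vc49, vc50, vc51, vc52, vc53, vc54, vc55, vc56, vc57, vc58, vc59, vc60, vc61, vc62, vc63, vc64, vc65, vc66, vc67, vc68, vc69, vc70, vc71, vc72, vc73, vc74, vc75, vc76, vc77, vc78, vc79, vc80, vc81, vc82, vc83, vc84, vc85, vc86, vc87, vc88, vc89, vc90, vc91, vc92, vc93, vc94, vc95]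

/-- the `j`-th packed vector -/
def vecN (j : ℕ) : ℕ := lookC 96 1024 XV j

/-- the `j`-th vector -/
def xl (j : ℕ) : List ℤ := unpack (vecN j)

/-- the opposite list -/
def negL (l : List ℤ) : List ℤ := l.map fun v => -v

/-- the first nonzero entry is positive -/
def fpos : List ℤ → Bool
  | [] => false
  | v :: l => if v = 0 then fpos l else decide (0 < v)

/-- the signs coded by a list of numbers: `0` for `+` -/
def sgnOf (f : List ℕ) : List ℤ := f.map fun b => if b = 0 then 1 else -1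

/-- the fast action of a signed permutation on packed vectors -/
def actM (p f : List ℕ) (X : ℕ) : ℕ :=
  packD (List.zipWith (fun a b => if b = 0 then dig X a else 16 - dig X a) p f)

/-- the packed vector `X` and the packed vector `cneg - X` are opposite -/
def cneg : ℕ := 0x1111111111111111111111110

/-- the action of the matrix `m0` on a list of 24 integers, written out -/
def xiL : List ℤ → List ℤ
  | [x0, x1, x2, x3, x4, x5, x6, x7, x8, x9, x10, x11, x12, x13, x14, x15, x16, x17, x18, x19, x20, x21, x22, x23] =>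
    [(-x0 + x1 + x2 + x3) / 2,
     (x0 - x1 + x2 + x3) / 2,
     (x0 + x1 - x2 + x3) / 2,
     (x0 + x1 + x2 - x3) / 2,
     (x4 - x7 - x10 - x12) / 2,
     (x5 - x14 - x17 - x23) / 2,
     (x6 - x9 - x11 - x22) / 2,
     (-x4 + x7 - x10 - x12) / 2,
     (x8 - x15 - x16 - x19) / 2,
     (-x6 + x9 - x11 - x22) / 2,
     (-x4 - x7 + x10 - x12) / 2,
     (-x6 - x9 + x11 - x22) / 2,
     (-x4 - x7 - x10 + x12) / 2,
     (x13 - x18 - x20 - x21) / 2,
     (-x5 + x14 - x17 - x23) / 2,
     (-x8 + x15 - x16 - x19) / 2,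
     (-x8 - x15 + x16 - x19) / 2,
     (-x5 - x14 + x17 - x23) / 2,
     (-x13 + x18 - x20 - x21) / 2,
     (-x8 - x15 - x16 + x19) / 2,
     (-x13 - x18 + x20 - x21) / 2,
     (-x13 - x18 - x20 + x21) / 2,
     (-x6 - x9 - x11 + x22) / 2,
     (-x5 - x14 - x17 + x23) / 2]
  | _ => []

/-- the generator that is not a signed permutation -/
def gm0 : Gen := Gen.word [C3.m0]

theorem gm0_good : gm0.Good := by
  intro A hA
  simp only [List.mem_cons, List.not_mem_nil, or_false] at hA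
  rw [hA]
  exact C3.m0_good

/-- the coordinate map of the signed permutation `g0` -/
def mp_g0 : List ℕ := [0, 14, 11, 10, 5, 12, 20, 21, 6, 4, 17, 15, 16, 19, 3, 8, 18, 9, 1, 22, 13, 2, 7, 23]
/-- the signs of the signed permutation `g0`: `0` for `+` -/
def mf_g0 : List ℕ := [0, 0, 0, 0, 0, 0, 0, 0, 0, 0, 0, 0, 0, 0, 0, 0, 0, 0, 0, 0, 0, 0, 0, 0]
/-- the signed permutation `g0` -/
def gn_g0 : Gen := Gen.mono mp_g0 (sgnOf mf_g0)

set_option maxRecDepth 1000000 in
theorem gn_g0_good : gn_g0.Good := by decide +kernel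

theorem gn_g0_wf : gn_g0.Wf := by decide

/-- the coordinate map of the signed permutation `g1` -/
def mp_g1 : List ℕ := [0, 9, 14, 1, 13, 22, 12, 4, 5, 16, 3, 2, 15, 20, 19, 6, 10, 23, 11, 7, 17, 18, 21, 8]
/-- the signs of the signed permutation `g1`: `0` for `+` -/
def mf_g1 : List ℕ := [0, 0, 0, 0, 0, 0, 0, 0, 0, 0, 0, 0, 0, 0, 0, 0, 0, 0, 0, 0, 0, 0, 0, 0]
/-- the signed permutation `g1` -/
def gn_g1 : Gen := Gen.mono mp_g1 (sgnOf mf_g1)

set_option maxRecDepth 1000000 in
theorem gn_g1_good : gn_g1.Good := by decide +kernel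

theorem gn_g1_wf : gn_g1.Wf := by decide

/-- the coordinate map of the signed permutation `g2` -/
def mp_g2 : List ℕ := [0, 11, 14, 7, 10, 22, 23, 4, 3, 18, 15, 5, 20, 2, 9, 21, 1, 16, 6, 8, 12, 17, 19, 13]
/-- the signs of the signed permutation `g2`: `0` for `+` -/
def mf_g2 : List ℕ := [0, 0, 0, 0, 0, 0, 0, 0, 0, 0, 0, 0, 0, 0, 0, 0, 0, 0, 0, 0, 0, 0, 0, 0]
/-- the signed permutation `g2` -/
def gn_g2 : Gen := Gen.mono mp_g2 (sgnOf mf_g2)

set_option maxRecDepth 1000000 in
theorem gn_g2_good : gn_g2.Good := by decide +kernel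

theorem gn_g2_wf : gn_g2.Wf := by decide

/-- the coordinate map of the signed permutation `m1` -/
def mp_m1 : List ℕ := [21, 1, 2, 3, 23, 8, 5, 16, 20, 15, 11, 7, 10, 22, 12, 0, 18, 6, 14, 13, 4, 19, 9, 17]
/-- the signs of the signed permutation `m1`: `0` for `+` -/
def mf_m1 : List ℕ := [0, 0, 0, 0, 0, 0, 0, 0, 0, 0, 0, 0, 0, 0, 0, 0, 0, 0, 0, 0, 0, 0, 0, 0]
/-- the signed permutation `m1` -/
def gn_m1 : Gen := Gen.mono mp_m1 (sgnOf mf_m1)

set_option maxRecDepth 1000000 in
theorem gn_m1_good : gn_m1.Good := by decide +kernel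

theorem gn_m1_wf : gn_m1.Wf := by decide

/-- the coordinate map of the signed permutation `k1` -/
def mp_k1 : List ℕ := [18, 14, 17, 1, 15, 22, 2, 21, 23, 13, 16, 4, 3, 20, 10, 6, 7, 5, 9, 8, 11, 0, 12, 19]
/-- the signs of the signed permutation `k1`: `0` for `+` -/
def mf_k1 : List ℕ := [0, 0, 0, 1, 0, 0, 1, 1, 1, 0, 0, 0, 0, 0, 0, 1, 1, 0, 0, 0, 0, 1, 0, 1]
/-- the signed permutation `k1` -/
def gn_k1 : Gen := Gen.mono mp_k1 (sgnOf mf_k1)

set_option maxRecDepth 1000000 in
theorem gn_k1_good : gn_k1.Good := by decide +kernel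

theorem gn_k1_wf : gn_k1.Wf := by decide

/-- the coordinate map of the signed permutation `k2` -/
def mp_k2 : List ℕ := [18, 8, 21, 5, 19, 10, 2, 3, 17, 9, 1, 12, 23, 20, 14, 6, 16, 7, 4, 22, 0, 11, 13, 15]
/-- the signs of the signed permutation `k2`: `0` for `+` -/
def mf_k2 : List ℕ := [1, 0, 0, 0, 0, 1, 0, 0, 1, 0, 0, 1, 1, 1, 0, 0, 1, 1, 1, 1, 0, 1, 0, 1]
/-- the signed permutation `k2` -/
def gn_k2 : Gen := Gen.mono mp_k2 (sgnOf mf_k2)

set_option maxRecDepth 1000000 in
theorem gn_k2_good : gn_k2.Good := by decide +kernel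

theorem gn_k2_wf : gn_k2.Wf := by decide

/-- the coordinate map of the signed permutation `k3` -/
def mp_k3 : List ℕ := [8, 0, 11, 23, 20, 13, 2, 9, 10, 1, 7, 18, 6, 16, 17, 21, 19, 4, 22, 15, 3, 5, 12, 14]
/-- the signs of the signed permutation `k3`: `0` for `+` -/
def mf_k3 : List ℕ := [1, 0, 1, 1, 0, 0, 1, 0, 0, 1, 0, 0, 1, 0, 1, 0, 0, 1, 0, 1, 0, 1, 1, 1]
/-- the signed permutation `k3` -/
def gn_k3 : Gen := Gen.mono mp_k3 (sgnOf mf_k3)

set_option maxRecDepth 1000000 in
theorem gn_k3_good : gn_k3.Good := by decide +kernel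

theorem gn_k3_wf : gn_k3.Wf := by decide

/-- the coordinate map of the signed permutation `k4` -/
def mp_k4 : List ℕ := [0, 5, 15, 7, 19, 3, 13, 2, 11, 9, 10, 20, 17, 8, 16, 21, 22, 14, 23, 6, 4, 1, 18, 12]
/-- the signs of the signed permutation `k4`: `0` for `+` -/
def mf_k4 : List ℕ := [0, 1, 1, 0, 0, 0, 0, 0, 0, 1, 0, 1, 0, 1, 0, 1, 1, 0, 1, 0, 0, 0, 0, 0]
/-- the signed permutation `k4` -/
def gn_k4 : Gen := Gen.mono mp_k4 (sgnOf mf_k4)

set_option maxRecDepth 1000000 in
theorem gn_k4_good : gn_k4.Good := by decide +kernel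

theorem gn_k4_wf : gn_k4.Wf := by decide


/-- lookup in a chunked table of points -/
def lk (tC : List ℕ) (j : ℕ) : ℕ := lookC 17 4096 tC j

/-- the signed permutation acts on the `j`-th pair as the table says (on packed vectors) -/
def ActM (p f tC : List ℕ) (j : ℕ) : Prop :=
  actM p f (vecN j) = vecN (lk tC j) ∨ actM p f (vecN j) + vecN (lk tC j) = cneg

instance (p f tC : List ℕ) (j : ℕ) : Decidable (ActM p f tC j) := by
  unfold ActM; infer_instance

/-- the matrix `m0` acts on the `j`-th pair as the table says (on lists) -/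
def ActX (tC : List ℕ) (j : ℕ) : Prop :=
  xiL (xl j) = xl (lk tC j) ∨ xiL (xl j) = negL (xl (lk tC j))

instance (tC : List ℕ) (j : ℕ) : Decidable (ActX tC j) := by
  unfold ActX; infer_instance

/-- the two tables are inverse to each other at the point `j` -/
def PairAt (tC tC' : List ℕ) (j : ℕ) : Prop :=
  lk tC j < NP ∧ lk tC' (lk tC j) = j ∧ lk tC' j < NP ∧ lk tC (lk tC' j) = j

instance (tC tC' : List ℕ) (j : ℕ) : Decidable (PairAt tC tC' j) := by
  unfold PairAt; infer_instance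

/-- the chunk lists of the nine tables, in the order of the generators -/
def fwdTabs : List (List ℕ) := [tg0C, tg1C, tg2C, tm0C, tm1C, tk1C, tk2C, tk3C, tk4C]

/-- the entry of the tree table -/
def treeE (j : ℕ) : ℕ := lookC 26 1024 treeC j

/-- the parent in the tree -/
def treePar (j : ℕ) : ℕ := treeE j % 2 ^ 17

/-- the generator leading from the parent to the point -/
def treeGen (j : ℕ) : ℕ := treeE j / 2 ^ 17 % 16

/-- the depth in the tree -/
def treeDep (j : ℕ) : ℕ := treeE j / 2 ^ 21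

/-- the tree conditions at the point `j`: the root is `0` -/
def TreeAt (j : ℕ) : Prop :=
  if j = 0 then treeDep j = 0
  else treePar j < NP ∧ treeGen j < 9 ∧ lk (fwdTabs.getD (treeGen j) []) (treePar j) = j ∧
    treeDep j = treeDep (treePar j) + 1

instance (j : ℕ) : Decidable (TreeAt j) := by unfold TreeAt; infer_instance

/-- all conditions on the `j`-th vector -/
def VecOK (j : ℕ) : Prop :=
  (j + 1 < NP → vecN j < vecN (j + 1)) ∧ fpos (xl j) = true ∧
  ActM mp_g0 mf_g0 tg0C j ∧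
  ActM mp_g1 mf_g1 tg1C j ∧
  ActM mp_g2 mf_g2 tg2C j ∧
  ActM mp_m1 mf_m1 tm1C j ∧
  ActM mp_k1 mf_k1 tk1C j ∧
  ActM mp_k2 mf_k2 tk2C j ∧
  ActM mp_k3 mf_k3 tk3C j ∧
  ActM mp_k4 mf_k4 tk4C j ∧
  ActX tm0C j ∧
  PairAt tg0C tg0iC j ∧
  PairAt tg1C tg1iC j ∧
  PairAt tg2C tg2iC j ∧
  PairAt tm0C tm0iC j ∧
  PairAt tm1C tm1iC j ∧
  PairAt tk1C tk1iC j ∧
  PairAt tk2C tk2iC j ∧
  PairAt tk3C tk3iC j ∧
  PairAt tk4C tk4iC j ∧
  TreeAt j

instance (j : ℕ) : Decidable (VecOK j) := by unfold VecOK; infer_instance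

/-- the conditions hold below `N` -/
def AllBelow (N : ℕ) : Prop := ∀ j, j < N → VecOK j

theorem allBelow_zero : AllBelow 0 := fun _ h => absurd h (Nat.not_lt_zero _)

theorem allBelow_step {N m : ℕ} (h : AllBelow N) (hb : ∀ i : Fin m, VecOK (N + i.val)) :
    AllBelow (N + m) := by
  intro j hj
  by_cases hjN : j < N
  · exact h j hjN
  · have h1 : j - N < m := by omega
    have h2 := hb ⟨j - N, h1⟩
    have h3 : N + (j - N) = j := by omega
    simp only [h3] at h2
    exact h2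

end Cfsg.Agent.Lib.Helper28.Co1A
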