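import Cfsg.Agent.Lib.Helper28.Co1Bridge
import Cfsg.Agent.Lib.Helper27.Co1O.Gens9

/-! # S2069: the nine table pairs of the lattice side are the nine table pairs of the permutation side

The permutation side (`Cfsg.Agent.Lib.Helper27.Co1O`) carries its own numerals for the nine generators;
here they are compared, by kernel evaluation, with the tables of `Cfsg.Agent.Lib.Helper28.Co1Data`. -/

set_option autoImplicit false

namespace Cfsg.Agent.Lib.Helper28.Co1L

open Cfsg.Agent.Lib.Helper28.Co1Data Cfsg.Agent.Lib.Helper27.Co1O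

theorem e_g0 : tg0 = tg0f := by decide +kernel
theorem e_g0i : tg0i = tg0b := by decide +kernel
theorem e_g1 : tg1 = tg1f := by decide +kernel
theorem e_g1i : tg1i = tg1b := by decide +kernel
theorem e_g2 : tg2 = tg2f := by decide +kernel
theorem e_g2i : tg2i = tg2b := by decide +kernel
theorem e_m0 : tm0 = tm0f := by decide +kernel
theorem e_m0i : tm0i = tm0b := by decide +kernel
theorem e_m1 : tm1 = tm1f := by decide +kernel
theorem e_m1i : tm1i = tm1b := by decide +kernel
theorem e_k1 : tk1 = tk1f := by decide +kernel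
theorem e_k1i : tk1i = tk1b := by decide +kernel
theorem e_k2 : tk2 = tk2f := by decide +kernel
theorem e_k2i : tk2i = tk2b := by decide +kernel
theorem e_k3 : tk3 = tk3f := by decide +kernel
theorem e_k3i : tk3i = tk3b := by decide +kernel
theorem e_k4 : tk4 = tk4f := by decide +kernel
theorem e_k4i : tk4i = tk4b := by decide +kernel

/-- the generator list of the lattice side is the generator list of the permutation side -/
theorem gens_eq : Cfsg.Agent.Lib.Helper28.Co1B.GENS9 = Cfsg.Agent.Lib.Helper27.Co1O.gens9 := by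
  unfold Cfsg.Agent.Lib.Helper28.Co1B.GENS9 Cfsg.Agent.Lib.Helper27.Co1O.gens9
    pg0 pg1 pg2 pm0 pm1 pk1 pk2 pk3 pk4
  rw [e_g0, e_g0i, e_g1, e_g1i, e_g2, e_g2i, e_m0, e_m0i, e_m1, e_m1i, e_k1, e_k1i, e_k2, e_k2i,
    e_k3, e_k3i, e_k4, e_k4i]

/-- isomorphic groups have outer automorphism groups of the same order -/
theorem out_card_congr {G : Type*} {H : Type*} [Group G] [Group H] (e : G ≃* H) :
    Nat.card (Cfsg.Out G) = Nat.card (Cfsg.Out H) := by
  show Nat.card (MulAut G ⧸ Cfsg.Inn G) = Nat.card (MulAut H ⧸ Cfsg.Inn H)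
  rw [← Subgroup.index_eq_card, ← Subgroup.index_eq_card,
    ← Subgroup.index_map_equiv (Cfsg.Inn G) (MulAut.congr e)]
  congr 1
  ext φ
  constructor
  · rintro ⟨ψ, ⟨g, rfl⟩, rfl⟩
    refine ⟨e g, ?_⟩
    ext x
    simp [MulAut.congr]
  · rintro ⟨h, rfl⟩
    refine ⟨MulAut.conj (e.symm h), ⟨e.symm h, rfl⟩, ?_⟩
    ext x
    simp [MulAut.congr]

end Cfsg.Agent.Lib.Helper28.Co1L
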