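import Cfsg.Agent.Lib.Helper28.Co1MP3Of
import Cfsg.Agent.Lib.Helper28.Co1MP3Low
import Cfsg.Agent.Lib.Helper16.Co1MP3TC

/-!
# S2043, block [P3]: a stem extension of `Co₁` with a `3`-group as kernel is trivial

Assembly of the pieces: the relators of `L = 3⁶ : 2 M₁₂` hold in `Co₁` (`Co1MP3RelA/B`), the two coset
enumerations (helper16, `Co1MP3TC`), the lower bound for `|L|` (`Co1MP3Low`) and the glue `part_3_of`.
-/

set_option autoImplicit false

namespace Cfsg.Agent.Lib.Helper22.Co1M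

open Cfsg.Agent.Lib.Helper27.Co1O

/-- BLOCK [P3]: a stem extension of `Co₁` with a `3`-group as kernel is trivial -/
theorem part_3 {Γ : Type} [Group Γ] [Finite Γ] (σ : Γ →* ↥K) (hσ : IsStemExtension σ)
    (hk : IsPGroup 3 σ.ker) : Nat.card σ.ker ≤ 1 :=
  Helper28.part_3_of Helper16.tc1_bound Helper16.tc2_bound Helper28.card_L_ge σ hσ hk

end Cfsg.Agent.Lib.Helper22.Co1M
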