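import Cfsg.Agent.Lib.Helper28.Co1MP3RelA

/-!
# S2043, block [P3]: the relators hold in `Co₁` (helper28), part B

Every relator, expanded to a word in the nine generators, fixes the five base points.
-/

set_option autoImplicit false
set_option maxRecDepth 100000
set_option Elab.async false

namespace Cfsg.Agent.Lib.Helper22.Co1M.Helper28

open Cfsg.Agent.Lib.Helper27.Co1O

theorem chunk_14 : chunkOK 14 = true := by decide +kernel

theorem chunk_15 : chunkOK 15 = true := by decide +kernel

theorem chunk_16 : chunkOK 16 = true := by decide +kernel

theorem chunk_17 : chunkOK 17 = true := by decide +kernel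

theorem chunk_18 : chunkOK 18 = true := by decide +kernel

theorem chunk_19 : chunkOK 19 = true := by decide +kernel

theorem chunk_20 : chunkOK 20 = true := by decide +kernel

theorem chunk_21 : chunkOK 21 = true := by decide +kernel

theorem chunk_22 : chunkOK 22 = true := by decide +kernel

theorem chunk_23 : chunkOK 23 = true := by decide +kernel

theorem chunk_24 : chunkOK 24 = true := by decide +kernel

theorem chunk_25 : chunkOK 25 = true := by decide +kernel

theorem chunk_26 : chunkOK 26 = true := by decide +kernel

theorem chunk_27 : chunkOK 27 = true := by decide +kernel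

theorem mem_chunk {α : Type*} {s : ℕ} (hs : 0 < s) {l : List α} {e : α} (he : e ∈ l) :
    ∃ i, s * i < l.length ∧ e ∈ (l.drop (s * i)).take s := by
  obtain ⟨k, hk, rfl⟩ := List.mem_iff_getElem.mp he
  have h0 : s * (k / s) + k % s = k := Nat.div_add_mod k s
  have hmod : k % s < s := Nat.mod_lt _ hs
  refine ⟨k / s, by omega, ?_⟩
  rw [List.mem_iff_getElem]
  have h1 : k % s < ((l.drop (s * (k / s))).take s).length := by
    rw [List.length_take, List.length_drop]; omega
  refine ⟨k % s, h1, ?_⟩
  rw [List.getElem_take, List.getElem_drop]
  congr 1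

theorem relsL_length : relsL.length = 277 := by decide

theorem chunk_all : ∀ i < 28, chunkOK i = true := by
  intro i hi
  interval_cases i
  · exact chunk_0
  · exact chunk_1
  · exact chunk_2
  · exact chunk_3
  · exact chunk_4
  · exact chunk_5
  · exact chunk_6
  · exact chunk_7
  · exact chunk_8
  · exact chunk_9
  · exact chunk_10
  · exact chunk_11
  · exact chunk_12
  · exact chunk_13
  · exact chunk_14
  · exact chunk_15
  · exact chunk_16
  · exact chunk_17
  · exact chunk_18
  · exact chunk_19
  · exact chunk_20
  · exact chunk_21
  · exact chunk_22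
  · exact chunk_23
  · exact chunk_24
  · exact chunk_25
  · exact chunk_26
  · exact chunk_27

/-- the relators hold for the three elements of `Co₁` -/
theorem relsL_hold : ∀ r ∈ relsL, Cfsg.H5.TCk.ev (genKK wsP3 wsP3_ok) r = 1 := by
  intro r hr
  obtain ⟨i, hi, hmem⟩ := mem_chunk (s := 10) (by norm_num) hr
  rw [relsL_length] at hi
  have h := chunk_all i (by omega)
  unfold chunkOK at h
  rw [List.all_eq_true] at h
  apply Subtype.ext
  rw [ev_genKK wsP3_ok r]
  exact ev_eq_one_of_base wsP3_ok r (h r hmem)

end Cfsg.Agent.Lib.Helper22.Co1M.Helper28
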