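import Cfsg.Agent.Lib.Helper28.Co1MP3Gen
import Cfsg.Agent.Lib.Helper28.Co1MP3RelB
import Cfsg.Agent.Lib.Helper27.Co1O.Low
import Cfsg.Agent.Lib.Helper1.Sp62L

/-!
# S2043, block [P3]: the 3-part of the kernel of a stem extension of `Co₁` is trivial (helper28)

`L = 3⁶ : 2 M₁₂ = ⟨s₁, s₂, g'⟩` has index prime to 3 in `Co₁`.  The three generators have orders
`11, 5, 11`, so they lift to elements of the same orders, and the conjugation relators lift with
them.  Two coset enumerations (hypotheses here) bound the group generated by the lifts by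
`729 · 17280 · 11 = |L|`; hence the kernel, a 3-group, is trivial.
-/

set_option autoImplicit false
set_option maxRecDepth 100000

namespace Cfsg.Agent.Lib.Helper22.Co1M.Helper28

open Cfsg Cfsg.H5.TCk Cfsg.Agent.Lib.Helper10.Weak Cfsg.Agent.Lib.Helper27.Co1O
open Cfsg.Agent.Lib.Helper5.Sp62 (cr crOf)

/-! ### the shape of the relators -/

theorem relsH_letters : relsH.all (fun r => r.all fun l => decide (l < 2 * 2)) = true := by decide

theorem relsL_letters : relsL.all (fun r => r.all fun l => decide (l < 2 * 3)) = true := by decide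

theorem conj_idx : (conjH ++ conjL).all (fun q => decide (q.2.1 < 3) && decide (q.2.2.1 / 2 < 3)) =
    true := by decide

theorem relsH_sub {r : List ℕ} (h : r ∈ relsH) : r ∈ relsL := by
  unfold relsL
  exact List.mem_append_left _ (List.mem_append_left _ h)

theorem mem_relsL_cases {r : List ℕ} (hr : r ∈ relsL) :
    r = List.replicate 11 0 ∨ r = List.replicate 5 2 ∨ r = List.replicate 11 4 ∨
      ∃ q ∈ conjH ++ conjL, r = cr q.1 q.2.1 q.2.2.1 q.2.2.2 := by
  unfold relsL relsH at hr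
  rw [List.mem_append, List.mem_append, List.mem_append] at hr
  rcases hr with ((hr | hr) | hr) | hr
  · unfold powH at hr
    simp only [List.mem_cons, List.not_mem_nil, or_false] at hr
    rcases hr with rfl | rfl
    · left; rfl
    · right; left; rfl
  · obtain ⟨q, hq, rfl⟩ := List.mem_map.mp hr
    exact Or.inr (Or.inr (Or.inr ⟨q, List.mem_append_left _ hq, rfl⟩))
  · unfold powL at hr
    simp only [List.mem_cons, List.not_mem_nil, or_false] at hr
    rw [hr]
    right; right; left; rfl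
  · obtain ⟨q, hq, rfl⟩ := List.mem_map.mp hr
    exact Or.inr (Or.inr (Or.inr ⟨q, List.mem_append_right _ hq, rfl⟩))

/-! ### generalities -/

theorem card_zpowers_le_of_pow {Γ : Type*} [Group Γ] (x : Γ) {n : ℕ} (hn : 0 < n) (hx : x ^ n = 1) :
    Finite (Subgroup.zpowers x) ∧ Nat.card (Subgroup.zpowers x) ≤ n := by
  have hfo : IsOfFinOrder x := isOfFinOrder_iff_pow_eq_one.mpr ⟨n, hn, hx⟩
  refine ⟨?_, ?_⟩
  · exact Nat.finite_of_card_ne_zero (by rw [Nat.card_zpowers]; exact (orderOf_pos_iff.mpr hfo).ne')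
  · rw [Nat.card_zpowers]
    exact Nat.le_of_dvd hn (orderOf_dvd_of_pow_eq_one hx)

theorem ev_single {Γ : Type*} [Group Γ] (γ : ℕ → Γ) (i : ℕ) : ev γ [2 * i] = γ i := by
  show gl γ (2 * i) * 1 = γ i
  rw [mul_one, Cfsg.Agent.Lib.Helper5.Sp62.Helper1.gl_even]

theorem mem_closure_range {Γ : Type*} [Group Γ] (γ : ℕ → Γ) {t i : ℕ} (hi : i < t) :
    γ i ∈ Subgroup.closure (Set.range fun j : Fin t => γ j.val) :=
  Subgroup.subset_closure ⟨⟨i, hi⟩, rfl⟩

/-- the orders of the three generators -/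
def ordP3 (i : ℕ) : ℕ := if i = 1 then 5 else 11

theorem ordP3_dvd (i : ℕ) : ordP3 i ∣ 55 := by
  unfold ordP3
  split_ifs
  · exact ⟨11, rfl⟩
  · exact ⟨5, rfl⟩

/-- the bound for a triple satisfying the relators, from the two enumerations -/
theorem card_le_of_relsL (hTC1 : TCBound 2 relsH [[0]] 17280)
    (hTC2 : TCBound 3 relsL [[0], [2]] 729) {Γ : Type} [Group Γ] (γ : ℕ → Γ)
    (hrel : ∀ r ∈ relsL, ev γ r = 1) :
    Finite (Subgroup.closure (Set.range fun i : Fin 2 => γ i.val)) ∧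
      Nat.card (Subgroup.closure (Set.range fun i : Fin 2 => γ i.val)) ≤ 190080 ∧
      Nat.card (Subgroup.closure (Set.range fun i : Fin 3 => γ i.val)) ≤ 138568320 := by
  have h0 : γ 0 ^ 11 = 1 := by
    have := hrel (List.replicate 11 0)
      (relsH_sub (List.mem_append_left _ List.mem_cons_self))
    rwa [Cfsg.Agent.Lib.Helper5.Sp62.Helper1.ev_replicate, Cfsg.Agent.Lib.Helper5.Sp62.Helper1.gl_even γ 0] at this
  obtain ⟨hzf, hzc⟩ := card_zpowers_le_of_pow (γ 0) (by norm_num : 0 < 11) h0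
  have := hzf
  obtain ⟨hf2, hc2⟩ := card_closure_le_of γ 2 relsH
    (fun r hr => (List.all_eq_true.mp relsH_letters) r hr) (fun r hr => hrel r (relsH_sub hr))
    [[0]] (by decide) (Subgroup.zpowers (γ 0))
    (by
      intro g hg
      rw [List.mem_singleton] at hg
      rw [hg, ev_single γ 0]
      exact Subgroup.mem_zpowers _) 17280 hTC1
  have := hf2
  obtain ⟨_, hc3⟩ := card_closure_le_of γ 3 relsL
    (fun r hr => (List.all_eq_true.mp relsL_letters) r hr) hrel
    [[0], [2]] (by decide) (Subgroup.closure (Set.range fun i : Fin 2 => γ i.val))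
    (by
      intro g hg
      simp only [List.mem_cons, List.not_mem_nil, or_false] at hg
      rcases hg with rfl | rfl
      · rw [ev_single γ 0]; exact mem_closure_range γ (by norm_num)
      · rw [ev_single γ 1]; exact mem_closure_range γ (by norm_num)) 729 hTC2
  have h2 : Nat.card (Subgroup.closure (Set.range fun i : Fin 2 => γ i.val)) ≤ 190080 :=
    le_trans hc2 (by
      calc 17280 * Nat.card (Subgroup.zpowers (γ 0)) ≤ 17280 * 11 := Nat.mul_le_mul_left _ hzc
        _ = 190080 := by norm_num)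
  refine ⟨hf2, h2, le_trans hc3 ?_⟩
  calc 729 * Nat.card (Subgroup.closure (Set.range fun i : Fin 2 => γ i.val))
      ≤ 729 * 190080 := Nat.mul_le_mul_left _ h2
    _ = 138568320 := by norm_num

/-- the three elements of `Co₁` -/
noncomputable def gP3 : ℕ → ↥K := genKK wsP3 wsP3_ok

/-- [P3], with the two coset enumerations and the lower bound for `|L|` as hypotheses -/
theorem part_3_of (hTC1 : TCBound 2 relsH [[0]] 17280) (hTC2 : TCBound 3 relsL [[0], [2]] 729)
    (hge : 138568320 ≤ Nat.card ↥(Subgroup.closure (Set.range fun i : Fin 3 => gP3 i.val)))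
    {Γ : Type} [Group Γ] [Finite Γ] (σ : Γ →* ↥K) (hσ : IsStemExtension σ)
    (hk : IsPGroup 3 σ.ker) : Nat.card σ.ker ≤ 1 := by
  haveI : Fact (Nat.Prime 3) := ⟨Nat.prime_three⟩
  have hs := hσ.1
  have hc := hσ.2.1
  have hrelK : ∀ r ∈ relsL, ev gP3 r = 1 := relsL_hold
  -- the order of `L`
  obtain ⟨_, _, hleK⟩ := card_le_of_relsL hTC1 hTC2 gP3 hrelK
  have hN : Nat.card ↥(Subgroup.closure (Set.range fun i : Fin 3 => gP3 i.val)) = 138568320 :=
    le_antisymm hleK hge
  have hidx : ¬ 3 ∣ (Subgroup.closure (Set.range fun i : Fin 3 => gP3 i.val)).index :=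
    Low.not_dvd_index_of_card hN (by norm_num)
  -- the kernel has order prime to 55
  obtain ⟨e, he⟩ := hk.exists_card_eq
  have hcop : Nat.Coprime 55 (Nat.card σ.ker) := by
    rw [he]
    exact Nat.Coprime.pow_right e (by norm_num)
  -- the orders of the generators
  have hord : ∀ i < 3, gP3 i ^ ordP3 i = 1 := by
    intro i hi
    interval_cases i
    · have := hrelK (List.replicate 11 0)
        (relsH_sub (List.mem_append_left _ List.mem_cons_self))
      rwa [Cfsg.Agent.Lib.Helper5.Sp62.Helper1.ev_replicate, Cfsg.Agent.Lib.Helper5.Sp62.Helper1.gl_even gP3 0] at this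
    · have := hrelK (List.replicate 5 2)
        (relsH_sub (List.mem_append_left _ (List.mem_cons_of_mem _ List.mem_cons_self)))
      rwa [Cfsg.Agent.Lib.Helper5.Sp62.Helper1.ev_replicate, Cfsg.Agent.Lib.Helper5.Sp62.Helper1.gl_even gP3 1] at this
    · have := hrelK (List.replicate 11 4)
        (List.mem_append_left _ (List.mem_append_right _ List.mem_cons_self))
      rwa [Cfsg.Agent.Lib.Helper5.Sp62.Helper1.ev_replicate, Cfsg.Agent.Lib.Helper5.Sp62.Helper1.gl_even gP3 2] at this
  -- the lifts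
  have hex : ∀ i : ℕ, ∃ y : Γ, (i < 3 → σ y = gP3 i) ∧ y ^ ordP3 i = 1 := by
    intro i
    by_cases hi : i < 3
    · have hco : (ordP3 i).Coprime (Nat.card σ.ker) :=
        Nat.Coprime.coprime_dvd_left (ordP3_dvd i) hcop
      obtain ⟨y, hy1, hy2⟩ := Cfsg.Agent.Lib.Helper5.Sp62.exists_lift_pow_eq_one σ hs hc hco
        (gP3 i) (hord i hi)
      exact ⟨y, fun _ => hy1, hy2⟩
    · exact ⟨1, fun h => absurd h hi, one_pow _⟩
  choose γh hγh1 hγh2 using hex
  have hγh : ∀ i < 3, σ (γh i) = gP3 i := fun i hi => hγh1 i hi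
  have h55 : ∀ i, γh i ^ 55 = 1 := by
    intro i
    obtain ⟨k, hk'⟩ := ordP3_dvd i
    rw [hk', pow_mul, hγh2 i, one_pow]
  -- the relators hold for the lifts
  have hrelΓ : ∀ r ∈ relsL, ev γh r = 1 := by
    intro r hr
    rcases mem_relsL_cases hr with rfl | rfl | rfl | ⟨q, hq, rfl⟩
    · rw [Cfsg.Agent.Lib.Helper5.Sp62.Helper1.ev_replicate, Cfsg.Agent.Lib.Helper5.Sp62.Helper1.gl_even γh 0]; exact hγh2 0
    · rw [Cfsg.Agent.Lib.Helper5.Sp62.Helper1.ev_replicate, Cfsg.Agent.Lib.Helper5.Sp62.Helper1.gl_even γh 1]; exact hγh2 1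
    · rw [Cfsg.Agent.Lib.Helper5.Sp62.Helper1.ev_replicate, Cfsg.Agent.Lib.Helper5.Sp62.Helper1.gl_even γh 2]; exact hγh2 2
    · apply Cfsg.Agent.Lib.Helper5.Sp62.ev_cr_eq_one σ hc hcop γh q.1 q.2.1 q.2.2.1 q.2.2.2
        (h55 _) (h55 _)
      have hlet := (List.all_eq_true.mp relsL_letters) _ hr
      rw [Helper17.ev_congr_lt (fun k => σ (γh k)) gP3 3 hγh _ hlet]
      exact hrelK _ hr
  -- the two enumerations for the lifts
  obtain ⟨_, h2Γ, _⟩ := card_le_of_relsL hTC1 hTC2 γh hrelΓ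
  have hmain := card_ker_mul_card_le_of σ hσ 3 hk 3 gP3 hidx γh hγh relsL
    (fun r hr => (List.all_eq_true.mp relsL_letters) r hr) hrelΓ [[0], [2]] (by decide)
    (Subgroup.closure (Set.range fun i : Fin 2 => γh i.val))
    (by
      intro g hg
      simp only [List.mem_cons, List.not_mem_nil, or_false] at hg
      rcases hg with rfl | rfl
      · rw [ev_single γh 0]; exact mem_closure_range γh (by norm_num)
      · rw [ev_single γh 1]; exact mem_closure_range γh (by norm_num)) 729 hTC2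
  rw [hN] at hmain
  have h3 : Nat.card σ.ker * 138568320 ≤ 729 * 190080 :=
    le_trans hmain (Nat.mul_le_mul_left _ h2Γ)
  omega

/-- [P3], with an absolute bound for the groups satisfying the relators and the lower bound for `|L|`
as hypotheses -/
theorem part_3_of_bound
    (hB : ∀ {M : Type} [Group M] (g : ℕ → M), (∀ r ∈ relsL, ev g r = 1) →
      Subgroup.closure (Set.range fun i : Fin 3 => g i.val) = ⊤ →
      Finite M ∧ Nat.card M ≤ 138568320)
    (hge : 138568320 ≤ Nat.card ↥(Subgroup.closure (Set.range fun i : Fin 3 => gP3 i.val)))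
    {Γ : Type} [Group Γ] [Finite Γ] (σ : Γ →* ↥K) (hσ : IsStemExtension σ)
    (hk : IsPGroup 3 σ.ker) : Nat.card σ.ker ≤ 1 := by
  haveI : Fact (Nat.Prime 3) := ⟨Nat.prime_three⟩
  have hs := hσ.1
  have hc := hσ.2.1
  have hTC : TCBound 3 relsL [] 138568320 := by
    intro Δ _ δ K' _ h1 _ h3
    obtain ⟨hf, hc'⟩ := hB δ h1 h3
    exact ⟨hf, le_trans hc' (Nat.le_mul_of_pos_right _ Nat.card_pos)⟩
  have hrelK : ∀ r ∈ relsL, ev gP3 r = 1 := relsL_hold
  have hlet : ∀ r ∈ relsL, r.all (fun l => decide (l < 2 * 3)) = true :=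
    fun r hr => (List.all_eq_true.mp relsL_letters) r hr
  -- the order of `L`
  obtain ⟨_, hleK⟩ := card_closure_le_of gP3 3 relsL hlet hrelK [] (by simp)
    (⊥ : Subgroup ↥K) (by simp) 138568320 hTC
  rw [Subgroup.card_bot, mul_one] at hleK
  have hN : Nat.card ↥(Subgroup.closure (Set.range fun i : Fin 3 => gP3 i.val)) = 138568320 :=
    le_antisymm hleK hge
  have hidx : ¬ 3 ∣ (Subgroup.closure (Set.range fun i : Fin 3 => gP3 i.val)).index :=
    Low.not_dvd_index_of_card hN (by norm_num)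
  -- the kernel has order prime to 55
  obtain ⟨e, he⟩ := hk.exists_card_eq
  have hcop : Nat.Coprime 55 (Nat.card σ.ker) := by
    rw [he]
    exact Nat.Coprime.pow_right e (by norm_num)
  -- the orders of the generators
  have hord : ∀ i < 3, gP3 i ^ ordP3 i = 1 := by
    intro i hi
    interval_cases i
    · have := hrelK (List.replicate 11 0)
        (relsH_sub (List.mem_append_left _ List.mem_cons_self))
      rwa [Cfsg.Agent.Lib.Helper5.Sp62.Helper1.ev_replicate,
        Cfsg.Agent.Lib.Helper5.Sp62.Helper1.gl_even gP3 0] at this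
    · have := hrelK (List.replicate 5 2)
        (relsH_sub (List.mem_append_left _ (List.mem_cons_of_mem _ List.mem_cons_self)))
      rwa [Cfsg.Agent.Lib.Helper5.Sp62.Helper1.ev_replicate,
        Cfsg.Agent.Lib.Helper5.Sp62.Helper1.gl_even gP3 1] at this
    · have := hrelK (List.replicate 11 4)
        (List.mem_append_left _ (List.mem_append_right _ List.mem_cons_self))
      rwa [Cfsg.Agent.Lib.Helper5.Sp62.Helper1.ev_replicate,
        Cfsg.Agent.Lib.Helper5.Sp62.Helper1.gl_even gP3 2] at this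
  -- the lifts
  have hex : ∀ i : ℕ, ∃ y : Γ, (i < 3 → σ y = gP3 i) ∧ y ^ ordP3 i = 1 := by
    intro i
    by_cases hi : i < 3
    · have hco : (ordP3 i).Coprime (Nat.card σ.ker) :=
        Nat.Coprime.coprime_dvd_left (ordP3_dvd i) hcop
      obtain ⟨y, hy1, hy2⟩ := Cfsg.Agent.Lib.Helper5.Sp62.exists_lift_pow_eq_one σ hs hc hco
        (gP3 i) (hord i hi)
      exact ⟨y, fun _ => hy1, hy2⟩
    · exact ⟨1, fun h => absurd h hi, one_pow _⟩
  choose γh hγh1 hγh2 using hex
  have hγh : ∀ i < 3, σ (γh i) = gP3 i := fun i hi => hγh1 i hi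
  have h55 : ∀ i, γh i ^ 55 = 1 := by
    intro i
    obtain ⟨k, hk'⟩ := ordP3_dvd i
    rw [hk', pow_mul, hγh2 i, one_pow]
  -- the relators hold for the lifts
  have hrelΓ : ∀ r ∈ relsL, ev γh r = 1 := by
    intro r hr
    rcases mem_relsL_cases hr with rfl | rfl | rfl | ⟨q, hq, rfl⟩
    · rw [Cfsg.Agent.Lib.Helper5.Sp62.Helper1.ev_replicate,
        Cfsg.Agent.Lib.Helper5.Sp62.Helper1.gl_even γh 0]; exact hγh2 0
    · rw [Cfsg.Agent.Lib.Helper5.Sp62.Helper1.ev_replicate,
        Cfsg.Agent.Lib.Helper5.Sp62.Helper1.gl_even γh 1]; exact hγh2 1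
    · rw [Cfsg.Agent.Lib.Helper5.Sp62.Helper1.ev_replicate,
        Cfsg.Agent.Lib.Helper5.Sp62.Helper1.gl_even γh 2]; exact hγh2 2
    · apply Cfsg.Agent.Lib.Helper5.Sp62.ev_cr_eq_one σ hc hcop γh q.1 q.2.1 q.2.2.1 q.2.2.2
        (h55 _) (h55 _)
      rw [Helper17.ev_congr_lt (fun k => σ (γh k)) gP3 3 hγh _ (hlet _ hr)]
      exact hrelK _ hr
  have hmain := card_ker_mul_card_le_of σ hσ 3 hk 3 gP3 hidx γh hγh relsL hlet hrelΓ [] (by simp)
    (⊥ : Subgroup Γ) (by simp) 138568320 hTC
  rw [hN, Subgroup.card_bot, mul_one] at hmain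
  omega

end Cfsg.Agent.Lib.Helper22.Co1M.Helper28
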