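import Cfsg.Agent.Lib.Helper28.Co1MP3Data
import Cfsg.Agent.Lib.Helper27.Co1O.Api

/-!
# S2043, block [P3]: the relators hold in `Co₁` (helper28), part A

Every relator, expanded to a word in the nine generators, fixes the five base points.
-/

set_option autoImplicit false
set_option maxRecDepth 100000
set_option Elab.async false

namespace Cfsg.Agent.Lib.Helper22.Co1M.Helper28

open Cfsg.Agent.Lib.Helper27.Co1O

theorem wsP3_ok : wsP3.all okW = true := by decide

/-- the `i`-th block of ten relators -/
def relChunk (i : ℕ) : List (List ℕ) := (relsL.drop (10 * i)).take 10

/-- the relators of a block fix the base points -/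
noncomputable def chunkOK (i : ℕ) : Bool := (relChunk i).all fun r => baseFix (substW wsP3 r)

theorem chunk_0 : chunkOK 0 = true := by decide +kernel

theorem chunk_1 : chunkOK 1 = true := by decide +kernel

theorem chunk_2 : chunkOK 2 = true := by decide +kernel

theorem chunk_3 : chunkOK 3 = true := by decide +kernel

theorem chunk_4 : chunkOK 4 = true := by decide +kernel

theorem chunk_5 : chunkOK 5 = true := by decide +kernel

theorem chunk_6 : chunkOK 6 = true := by decide +kernel

theorem chunk_7 : chunkOK 7 = true := by decide +kernel

theorem chunk_8 : chunkOK 8 = true := by decide +kernel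

theorem chunk_9 : chunkOK 9 = true := by decide +kernel

theorem chunk_10 : chunkOK 10 = true := by decide +kernel

theorem chunk_11 : chunkOK 11 = true := by decide +kernel

theorem chunk_12 : chunkOK 12 = true := by decide +kernel

theorem chunk_13 : chunkOK 13 = true := by decide +kernel

end Cfsg.Agent.Lib.Helper22.Co1M.Helper28
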