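import Cfsg.Agent.Lib.Helper28.Co1Defs

/-!
# The first Conway group on 98280 points: gluing the blocks of certificates
-/

set_option autoImplicit false

namespace Cfsg.Agent.Lib.Helper28.Co1A

/-- the conditions hold from `lo` up to `N` -/
def Seg (lo N : ℕ) : Prop := ∀ j, lo ≤ j → j < N → VecOK j

theorem seg_nil (lo : ℕ) : Seg lo lo := fun _ h1 h2 => absurd h2 (Nat.not_lt.mpr h1)

theorem seg_step {lo N m : ℕ} (h : Seg lo N) (hb : ∀ i : Fin m, VecOK (N + i.val)) :
    Seg lo (N + m) := by
  intro j hlo hj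
  by_cases hjN : j < N
  · exact h j hlo hjN
  · have h1 : j - N < m := by omega
    have h2 := hb ⟨j - N, h1⟩
    have h3 : N + (j - N) = j := by omega
    simp only [h3] at h2
    exact h2

theorem seg_trans {lo mid hi : ℕ} (h1 : Seg lo mid) (h2 : Seg mid hi) : Seg lo hi := by
  intro j hlo hj
  by_cases hjm : j < mid
  · exact h1 j hlo hjm
  · exact h2 j (Nat.le_of_not_lt hjm) hj

end Cfsg.Agent.Lib.Helper28.Co1A
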