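import Cfsg.Agent.Lib.Helper28.OutTwo

/-!
# A criterion for a trivial outer automorphism group

Let `G = ⟨a, d, z⟩` be a finite group in which `⟨a⟩` is a self-centralizing Sylow `p`-subgroup of
order `p`, the element `d` conjugates `a` to `a ^ 2`, where the powers of `2` and `-1` exhaust the
units modulo `p`, and `z` is the only involution that commutes with `d`.  If no automorphism inverts
`a` and fixes `d` and `z`, then every automorphism of `G` is inner.
-/

set_option autoImplicit false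

namespace Cfsg.Agent.Lib.Helper28.OutOne

open Cfsg.Agent.Lib.Helper28.OutTwo

variable {G : Type*} [Group G]

theorem conj_zpow_two {a d : G} (hd : d * a * d⁻¹ = a ^ 2) (i : ℤ) :
    d * a ^ i * d⁻¹ = a ^ (2 * i) := by
  have h : d * a ^ i * d⁻¹ = (d * a * d⁻¹) ^ i := by
    rw [← MulAut.conj_apply, ← MulAut.conj_apply, map_zpow]
  rw [h, hd, ← zpow_natCast, ← zpow_mul]
  norm_num

/-- an automorphism that fixes three generators is the identity -/
theorem eq_one_of_fix {a d z : G} (hgen : Subgroup.closure ({a, d, z} : Set G) = ⊤)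
    (χ : MulAut G) (h1 : χ a = a) (h2 : χ d = d) (h3 : χ z = z) : χ = 1 := by
  have h : (χ : G →* G) = MonoidHom.id G := by
    apply MonoidHom.eq_of_eqOn_dense hgen
    intro x hx
    rcases hx with rfl | rfl | hx
    · exact h1
    · exact h2
    · rw [Set.mem_singleton_iff] at hx
      rw [hx]
      exact h3
  apply MulEquiv.ext
  intro x
  exact DFunLike.congr_fun h x

/-- the criterion: every automorphism is inner -/
theorem all_inner [Finite G] {p : ℕ} [hp : Fact p.Prime] {a d z : G}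
    (ha : orderOf a = p) (hfac : (Nat.card G).factorization p = 1)
    (hd : d * a * d⁻¹ = a ^ 2)
    (hr : ∀ k : ℕ, 1 ≤ k → k < p → ∃ i : ℕ, k * 2 ^ i % p = 1 ∨ k * 2 ^ i % p = p - 1)
    (hCa : ∀ g : G, g * a = a * g → g ∈ Subgroup.zpowers a)
    (hz : ∀ t : G, t * t = 1 → t ≠ 1 → t * d = d * t → t = z)
    (hz1 : z * z = 1) (hz2 : z ≠ 1) (hz3 : z * d = d * z)
    (hgen : Subgroup.closure ({a, d, z} : Set G) = ⊤)
    (hinv : ∀ χ : MulAut G, χ a = a⁻¹ → χ d = d → χ z = z → False)
    (φ : MulAut G) : φ ∈ Cfsg.Inn G := by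
  obtain ⟨c, hc⟩ := exists_fix_or_inv ha hfac hd hr φ
  set ψ : MulAut G := MulAut.conj c * φ with hψ
  -- the image of `d` under `ψ` conjugates `a` to its square
  have hψd : ψ d * a * (ψ d)⁻¹ = a ^ 2 := by
    rcases hc with hc | hc
    · have h := congrArg ψ hd
      rw [map_mul, map_mul, map_inv, map_pow, hc] at h
      exact h
    · have h := congrArg ψ hd
      rw [map_mul, map_mul, map_inv, map_pow, hc] at h
      have h' := congrArg (fun x => x⁻¹) h
      simp only [mul_inv_rev, inv_inv, inv_pow] at h'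
      rw [← mul_assoc] at h'
      exact h'
  -- so `ψ d = d * a ^ i`
  have hcomm : (d⁻¹ * ψ d) * a = a * (d⁻¹ * ψ d) := by
    have h1 : d⁻¹ * a ^ 2 * d = a := by
      rw [← hd]; group
    have h2 : ψ d * a = a ^ 2 * ψ d := by
      rw [← hψd]; group
    calc d⁻¹ * ψ d * a = d⁻¹ * (ψ d * a) := by group
      _ = d⁻¹ * (a ^ 2 * ψ d) := by rw [h2]
      _ = (d⁻¹ * a ^ 2 * d) * (d⁻¹ * ψ d) := by group
      _ = a * (d⁻¹ * ψ d) := by rw [h1]
  obtain ⟨i, hi⟩ := Subgroup.mem_zpowers_iff.mp (hCa _ hcomm)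
  have hψd' : ψ d = d * a ^ i := by
    rw [hi]; group
  -- conjugation by `x = a ^ (2 * i)` repairs `d`
  set x : G := a ^ (2 * i) with hx
  have hxd : x * d = d * a ^ i := by
    rw [hx, ← conj_zpow_two hd i]; group
  set χ : MulAut G := MulAut.conj x * ψ with hχ
  have hχd : χ d = d := by
    rw [hχ, MulAut.mul_apply, MulAut.conj_apply, hψd']
    calc x * (d * a ^ i) * x⁻¹ = (x * d) * a ^ i * x⁻¹ := by group
      _ = d * a ^ i * a ^ i * x⁻¹ := by rw [hxd]
      _ = d * (a ^ i * a ^ i * (a ^ (2 * i))⁻¹) := by rw [hx]; group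
      _ = d := by
        rw [← zpow_add, ← zpow_neg, ← zpow_add]
        have : i + i + -(2 * i) = 0 := by ring
        rw [this, zpow_zero, mul_one]
  have hxa : ∀ y : G, y ∈ Subgroup.zpowers a → x * y * x⁻¹ = y := by
    intro y hy
    obtain ⟨j, rfl⟩ := Subgroup.mem_zpowers_iff.mp hy
    rw [hx, ← zpow_add, ← zpow_neg, ← zpow_add]
    congr 1
    ring
  have hχinn : χ = MulAut.conj (x * c) * φ := by
    rw [hχ, hψ, map_mul, mul_assoc]
  have hzχ : χ z = z := by
    apply hz
    · rw [← map_mul, hz1, map_one]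
    · intro h
      apply hz2
      apply χ.injective
      rw [h, map_one]
    · have h := congrArg χ hz3
      rw [map_mul, map_mul, hχd] at h
      exact h
  have hinnc : MulAut.conj (x * c) ∈ Cfsg.Inn G := ⟨x * c, rfl⟩
  rcases hc with hc | hc
  · have hχa : χ a = a := by
      rw [hχ, MulAut.mul_apply, MulAut.conj_apply, hc]
      exact hxa a (Subgroup.mem_zpowers a)
    have h1 := eq_one_of_fix hgen χ hχa hχd hzχ
    have h2 : φ = (MulAut.conj (x * c))⁻¹ := by
      rw [hχinn] at h1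
      exact eq_inv_of_mul_eq_one_right h1
    rw [h2]
    exact (Cfsg.Inn G).inv_mem hinnc
  · exfalso
    have hχa : χ a = a⁻¹ := by
      rw [hχ, MulAut.mul_apply, MulAut.conj_apply, hc]
      exact hxa a⁻¹ ((Subgroup.zpowers a).inv_mem (Subgroup.mem_zpowers a))
    exact hinv χ hχa hχd hzχ

/-- the criterion: the outer automorphism group is trivial -/
theorem out_card_one [Finite G] {p : ℕ} [hp : Fact p.Prime] {a d z : G}
    (ha : orderOf a = p) (hfac : (Nat.card G).factorization p = 1)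
    (hd : d * a * d⁻¹ = a ^ 2)
    (hr : ∀ k : ℕ, 1 ≤ k → k < p → ∃ i : ℕ, k * 2 ^ i % p = 1 ∨ k * 2 ^ i % p = p - 1)
    (hCa : ∀ g : G, g * a = a * g → g ∈ Subgroup.zpowers a)
    (hz : ∀ t : G, t * t = 1 → t ≠ 1 → t * d = d * t → t = z)
    (hz1 : z * z = 1) (hz2 : z ≠ 1) (hz3 : z * d = d * z)
    (hgen : Subgroup.closure ({a, d, z} : Set G) = ⊤)
    (hinv : ∀ χ : MulAut G, χ a = a⁻¹ → χ d = d → χ z = z → False) :
    Nat.card (Cfsg.Out G) = 1 := by
  show Nat.card (MulAut G ⧸ Cfsg.Inn G) = 1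
  have htop : Cfsg.Inn G = ⊤ := by
    rw [eq_top_iff]
    intro φ _
    exact all_inner ha hfac hd hr hCa hz hz1 hz2 hz3 hgen hinv φ
  rw [← Subgroup.index_eq_card, htop, Subgroup.index_top]

end Cfsg.Agent.Lib.Helper28.OutOne
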