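import Cfsg.Agent.Lib.Helper28.Co3ACertA
import Cfsg.Agent.Lib.Helper28.OutOne
import Cfsg.Agent.Lib.Helper28.BSGSImg2

/-!
# The automorphisms of the third Conway group

The group `H₀` generated by three explicit permutations `a` (of order 23), `d` (of order 11) and `z`
(an involution) of 552 points has order 495766656000.  The subgroup `⟨a⟩` is a Sylow 23-subgroup, it
is its own centralizer, and `d a d⁻¹ = a²`; the centralizer of `d` is cyclic of order 22 and `z` is
its involution.  Hence every automorphism of `H₀` is, modulo inner automorphisms, one that fixes `d`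
and `z` and fixes or inverts `a`.  An automorphism that fixes the three generators is the identity;
none inverts `a` and fixes `d` and `z`, because `(a d z)¹⁵ = 1` whereas `(a⁻¹ d z)¹⁵ ≠ 1`.  So every
automorphism of `H₀` is inner.
-/

set_option autoImplicit false
set_option maxRecDepth 100000

namespace Cfsg.Agent.Lib.Helper28.Co3A

open Cfsg.Agent.Lib.Helper28.BSGS Cfsg.Agent.Lib.Helper28.Co3AData

attribute [local irreducible] checkChain codeSize gensOK siftB levelOK imgOK

/-- permutations of 552 points -/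
abbrev P552 : Type := Equiv.Perm (Fin 552)

/-! ### permutations and tables -/

/-- the permutation acts through the table -/
def ActsT (g : P552) (t : ℕ) : Prop := ∀ x : Fin 552, (g x).val = look 10 t x.val

theorem ActsT.ext {g h : P552} {t : ℕ} (hg : ActsT g t) (hh : ActsT h t) : g = h := by
  apply Equiv.ext
  intro x
  apply Fin.ext
  rw [hg x, hh x]

theorem ActsT.word {g : P552} {t : ℕ} (hg : ActsT g t) : ActsByW 552 10 g [t] :=
  actsByW_single hg

theorem actsT_permOf {tu tv : ℕ} (h : pairOK 552 10 tu tv = true) :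
    ActsT (permOf 552 10 tu tv) tu := fun x => permOf_apply h x

theorem actsT_permOf_inv {tu tv : ℕ} (h : pairOK 552 10 tu tv = true) :
    ActsT (permOf 552 10 tu tv)⁻¹ tv := fun x => permOf_inv_apply h x

theorem evalW_append (ws ws' : List ℕ) (x : ℕ) :
    evalW 10 (ws ++ ws') x = evalW 10 ws (evalW 10 ws' x) := by
  unfold evalW
  rw [List.foldr_append]

theorem actsW_mul {g h : P552} {ws ws' : List ℕ} (hg : ActsByW 552 10 g ws)
    (hh : ActsByW 552 10 h ws') : ActsByW 552 10 (g * h) (ws ++ ws') := by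
  intro x
  rw [evalW_append, ← hh x, ← hg (h x)]
  rfl

theorem actsW_pow {g : P552} {t : ℕ} (hg : ActsT g t) (k : ℕ) :
    ActsByW 552 10 (g ^ k) (List.replicate k t) := actsByW_pow 552 10 hg k

theorem actsW_wpow {g : P552} {ws : List ℕ} (hg : ActsByW 552 10 g ws) (k : ℕ) :
    ActsByW 552 10 (g ^ k) (List.flatten (List.replicate k ws)) := by
  induction k with
  | zero => rw [pow_zero]; exact actsByW_one 552 10
  | succ k ih =>
    rw [pow_succ', List.replicate_succ, List.flatten_cons]
    exact actsW_mul hg ih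

theorem wordId_of_acts {ws : List ℕ} (hg : ActsByW 552 10 (1 : P552) ws) :
    wordId 552 10 ws = true := by
  unfold wordId
  rw [List.all_eq_true]
  intro x hx
  have hx' : x < 552 := List.mem_range.mp hx
  have h1 := hg ⟨x, hx'⟩
  rw [beq_iff_eq, ← h1]
  rfl

/-- the image of a point under a power -/
theorem pow_val {g : P552} {t : ℕ} (hg : ActsT g t) (k : ℕ) (x : Fin 552) :
    ((g ^ k) x).val = (look 10 t)^[k] x.val := by
  induction k with
  | zero => rfl
  | succ k ih =>
    rw [pow_succ', Equiv.Perm.mul_apply, hg, ih, Function.iterate_succ_apply']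

theorem pow_pt {g : P552} {t : ℕ} (hg : ActsT g t) (k : ℕ) {b : ℕ} (hb : b < 552) :
    (g ^ k) (pt 552 b) = pt 552 ((look 10 t)^[k] b) := by
  apply Fin.ext
  rw [pow_val hg, pt_val 552 hb]
  have h : (look 10 t)^[k] b = ((g ^ k) (pt 552 b)).val := by
    rw [pow_val hg, pt_val 552 hb]
  rw [h, pt_of_val]

/-! ### the elements -/

/-- the element of order 23 -/
def a : P552 := permOf 552 10 ta tai

/-- the element of order 11 -/
def d : P552 := permOf 552 10 td tdi

/-- the involution -/
def z : P552 := permOf 552 10 tz tz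

/-- the group -/
def H0 : Subgroup P552 := genGroup 552 10 GENS

theorem a_acts : ActsT a ta := actsT_permOf pair_a
theorem ainv_acts : ActsT a⁻¹ tai := actsT_permOf_inv pair_a
theorem d_acts : ActsT d td := actsT_permOf pair_d
theorem dinv_acts : ActsT d⁻¹ tdi := actsT_permOf_inv pair_d
theorem z_acts : ActsT z tz := actsT_permOf pair_z

theorem card_H0 : Nat.card H0 = 495766656000 := by
  rw [← size_ok]
  exact (perm_main 552 10 GENS _ gens_ok chain_ok).1

theorem a_pow23 : a ^ 23 = 1 :=
  eq_one_of_wordId 552 10 (actsW_pow a_acts 23) a_pow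

theorem a_ne_one : a ≠ 1 := by
  intro h
  have h1 : ActsByW 552 10 (1 : P552) [ta] := by rw [← h]; exact a_acts.word
  have := wordId_of_acts h1
  rw [Co3A.a_ne] at this
  exact Bool.false_ne_true this

theorem d_pow11 : d ^ 11 = 1 :=
  eq_one_of_wordId 552 10 (actsW_pow d_acts 11) d_pow

theorem z_mul_self : z * z = 1 :=
  eq_one_of_wordId 552 10 (actsW_mul z_acts.word z_acts.word) z_sq

theorem z_ne_one : z ≠ 1 := by
  intro h
  have h1 : ActsByW 552 10 (1 : P552) [tz] := by rw [← h]; exact z_acts.word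
  have := wordId_of_acts h1
  rw [Co3A.z_ne] at this
  exact Bool.false_ne_true this

theorem d_conj_a : d * a * d⁻¹ = a ^ 2 := by
  have h1 : ActsByW 552 10 (d * a * d⁻¹) [td, ta, tdi] := by
    rw [mul_assoc]
    exact actsW_mul d_acts.word (actsW_mul a_acts.word dinv_acts.word)
  exact eq_of_wordEq 552 10 h1 (actsW_pow a_acts 2) d_conj

theorem z_comm_d : z * d = d * z :=
  eq_of_wordEq 552 10 (actsW_mul z_acts.word d_acts.word) (actsW_mul d_acts.word z_acts.word)
    z_comm

theorem d_ne_one : d ≠ 1 := by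
  intro h
  have h1 := d_conj_a
  rw [h, one_mul, inv_one, mul_one, pow_two] at h1
  exact a_ne_one (by simpa using h1)

theorem orderOf_a : orderOf a = 23 := by
  haveI : Fact (Nat.Prime 23) := ⟨by norm_num⟩
  exact orderOf_eq_prime a_pow23 a_ne_one

theorem orderOf_d : orderOf d = 11 := by
  haveI : Fact (Nat.Prime 11) := ⟨by norm_num⟩
  exact orderOf_eq_prime d_pow11 d_ne_one

theorem adz_pow15 : (a * d * z) ^ 15 = 1 := by
  have h1 : ActsByW 552 10 (a * d * z) [ta, td, tz] := by
    rw [mul_assoc]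
    exact actsW_mul a_acts.word (actsW_mul d_acts.word z_acts.word)
  exact eq_one_of_wordId 552 10 (actsW_wpow h1 15) adz_pow

theorem aidz_pow15 : (a⁻¹ * d * z) ^ 15 ≠ 1 := by
  intro h
  have h1 : ActsByW 552 10 (a⁻¹ * d * z) [tai, td, tz] := by
    rw [mul_assoc]
    exact actsW_mul ainv_acts.word (actsW_mul d_acts.word z_acts.word)
  have h2 := actsW_wpow h1 15
  rw [h] at h2
  have := wordId_of_acts h2
  rw [aidz_pow] at this
  exact Bool.false_ne_true this

/-! ### the straight-line program -/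

/-- some element of `K` acts through the table -/
def InK (K : Subgroup P552) (t : ℕ) : Prop := ∃ g ∈ K, ActsT g t

theorem word_inK (K : Subgroup P552) (known : List ℕ) (hk : ∀ t ∈ known, InK K t) :
    ∀ ws : List ℕ, (ws.all fun t => known.contains t) = true →
      ∃ g ∈ K, ActsByW 552 10 g ws := by
  intro ws
  induction ws with
  | nil => intro _; exact ⟨1, K.one_mem, actsByW_one 552 10⟩
  | cons t ws ih =>
    intro h
    rw [List.all_cons, Bool.and_eq_true] at h
    obtain ⟨g1, hg1, h1⟩ := hk t (List.contains_iff_mem.mp h.1)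
    obtain ⟨g2, hg2, h2⟩ := ih h.2
    exact ⟨g1 * g2, K.mul_mem hg1 hg2, actsByW_cons h1 h2⟩

theorem slp_sound (K : Subgroup P552) : ∀ (entries : List (ℕ × ℕ × List ℕ)) (known : List ℕ),
    (∀ t ∈ known, InK K t) → slpOK known entries = true →
      ∀ t ∈ slpKnown known entries, InK K t := by
  intro entries
  induction entries with
  | nil => intro known hk _ t ht; exact hk t ht
  | cons e rest ih =>
    intro known hk h
    unfold slpOK at h
    simp only [Bool.and_eq_true] at h
    obtain ⟨⟨⟨h1, h2⟩, h3⟩, h4⟩ := h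
    unfold slpKnown
    apply ih _ _ h4
    obtain ⟨g, hg, hact⟩ := word_inK K known hk e.2.2 h2
    have heq : permOf 552 10 e.1 e.2.1 = g :=
      eq_of_wordEq 552 10 (actsT_permOf h1).word hact h3
    intro t ht
    rcases List.mem_cons.mp ht with rfl | ht
    · exact ⟨g, hg, by rw [← heq]; exact actsT_permOf h1⟩
    · rcases List.mem_cons.mp ht with rfl | ht
      · exact ⟨g⁻¹, K.inv_mem hg, by rw [← heq]; exact actsT_permOf_inv h1⟩
      · exact hk t ht

theorem slpKnown_mem : ∀ (entries : List (ℕ × ℕ × List ℕ)) (known : List ℕ),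
    (∀ t ∈ known, t ∈ slpKnown known entries) ∧
      ∀ e ∈ entries, e.1 ∈ slpKnown known entries := by
  intro entries
  induction entries with
  | nil => intro known; exact ⟨fun t ht => ht, fun e he => by simp at he⟩
  | cons e rest ih =>
    intro known
    unfold slpKnown
    obtain ⟨i1, i2⟩ := ih (e.1 :: e.2.1 :: known)
    refine ⟨fun t ht => i1 t (List.mem_cons_of_mem _ (List.mem_cons_of_mem _ ht)), ?_⟩
    intro e' he'
    rcases List.mem_cons.mp he' with rfl | he'
    · exact i1 _ List.mem_cons_self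
    · exact i2 e' he'

/-- the subgroup generated by `a`, `d` and `z` -/
def Kadz : Subgroup P552 := Subgroup.closure {a, d, z}

theorem a_mem_K : a ∈ Kadz := Subgroup.subset_closure (Set.mem_insert _ _)

theorem d_mem_K : d ∈ Kadz :=
  Subgroup.subset_closure (Set.mem_insert_of_mem _ (Set.mem_insert _ _))

theorem z_mem_K : z ∈ Kadz :=
  Subgroup.subset_closure
    (Set.mem_insert_of_mem _ (Set.mem_insert_of_mem _ (Set.mem_singleton _)))

theorem known0 : ∀ t ∈ [ta, tai, td, tdi, tz], InK Kadz t := by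
  intro t ht
  simp only [List.mem_cons, List.not_mem_nil, or_false] at ht
  rcases ht with rfl | rfl | rfl | rfl | rfl
  · exact ⟨a, a_mem_K, a_acts⟩
  · exact ⟨a⁻¹, Kadz.inv_mem a_mem_K, ainv_acts⟩
  · exact ⟨d, d_mem_K, d_acts⟩
  · exact ⟨d⁻¹, Kadz.inv_mem d_mem_K, dinv_acts⟩
  · exact ⟨z, z_mem_K, z_acts⟩

theorem known_all : ∀ t ∈ slpKnown [ta, tai, td, tdi, tz] SLPA, InK Kadz t :=
  slp_sound Kadz SLPA _ known0 slpA_ok

theorem H0_eq : H0 = Kadz := by
  apply le_antisymm
  · unfold H0 genGroup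
    rw [Subgroup.closure_le]
    intro x hx
    have hx' : x ∈ semGens 552 10 GENS := hx
    unfold semGens at hx'
    obtain ⟨g, hg, rfl⟩ := List.mem_map.mp hx'
    have hp := gensOK_spec 552 10 gens_ok g hg
    have h := gens_slp
    rw [List.all_eq_true] at h
    have h1 := h g hg
    simp only [Bool.or_eq_true, Bool.and_eq_true, beq_iff_eq, List.any_eq_true] at h1
    have key : InK Kadz g.1 := by
      rcases h1 with ((h1 | h1) | h1) | h1
      · rw [h1.1]; exact ⟨a, a_mem_K, a_acts⟩
      · rw [h1.1]; exact ⟨d, d_mem_K, d_acts⟩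
      · rw [h1.1]; exact ⟨z, z_mem_K, z_acts⟩
      · obtain ⟨e, he, h2, _⟩ := h1
        rw [← h2]
        exact known_all _ ((slpKnown_mem SLPA _).2 e he)
    obtain ⟨g', hg', hact⟩ := key
    rw [SetLike.mem_coe, (actsT_permOf hp).ext hact]
    exact hg'
  · unfold Kadz
    rw [Subgroup.closure_le]
    intro x hx
    have h := gens_adz
    simp only [Bool.and_eq_true] at h
    rcases hx with rfl | rfl | hx
    · exact Subgroup.subset_closure (mem_semGens 552 10 (List.contains_iff_mem.mp h.1.1))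
    · exact Subgroup.subset_closure (mem_semGens 552 10 (List.contains_iff_mem.mp h.1.2))
    · rw [Set.mem_singleton_iff] at hx
      rw [hx]
      exact Subgroup.subset_closure (mem_semGens 552 10 (List.contains_iff_mem.mp h.2))

theorem a_mem : a ∈ H0 := by rw [H0_eq]; exact a_mem_K
theorem d_mem : d ∈ H0 := by rw [H0_eq]; exact d_mem_K
theorem z_mem : z ∈ H0 := by rw [H0_eq]; exact z_mem_K

theorem card_Kadz : Nat.card Kadz = 495766656000 := by
  rw [← H0_eq]
  exact card_H0

theorem finite_K : Finite Kadz := Nat.finite_of_card_ne_zero (by rw [card_Kadz]; norm_num)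

/-! ### the base -/

theorem v0_lt : V0 < 552 := by rw [v0_eq]; norm_num

theorem b1_eq : pt 552 B1 = a (pt 552 V0) := by
  apply Fin.ext
  rw [a_acts, pt_val 552 v0_lt]
  have h : B1 = (a (pt 552 V0)).val := by
    rw [a_acts, pt_val 552 v0_lt]
    rfl
  rw [h, pt_of_val, a_acts, pt_val 552 v0_lt]

theorem b1_lt : B1 < 552 := by
  have h : B1 = (a (pt 552 V0)).val := by
    rw [a_acts, pt_val 552 v0_lt]
    rfl
  rw [h]
  exact (a (pt 552 V0)).isLt

/-- every base point is the image of the first under a power of `a` -/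
theorem base_pow_a : ∀ lv ∈ LEVELS, ∃ k : ℕ, pt 552 lv.1 = (a ^ k) (pt 552 V0) := by
  intro lv hlv
  have h1 : lv.1 ∈ LEVELS.map (fun lv => lv.1) := List.mem_map.mpr ⟨lv, hlv, rfl⟩
  rw [base_a] at h1
  unfold imgsA at h1
  obtain ⟨k, _, hk⟩ := List.mem_map.mp h1
  exact ⟨k, by rw [pow_pt a_acts k v0_lt, hk]⟩

/-- every base point is the first or the image of the second under a power of `d` -/
theorem base_pow_d : ∀ lv ∈ LEVELS, lv.1 = V0 ∨ ∃ k : ℕ, pt 552 lv.1 = (d ^ k) (pt 552 B1) := by
  intro lv hlv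
  have h1 : lv.1 ∈ LEVELS.map (fun lv => lv.1) := List.mem_map.mpr ⟨lv, hlv, rfl⟩
  rw [base_d] at h1
  unfold imgsD at h1
  rcases List.mem_cons.mp h1 with h | h
  · exact Or.inl h
  · obtain ⟨k, _, hk⟩ := List.mem_map.mp h
    exact Or.inr ⟨k, by rw [pow_pt d_acts k b1_lt, hk]⟩

theorem comm_pow {c g : P552} (h : c * g = g * c) (k : ℕ) (x : Fin 552) :
    c ((g ^ k) x) = (g ^ k) (c x) := by
  have h1 : Commute c (g ^ k) := (show Commute c g from h).pow_right k
  have h2 : (c * g ^ k) x = (g ^ k * c) x := by rw [h1.eq]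
  exact h2

/-! ### the centralizer of `a` -/

theorem cent_a_fix (c : P552) (hc : c ∈ H0) (hca : c * a = a * c)
    (h0 : c (pt 552 V0) = pt 552 V0) : c = 1 := by
  apply eq_one_of_fix_base 552 10 GENS LEVELS gens_ok chain_ok c hc
  intro lv hlv
  obtain ⟨k, hk⟩ := base_pow_a lv hlv
  rw [hk, comm_pow hca, h0]

/-- the centralizer of `a` in the group is generated by `a` -/
theorem cent_a_mem (c : P552) (hc : c ∈ H0) (hca : c * a = a * c) :
    c ∈ Subgroup.zpowers a := by
  set y : ℕ := (c (pt 552 V0)).val with hy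
  have hylt : y < 552 := (c (pt 552 V0)).isLt
  have hys : (LEVELS.map fun lv => (c (pt 552 lv.1)).val) = imgsA y := by
    have e1 : (LEVELS.map fun lv => (c (pt 552 lv.1)).val) =
        (LEVELS.map fun lv => lv.1).map fun b => (c (pt 552 b)).val := by
      rw [List.map_map]; rfl
    rw [e1, base_a]
    unfold imgsA
    rw [List.map_map]
    apply List.map_congr_left
    intro k _
    show (c (pt 552 ((look 10 ta)^[k] V0))).val = (look 10 ta)^[k] y
    rw [← pow_pt a_acts k v0_lt, comm_pow hca, pow_val a_acts]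
  have himg := imgOK_of_mem 552 10 GENS LEVELS gens_ok chain_ok c hc _ (imgRel_self 552 c LEVELS)
  rw [hys] at himg
  have hcert := cent_a
  rw [List.all_eq_true] at hcert
  have h1 := hcert y (List.mem_range.mpr hylt)
  unfold centAOK at h1
  rw [himg, Bool.not_true, Bool.or_false, List.any_eq_true] at h1
  obtain ⟨i, _, hi⟩ := h1
  have hi' : y = evalW 10 (List.replicate i ta) V0 := Nat.eq_of_beq_eq_true hi
  have h2 : c (pt 552 V0) = (a ^ i) (pt 552 V0) := by
    apply Fin.ext
    rw [← hy, hi', actsW_pow a_acts i (pt 552 V0), pt_val 552 v0_lt]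
  have h3 : (a ^ i)⁻¹ * c = 1 := by
    apply cent_a_fix _ (H0.mul_mem (H0.inv_mem (H0.pow_mem a_mem i)) hc)
    · have hcomm : Commute ((a ^ i)⁻¹ * c) a :=
        (((Commute.refl a).pow_left i).inv_left).mul_left hca
      exact hcomm.eq
    · rw [Equiv.Perm.mul_apply, h2]
      exact (a ^ i).symm_apply_apply _
  have h4 : c = a ^ i := by
    rw [← mul_one (a ^ i), ← h3, mul_inv_cancel_left]
  rw [h4]
  exact Subgroup.pow_mem _ (Subgroup.mem_zpowers a) i

/-! ### the centralizer of `d` -/

theorem d_fix_v0 : d (pt 552 V0) = pt 552 V0 := by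
  have h : V0 ∈ ((List.range 552).filter fun y => Nat.beq (look 10 td y) y) := by
    rw [fix_d, v0_eq]
    exact List.mem_cons_self
  rw [List.mem_filter] at h
  apply Fin.ext
  rw [d_acts, pt_val 552 v0_lt]
  exact Nat.eq_of_beq_eq_true h.2

theorem cent_d_fix (t : P552) (ht : t ∈ H0) (htd : t * d = d * t)
    (h0 : t (pt 552 V0) = pt 552 V0) (h1 : t (pt 552 B1) = pt 552 B1) : t = 1 := by
  apply eq_one_of_fix_base 552 10 GENS LEVELS gens_ok chain_ok t ht
  intro lv hlv
  rcases base_pow_d lv hlv with h | ⟨k, hk⟩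
  · rw [h, h0]
  · rw [hk, comm_pow htd, h1]

/-- the centralizer of `d` in the group consists of the elements `d ^ i * z ^ j` -/
theorem cent_d_mem (t : P552) (ht : t ∈ H0) (htd : t * d = d * t) :
    ∃ i j : ℕ, t = d ^ i * z ^ j := by
  set y0 : ℕ := (t (pt 552 V0)).val with hy0
  set y1 : ℕ := (t (pt 552 B1)).val with hy1
  have hy0lt : y0 < 552 := (t (pt 552 V0)).isLt
  have hy1lt : y1 < 552 := (t (pt 552 B1)).isLt
  have hys : (LEVELS.map fun lv => (t (pt 552 lv.1)).val) = imgsD y0 y1 := by
    have e1 : (LEVELS.map fun lv => (t (pt 552 lv.1)).val) =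
        (LEVELS.map fun lv => lv.1).map fun b => (t (pt 552 b)).val := by
      rw [List.map_map]; rfl
    rw [e1, base_d]
    unfold imgsD
    rw [List.map_cons, List.map_map]
    congr 1
    apply List.map_congr_left
    intro k _
    show (t (pt 552 ((look 10 td)^[k] B1))).val = (look 10 td)^[k] y1
    rw [← pow_pt d_acts k b1_lt, comm_pow htd, pow_val d_acts]
  have himg := imgOK_of_mem 552 10 GENS LEVELS gens_ok chain_ok t ht _ (imgRel_self 552 t LEVELS)
  rw [hys] at himg
  -- the image of the first base point is a fixed point of `d`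
  have hfix : look 10 td y0 = y0 := by
    have h1 : d (t (pt 552 V0)) = t (pt 552 V0) := by
      have h2 : (d * t) (pt 552 V0) = (t * d) (pt 552 V0) := by rw [htd]
      rw [Equiv.Perm.mul_apply, Equiv.Perm.mul_apply, d_fix_v0] at h2
      exact h2
    have h3 := congrArg Fin.val h1
    rwa [d_acts] at h3
  have hmem : y0 ∈ ((List.range 552).filter fun y => Nat.beq (look 10 td y) y) := by
    rw [List.mem_filter]
    refine ⟨List.mem_range.mpr hy0lt, ?_⟩
    rw [hfix]
    exact Nat.beq_refl y0
  rw [fix_d] at hmem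
  have hcert : centDOK y0 y1 = true := by
    simp only [List.mem_cons, List.not_mem_nil, or_false] at hmem
    rcases hmem with h | h
    · have hc := cent_d0
      rw [List.all_eq_true] at hc
      rw [h]
      exact hc y1 (List.mem_range.mpr hy1lt)
    · have hc := cent_d1
      rw [List.all_eq_true] at hc
      rw [h]
      exact hc y1 (List.mem_range.mpr hy1lt)
  unfold centDOK at hcert
  rw [himg, Bool.not_true, Bool.or_false, List.any_eq_true] at hcert
  obtain ⟨i, _, hi⟩ := hcert
  rw [List.any_eq_true] at hi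
  obtain ⟨j, _, hj⟩ := hi
  rw [Bool.and_eq_true] at hj
  have hj0 : y0 = evalW 10 (wd i j) V0 := Nat.eq_of_beq_eq_true hj.1
  have hj1 : y1 = evalW 10 (wd i j) B1 := Nat.eq_of_beq_eq_true hj.2
  have hact : ActsByW 552 10 (d ^ i * z ^ j) (wd i j) :=
    actsW_mul (actsW_pow d_acts i) (actsW_pow z_acts j)
  have h2 : t (pt 552 V0) = (d ^ i * z ^ j) (pt 552 V0) := by
    apply Fin.ext
    rw [← hy0, hj0, hact (pt 552 V0), pt_val 552 v0_lt]
  have h3 : t (pt 552 B1) = (d ^ i * z ^ j) (pt 552 B1) := by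
    apply Fin.ext
    rw [← hy1, hj1, hact (pt 552 B1), pt_val 552 b1_lt]
  have hcomm0 : Commute (d ^ i * z ^ j) d :=
    ((Commute.refl d).pow_left i).mul_left ((show Commute z d from z_comm_d).pow_left j)
  have h4 : (d ^ i * z ^ j)⁻¹ * t = 1 := by
    apply cent_d_fix _ (H0.mul_mem (H0.inv_mem
      (H0.mul_mem (H0.pow_mem d_mem i) (H0.pow_mem z_mem j))) ht)
    · have hcomm : Commute ((d ^ i * z ^ j)⁻¹ * t) d := (hcomm0.inv_left).mul_left htd
      exact hcomm.eq
    · rw [Equiv.Perm.mul_apply, h2]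
      exact (d ^ i * z ^ j).symm_apply_apply _
    · rw [Equiv.Perm.mul_apply, h3]
      exact (d ^ i * z ^ j).symm_apply_apply _
  refine ⟨i, j, ?_⟩
  rw [← mul_one (d ^ i * z ^ j), ← h4, mul_inv_cancel_left]

/-- `z` is the only involution of the group that commutes with `d` -/
theorem invol_cent_d (t : P552) (ht : t ∈ H0) (h2 : t * t = 1) (h1 : t ≠ 1)
    (htd : t * d = d * t) : t = z := by
  obtain ⟨i, j, rfl⟩ := cent_d_mem t ht htd
  have hzd : Commute z d := z_comm_d
  have hc : Commute (d ^ i) (z ^ j) := ((hzd.pow_left j).pow_right i).symm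
  have hz2 : (z ^ j) * (z ^ j) = 1 := by
    rw [← pow_add, ← two_mul, pow_mul, pow_two, z_mul_self, one_pow]
  have h3 : d ^ i * z ^ j * (d ^ i * z ^ j) = d ^ (2 * i) := by
    calc d ^ i * z ^ j * (d ^ i * z ^ j) = d ^ i * (z ^ j * d ^ i) * z ^ j := by group
      _ = d ^ i * (d ^ i * z ^ j) * z ^ j := by rw [hc.eq]
      _ = d ^ i * d ^ i * (z ^ j * z ^ j) := by group
      _ = d ^ (2 * i) := by rw [hz2, mul_one, ← pow_add, two_mul]
  rw [h3] at h2
  have h4 : 11 ∣ 2 * i := by
    rw [← orderOf_d]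
    exact orderOf_dvd_of_pow_eq_one h2
  have h5 : 11 ∣ i := (Nat.Coprime.dvd_mul_left (by norm_num : Nat.Coprime 11 2)).mp h4
  obtain ⟨m, rfl⟩ := h5
  have h6 : d ^ (11 * m) = 1 := by rw [pow_mul, d_pow11, one_pow]
  rw [h6, one_mul] at h1 ⊢
  rcases Nat.even_or_odd' j with ⟨q, rfl | rfl⟩
  · exfalso
    apply h1
    rw [pow_mul, pow_two, z_mul_self, one_pow]
  · rw [pow_succ, pow_mul, pow_two, z_mul_self, one_pow, one_mul]

/-! ### the outer automorphism group -/

/-- `a` as an element of the group -/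
def aK : Kadz := ⟨a, a_mem_K⟩

/-- `d` as an element of the group -/
def dK : Kadz := ⟨d, d_mem_K⟩

/-- `z` as an element of the group -/
def zK : Kadz := ⟨z, z_mem_K⟩

theorem closure_adz : Subgroup.closure ({aK, dK, zK} : Set Kadz) = ⊤ := by
  have h := Subgroup.closure_closure_coe_preimage (k := ({a, d, z} : Set P552))
  have e : ((↑) : Subgroup.closure ({a, d, z} : Set P552) → P552) ⁻¹' ({a, d, z} : Set P552) =
      ({aK, dK, zK} : Set Kadz) := by
    ext x
    simp only [Set.mem_preimage, Set.mem_insert_iff, Set.mem_singleton_iff]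
    constructor
    · rintro (h | h | h)
      · exact Or.inl (Subtype.ext h)
      · exact Or.inr (Or.inl (Subtype.ext h))
      · exact Or.inr (Or.inr (Subtype.ext h))
    · rintro (h | h | h)
      · exact Or.inl (congrArg Subtype.val h)
      · exact Or.inr (Or.inl (congrArg Subtype.val h))
      · exact Or.inr (Or.inr (congrArg Subtype.val h))
  rw [e] at h
  exact h

theorem orderOf_aK : orderOf aK = 23 := by
  rw [← orderOf_a]
  exact Subgroup.orderOf_mk a a_mem_K

theorem fact23 : (Nat.card Kadz).factorization 23 = 1 := by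
  rw [card_Kadz]
  have h : (495766656000 : ℕ) = 23 ^ 1 * 21555072000 := by norm_num
  rw [h, Nat.factorization_mul (by norm_num) (by norm_num), Finsupp.add_apply,
    Nat.Prime.factorization_pow (by norm_num), Finsupp.single_eq_same,
    Nat.factorization_eq_zero_of_not_dvd (by norm_num)]

theorem dK_conj : dK * aK * dK⁻¹ = aK ^ 2 := by
  apply Subtype.ext
  simp only [Subgroup.coe_mul, Subgroup.coe_inv, Subgroup.coe_pow]
  exact d_conj_a

theorem arith23 : ∀ k : ℕ, 1 ≤ k → k < 23 →
    ∃ i : ℕ, k * 2 ^ i % 23 = 1 ∨ k * 2 ^ i % 23 = 23 - 1 := by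
  intro k h1 h2
  interval_cases k
  · exact ⟨0, by norm_num⟩
  · exact ⟨10, by norm_num⟩
  · exact ⟨3, by norm_num⟩
  · exact ⟨9, by norm_num⟩
  · exact ⟨5, by norm_num⟩
  · exact ⟨2, by norm_num⟩
  · exact ⟨7, by norm_num⟩
  · exact ⟨8, by norm_num⟩
  · exact ⟨6, by norm_num⟩
  · exact ⟨4, by norm_num⟩
  · exact ⟨1, by norm_num⟩
  · exact ⟨1, by norm_num⟩
  · exact ⟨4, by norm_num⟩
  · exact ⟨6, by norm_num⟩
  · exact ⟨8, by norm_num⟩
  · exact ⟨7, by norm_num⟩
  · exact ⟨2, by norm_num⟩
  · exact ⟨5, by norm_num⟩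
  · exact ⟨9, by norm_num⟩
  · exact ⟨3, by norm_num⟩
  · exact ⟨10, by norm_num⟩
  · exact ⟨0, by norm_num⟩

theorem centK_a (g : Kadz) (h : g * aK = aK * g) : g ∈ Subgroup.zpowers aK := by
  have h1 : (g : P552) * a = a * (g : P552) := congrArg Subtype.val h
  have h2 := cent_a_mem g.1 (by rw [H0_eq]; exact g.2) h1
  obtain ⟨k, hk⟩ := Subgroup.mem_zpowers_iff.mp h2
  rw [Subgroup.mem_zpowers_iff]
  refine ⟨k, Subtype.ext ?_⟩
  rw [Subgroup.coe_zpow]
  exact hk

theorem involK (t : Kadz) (h2 : t * t = 1) (h1 : t ≠ 1) (htd : t * dK = dK * t) : t = zK := by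
  apply Subtype.ext
  apply invol_cent_d t.1 (by rw [H0_eq]; exact t.2) (congrArg Subtype.val h2)
  · intro h
    exact h1 (Subtype.ext h)
  · exact congrArg Subtype.val htd

theorem no_inv (χ : MulAut Kadz) (h1 : χ aK = aK⁻¹) (h2 : χ dK = dK) (h3 : χ zK = zK) :
    False := by
  have h4 : (aK * dK * zK) ^ 15 = 1 := by
    apply Subtype.ext
    simp only [Subgroup.coe_mul, Subgroup.coe_pow]
    exact adz_pow15
  have h5 := congrArg χ h4
  rw [map_pow, map_mul, map_mul, h1, h2, h3, map_one] at h5
  apply aidz_pow15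
  have h6 := congrArg Subtype.val h5
  simp only [Subgroup.coe_mul, Subgroup.coe_pow, Subgroup.coe_inv] at h6
  exact h6

/-- every automorphism of the group generated by `a`, `d` and `z` is inner -/
theorem out_card : Nat.card (Cfsg.Out Kadz) = 1 := by
  haveI : Fact (Nat.Prime 23) := ⟨by norm_num⟩
  haveI := finite_K
  exact Cfsg.Agent.Lib.Helper28.OutOne.out_card_one orderOf_aK fact23 dK_conj arith23
    centK_a involK (Subtype.ext z_mul_self) (fun h => z_ne_one (congrArg Subtype.val h))
    (Subtype.ext z_comm_d) closure_adz no_inv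

end Cfsg.Agent.Lib.Helper28.Co3A
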