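import Cfsg.Agent.Lib.Helper28.Co3ADefs

/-!
# Certificates for the automorphisms of the third Conway group: the small checks

Generated by a script.
-/

set_option autoImplicit false
set_option Elab.async false

namespace Cfsg.Agent.Lib.Helper28.Co3A

open Cfsg.Agent.Lib.Helper28.BSGS Cfsg.Agent.Lib.Helper28.Co3AData

set_option maxRecDepth 1000000 in
theorem gens_ok : gensOK 552 10 GENS = true := by
  decide +kernel

set_option maxRecDepth 1000000 in
theorem size_ok : codeSize LEVELS = 495766656000 := by
  decide +kernel

set_option maxRecDepth 1000000 in
theorem slpA_ok : slpOK [ta, tai, td, tdi, tz] SLPA = true := by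
  decide +kernel

set_option maxRecDepth 1000000 in
theorem slpP_ok : slpOK [tp0, tpi0, tp1, tpi1, tp2, tpi2, tp3, tpi3] SLPP = true := by
  decide +kernel

set_option maxRecDepth 1000000 in
theorem pair_a : pairOK 552 10 ta tai = true := by
  decide +kernel

set_option maxRecDepth 1000000 in
theorem pair_d : pairOK 552 10 td tdi = true := by
  decide +kernel

set_option maxRecDepth 1000000 in
theorem pair_z : pairOK 552 10 tz tz = true := by
  decide +kernel

set_option maxRecDepth 1000000 in
theorem pair_p0 : pairOK 552 10 tp0 tpi0 = true := by
  decide +kernel

set_option maxRecDepth 1000000 in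
theorem pair_p1 : pairOK 552 10 tp1 tpi1 = true := by
  decide +kernel

set_option maxRecDepth 1000000 in
theorem pair_p2 : pairOK 552 10 tp2 tpi2 = true := by
  decide +kernel

set_option maxRecDepth 1000000 in
theorem pair_p3 : pairOK 552 10 tp3 tpi3 = true := by
  decide +kernel

set_option maxRecDepth 1000000 in
theorem a_pow : wordId 552 10 (List.replicate 23 ta) = true := by
  decide +kernel

set_option maxRecDepth 1000000 in
theorem a_ne : wordId 552 10 [ta] = false := by
  decide +kernel

set_option maxRecDepth 1000000 in
theorem d_pow : wordId 552 10 (List.replicate 11 td) = true := by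
  decide +kernel

set_option maxRecDepth 1000000 in
theorem d_conj : wordEq 552 10 [td, ta, tdi] [ta, ta] = true := by
  decide +kernel

set_option maxRecDepth 1000000 in
theorem z_sq : wordId 552 10 [tz, tz] = true := by
  decide +kernel

set_option maxRecDepth 1000000 in
theorem z_ne : wordId 552 10 [tz] = false := by
  decide +kernel

set_option maxRecDepth 1000000 in
theorem z_comm : wordEq 552 10 [tz, td] [td, tz] = true := by
  decide +kernel

set_option maxRecDepth 1000000 in
theorem adz_pow : wordId 552 10 (List.flatten (List.replicate 15 [ta, td, tz])) = true := by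
  decide +kernel

set_option maxRecDepth 1000000 in
theorem aidz_pow : wordId 552 10 (List.flatten (List.replicate 15 [tai, td, tz])) = false := by
  decide +kernel

set_option maxRecDepth 1000000 in
theorem fix_d : ((List.range 552).filter fun y => Nat.beq (look 10 td y) y) = [78, 473] := by
  decide +kernel

set_option maxRecDepth 1000000 in
theorem v0_eq : V0 = 78 := by
  decide +kernel

set_option maxRecDepth 1000000 in
theorem base_a : LEVELS.map (fun lv => lv.1) = imgsA V0 := by
  decide +kernel

set_option maxRecDepth 1000000 in
theorem base_d : LEVELS.map (fun lv => lv.1) = imgsD V0 B1 := by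
  decide +kernel

set_option maxRecDepth 1000000 in
theorem gens_slp : GENS.all (fun g => (g.1 == ta && g.2 == tai) || (g.1 == td && g.2 == tdi) || (g.1 == tz && g.2 == tz) || SLPA.any (fun e => e.1 == g.1 && e.2.1 == g.2)) = true := by
  decide +kernel

set_option maxRecDepth 1000000 in
theorem gens_adz : (GENS.contains (ta, tai) && GENS.contains (td, tdi) && GENS.contains (tz, tz)) = true := by
  decide +kernel

set_option maxRecDepth 1000000 in
theorem known_adz : [ta, td, tz].all (fun t => (slpKnown [tp0, tpi0, tp1, tpi1, tp2, tpi2, tp3, tpi3] SLPP).contains t) = true := by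
  decide +kernel

set_option maxRecDepth 1000000 in
theorem cent_a : (List.range 552).all centAOK = true := by
  decide +kernel

set_option maxRecDepth 1000000 in
theorem cent_d0 : (List.range 552).all (centDOK 78) = true := by
  decide +kernel

set_option maxRecDepth 1000000 in
theorem cent_d1 : (List.range 552).all (centDOK 473) = true := by
  decide +kernel

set_option maxRecDepth 1000000 in
theorem len_XN : XN.length = 552 := by
  decide +kernel

set_option maxRecDepth 1000000 in
theorem xn_sorted : ((List.range 551).all fun i => decide (XN.getD i 0 < XN.getD (i + 1) 0)) = true := by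
  decide +kernel

set_option maxRecDepth 1000000 in
theorem xn_small : (XN.all fun X => decide (X < 16 ^ 24)) = true := by
  decide +kernel

end Cfsg.Agent.Lib.Helper28.Co3A
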