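import Cfsg.Agent.Lib.Helper28.Co3ACertA9

/-!
# Certificates for the automorphisms of the third Conway group: the Schreier–Sims chain, part 14

Generated by a script.
-/

set_option autoImplicit false
set_option Elab.async false

namespace Cfsg.Agent.Lib.Helper28.Co3A

open Cfsg.Agent.Lib.Helper28.BSGS Cfsg.Agent.Lib.Helper28.Co3AData

set_option maxRecDepth 1000000 in
theorem msift1_5_2 : siftGenC (87, mtr1) [(275, mtr2), (551, mtr3), (86, mtr4), (177, mtr5)] ((nextGens 10 GENS 78).getD 5 (0, 0)) 2 = true := by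
  decide +kernel

set_option maxRecDepth 1000000 in
theorem msift1_5_3 : siftGenC (87, mtr1) [(275, mtr2), (551, mtr3), (86, mtr4), (177, mtr5)] ((nextGens 10 GENS 78).getD 5 (0, 0)) 3 = true := by
  decide +kernel

set_option maxRecDepth 1000000 in
theorem msift1_5_4 : siftGenC (87, mtr1) [(275, mtr2), (551, mtr3), (86, mtr4), (177, mtr5)] ((nextGens 10 GENS 78).getD 5 (0, 0)) 4 = true := by
  decide +kernel

set_option maxRecDepth 1000000 in
theorem mlen2 : (nextGens 10 (nextGens 10 GENS 78) 87).length = 5 := by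
  decide +kernel

set_option maxRecDepth 1000000 in
theorem mtl2 : mtr2.length = 162 := by
  decide +kernel

set_option maxRecDepth 1000000 in
theorem mpre2 : levelPre (nextGens 10 (nextGens 10 GENS 78) 87) (275, mtr2) = true := by
  decide +kernel

set_option maxRecDepth 1000000 in
theorem msift2_0_0 : siftGenC (275, mtr2) [(551, mtr3), (86, mtr4), (177, mtr5)] ((nextGens 10 (nextGens 10 GENS 78) 87).getD 0 (0, 0)) 0 = true := by
  decide +kernel

set_option maxRecDepth 1000000 in
theorem msift2_0_1 : siftGenC (275, mtr2) [(551, mtr3), (86, mtr4), (177, mtr5)] ((nextGens 10 (nextGens 10 GENS 78) 87).getD 0 (0, 0)) 1 = true := by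
  decide +kernel

set_option maxRecDepth 1000000 in
theorem msift2_0_2 : siftGenC (275, mtr2) [(551, mtr3), (86, mtr4), (177, mtr5)] ((nextGens 10 (nextGens 10 GENS 78) 87).getD 0 (0, 0)) 2 = true := by
  decide +kernel

set_option maxRecDepth 1000000 in
theorem msift2_1_0 : siftGenC (275, mtr2) [(551, mtr3), (86, mtr4), (177, mtr5)] ((nextGens 10 (nextGens 10 GENS 78) 87).getD 1 (0, 0)) 0 = true := by
  decide +kernel

set_option maxRecDepth 1000000 in
theorem msift2_1_1 : siftGenC (275, mtr2) [(551, mtr3), (86, mtr4), (177, mtr5)] ((nextGens 10 (nextGens 10 GENS 78) 87).getD 1 (0, 0)) 1 = true := by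
  decide +kernel

set_option maxRecDepth 1000000 in
theorem msift2_1_2 : siftGenC (275, mtr2) [(551, mtr3), (86, mtr4), (177, mtr5)] ((nextGens 10 (nextGens 10 GENS 78) 87).getD 1 (0, 0)) 2 = true := by
  decide +kernel

set_option maxRecDepth 1000000 in
theorem msift2_2_0 : siftGenC (275, mtr2) [(551, mtr3), (86, mtr4), (177, mtr5)] ((nextGens 10 (nextGens 10 GENS 78) 87).getD 2 (0, 0)) 0 = true := by
  decide +kernel

set_option maxRecDepth 1000000 in
theorem msift2_2_1 : siftGenC (275, mtr2) [(551, mtr3), (86, mtr4), (177, mtr5)] ((nextGens 10 (nextGens 10 GENS 78) 87).getD 2 (0, 0)) 1 = true := by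
  decide +kernel

end Cfsg.Agent.Lib.Helper28.Co3A
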