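import Cfsg.Agent.Lib.Helper28.Co3ADefs

/-!
# The automorphisms of the third Conway group: splitting the conditions at one level

The conditions at one level of the Schreier–Sims chain other than the sifting are split into blocks
of 64 entries, so that each block can be checked on its own.
-/

set_option autoImplicit false

namespace Cfsg.Agent.Lib.Helper28.Co3A

open Cfsg.Agent.Lib.Helper28.BSGS Cfsg.Agent.Lib.Helper28.Co3AData

theorem orbitOK_append (w : ℕ) (gens : List (ℕ × ℕ)) : ∀ (xs ys seen : List ℕ),
    orbitOK w gens seen (xs ++ ys) =
      (orbitOK w gens seen xs && orbitOK w gens (xs.reverse ++ seen) ys)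
  | [], ys, seen => by simp [orbitOK]
  | x :: xs, ys, seen => by
      simp only [List.cons_append, orbitOK, List.reverse_cons, List.append_assoc,
        List.nil_append]
      rw [orbitOK_append w gens xs ys (x :: seen), Bool.and_assoc]

theorem orbitOK_of_chunks (w : ℕ) (gens : List (ℕ × ℕ)) (s : ℕ) :
    ∀ (n : ℕ) (l seen : List ℕ), l.length ≤ s * n →
      (∀ k, k < n → orbitOK w gens ((l.take (s * k)).reverse ++ seen) (chunkL s l k) = true) →
      orbitOK w gens seen l = true
  | 0, l, seen, hl, _ => by
      have : l = [] := List.eq_nil_of_length_eq_zero (by omega)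
      subst this
      simp [orbitOK]
  | n + 1, l, seen, hl, h => by
      have h0 := h 0 (Nat.succ_pos n)
      have hsplit : l.take s ++ l.drop s = l := List.take_append_drop s l
      rw [← hsplit, orbitOK_append, Bool.and_eq_true]
      constructor
      · simpa [chunkL] using h0
      · apply orbitOK_of_chunks w gens s n (l.drop s) _
          (by rw [List.length_drop]; rw [Nat.mul_succ] at hl; omega)
        intro k hk
        have h1 := h (k + 1) (by omega)
        have e1 : chunkL s l (k + 1) = chunkL s (l.drop s) k := by
          unfold chunkL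
          rw [List.drop_drop, Nat.mul_succ, Nat.add_comm]
        have e2 : l.take (s * (k + 1)) = l.take s ++ (l.drop s).take (s * k) := by
          rw [Nat.mul_succ, Nat.add_comm, List.take_add]
        rw [e1, e2, List.reverse_append, List.append_assoc] at h1
        exact h1

/-- the conditions on the whole level that are cheap to check -/
def levelPre0 (lv : CLevel) : Bool :=
  decide (lv.1 < 552) && headOK 552 10 lv.1 lv.2 && nodupB (lv.2.map fun e => e.1)

/-- the entries of one block are valid -/
def entryC (lv : CLevel) (i : ℕ) : Bool := (chunkL 64 lv.2 i).all (entryOK 552 10 lv.1)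

/-- the points of one block are reached from the earlier points -/
def orbC (gens : List (ℕ × ℕ)) (lv : CLevel) (i : ℕ) : Bool :=
  orbitOK 10 gens ((((lv.2.map fun e => e.1).tail).take (64 * i)).reverse ++ [lv.1])
    (chunkL 64 ((lv.2.map fun e => e.1).tail) i)

theorem levelPre_of (gens : List (ℕ × ℕ)) (lv : CLevel) (k : ℕ) (hk : lv.2.length ≤ 64 * k)
    (h0 : levelPre0 lv = true) (h1 : ∀ i, i < k → entryC lv i = true)
    (h2 : ∀ i, i < k → orbC gens lv i = true) : levelPre gens lv = true := by
  unfold levelPre0 at h0
  simp only [Bool.and_eq_true] at h0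
  obtain ⟨⟨ha, hb⟩, hc⟩ := h0
  have he : lv.2.all (entryOK 552 10 lv.1) = true := by
    rw [List.all_eq_true]
    exact all_of_chunkL (s := 64) (by norm_num) lv.2 _ k hk h1
  have ho : orbitOK 10 gens [lv.1] ((lv.2.map fun e => e.1).tail) = true := by
    apply orbitOK_of_chunks 10 gens 64 k
    · rw [List.length_tail, List.length_map]; omega
    · exact h2
  unfold levelPre
  rw [ha, hb, he, hc, ho]
  rfl

end Cfsg.Agent.Lib.Helper28.Co3A
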