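import Cfsg.Agent.Lib.Helper28.Co3ACert0
import Cfsg.Agent.Lib.Helper28.Co3ADefs2

/-!
# Certificates for the automorphisms of the third Conway group: the first orbit

Generated by a script.
-/

set_option autoImplicit false
set_option Elab.async false

namespace Cfsg.Agent.Lib.Helper28.Co3A

open Cfsg.Agent.Lib.Helper28.BSGS Cfsg.Agent.Lib.Helper28.Co3AData

set_option maxRecDepth 1000000 in
theorem mpre0_0 : levelPre0 (78, mtr0) = true := by
  decide +kernel

set_option maxRecDepth 1000000 in
theorem mpre0_o0 : orbC GENS (78, mtr0) 0 = true := by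
  decide +kernel

set_option maxRecDepth 1000000 in
theorem mpre0_o1 : orbC GENS (78, mtr0) 1 = true := by
  decide +kernel

set_option maxRecDepth 1000000 in
theorem mpre0_o2 : orbC GENS (78, mtr0) 2 = true := by
  decide +kernel

set_option maxRecDepth 1000000 in
theorem mpre0_o3 : orbC GENS (78, mtr0) 3 = true := by
  decide +kernel

set_option maxRecDepth 1000000 in
theorem mpre0_o4 : orbC GENS (78, mtr0) 4 = true := by
  decide +kernel

set_option maxRecDepth 1000000 in
theorem mpre0_o5 : orbC GENS (78, mtr0) 5 = true := by
  decide +kernel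

set_option maxRecDepth 1000000 in
theorem mpre0_o6 : orbC GENS (78, mtr0) 6 = true := by
  decide +kernel

set_option maxRecDepth 1000000 in
theorem mpre0_o7 : orbC GENS (78, mtr0) 7 = true := by
  decide +kernel

set_option maxRecDepth 1000000 in
theorem mpre0_o8 : orbC GENS (78, mtr0) 8 = true := by
  decide +kernel

end Cfsg.Agent.Lib.Helper28.Co3A
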