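import Cfsg.Agent.Lib.Helper28.Co3ACertP0
import Cfsg.Agent.Lib.Helper28.Co3ACertP1

/-!
# Certificates for the automorphisms of the third Conway group: the conditions at the first level

Generated by a script.
-/

set_option autoImplicit false
set_option Elab.async false

namespace Cfsg.Agent.Lib.Helper28.Co3A

open Cfsg.Agent.Lib.Helper28.BSGS Cfsg.Agent.Lib.Helper28.Co3AData

set_option maxRecDepth 1000000 in
theorem mtlP : mtr0.length = 552 := by
  decide +kernel

theorem mpre0 : levelPre GENS (78, mtr0) = true := by
  refine levelPre_of GENS (78, mtr0) 9 (by rw [show ((78, mtr0) : CLevel).2 = mtr0 from rfl, mtlP]; norm_num) mpre0_0 ?_ ?_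
  · intro i hi
    interval_cases i
    · exact mpre0_e0
    · exact mpre0_e1
    · exact mpre0_e2
    · exact mpre0_e3
    · exact mpre0_e4
    · exact mpre0_e5
    · exact mpre0_e6
    · exact mpre0_e7
    · exact mpre0_e8
  · intro i hi
    interval_cases i
    · exact mpre0_o0
    · exact mpre0_o1
    · exact mpre0_o2
    · exact mpre0_o3
    · exact mpre0_o4
    · exact mpre0_o5
    · exact mpre0_o6
    · exact mpre0_o7
    · exact mpre0_o8

end Cfsg.Agent.Lib.Helper28.Co3A
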