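import Cfsg.Agent.Lib.Helper28.Co3ACertA15
import Cfsg.Agent.Lib.Helper28.Co3ACertA14
import Cfsg.Agent.Lib.Helper28.Co3ACertA13
import Cfsg.Agent.Lib.Helper28.Co3ACertA12
import Cfsg.Agent.Lib.Helper28.Co3ACertP

/-!
# Certificates for the automorphisms of the third Conway group: the Schreier–Sims chain

Generated by a script.
-/

set_option autoImplicit false
set_option Elab.async false

namespace Cfsg.Agent.Lib.Helper28.Co3A

open Cfsg.Agent.Lib.Helper28.BSGS Cfsg.Agent.Lib.Helper28.Co3AData

theorem msift0 : ∀ i, i < 8 → ∀ j, j < 9 → siftGenC (78, mtr0) [(87, mtr1), (275, mtr2), (551, mtr3), (86, mtr4), (177, mtr5)] (GENS.getD i (0, 0)) j = true := by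
  intro i hi j hj
  interval_cases i <;> interval_cases j
  · exact msift0_0_0
  · exact msift0_0_1
  · exact msift0_0_2
  · exact msift0_0_3
  · exact msift0_0_4
  · exact msift0_0_5
  · exact msift0_0_6
  · exact msift0_0_7
  · exact msift0_0_8
  · exact msift0_1_0
  · exact msift0_1_1
  · exact msift0_1_2
  · exact msift0_1_3
  · exact msift0_1_4
  · exact msift0_1_5
  · exact msift0_1_6
  · exact msift0_1_7
  · exact msift0_1_8
  · exact msift0_2_0
  · exact msift0_2_1
  · exact msift0_2_2
  · exact msift0_2_3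
  · exact msift0_2_4
  · exact msift0_2_5
  · exact msift0_2_6
  · exact msift0_2_7
  · exact msift0_2_8
  · exact msift0_3_0
  · exact msift0_3_1
  · exact msift0_3_2
  · exact msift0_3_3
  · exact msift0_3_4
  · exact msift0_3_5
  · exact msift0_3_6
  · exact msift0_3_7
  · exact msift0_3_8
  · exact msift0_4_0
  · exact msift0_4_1
  · exact msift0_4_2
  · exact msift0_4_3
  · exact msift0_4_4
  · exact msift0_4_5
  · exact msift0_4_6
  · exact msift0_4_7
  · exact msift0_4_8
  · exact msift0_5_0
  · exact msift0_5_1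
  · exact msift0_5_2
  · exact msift0_5_3
  · exact msift0_5_4
  · exact msift0_5_5
  · exact msift0_5_6
  · exact msift0_5_7
  · exact msift0_5_8
  · exact msift0_6_0
  · exact msift0_6_1
  · exact msift0_6_2
  · exact msift0_6_3
  · exact msift0_6_4
  · exact msift0_6_5
  · exact msift0_6_6
  · exact msift0_6_7
  · exact msift0_6_8
  · exact msift0_7_0
  · exact msift0_7_1
  · exact msift0_7_2
  · exact msift0_7_3
  · exact msift0_7_4
  · exact msift0_7_5
  · exact msift0_7_6
  · exact msift0_7_7
  · exact msift0_7_8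

theorem msift1 : ∀ i, i < 6 → ∀ j, j < 5 → siftGenC (87, mtr1) [(275, mtr2), (551, mtr3), (86, mtr4), (177, mtr5)] ((nextGens 10 GENS 78).getD i (0, 0)) j = true := by
  intro i hi j hj
  interval_cases i <;> interval_cases j
  · exact msift1_0_0
  · exact msift1_0_1
  · exact msift1_0_2
  · exact msift1_0_3
  · exact msift1_0_4
  · exact msift1_1_0
  · exact msift1_1_1
  · exact msift1_1_2
  · exact msift1_1_3
  · exact msift1_1_4
  · exact msift1_2_0
  · exact msift1_2_1
  · exact msift1_2_2
  · exact msift1_2_3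
  · exact msift1_2_4
  · exact msift1_3_0
  · exact msift1_3_1
  · exact msift1_3_2
  · exact msift1_3_3
  · exact msift1_3_4
  · exact msift1_4_0
  · exact msift1_4_1
  · exact msift1_4_2
  · exact msift1_4_3
  · exact msift1_4_4
  · exact msift1_5_0
  · exact msift1_5_1
  · exact msift1_5_2
  · exact msift1_5_3
  · exact msift1_5_4

theorem msift2 : ∀ i, i < 5 → ∀ j, j < 3 → siftGenC (275, mtr2) [(551, mtr3), (86, mtr4), (177, mtr5)] ((nextGens 10 (nextGens 10 GENS 78) 87).getD i (0, 0)) j = true := by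
  intro i hi j hj
  interval_cases i <;> interval_cases j
  · exact msift2_0_0
  · exact msift2_0_1
  · exact msift2_0_2
  · exact msift2_1_0
  · exact msift2_1_1
  · exact msift2_1_2
  · exact msift2_2_0
  · exact msift2_2_1
  · exact msift2_2_2
  · exact msift2_3_0
  · exact msift2_3_1
  · exact msift2_3_2
  · exact msift2_4_0
  · exact msift2_4_1
  · exact msift2_4_2

theorem msift3 : ∀ i, i < 4 → ∀ j, j < 2 → siftGenC (551, mtr3) [(86, mtr4), (177, mtr5)] ((nextGens 10 (nextGens 10 (nextGens 10 GENS 78) 87) 275).getD i (0, 0)) j = true := by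
  intro i hi j hj
  interval_cases i <;> interval_cases j
  · exact msift3_0_0
  · exact msift3_0_1
  · exact msift3_1_0
  · exact msift3_1_1
  · exact msift3_2_0
  · exact msift3_2_1
  · exact msift3_3_0
  · exact msift3_3_1

theorem msift4 : ∀ i, i < 3 → ∀ j, j < 1 → siftGenC (86, mtr4) [(177, mtr5)] ((nextGens 10 (nextGens 10 (nextGens 10 (nextGens 10 GENS 78) 87) 275) 551).getD i (0, 0)) j = true := by
  intro i hi j hj
  interval_cases i <;> interval_cases j
  · exact msift4_0_0
  · exact msift4_1_0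
  · exact msift4_2_0

theorem msift5 : ∀ i, i < 1 → ∀ j, j < 1 → siftGenC (177, mtr5) [] ((nextGens 10 (nextGens 10 (nextGens 10 (nextGens 10 (nextGens 10 GENS 78) 87) 275) 551) 86).getD i (0, 0)) j = true := by
  intro i hi j hj
  interval_cases i <;> interval_cases j
  · exact msift5_0_0

theorem chain_ok : checkChain 552 10 GENS LEVELS = true := by
  have e : LEVELS = [(78, mtr0), (87, mtr1), (275, mtr2), (551, mtr3), (86, mtr4), (177, mtr5)] := rfl
  rw [e]
  refine checkChain_cons _ _ _ (levelOK_of _ _ _ 8 9 mlen0 (by rw [show ((78, mtr0) : CLevel).2 = mtr0 from rfl, mtl0] <;> norm_num) mpre0 msift0) ?_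
  refine checkChain_cons _ _ _ (levelOK_of _ _ _ 6 5 mlen1 (by rw [show ((87, mtr1) : CLevel).2 = mtr1 from rfl, mtl1] <;> norm_num) mpre1 msift1) ?_
  refine checkChain_cons _ _ _ (levelOK_of _ _ _ 5 3 mlen2 (by rw [show ((275, mtr2) : CLevel).2 = mtr2 from rfl, mtl2] <;> norm_num) mpre2 msift2) ?_
  refine checkChain_cons _ _ _ (levelOK_of _ _ _ 4 2 mlen3 (by rw [show ((551, mtr3) : CLevel).2 = mtr3 from rfl, mtl3] <;> norm_num) mpre3 msift3) ?_
  refine checkChain_cons _ _ _ (levelOK_of _ _ _ 3 1 mlen4 (by rw [show ((86, mtr4) : CLevel).2 = mtr4 from rfl, mtl4] <;> norm_num) mpre4 msift4) ?_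
  refine checkChain_cons _ _ _ (levelOK_of _ _ _ 1 1 mlen5 (by rw [show ((177, mtr5) : CLevel).2 = mtr5 from rfl, mtl5] <;> norm_num) mpre5 msift5) ?_
  unfold checkChain
  exact mlen6

end Cfsg.Agent.Lib.Helper28.Co3A
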