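import Cfsg.Agent.Lib.Helper28.Co3ACertA11

/-!
# Certificates for the automorphisms of the third Conway group: the Schreier–Sims chain, part 16

Generated by a script.
-/

set_option autoImplicit false
set_option Elab.async false

namespace Cfsg.Agent.Lib.Helper28.Co3A

open Cfsg.Agent.Lib.Helper28.BSGS Cfsg.Agent.Lib.Helper28.Co3AData

set_option maxRecDepth 1000000 in
theorem msift3_3_0 : siftGenC (551, mtr3) [(86, mtr4), (177, mtr5)] ((nextGens 10 (nextGens 10 (nextGens 10 GENS 78) 87) 275).getD 3 (0, 0)) 0 = true := by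
  decide +kernel

set_option maxRecDepth 1000000 in
theorem msift3_3_1 : siftGenC (551, mtr3) [(86, mtr4), (177, mtr5)] ((nextGens 10 (nextGens 10 (nextGens 10 GENS 78) 87) 275).getD 3 (0, 0)) 1 = true := by
  decide +kernel

set_option maxRecDepth 1000000 in
theorem mlen4 : (nextGens 10 (nextGens 10 (nextGens 10 (nextGens 10 GENS 78) 87) 275) 551).length = 3 := by
  decide +kernel

set_option maxRecDepth 1000000 in
theorem mtl4 : mtr4.length = 64 := by
  decide +kernel

set_option maxRecDepth 1000000 in
theorem mpre4 : levelPre (nextGens 10 (nextGens 10 (nextGens 10 (nextGens 10 GENS 78) 87) 275) 551) (86, mtr4) = true := by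
  decide +kernel

set_option maxRecDepth 1000000 in
theorem msift4_0_0 : siftGenC (86, mtr4) [(177, mtr5)] ((nextGens 10 (nextGens 10 (nextGens 10 (nextGens 10 GENS 78) 87) 275) 551).getD 0 (0, 0)) 0 = true := by
  decide +kernel

set_option maxRecDepth 1000000 in
theorem msift4_1_0 : siftGenC (86, mtr4) [(177, mtr5)] ((nextGens 10 (nextGens 10 (nextGens 10 (nextGens 10 GENS 78) 87) 275) 551).getD 1 (0, 0)) 0 = true := by
  decide +kernel

set_option maxRecDepth 1000000 in
theorem msift4_2_0 : siftGenC (86, mtr4) [(177, mtr5)] ((nextGens 10 (nextGens 10 (nextGens 10 (nextGens 10 GENS 78) 87) 275) 551).getD 2 (0, 0)) 0 = true := by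
  decide +kernel

set_option maxRecDepth 1000000 in
theorem mlen5 : (nextGens 10 (nextGens 10 (nextGens 10 (nextGens 10 (nextGens 10 GENS 78) 87) 275) 551) 86).length = 1 := by
  decide +kernel

set_option maxRecDepth 1000000 in
theorem mtl5 : mtr5.length = 3 := by
  decide +kernel

set_option maxRecDepth 1000000 in
theorem mpre5 : levelPre (nextGens 10 (nextGens 10 (nextGens 10 (nextGens 10 (nextGens 10 GENS 78) 87) 275) 551) 86) (177, mtr5) = true := by
  decide +kernel

set_option maxRecDepth 1000000 in
theorem msift5_0_0 : siftGenC (177, mtr5) [] ((nextGens 10 (nextGens 10 (nextGens 10 (nextGens 10 (nextGens 10 GENS 78) 87) 275) 551) 86).getD 0 (0, 0)) 0 = true := by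
  decide +kernel

set_option maxRecDepth 1000000 in
theorem mlen6 : (nextGens 10 (nextGens 10 (nextGens 10 (nextGens 10 (nextGens 10 (nextGens 10 GENS 78) 87) 275) 551) 86) 177).isEmpty = true := by
  decide +kernel

end Cfsg.Agent.Lib.Helper28.Co3A
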