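import Cfsg.Agent.Lib.Helper28.Co3ACert0

/-!
# Certificates for the automorphisms of the third Conway group: the Schreier–Sims chain, part 3

Generated by a script.
-/

set_option autoImplicit false
set_option Elab.async false

namespace Cfsg.Agent.Lib.Helper28.Co3A

open Cfsg.Agent.Lib.Helper28.BSGS Cfsg.Agent.Lib.Helper28.Co3AData

set_option maxRecDepth 1000000 in
theorem msift0_1_5 : siftGenC (78, mtr0) [(87, mtr1), (275, mtr2), (551, mtr3), (86, mtr4), (177, mtr5)] (GENS.getD 1 (0, 0)) 5 = true := by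
  decide +kernel

set_option maxRecDepth 1000000 in
theorem msift0_1_6 : siftGenC (78, mtr0) [(87, mtr1), (275, mtr2), (551, mtr3), (86, mtr4), (177, mtr5)] (GENS.getD 1 (0, 0)) 6 = true := by
  decide +kernel

set_option maxRecDepth 1000000 in
theorem msift0_1_7 : siftGenC (78, mtr0) [(87, mtr1), (275, mtr2), (551, mtr3), (86, mtr4), (177, mtr5)] (GENS.getD 1 (0, 0)) 7 = true := by
  decide +kernel

set_option maxRecDepth 1000000 in
theorem msift0_1_8 : siftGenC (78, mtr0) [(87, mtr1), (275, mtr2), (551, mtr3), (86, mtr4), (177, mtr5)] (GENS.getD 1 (0, 0)) 8 = true := by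
  decide +kernel

set_option maxRecDepth 1000000 in
theorem msift0_2_0 : siftGenC (78, mtr0) [(87, mtr1), (275, mtr2), (551, mtr3), (86, mtr4), (177, mtr5)] (GENS.getD 2 (0, 0)) 0 = true := by
  decide +kernel

set_option maxRecDepth 1000000 in
theorem msift0_2_1 : siftGenC (78, mtr0) [(87, mtr1), (275, mtr2), (551, mtr3), (86, mtr4), (177, mtr5)] (GENS.getD 2 (0, 0)) 1 = true := by
  decide +kernel

set_option maxRecDepth 1000000 in
theorem msift0_2_2 : siftGenC (78, mtr0) [(87, mtr1), (275, mtr2), (551, mtr3), (86, mtr4), (177, mtr5)] (GENS.getD 2 (0, 0)) 2 = true := by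
  decide +kernel

end Cfsg.Agent.Lib.Helper28.Co3A
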