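import Cfsg.Agent.Lib.Helper28.Co3ACertL4
import Cfsg.Agent.Lib.Helper28.Co3ACertL5

/-!
# Certificates for the automorphisms of the third Conway group: the lattice side

The assembly of the six parts.
-/

set_option autoImplicit false
set_option Elab.async false

namespace Cfsg.Agent.Lib.Helper28.Co3A

open Cfsg.Agent.Lib.Helper28.BSGS Cfsg.Agent.Lib.Helper28.Co3AData
open Cfsg.Agent.Helper4.CO

theorem xl_in : ∀ i : Fin 552, InLP (xl i.val) := by
  intro i
  have hi := i.isLt
  have key : ∀ (k : ℕ) (hk : k < 6) (j : Fin 92), InLP (xl (92 * k + j.val)) := by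
    intro k hk
    interval_cases k
    · exact xl_in_0
    · exact xl_in_1
    · exact xl_in_2
    · exact xl_in_3
    · exact xl_in_4
    · exact xl_in_5
  have h := key (i.val / 92) (by omega) ⟨i.val % 92, Nat.mod_lt _ (by norm_num)⟩
  have e : 92 * (i.val / 92) + i.val % 92 = i.val := Nat.div_add_mod _ _
  simp only [e] at h
  exact h

theorem xl_dots : ∀ i : Fin 552, dotL (xl i.val) (xl i.val) = 32 ∧
    dotL Cfsg.Agent.Helper4.CO.C3.anc0 (xl i.val) = 24 := by
  intro i
  have hi := i.isLt
  have key : ∀ (k : ℕ) (hk : k < 6) (j : Fin 92), dotL (xl (92 * k + j.val)) (xl (92 * k + j.val)) = 32 ∧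
    dotL Cfsg.Agent.Helper4.CO.C3.anc0 (xl (92 * k + j.val)) = 24 := by
    intro k hk
    interval_cases k
    · exact xl_dots_0
    · exact xl_dots_1
    · exact xl_dots_2
    · exact xl_dots_3
    · exact xl_dots_4
    · exact xl_dots_5
  have h := key (i.val / 92) (by omega) ⟨i.val % 92, Nat.mod_lt _ (by norm_num)⟩
  have e : 92 * (i.val / 92) + i.val % 92 = i.val := Nat.div_add_mod _ _
  simp only [e] at h
  exact h

theorem act_p0 : ∀ i : Fin 552, Cfsg.Agent.Helper4.CO.C3.g0.act (xl i.val) =
    xl (look 10 tp0 i.val) := by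
  intro i
  have hi := i.isLt
  have key : ∀ (k : ℕ) (hk : k < 6) (j : Fin 92), Cfsg.Agent.Helper4.CO.C3.g0.act (xl (92 * k + j.val)) =
    xl (look 10 tp0 (92 * k + j.val)) := by
    intro k hk
    interval_cases k
    · exact act_p0_0
    · exact act_p0_1
    · exact act_p0_2
    · exact act_p0_3
    · exact act_p0_4
    · exact act_p0_5
  have h := key (i.val / 92) (by omega) ⟨i.val % 92, Nat.mod_lt _ (by norm_num)⟩
  have e : 92 * (i.val / 92) + i.val % 92 = i.val := Nat.div_add_mod _ _
  simp only [e] at h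
  exact h

theorem act_p1 : ∀ i : Fin 552, Cfsg.Agent.Helper4.CO.C3.g1.act (xl i.val) =
    xl (look 10 tp1 i.val) := by
  intro i
  have hi := i.isLt
  have key : ∀ (k : ℕ) (hk : k < 6) (j : Fin 92), Cfsg.Agent.Helper4.CO.C3.g1.act (xl (92 * k + j.val)) =
    xl (look 10 tp1 (92 * k + j.val)) := by
    intro k hk
    interval_cases k
    · exact act_p1_0
    · exact act_p1_1
    · exact act_p1_2
    · exact act_p1_3
    · exact act_p1_4
    · exact act_p1_5
  have h := key (i.val / 92) (by omega) ⟨i.val % 92, Nat.mod_lt _ (by norm_num)⟩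
  have e : 92 * (i.val / 92) + i.val % 92 = i.val := Nat.div_add_mod _ _
  simp only [e] at h
  exact h

theorem act_p2 : ∀ i : Fin 552, Cfsg.Agent.Helper4.CO.C3.g2.act (xl i.val) =
    xl (look 10 tp2 i.val) := by
  intro i
  have hi := i.isLt
  have key : ∀ (k : ℕ) (hk : k < 6) (j : Fin 92), Cfsg.Agent.Helper4.CO.C3.g2.act (xl (92 * k + j.val)) =
    xl (look 10 tp2 (92 * k + j.val)) := by
    intro k hk
    interval_cases k
    · exact act_p2_0
    · exact act_p2_1
    · exact act_p2_2
    · exact act_p2_3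
    · exact act_p2_4
    · exact act_p2_5
  have h := key (i.val / 92) (by omega) ⟨i.val % 92, Nat.mod_lt _ (by norm_num)⟩
  have e : 92 * (i.val / 92) + i.val % 92 = i.val := Nat.div_add_mod _ _
  simp only [e] at h
  exact h

theorem act_p3 : ∀ i : Fin 552, Cfsg.Agent.Helper4.CO.C3.g3.act (xl i.val) =
    xl (look 10 tp3 i.val) := by
  intro i
  have hi := i.isLt
  have key : ∀ (k : ℕ) (hk : k < 6) (j : Fin 92), Cfsg.Agent.Helper4.CO.C3.g3.act (xl (92 * k + j.val)) =
    xl (look 10 tp3 (92 * k + j.val)) := by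
    intro k hk
    interval_cases k
    · exact act_p3_0
    · exact act_p3_1
    · exact act_p3_2
    · exact act_p3_3
    · exact act_p3_4
    · exact act_p3_5
  have h := key (i.val / 92) (by omega) ⟨i.val % 92, Nat.mod_lt _ (by norm_num)⟩
  have e : 92 * (i.val / 92) + i.val % 92 = i.val := Nat.div_add_mod _ _
  simp only [e] at h
  exact h

end Cfsg.Agent.Lib.Helper28.Co3A
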