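import Cfsg.Agent.Lib.Helper28.Co3ACertL1

/-!
# Certificates for the automorphisms of the third Conway group: the lattice side, part 4

The integer lists code vectors of the rank-24 lattice with the right inner products, and the four
explicit automorphisms of the lattice permute them as the four tables say: the indices from 276 on.
Generated by a script.
-/

set_option autoImplicit false
set_option Elab.async false

namespace Cfsg.Agent.Lib.Helper28.Co3A

open Cfsg.Agent.Lib.Helper28.BSGS Cfsg.Agent.Lib.Helper28.Co3AData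
open Cfsg.Agent.Helper4.CO

set_option maxRecDepth 1000000 in
theorem xl_in_3 : ∀ i : Fin 92, InLP (xl (92 * 3 + i.val)) := by
  decide +kernel

set_option maxRecDepth 1000000 in
theorem xl_dots_3 : ∀ i : Fin 92, dotL (xl (92 * 3 + i.val)) (xl (92 * 3 + i.val)) = 32 ∧
    dotL Cfsg.Agent.Helper4.CO.C3.anc0 (xl (92 * 3 + i.val)) = 24 := by
  decide +kernel

set_option maxRecDepth 1000000 in
theorem act_p0_3 : ∀ i : Fin 92, Cfsg.Agent.Helper4.CO.C3.g0.act (xl (92 * 3 + i.val)) =
    xl (look 10 tp0 (92 * 3 + i.val)) := by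
  decide +kernel

set_option maxRecDepth 1000000 in
theorem act_p1_3 : ∀ i : Fin 92, Cfsg.Agent.Helper4.CO.C3.g1.act (xl (92 * 3 + i.val)) =
    xl (look 10 tp1 (92 * 3 + i.val)) := by
  decide +kernel

set_option maxRecDepth 1000000 in
theorem act_p2_3 : ∀ i : Fin 92, Cfsg.Agent.Helper4.CO.C3.g2.act (xl (92 * 3 + i.val)) =
    xl (look 10 tp2 (92 * 3 + i.val)) := by
  decide +kernel

set_option maxRecDepth 1000000 in
theorem act_p3_3 : ∀ i : Fin 92, Cfsg.Agent.Helper4.CO.C3.g3.act (xl (92 * 3 + i.val)) =
    xl (look 10 tp3 (92 * 3 + i.val)) := by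
  decide +kernel

end Cfsg.Agent.Lib.Helper28.Co3A
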