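import Cfsg.Agent.Lib.Helper28.BSGSImg
import Cfsg.Agent.Lib.Helper28.Co3AData

/-!
# The automorphisms of the third Conway group: the Boolean checks

The group `H₀` is generated by three permutations `a` (of order 23), `d` (of order 11, with
`d a d⁻¹ = a²`) and `z` (an involution commuting with `d`) of 552 points.  The base of the
Schreier–Sims chain lies in one cycle of `a`: it consists of `v₀`, a fixed point of `d`, and of the
images of `v₀` under `a`, `a²`, `a⁴`, `a⁸`, `a¹⁶`, which are also the images of `a v₀` under the powers
of `d`.  Hence an element commuting with `a` is known once the image of `v₀` is known, and an element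
commuting with `d` is known once the images of `v₀` and `a v₀` are known; all other candidate images
are excluded by sifting the would-be images of the base through the chain.
-/

set_option autoImplicit false

namespace Cfsg.Agent.Lib.Helper28.Co3A

open Cfsg.Agent.Lib.Helper28.BSGS Cfsg.Agent.Lib.Helper28.Co3AData

/-- the `i`-th block of `s` entries -/
def chunkL {α : Type} (s : ℕ) (l : List α) (i : ℕ) : List α := (l.drop (s * i)).take s

theorem mem_chunkL {α : Type} {s : ℕ} (hs : 0 < s) {l : List α} {e : α} (he : e ∈ l) :
    ∃ i, s * i < l.length ∧ e ∈ chunkL s l i := by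
  obtain ⟨k, hk, rfl⟩ := List.mem_iff_getElem.mp he
  have h0 : s * (k / s) + k % s = k := Nat.div_add_mod k s
  have hmod : k % s < s := Nat.mod_lt _ hs
  refine ⟨k / s, by omega, ?_⟩
  unfold chunkL
  rw [List.mem_iff_getElem]
  have h1 : k % s < ((l.drop (s * (k / s))).take s).length := by
    rw [List.length_take, List.length_drop]; omega
  refine ⟨k % s, h1, ?_⟩
  rw [List.getElem_take, List.getElem_drop]
  congr 1

/-- a Boolean condition on all entries, checked block by block -/
theorem all_of_chunkL {α : Type} {s : ℕ} (hs : 0 < s) (l : List α) (f : α → Bool) (n : ℕ)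
    (hlen : l.length ≤ s * n) (h : ∀ i, i < n → (chunkL s l i).all f = true) :
    ∀ e ∈ l, f e = true := by
  intro e he
  obtain ⟨i, hi, hmem⟩ := mem_chunkL hs he
  have hin : i < n := by
    by_contra hcon
    have : s * n ≤ s * i := Nat.mul_le_mul_left s (by omega)
    omega
  have := h i hin
  rw [List.all_eq_true] at this
  exact this e hmem

/-! ### straight-line programs -/

/-- every entry is a valid pair of tables and the product of known tables -/
def slpOK : List ℕ → List (ℕ × ℕ × List ℕ) → Bool
  | _, [] => true
  | known, e :: rest =>
      pairOK 552 10 e.1 e.2.1 && e.2.2.all (fun t => known.contains t) &&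
        wordEq 552 10 [e.1] e.2.2 && slpOK (e.1 :: e.2.1 :: known) rest

/-- the tables known after running the program -/
def slpKnown : List ℕ → List (ℕ × ℕ × List ℕ) → List ℕ
  | known, [] => known
  | known, e :: rest => slpKnown (e.1 :: e.2.1 :: known) rest

/-! ### splitting the Schreier–Sims certificate -/

/-- sifting the products of one generator with the transversal elements of one block -/
def siftGenC (lv : CLevel) (rest : List CLevel) (g : ℕ × ℕ) (i : ℕ) : Bool :=
  (chunkL 64 lv.2 i).all fun e => siftB 552 10 (lv :: rest) [g.1, e.2.1]

/-- the other conditions at one level -/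
def levelPre (gens : List (ℕ × ℕ)) (lv : CLevel) : Bool :=
  decide (lv.1 < 552) && headOK 552 10 lv.1 lv.2 && lv.2.all (entryOK 552 10 lv.1) &&
  nodupB (lv.2.map fun e => e.1) &&
  orbitOK 10 gens [lv.1] ((lv.2.map fun e => e.1).tail)

theorem levelOK_of (gens : List (ℕ × ℕ)) (lv : CLevel) (rest : List CLevel) (m k : ℕ)
    (hm : gens.length = m) (hk : lv.2.length ≤ 64 * k) (h1 : levelPre gens lv = true)
    (h2 : ∀ i, i < m → ∀ j, j < k → siftGenC lv rest (gens.getD i (0, 0)) j = true) :
    levelOK 552 10 gens lv rest = true := by
  have h3 : gens.all (fun g => lv.2.all fun e => siftB 552 10 (lv :: rest) [g.1, e.2.1]) =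
      true := by
    rw [List.all_eq_true]
    intro g hg
    obtain ⟨i, hi, rfl⟩ := List.mem_iff_getElem.mp hg
    rw [List.all_eq_true]
    apply all_of_chunkL (s := 64) (by norm_num) lv.2 _ k hk
    intro j hj
    have := h2 i (hm ▸ hi) j hj
    rw [List.getD_eq_getElem _ _ hi] at this
    exact this
  unfold levelOK
  unfold levelPre at h1
  rw [h1, h3]
  rfl

theorem checkChain_cons (gens : List (ℕ × ℕ)) (lv : CLevel) (rest : List CLevel)
    (h1 : levelOK 552 10 gens lv rest = true)
    (h2 : checkChain 552 10 (nextGens 10 gens lv.1) rest = true) :
    checkChain 552 10 gens (lv :: rest) = true := by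
  unfold checkChain
  rw [h1, h2]
  rfl

/-! ### the centralizers -/

/-- the first base point, a fixed point of `d` -/
def V0 : ℕ := LEVELS.headD (0, []) |>.1

/-- the second base point, the image of the first under `a` -/
def B1 : ℕ := look 10 ta V0

/-- the would-be images of the base points under an element commuting with `a` that maps the
first base point to `y` -/
def imgsA (y : ℕ) : List ℕ := [0, 1, 2, 4, 8, 16].map fun k => (look 10 ta)^[k] y

/-- the would-be images of the base points under an element commuting with `d` that maps the
first two base points to `y0`, `y1` -/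
def imgsD (y0 y1 : ℕ) : List ℕ := y0 :: (List.range 5).map fun k => (look 10 td)^[k] y1

/-- the word of tables of `d ^ i * z ^ j` -/
def wd (i j : ℕ) : List ℕ := List.replicate i td ++ List.replicate j tz

/-- every candidate image of the first base point under an element commuting with `a` is the image
under a power of `a`, or fails to sift -/
def centAOK (y : ℕ) : Bool :=
  ((List.range 23).any fun i => Nat.beq y (evalW 10 (List.replicate i ta) V0)) ||
    !(imgOK 10 LEVELS (imgsA y))

/-- every candidate pair of images of the first two base points under an element commuting with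
`d` comes from some `d ^ i * z ^ j`, or fails to sift -/
def centDOK (y0 y1 : ℕ) : Bool :=
  ((List.range 11).any fun i => (List.range 2).any fun j =>
    Nat.beq y0 (evalW 10 (wd i j) V0) && Nat.beq y1 (evalW 10 (wd i j) B1)) ||
    !(imgOK 10 LEVELS (imgsD y0 y1))

/-! ### the lattice side -/

/-- the list packed in a number -/
def unpackV (X : ℕ) : List ℤ := (List.range 24).map fun p => ((X / 16 ^ p % 16 : ℕ) : ℤ) - 8

/-- the integer list of a vector -/
def xl (i : ℕ) : List ℤ := unpackV (XN.getD i 0)

end Cfsg.Agent.Lib.Helper28.Co3A
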