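import Cfsg.Prelude.Def_Spor_Conway
import Cfsg.Prelude.Def_KGroupFacts
import Cfsg.Agent.Lib.Helper4.Orb.GrpCo3
import Cfsg.Agent.Lib.Helper28.Co3ACertL
import Cfsg.Agent.Lib.Helper28.Co3A

/-!
# The third Conway group of the list and the group on 552 points

The stabilizer of the vector `(5, 1, …, 1)` of the rank-24 lattice is simple of order
`495766656000` and acts on the 552 vectors of sum of squares 32 whose inner product with it is 24.
Four explicit automorphisms in this stabilizer induce four explicit permutations of the 552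
vectors, and the three generators `a`, `d`, `z` of the explicit group of order `495766656000` on 552
points are products of these.  Hence the stabilizer is isomorphic to the explicit group, and every
automorphism of the third Conway group is inner.
-/

set_option autoImplicit false
set_option maxRecDepth 100000

namespace Cfsg.Agent.Lib.Helper28.Co3B

/-- isomorphic groups have outer automorphism groups of the same order -/
theorem out_card_congr {G : Type*} {H : Type*} [Group G] [Group H] (e : G ≃* H) :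
    Nat.card (Cfsg.Out G) = Nat.card (Cfsg.Out H) := by
  show Nat.card (MulAut G ⧸ Cfsg.Inn G) = Nat.card (MulAut H ⧸ Cfsg.Inn H)
  rw [← Subgroup.index_eq_card, ← Subgroup.index_eq_card,
    ← Subgroup.index_map_equiv (Cfsg.Inn G) (MulAut.congr e)]
  congr 1
  ext φ
  constructor
  · rintro ⟨ψ, ⟨g, rfl⟩, rfl⟩
    refine ⟨e g, ?_⟩
    ext x
    simp [MulAut.congr]
  · rintro ⟨h, rfl⟩
    refine ⟨MulAut.conj (e.symm h), ⟨e.symm h, rfl⟩, ?_⟩
    ext x
    simp [MulAut.congr]

open Cfsg Cfsg.Spor MulAction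
open Cfsg.Agent.Helper4.CO Cfsg.Agent.Helper4.CO.Grp Cfsg.Agent.Helper4.LC
open Cfsg.Agent.Lib.Helper28.Co3A Cfsg.Agent.Lib.Helper28.Co3AData Cfsg.Agent.Lib.Helper28.BSGS

/-! ### the 552 vectors -/

/-- the lattice group -/
abbrev HB : Subgroup ↥Co0 := stabilizer ↥Co0 mU

theorem hB : SimpCard ↥HB 495766656000 := co3_simpCard mU mU_norm

/-- the 552 vectors -/
def xs (i : Fin 552) : leechLattice := mkL (xl i.val) (xl_in i)

theorem xs_coe (i : Fin 552) : ((xs i : leechLattice) : GolayPt → ℤ) = toV (xl i.val) := rfl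

/-- the set of the 552 vectors -/
def X : Set leechLattice := dotSet 32 mU 0 0 (24, 0, 0)

theorem mU_coe : ((mU : leechLattice) : GolayPt → ℤ) = toV C3.anc0 := rfl

theorem xs_mem (i : Fin 552) : xs i ∈ X := by
  unfold X
  rw [mem_dotSet_zero23]
  obtain ⟨h1, h2⟩ := xl_dots i
  refine ⟨?_, ?_⟩
  · rw [xs_coe, sqNorm_toV _ (xl_in i).1]; exact h1
  · rw [mU_coe, xs_coe, dotInt_toV _ _ C3.anc0_in.1 (xl_in i).1]; exact h2

/-- a number computed from a list of integers -/
def keyV (l : List ℤ) : ℕ := l.foldr (fun v acc => (v + 8).toNat + 16 * acc) 0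

set_option maxRecDepth 1000000 in
theorem keys_nodup : nodupB ((List.range 552).map fun i => keyV (xl i)) = true := by
  decide +kernel

theorem xl_inj {i j : ℕ} (hi : i < 552) (hj : j < 552) (h : xl i = xl j) : i = j :=
  List.inj_on_of_nodup_map (nodupB_sound _ keys_nodup) (List.mem_range.mpr hi)
    (List.mem_range.mpr hj) (by rw [h])

theorem xs_inj : Function.Injective xs := by
  intro i j h
  apply Fin.ext
  apply xl_inj i.isLt j.isLt
  have h1 : ((xs i : leechLattice) : GolayPt → ℤ) = ((xs j : leechLattice) : GolayPt → ℤ) := by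
    rw [h]
  rw [xs_coe, xs_coe] at h1
  exact toV_inj (xl_in i).1 (xl_in j).1 h1

theorem X_ncard : X.ncard = 552 := C3.card_P mU mU_norm

theorem range_xs : Set.range xs = X := by
  have hfin : X.Finite := Set.finite_of_ncard_ne_zero (by rw [X_ncard]; norm_num)
  apply Set.eq_of_subset_of_ncard_le _ _ hfin
  · rintro _ ⟨i, rfl⟩
    exact xs_mem i
  · rw [X_ncard, ← Set.image_univ, Set.ncard_image_of_injective _ xs_inj, Set.ncard_univ,
      Nat.card_fin]

/-! ### the action -/

theorem smul_mem_X (g : ↥Co0) (hu : g • mU = mU) {x : leechLattice} (hx : x ∈ X) :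
    g • x ∈ X := by
  unfold X at hx ⊢
  rw [mem_dotSet_zero23] at hx ⊢
  refine ⟨by rw [co0_sqNorm']; exact hx.1, ?_⟩
  have h := co0_dot' g mU x
  rw [hu] at h
  rw [h]
  exact hx.2

theorem stab_u (g : ↥HB) : g.1 • mU = mU := MulAction.mem_stabilizer_iff.mp g.2

theorem exists_idx (g : ↥HB) (i : Fin 552) : ∃ j, xs j = g.1 • xs i := by
  have h : g.1 • xs i ∈ Set.range xs := by
    rw [range_xs]
    exact smul_mem_X g.1 (stab_u g) (xs_mem i)
  exact h

/-- the index of the image of the `i`-th vector -/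
noncomputable def idx (g : ↥HB) (i : Fin 552) : Fin 552 := (exists_idx g i).choose

theorem idx_spec (g : ↥HB) (i : Fin 552) : xs (idx g i) = g.1 • xs i :=
  (exists_idx g i).choose_spec

theorem idx_eq {g : ↥HB} {i j : Fin 552} (h : xs j = g.1 • xs i) : idx g i = j :=
  xs_inj (by rw [idx_spec, h])

theorem idx_one (i : Fin 552) : idx 1 i = i :=
  idx_eq (by rw [Subgroup.coe_one, one_smul])

theorem idx_mul (g h : ↥HB) (i : Fin 552) : idx (g * h) i = idx g (idx h i) :=
  idx_eq (by rw [idx_spec, idx_spec, Subgroup.coe_mul, mul_smul])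

/-- the action on the indices -/
noncomputable def fP : ↥HB →* Equiv.Perm (Fin 552) where
  toFun g :=
    { toFun := idx g
      invFun := idx g⁻¹
      left_inv := fun i => by rw [← idx_mul, inv_mul_cancel, idx_one]
      right_inv := fun i => by rw [← idx_mul, mul_inv_cancel, idx_one] }
  map_one' := Equiv.ext fun i => idx_one i
  map_mul' g h := Equiv.ext fun i => idx_mul g h i

theorem fP_apply (g : ↥HB) (i : Fin 552) : fP g i = idx g i := rfl

/-! ### the generators -/

theorem gen_elt (gen : Gen) (hgen : gen ∈ C3.gens) (t t' : ℕ)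
    (hact : ∀ i : Fin 552, gen.act (xl i.val) = xl (look 10 t i.val))
    (ht : pairOK 552 10 t t' = true) : permOf 552 10 t t' ∈ fP.range := by
  obtain ⟨hgood, _, hfix⟩ := C3.gensOK.2 gen hgen
  obtain ⟨g', hg'⟩ := Gen.elt gen hgood
  have hu : g' • mU = mU := by
    apply Subtype.ext
    rw [(hg' C3.anc0 C3.anc0_in.1).2 mU rfl, hfix C3.anc0 (by simp [C3.anchors])]
    rfl
  have hmem : g' ∈ HB := MulAction.mem_stabilizer_iff.mpr hu
  refine ⟨⟨g', hmem⟩, ?_⟩
  apply Equiv.ext
  intro i
  rw [fP_apply]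
  apply idx_eq
  apply Subtype.ext
  rw [(hg' (xl i.val) (xl_in i).1).2 (xs i) rfl, hact i, xs_coe, permOf_apply ht i]

/-- the four permutations -/
def p0 : Co3A.P552 := permOf 552 10 tp0 tpi0
/-- the four permutations -/
def p1 : Co3A.P552 := permOf 552 10 tp1 tpi1
/-- the four permutations -/
def p2 : Co3A.P552 := permOf 552 10 tp2 tpi2
/-- the four permutations -/
def p3 : Co3A.P552 := permOf 552 10 tp3 tpi3

theorem p0_mem : p0 ∈ fP.range := gen_elt C3.g0 (by simp [C3.gens]) tp0 tpi0 act_p0 pair_p0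
theorem p1_mem : p1 ∈ fP.range := gen_elt C3.g1 (by simp [C3.gens]) tp1 tpi1 act_p1 pair_p1
theorem p2_mem : p2 ∈ fP.range := gen_elt C3.g2 (by simp [C3.gens]) tp2 tpi2 act_p2 pair_p2
theorem p3_mem : p3 ∈ fP.range := gen_elt C3.g3 (by simp [C3.gens]) tp3 tpi3 act_p3 pair_p3

theorem knownP : ∀ t ∈ [tp0, tpi0, tp1, tpi1, tp2, tpi2, tp3, tpi3], Co3A.InK fP.range t := by
  intro t ht
  simp only [List.mem_cons, List.not_mem_nil, or_false] at ht
  rcases ht with rfl | rfl | rfl | rfl | rfl | rfl | rfl | rfl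
  · exact ⟨p0, p0_mem, Co3A.actsT_permOf pair_p0⟩
  · exact ⟨p0⁻¹, fP.range.inv_mem p0_mem, Co3A.actsT_permOf_inv pair_p0⟩
  · exact ⟨p1, p1_mem, Co3A.actsT_permOf pair_p1⟩
  · exact ⟨p1⁻¹, fP.range.inv_mem p1_mem, Co3A.actsT_permOf_inv pair_p1⟩
  · exact ⟨p2, p2_mem, Co3A.actsT_permOf pair_p2⟩
  · exact ⟨p2⁻¹, fP.range.inv_mem p2_mem, Co3A.actsT_permOf_inv pair_p2⟩
  · exact ⟨p3, p3_mem, Co3A.actsT_permOf pair_p3⟩
  · exact ⟨p3⁻¹, fP.range.inv_mem p3_mem, Co3A.actsT_permOf_inv pair_p3⟩

theorem knownP_all : ∀ t ∈ slpKnown [tp0, tpi0, tp1, tpi1, tp2, tpi2, tp3, tpi3] SLPP,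
    Co3A.InK fP.range t :=
  Co3A.slp_sound fP.range SLPP _ knownP slpP_ok

/-! ### the two groups -/

theorem adz_mem_range : Co3A.a ∈ fP.range ∧ Co3A.d ∈ fP.range ∧ Co3A.z ∈ fP.range := by
  have h := known_adz
  simp only [List.all_cons, List.all_nil, Bool.and_true, Bool.and_eq_true] at h
  obtain ⟨ha, hd, hz⟩ := h
  refine ⟨?_, ?_, ?_⟩
  · obtain ⟨g, hg, hact⟩ := knownP_all _ (List.contains_iff_mem.mp ha)
    rw [Co3A.a_acts.ext hact]; exact hg
  · obtain ⟨g, hg, hact⟩ := knownP_all _ (List.contains_iff_mem.mp hd)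
    rw [Co3A.d_acts.ext hact]; exact hg
  · obtain ⟨g, hg, hact⟩ := knownP_all _ (List.contains_iff_mem.mp hz)
    rw [Co3A.z_acts.ext hact]; exact hg

theorem fP_inj : Function.Injective fP := by
  rw [← MonoidHom.ker_eq_bot_iff]
  haveI := hB.1
  rcases (MonoidHom.normal_ker fP).eq_bot_or_eq_top with h | h
  · exact h
  · exfalso
    obtain ⟨g, hg⟩ := adz_mem_range.1
    have hk : g ∈ fP.ker := by rw [h]; exact Subgroup.mem_top g
    rw [MonoidHom.mem_ker, hg] at hk
    exact Co3A.a_ne_one hk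

theorem range_eq : fP.range = Co3A.Kadz := by
  have hle : Co3A.Kadz ≤ fP.range := by
    unfold Co3A.Kadz
    rw [Subgroup.closure_le]
    intro x hx
    rcases hx with rfl | rfl | hx
    · exact adz_mem_range.1
    · exact adz_mem_range.2.1
    · rw [Set.mem_singleton_iff] at hx
      rw [hx]
      exact adz_mem_range.2.2
  have hc : Nat.card fP.range = Nat.card Co3A.Kadz := by
    rw [← Nat.card_congr (MonoidHom.ofInjective fP_inj).toEquiv, hB.2, Co3A.card_Kadz]
  haveI := Co3A.finite_K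
  exact (Subgroup.eq_of_le_of_card_ge hle (by rw [hc])).symm

/-- the lattice group is the group on 552 points -/
noncomputable def hbEquiv : ↥HB ≃* ↥Co3A.Kadz :=
  (MonoidHom.ofInjective fP_inj).trans (MulEquiv.subgroupCongr range_eq)

/-! ### the third Conway group of the list -/

/-- the vector `(5, 1, …, 1)` with the 5 at the extra point -/
def uu : leechLattice := -leechV

theorem uu_norm : sqNorm (uu : GolayPt → ℤ) = 48 := by
  show sqNorm (-vecV) = 48
  decide +kernel

theorem mem_Co3_iff (g : Equiv.Perm leechLattice) :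
    g ∈ Spor.Co3 ↔ g ∈ Co0 ∧ g leechV = leechV := by
  unfold Spor.Co3
  rw [Subgroup.mem_inf, MulAction.mem_stabilizer_iff]
  exact Iff.rfl

/-- the third Conway group of the list is the stabilizer of the vector -/
def co3Equiv : ↥Spor.Co3 ≃* ↥(stabilizer ↥Co0 uu) where
  toFun g := ⟨⟨g.1, ((mem_Co3_iff g.1).mp g.2).1⟩, by
    obtain ⟨h0, h1⟩ := (mem_Co3_iff g.1).mp g.2
    have hv : (⟨g.1, h0⟩ : ↥Co0) • leechV = leechV := h1
    refine MulAction.mem_stabilizer_iff.mpr ?_
    show (⟨g.1, h0⟩ : ↥Co0) • (-leechV) = -leechV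
    rw [co0_smul_neg, hv]⟩
  invFun g := ⟨g.1.1, by
    rw [mem_Co3_iff]
    have hu : g.1 • uu = uu := MulAction.mem_stabilizer_iff.mp g.2
    refine ⟨g.1.2, ?_⟩
    show g.1 • leechV = leechV
    have h1 : g.1 • (-leechV) = -leechV := hu
    rw [co0_smul_neg] at h1
    exact neg_injective h1⟩
  left_inv g := rfl
  right_inv g := rfl
  map_mul' g h := rfl

theorem co3_iso : Nonempty (↥(stabilizer ↥Co0 uu) ≃* ↥HB) := by
  obtain ⟨h, hb⟩ := C3.exists_based uu uu_norm
  have e := conjStab1 h uu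
  have h1 : h • uu = mU := Subtype.ext (by rw [hb.1]; rfl)
  rw [h1] at e
  exact ⟨e⟩

/-- every automorphism of the third Conway group is inner -/
theorem main : Nat.card (Cfsg.Out ↥Cfsg.Spor.Co3) = 1 := by
  obtain ⟨e⟩ := co3_iso
  rw [out_card_congr ((co3Equiv.trans e).trans hbEquiv)]
  exact Co3A.out_card

end Cfsg.Agent.Lib.Helper28.Co3B
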