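import Cfsg.Agent.Lib.Helper28.Co3Bridge

/-!
# The third Conway group of the list as a permutation group on 552 points

The statement of the isomorphism, for use by other files: the group `Cfsg.Spor.Co3` is isomorphic to
the subgroup `Co3A.Kadz = ⟨a, d, z⟩` of the symmetric group on 552 points, which is the group
`genGroup 552 10 GENS` with the verified Schreier–Sims chain `LEVELS`, of order `495766656000`.
-/

set_option autoImplicit false

namespace Cfsg.Agent.Lib.Helper28.Co3B

open Cfsg.Agent.Lib.Helper28.Co3A Cfsg.Agent.Lib.Helper28.Co3AData Cfsg.Agent.Lib.Helper28.BSGS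

/-- the third Conway group of the list is the group on 552 points -/
theorem nonempty_iso : Nonempty (↥Cfsg.Spor.Co3 ≃* ↥Co3A.Kadz) := by
  obtain ⟨e⟩ := co3_iso
  exact ⟨(co3Equiv.trans e).trans hbEquiv⟩

/-- the third Conway group of the list is the group generated by the strong generators -/
theorem nonempty_iso_genGroup : Nonempty (↥Cfsg.Spor.Co3 ≃* ↥(genGroup 552 10 GENS)) := by
  obtain ⟨e⟩ := nonempty_iso
  exact ⟨e.trans (MulEquiv.subgroupCongr Co3A.H0_eq.symm)⟩

theorem card_Co3 : Nat.card ↥Cfsg.Spor.Co3 = 495766656000 := by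
  obtain ⟨e⟩ := nonempty_iso
  rw [Nat.card_congr e.toEquiv, Co3A.card_Kadz]

end Cfsg.Agent.Lib.Helper28.Co3B
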