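import Cfsg.Agent.Lib.Helper28.FamCheck2
import Cfsg.Agent.Lib.Helper28.M12Trans

set_option autoImplicit false

/-!
Pairs of complementary dodecads: the complement of a dodecad is a dodecad, `M24` is transitive on
the `1288` pairs, and the stabilizer of a pair has order `190080`.
-/

namespace Cfsg.Agent.Lib.Helper28

open Cfsg MulAction
open scoped Pointwise

/-- the pairs of complementary dodecads -/
def dodecadPairs : Set (Finset (Finset GolayPt)) := {P | ∃ d ∈ dodecads, P = {d, dᶜ}}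

theorem smul_finset_compl' (g : Equiv.Perm GolayPt) (s : Finset GolayPt) :
    g • sᶜ = (g • s)ᶜ := by
  ext x
  rw [Finset.mem_compl, ← Finset.inv_smul_mem_iff, ← Finset.inv_smul_mem_iff, Finset.mem_compl]

theorem smul_compl_pair (g : Equiv.Perm GolayPt) (d : Finset GolayPt) :
    g • ({d, dᶜ} : Finset (Finset GolayPt)) = {g • d, (g • d)ᶜ} := by
  rw [Finset.smul_finset_insert, Finset.smul_finset_singleton, smul_finset_compl']

theorem IsDodecadPairList.compl_mem {L : List (List ℕ)} (h : IsDodecadPairList L) :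
    ∃ d ∈ dodecads, dᶜ ∈ dodecads ∧ famSet L = {d, dᶜ} := by
  obtain ⟨l, l', hL, hl, hc, he⟩ := h.famSet_eq
  refine ⟨ptSet l, hl, ?_, he⟩
  rw [← hc]
  exact (h.2.1 l' (by rw [hL]; simp)).mem

theorem IsDodecadPairList.mem {L : List (List ℕ)} (h : IsDodecadPairList L) :
    famSet L ∈ dodecadPairs := by
  obtain ⟨d, hd, _, he⟩ := h.compl_mem
  exact ⟨d, hd, he⟩

theorem compl_mem_dodecads {d : Finset GolayPt} (hd : d ∈ dodecads) : dᶜ ∈ dodecads := by
  have hb : IsDodecadPairList [[0, 1, 2, 3, 4, 5, 9, 11, 12, 15, 16, 23],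
      [6, 7, 8, 10, 13, 14, 17, 18, 19, 20, 21, 22]] := by decide +kernel
  obtain ⟨d₀, hd₀, hc, _⟩ := hb.compl_mem
  obtain ⟨g, hg, rfl⟩ := M24_dodecad_transitive hd₀ hd
  rw [← smul_finset_compl']
  exact smul_mem_dodecads hg hc

theorem smul_mem_dodecadPairs {g : Equiv.Perm GolayPt} (hg : g ∈ M24)
    {P : Finset (Finset GolayPt)} (hP : P ∈ dodecadPairs) : g • P ∈ dodecadPairs := by
  obtain ⟨d, hd, rfl⟩ := hP
  exact ⟨g • d, smul_mem_dodecads hg hd, smul_compl_pair g d⟩

theorem M24_dodecadPair_transitive {P P' : Finset (Finset GolayPt)} (hP : P ∈ dodecadPairs)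
    (hP' : P' ∈ dodecadPairs) : ∃ g ∈ M24, g • P = P' := by
  obtain ⟨d, hd, rfl⟩ := hP
  obtain ⟨d', hd', rfl⟩ := hP'
  obtain ⟨g, hg, rfl⟩ := M24_dodecad_transitive hd hd'
  exact ⟨g, hg, smul_compl_pair g d⟩

theorem dodecad_ne_compl {d : Finset GolayPt} (hd : d ∈ dodecads) : d ≠ dᶜ := by
  intro h
  have hc : d.card = 12 := ((mem_dodecads_iff d).mp hd).2
  have hne : d.Nonempty := by
    rw [← Finset.card_pos, hc]; norm_num
  obtain ⟨x, hx⟩ := hne
  have hx' := hx
  rw [h, Finset.mem_compl] at hx'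
  exact hx' hx

/-- the stabilizer of a pair of complementary dodecads has order `190080` -/
theorem card_stabilizer_dodecadPair {d : Finset GolayPt} (hd : d ∈ dodecads) :
    Nat.card (stabilizer M24 ({d, dᶜ} : Finset (Finset GolayPt))) = 190080 := by
  classical
  rw [card_stabilizer_subgroup]
  set P : Finset (Finset GolayPt) := {d, dᶜ} with hP
  set K : Subgroup (Equiv.Perm GolayPt) := M24 ⊓ stabilizer (Equiv.Perm GolayPt) P with hK
  have hKd : K ⊓ stabilizer (Equiv.Perm GolayPt) d = M24 ⊓ stabilizer (Equiv.Perm GolayPt) d := by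
    ext g
    simp only [hK, Subgroup.mem_inf, mem_stabilizer_iff]
    constructor
    · rintro ⟨⟨h1, _⟩, h3⟩
      exact ⟨h1, h3⟩
    · rintro ⟨h1, h3⟩
      refine ⟨⟨h1, ?_⟩, h3⟩
      rw [hP, smul_compl_pair, h3]
  have horb : orbit K d = {d, dᶜ} := by
    ext y
    constructor
    · rintro ⟨g, rfl⟩
      have hg : g.1 • P = P := (Subgroup.mem_inf.mp g.2).2
      have : g.1 • d ∈ g.1 • P := Finset.smul_mem_smul_finset (by rw [hP]; simp)
      rw [hg, hP, Finset.mem_insert, Finset.mem_singleton] at this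
      exact this
    · intro hy
      rcases hy with rfl | hy
      · exact mem_orbit_self _
      · rw [Set.mem_singleton_iff] at hy
        obtain ⟨g, hg, hgd⟩ := M24_dodecad_transitive hd (compl_mem_dodecads hd)
        have hgK : g ∈ K := by
          refine Subgroup.mem_inf.mpr ⟨hg, ?_⟩
          rw [mem_stabilizer_iff, hP, smul_compl_pair, hgd, compl_compl, Finset.pair_comm]
        refine ⟨⟨g, hgK⟩, ?_⟩
        rw [hy]
        exact hgd
  have h1 := card_eq_orbit_mul_card_inf_stabilizer' K d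
  rw [horb, hKd, ← card_stabilizer_subgroup M24 d, card_stabilizer_dodecad hd,
    Set.ncard_pair (dodecad_ne_compl hd)] at h1
  rw [h1]

theorem orbit_dodecadPair {d : Finset GolayPt} (hd : d ∈ dodecads) :
    orbit M24 ({d, dᶜ} : Finset (Finset GolayPt)) = dodecadPairs := by
  ext P
  constructor
  · rintro ⟨g, rfl⟩
    exact smul_mem_dodecadPairs g.2 ⟨d, hd, rfl⟩
  · intro hP
    obtain ⟨g, hg, hgP⟩ := M24_dodecadPair_transitive ⟨d, hd, rfl⟩ hP
    exact ⟨⟨g, hg⟩, hgP⟩

theorem ncard_dodecadPairs : dodecadPairs.ncard = 1288 := by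
  have hb : IsDodecadList [0, 1, 2, 3, 4, 5, 9, 11, 12, 15, 16, 23] := by decide +kernel
  have hd := hb.mem
  rw [← orbit_dodecadPair hd]
  have h1 := Subgroup.card_mul_index
    (stabilizer M24 ({ptSet [0, 1, 2, 3, 4, 5, 9, 11, 12, 15, 16, 23],
      (ptSet [0, 1, 2, 3, 4, 5, 9, 11, 12, 15, 16, 23])ᶜ} : Finset (Finset GolayPt)))
  rw [card_stabilizer_dodecadPair hd, card_M24, MulAction.index_stabilizer] at h1
  omega

end Cfsg.Agent.Lib.Helper28
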