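import Cfsg.Agent.Lib.Helper28.Data1561
import Cfsg.Agent.Lib.Helper28.CertClasses
import Cfsg.Agent.Lib.Helper28.M12Trans

set_option autoImplicit false

/-!
The dodecads by their intersection with a fixed dodecad `d`: the sizes are `12, 0, 4, 6, 8` with
`1, 1, 495, 1584, 495` dodecads, and the stabilizer of `d` is transitive on each class.
-/

namespace Cfsg.Agent.Lib.Helper28

open Cfsg MulAction
open scoped Pointwise

theorem inter_ptSet {l l' : List ℕ} (hl : GoodSet l) (hl' : GoodSet l') :
    ptSet l ∩ ptSet l' = ptSet (l.filter (fun a => decide (a ∈ l'))) := by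
  ext x
  rw [Finset.mem_inter, mem_ptSet, mem_ptSet, mem_ptSet]
  constructor
  · rintro ⟨⟨a, ha, rfl⟩, b, hb, hab⟩
    have : b = a := ptN_inj (hl'.2 b hb) (hl.2 a ha) hab
    subst this
    exact ⟨b, List.mem_filter.mpr ⟨ha, by simpa using hb⟩, rfl⟩
  · rintro ⟨a, ha, rfl⟩
    obtain ⟨ha1, ha2⟩ := List.mem_filter.mp ha
    exact ⟨⟨a, ha1, rfl⟩, a, by simpa using ha2, rfl⟩

theorem goodSet_filter {l : List ℕ} (hl : GoodSet l) (p : ℕ → Bool) : GoodSet (l.filter p) :=
  ⟨hl.1.filter _, fun a ha => hl.2 a (List.mem_filter.mp ha).1⟩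

theorem card_inter_ptSet {l l' : List ℕ} (hl : GoodSet l) (hl' : GoodSet l') :
    (ptSet l ∩ ptSet l').card = (l.filter (fun a => decide (a ∈ l'))).length := by
  rw [inter_ptSet hl hl', card_ptSet (goodSet_filter hl _)]

theorem card_smul_inter_smul (g : Equiv.Perm GolayPt) (z y : Finset GolayPt) :
    (g • z ∩ g • y).card = (z ∩ y).card := by
  rw [← Finset.smul_finset_inter, Finset.card_smul_finset]

/-- the intersection sizes of the root dodecads with the base dodecad -/
def dddod_inv : Fin 5 → ℕ := ![12, 0, 4, 6, 8]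

theorem dddod_inv_eq (i : Fin 5) :
    (ptSet dd_base ∩ ptSet (dddod_roots i)).card = dddod_inv i := by
  rw [card_inter_ptSet dd_base_check.1 (dddod_rootcheck i).1]
  revert i
  decide

theorem dodecad_classes {d : Finset GolayPt} (hd : d ∈ dodecads) :
    (∀ y ∈ dodecads, ∃ i, (d ∩ y).card = dddod_inv i) ∧
    (∀ i, {y | y ∈ dodecads ∧ (d ∩ y).card = dddod_inv i}.ncard = dddod_sizes i) ∧
    (∀ y ∈ dodecads, ∀ y' ∈ dodecads, (d ∩ y).card = (d ∩ y').card →
      ∃ g ∈ M24 ⊓ stabilizer (Equiv.Perm GolayPt) d, g • y = y') := by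
  have hbase : ptSet dd_base ∈ dodecads := dd_base_check.mem
  obtain ⟨h, hh, rfl⟩ := M24_dodecad_transitive hbase hd
  have hgens := gens_stab_set dd_tabs dd_base dd_base_check.1 dd_tabs_check
  have hcl := dddod_model.classes (ptSet dd_base) dd_tabs hgens dodecads
    (fun g hg y hy => smul_mem_dodecads hg hy) 2576 Cfsg.Agent.S0361.result (Set.toFinite _)
    dddod_roots (fun i => (dddod_rootcheck i).1) (fun i => (dddod_rootcheck i).mem) dddod_certs
    dddod_sizes dddod_check dddod_len (by decide) (fun z y => (z ∩ y).card)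
    (fun g _ z y => card_smul_inter_smul g z y)
    (by
      intro i j hij
      have hi := dddod_inv_eq i
      have hj := dddod_inv_eq j
      have : dddod_inv i = dddod_inv j := by rw [← hi, ← hj]; exact hij
      revert i j
      decide) h hh
  obtain ⟨h1, h2, h3⟩ := hcl
  refine ⟨?_, ?_, h3⟩
  · intro y hy
    obtain ⟨i, hi⟩ := h1 y hy
    exact ⟨i, hi.trans (dddod_inv_eq i)⟩
  · intro i
    rw [← h2 i]
    congr 1
    ext y
    simp only [Set.mem_setOf_eq]
    have : (ptSet dd_base ∩ dddod_model.sem (dddod_roots i)).card = dddod_inv i := dddod_inv_eq i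
    rw [this]

end Cfsg.Agent.Lib.Helper28
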