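import Cfsg.Agent.Lib.Helper28.WordAction
import Cfsg.Agent.Lib.Helper28.OctadStab
import Cfsg.Agent.Lib.Helper28.M12Trans
import Cfsg.Agent.Lib.Helper28.DodecadPair
import Cfsg.Agent.S1560

set_option autoImplicit false

/-!
The `M24`-invariant subspaces of the Golay code: zero, the span of the all-ones word, and the code.
-/

namespace Cfsg.Agent.Lib.Helper28

open Cfsg MulAction
open scoped Pointwise

/-- an invariant subspace containing an octad word contains the code -/
theorem code_le_of_octad_mem {W : Submodule (ZMod 2) (GolayPt → ZMod 2)}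
    (hinv : ∀ σ ∈ M24, ∀ w ∈ W, permWord σ w ∈ W) {o : Finset GolayPt} (ho : o ∈ octads)
    (hoW : bind o ∈ W) : golayCode ≤ W := by
  have hC := golayCode_isGolayLike
  rw [← hC.span_octads, Submodule.span_le]
  rintro c ⟨hcC, hc8⟩
  have hco : bsupp c ∈ octads := (mem_octads_iff _).mpr ⟨by rw [bind_bsupp]; exact hcC, hc8⟩
  obtain ⟨g, hg, hgo⟩ := M24_octad_transitive ho hco
  have : permWord g (bind o) ∈ W := hinv g hg _ hoW
  rw [permWord_bind, hgo, bind_bsupp] at this
  exact this

/-- an invariant subspace containing a code word other than zero and all-ones contains the code -/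
theorem code_le_of_mem {W : Submodule (ZMod 2) (GolayPt → ZMod 2)}
    (hinv : ∀ σ ∈ M24, ∀ w ∈ W, permWord σ w ∈ W) {w : GolayPt → ZMod 2} (hwW : w ∈ W)
    (hwC : w ∈ golayCode) (hw0 : w ≠ 0) (hw1 : w ≠ 1) : golayCode ≤ W := by
  have hC := golayCode_isGolayLike
  rcases golay_weight hwC with h | h | h | h | h
  · exact absurd (hammingNorm_eq_zero.mp h) hw0
  · exact code_le_of_octad_mem hinv (o := bsupp w)
      ((mem_octads_iff _).mpr ⟨by rw [bind_bsupp]; exact hwC, h⟩) (by rw [bind_bsupp]; exact hwW)
  · have hd : bsupp w ∈ dodecads := (mem_dodecads_iff _).mpr ⟨by rw [bind_bsupp]; exact hwC, h⟩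
    have h495 := (Cfsg.Agent.S1560.result (bsupp w) hd).2.2.2
    obtain ⟨d', hd', h8⟩ := Set.nonempty_of_ncard_ne_zero
      (s := {d' : Finset GolayPt | d' ∈ dodecads ∧ (bsupp w ∩ d').card = 8})
      (by rw [h495]; norm_num)
    obtain ⟨g, hg, hgd⟩ := M24_dodecad_transitive hd hd'
    have hd'W : bind d' ∈ W := by
      rw [← hgd, ← permWord_bind, bind_bsupp]
      exact hinv g hg w hwW
    have hsum : bind (symmDiff (bsupp w) d') ∈ W := by
      rw [bind_symmDiff, bind_bsupp]
      exact W.add_mem hwW hd'W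
    have hsumC : bind (symmDiff (bsupp w) d') ∈ golayCode := by
      rw [bind_symmDiff, bind_bsupp]
      exact golayCode.add_mem hwC ((mem_dodecads_iff d').mp hd').1
    refine code_le_of_octad_mem hinv ((mem_octads_iff _).mpr ⟨hsumC, ?_⟩) hsum
    have := card_symmDiff_add (bsupp w) d'
    have hc' := ((mem_dodecads_iff d').mp hd').2
    rw [hammingNorm_eq_card_bsupp] at h
    omega
  · have ho : (bsupp w)ᶜ ∈ octads := by
      rw [mem_octads_iff]
      refine ⟨?_, ?_⟩
      · rw [bind_compl, bind_bsupp]; exact golayCode.add_mem hC.one_mem hwC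
      · rw [Finset.card_compl, fintype_card_golayPt, ← hammingNorm_eq_card_bsupp, h]
    obtain ⟨o', ho', h4⟩ := Set.nonempty_of_ncard_ne_zero
      (s := {c : Finset GolayPt | c ∈ octads ∧ ((bsupp w)ᶜ ∩ c).card = 4})
      (by rw [(ncard_octads_inter ho).1]; norm_num)
    obtain ⟨g, hg, hgo⟩ := M24_octad_transitive ho ho'
    have hgw : permWord g w = bind o'ᶜ := by
      rw [← hgo, ← smul_finset_compl', compl_compl, ← permWord_bind, bind_bsupp]
    have hsd : symmDiff (bsupp w) o'ᶜ = symmDiff (bsupp w)ᶜ o' := by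
      rw [← compl_symmDiff_compl, compl_compl]
    have hsum : bind (symmDiff (bsupp w)ᶜ o') ∈ W := by
      rw [← hsd, bind_symmDiff, bind_bsupp, ← hgw]
      exact W.add_mem hwW (hinv g hg w hwW)
    have hsumC : bind (symmDiff (bsupp w)ᶜ o') ∈ golayCode := by
      rw [bind_symmDiff]
      exact golayCode.add_mem ((mem_octads_iff _).mp ho).1 ((mem_octads_iff _).mp ho').1
    refine code_le_of_octad_mem hinv ((mem_octads_iff _).mpr ⟨hsumC, ?_⟩) hsum
    have := card_symmDiff_add (bsupp w)ᶜ o'
    have hc := octad_card ho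
    have hc' := octad_card ho'
    omega
  · exfalso
    apply hw1
    have hs : bsupp w = Finset.univ := by
      apply Finset.eq_univ_of_card
      rw [← hammingNorm_eq_card_bsupp, h, fintype_card_golayPt]
    rw [← bind_bsupp w, hs, bind_univ]

/-- the invariant subspaces of the code -/
theorem invariant_le_code {W : Submodule (ZMod 2) (GolayPt → ZMod 2)} (hWC : W ≤ golayCode)
    (hinv : ∀ σ ∈ M24, ∀ w ∈ W, permWord σ w ∈ W) :
    W = ⊥ ∨ W = Submodule.span (ZMod 2) {(1 : GolayPt → ZMod 2)} ∨ W = golayCode := by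
  by_cases hex : ∃ w ∈ W, w ≠ 0 ∧ w ≠ 1
  · right; right
    obtain ⟨w, hwW, hw0, hw1⟩ := hex
    exact le_antisymm hWC (code_le_of_mem hinv hwW (hWC hwW) hw0 hw1)
  · push Not at hex
    by_cases h1 : (1 : GolayPt → ZMod 2) ∈ W
    · right; left
      apply le_antisymm
      · intro w hw
        by_cases h0 : w = 0
        · rw [h0]; exact Submodule.zero_mem _
        · rw [hex w hw h0]
          exact Submodule.subset_span (Set.mem_singleton _)
      · rw [Submodule.span_le]
        intro x hx
        rw [Set.mem_singleton_iff] at hx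
        rw [hx]; exact h1
    · left
      rw [Submodule.eq_bot_iff]
      intro w hw
      by_contra h0
      apply h1
      rw [← hex w hw h0]
      exact hw

end Cfsg.Agent.Lib.Helper28
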