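import Cfsg.Agent.Lib.Helper28.OctadSplit
import Cfsg.Agent.Lib.Helper28.ThreeSets

set_option autoImplicit false

/-!
Six-point subsets of the 24 points under `Cfsg.M24`: the full symmetric group is induced; the
pointwise stabilizer has order 16 or 3.
-/

namespace Cfsg.Agent.Lib.Helper28

open Cfsg MulAction
open scoped Pointwise

/-- list version of the six-fold transitivity of an octad stabilizer on the octad -/
theorem octad_stab_map_list {o : Finset GolayPt} (ho : o ∈ octads) (l l' : List GolayPt)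
    (hl : l.Nodup) (hl' : l'.Nodup) (hlo : ∀ x ∈ l, x ∈ o) (hlo' : ∀ x ∈ l', x ∈ o)
    (hlen : l.length = l'.length) (h6 : l.length ≤ 6) :
    ∃ g ∈ M24, g • o = o ∧ l.map g = l' := by
  classical
  have hcard : Nat.card ↥o = 8 := by
    rw [Nat.card_eq_fintype_card, Fintype.card_coe, octad_card ho]
  haveI : IsMultiplyPretransitive (alternatingGroup ↥o) ↥o 6 := by
    have := alternatingGroup.isMultiplyPretransitive ↥o
    rwa [hcard] at this
  let L : List ↥o := l.attach.map (fun x => ⟨x.1, hlo x.1 x.2⟩)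
  let L' : List ↥o := l'.attach.map (fun x => ⟨x.1, hlo' x.1 x.2⟩)
  have hLv : L.map Subtype.val = l := by
    simp only [L, List.map_map]
    exact List.attach_map_subtype_val l
  have hLv' : L'.map Subtype.val = l' := by
    simp only [L', List.map_map]
    exact List.attach_map_subtype_val l'
  have hLnd : L.Nodup := List.Nodup.of_map Subtype.val (by rw [hLv]; exact hl)
  have hLnd' : L'.Nodup := List.Nodup.of_map Subtype.val (by rw [hLv']; exact hl')
  have hLlen : L.length = l.length := by simp [L]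
  have hLlen' : L'.length = l'.length := by simp [L']
  clear_value L L'
  obtain ⟨e, he⟩ := exists_map_list_of_isMultiplyPretransitive (G := alternatingGroup ↥o) 6
    (by rw [hcard]; norm_num) L L' hLnd hLnd' (by rw [hLlen, hLlen', hlen]) (by rw [hLlen]; exact h6)
  obtain ⟨g, hg, hgo, hge⟩ := exists_M24_of_even ho e.1 e.2
  refine ⟨g, hg, hgo, ?_⟩
  rw [← hLv, ← hLv', ← he, List.map_map, List.map_map]
  apply List.map_congr_left
  intro x _
  exact hge x

/-- an even permutation of a finite type moving at most two points is the identity -/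
theorem eq_one_of_even_of_fix {α : Type*} [Fintype α] [DecidableEq α] (e : Equiv.Perm α)
    (he : e ∈ alternatingGroup α) (a b : α) (h : ∀ x, x ≠ a → x ≠ b → e x = x) : e = 1 := by
  by_cases hab : a = b
  · subst hab
    apply Equiv.ext
    intro x
    by_cases hx : x = a
    · subst hx
      by_contra hne
      have h1 := h (e x) hne hne
      exact hne (e.injective h1)
    · exact h x hx hx
  by_cases ha : e a = a
  · apply Equiv.ext
    intro x
    by_cases hxa : x = a
    · rw [hxa]; exact ha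
    by_cases hxb : x = b
    · subst hxb
      by_contra hne
      have hne' : e x ≠ x := hne
      by_cases h2 : e x = a
      · have : e x = e a := by rw [h2, ha]
        exact hxa (e.injective this)
      · have h1 := h (e x) h2 hne'
        exact hne' (e.injective h1)
    · exact h x hxa hxb
  · -- then `e` swaps `a` and `b`, an odd permutation
    exfalso
    have hea : e a = b := by
      by_contra hne
      have h1 := h (e a) ha hne
      exact ha (e.injective h1)
    have heb : e b = a := by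
      by_contra hne
      have hne2 : e b ≠ b := by
        intro h2
        have : e a = e b := by rw [hea, h2]
        exact hab (e.injective this)
      have h1 := h (e b) hne hne2
      exact hne2 (e.injective h1)
    have hswap : e = Equiv.swap a b := by
      apply Equiv.ext
      intro x
      by_cases hxa : x = a
      · rw [hxa, hea, Equiv.swap_apply_left]
      by_cases hxb : x = b
      · rw [hxb, heb, Equiv.swap_apply_right]
      · rw [h x hxa hxb, Equiv.swap_apply_of_ne_of_ne hxa hxb]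
    rw [Equiv.Perm.mem_alternatingGroup, hswap, Equiv.Perm.sign_swap hab] at he
    exact absurd he (by decide)

/-- an element of `M24` fixing six points of an octad fixes the octad pointwise -/
theorem mem_octadKer_of_fix_six {o E : Finset GolayPt} (ho : o ∈ octads) (hE : E.card = 6)
    (hEo : E ⊆ o) {g : Equiv.Perm GolayPt} (hg : g ∈ M24) (hfix : ∀ p ∈ E, g p = p) :
    g ∈ octadKer o := by
  classical
  have hgo : g • o = o := by
    apply octad_eq_of_subset (s := E) (by rw [hE]; norm_num) (smul_mem_octads hg ho) ho _ hEo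
    intro x hx
    rw [Finset.mem_smul_finset]
    exact ⟨x, hEo hx, hfix x hx⟩
  -- the two remaining points
  have h2 : (o \ E).card = 2 := by
    rw [Finset.card_sdiff_of_subset hEo, octad_card ho, hE]
  obtain ⟨a, b, hab, hoE⟩ := Finset.card_eq_two.mp h2
  have hao : a ∈ o := (Finset.mem_sdiff.mp (by rw [hoE]; simp)).1
  have hbo : b ∈ o := (Finset.mem_sdiff.mp (by rw [hoE]; simp)).1
  let gs : ↥(M24 ⊓ stabilizer (Equiv.Perm GolayPt) o) := ⟨g, Subgroup.mem_inf.mpr ⟨hg, hgo⟩⟩
  have heven : restrictHomOf M24 o gs ∈ alternatingGroup ↥o := by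
    rw [← range_restrict_octad ho]; exact ⟨gs, rfl⟩
  have hone := eq_one_of_even_of_fix _ heven ⟨a, hao⟩ ⟨b, hbo⟩ (by
    intro x hxa hxb
    apply Subtype.ext
    show g x.1 = x.1
    apply hfix
    by_contra hxE
    have : x.1 ∈ o \ E := Finset.mem_sdiff.mpr ⟨x.2, hxE⟩
    rw [hoE, Finset.mem_insert, Finset.mem_singleton] at this
    rcases this with h | h
    · exact hxa (Subtype.ext h)
    · exact hxb (Subtype.ext h))
  rw [mem_octadKer]
  refine ⟨hg, fun x hx => ?_⟩
  have := congrArg (fun e : Equiv.Perm ↥o => ((e ⟨x, hx⟩ : ↥o) : GolayPt)) hone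
  exact this

/-- the pointwise stabilizer of a finite set of points -/
def ptwise (E : Finset GolayPt) : Subgroup (Equiv.Perm GolayPt) :=
  M24 ⊓ fixingSubgroup (Equiv.Perm GolayPt) (E : Set GolayPt)

theorem mem_ptwise {E : Finset GolayPt} {g : Equiv.Perm GolayPt} :
    g ∈ ptwise E ↔ g ∈ M24 ∧ ∀ p ∈ E, g p = p := by
  unfold ptwise
  rw [Subgroup.mem_inf, mem_fixingSubgroup_iff]
  exact Iff.rfl

theorem card_subtype_ptwise (E : Finset GolayPt) :
    Nat.card {g : Equiv.Perm GolayPt // g ∈ M24 ∧ ∀ p ∈ E, g p = p} = Nat.card (ptwise E) := by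
  apply Nat.card_congr
  exact Equiv.subtypeEquivRight (fun g => mem_ptwise.symm)

theorem ptwise_six_in_octad {o E : Finset GolayPt} (ho : o ∈ octads) (hE : E.card = 6)
    (hEo : E ⊆ o) : ptwise E = octadKer o := by
  ext g
  constructor
  · intro hg
    obtain ⟨h1, h2⟩ := mem_ptwise.mp hg
    exact mem_octadKer_of_fix_six ho hE hEo h1 h2
  · intro hg
    obtain ⟨h1, h2⟩ := mem_octadKer.mp hg
    exact mem_ptwise.mpr ⟨h1, fun p hp => h2 p (hEo hp)⟩

theorem card_ptwise_six_in_octad {o E : Finset GolayPt} (ho : o ∈ octads) (hE : E.card = 6)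
    (hEo : E ⊆ o) : Nat.card (ptwise E) = 16 := by
  rw [ptwise_six_in_octad ho hE hEo, card_octadKer ho]

theorem conj_mem_ptwise_iff {h : Equiv.Perm GolayPt} (hh : h ∈ M24) (g : Equiv.Perm GolayPt)
    (E : Finset GolayPt) : g ∈ ptwise (h • E) ↔ h⁻¹ * g * h ∈ ptwise E :=
  conj_mem_inf_fixingSubgroup_iff hh g E

theorem card_ptwise_smul {h : Equiv.Perm GolayPt} (hh : h ∈ M24) (E : Finset GolayPt) :
    Nat.card (ptwise (h • E)) = Nat.card (ptwise E) :=
  card_eq_of_conj _ _ h (fun g => conj_mem_ptwise_iff hh g E)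

end Cfsg.Agent.Lib.Helper28

namespace Cfsg.Agent.Lib.Helper28

open Cfsg MulAction
open scoped Pointwise

/-- the base umbral six-set: five base points and a point outside their octad -/
def umbral0 : Finset GolayPt :=
  {Helper4.pt 23, Helper4.pt 0, Helper4.pt 1, Helper4.pt 2, Helper4.pt 3, Helper4.pt 4}

theorem base5_mem_baseOctad : ∀ a : Fin 24, a = 23 ∨ a = 0 ∨ a = 1 ∨ a = 2 ∨ a = 3 →
    (8536111 : ℕ).testBit a.val = true := by
  decide +kernel

theorem pt4_not_mem_baseOctad : Helper4.pt 4 ∉ baseOctad := by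
  unfold baseOctad
  rw [pt_mem_maskSet]
  decide

theorem m24base_vals5 : m24base 0 = 23 ∧ m24base 1 = 0 ∧ m24base 2 = 1 ∧ m24base 3 = 2 ∧
    m24base 4 = 3 := by
  refine ⟨rfl, rfl, rfl, rfl, rfl⟩

theorem mem_baseStab_five_iff {g : Equiv.Perm GolayPt} :
    g ∈ baseStab M24 5 ↔ g ∈ M24 ∧ g (Helper4.pt 23) = Helper4.pt 23 ∧
      g (Helper4.pt 0) = Helper4.pt 0 ∧ g (Helper4.pt 1) = Helper4.pt 1 ∧
      g (Helper4.pt 2) = Helper4.pt 2 ∧ g (Helper4.pt 3) = Helper4.pt 3 := by
  rw [mem_baseStab]
  constructor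
  · rintro ⟨h1, h2⟩
    refine ⟨h1, h2 0 (by decide), h2 1 (by decide), h2 2 (by decide), h2 3 (by decide),
      h2 4 (by decide)⟩
  · rintro ⟨h1, e0, e1, e2, e3, e4⟩
    refine ⟨h1, fun j hj => ?_⟩
    fin_cases j
    · exact e0
    · exact e1
    · exact e2
    · exact e3
    · exact e4
    · exact absurd hj (by decide)
    · exact absurd hj (by decide)

theorem orbit_baseStab_five_pt4 :
    orbit (baseStab M24 5) (Helper4.pt 4) = {p | p ∉ baseOctad} := by
  ext p
  constructor
  · rintro ⟨g, rfl⟩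
    have hinv : g.1 • baseOctad = baseOctad := baseOctad_invariant g.2.1 (fun j hj => g.2.2 j hj)
    show g.1 (Helper4.pt 4) ∉ baseOctad
    rw [perm_apply_mem_iff_of_smul_eq hinv]
    exact pt4_not_mem_baseOctad
  · intro hp
    obtain ⟨k, hk, hkp⟩ := octadKer_transitive baseOctad_mem pt4_not_mem_baseOctad hp
    obtain ⟨hkM, hkfix⟩ := mem_octadKer.mp hk
    have hb : ∀ a : Fin 24, a = 23 ∨ a = 0 ∨ a = 1 ∨ a = 2 ∨ a = 3 →
        k (Helper4.pt a) = Helper4.pt a := by
      intro a ha
      apply hkfix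
      unfold baseOctad
      rw [pt_mem_maskSet]
      exact base5_mem_baseOctad a ha
    refine ⟨⟨k, mem_baseStab_five_iff.mpr ⟨hkM, hb 23 (by simp), hb 0 (by simp), hb 1 (by simp),
      hb 2 (by simp), hb 3 (by simp)⟩⟩, hkp⟩

theorem ptwise_umbral0 :
    ptwise umbral0 = baseStab M24 5 ⊓ stabilizer (Equiv.Perm GolayPt) (Helper4.pt 4) := by
  ext g
  rw [mem_ptwise, Subgroup.mem_inf, mem_baseStab_five_iff, mem_stabilizer_iff]
  unfold umbral0
  simp only [Finset.mem_insert, Finset.mem_singleton, forall_eq_or_imp, forall_eq,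
    Equiv.Perm.smul_def]
  tauto

theorem card_ptwise_umbral0 : Nat.card (ptwise umbral0) = 3 := by
  classical
  have h1 := card_eq_orbit_mul_card_inf_stabilizer (baseStab M24 5) (Helper4.pt 4)
  rw [(card_baseStab m24gens_closure_le le_rfl).2.2.2.2.2.1, orbit_baseStab_five_pt4,
    ← ptwise_umbral0] at h1
  have h16 : {p : GolayPt | p ∉ baseOctad}.ncard = 16 := by
    have : {p : GolayPt | p ∉ baseOctad} = ((baseOctadᶜ : Finset GolayPt) : Set GolayPt) := by
      ext p; simp
    rw [this, Set.ncard_coe_finset, Finset.card_compl, octad_card baseOctad_mem,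
      fintype_card_golayPt]
  rw [h16] at h1
  omega

theorem list_eq_of_length_six {α : Type*} (l : List α) (h : l.length = 6) :
    ∃ a b c d e f, l = [a, b, c, d, e, f] := by
  rcases l with _ | ⟨a, _ | ⟨b, _ | ⟨c, _ | ⟨d, _ | ⟨e, _ | ⟨f, _ | ⟨g, l⟩⟩⟩⟩⟩⟩⟩
  all_goals first
    | exact ⟨_, _, _, _, _, _, rfl⟩
    | (exfalso; simp at h)
    | (exfalso; simp at h; omega)

/-- every six-set not in an octad is an image of the base umbral six-set; moreover the map can be
chosen to realise a prescribed listing -/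
theorem exists_map_umbral_list (l : List GolayPt) (hl : l.Nodup) (hlen : l.length = 6)
    (hno : ¬ ∃ o ∈ octads, ∀ x ∈ l, x ∈ o) :
    ∃ h ∈ M24, [Helper4.pt 23, Helper4.pt 0, Helper4.pt 1, Helper4.pt 2, Helper4.pt 3,
      Helper4.pt 4].map h = l := by
  obtain ⟨a1, a2, a3, a4, a5, b, rfl⟩ := list_eq_of_length_six l hlen
  have hnd5 : [a1, a2, a3, a4, a5].Nodup := by
    have := hl
    rw [show [a1, a2, a3, a4, a5, b] = [a1, a2, a3, a4, a5] ++ [b] from rfl] at this
    exact (List.nodup_append.mp this).1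
  obtain ⟨h1, hh1, hmap⟩ := M24_exists_map_list
    [Helper4.pt 23, Helper4.pt 0, Helper4.pt 1, Helper4.pt 2, Helper4.pt 3] [a1, a2, a3, a4, a5]
    (by
      apply List.Nodup.map Helper4.pt_bijective.1 (l := [23, 0, 1, 2, 3])
      decide)
    hnd5 rfl (by simp)
  simp only [List.map_cons, List.map_nil, List.cons.injEq, and_true] at hmap
  obtain ⟨e1, e2, e3, e4, e5⟩ := hmap
  have hs5 : ([a1, a2, a3, a4, a5].toFinset).card = 5 := by
    rw [List.toFinset_card_of_nodup hnd5]; rfl
  obtain ⟨o5, ho5, hs5o⟩ := exists_octad_of_card_five hs5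
  have hmem : ∀ x ∈ [a1, a2, a3, a4, a5], x ∈ o5 := fun x hx => hs5o (List.mem_toFinset.mpr hx)
  have ho5eq : h1 • baseOctad = o5 := by
    apply octad_eq_of_subset (s := [a1, a2, a3, a4, a5].toFinset) (by rw [hs5])
      (smul_mem_octads hh1 baseOctad_mem) ho5 _ hs5o
    intro x hx
    rw [List.mem_toFinset] at hx
    rw [Finset.mem_smul_finset]
    have hb : ∀ a : Fin 24, a = 23 ∨ a = 0 ∨ a = 1 ∨ a = 2 ∨ a = 3 →
        Helper4.pt a ∈ baseOctad := by
      intro a ha
      unfold baseOctad
      rw [pt_mem_maskSet]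
      exact base5_mem_baseOctad a ha
    simp only [List.mem_cons, List.not_mem_nil, or_false] at hx
    rcases hx with rfl | rfl | rfl | rfl | rfl
    · exact ⟨_, hb 23 (by simp), e1⟩
    · exact ⟨_, hb 0 (by simp), e2⟩
    · exact ⟨_, hb 1 (by simp), e3⟩
    · exact ⟨_, hb 2 (by simp), e4⟩
    · exact ⟨_, hb 3 (by simp), e5⟩
  have h4 : h1 (Helper4.pt 4) ∉ o5 := by
    rw [← ho5eq]
    intro hc
    rw [Finset.mem_smul_finset] at hc
    obtain ⟨y, hy, hyx⟩ := hc
    have : y = Helper4.pt 4 := h1.injective hyx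
    rw [this] at hy
    exact pt4_not_mem_baseOctad hy
  have hb : b ∉ o5 := by
    intro hb
    apply hno
    refine ⟨o5, ho5, ?_⟩
    intro x hx
    rw [show [a1, a2, a3, a4, a5, b] = [a1, a2, a3, a4, a5] ++ [b] from rfl, List.mem_append,
      List.mem_singleton] at hx
    rcases hx with hx | rfl
    · exact hmem x hx
    · exact hb
  obtain ⟨k, hk, hkb⟩ := octadKer_transitive ho5 h4 hb
  obtain ⟨hkM, hkfix⟩ := mem_octadKer.mp hk
  refine ⟨k * h1, M24.mul_mem hkM hh1, ?_⟩
  simp only [List.map_cons, List.map_nil, Equiv.Perm.mul_apply, e1, e2, e3, e4, e5, hkb]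
  rw [hkfix a1 (hmem a1 (by simp)), hkfix a2 (hmem a2 (by simp)), hkfix a3 (hmem a3 (by simp)),
    hkfix a4 (hmem a4 (by simp)), hkfix a5 (hmem a5 (by simp))]

theorem card_ptwise_umbral {E : Finset GolayPt} (hE : E.card = 6)
    (hno : ¬ ∃ o ∈ octads, E ⊆ o) : Nat.card (ptwise E) = 3 := by
  obtain ⟨h, hh, hmap⟩ := exists_map_umbral_list E.toList (Finset.nodup_toList E)
    (by rw [Finset.length_toList, hE]) (by
      rintro ⟨o, ho, hx⟩
      exact hno ⟨o, ho, fun x hx' => hx x (Finset.mem_toList.mpr hx')⟩)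
  have hE' : h • umbral0 = E := by
    rw [← Finset.toList_toFinset E, ← hmap]
    unfold umbral0
    ext x
    simp only [Finset.mem_smul_finset, List.mem_toFinset, List.mem_map]
    constructor
    · rintro ⟨y, hy, rfl⟩
      refine ⟨y, ?_, rfl⟩
      simpa using hy
    · rintro ⟨y, hy, rfl⟩
      refine ⟨y, ?_, rfl⟩
      simpa using hy
  rw [← hE', card_ptwise_smul hh, card_ptwise_umbral0]

end Cfsg.Agent.Lib.Helper28
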