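import Cfsg.Agent.Lib.Helper28.WordAction
import Cfsg.Agent.Lib.Helper28.M9
import Cfsg.Agent.Lib.Helper28.DodecadPair
import Cfsg.Agent.Lib.Helper28.OctadReg
import Cfsg.Agent.Lib.Helper28.SixSets

set_option autoImplicit false

/-!
The stabilizer in `M24` of a code word fixes no non-zero element of the space of binary words
modulo the code.
-/

namespace Cfsg.Agent.Lib.Helper28

open Cfsg MulAction
open scoped Pointwise

/-- `X` is a set of at least eight points whose stabilizer is doubly transitive on it and
transitive on its complement, which is empty or has at least eight points -/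
structure GoodX (X : Finset GolayPt) : Prop where
  h2 : ∀ a ∈ X, ∀ b ∈ X, ∀ a' ∈ X, ∀ b' ∈ X, a ≠ b → a' ≠ b' →
      ∃ σ ∈ M24, σ • X = X ∧ σ a = a' ∧ σ b = b'
  h1 : ∀ a ∉ X, ∀ a' ∉ X, ∃ σ ∈ M24, σ • X = X ∧ σ a = a'
  hX8 : 8 ≤ X.card
  hXc : ∀ a ∉ X, 8 ≤ Xᶜ.card

theorem exists_moving_coset {X : Finset GolayPt} (hX : GoodX X)
    (w : GolayPt → ZMod 2) (hw : w ∉ golayCode) :
    ∃ σ ∈ M24, σ • X = X ∧ permWord σ w - w ∉ golayCode := by
  by_contra hcon
  push Not at hcon
  have hC := golayCode_isGolayLike
  have hinv : ∀ σ ∈ M24, σ • X = X → ∀ v ∈ lightCoset golayCode w,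
      permWord σ v ∈ lightCoset golayCode w := by
    intro σ hσ hσX v hv
    rw [mem_lightCoset] at hv ⊢
    refine ⟨by rw [hammingNorm_permWord]; exact hv.1, ?_⟩
    have : permWord σ v - w = permWord σ (v - w) + (permWord σ w - w) := by
      rw [permWord_sub]; abel
    rw [this]
    exact golayCode.add_mem (permWord_mem hσ hv.2) (hcon σ hσ hσX)
  have hX1 : 1 < X.card := lt_of_lt_of_le (by norm_num) hX.hX8
  have ht : ∀ a ∈ X, ∀ a' ∈ X, ∃ σ ∈ M24, σ • X = X ∧ σ a = a' := by
    intro a ha a' ha'
    obtain ⟨b, hb, hba⟩ := Finset.exists_mem_ne hX1 a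
    obtain ⟨b', hb', hba'⟩ := Finset.exists_mem_ne hX1 a'
    obtain ⟨σ, hσ, hσX, hσa, _⟩ := hX.h2 a ha b hb a' ha' b' hb' hba.symm hba'.symm
    exact ⟨σ, hσ, hσX, hσa⟩
  rcases hC.lightCoset_structure w with ⟨u0, hL, h3⟩ | ⟨h6, h4, hdisj⟩
  · have hu0 : u0 ∈ lightCoset golayCode w := by rw [hL]; exact Finset.mem_singleton_self _
    have hfix : ∀ σ ∈ M24, σ • X = X → σ • bsupp u0 = bsupp u0 := by
      intro σ hσ hσX
      have := hinv σ hσ hσX u0 hu0
      rw [hL, Finset.mem_singleton] at this
      rw [← bsupp_permWord, this]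
    have hne : (bsupp u0).Nonempty := by
      rw [Finset.nonempty_iff_ne_empty]
      intro he
      apply hw
      have h0 : u0 = 0 := by
        rw [← bind_bsupp u0, he, bind_empty]
      have := ((mem_lightCoset w u0).mp hu0).2
      rw [h0, zero_sub] at this
      exact (Submodule.neg_mem_iff _).mp this
    obtain ⟨a, ha⟩ := hne
    have hcard3 : (bsupp u0).card ≤ 3 := h3
    by_cases haX : a ∈ X
    · have hsub : X ⊆ bsupp u0 := by
        intro a' ha'
        obtain ⟨σ, hσ, hσX, hσa⟩ := ht a haX a' ha'
        rw [← hfix σ hσ hσX, ← hσa]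
        exact Finset.smul_mem_smul_finset ha
      have := Finset.card_le_card hsub
      have := hX.hX8
      omega
    · have hsub : Xᶜ ⊆ bsupp u0 := by
        intro a' ha'
        rw [Finset.mem_compl] at ha'
        obtain ⟨σ, hσ, hσX, hσa⟩ := hX.h1 a haX a' ha'
        rw [← hfix σ hσ hσX, ← hσa]
        exact Finset.smul_mem_smul_finset ha
      have := Finset.card_le_card hsub
      have := hX.hXc a haX
      omega
  · have hcover : ∀ p : GolayPt, ∃ v ∈ lightCoset golayCode w, p ∈ bsupp v := by
      have hU : ((lightCoset golayCode w).biUnion bsupp).card = 24 := by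
        rw [Finset.card_biUnion (fun u hu u' hu' hne => hdisj u hu u' hu' hne)]
        have h4c : ∀ u ∈ lightCoset golayCode w, (bsupp u).card = 4 := fun u hu => by
          rw [← hammingNorm_eq_card_bsupp]; exact h4 u hu
        rw [Finset.sum_congr rfl h4c, Finset.sum_const, h6]
        rfl
      have hUeq : (lightCoset golayCode w).biUnion bsupp = Finset.univ := by
        apply Finset.eq_univ_of_card
        rw [hU, fintype_card_golayPt]
      intro p
      have := Finset.mem_univ p
      rw [← hUeq, Finset.mem_biUnion] at this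
      exact this
    by_cases hB : ∃ v ∈ lightCoset golayCode w, ∃ a ∈ X, ∃ b ∈ X,
        a ≠ b ∧ a ∈ bsupp v ∧ b ∈ bsupp v
    · obtain ⟨v, hv, a, ha, b, hb, hab, hav, hbv⟩ := hB
      obtain ⟨a', ha'⟩ : X.Nonempty := Finset.card_pos.mp (by omega)
      obtain ⟨v', hv', ha'v'⟩ := hcover a'
      have hsub : X ⊆ bsupp v' := by
        intro b' hb'
        by_cases hb'a' : b' = a'
        · rw [hb'a']; exact ha'v'
        · obtain ⟨σ, hσ, hσX, hσa, hσb⟩ := hX.h2 a ha b hb a' ha' b' hb' hab (Ne.symm hb'a')
          have hσv := hinv σ hσ hσX v hv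
          have ha'σ : a' ∈ bsupp (permWord σ v) := by
            rw [bsupp_permWord, ← hσa]; exact Finset.smul_mem_smul_finset hav
          have hb'σ : b' ∈ bsupp (permWord σ v) := by
            rw [bsupp_permWord, ← hσb]; exact Finset.smul_mem_smul_finset hbv
          have heq : permWord σ v = v' := by
            by_contra hne
            have := hdisj _ hσv _ hv' hne
            exact (Finset.disjoint_left.mp this) ha'σ ha'v'
          rw [← heq]; exact hb'σ
      have := Finset.card_le_card hsub
      have h4' := h4 v' hv'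
      rw [hammingNorm_eq_card_bsupp] at h4'
      have := hX.hX8
      omega
    · push Not at hB
      have hXeq : X = (lightCoset golayCode w).biUnion (fun v => X ∩ bsupp v) := by
        ext p
        rw [Finset.mem_biUnion]
        constructor
        · intro hp
          obtain ⟨v, hv, hpv⟩ := hcover p
          exact ⟨v, hv, Finset.mem_inter.mpr ⟨hp, hpv⟩⟩
        · rintro ⟨v, hv, hpv⟩
          exact (Finset.mem_inter.mp hpv).1
      have hle : X.card ≤ ∑ v ∈ lightCoset golayCode w, (X ∩ bsupp v).card := by
        calc X.card = ((lightCoset golayCode w).biUnion (fun v => X ∩ bsupp v)).card :=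
              congrArg Finset.card hXeq
          _ ≤ _ := Finset.card_biUnion_le
      have hle1 : ∀ v ∈ lightCoset golayCode w, (X ∩ bsupp v).card ≤ 1 := by
        intro v hv
        rw [Finset.card_le_one]
        intro a ha b hb
        by_contra hab
        rw [Finset.mem_inter] at ha hb
        exact hB v hv a ha.1 b hb.1 hab ha.2 hb.2
      have h6' : ∑ v ∈ lightCoset golayCode w, (X ∩ bsupp v).card ≤ 6 := by
        calc _ ≤ ∑ v ∈ lightCoset golayCode w, 1 := Finset.sum_le_sum hle1
          _ = 6 := by rw [Finset.sum_const, h6]; rfl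
      have := hX.hX8
      omega

theorem nodup_pair' {a b : GolayPt} (h : a ≠ b) : [a, b].Nodup := by simp [h]

theorem goodX_univ : GoodX (Finset.univ : Finset GolayPt) where
  h2 := by
    intro a _ b _ a' _ b' _ hab hab'
    obtain ⟨g, hg, hmap⟩ := M24_exists_map_list [a, b] [a', b'] (nodup_pair' hab)
      (nodup_pair' hab') rfl (by norm_num)
    simp only [List.map_cons, List.map_nil, List.cons.injEq, and_true] at hmap
    exact ⟨g, hg, Finset.smul_finset_univ, hmap.1, hmap.2⟩
  h1 := fun a ha => absurd (Finset.mem_univ a) ha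
  hX8 := by rw [Finset.card_univ, fintype_card_golayPt]; norm_num
  hXc := fun a ha => absurd (Finset.mem_univ a) ha

theorem goodX_octad {o : Finset GolayPt} (ho : o ∈ octads) : GoodX o where
  h2 := by
    intro a ha b hb a' ha' b' hb' hab hab'
    obtain ⟨g, hg, hgo, hmap⟩ := octad_stab_map_list ho [a, b] [a', b'] (nodup_pair' hab)
      (nodup_pair' hab')
      (by intro x hx; simp only [List.mem_cons, List.not_mem_nil, or_false] at hx
          rcases hx with rfl | rfl <;> assumption)
      (by intro x hx; simp only [List.mem_cons, List.not_mem_nil, or_false] at hx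
          rcases hx with rfl | rfl <;> assumption)
      rfl (by norm_num)
    simp only [List.map_cons, List.map_nil, List.cons.injEq, and_true] at hmap
    exact ⟨g, hg, hgo, hmap.1, hmap.2⟩
  h1 := by
    intro a ha a' ha'
    obtain ⟨g, hg, hga⟩ := octadKer_transitive ho ha ha'
    rw [mem_octadKer] at hg
    exact ⟨g, hg.1, smul_eq_self_of_fix hg.2, hga⟩
  hX8 := by rw [octad_card ho]
  hXc := by
    intro _ _
    rw [Finset.card_compl, octad_card ho, fintype_card_golayPt]
    norm_num

theorem goodX_dodecad {d : Finset GolayPt} (hd : d ∈ dodecads) : GoodX d where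
  h2 := by
    intro a ha b hb a' ha' b' hb' hab hab'
    obtain ⟨g, hg, hgo, hmap⟩ := M24_dodecad_list_transitive hd hd [a, b] [a', b']
      (nodup_pair' hab) (nodup_pair' hab')
      (by intro x hx; simp only [List.mem_cons, List.not_mem_nil, or_false] at hx
          rcases hx with rfl | rfl <;> assumption)
      (by intro x hx; simp only [List.mem_cons, List.not_mem_nil, or_false] at hx
          rcases hx with rfl | rfl <;> assumption)
      rfl (by norm_num)
    simp only [List.map_cons, List.map_nil, List.cons.injEq, and_true] at hmap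
    exact ⟨g, hg, hgo, hmap.1, hmap.2⟩
  h1 := by
    intro a ha a' ha'
    have hc := compl_mem_dodecads hd
    obtain ⟨g, hg, hgo, hmap⟩ := M24_dodecad_list_transitive hc hc [a] [a']
      (List.nodup_singleton a) (List.nodup_singleton a')
      (by intro x hx; simp only [List.mem_cons, List.not_mem_nil, or_false] at hx
          rw [hx, Finset.mem_compl]; exact ha)
      (by intro x hx; simp only [List.mem_cons, List.not_mem_nil, or_false] at hx
          rw [hx, Finset.mem_compl]; exact ha')
      rfl (by norm_num)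
    simp only [List.map_cons, List.map_nil, List.cons.injEq, and_true] at hmap
    rw [smul_finset_compl'] at hgo
    exact ⟨g, hg, compl_injective hgo, hmap⟩
  hX8 := by rw [((mem_dodecads_iff d).mp hd).2]; norm_num
  hXc := by
    intro _ _
    rw [Finset.card_compl, ((mem_dodecads_iff d).mp hd).2, fintype_card_golayPt]
    norm_num

/-- the stabilizer of a code word `u` moves every non-trivial coset of the code -/
theorem stab_codeword_moves (u : GolayPt → ZMod 2) (hu : u ∈ golayCode) (w : GolayPt → ZMod 2)
    (hw : w ∉ golayCode) :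
    ∃ σ ∈ M24, permWord σ u = u ∧ permWord σ w - w ∉ golayCode := by
  have hC := golayCode_isGolayLike
  have hbu : bind (bsupp u) ∈ golayCode := by rw [bind_bsupp]; exact hu
  rcases golay_weight hu with h | h | h | h | h
  · have hs : bsupp u = ∅ := by
      rw [hammingNorm_eq_card_bsupp] at h
      exact Finset.card_eq_zero.mp h
    obtain ⟨σ, hσ, _, hσw⟩ := exists_moving_coset goodX_univ w hw
    refine ⟨σ, hσ, permWord_eq_self_of_smul ?_, hσw⟩
    rw [hs, Finset.smul_finset_empty]
  · have ho : bsupp u ∈ octads := by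
      rw [mem_octads_iff]
      exact ⟨hbu, h⟩
    obtain ⟨σ, hσ, hσX, hσw⟩ := exists_moving_coset (goodX_octad ho) w hw
    exact ⟨σ, hσ, permWord_eq_self_of_smul hσX, hσw⟩
  · have hd : bsupp u ∈ dodecads := by
      rw [mem_dodecads_iff]
      exact ⟨hbu, h⟩
    obtain ⟨σ, hσ, hσX, hσw⟩ := exists_moving_coset (goodX_dodecad hd) w hw
    exact ⟨σ, hσ, permWord_eq_self_of_smul hσX, hσw⟩
  · have ho : (bsupp u)ᶜ ∈ octads := by
      rw [mem_octads_iff]
      refine ⟨?_, ?_⟩
      · rw [bind_compl, bind_bsupp]
        exact golayCode.add_mem hC.one_mem hu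
      · rw [Finset.card_compl, fintype_card_golayPt, ← hammingNorm_eq_card_bsupp, h]
    obtain ⟨σ, hσ, hσX, hσw⟩ := exists_moving_coset (goodX_octad ho) w hw
    rw [smul_finset_compl'] at hσX
    exact ⟨σ, hσ, permWord_eq_self_of_smul (compl_injective hσX), hσw⟩
  · have hs : bsupp u = Finset.univ := by
      apply Finset.eq_univ_of_card
      rw [← hammingNorm_eq_card_bsupp, h, fintype_card_golayPt]
    obtain ⟨σ, hσ, _, hσw⟩ := exists_moving_coset goodX_univ w hw
    refine ⟨σ, hσ, permWord_eq_self_of_smul ?_, hσw⟩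
    rw [hs, Finset.smul_finset_univ]

end Cfsg.Agent.Lib.Helper28
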