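import Cfsg.Agent.Lib.Helper28.Data5607

set_option autoImplicit false

/-!
Data for the structure of a sextet stabilizer: the orbit of a flag of unions of tetrads and the
enumeration of the subgroup fixing every tetrad.
-/

namespace Cfsg.Agent.Lib.Helper28

open Cfsg MulAction
open scoped Pointwise

/-- the flag of unions of the first `k` tetrads, `k = 1, …, 5` -/
def sk_y0 : List (List ℕ) := [[3, 6, 7, 14], [3, 6, 7, 14, 1, 2, 13, 16], [3, 6, 7, 14, 1, 2, 13, 16, 9, 11, 15, 18], [3, 6, 7, 14, 1, 2, 13, 16, 9, 11, 15, 18, 8, 10, 12, 20], [3, 6, 7, 14, 1, 2, 13, 16, 9, 11, 15, 18, 8, 10, 12, 20, 5, 17, 19, 21]]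

set_option maxRecDepth 1000000 in
def sk_fcert : List (List ℕ) := [[0, 1], [0, 1], [0, 1], [0, 1], [0, 1], [0, 1], [0, 1], [0, 1], [0, 1], [0, 1], [0, 1], [0, 1], [0, 1], [0, 1], [0], [0, 1], [0, 1], [0, 1], [0, 1], [0, 1], [0, 1], [0, 1], [0], [0, 1], [0, 1], [0, 1], [0, 1], [0, 1], [0, 1], [0, 1], [1], [0, 1], [0, 1], [0, 1], [0, 1], [0, 1], [0, 1], [0], [0, 1], [0, 1], [0, 1], [0, 1], [0, 1], [0, 1], [0, 1], [0, 1], [0, 1], [0, 1], [0, 1], [0, 1], [0, 1], [0, 1], [0], [0, 1], [0, 1], [0, 1], [0, 1], [0, 1], [0, 1], [0, 1], [0, 1], [0, 1], [0, 1], [0, 1], [0, 1], [0], [0, 1], [0, 1], [0, 1], [0, 1], [0, 1], [0, 1], [0, 1], [0, 1], [0, 1], [0, 1], [0, 1], [0, 1], [1], [0, 1], [0], [0, 1], [0, 1], [0, 1], [0, 1], [0, 1], [1], [1], [0, 1], [0, 1], [0, 1], [0, 1], [0, 1], [0, 1], [0], [0, 1], [0, 1], [0], [0, 1], [0], [0, 1], [0, 1], [0, 1], [0, 1], [0, 1], [0, 1], [0, 1], [0, 1], [0, 1], [0], [0, 1], [0, 1], [0, 1], [0, 1], [0, 1], [0], [0, 1], [0,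 1], [0, 1], [0], [0, 1], [1], [1], [0, 1], [0, 1], [0, 1], [], [0, 1], [0], [0, 1], [0, 1], [0, 1], [1], [0, 1], [], [0, 1], [0, 1], [0, 1], [0], [0, 1], [1], [1], [0, 1], [0, 1], [0, 1], [0, 1], [0, 1], [0, 1], [], [0, 1], [0, 1], [0, 1], [0], [0, 1], [0, 1], [0, 1], [0, 1], [0, 1], [0], [0, 1], [0, 1], [0, 1], [0], [0, 1], [0, 1], [0, 1], [0, 1], [0, 1], [0, 1], [0], [0], [0, 1], [0], [0], [0, 1], [1], [0], [0, 1], [0, 1], [1], [0, 1], [0, 1], [0, 1], [0, 1], [0, 1], [0, 1], [], [0, 1], [0, 1], [0, 1], [0, 1], [1], [1], [0, 1], [0, 1], [0, 1], [1], [1], [0, 1], [], [0, 1], [], [0], [1], [0], [0, 1], [0], [], [0], [0, 1], [1], [0], [0], [1], [0], [0, 1], [0, 1], [0, 1], [0, 1], [], [1], [0, 1], [0], [0, 1], [], [0, 1], [0], [1], [1], [], [], [0, 1], [0, 1], [0, 1], [], [1], [0, 1], [0, 1], [0, 1], [0, 1], [0], [], [0, 1], [0, 1], [0, 1], [0], [0], [0], [0, 1], [1], [0], [0, 1], [0], [0, 1], [0, 1], [0], [0, 1], [0, 1], [0, 1], [], [0], [0], [0, 1],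 [0], [], [0], [1], [], [0, 1], [0, 1], [0, 1], [0, 1], [0, 1], [0, 1], [0, 1], [], [0, 1], [1], [1], [0, 1], [1], [1], [0, 1], [0, 1], [0, 1], [1], [1], [0, 1], [1], [], [], [1], [0], [0, 1], [0], [], [0], [0, 1], [1], [1], [], [0, 1], [], [0, 1], [0, 1], [0, 1], [0], [1], [1], [0], [0], [], [1], [0, 1], [0, 1], [], [0, 1], [0, 1], [0, 1], [0, 1], [0], [], [1], [1], [0, 1], [1], [0, 1], [0, 1], [1], [], [0, 1], [1], [0], [0, 1], [0, 1], [], [], [0, 1], [1], [], [0, 1], [1], [0], [0, 1], [0, 1], [0, 1], [0], [0], [0, 1], [], [0, 1], [0], [0, 1], [0], [0], [0, 1], [0, 1], [], [0, 1], [0, 1], [0, 1], [0, 1], [0], [1], [1], [], [1], [0], [0, 1], [], [0, 1], [], [1], [0, 1], [0], [0], [1], [0], [1], [], [], [0], [], [], [1], [0, 1], [], [], [], [], [0, 1], [], [0], [0, 1], [0], [0, 1], [0, 1], [], [], [], [], [0], [1], [], [0], [0, 1], [], [0, 1], [], [0, 1], [], [1], [1], [], [1], [0], [], [1], [1], [], [], [], [0], [], [], [0], [], [], [], [], [1], [0,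 1], [], [1], [], [], [], [1], [], [0, 1], [0, 1], [0, 1], [0], [], [], [0, 1], [1], [0], [0, 1], [1], [], [0], [0, 1], [1], [], [1], [], [0, 1], [], [], [0, 1], [0], [1], [0], [], [], [], [0, 1], [0], [0], [0], [0, 1], [], [], [0], [0, 1], [0, 1], [], [1], [1], [], [0, 1], [1], [1], [1], [], [1], [0, 1], [], [1], [], [], [], [], [], [], [], [], [], [], [0], [], [], [0], [], [0], [], [], [0], [1], [], [0], [], [], [], [], [], [], [], [0, 1], [0], [0, 1], [0], [], [], [], [], [], [1], [], [], [0], [], [], [0, 1], [], [1], [0], [], [0], [1], [], [], [], [], [], [0], [], [], [], [], [1], [1], [], [1], [], [], [], [], [1], [], [], [1], [0], [0, 1], [], [0], [], [], [0, 1], [1], [], [1], [], [], [], [], [0], [], [], [], [0], [], [], [], [0], [1], [], [], [], [], [], [], [], [1], [], [0], [], [], [], [], [], [], [], [], [], [], [], [1], [0], [], [], [1], [0, 1], [], [], [], [0], [], [], [], [], [0], [], [], [], [], [], [], [], [], [], [], [], [], [], [0],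 [], [], [], [], [], [], [], [], [], [], [1], [], [], [1], [], [], [], [0], [], [], [1], [], [], [], [], [], [], [], [], [], [], [], [], [], [], [], [0], [], [], [], [], [], [], [], [], [], [], [], [], [], [], [1], [], [], [], [], [], [], [1]]

abbrev sk_fmodel := famModel 288545021 2147483647 2097152

set_option maxRecDepth 1000000 in
set_option maxHeartbeats 4000000 in
theorem sk_fcheck : distinctAux ((sk_fmodel.nodes c2b_htabs sk_y0 sk_fcert).map sk_fmodel.code) 0 = true ∧
    (sk_fmodel.nodes c2b_htabs sk_y0 sk_fcert).length = 720 := by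
  decide +kernel

set_option maxRecDepth 1000000 in
set_option maxHeartbeats 4000000 in
theorem sk_y0_check : (∀ l ∈ sk_y0, GoodSet l) ∧ ((sk_y0.map setCode).Nodup) ∧
    ∀ l ∈ sk_y0, ∃ k ∈ List.range 7, l = (c2b_S0.take k).flatten := by
  decide +kernel

/-- generators of the subgroup fixing every tetrad -/
def sk_tabs : List ℕ := [961437131187097303870500590692959766, 961356488153070355533681594135163990, 984803024044602281446792238047901184, 30723467217307761523675207540377014]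

set_option maxRecDepth 1000000 in
set_option maxHeartbeats 4000000 in
theorem sk_tabs_check : ∀ t ∈ sk_tabs, TabM24 t ∧
    ∀ l ∈ c2b_S0, setEqB (stepSet t l) l = true := by
  decide +kernel

def sk_cert : List (List ℕ) := [[0, 1, 2, 3], [0, 1, 2, 3], [0, 1, 2, 3], [0, 1, 3], [0, 1, 2, 3], [1, 2, 3], [0, 1, 2, 3], [0, 1, 3], [1, 2, 3], [2, 3], [2, 3], [0, 1, 3], [2, 3], [0, 1, 2], [0, 1, 2], [0, 1, 2, 3], [0, 1], [0, 1], [0, 1, 3], [0, 1, 2], [0, 1, 2, 3], [0, 1, 3], [1, 2], [2, 3], [2, 3], [0, 1, 3], [2, 3], [0, 1], [0, 1], [1, 2, 3], [0, 1], [1, 3], [0, 1, 2], [3], [1, 2, 3], [3], [2], [], [], [2, 3], [3], [0, 1, 2], [3], [3], [], [3], [3], [], [0, 1], [0, 1], [0, 1], [0, 1], [2], [2], [2], [2], [0, 1], [0, 1], [0, 1], [1], [0], [0, 1], [2], [2], [0, 1, 3], [2, 3], [], [0, 1], [1], [], [1], [3], [2, 3], [3], [2], [], [], [3], [3], [2], [], [3], [3], [3], [0, 1], [1], [0, 1], [2], [2], [0, 1], [0, 1], [], [], [0, 1], [1, 3], [], [1, 3], [2], [],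 [], [], [0, 1], [0, 1], [], [], [0, 1], [1], [], [1], [], [], [], [], [], [], [], [1], [0], [], [], [], [], [], [], [], [], [1], [0], [], [], [1], [0], [], [], [], [], [3], [3], [2], [], [], [], [], [3], [3], [2]]

noncomputable abbrev sk_model := elemModel 1048573

set_option maxRecDepth 1000000 in
set_option maxHeartbeats 4000000 in
theorem sk_check : distinctAux ((sk_model.nodes sk_tabs idList sk_cert).map sk_model.code) 0 = true ∧
    (sk_model.nodes sk_tabs idList sk_cert).length = 192 := by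
  decide +kernel

set_option maxRecDepth 1000000 in
set_option maxHeartbeats 4000000 in
theorem sk_closure_check : ∀ a ∈ sk_model.nodes sk_tabs idList sk_cert,
    ∀ b ∈ sk_model.nodes sk_tabs idList sk_cert,
    compL a a = idList → compL b b = idList → compL (compL a b) (compL a b) = idList := by
  decide +kernel

set_option maxRecDepth 1000000 in
set_option maxHeartbeats 4000000 in
theorem sk_count_check : ((sk_model.nodes sk_tabs idList sk_cert).filter
    (fun l => decide (compL l l = idList))).length = 64 := by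
  decide +kernel

end Cfsg.Agent.Lib.Helper28
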