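import Cfsg.Agent.Lib.Helper28.ElemReps

set_option autoImplicit false

/-!
Data for the stabilizer of a trio: three-bit coordinates on each octad of the base trio, such
that the seven sextets refining the trio are given by the seven nonzero linear functionals.
-/

namespace Cfsg.Agent.Lib.Helper28

/-- the base trio -/
def tr_T0 : List (List ℕ) := [[0, 1, 2, 3, 5, 14, 17, 23], [6, 7, 8, 9, 10, 13, 16, 18], [4, 11, 12, 15, 19, 20, 21, 22]]

/-- the coordinates of the points -/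
def tr_cd : List ℕ := [3, 2, 5, 6, 4, 0, 1, 2, 4, 3, 0, 5, 6, 5, 1, 2, 6, 4, 7, 0, 1, 3, 7, 7]

/-- the octad of each point -/
def tr_oct : List ℕ := [0, 0, 0, 0, 2, 0, 1, 1, 1, 1, 1, 2, 2, 1, 0, 2, 1, 0, 1, 2, 2, 2, 2, 0]

/-- the coordinate code of a point -/
def trc (a : ℕ) : ℕ := tr_cd.getD a 0

/-- the index of the octad of a point -/
def tro (a : ℕ) : ℕ := tr_oct.getD a 0

/-- parity of a three-bit number -/
def par3 (x : ℕ) : Bool := xor (xor (x.testBit 0) (x.testBit 1)) (x.testBit 2)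

/-- the value of a functional at a point -/
def trb (lam a : ℕ) : Bool := par3 (lam &&& trc a)

/-- the nonzero functionals -/
def tr_lams : List ℕ := [1, 2, 3, 4, 5, 6, 7]

/-- the seven sextets refining the trio -/
def tr_sexts : List (List (List ℕ)) := [
  [[1, 3, 5, 17], [0, 2, 14, 23], [7, 8, 10, 16], [6, 9, 13, 18], [4, 12, 15, 19], [11, 20, 21, 22]],
  [[2, 5, 14, 17], [0, 1, 3, 23], [6, 8, 10, 13], [7, 9, 16, 18], [4, 11, 19, 20], [12, 15, 21, 22]],
  [[0, 5, 17, 23], [1, 2, 3, 14], [8, 9, 10, 18], [6, 7, 13, 16], [4, 19, 21, 22], [11, 12, 15, 20]],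
  [[0, 1, 5, 14], [2, 3, 17, 23], [6, 7, 9, 10], [8, 13, 16, 18], [15, 19, 20, 21], [4, 11, 12, 22]],
  [[1, 2, 5, 23], [0, 3, 14, 17], [7, 10, 13, 18], [6, 8, 9, 16], [11, 15, 19, 22], [4, 12, 20, 21]],
  [[3, 5, 14, 23], [0, 1, 2, 17], [6, 10, 16, 18], [7, 8, 9, 13], [12, 19, 20, 22], [4, 11, 15, 21]],
  [[0, 2, 3, 5], [1, 14, 17, 23], [9, 10, 13, 16], [6, 7, 8, 18], [11, 12, 19, 21], [4, 15, 20, 22]]
]

/-- the sextet of a functional -/
def tr_sext (lam : ℕ) : List (List ℕ) := tr_sexts.getD (lam - 1) []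

theorem tr_T0_check : IsTrioList tr_T0 := by decide +kernel

theorem tr_pt_check : ∀ a, a < 24 → ∀ b, b < 24 →
    (tro a = tro b → trc a = trc b → a = b) ∧ trc a < 8 ∧ tro a < 3 := by
  decide +kernel

theorem tr_oct_check : ∀ a, a < 24 → ∀ b, b < 24 →
    ((∃ o ∈ tr_T0, a ∈ o ∧ b ∈ o) ↔ tro a = tro b) := by
  decide +kernel

set_option maxRecDepth 100000 in
theorem tr_sext_check : ∀ lam ∈ tr_lams, IsSextetList (tr_sext lam) ∧
    ∀ t ∈ tr_sext lam, ∃ o ∈ tr_T0, ∀ a ∈ t, a ∈ o := by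
  decide +kernel

set_option maxRecDepth 100000 in
theorem tr_block_check : ∀ lam ∈ tr_lams, ∀ a, a < 24 → ∀ b, b < 24 →
    ((∃ t ∈ tr_sext lam, a ∈ t ∧ b ∈ t) ↔ (tro a = tro b ∧ trb lam a = trb lam b)) := by
  decide +kernel

set_option maxRecDepth 1000000 in
set_option maxHeartbeats 4000000 in
theorem tr_refine_check : ∀ S ∈ allsext_nodes,
    (S.all fun t => tr_T0.any fun o => t.all fun a => o.contains a) = true →
    (tr_lams.any fun lam => famEqB S (tr_sext lam)) = true := by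
  decide +kernel

end Cfsg.Agent.Lib.Helper28
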