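import Cfsg.Agent.Lib.Helper28.FamCheck2

set_option autoImplicit false

/-!
Orbit certificates for the stabilizer of a dodecad on dodecads.
-/

namespace Cfsg.Agent.Lib.Helper28

open Cfsg MulAction
open scoped Pointwise

def dd_tabs : List ℕ := [690990540810648442780998547686186148, 110751367925283479010788765447065719]

def dd_base : List ℕ := [0, 1, 2, 3, 4, 5, 9, 11, 12, 15, 16, 23]

set_option maxRecDepth 1000000 in
set_option maxHeartbeats 4000000 in
theorem dd_base_check : IsDodecadList dd_base := by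
  decide +kernel

set_option maxRecDepth 1000000 in
set_option maxHeartbeats 4000000 in
theorem dd_tabs_check : ∀ t ∈ dd_tabs, TabM24 t ∧ setEqB (stepSet t dd_base) dd_base = true := by
  decide +kernel

def dddod_roots : Fin 5 → List ℕ := ![
  [0, 1, 2, 3, 4, 5, 9, 11, 12, 15, 16, 23],
  [6, 7, 8, 10, 13, 14, 17, 18, 19, 20, 21, 22],
  [0, 1, 2, 3, 6, 7, 8, 10, 14, 17, 19, 22],
  [0, 1, 2, 3, 4, 5, 6, 10, 13, 14, 18, 22],
  [0, 1, 2, 3, 4, 5, 6, 7, 9, 13, 20, 23]]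

def dddod_certs : Fin 5 → List (List ℕ) := ![
  [],
  [],
  [[0, 1], [0, 1], [0, 1], [1], [0, 1], [0, 1], [1], [0, 1], [0, 1], [1], [0, 1], [0, 1], [0, 1], [0, 1], [1], [0, 1], [1], [0, 1], [1], [0, 1], [0, 1], [0], [0, 1], [0, 1], [0, 1], [0, 1], [0, 1], [1], [1], [0, 1], [0], [0, 1], [0, 1], [1], [0, 1], [0, 1], [0, 1], [0, 1], [1], [0], [0], [0, 1], [1], [0, 1], [0, 1], [0, 1], [0, 1], [0, 1], [0, 1], [0, 1], [0, 1], [0], [1], [1], [0], [0, 1], [0, 1], [0, 1], [0, 1], [0], [0, 1], [0], [0, 1], [0, 1], [1], [0], [0, 1], [0, 1], [1], [], [], [0, 1], [1], [0, 1], [0], [0, 1], [0, 1], [0, 1], [1], [0], [0, 1], [0], [0, 1], [0, 1], [0, 1], [0], [1], [1], [0, 1], [0, 1], [0], [0, 1], [0, 1], [], [0, 1], [1], [0, 1], [0], [], [1], [1], [0, 1], [], [0, 1], [1], [0, 1], [0, 1], [1], [1], [0, 1], [1], [1], [1], [], [0], [0, 1], [0, 1], [1], [0, 1], [], [0, 1], [0, 1], [0, 1], [1], [0, 1], [0, 1], [], [0, 1], [0, 1], [], [0], [0, 1],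 [0], [0, 1], [0], [0, 1], [1], [0, 1], [1], [0, 1], [1], [1], [], [0, 1], [0, 1], [1], [1], [], [0], [0, 1], [], [0], [], [1], [0, 1], [1], [], [], [1], [0, 1], [], [0, 1], [0, 1], [0], [0, 1], [1], [0], [0, 1], [0, 1], [1], [0], [1], [0], [0], [0, 1], [0, 1], [0, 1], [0, 1], [0, 1], [0], [], [0, 1], [], [1], [1], [1], [0, 1], [1], [0, 1], [0], [1], [1], [1], [0, 1], [0, 1], [1], [], [1], [1], [1], [1], [0, 1], [0, 1], [], [1], [], [], [0, 1], [1], [0], [0, 1], [0], [], [0], [1], [], [0, 1], [], [], [0], [0], [0, 1], [0, 1], [1], [], [0], [0, 1], [], [0], [0, 1], [0, 1], [0], [0, 1], [0, 1], [0], [0], [1], [], [0], [0, 1], [], [], [0], [], [0], [0, 1], [0, 1], [1], [0, 1], [1], [0], [0, 1], [1], [0, 1], [0, 1], [], [0], [0, 1], [], [1], [1], [1], [0], [0, 1], [0, 1], [1], [0], [0, 1], [0, 1], [], [0, 1], [1], [], [1], [1], [1], [0, 1], [0], [], [], [0], [0, 1], [], [], [1], [0], [0], [1], [0, 1], [0], [1], [], [], [], [0], [0,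 1], [1], [1], [], [0, 1], [], [0], [0, 1], [], [0], [], [0, 1], [1], [], [0, 1], [], [], [1], [], [1], [], [0], [0, 1], [0, 1], [], [], [0], [1], [0, 1], [], [1], [0, 1], [0], [], [0], [], [], [], [], [0], [0], [0], [0, 1], [0], [], [], [1], [0, 1], [1], [1], [1], [], [0], [0, 1], [1], [0, 1], [0], [1], [], [], [1], [], [], [0], [], [], [0], [0], [], [1], [0, 1], [], [], [0, 1], [0], [0], [], [0, 1], [], [], [], [0], [1], [0], [0, 1], [1], [0, 1], [0, 1], [], [], [1], [0], [1], [0], [0, 1], [], [0], [1], [], [], [], [], [], [0], [], [1], [], [0, 1], [], [1], [], [], [0], [], [], [], [], [], [1], [1], [1], [], [], [0, 1], [], [1], [], [], [0], [], [], [], [], [], [], [], [], [], [], [], [], [], [], [1], [], [1], [], [], [1], [], [0], [1], [], [1], [], [], [], [0], [0], [0, 1], [], [0], [], [], [0], [], [0], [0, 1], [], [], [], [], [], [], [], [], [], [], [1], [], [], [], [], [], [1], [0], [], [], [], [0]],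
  [[0, 1], [0, 1], [0, 1], [0, 1], [0, 1], [0, 1], [0, 1], [0, 1], [0, 1], [0, 1], [0, 1], [0, 1], [0, 1], [1], [0, 1], [0, 1], [0, 1], [0, 1], [], [0, 1], [0, 1], [0, 1], [0, 1], [0, 1], [0, 1], [0, 1], [0, 1], [0, 1], [0, 1], [0, 1], [1], [0, 1], [0, 1], [0, 1], [0, 1], [0, 1], [0, 1], [0, 1], [0, 1], [0, 1], [1], [0, 1], [0, 1], [0, 1], [0], [0, 1], [0, 1], [0, 1], [0, 1], [0, 1], [0, 1], [0, 1], [0, 1], [0], [1], [0], [0, 1], [0, 1], [0, 1], [0, 1], [0, 1], [0, 1], [0, 1], [1], [0, 1], [0, 1], [0], [0, 1], [0, 1], [0, 1], [1], [0, 1], [0, 1], [0, 1], [0, 1], [0, 1], [0, 1], [0, 1], [0, 1], [0, 1], [1], [1], [0, 1], [0, 1], [1], [0, 1], [0, 1], [0, 1], [0, 1], [0, 1], [0, 1], [0, 1], [0, 1], [0, 1], [0, 1], [1], [0, 1], [0, 1], [0, 1], [0, 1], [0], [0, 1], [0, 1], [0, 1], [1], [1], [0, 1], [0, 1], [0, 1], [1], [0, 1], [0, 1], [0, 1], [0, 1], [0, 1], [0, 1], [0, 1], [0, 1], [0, 1], [0, 1], [0], [0, 1], [0], [0, 1], [0, 1], [0,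 1], [], [0, 1], [], [0, 1], [0, 1], [0, 1], [0, 1], [0, 1], [0, 1], [0, 1], [0, 1], [0, 1], [0, 1], [1], [0, 1], [0, 1], [0, 1], [0, 1], [0, 1], [1], [0], [0, 1], [0, 1], [0, 1], [0, 1], [1], [0, 1], [0, 1], [1], [1], [0, 1], [0, 1], [0, 1], [0, 1], [0, 1], [0, 1], [0, 1], [0, 1], [1], [0, 1], [0, 1], [0, 1], [0, 1], [1], [0, 1], [1], [0, 1], [0, 1], [0, 1], [1], [0, 1], [0, 1], [1], [1], [0, 1], [0, 1], [1], [0, 1], [0, 1], [0, 1], [1], [0], [0, 1], [0, 1], [0, 1], [0], [0], [1], [1], [0, 1], [0, 1], [0], [0], [0, 1], [0, 1], [0, 1], [0, 1], [0, 1], [0, 1], [], [0, 1], [0, 1], [0], [0, 1], [0, 1], [0, 1], [0], [1], [0], [0, 1], [1], [0, 1], [0, 1], [1], [0], [0, 1], [], [0], [0, 1], [1], [1], [1], [0, 1], [0, 1], [0, 1], [0, 1], [], [0, 1], [0, 1], [0, 1], [0, 1], [0, 1], [0, 1], [0, 1], [0, 1], [1], [0, 1], [0, 1], [0, 1], [0, 1], [0, 1], [0, 1], [0, 1], [0, 1], [], [1], [1], [0, 1], [0, 1], [1], [1], [1], [0, 1], [], [0, 1],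 [0, 1], [0, 1], [0, 1], [1], [0, 1], [1], [0, 1], [0, 1], [0, 1], [0, 1], [], [0, 1], [0, 1], [], [0, 1], [0], [], [1], [0], [0, 1], [], [0, 1], [0, 1], [0, 1], [1], [0], [1], [0, 1], [0, 1], [0, 1], [1], [1], [0, 1], [0, 1], [0, 1], [0, 1], [1], [0, 1], [0, 1], [1], [0, 1], [0], [0], [1], [0, 1], [0, 1], [0], [0, 1], [0, 1], [0, 1], [0, 1], [0], [0, 1], [], [0], [0, 1], [1], [0], [0, 1], [0], [0, 1], [1], [0], [0, 1], [1], [0, 1], [0, 1], [1], [0], [0, 1], [0, 1], [0], [], [0, 1], [0, 1], [0, 1], [1], [0, 1], [0], [0], [0], [0, 1], [1], [0, 1], [0], [0, 1], [0, 1], [], [], [1], [0, 1], [0, 1], [0], [1], [0], [0, 1], [0, 1], [0, 1], [0, 1], [0, 1], [1], [0, 1], [0, 1], [0, 1], [0, 1], [1], [1], [1], [1], [0, 1], [0, 1], [0, 1], [0, 1], [0], [0], [0, 1], [], [], [0], [], [1], [0], [1], [0], [], [], [], [0], [0, 1], [0, 1], [0], [1], [], [1], [0, 1], [0, 1], [1], [1], [0, 1], [1], [1], [1], [0, 1], [1], [0, 1], [0, 1], [], [0, 1],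 [0, 1], [0, 1], [0, 1], [0, 1], [0, 1], [0, 1], [0, 1], [0, 1], [0, 1], [1], [1], [0], [1], [1], [0, 1], [0], [0, 1], [1], [0], [0, 1], [0, 1], [0, 1], [0, 1], [0], [0, 1], [0, 1], [0, 1], [1], [0, 1], [1], [0, 1], [0, 1], [0], [0, 1], [0, 1], [0, 1], [], [0, 1], [0], [0, 1], [0, 1], [0, 1], [], [1], [0], [1], [0, 1], [1], [], [0], [0], [1], [1], [], [], [0, 1], [1], [0, 1], [1], [0, 1], [1], [1], [0, 1], [], [], [0, 1], [0], [0, 1], [1], [0, 1], [1], [0], [0, 1], [1], [0], [0, 1], [0, 1], [0, 1], [], [0], [], [0, 1], [0], [0, 1], [0, 1], [0, 1], [], [0, 1], [0, 1], [0, 1], [], [0, 1], [0], [0, 1], [], [0, 1], [0], [1], [0], [0, 1], [0], [0, 1], [1], [0, 1], [0], [0], [0, 1], [0], [], [0, 1], [0, 1], [0, 1], [1], [0], [0, 1], [0], [0, 1], [0], [0, 1], [1], [1], [0, 1], [0, 1], [], [1], [], [0, 1], [1], [1], [0, 1], [0, 1], [], [0, 1], [1], [0], [0], [0, 1], [1], [0, 1], [0], [], [0, 1], [0, 1], [1], [0, 1], [0], [0, 1], [0, 1],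 [0, 1], [], [], [0], [0, 1], [0, 1], [1], [0], [0, 1], [0], [0, 1], [0, 1], [], [0, 1], [0, 1], [], [0], [0, 1], [0], [0, 1], [], [0, 1], [], [], [1], [0], [0, 1], [1], [1], [1], [0, 1], [0, 1], [0, 1], [0, 1], [0, 1], [0, 1], [0, 1], [1], [0, 1], [0, 1], [], [0, 1], [0], [0, 1], [1], [0], [], [0], [0, 1], [1], [], [1], [1], [0, 1], [1], [1], [1], [0], [1], [0, 1], [0], [1], [], [], [0], [0, 1], [0, 1], [0], [0, 1], [0, 1], [0, 1], [0, 1], [0, 1], [0, 1], [0, 1], [0], [0], [0, 1], [0, 1], [0, 1], [0], [0, 1], [0], [1], [0], [0], [1], [0, 1], [], [0], [0, 1], [], [], [0, 1], [0, 1], [], [0], [1], [0, 1], [1], [0, 1], [], [0, 1], [0, 1], [0, 1], [0, 1], [0, 1], [0, 1], [], [0, 1], [0], [0], [1], [1], [0, 1], [0, 1], [0, 1], [0], [], [0, 1], [0, 1], [0], [1], [1], [0, 1], [0, 1], [0, 1], [0], [1], [0, 1], [0], [1], [0], [0, 1], [0, 1], [], [0, 1], [0, 1], [0, 1], [], [0, 1], [1], [], [1], [], [1], [1], [], [1], [0, 1], [0, 1], [1],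 [], [0, 1], [], [0, 1], [], [0, 1], [], [0], [1], [1], [1], [1], [1], [], [], [1], [1], [0, 1], [0, 1], [1], [1], [], [0], [0], [0, 1], [], [], [], [1], [1], [0, 1], [1], [1], [], [1], [0, 1], [0, 1], [], [], [], [], [], [0], [1], [1], [1], [0, 1], [0, 1], [0], [0, 1], [1], [0], [1], [0], [1], [0, 1], [1], [0], [0, 1], [], [], [0, 1], [1], [0], [1], [0], [0, 1], [0], [1], [1], [], [], [0, 1], [], [1], [1], [0, 1], [1], [0, 1], [], [], [], [1], [0, 1], [0, 1], [0], [0], [0], [], [1], [0, 1], [1], [0], [0, 1], [], [1], [0], [0, 1], [0, 1], [0, 1], [0], [0], [0], [], [0], [], [0], [0, 1], [0], [], [1], [0, 1], [0, 1], [0, 1], [0], [], [0, 1], [0], [], [0, 1], [0], [], [], [1], [1], [1], [], [1], [], [0], [1], [0], [0], [0], [], [0], [1], [0], [0], [0, 1], [], [], [1], [0], [0, 1], [], [0], [1], [], [], [], [0], [], [], [0, 1], [], [0], [1], [1], [0, 1], [], [0], [1], [1], [1], [1], [], [], [], [1], [], [0], [0], [], [1], [0], [0,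 1], [0], [], [1], [], [], [], [1], [0, 1], [0], [], [0, 1], [0, 1], [], [1], [0, 1], [1], [1], [], [0], [], [0], [0, 1], [0, 1], [0, 1], [1], [], [], [1], [], [], [1], [], [0, 1], [1], [], [0], [0, 1], [1], [0], [], [0], [0], [0, 1], [], [1], [], [], [0, 1], [], [1], [1], [], [], [], [], [], [], [], [0], [0], [0, 1], [0, 1], [0, 1], [0, 1], [], [0], [1], [0, 1], [1], [1], [], [1], [1], [], [0, 1], [0, 1], [], [], [0, 1], [], [0, 1], [0, 1], [0], [0, 1], [0, 1], [1], [0, 1], [], [], [0], [0], [], [1], [1], [], [1], [0, 1], [0, 1], [], [0, 1], [0], [0], [0], [0, 1], [1], [], [], [0, 1], [], [0], [0], [1], [], [0], [0, 1], [0], [0], [1], [1], [0, 1], [0], [1], [0], [1], [0, 1], [0], [0], [], [], [0], [], [], [], [1], [1], [0], [0, 1], [1], [], [0], [0], [], [], [0, 1], [1], [1], [], [0, 1], [1], [0], [], [1], [1], [], [1], [1], [], [0, 1], [1], [0], [0], [], [0], [], [1], [], [0, 1], [0], [1], [1], [0, 1], [1], [0, 1], [0], [], [1],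 [0, 1], [0], [0, 1], [], [0], [0], [], [], [], [], [], [], [], [1], [1], [], [], [1], [], [0], [], [0], [], [0], [], [0], [], [0], [0, 1], [0, 1], [], [0, 1], [], [1], [], [], [0], [], [1], [0, 1], [0], [1], [0, 1], [0], [1], [], [0], [], [0], [], [1], [0], [0], [], [], [], [], [], [], [], [], [], [], [], [], [0], [1], [0], [], [0, 1], [1], [0], [0], [0], [0, 1], [], [0], [1], [], [0], [], [1], [], [], [], [1], [0], [1], [1], [0], [0], [1], [0, 1], [0], [1], [], [], [], [0], [], [], [0], [0], [], [1], [], [0, 1], [1], [0], [1], [], [0], [1], [], [], [], [], [0, 1], [0], [1], [], [0], [0], [], [], [], [], [], [], [1], [], [], [], [], [1], [0, 1], [], [1], [], [0], [0], [], [], [0], [1], [1], [0], [0], [], [1], [0], [1], [], [1], [1], [], [], [0, 1], [], [], [], [1], [1], [], [], [], [], [0], [1], [0, 1], [0], [1], [], [1], [], [], [], [], [], [0], [0, 1], [1], [0], [0], [], [0], [], [], [], [], [0], [], [], [1], [], [], [0], [],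 [0], [], [], [], [], [0], [0, 1], [], [], [], [], [], [], [1], [], [1], [0], [1], [1], [], [0], [0], [], [1], [], [], [], [1], [1], [], [], [0], [], [1], [0, 1], [], [0], [], [0], [1], [0], [], [0, 1], [0], [], [0], [], [], [], [1], [], [], [1], [1], [0], [], [], [], [], [0], [], [], [], [], [], [1], [0], [], [], [], [], [], [], [0], [], [], [1], [], [0], [], [], [], [], [], [], [0], [], [], [], [0, 1], [], [], [], [1], [], [], [], [], [1], [0], [], [], [], [], [], [], [], [1], [1], [], [1], [], [1], [1], [1], [0], [0], [], [], [0, 1], [], [], [0], [], [0, 1], [], [], [], [0], [], [], [], [], [], [], [], [], [], [0], [1], [], [], [], [], [0], [], [1], [], [], [], [0], [], [], [], [], [0], [1], [1], [1], [], [1], [], [], [], [], [0], [], [1], [], [0], [1], [], [], [], [], [], [], [], [], [0], [], [], [0], [], [], [0], [], [], [], [], [], [], [], [], [], [], [], [], [], [1], [0], [1], [], [], [], [0], [], [], [1], [], [], [1], [],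 [], [0], [], [], [], [], [1], [], [0], [0], [], [], [], [], [], [], [], [], [], [], [], [], [1], [], [], [], [], [], [], [], [], [], [], [], [], [], [], [], [], [], [], [], [], [], [1], [], [1], [], [], [], [], [], [], [], [], [], [], [], [], [], [], [], [], [], [], [1], [], [], [], [], [], [0], [], [], [], [], [], [], [0], [], [], [], [], [], [], [], [], [], [], [], [], [], [], [], [0]],
  [[0, 1], [0, 1], [0, 1], [0, 1], [0, 1], [0, 1], [0, 1], [0, 1], [0, 1], [0, 1], [0, 1], [0, 1], [0, 1], [0, 1], [0, 1], [0, 1], [0, 1], [0, 1], [0, 1], [0, 1], [0, 1], [0, 1], [0, 1], [0], [0, 1], [0, 1], [0, 1], [1], [], [0, 1], [], [1], [0, 1], [0, 1], [0, 1], [0, 1], [0, 1], [0, 1], [0, 1], [1], [0, 1], [0], [0], [], [0, 1], [0, 1], [0, 1], [1], [1], [0], [0, 1], [0, 1], [0, 1], [0, 1], [1], [1], [0, 1], [0, 1], [0], [0, 1], [], [0, 1], [0], [0, 1], [0, 1], [0, 1], [0, 1], [0, 1], [1], [0, 1], [1], [0, 1], [0, 1], [1], [0, 1], [0, 1], [1],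 [0, 1], [0, 1], [1], [], [1], [], [0, 1], [0, 1], [0, 1], [0, 1], [1], [0, 1], [0], [1], [0], [0, 1], [], [0, 1], [0], [0], [1], [0], [0, 1], [0, 1], [1], [], [0, 1], [0, 1], [1], [1], [0], [0, 1], [0], [1], [1], [0, 1], [0, 1], [0, 1], [0, 1], [1], [0, 1], [1], [0, 1], [0, 1], [0, 1], [0, 1], [1], [], [], [0], [0], [0, 1], [0, 1], [0, 1], [0], [0], [0, 1], [0, 1], [0, 1], [1], [0, 1], [0, 1], [], [1], [], [0, 1], [0, 1], [0, 1], [0], [0, 1], [0, 1], [0], [1], [1], [0, 1], [0, 1], [0], [0], [0], [0], [0, 1], [0, 1], [0, 1], [0], [1], [0, 1], [0, 1], [1], [0, 1], [1], [0, 1], [0], [], [1], [0, 1], [0, 1], [0, 1], [0, 1], [1], [0, 1], [], [0, 1], [1], [0], [0], [0, 1], [0, 1], [], [0], [0, 1], [0, 1], [1], [], [0], [0], [0, 1], [0, 1], [0, 1], [], [0], [], [1], [0, 1], [], [], [1], [0, 1], [1], [], [0], [0, 1], [1], [0], [0, 1], [0, 1], [1], [1], [0], [0, 1], [0, 1], [0], [], [1], [1], [0], [0], [1], [0], [0], [0], [1], [0, 1],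 [], [], [0, 1], [0], [0, 1], [1], [0], [0], [1], [], [0, 1], [0, 1], [1], [1], [0], [0], [], [0], [0, 1], [0, 1], [0, 1], [1], [0, 1], [0, 1], [1], [0], [], [1], [], [0], [], [1], [1], [0], [0, 1], [0, 1], [0], [0, 1], [], [1], [], [], [1], [], [0, 1], [0, 1], [1], [], [], [], [], [0, 1], [1], [], [0], [0], [0, 1], [], [], [], [], [0, 1], [1], [0], [1], [1], [1], [1], [], [0, 1], [], [0, 1], [], [1], [0], [], [], [], [0], [], [], [], [], [], [], [0], [], [0], [1], [], [], [], [1], [], [], [0], [0], [1], [], [0], [1], [], [], [0, 1], [], [], [], [0], [], [], [1], [], [1], [1], [0], [], [1], [], [1], [0, 1], [0], [0, 1], [], [1], [1], [0], [0, 1], [0, 1], [], [], [], [0, 1], [], [], [0, 1], [], [1], [], [0], [0, 1], [0], [1], [1], [0], [0], [], [0, 1], [1], [0, 1], [], [], [], [], [], [0], [], [], [], [], [1], [], [0], [0], [1], [0], [], [0], [], [], [0], [], [], [], [], [1], [], [0], [], [], [], [0], [], [0], [1], [1], [0], [],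 [0], [0], [], [0, 1], [], [], [0, 1], [0, 1], [1], [], [1], [], [0], [], [], [], [], [], [], [], [0], [0], [0], [0, 1], [1], [], [0], [0], [], [0], [1], [0], [], [], [], [], [], [0], [], [0], [], [], [], [1], [], [], [], [], [], [], [], [1], [1], [], [], [], [], [], [], [], [], [], [], [0, 1], [0]]]

def dddod_sizes : Fin 5 → ℕ := ![1, 1, 495, 1584, 495]

abbrev dddod_model := (setModel 35225 262139)

set_option maxRecDepth 1000000 in
set_option maxHeartbeats 4000000 in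
theorem dddod_check : distinctAux (((List.ofFn fun i => dddod_model.nodes dd_tabs (dddod_roots i)
    (dddod_certs i)).flatten).map dddod_model.code) 0 = true := by
  decide +kernel

set_option maxRecDepth 1000000 in
set_option maxHeartbeats 4000000 in
theorem dddod_len : ∀ i, (dddod_model.nodes dd_tabs (dddod_roots i) (dddod_certs i)).length =
    dddod_sizes i := by
  decide +kernel

set_option maxRecDepth 1000000 in
set_option maxHeartbeats 4000000 in
theorem dddod_rootcheck : ∀ i, IsDodecadList (dddod_roots i) := by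
  decide +kernel

end Cfsg.Agent.Lib.Helper28
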