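import Cfsg.Agent.Lib.Helper28.DataAll
import Cfsg.Agent.Lib.Helper28.ElemClasses
import Cfsg.Agent.Lib.Helper28.CertClasses2
import Cfsg.Agent.S0360
import Cfsg.Agent.S0361

set_option autoImplicit false

/-!
Enumerations of octads, dodecads, trios and sextets; the representatives of the elements of order
2 and 3 of `M24`: orders, fixed points, and numbers of fixed octads, dodecads, trios, sextets.
-/

namespace Cfsg.Agent.Lib.Helper28

open Cfsg MulAction
open scoped Pointwise

theorem ofFn_one_flatten {X : Type} (f : Fin 1 → List X) : (List.ofFn f).flatten = f 0 := by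
  simp [List.ofFn_succ]

theorem all_hgens : ∀ t ∈ all_tabs, ∃ g ∈ M24, ActsBy g t :=
  fun t ht => (all_tabs_check t ht).exists

/-! ### equality tests on codes -/

theorem setEqB_iff {l l' : List ℕ} (hl : GoodSet l) (hl' : GoodSet l') :
    setEqB l l' = true ↔ ptSet l = ptSet l' := by
  constructor
  · exact ptSet_eq_of_setEqB
  · intro h
    unfold setEqB
    rw [Bool.and_eq_true, List.all_eq_true, List.all_eq_true]
    constructor
    · intro a ha
      have : ptN a ∈ ptSet l' := by rw [← h]; exact mem_ptSet.mpr ⟨a, ha, rfl⟩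
      simpa using (ptN_mem_ptSet hl' (hl.2 a ha)).mp this
    · intro a ha
      have : ptN a ∈ ptSet l := by rw [h]; exact mem_ptSet.mpr ⟨a, ha, rfl⟩
      simpa using (ptN_mem_ptSet hl (hl'.2 a ha)).mp this

/-- two coded families have the same sets -/
def famEqB (L L' : List (List ℕ)) : Bool := famSubB L L' && famSubB L' L

theorem famSubB_of_subset {L L' : List (List ℕ)} (hL : GoodFam L) (hL' : GoodFam L')
    (h : famSet L ⊆ famSet L') : famSubB L L' = true := by
  unfold famSubB
  rw [List.all_eq_true]
  intro l hl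
  rw [List.any_eq_true]
  have : ptSet l ∈ famSet L' := h (mem_famSet.mpr ⟨l, hl, rfl⟩)
  obtain ⟨l', hl', he⟩ := mem_famSet.mp this
  exact ⟨l', hl', (setEqB_iff (hL.1 l hl) (hL'.1 l' hl')).mpr he.symm⟩

theorem famEqB_iff {L L' : List (List ℕ)} (hL : GoodFam L) (hL' : GoodFam L') :
    famEqB L L' = true ↔ famSet L = famSet L' := by
  unfold famEqB
  rw [Bool.and_eq_true]
  constructor
  · rintro ⟨h1, h2⟩
    exact Finset.Subset.antisymm (famSet_subset_of_famSubB h1) (famSet_subset_of_famSubB h2)
  · intro h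
    exact ⟨famSubB_of_subset hL hL' (by rw [h]), famSubB_of_subset hL' hL (by rw [h])⟩

/-! ### the enumerations -/

/-- all octads -/
noncomputable def alloct_nodes : List (List ℕ) :=
  alloct_model.nodes all_tabs (alloct_roots 0) (alloct_certs 0)

/-- all dodecads -/
noncomputable def alldod_nodes : List (List ℕ) :=
  alldod_model.nodes all_tabs (alldod_roots 0) (alldod_certs 0)

/-- all trios -/
noncomputable def alltrio_nodes : List (List (List ℕ)) :=
  alltrio_model.nodes all_tabs (alltrio_roots 0) (alltrio_certs 0)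

/-- all sextets -/
noncomputable def allsext_nodes : List (List (List ℕ)) :=
  allsext_model.nodes all_tabs (allsext_roots 0) (allsext_certs 0)

theorem alloct_enum : (∀ x ∈ alloct_nodes, GoodSet x) ∧ (alloct_nodes.map ptSet).Nodup ∧
    ∀ y, y ∈ octads ↔ ∃ x ∈ alloct_nodes, ptSet x = y := by
  have hc := alloct_check
  rw [ofFn_one_flatten] at hc
  exact alloct_model.enum_of_cert all_tabs all_hgens octads
    (fun g hg y hy => smul_mem_octads hg hy) 759 Cfsg.Agent.S0360.result (Set.toFinite _)
    (alloct_roots 0) (alloct_rootcheck 0).1 (alloct_rootcheck 0).mem (alloct_certs 0) hc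
    (alloct_len 0)

theorem alldod_enum : (∀ x ∈ alldod_nodes, GoodSet x) ∧ (alldod_nodes.map ptSet).Nodup ∧
    ∀ y, y ∈ dodecads ↔ ∃ x ∈ alldod_nodes, ptSet x = y := by
  have hc := alldod_check
  rw [ofFn_one_flatten] at hc
  exact alldod_model.enum_of_cert all_tabs all_hgens dodecads
    (fun g hg y hy => smul_mem_dodecads hg hy) 2576 Cfsg.Agent.S0361.result (Set.toFinite _)
    (alldod_roots 0) (alldod_rootcheck 0).1 (alldod_rootcheck 0).mem (alldod_certs 0) hc
    (alldod_len 0)

theorem alltrio_enum : (∀ x ∈ alltrio_nodes, GoodFam x) ∧ (alltrio_nodes.map famSet).Nodup ∧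
    ∀ y, y ∈ trios ↔ ∃ x ∈ alltrio_nodes, famSet x = y := by
  have hc := alltrio_check
  rw [ofFn_one_flatten] at hc
  exact alltrio_model.enum_of_cert all_tabs all_hgens trios
    (fun g hg y hy => smul_mem_trios hg hy) 3795 ncard_trios (Set.toFinite _)
    (alltrio_roots 0) (alltrio_rootcheck 0).goodFam (alltrio_rootcheck 0).mem (alltrio_certs 0) hc
    (alltrio_len 0)

theorem allsext_enum : (∀ x ∈ allsext_nodes, GoodFam x) ∧ (allsext_nodes.map famSet).Nodup ∧
    ∀ y, y ∈ sextets ↔ ∃ x ∈ allsext_nodes, famSet x = y := by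
  have hc := allsext_check
  rw [ofFn_one_flatten] at hc
  exact allsext_model.enum_of_cert all_tabs all_hgens sextets
    (fun g hg y hy => smul_mem_sextets hg hy) 1771 ncard_sextets (Set.toFinite _)
    (allsext_roots 0) (allsext_rootcheck 0).goodFam (allsext_rootcheck 0).mem (allsext_certs 0) hc
    (allsext_len 0)

/-! ### counting fixed objects -/

theorem ncard_fixed_octads {g : Equiv.Perm GolayPt} {t : ℕ} (hact : ActsBy g t) :
    {y | y ∈ octads ∧ g • y = y}.ncard =
      (alloct_nodes.filter (fun x => setEqB (stepSet t x) x)).length :=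
  alloct_model.ncard_fixed alloct_nodes alloct_enum.1 alloct_enum.2.1 octads alloct_enum.2.2 g t
    hact setEqB (fun _ _ h h' => setEqB_iff h h')

theorem ncard_fixed_dodecads {g : Equiv.Perm GolayPt} {t : ℕ} (hact : ActsBy g t) :
    {y | y ∈ dodecads ∧ g • y = y}.ncard =
      (alldod_nodes.filter (fun x => setEqB (stepSet t x) x)).length :=
  alldod_model.ncard_fixed alldod_nodes alldod_enum.1 alldod_enum.2.1 dodecads alldod_enum.2.2 g t
    hact setEqB (fun _ _ h h' => setEqB_iff h h')

theorem ncard_fixed_trios {g : Equiv.Perm GolayPt} {t : ℕ} (hact : ActsBy g t) :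
    {y | y ∈ trios ∧ g • y = y}.ncard =
      (alltrio_nodes.filter (fun x => famEqB (stepFam t x) x)).length :=
  alltrio_model.ncard_fixed alltrio_nodes alltrio_enum.1 alltrio_enum.2.1 trios alltrio_enum.2.2
    g t hact famEqB (fun _ _ h h' => famEqB_iff h h')

theorem ncard_fixed_sextets {g : Equiv.Perm GolayPt} {t : ℕ} (hact : ActsBy g t) :
    {y | y ∈ sextets ∧ g • y = y}.ncard =
      (allsext_nodes.filter (fun x => famEqB (stepFam t x) x)).length :=
  allsext_model.ncard_fixed allsext_nodes allsext_enum.1 allsext_enum.2.1 sextets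
    allsext_enum.2.2 g t hact famEqB (fun _ _ h h' => famEqB_iff h h')

end Cfsg.Agent.Lib.Helper28
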