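import Cfsg.Agent.Lib.Helper28.Data1602
import Cfsg.Agent.Lib.Helper28.ElemReps

set_option autoImplicit false

/-!
Data for the quartets of a dodecad: the hexads of the base dodecad, a base quartet, its orbit under
the stabilizer of the dodecad, the enumeration of its stabilizer and the orbits of that stabilizer
on quartets.
-/

namespace Cfsg.Agent.Lib.Helper28

open Cfsg MulAction
open scoped Pointwise

/-- the hexads of the base dodecad, as lists -/
noncomputable def qt_hexL : List (List ℕ) :=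
  (alloct_nodes.map (fun l => l.filter (fun a => decide (a ∈ m9_base)))).filter
    (fun l => decide (l.length = 6))

/-- the base quartet -/
def qt_q0 : List (List ℕ) := [[0, 1, 2], [3, 4, 12], [5, 11, 16], [9, 15, 23]]

set_option maxRecDepth 1000000 in
set_option maxHeartbeats 4000000 in
theorem qt_q0_check : (∀ l ∈ qt_q0, GoodSet l ∧ l ≠ [] ∧ l.length = 3 ∧ ∀ a ∈ l, a ∈ m9_base) ∧
    qt_q0.Pairwise listDisjoint ∧
    ∀ l ∈ qt_q0, ∀ l' ∈ qt_q0, l ≠ l' → qt_hexL.any (fun x => setEqB x (l ++ l')) = true := by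
  decide +kernel

set_option maxRecDepth 1000000 in
set_option maxHeartbeats 4000000 in
theorem qt_hexL_good : ∀ l ∈ qt_hexL, GoodSet l := by
  decide +kernel

set_option maxRecDepth 1000000 in
set_option maxHeartbeats 4000000 in
theorem qt_key_check : ∀ l ∈ qt_hexL, (l.filter (fun a => decide (a ∉ [0, 1, 2]))).length = 3 →
    ∀ l' ∈ qt_hexL, setCode (l.filter (fun a => decide (a ∉ [0, 1, 2]))) =
      setCode (l'.filter (fun a => decide (a ∉ [3, 4, 12]))) →
    setCode (l.filter (fun a => decide (a ∉ [0, 1, 2]))) = setCode [5, 11, 16] ∨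
    setCode (l.filter (fun a => decide (a ∉ [0, 1, 2]))) = setCode [9, 15, 23] := by
  decide +kernel

set_option maxRecDepth 1000000 in
def qt_ocert : List (List ℕ) := [[0, 1], [0, 1], [0, 1], [0, 1], [0, 1], [0, 1], [1], [0, 1], [0, 1], [0, 1], [0, 1], [0, 1], [0, 1], [0, 1], [0, 1], [0], [0, 1], [0, 1], [0, 1], [0, 1], [0, 1], [0, 1], [0, 1], [0, 1], [0, 1], [0, 1], [0, 1], [0, 1], [], [0, 1], [0], [0, 1], [0, 1], [0, 1], [0, 1], [0, 1], [0, 1], [0, 1], [1], [1], [0], [0, 1], [0, 1], [1], [0, 1], [0, 1], [1], [0, 1], [0], [0], [0, 1], [1], [1], [0, 1], [0, 1], [0, 1], [1], [0], [0, 1], [], [0, 1], [0, 1], [0, 1], [1], [], [0, 1], [0, 1], [0, 1], [1], [0], [1], [0, 1], [0], [0, 1], [], [1], [], [0, 1], [1], [], [0], [0, 1], [], [0], [1], [0, 1], [0], [0], [0, 1], [0, 1], [0, 1], [1], [], [0, 1], [0, 1], [1], [1], [0, 1], [1], [1], [1], [0], [0], [0], [1], [1], [0, 1], [0], [0, 1], [0, 1], [1], [], [], [], [0, 1], [1], [0, 1], [], [], [], [0], [], [0], [],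 [0], [0, 1], [], [0], [0, 1], [1], [], [0], [0], [], [0], [], [0], [0], [0, 1], [0], [0], [1], [0], [0], [0, 1], [0], [0], [], [1], [0], [1], [1], [], [0], [0], [], [], [0], [], [1], [], [1], [], [0], [], [0], [], [], [0], [0], [1], [0], [], [0, 1], [], [], [], [], [], [], [], [], [], [], [], [], [1], [1], [], [], [1], [], [], [], [], [], [], [], [], [], [], [0], [], [], [], [], [], [], [1]]

abbrev qt_omodel := famModel 288545021 2147483647 1048576

set_option maxRecDepth 1000000 in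
set_option maxHeartbeats 4000000 in
theorem qt_ocheck : distinctAux ((qt_omodel.nodes s5_dtabs qt_q0 qt_ocert).map qt_omodel.code) 0 = true ∧
    (qt_omodel.nodes s5_dtabs qt_q0 qt_ocert).length = 220 := by
  decide +kernel

/-- generators of the stabilizer of the base quartet -/
def qt_tabs : List ℕ := [397544802693743262120013683496235108, 188558535140229986303652239284186629]

set_option maxRecDepth 1000000 in
set_option maxHeartbeats 4000000 in
theorem qt_tabs_check : ∀ t ∈ qt_tabs, TabM24 t ∧ setEqB (stepSet t m9_base) m9_base = true ∧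
    famSubB (stepFam t qt_q0) qt_q0 = true := by
  decide +kernel

set_option maxRecDepth 1000000 in
def qt_cert : List (List ℕ) := [[0, 1], [0, 1], [0, 1], [0, 1], [0, 1], [0, 1], [0, 1], [0, 1], [0, 1], [0, 1], [0, 1], [0, 1], [0, 1], [0, 1], [0, 1], [0, 1], [0, 1], [0, 1], [0, 1], [0, 1], [0, 1], [0, 1], [0, 1], [0, 1], [0, 1], [0, 1], [0, 1], [0, 1], [0, 1], [0, 1], [0, 1], [1], [0, 1], [0, 1], [0, 1], [0, 1], [0, 1], [0, 1], [0, 1], [0, 1], [0, 1], [0, 1], [0, 1], [0, 1], [0, 1], [0, 1], [1], [0], [0, 1], [0, 1], [0, 1], [0, 1], [0, 1], [0, 1], [0, 1], [0, 1], [0, 1], [1], [0, 1], [0, 1], [0, 1], [0, 1], [0, 1], [0, 1], [0, 1], [0, 1], [0, 1], [0, 1], [1], [0, 1], [0, 1], [0, 1], [0, 1], [1], [0, 1], [0, 1], [0, 1], [1], [0], [0, 1], [0, 1], [0, 1], [0, 1], [1], [0, 1], [0, 1], [0, 1], [0, 1], [1], [0, 1], [0, 1], [0, 1], [1], [1], [1], [0, 1], [0, 1], [0, 1], [0, 1], [0, 1], [0, 1], [0, 1], [0, 1], [0, 1], [1], [0, 1], [0, 1], [1], [0], [0, 1], [1], [1],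 [0, 1], [0], [0], [0, 1], [0], [1], [0, 1], [0, 1], [0, 1], [0, 1], [0, 1], [0], [0], [0, 1], [0, 1], [], [0, 1], [0, 1], [0, 1], [0, 1], [1], [1], [0], [], [], [0, 1], [0, 1], [0, 1], [0, 1], [1], [0, 1], [0, 1], [0, 1], [1], [0, 1], [1], [0, 1], [1], [], [1], [0, 1], [0, 1], [0], [0, 1], [0, 1], [0], [0], [1], [], [0, 1], [0, 1], [], [0], [1], [1], [], [0, 1], [0], [0], [0, 1], [0], [1], [0, 1], [0, 1], [1], [0, 1], [], [0, 1], [0, 1], [], [1], [1], [0, 1], [0, 1], [1], [1], [], [0, 1], [], [0, 1], [0, 1], [], [1], [0, 1], [1], [1], [0], [1], [1], [1], [1], [1], [], [0, 1], [1], [0, 1], [0], [], [1], [], [1], [], [0], [], [0], [1], [], [1], [0], [0], [], [0, 1], [0], [], [], [0, 1], [0, 1], [1], [1], [], [], [], [], [1], [0], [1], [1], [1], [0, 1], [1], [1], [1], [0, 1], [0], [0], [1], [0], [0], [1], [0], [], [0], [], [1], [], [0, 1], [0], [0], [0], [], [0], [0, 1], [0, 1], [], [0, 1], [1], [], [], [0, 1], [0], [1], [], [], [], [0, 1], [], [], [1], [1], [1],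 [], [0], [0], [0], [], [1], [], [1], [], [0], [], [], [0], [0], [], [1], [1], [], [], [], [0], [], [], [0, 1], [0], [], [], [0], [1], [], [], [0], [], [], [], [1], [1], [], [], [1], [], [], [], [], [], [], [1], [1], [], [1], [], [], [], [], [1], [1], [], [], [], [1], [], [], [], [], [], [], [], [1], [], [], [], [], [], [], [0], [0], [], [0, 1], [1], [], [], [], [1], [], [], [], [], [1], [], [], [], [], [], [], [], [], [], [], [1], [1], [], [], [], [1], [], [], [], [1]]

noncomputable abbrev qt_model := elemModel 1048573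

set_option maxRecDepth 1000000 in
set_option maxHeartbeats 4000000 in
theorem qt_check : distinctAux ((qt_model.nodes qt_tabs idList qt_cert).map qt_model.code) 0 = true ∧
    (qt_model.nodes qt_tabs idList qt_cert).length = 432 := by
  decide +kernel

/-- representatives of the orbits of the stabilizer of the base quartet on quartets -/
def qt_roots : Fin 5 → List (List ℕ) := ![
  [[0, 1, 2], [3, 4, 12], [5, 11, 16], [9, 15, 23]],
  [[4, 3, 12], [2, 15, 16], [11, 1, 9], [0, 5, 23]],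
  [[4, 1, 12], [3, 0, 2], [5, 9, 16], [11, 23, 15]],
  [[5, 12, 9], [16, 11, 0], [3, 2, 4], [15, 1, 23]],
  [[4, 5, 11], [3, 0, 9], [16, 23, 1], [15, 2, 12]]]

set_option maxRecDepth 1000000 in
def qt_certs : Fin 5 → List (List ℕ) := ![
  [],
  [[0, 1], [1], [0, 1], [0], [0, 1], [1], [1], [0]],
  [[0, 1], [0, 1], [0, 1], [], [0, 1], [0, 1], [0, 1], [0, 1], [0], [0, 1], [0, 1], [0], [], [0], [0], [0], [0], [], [], [], [], [0], [1]],
  [[0, 1], [0, 1], [0, 1], [0, 1], [0, 1], [0, 1], [0], [0, 1], [0, 1], [0, 1], [0, 1], [0], [0, 1], [0], [0, 1], [0, 1], [0, 1], [0, 1], [], [0], [0, 1], [1], [0, 1], [0, 1], [0], [1], [1], [0], [1], [0, 1], [0, 1], [0], [0], [1], [], [], [0, 1], [], [0], [], [1], [0, 1], [1], [0, 1], [1], [0], [], [], [], [0], [0], [], [], [], [], [0], [1], [], [0], [], [0], [], [], [], [0]],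
  [[0, 1], [0, 1], [0, 1], [0, 1], [0, 1], [0, 1], [0, 1], [0, 1], [0, 1], [0, 1], [0, 1], [0, 1], [0], [0, 1], [0], [0, 1], [0, 1], [1], [0, 1], [0, 1], [0, 1], [1], [0, 1], [1], [0, 1], [0, 1], [0, 1], [0, 1], [0, 1], [1], [0, 1], [0, 1], [0, 1], [], [], [0], [0, 1], [0, 1], [0, 1], [0], [0, 1], [], [1], [0], [0, 1], [0, 1], [0], [0], [0, 1], [1], [], [1], [0], [0], [], [0], [], [0], [0], [], [0], [0], [0], [0], [0], [], [0], [], [0], [], [0], [], [], [0], [0], [], [0], [0, 1], [1], [0], [], [], [0], [1], [], [], [], [1], [], [], [], [], [], [], [], [0], [1]]]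

def qt_sizes : Fin 5 → ℕ := ![1, 12, 27, 72, 108]

set_option maxRecDepth 1000000 in
set_option maxHeartbeats 4000000 in
theorem qt_orb_check : distinctAux (((List.ofFn fun i => qt_omodel.nodes qt_tabs (qt_roots i)
    (qt_certs i)).flatten).map qt_omodel.code) 0 = true := by
  decide +kernel

set_option maxRecDepth 1000000 in
set_option maxHeartbeats 4000000 in
theorem qt_orb_len : ∀ i, (qt_omodel.nodes qt_tabs (qt_roots i) (qt_certs i)).length =
    qt_sizes i := by
  decide +kernel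

set_option maxRecDepth 1000000 in
set_option maxHeartbeats 4000000 in
theorem qt_roots_check : qt_roots 0 = qt_q0 ∧ ∀ i, ∃ x ∈ qt_omodel.nodes s5_dtabs qt_q0 qt_ocert,
    famSubB (qt_roots i) x = true ∧ (qt_roots i).length = 4 ∧
    (∀ l ∈ qt_roots i, GoodSet l ∧ l ≠ []) ∧ (qt_roots i).Pairwise listDisjoint := by
  decide +kernel

end Cfsg.Agent.Lib.Helper28
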