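import Cfsg.Agent.Lib.Helper28.Data1603

set_option autoImplicit false

/-!
Data for the stabilizer of a dodecad, a point on it and a point outside it.
-/

namespace Cfsg.Agent.Lib.Helper28

open Cfsg MulAction
open scoped Pointwise

/-- two elements of order eleven fixing the base dodecad and the points `0` and `6` -/
def ps_l1 : List ℕ := [0, 5, 1, 15, 9, 3, 6, 17, 7, 12, 22, 2, 16, 21, 10, 4, 23, 18, 20, 8, 14, 19, 13, 11]

def ps_l2 : List ℕ := [0, 23, 11, 16, 3, 2, 6, 8, 21, 15, 22, 1, 5, 10, 17, 4, 12, 19, 13, 7, 18, 20, 14, 9]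

/-- their packed tables -/
def ps_tabs : List ℕ := [474585909410406103456169551216477344, 392852821055824540242275296525954784]

set_option maxRecDepth 1000000 in
set_option maxHeartbeats 4000000 in
theorem ps_gens_check : (∀ l ∈ [ps_l1, ps_l2], ListM24 l ∧ powL l 11 = idList ∧
    setEqB (m9_base.map (fun a => l.getD a 0)) m9_base = true ∧ l.getD 0 0 = 0 ∧ l.getD 6 0 = 6) ∧
    (∀ a : Fin 24, look (ps_tabs.getD 0 0) a.val = ps_l1.getD a.val 0) ∧
    (∀ a : Fin 24, look (ps_tabs.getD 1 0) a.val = ps_l2.getD a.val 0) ∧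
    ps_tabs.length = 2 := by
  decide +kernel

def ps_ocert : List (List ℕ) := [[0, 1], [0, 1], [0, 1], [], [0, 1], [0], [], [1], [], [], [0]]

abbrev ps_omodel := setModel 140 1021

set_option maxRecDepth 1000000 in
set_option maxHeartbeats 4000000 in
theorem ps_ocheck : distinctAux ((ps_omodel.nodes ci_mtabs [6] ps_ocert).map ps_omodel.code) 0 = true ∧
    (ps_omodel.nodes ci_mtabs [6] ps_ocert).length = 12 ∧
    ∀ a ∈ m9_out, [a] ∈ ps_omodel.nodes ci_mtabs [6] ps_ocert := by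
  decide +kernel

set_option maxRecDepth 1000000 in
def ps_cert : List (List ℕ) := [[0, 1], [0, 1], [0, 1], [0, 1], [0, 1], [0], [0, 1], [0, 1], [0, 1], [0], [0, 1], [0, 1], [0], [0, 1], [0, 1], [0, 1], [0], [0, 1], [0, 1], [0], [0, 1], [0, 1], [1], [0, 1], [0], [0, 1], [0, 1], [0, 1], [0], [0, 1], [0], [0], [0, 1], [0, 1], [1], [0, 1], [0], [0, 1], [0, 1], [1], [0, 1], [0, 1], [1], [0, 1], [0], [0, 1], [0, 1], [0, 1], [0], [0, 1], [0], [0], [0, 1], [0, 1], [0, 1], [0], [0, 1], [0, 1], [1], [0, 1], [0, 1], [1], [0, 1], [0], [0, 1], [0, 1], [1], [0, 1], [0], [0, 1], [0, 1], [], [0, 1], [0, 1], [1], [0, 1], [0], [0, 1], [0, 1], [0, 1], [0], [0, 1], [0], [0], [0, 1], [0, 1], [0, 1], [0], [0, 1], [0, 1], [1], [0, 1], [1], [0, 1], [0], [0, 1], [0, 1], [1], [0, 1], [0], [0, 1], [0, 1], [], [1], [0, 1], [1], [0, 1], [0], [0, 1], [0, 1], [1], [0, 1], [0], [1], [0], [0], [0, 1], [0, 1], [1], [0], [0, 1], [0, 1], [], [0, 1], [0, 1], [1], [0, 1], [0], [0, 1],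 [1], [0, 1], [0], [0, 1], [0], [0], [0, 1], [0, 1], [0, 1], [0], [0, 1], [0, 1], [1], [0, 1], [1], [0, 1], [0], [0, 1], [0, 1], [1], [1], [0, 1], [], [1], [0, 1], [1], [0, 1], [0], [0, 1], [0, 1], [1], [0, 1], [0], [1], [0], [0], [0, 1], [0, 1], [1], [0, 1], [0, 1], [], [0, 1], [0, 1], [1], [0, 1], [0], [0, 1], [0, 1], [1], [1], [0], [0, 1], [0, 1], [0, 1], [1], [0, 1], [0], [1], [0, 1], [1], [0, 1], [], [0], [0, 1], [0, 1], [1], [], [0, 1], [0, 1], [], [1], [0, 1], [1], [0, 1], [0], [0], [0, 1], [0], [0, 1], [0], [0], [0, 1], [0, 1], [0, 1], [0], [0, 1], [0, 1], [1], [0], [1], [0, 1], [0], [1], [0, 1], [1], [1], [0, 1], [], [1], [0, 1], [1], [0, 1], [], [0, 1], [0, 1], [1], [0, 1], [1], [0], [1], [0, 1], [0, 1], [], [0, 1], [0], [1], [1], [0], [0, 1], [0, 1], [1], [1], [0], [0, 1], [0], [0, 1], [1], [0, 1], [0], [1], [0, 1], [1], [0, 1], [0], [0, 1], [0, 1], [], [], [0], [0, 1], [], [1], [1], [], [0, 1], [0], [0], [1], [1], [0, 1], [0], [0, 1],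 [0], [0, 1], [1], [1], [], [0, 1], [], [0], [1], [0, 1], [0, 1], [0, 1], [1], [], [0], [], [0, 1], [0], [1], [0, 1], [], [0, 1], [0], [0, 1], [0], [], [1], [0, 1], [], [1], [0, 1], [1], [0, 1], [0], [0], [0, 1], [0], [], [0, 1], [0, 1], [1], [], [0], [1], [], [0], [1], [1], [0], [], [0, 1], [1], [1], [0, 1], [], [1], [], [0, 1], [0, 1], [0, 1], [], [0, 1], [], [], [], [0], [1], [], [1], [0], [], [0], [0, 1], [0, 1], [1], [1], [0], [0, 1], [0, 1], [1], [0], [], [0, 1], [1], [], [], [0], [0, 1], [], [], [0, 1], [0], [0], [1], [1], [0, 1], [0], [0], [0], [0, 1], [1], [], [0, 1], [], [0], [1], [0, 1], [0, 1], [0, 1], [1], [], [0], [], [1], [0], [1], [0, 1], [], [0], [0], [], [1], [], [0, 1], [1], [0, 1], [0], [1], [0, 1], [0], [0, 1], [0], [0], [], [0], [0], [1], [], [], [], [0, 1], [0], [0], [0], [1], [0], [0, 1], [1], [1], [0, 1], [1], [], [], [1], [0], [1], [1], [], [], [0], [], [], [0, 1], [0], [], [], [], [1], [], [], [0, 1], [], [1], [0], [], [0,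 1], [0, 1], [], [], [1], [], [], [0], [1], [], [], [], [1], [0], [], [1], [], [], [], [], [], [], [], [1], [0, 1], [], [0], [1], [], [], [], [1], [1], [0], [], [1], [1], [], [], [], [], [1], [], [1], [1], [], [0], [], [], [], [0], [], [1], [1], [0], [], [1], [0, 1], [], [0], [0], [], [0], [], [1], [], [], [0, 1], [0], [], [], [], [0], [0], [], [], [0, 1], [1], [], [1], [0], [], [1], [], [1], [], [1], [], [], [], [], [], [], [], [], [1], [], [0], [], [], [], [0], [0], [0], [1], [], [], [0], [], [0, 1], [], [], [], [], [0], [0], [], [], [0], [], [0], [], [], [], [], [], [], [], [], [], [], [], [], [], [], [], [], [], [1], [], [], [], [1], [], [], [], [], [], [], [0, 1], [], [0], [0], [1], [], [], [], [], [], [], [], [], [], [], [0], [0], [], [], [0, 1], [], [0]]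

noncomputable abbrev ps_model := elemModel 1048573

set_option maxRecDepth 1000000 in
set_option maxHeartbeats 4000000 in
theorem ps_check : distinctAux ((ps_model.nodes ps_tabs idList ps_cert).map ps_model.code) 0 = true ∧
    (ps_model.nodes ps_tabs idList ps_cert).length = 660 := by
  decide +kernel

end Cfsg.Agent.Lib.Helper28
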