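import Cfsg.Agent.Lib.Helper28.Data1600
import Cfsg.Agent.Lib.Helper28.ElemModel
import Cfsg.Agent.Lib.Helper28.FamCheck

set_option autoImplicit false

/-!
Data for the stabilizer in the smallest Mathieu group of a pair of points of the complementary
dodecad.
-/

namespace Cfsg.Agent.Lib.Helper28

open Cfsg MulAction
open scoped Pointwise

/-- generators of the stabilizer of the base dodecad -/
def s5_dtabs : List ℕ := [516900282942345547016068085521165476, 980469970229216366247270958988010885]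

set_option maxRecDepth 1000000 in
set_option maxHeartbeats 4000000 in
theorem s5_dtabs_check : ∀ t ∈ s5_dtabs, TabM24 t ∧ setEqB (stepSet t m9_base) m9_base = true := by
  decide +kernel

/-- the configuration: a point of the dodecad and a pair outside it -/
def s5_y0 : List (List ℕ) := [[0], [6, 7]]

set_option maxRecDepth 1000000 in
def s5_ocert : List (List ℕ) := [[0, 1], [0, 1], [0, 1], [0, 1], [0, 1], [0, 1], [0, 1], [0, 1], [0, 1], [0, 1], [0, 1], [0, 1], [0, 1], [0, 1], [0, 1], [1], [0, 1], [0, 1], [1], [0], [0, 1], [0, 1], [0, 1], [0, 1], [0, 1], [0, 1], [0, 1], [0, 1], [0, 1], [0, 1], [1], [0, 1], [0, 1], [1], [0, 1], [0, 1], [0, 1], [0, 1], [0, 1], [0, 1], [0, 1], [0, 1], [0, 1], [0, 1], [0, 1], [0, 1], [0, 1], [0, 1], [0, 1], [0, 1], [0, 1], [0, 1], [0, 1], [0, 1], [1], [0, 1], [0, 1], [0, 1], [0, 1], [0, 1], [1], [0, 1], [0, 1], [0, 1], [1], [1], [0, 1], [1], [0, 1], [0, 1], [0, 1], [0, 1], [0, 1], [0, 1], [0, 1], [1], [0, 1], [0, 1], [0, 1], [0, 1],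 [0, 1], [0, 1], [0, 1], [0, 1], [1], [0, 1], [0, 1], [0, 1], [0, 1], [0], [0, 1], [0, 1], [0, 1], [0, 1], [0, 1], [0, 1], [1], [0, 1], [0, 1], [0, 1], [1], [0, 1], [0], [0, 1], [0, 1], [0, 1], [0, 1], [1], [0], [0, 1], [0, 1], [0, 1], [0, 1], [0, 1], [0], [0, 1], [0, 1], [0, 1], [0], [0, 1], [], [0, 1], [0, 1], [0, 1], [0, 1], [0, 1], [0, 1], [0, 1], [], [0], [0, 1], [], [1], [1], [0, 1], [0, 1], [1], [0, 1], [1], [0, 1], [0, 1], [0, 1], [0, 1], [], [1], [0, 1], [1], [0, 1], [0, 1], [0], [0, 1], [0], [0, 1], [0, 1], [0, 1], [0, 1], [0], [0, 1], [0], [0, 1], [1], [1], [0], [0], [1], [0, 1], [0, 1], [0, 1], [1], [0, 1], [0], [0, 1], [0, 1], [0, 1], [0, 1], [], [1], [0, 1], [0], [0], [0, 1], [1], [1], [0, 1], [1], [0, 1], [1], [0, 1], [0, 1], [0, 1], [1], [0, 1], [0, 1], [], [0, 1], [0], [0], [0, 1], [1], [0, 1], [0], [1], [0, 1], [0, 1], [1], [0], [0, 1], [0, 1], [1], [0], [0, 1], [], [], [], [], [0, 1], [], [0, 1], [0, 1], [0, 1], [1], [0, 1], [1], [0, 1], [1], [0,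 1], [1], [0, 1], [0, 1], [0], [], [0, 1], [0], [0, 1], [0, 1], [0, 1], [], [1], [0], [1], [0, 1], [], [0, 1], [1], [1], [1], [], [], [0], [0, 1], [0], [1], [0, 1], [0, 1], [1], [1], [0, 1], [0, 1], [0, 1], [0], [1], [1], [], [0, 1], [0, 1], [0, 1], [0, 1], [0, 1], [0, 1], [0, 1], [1], [0], [1], [0, 1], [0, 1], [0], [0, 1], [1], [], [0, 1], [0, 1], [1], [0, 1], [0, 1], [0, 1], [0, 1], [], [], [1], [1], [0], [1], [0], [0, 1], [0], [0, 1], [], [0, 1], [0, 1], [1], [0], [0, 1], [0, 1], [1], [0], [0, 1], [0], [0, 1], [1], [0, 1], [0, 1], [0, 1], [0, 1], [0], [0], [0, 1], [1], [1], [1], [0, 1], [], [], [0], [0], [1], [1], [1], [1], [0, 1], [0, 1], [0, 1], [0, 1], [0], [1], [0], [], [0], [0, 1], [0, 1], [1], [], [1], [0], [1], [0], [1], [1], [0], [1], [1], [0, 1], [0], [], [], [0, 1], [0, 1], [0], [0, 1], [0, 1], [1], [0, 1], [0, 1], [0], [1], [1], [], [], [], [0], [0], [0, 1], [1], [0, 1], [1], [0], [1], [0], [1], [0, 1], [1], [], [1], [], [0], [0, 1], [0], [0, 1], [1],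 [0, 1], [0], [0], [0], [], [1], [0], [], [0], [1], [], [1], [0, 1], [0], [1], [], [0, 1], [], [1], [], [], [0, 1], [1], [], [0, 1], [0, 1], [0], [1], [0, 1], [0, 1], [], [0], [1], [0, 1], [1], [1], [1], [0, 1], [0, 1], [0], [0], [1], [0, 1], [0], [1], [], [], [1], [0], [0], [0], [0, 1], [], [0], [], [0], [], [0], [0], [0], [], [], [0], [1], [0], [1], [], [], [], [1], [0], [0, 1], [1], [], [0, 1], [], [0, 1], [1], [0, 1], [1], [0], [0], [0, 1], [0], [1], [1], [1], [], [0, 1], [], [1], [], [], [], [0], [], [], [], [0, 1], [0], [], [0], [0, 1], [0, 1], [0], [], [0], [1], [1], [1], [1], [1], [0], [0, 1], [0], [], [0, 1], [], [0], [0], [1], [], [], [1], [], [0, 1], [], [1], [0, 1], [0], [0], [], [], [0], [], [], [1], [0, 1], [], [0], [], [0], [0], [], [0], [1], [], [1], [0], [1], [], [1], [0], [], [0], [], [], [1], [], [], [], [0], [], [], [0, 1], [], [0], [], [0], [0, 1], [], [0, 1], [0], [], [0, 1], [], [], [0, 1], [], [0], [], [1], [], [1], [1], [], [0, 1], [0], [0],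 [1], [1], [0], [], [], [1], [1], [1], [], [1], [0], [0], [], [], [0], [], [0, 1], [], [0], [], [], [1], [], [0, 1], [], [1], [0], [], [], [0, 1], [1], [], [1], [0], [], [], [], [0], [], [], [1], [], [], [], [], [1], [], [], [], [], [0], [1], [1], [], [0], [], [0], [], [1], [], [], [0], [], [1], [0], [], [], [], [], [], [], [], [], [], [], [], [], [], [], [], [1], [1], [], [], [], [], [], [], [], [1], [1], [1], [], [], [], [1], [], [], [], [], [0], [], [], [], [], [0], [], [1], [], [], [], [], [], [1], [], [], [], [], [], [], [0], [], [], [], [0], [1], [], [0], [0], [0], [], [], [], [], [], [], [1], [], [], [], [], [], [], [], [], [], [], [], [], [], [], [], [], [], [1], [], [], [], [], [], [1], [1], [], [], [], [], [], [], [], [], [], [], [], [], [], [], [], [], [], [], [], [], [], [], [], [], [0], [], [], [], [], [1], [], [0]]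

abbrev s5_omodel := famModel 288545021 2147483647 2097152

set_option maxRecDepth 1000000 in
set_option maxHeartbeats 4000000 in
theorem s5_ocheck : distinctAux ((s5_omodel.nodes s5_dtabs s5_y0 s5_ocert).map s5_omodel.code) 0 = true ∧
    (s5_omodel.nodes s5_dtabs s5_y0 s5_ocert).length = 792 := by
  decide +kernel

/-- generators of the stabilizer of the configuration -/
def s5_tabs : List ℕ := [512234342221549134924711514248810656, 221454298502155873780366072492364160]

set_option maxRecDepth 1000000 in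
set_option maxHeartbeats 4000000 in
theorem s5_tabs_check : ∀ t ∈ s5_tabs, TabM24 t ∧ setEqB (stepSet t m9_base) m9_base = true ∧
    look t 0 = 0 ∧ setEqB (stepSet t [6, 7]) [6, 7] = true := by
  decide +kernel

def s5_cert : List (List ℕ) := [[0, 1], [0, 1], [0, 1], [0, 1], [0, 1], [0, 1], [0, 1], [0, 1], [0, 1], [0, 1], [0, 1], [0, 1], [0, 1], [0, 1], [0, 1], [1], [0, 1], [0, 1], [0, 1], [0, 1], [0, 1], [0, 1], [0, 1], [0, 1], [0, 1], [0, 1], [0, 1], [0, 1], [0, 1], [0, 1], [0, 1], [0, 1], [0, 1], [0, 1], [0, 1], [0, 1], [], [], [0, 1], [0, 1], [0, 1], [0, 1], [0, 1], [0, 1], [], [], [], [], [0, 1], [0, 1], [0, 1], [0, 1], [], [], [], [], [0, 1], [0, 1], [0, 1], [0, 1], [], [], [0, 1], [0, 1], [], [], [], [], [0, 1], [0, 1], [], [], [], [], [0, 1], [0, 1], [], [], [], [], [], [], [], [], [], [], [], [], [0, 1], [0, 1], [], [], [], [], [], [], [], [], [], [], [], [], [], [], [], [], [0, 1], [0, 1]]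

noncomputable abbrev s5_model := elemModel 1048573

set_option maxRecDepth 1000000 in
set_option maxHeartbeats 4000000 in
theorem s5_check : distinctAux ((s5_model.nodes s5_tabs idList s5_cert).map s5_model.code) 0 = true ∧
    (s5_model.nodes s5_tabs idList s5_cert).length = 120 := by
  decide +kernel

/-- the invariant set of five points of the dodecad -/
def s5_F : List ℕ := [2, 4, 9, 15, 16]

set_option maxRecDepth 1000000 in
set_option maxHeartbeats 4000000 in
theorem s5_F_check : GoodSet s5_F ∧ s5_F.length = 5 ∧ (∀ a ∈ s5_F, a ∈ m9_base) ∧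
    ∀ l ∈ s5_model.nodes s5_tabs idList s5_cert,
      setEqB (s5_F.map (fun a => l.getD a 0)) s5_F = true := by
  decide +kernel

end Cfsg.Agent.Lib.Helper28
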