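import Cfsg.Agent.Lib.Helper28.CertClasses2

set_option autoImplicit false

/-!
Classes of the octads through two points of an octad under the stabilizer of the octad and the points.
-/

namespace Cfsg.Agent.Lib.Helper28

open Cfsg MulAction
open scoped Pointwise

def hx_tabs : List ℕ := [398007410145957725962503309490204704, 271916663225986660334002770263771168]

def hx_base : List ℕ := [0, 1, 2, 3, 4, 7, 10, 12]

set_option maxRecDepth 1000000 in
set_option maxHeartbeats 4000000 in
theorem hx_base_check : IsOctadList hx_base := by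
  decide +kernel

set_option maxRecDepth 1000000 in
set_option maxHeartbeats 4000000 in
theorem hx_tabs_check : ∀ t ∈ hx_tabs, TabM24 t ∧ setEqB (stepSet t hx_base) hx_base = true ∧ look t 0 = 0 ∧ look t 1 = 1 := by
  decide +kernel

def hxoct_roots : Fin 3 → List ℕ := ![
  [0, 1, 2, 3, 4, 7, 10, 12],
  [0, 1, 5, 6, 8, 11, 17, 19],
  [0, 1, 2, 3, 5, 14, 17, 23]]

def hxoct_certs : Fin 3 → List (List ℕ) := ![
  [],
  [[0, 1], [1], [0], [0], [0, 1], [0], [1], [0, 1], [0], [1], [0], [0]],
  [[0, 1], [0, 1], [0], [0, 1], [0, 1], [0, 1], [0, 1], [0, 1], [0, 1], [1], [0, 1], [1], [1], [0], [1], [1], [1], [0, 1], [0], [0, 1], [0, 1], [1], [0], [0, 1], [0, 1], [0], [], [1], [0], [0], [1], [0], [1], [1], [], [0, 1], [1], [0], [], [1], [], [], [1], [1], [0], [1], [0], [], [], [1], [], [], [0]]]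

def hxoct_sizes : Fin 3 → ℕ := ![1, 16, 60]

abbrev hxoct_model := (setModel 35225 262139)

set_option maxRecDepth 1000000 in
set_option maxHeartbeats 4000000 in
theorem hxoct_check : distinctAux (((List.ofFn fun i => hxoct_model.nodes hx_tabs (hxoct_roots i)
    (hxoct_certs i)).flatten).map hxoct_model.code) 0 = true := by
  decide +kernel

set_option maxRecDepth 1000000 in
set_option maxHeartbeats 4000000 in
theorem hxoct_len : ∀ i, (hxoct_model.nodes hx_tabs (hxoct_roots i) (hxoct_certs i)).length =
    hxoct_sizes i := by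
  decide +kernel

set_option maxRecDepth 1000000 in
set_option maxHeartbeats 4000000 in
theorem hxoct_rootcheck : ∀ i, (fun l => IsOctadList l ∧ 0 ∈ l ∧ 1 ∈ l) (hxoct_roots i) := by
  decide +kernel

end Cfsg.Agent.Lib.Helper28
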