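import Cfsg.Agent.Lib.Helper28.CertClasses2

set_option autoImplicit false

/-!
Classes of the octads through a point of an octad avoiding a point outside under the stabilizer of the octad and the points.
-/

namespace Cfsg.Agent.Lib.Helper28

open Cfsg MulAction
open scoped Pointwise

def hy_tabs : List ℕ := [382555742049713338026192732353013856, 633929631791978109589550959907937664]

def hy_base : List ℕ := [0, 1, 2, 3, 4, 7, 10, 12]

set_option maxRecDepth 1000000 in
set_option maxHeartbeats 4000000 in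
theorem hy_base_check : IsOctadList hy_base := by
  decide +kernel

set_option maxRecDepth 1000000 in
set_option maxHeartbeats 4000000 in
theorem hy_tabs_check : ∀ t ∈ hy_tabs, TabM24 t ∧ setEqB (stepSet t hy_base) hy_base = true ∧ look t 0 = 0 ∧ look t 5 = 5 := by
  decide +kernel

def hyoct_roots : Fin 3 → List ℕ := ![
  [0, 1, 2, 3, 4, 7, 10, 12],
  [0, 1, 6, 8, 9, 15, 18, 21],
  [0, 1, 2, 3, 6, 9, 11, 22]]

def hyoct_certs : Fin 3 → List (List ℕ) := ![
  [],
  [[0, 1], [0, 1], [1], [0, 1], [0, 1], [0, 1], [1], [0, 1], [0, 1], [0, 1], [0], [0, 1], [0, 1], [0, 1], [1], [0], [1], [0], [0, 1], [0], [0, 1], [0], [1], [0, 1], [0, 1], [], [0, 1], [1], [0, 1], [0], [1], [0], [0], [0], [0, 1], [0, 1], [1], [], [], [], [], [0], [0], [1], [1], [0], [1], [], [], [], [0, 1], [0], [1], [0], [], [], [1], [1], [], [], [], [1]],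
  [[0, 1], [0, 1], [0, 1], [0, 1], [0, 1], [0, 1], [0, 1], [0, 1], [0, 1], [0, 1], [0, 1], [0, 1], [0, 1], [0, 1], [0, 1], [1], [0, 1], [1], [0, 1], [0, 1], [1], [0, 1], [0, 1], [0, 1], [], [0], [0, 1], [0, 1], [0, 1], [1], [0], [0, 1], [0, 1], [0, 1], [], [1], [1], [0], [0], [0, 1], [0, 1], [0, 1], [1], [], [1], [0, 1], [], [0, 1], [0], [0, 1], [], [], [], [0], [], [1], [], [], [], [], [1], [1], [0], [1], [1], [], [0, 1], [1], [1], [0], [0, 1], [], [0], [0, 1], [], [1], [], [1], [1], [], [], [], [], [0], [], [0], [], [], [], [], [], [], [1], [0], [], [0]]]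

def hyoct_sizes : Fin 3 → ℕ := ![1, 70, 105]

abbrev hyoct_model := (setModel 35225 262139)

set_option maxRecDepth 1000000 in
set_option maxHeartbeats 4000000 in
theorem hyoct_check : distinctAux (((List.ofFn fun i => hyoct_model.nodes hy_tabs (hyoct_roots i)
    (hyoct_certs i)).flatten).map hyoct_model.code) 0 = true := by
  decide +kernel

set_option maxRecDepth 1000000 in
set_option maxHeartbeats 4000000 in
theorem hyoct_len : ∀ i, (hyoct_model.nodes hy_tabs (hyoct_roots i) (hyoct_certs i)).length =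
    hyoct_sizes i := by
  decide +kernel

set_option maxRecDepth 1000000 in
set_option maxHeartbeats 4000000 in
theorem hyoct_rootcheck : ∀ i, (fun l => IsOctadList l ∧ 0 ∈ l ∧ 5 ∉ l) (hyoct_roots i) := by
  decide +kernel

end Cfsg.Agent.Lib.Helper28
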