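import Cfsg.Agent.Lib.Helper28.CertClasses2

set_option autoImplicit false

/-!
Classes of the octads avoiding a point outside an octad under the stabilizer of the octad and the point.
-/

namespace Cfsg.Agent.Lib.Helper28

open Cfsg MulAction
open scoped Pointwise

def hq_tabs : List ℕ := [676996990264622653162729540623339527, 774526295954928241056963007166287937]

def hq_base : List ℕ := [0, 1, 2, 3, 4, 7, 10, 12]

set_option maxRecDepth 1000000 in
set_option maxHeartbeats 4000000 in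
theorem hq_base_check : IsOctadList hq_base := by
  decide +kernel

set_option maxRecDepth 1000000 in
set_option maxHeartbeats 4000000 in
theorem hq_tabs_check : ∀ t ∈ hq_tabs, TabM24 t ∧ setEqB (stepSet t hq_base) hq_base = true ∧ look t 5 = 5 := by
  decide +kernel

def hqoct_roots : Fin 4 → List ℕ := ![
  [0, 1, 2, 3, 4, 7, 10, 12],
  [6, 8, 9, 11, 15, 16, 19, 22],
  [0, 1, 2, 3, 6, 9, 11, 22],
  [0, 1, 6, 8, 9, 15, 18, 21]]

def hqoct_certs : Fin 4 → List (List ℕ) := ![
  [],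
  [[0, 1], [1], [1], [0], [0, 1], [0, 1], [0], [1], [], [0], [1], [], [1]],
  [[0, 1], [0, 1], [0, 1], [0], [0, 1], [0, 1], [0, 1], [0, 1], [0, 1], [0, 1], [0, 1], [0, 1], [0], [0, 1], [0, 1], [0, 1], [0, 1], [0, 1], [0, 1], [0, 1], [0, 1], [0, 1], [0], [0, 1], [0, 1], [0, 1], [0, 1], [1], [0, 1], [1], [1], [0, 1], [0], [0, 1], [0, 1], [0, 1], [1], [1], [0, 1], [0], [0], [0, 1], [0, 1], [0, 1], [0, 1], [1], [0], [0, 1], [0, 1], [0], [1], [0, 1], [0, 1], [0], [0, 1], [0, 1], [0, 1], [0], [1], [0], [0], [1], [0, 1], [0, 1], [0], [0, 1], [0, 1], [0, 1], [0], [0, 1], [1], [], [0], [1], [0], [0, 1], [0], [0, 1], [], [0], [0, 1], [0, 1], [0], [0], [1], [0, 1], [0, 1], [1], [0], [0], [0, 1], [0, 1], [0, 1], [0, 1], [0], [0, 1], [0, 1], [0], [], [], [0], [1], [0], [1], [], [], [], [1], [0], [0, 1], [], [0, 1], [1], [0, 1], [0], [0, 1], [0], [], [], [], [0], [], [], [], [1], [0], [1], [0], [1], [0], [], [0], [], [0], [0], [], [], [], [], [1], [], [0], [], [0, 1],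 [], [0], [], [0, 1], [0, 1], [], [0, 1], [1], [], [0], [], [1], [], [], [], [], [], [], [0], [], [1], [], [], [], [0], [1], [0], [0], [], [], [], [], [], [], [1], [], [], [], [0, 1], [], [], [0], [], [], [0], [0], [], [], [], [], [0]],
  [[0, 1], [0, 1], [0, 1], [0, 1], [0, 1], [1], [0, 1], [0, 1], [0, 1], [0, 1], [0, 1], [0, 1], [0, 1], [0, 1], [0, 1], [0, 1], [0, 1], [1], [0], [0, 1], [0, 1], [0, 1], [0, 1], [0, 1], [0, 1], [0, 1], [0, 1], [0, 1], [1], [0, 1], [0, 1], [0, 1], [0, 1], [1], [0, 1], [0, 1], [0, 1], [0, 1], [0, 1], [0, 1], [0], [0, 1], [0, 1], [0, 1], [0, 1], [0, 1], [1], [0, 1], [0, 1], [0, 1], [0, 1], [0, 1], [0, 1], [0, 1], [1], [0, 1], [0], [0, 1], [0, 1], [1], [0, 1], [1], [0, 1], [0, 1], [0, 1], [0, 1], [0, 1], [0, 1], [1], [], [0], [0], [1], [0, 1], [1], [1], [1], [0, 1], [0, 1], [1], [0, 1], [0], [1], [0, 1], [1], [0, 1], [1], [0, 1], [1], [0], [0, 1], [0, 1], [1], [1], [], [0], [0, 1], [1], [0, 1], [1], [], [], [1], [], [], [1], [0,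 1], [0, 1], [0, 1], [0, 1], [0], [], [1], [0, 1], [], [0, 1], [0, 1], [0, 1], [0, 1], [1], [0], [0, 1], [1], [0], [0, 1], [0], [1], [1], [1], [0, 1], [], [], [1], [0, 1], [0], [0], [], [], [], [], [], [0], [], [], [0], [1], [], [1], [1], [0], [], [0], [0], [1], [1], [], [0], [0, 1], [], [0], [], [1], [0], [1], [], [], [0], [0, 1], [1], [], [1], [], [0, 1], [0, 1], [], [0, 1], [0], [], [1], [1], [0, 1], [], [], [1], [1], [0], [], [0, 1], [0], [], [], [], [0], [0], [], [], [], [], [0, 1], [0, 1], [1], [], [0], [], [1], [], [], [], [], [], [1], [], [1], [], [], [1], [], [], [], [1], [], [0, 1], [0], [], [1], [0, 1], [], [1], [0, 1], [0], [0], [1], [], [1], [1], [1], [], [], [], [], [], [], [], [1], [], [], [], [], [0], [0], [0, 1]]]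

def hqoct_sizes : Fin 4 → ℕ := ![1, 15, 210, 280]

abbrev hqoct_model := (setModel 35225 262139)

set_option maxRecDepth 1000000 in
set_option maxHeartbeats 4000000 in
theorem hqoct_check : distinctAux (((List.ofFn fun i => hqoct_model.nodes hq_tabs (hqoct_roots i)
    (hqoct_certs i)).flatten).map hqoct_model.code) 0 = true := by
  decide +kernel

set_option maxRecDepth 1000000 in
set_option maxHeartbeats 4000000 in
theorem hqoct_len : ∀ i, (hqoct_model.nodes hq_tabs (hqoct_roots i) (hqoct_certs i)).length =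
    hqoct_sizes i := by
  decide +kernel

set_option maxRecDepth 1000000 in
set_option maxHeartbeats 4000000 in
theorem hqoct_rootcheck : ∀ i, (fun l => IsOctadList l ∧ 5 ∉ l) (hqoct_roots i) := by
  decide +kernel

end Cfsg.Agent.Lib.Helper28
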