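import Cfsg.Agent.Lib.Helper28.CertClasses2

set_option autoImplicit false

/-!
Classes of the duads avoiding two points under the stabilizer of the two points and a duad.
-/

namespace Cfsg.Agent.Lib.Helper28

open Cfsg MulAction
open scoped Pointwise

def du_tabs : List ℕ := [192573227475630618321688706760673312, 505580479786213048996872641664060448]

def du_base : List ℕ := [2, 3]

set_option maxRecDepth 1000000 in
set_option maxHeartbeats 4000000 in
theorem du_base_check : (fun l => GoodSet l ∧ l.length = 2 ∧ 0 ∉ l ∧ 1 ∉ l) du_base := by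
  decide +kernel

set_option maxRecDepth 1000000 in
set_option maxHeartbeats 4000000 in
theorem du_tabs_check : ∀ t ∈ du_tabs, TabM24 t ∧ setEqB (stepSet t du_base) du_base = true ∧ look t 0 = 0 ∧ look t 1 = 1 := by
  decide +kernel

def dudu_roots : Fin 4 → List ℕ := ![
  [2, 3],
  [2, 4],
  [4, 7],
  [4, 5]]

def dudu_certs : Fin 4 → List (List ℕ) := ![
  [],
  [[0, 1], [0, 1], [0, 1], [0, 1], [0, 1], [0, 1], [0, 1], [1], [0], [0], [0, 1], [0, 1], [0], [1], [0, 1], [0, 1], [], [1], [1], [], [1], [0], [1], [], [], [0], [], [0], [0], [0], [0], [], [], [1], [1]],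
  [[0, 1], [0], [0, 1], [0, 1], [1], [0, 1], [], [0, 1], [0, 1], [1], [0, 1], [], [0, 1], [1], [1], [0], [], [], [1], [0, 1], [1], [], [1], [0], [], [], [], [], [1]],
  [[0, 1], [0, 1], [0, 1], [0, 1], [0, 1], [1], [0, 1], [1], [0, 1], [1], [0, 1], [0, 1], [0, 1], [0, 1], [0, 1], [1], [0], [0, 1], [0, 1], [0, 1], [0], [0, 1], [0], [0, 1], [0, 1], [0, 1], [1], [0, 1], [0, 1], [0, 1], [0, 1], [0, 1], [0, 1], [0, 1], [0, 1], [0, 1], [0, 1], [0], [0, 1], [1], [0], [0], [0, 1], [0, 1], [1], [0], [0, 1], [0, 1], [], [0, 1], [0, 1], [0], [0], [0], [1], [0], [0, 1], [1], [0, 1], [0, 1], [1], [0, 1], [1], [], [0], [1], [0], [0], [0], [0, 1], [0], [0, 1], [0], [1], [0, 1], [1], [1], [1], [0, 1], [0], [1], [], [0], [0], [1], [], [0], [1], [1], [1], [0, 1], [0], [0, 1], [0], [0], [1], [], [0], [], [], [1], [0], [], [], [1], [0, 1], [], [], [0], [0], [], [], [], [], [], [1], [], [0], [1], [], [], [0], [], [], [0, 1], [], [0, 1], [0], [0], [], [1], [], [], [], [0], [],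 [], [], [], [], [0]]]

def dudu_sizes : Fin 4 → ℕ := ![1, 40, 30, 160]

abbrev dudu_model := (setModel 35225 262103)

set_option maxRecDepth 1000000 in
set_option maxHeartbeats 4000000 in
theorem dudu_check : distinctAux (((List.ofFn fun i => dudu_model.nodes du_tabs (dudu_roots i)
    (dudu_certs i)).flatten).map dudu_model.code) 0 = true := by
  decide +kernel

set_option maxRecDepth 1000000 in
set_option maxHeartbeats 4000000 in
theorem dudu_len : ∀ i, (dudu_model.nodes du_tabs (dudu_roots i) (dudu_certs i)).length =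
    dudu_sizes i := by
  decide +kernel

set_option maxRecDepth 1000000 in
set_option maxHeartbeats 4000000 in
theorem dudu_rootcheck : ∀ i, (fun l => GoodSet l ∧ l.length = 2 ∧ 0 ∉ l ∧ 1 ∉ l) (dudu_roots i) := by
  decide +kernel

def dudu_wit : Fin 4 → List ℕ := ![
  [0, 1, 2, 3, 4, 7, 10, 12],
  [0, 1, 2, 3, 4, 7, 10, 12],
  [0, 1, 2, 3, 4, 7, 10, 12],
  [0, 1, 2, 3, 4, 7, 10, 12]]

theorem dudu_wit_check : ∀ i, IsOctadList (dudu_wit i) ∧ 0 ∈ dudu_wit i ∧ 1 ∈ dudu_wit i ∧
    (∀ a ∈ du_base, a ∈ dudu_wit i) := by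
  decide +kernel

theorem dudu_wit_in : ∀ i : Fin 3, ∀ a ∈ dudu_roots i.castSucc, a ∈ dudu_wit i.castSucc := by
  decide +kernel

theorem dudu_wit_out : (dudu_roots 3).head! ∈ dudu_wit 3 ∧ ∃ a ∈ dudu_roots 3, a ∉ dudu_wit 3 := by
  decide +kernel

end Cfsg.Agent.Lib.Helper28
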