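import Cfsg.Agent.Lib.Helper28.CertClasses2
import Cfsg.Agent.Lib.Helper28.FamCheck2

set_option autoImplicit false

/-!
Classes of the dodecads through a point of a dodecad under the stabilizer of the dodecad and the point.
-/

namespace Cfsg.Agent.Lib.Helper28

open Cfsg MulAction
open scoped Pointwise

def dx_tabs : List ℕ := [391134490908335139199977495618206816, 690887649086970750994225342140562784]

def dx_base : List ℕ := [0, 1, 2, 3, 4, 5, 9, 11, 12, 15, 16, 23]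

set_option maxRecDepth 1000000 in
set_option maxHeartbeats 4000000 in
theorem dx_base_check : IsDodecadList dx_base := by
  decide +kernel

set_option maxRecDepth 1000000 in
set_option maxHeartbeats 4000000 in
theorem dx_tabs_check : ∀ t ∈ dx_tabs, TabM24 t ∧ setEqB (stepSet t dx_base) dx_base = true ∧ look t 0 = 0 := by
  decide +kernel

def dxdod_roots : Fin 4 → List ℕ := ![
  [0, 1, 2, 3, 4, 5, 9, 11, 12, 15, 16, 23],
  [0, 1, 2, 3, 6, 7, 8, 10, 14, 17, 19, 22],
  [0, 1, 2, 3, 4, 5, 6, 7, 9, 13, 20, 23],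
  [0, 1, 2, 3, 4, 5, 6, 10, 13, 14, 18, 22]]

def dxdod_certs : Fin 4 → List (List ℕ) := ![
  [],
  [[0, 1], [0], [0, 1], [0, 1], [0, 1], [0, 1], [0, 1], [0], [0, 1], [0, 1], [0, 1], [0, 1], [0, 1], [0, 1], [0, 1], [0, 1], [], [0], [1], [0, 1], [0, 1], [0, 1], [0, 1], [0], [0, 1], [0, 1], [1], [0, 1], [0, 1], [0, 1], [0], [0, 1], [0], [0], [0, 1], [0], [0, 1], [0, 1], [0], [0, 1], [0], [0, 1], [0, 1], [1], [0, 1], [0, 1], [0, 1], [], [0, 1], [0, 1], [1], [0, 1], [0, 1], [0, 1], [0], [0, 1], [0, 1], [0, 1], [0], [0], [0, 1], [0], [0], [0], [1], [0], [0, 1], [1], [0, 1], [], [1], [0], [0, 1], [0], [1], [0, 1], [], [0, 1], [1], [], [1], [], [1], [], [1], [0], [0, 1], [], [1], [], [1], [0, 1], [], [], [1], [0, 1], [0], [], [1], [0], [1], [], [0, 1], [], [], [1], [], [0], [0], [], [1], [1], [], [0, 1], [0], [1], [], [0], [], [], [], [], [], [1], [0], [1], [], [0], [1], [], [], [0], [0], [], [], [1], [], [], [1], [], [], [0], [], [], [1],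 [], [], [], [], [1], [], [], [1]],
  [[0, 1], [0, 1], [0], [0, 1], [1], [0, 1], [0, 1], [0, 1], [0, 1], [0, 1], [1], [0, 1], [0, 1], [0, 1], [0, 1], [0, 1], [0, 1], [0, 1], [0, 1], [0, 1], [0], [0, 1], [0, 1], [0, 1], [0, 1], [0, 1], [0], [0, 1], [0], [0, 1], [0, 1], [0], [0, 1], [0, 1], [0, 1], [0, 1], [0], [0, 1], [1], [0, 1], [1], [0, 1], [0, 1], [0, 1], [0, 1], [0, 1], [0, 1], [1], [0, 1], [], [0, 1], [0, 1], [0, 1], [0, 1], [1], [0, 1], [], [0, 1], [0, 1], [0, 1], [0, 1], [0, 1], [0, 1], [0, 1], [0, 1], [0, 1], [1], [0, 1], [0, 1], [0], [0, 1], [0, 1], [0, 1], [0, 1], [1], [], [0], [1], [0, 1], [0, 1], [0, 1], [0], [0, 1], [1], [0], [0, 1], [0, 1], [0, 1], [0], [1], [1], [], [0, 1], [0, 1], [0, 1], [0, 1], [0, 1], [0], [0, 1], [0], [1], [], [0, 1], [0, 1], [0, 1], [0], [0, 1], [0, 1], [0, 1], [0], [1], [1], [0], [1], [1], [0], [1], [1], [], [0, 1], [], [0], [0], [1], [0, 1], [1], [0, 1], [0, 1], [1], [0], [0, 1], [0, 1], [0], [0,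 1], [0, 1], [1], [1], [0, 1], [0], [], [0, 1], [], [0, 1], [0, 1], [], [1], [1], [0], [], [1], [0], [1], [0], [], [0], [0, 1], [1], [0, 1], [0], [], [1], [0, 1], [0, 1], [0], [], [], [1], [0, 1], [0], [0, 1], [0, 1], [0], [1], [1], [1], [0], [], [0, 1], [1], [], [1], [0, 1], [0, 1], [], [1], [], [0, 1], [], [], [0], [1], [], [], [1], [0], [0, 1], [0], [1], [0, 1], [0, 1], [], [0, 1], [0], [], [0], [], [], [0, 1], [0], [1], [0, 1], [1], [], [], [], [0], [0], [1], [], [0, 1], [1], [1], [1], [1], [], [], [], [], [], [], [0], [], [], [0, 1], [1], [0], [1], [], [], [], [], [], [], [], [], [], [0], [], [], [], [], [1], [], [0], [1], [0], [0], [], [], [], [], [], [1], [], [], [0], [0], [1], [], [], [], [], [], [], [0], [0, 1], [], [], [], [], [1], [0], [0], [], [], [], [], [], [], [], [], [], [1], [], [0], [], [], [0], [], [], [], [], [1], [], [1], [], [], [], [], [], [0], [], [], [], [], [], [], [], [], [], [], [], [], [], [], [1]],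
  [[0, 1], [0, 1], [0, 1], [0, 1], [0, 1], [0, 1], [0, 1], [0, 1], [0, 1], [0, 1], [0, 1], [0, 1], [0, 1], [0, 1], [0, 1], [0, 1], [0, 1], [0, 1], [0], [0, 1], [0, 1], [0, 1], [0, 1], [0, 1], [0], [0, 1], [0, 1], [0, 1], [0, 1], [0, 1], [0, 1], [0, 1], [0, 1], [0, 1], [0, 1], [0, 1], [0, 1], [0, 1], [0, 1], [0, 1], [0, 1], [0, 1], [0, 1], [0, 1], [0, 1], [0, 1], [0, 1], [0, 1], [0, 1], [0, 1], [0, 1], [0, 1], [0, 1], [0, 1], [0, 1], [0, 1], [0, 1], [0, 1], [0, 1], [0, 1], [0], [0, 1], [0, 1], [0, 1], [0, 1], [0, 1], [0, 1], [0, 1], [0, 1], [0, 1], [0, 1], [0, 1], [0, 1], [1], [0, 1], [0, 1], [0, 1], [0, 1], [0, 1], [1], [0, 1], [0, 1], [0, 1], [0, 1], [0, 1], [0, 1], [1], [0, 1], [0, 1], [0, 1], [], [0, 1], [0, 1], [0, 1], [0, 1], [0, 1], [0, 1], [0, 1], [0, 1], [0, 1], [0, 1], [0, 1], [0], [0, 1], [0, 1], [0, 1], [0], [0, 1], [1], [0, 1], [0, 1], [0, 1], [0, 1], [0, 1], [0, 1], [0], [0, 1], [1], [1], [1], [], [1], [0, 1], [0, 1], [0],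 [0, 1], [], [0, 1], [0, 1], [0, 1], [0, 1], [0], [1], [0, 1], [0, 1], [0, 1], [1], [1], [0, 1], [0, 1], [0, 1], [0, 1], [0, 1], [1], [0, 1], [0, 1], [], [1], [0, 1], [0], [0, 1], [0, 1], [0, 1], [0, 1], [0, 1], [0, 1], [0], [0, 1], [0, 1], [], [0, 1], [0, 1], [0, 1], [0, 1], [0, 1], [0], [0, 1], [0], [0, 1], [0, 1], [1], [], [0, 1], [0, 1], [], [1], [1], [0, 1], [0, 1], [0], [0, 1], [0, 1], [0, 1], [0, 1], [0, 1], [0, 1], [], [0, 1], [1], [0, 1], [], [1], [0, 1], [0, 1], [1], [0], [1], [0, 1], [0], [], [0, 1], [0], [0, 1], [], [1], [0, 1], [0, 1], [0], [0, 1], [0], [], [0], [0, 1], [0], [0, 1], [0, 1], [0, 1], [0, 1], [1], [1], [0, 1], [0], [], [0, 1], [1], [1], [0], [1], [0, 1], [1], [0], [0, 1], [0, 1], [0, 1], [1], [0, 1], [0], [], [0], [0, 1], [0, 1], [1], [0, 1], [0], [0], [], [0, 1], [0], [0], [0], [], [0], [0, 1], [0, 1], [1], [0, 1], [0, 1], [0, 1], [1], [1], [0, 1], [1], [0], [0], [1], [0, 1], [1], [1], [1], [1], [0, 1], [0,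 1], [0], [0, 1], [0, 1], [0, 1], [], [1], [0, 1], [0], [0], [0, 1], [0], [0, 1], [1], [], [], [0], [], [1], [0, 1], [0], [0], [0, 1], [0, 1], [0, 1], [0], [1], [0, 1], [1], [0], [], [0], [0, 1], [1], [0], [0, 1], [], [0, 1], [0, 1], [0, 1], [0], [0], [0, 1], [1], [1], [1], [1], [1], [], [1], [0, 1], [0], [0, 1], [0, 1], [1], [0, 1], [], [1], [1], [0, 1], [], [0, 1], [0, 1], [1], [0, 1], [1], [1], [0], [0, 1], [0], [1], [1], [0, 1], [0], [], [], [0], [1], [], [1], [0], [0], [0, 1], [], [0], [0, 1], [1], [], [1], [1], [1], [1], [0], [0, 1], [0, 1], [0, 1], [], [1], [0, 1], [1], [1], [1], [0, 1], [], [1], [1], [0, 1], [0], [], [0], [1], [0], [], [1], [0], [0], [], [0], [0, 1], [0, 1], [0, 1], [0], [0, 1], [0], [], [1], [1], [], [], [], [0, 1], [], [], [], [], [], [], [], [0], [1], [0, 1], [0, 1], [0, 1], [], [1], [0], [0], [0], [1], [1], [0], [0, 1], [0, 1], [], [], [1], [0], [], [1], [0], [0], [1], [0], [0, 1], [0], [0, 1], [1], [0],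 [0, 1], [1], [1], [0], [0, 1], [], [0], [0], [0], [0, 1], [], [0], [], [1], [0, 1], [], [0, 1], [], [0, 1], [], [0, 1], [0], [0, 1], [], [1], [], [1], [], [0, 1], [], [0], [], [], [], [0, 1], [], [0], [0, 1], [0, 1], [0, 1], [0, 1], [0], [1], [], [0, 1], [], [], [], [0, 1], [], [1], [], [1], [], [0], [], [], [0], [0, 1], [], [], [0], [0, 1], [], [1], [1], [0], [1], [], [1], [1], [1], [0], [0, 1], [0], [0, 1], [0, 1], [0], [], [0, 1], [0], [1], [0], [0, 1], [1], [], [1], [], [], [0, 1], [1], [], [0, 1], [], [], [1], [], [0, 1], [0], [], [], [], [0], [0, 1], [], [0, 1], [1], [1], [], [], [], [], [0], [0], [0], [], [0, 1], [1], [0], [], [1], [], [], [], [], [1], [0], [0], [], [], [], [], [1], [], [], [0], [0, 1], [0, 1], [], [1], [], [1], [], [], [1], [], [], [], [0], [], [], [], [0], [0, 1], [], [], [1], [], [], [1], [], [], [], [0], [], [], [0], [], [0], [0], [], [0], [], [0, 1], [], [], [], [1], [], [], [], [], [1], [1], [], [], [],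 [], [], [], [0], [0], [0], [1], [1], [], [1], [0], [], [], [], [1], [], [1], [], [0, 1], [1], [], [], [1], [1], [], [], [], [], [1], [], [1], [], [0], [1], [], [1], [], [], [1], [], [], [], [], [], [], [], [], [], [0], [], [1], [], [], [1], [], [], [], [0], [0], [1], [1], [1], [], [], [], [], [], [], [], [], [], [0, 1], [0], [], [], [], [], [], [], [], [], [], [], [], [1], [0], [], [], [], [], [], [], [], [], [], [], [], [], [], [], [], [], [1], [], [], [], [], [], [], [], [], [], [], [], [], [], [], [], [], [], [], [], [], [], [1], [], [], [], [], [], [], [], [], [], [], [], [], [], [], [], [], [], [], [0], [], [], [], [1]]]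

def dxdod_sizes : Fin 4 → ℕ := ![1, 165, 330, 792]

abbrev dxdod_model := (setModel 35225 262139)

set_option maxRecDepth 1000000 in
set_option maxHeartbeats 4000000 in
theorem dxdod_check : distinctAux (((List.ofFn fun i => dxdod_model.nodes dx_tabs (dxdod_roots i)
    (dxdod_certs i)).flatten).map dxdod_model.code) 0 = true := by
  decide +kernel

set_option maxRecDepth 1000000 in
set_option maxHeartbeats 4000000 in
theorem dxdod_len : ∀ i, (dxdod_model.nodes dx_tabs (dxdod_roots i) (dxdod_certs i)).length =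
    dxdod_sizes i := by
  decide +kernel

set_option maxRecDepth 1000000 in
set_option maxHeartbeats 4000000 in
theorem dxdod_rootcheck : ∀ i, (fun l => IsDodecadList l ∧ 0 ∈ l) (dxdod_roots i) := by
  decide +kernel

end Cfsg.Agent.Lib.Helper28
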