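import Cfsg.Agent.Lib.Helper28.ElemReps

set_option autoImplicit false

/-!
Data for the affine structure on the sixteen points outside an octad: a five-bit code for each
point (bit 1 marks the points outside the octad, the other four bits are affine coordinates), the
translation `ag_z`, and octads realizing eleven affine planes.
-/

namespace Cfsg.Agent.Lib.Helper28

/-- the base octad -/
def ag_O0 : List ℕ := [0, 1, 2, 3, 5, 14, 17, 23]

/-- the sixteen points outside the base octad -/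
def ag_comp : List ℕ := [4, 6, 7, 8, 9, 10, 11, 12, 13, 15, 16, 18, 19, 20, 21, 22]

/-- the codes of the points -/
def ag_codes : List ℕ := [0, 0, 0, 0, 2, 0, 3, 6, 30, 10, 15, 14, 11, 18, 0, 26, 23, 0, 27, 19, 31, 22, 7, 0]

/-- the code of a point -/
def agc (a : ℕ) : ℕ := ag_codes.getD a 0

/-- the translation by the first basis vector -/
def ag_z : ℕ := 965128854020860192151391391390468128

/-- an octad disjoint from the base octad -/
def ag_O1 : List ℕ := [6, 7, 8, 9, 10, 13, 16, 18]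

/-- octads meeting the base octad in four points: the first four entries are outside -/
def ag_chain : List (List ℕ) := [[4, 6, 7, 22, 1, 2, 5, 17], [4, 6, 9, 12, 2, 3, 5, 14], [4, 7, 9, 11, 0, 3, 5, 17], [4, 6, 13, 19, 0, 2, 3, 17], [4, 7, 13, 21, 0, 2, 5, 14], [4, 9, 13, 15, 0, 1, 3, 14], [4, 6, 11, 10, 1, 3, 14, 17], [4, 6, 21, 16, 0, 1, 3, 5], [4, 6, 15, 18, 0, 5, 14, 17], [4, 7, 15, 8, 2, 3, 14, 17], [4, 6, 8, 20, 0, 1, 2, 14]]

theorem ag_O0_check : IsOctadList ag_O0 ∧ IsOctadList ag_O1 ∧ (∀ a ∈ ag_O1, a ∉ ag_O0) ∧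
    4 ∉ ag_O0 ∧ 4 ∉ ag_O1 ∧ (∀ a, a < 24 → a ∉ ag_O0 → a ∈ ag_comp) ∧
    (∀ a ∈ ag_comp, a < 24 ∧ a ∉ ag_O0) := by
  decide +kernel

theorem ag_codes_check : (∀ a ∈ ag_O0, agc a = 0) ∧
    (∀ a ∈ ag_comp, agc a < 32 ∧ (agc a).testBit 1 = true) ∧
    (∀ a ∈ ag_comp, ∀ b ∈ ag_comp, agc a = agc b → a = b) := by
  decide +kernel

theorem ag_z_check : TabM24 ag_z ∧ (∀ a ∈ ag_O0, look ag_z a = a) ∧
    (∀ a ∈ ag_comp, look ag_z a ∈ ag_comp ∧ look ag_z a ≠ a ∧ agc (look ag_z a) = agc a ^^^ 1) := by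
  decide +kernel

set_option maxRecDepth 1000000 in
set_option maxHeartbeats 4000000 in
theorem ag_oct_check : ∀ x ∈ alloct_nodes, (x.filter (· ∈ ag_O0)).length = 4 →
    (x.map agc).foldr (· ^^^ ·) 0 = 0 := by
  decide +kernel

end Cfsg.Agent.Lib.Helper28
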