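import Cfsg.Agent.Lib.Helper28.Data5607
import Cfsg.Agent.Lib.Helper28.ElemReps

set_option autoImplicit false

/-!
Data for a Sylow 2-subgroup of `M24`: the stabilizer of a sextet, an octad and a partition of the
octad into pairs.
-/

namespace Cfsg.Agent.Lib.Helper28

open Cfsg MulAction
open scoped Pointwise

/-- the octad fixed by the Sylow subgroup -/
def sy_O0 : List ℕ := [5, 8, 10, 12, 17, 19, 20, 21]

/-- the invariant partition of the octad into pairs -/
def sy_F : List (List ℕ) := [[5, 19], [8, 20], [10, 12], [17, 21]]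

set_option maxRecDepth 1000000 in
set_option maxHeartbeats 4000000 in
theorem sy_base_check : IsOctadList sy_O0 ∧ (∀ l ∈ sy_F, GoodSet l ∧ l ≠ []) ∧
    sy_F.Pairwise listDisjoint := by
  decide +kernel

def sy_ocert1 : List (List ℕ) := [[0], [0, 1], [1], [1], [0, 1], [0, 1], [1], [0], [], [], [0, 1], [0]]

abbrev sy_omodel1 := setModel 140 1021

set_option maxRecDepth 1000000 in
set_option maxHeartbeats 4000000 in
theorem sy_ocheck1 : distinctAux ((sy_omodel1.nodes c2b_htabs sy_O0 sy_ocert1).map sy_omodel1.code) 0 = true ∧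
    (sy_omodel1.nodes c2b_htabs sy_O0 sy_ocert1).length = 15 := by
  decide +kernel

/-- generators of the stabilizer of the sextet and the octad -/
def sy_btabs : List ℕ := [388957513631155342163786243109821551, 585647744561936856493511030640040071]

set_option maxRecDepth 1000000 in
set_option maxHeartbeats 4000000 in
theorem sy_btabs_check : ∀ t ∈ sy_btabs, TabM24 t ∧ famSubB (stepFam t c2b_S0) c2b_S0 = true ∧
    setEqB (stepSet t sy_O0) sy_O0 = true := by
  decide +kernel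

def sy_ocert2 : List (List ℕ) := [[0, 1], [0, 1], [0], [1], [0], [], [0]]

abbrev sy_omodel2 := famModel 288545021 2147483647 1024

set_option maxRecDepth 1000000 in
set_option maxHeartbeats 4000000 in
theorem sy_ocheck2 : distinctAux ((sy_omodel2.nodes sy_btabs sy_F sy_ocert2).map sy_omodel2.code) 0 = true ∧
    (sy_omodel2.nodes sy_btabs sy_F sy_ocert2).length = 9 := by
  decide +kernel

/-- generators of the Sylow subgroup -/
def sy_ttabs : List ℕ := [84802347008267984639480636977535725, 44840112799395219275770199694335696, 762402645405301864224721181693058505, 388638409817759258944047372362124754]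

set_option maxRecDepth 1000000 in
set_option maxHeartbeats 4000000 in
theorem sy_ttabs_check : ∀ t ∈ sy_ttabs, TabM24 t ∧ famSubB (stepFam t c2b_S0) c2b_S0 = true ∧
    setEqB (stepSet t sy_O0) sy_O0 = true ∧ famSubB (stepFam t sy_F) sy_F = true := by
  decide +kernel

set_option maxRecDepth 1000000 in
def sy_tcert : List (List ℕ) := [[0, 1, 2, 3], [0, 1, 2, 3], [0, 1, 2, 3], [0, 1, 2, 3], [0, 1, 2, 3], [0, 1, 2, 3], [0, 1, 2, 3], [0, 1, 2, 3], [0, 1, 2, 3], [0, 2, 3], [0, 2, 3], [0, 1, 2, 3], [0, 1, 2, 3], [0, 1, 2, 3], [0, 1, 2, 3], [0, 1, 2, 3], [0, 1, 2, 3], [0, 1, 2], [0, 1, 2, 3], [0, 1, 2, 3], [0, 1, 2], [1, 2, 3], [0, 1, 2, 3], [0, 1, 2, 3], [0, 1, 2, 3], [0, 2, 3], [0, 2, 3], [0, 1, 2, 3], [0, 1, 2, 3], [0, 1, 2, 3], [0, 1, 2, 3], [0, 1, 2, 3], [0, 1, 2, 3], [0, 1, 2], [0, 1, 2, 3], [0, 1, 2, 3], [0, 1, 2], [0, 2, 3], [0, 1, 2, 3], [0, 1, 2, 3], [2, 3], [0, 1, 2, 3], [0, 1, 2, 3], [1, 2, 3], [0, 1, 2, 3], [0, 1, 2, 3], [0,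 1, 2, 3], [0, 1, 2], [1, 2, 3], [0, 1, 2, 3], [1, 2], [0, 1, 2, 3], [0, 1, 2, 3], [0, 1, 2, 3], [0, 1, 2, 3], [0, 3], [0, 3], [0, 1], [0, 1, 2, 3], [0, 2, 3], [1, 3], [0, 1], [0, 1, 2, 3], [0, 2], [0, 1, 2, 3], [0, 1, 2, 3], [0, 1], [0, 1, 2], [0, 1], [0, 2], [0, 2], [2, 3], [1, 2, 3], [0, 1, 2], [0, 1, 2], [2], [0, 1], [0, 1, 2, 3], [2], [0, 2, 3], [0, 2, 3], [0, 1, 2, 3], [0, 1, 2, 3], [0, 1, 2, 3], [0, 2, 3], [0, 2, 3], [0, 1, 2, 3], [0, 1, 2, 3], [0, 1, 2, 3], [0, 1, 2, 3], [0, 1, 2, 3], [0, 1, 2, 3], [0, 1, 2], [0, 1, 2, 3], [0, 1, 2, 3], [0, 1, 2], [0, 2, 3], [0, 1, 2, 3], [0, 1, 2, 3], [2, 3], [0, 1, 2, 3], [0, 1, 2, 3], [1, 2, 3], [0, 1, 2, 3], [0, 1, 2, 3], [0, 1, 2, 3], [0, 1, 2], [1, 2, 3], [0, 1, 2, 3], [1, 2], [0, 1, 2, 3], [0, 2, 3], [0, 1, 2, 3], [0, 1, 2, 3], [0, 3], [0], [0, 1], [0, 1, 2, 3], [0, 2, 3], [1, 3], [0, 1], [0, 1, 2, 3], [0, 2], [0, 1, 2, 3], [0, 1, 2, 3], [0], [0, 1, 2], [0, 1], [0, 2], [0, 2], [2, 3],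 [1, 2, 3], [0, 1, 2], [0, 1, 2], [2], [0, 1], [0, 1, 2, 3], [2], [0, 2, 3], [0, 2, 3], [3], [0, 1, 2, 3], [0], [1, 3], [1, 3], [0, 1, 3], [0, 1, 3], [0, 1, 2], [1, 2, 3], [1, 3], [2], [0, 1, 2, 3], [0, 2, 3], [1, 2, 3], [0, 1, 2, 3], [0, 1, 2, 3], [0, 3], [0, 1, 2], [1, 3], [1, 2, 3], [1, 2], [0, 1], [0, 2], [0, 2, 3], [0, 3], [0, 3], [], [1], [0, 3], [1, 3], [1], [1, 2], [0, 2], [1], [0, 1, 2], [0, 1], [2], [0], [2], [2, 3], [1, 2, 3], [0, 1], [2], [], [0], [0, 2, 3], [], [0], [3], [0, 1], [1], [0], [0, 2, 3], [], [0, 1, 3], [3], [0, 3], [0, 1, 2, 3], [2, 3], [1, 3], [0], [1, 2, 3], [1, 2, 3], [2], [0], [1, 2, 3], [2, 3], [0, 3], [1], [], [], [3], [0, 2, 3], [], [2], [], [0, 1, 3], [0], [0], [2, 3], [1], [2], [0, 1, 2], [1, 3], [], [], [], [0], [], [3], [0, 1], [], [2], [1], [3], [], [3], [1, 2, 3], [0], [], [2, 3], [0], [], [0], [2, 3], [], [0, 1, 2, 3], [0, 1], [], [0], [1, 2, 3], [0], [1, 2, 3], [], [], [1], [], [], [], [1, 3],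 [2], [0, 1, 2], [], [1], [], [], [], [1], [1], [], [0, 1], [0, 2, 3], [0, 2, 3], [0, 1, 2, 3], [0, 1, 2, 3], [0, 1, 2, 3], [1, 2, 3], [0, 1, 2, 3], [1, 2, 3], [0, 1, 2], [0, 1, 2, 3], [0, 1, 2, 3], [0, 1], [0], [2, 3], [2, 3], [2, 3], [0, 1, 3], [0, 1, 2, 3], [1, 2, 3], [0, 1, 2], [0, 2], [0, 2, 3], [0, 1, 2], [1, 2, 3], [0, 3], [1, 2], [0, 1, 2, 3], [0], [1, 2, 3], [1, 2, 3], [0, 3], [0], [1], [0, 1, 2, 3], [0, 2, 3], [1, 3], [0], [0, 2, 3], [0, 2], [0, 1, 2], [0, 1, 2, 3], [0], [0, 2], [0, 1], [0, 2], [2], [2, 3], [1], [0, 2], [0, 2], [2], [], [2, 3], [2], [0, 2], [0, 2, 3], [], [0, 1, 2, 3], [0], [1, 3], [1, 3], [0, 1], [0, 1, 3], [0, 1, 2], [1], [1, 3], [2], [0, 1, 2, 3], [0, 3], [], [0, 2], [1, 2, 3], [], [1, 2], [1], [1], [1], [0, 1], [0], [0, 2, 3], [3], [3], [], [], [3], [3], [], [], [0], [1], [0, 1, 2], [1], [2], [], [], [2, 3], [], [1], [2], [], [], [2, 3], [], [], [], [], [1], [0], [0, 2, 3], [0, 1], [], [0, 3], [0, 2, 3],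 [], [1, 3], [], [2, 3], [1, 2, 3], [2], [0], [2], [2, 3], [1], [], [], [3], [0, 2, 3], [], [2], [], [0, 1, 3], [0], [0], [], [1], [2], [0, 1, 2], [3], [], [], [], [0], [], [], [0, 1], [], [2], [], [3], [], [1, 2, 3], [], [], [], [], [], [], [2, 3], [], [0, 1, 2], [0, 1], [], [0], [1, 2, 3], [0], [1, 2, 3], [], [], [], [], [], [], [1, 3], [], [0, 1, 2], [], [1], [], [], [], [1], [], [], [0, 1], [], [], [1], [2], [], [], [2], [2, 3], [], [], [0], [1], [], [2], [], [], [], [], [2], [], [1, 2], [0], [], [3], [0], [], [], [0], [], [], [], [], [0], [2], [0, 2], [3], [], [], [], [], [], [], [2], [], [], [], [], [], [], [], [], [], [], [], [], [3], [], [], [], [], [2, 3], [], [], [], [], [], [3], [], [], [], [], [], [], [], [], [], [], [], [], [], [], [], [], [], [], [3], [], [], [0], [], [], [], [], [], [2], [], [], [1], [], [], [], [], [], [], [], [], [], [], [], [], [], [], [], [], [], [3], [1], [], [1], [], [], [], [], [], [], [], [1],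 [], [3], [], [], [], [], [], [], [], [], [], [], [], [], [], [], [], [], [], [], [], [], [], [], [], [], [], [], [], [], [], [], [], [], [], [], [], [], [], [], [], [], [], [], [], [], [], [], [], [], [], [], [], [], [], [], [], [], [], [], [], [], [], [], [], [], [], [], [], [], [], [], [], [0], [], [3], [], [], [], [], [0, 2], [], [], [], [1, 2], [], [], [], [], [1], [1], [], [1], [0], [2, 3], [3], [], [0, 3], [], [0, 1, 2, 3], [], [0], [1], [], [2], [], [], [2], [0, 2], [], [], [2, 3], [2], [2], [], [], [1], [3], [2], [], [0, 3], [], [0, 2], [], [], [1], [], [], [], [], [], [], [], [], [], [], [], [0, 2], [1], [], [], [], [2, 3], [], [], [], [], [], [], [], [], [], [0], [2, 3], [0, 2], [], [1, 3], [], [2], [], [0], [], [], [], [], [], [], [], [2], [], [0, 3], [], [], [], [], [], [], [], [], [], [], [], [], [], [], [3], [], [1, 3], [], [], [], [], [], [], [], [1], [], [], [], [], [], [], [], [1], [], [], [], [], [], [1], [], [1],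 [], [], [], [], [3], [], [], [0], [], [], [], [], [], [], [], [], [], [], [], [], [], [], [], [], [], [], [], [], [], [], [], [], [], [], [], [], [], [], [], [], [], [], [], [], [], [], [], [], [], [], [], [], [], [], [], [], [], [], [], [], [], [], [], [], [], [], [], [], [], [3], [], [], [], [], [], [], [], [], [], [], [], [], [], [], [], [], [], [], [], [], [], [], [], [], [], [], [], [], [], [], [], [], [], [], [], [], [], [], [], [], [], [], [], [], [], [], [], [], [], [], [], [], [], [], [], [], [], [], [], [], [], [], [], [], [], [], [], [], [], [], [], [], [], [], [], [], [], [], [], [], [], [], [], [], [], [], [], [], [], [], [], [], [], [], [], [], [], [], [], [], [], [], [], [], [], [], [], [], [], [], [], [], [], [], [3]]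

noncomputable abbrev sy_tmodel := elemModel 1048573

set_option maxRecDepth 1000000 in
set_option maxHeartbeats 4000000 in
theorem sy_tcheck : distinctAux ((sy_tmodel.nodes sy_ttabs idList sy_tcert).map sy_tmodel.code) 0 = true ∧
    (sy_tmodel.nodes sy_ttabs idList sy_tcert).length = 1024 := by
  decide +kernel

set_option maxRecDepth 1000000 in
set_option maxHeartbeats 4000000 in
theorem sy_oct_unique_check : ∀ x ∈ alloct_nodes,
    (∀ t ∈ sy_ttabs, setEqB (stepSet t x) x = true) → setEqB x sy_O0 = true := by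
  decide +kernel

set_option maxRecDepth 1000000 in
set_option maxHeartbeats 4000000 in
theorem sy_sext_unique_check : ∀ x ∈ allsext_nodes,
    (∀ t ∈ sy_ttabs, famEqB (stepFam t x) x = true) → famEqB x c2b_S0 = true := by
  decide +kernel

set_option maxRecDepth 1000000 in
set_option maxHeartbeats 4000000 in
theorem sy_F_unique_check : ∀ x ∈ sy_omodel2.nodes sy_btabs sy_F sy_ocert2,
    (∀ t ∈ sy_ttabs, famEqB (stepFam t x) x = true) → famEqB x sy_F = true := by
  decide +kernel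

end Cfsg.Agent.Lib.Helper28
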