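import Cfsg.Agent.Lib.Helper28.M9Struct
import Cfsg.Agent.Lib.Helper28.FamCheck
import Cfsg.Agent.Lib.Helper28.ElemReps

set_option autoImplicit false

/-!
Data for the normalizer and centralizer of an element of order 7 of `M24`.
-/

namespace Cfsg.Agent.Lib.Helper28

open Cfsg MulAction
open scoped Pointwise

/-- an element of order seven -/
def n7_l : List ℕ := [6, 20, 17, 22, 21, 5, 4, 7, 1, 0, 12, 11, 23, 3, 19, 8, 10, 15, 2, 9, 18, 14, 16, 13]

/-- its packed table -/
def n7_tab : ℕ := 561359145496777583457024330530768518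

/-- the trio of its three invariant octads -/
def n7_T0 : List (List ℕ) := [[1, 2, 5, 8, 15, 17, 18, 20], [0, 4, 6, 9, 11, 14, 19, 21], [3, 7, 10, 12, 13, 16, 22, 23]]

/-- the set `{a, l a}` as a list -/
def duadOf (l : List ℕ) (a : ℕ) : List ℕ := if l.getD a 0 = a then [a] else [a, l.getD a 0]

/-- the family of all `{a, l a}` -/
def duadL (l : List ℕ) : List (List ℕ) := (List.range 24).map (duadOf l)

/-- `g * l = l' * g` on tables -/
def ConjTab (l l' : List ℕ) (t : ℕ) : Prop :=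
  ∀ a : Fin 24, look t (l.getD a.val 0) = l'.getD (look t a.val) 0

instance (l l' : List ℕ) (t : ℕ) : Decidable (ConjTab l l' t) := by unfold ConjTab; infer_instance

set_option maxRecDepth 1000000 in
set_option maxHeartbeats 4000000 in
theorem n7_l_check : ListM24 n7_l ∧ powL n7_l 7 = idList ∧ n7_l ≠ idList ∧
    (∀ a : Fin 24, look n7_tab a.val = n7_l.getD a.val 0) ∧ IsTrioList n7_T0 ∧
    (∀ l ∈ n7_T0, setEqB (stepSet n7_tab l) l = true) ∧
    (∀ l ∈ duadL n7_l, GoodSet l) ∧ ((duadL n7_l).map setCode).Nodup := by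
  decide +kernel

set_option maxRecDepth 1000000 in
set_option maxHeartbeats 4000000 in
theorem n7_invoct_check : ∀ x ∈ alloct_nodes, setEqB (stepSet n7_tab x) x = true →
    n7_T0.any (fun l => setEqB x l) = true := by
  decide +kernel

/-- generators of the stabilizer of the trio -/
def n7_jtabs : List ℕ := [553206621895844694869031710512882831, 392506976533691492307506454892037379]

set_option maxRecDepth 1000000 in
set_option maxHeartbeats 4000000 in
theorem n7_jtabs_check : ∀ t ∈ n7_jtabs, TabM24 t ∧ famSubB (stepFam t n7_T0) n7_T0 = true := by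
  decide +kernel

set_option maxRecDepth 1000000 in
def n7_ocert : List (List ℕ) := [[0, 1], [0, 1], [0, 1], [0, 1], [0, 1], [0, 1], [0, 1], [0, 1], [0, 1], [0, 1], [0, 1], [0, 1], [0, 1], [0, 1], [0, 1], [0, 1], [0, 1], [0, 1], [0, 1], [0, 1], [0, 1], [0, 1], [0, 1], [0, 1], [0, 1], [0, 1], [0, 1], [0, 1], [0, 1], [0, 1], [0, 1], [0, 1], [0, 1], [0, 1], [0], [0, 1], [0, 1], [0], [0], [0, 1], [0, 1], [0, 1], [0, 1], [0, 1], [0, 1], [0, 1], [0, 1], [0, 1], [0, 1], [0, 1], [0, 1], [0, 1], [0, 1], [0, 1], [0, 1], [0, 1], [0, 1], [0, 1], [0, 1], [0, 1], [0, 1], [0, 1], [0, 1], [0], [0, 1], [0, 1], [1], [0, 1], [1], [0, 1], [0, 1], [0, 1], [0, 1], [0], [0, 1], [0, 1], [0, 1], [0, 1], [0, 1], [0, 1], [0, 1], [0, 1], [0, 1], [0, 1], [0, 1], [0, 1], [1], [0, 1], [0], [0, 1], [0, 1], [0, 1], [0, 1], [0, 1], [0, 1], [0, 1], [0, 1], [0, 1], [0, 1], [0, 1], [0, 1], [0, 1], [0, 1], [0, 1], [0, 1], [0, 1], [0, 1], [0, 1], [0, 1], [0, 1], [0, 1], [0, 1], [0,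 1], [0, 1], [0, 1], [0, 1], [0, 1], [0, 1], [1], [0], [0], [0], [0], [0, 1], [0, 1], [0, 1], [0, 1], [0, 1], [0, 1], [0, 1], [0, 1], [0, 1], [0], [0, 1], [0, 1], [0, 1], [0, 1], [0, 1], [0, 1], [0, 1], [0, 1], [0, 1], [0], [0, 1], [0, 1], [0, 1], [0, 1], [0, 1], [0, 1], [0, 1], [0, 1], [0, 1], [0, 1], [0], [0, 1], [1], [0, 1], [0, 1], [0, 1], [0, 1], [0, 1], [0], [0, 1], [0, 1], [0, 1], [0, 1], [0, 1], [0], [0, 1], [0], [0, 1], [0, 1], [0, 1], [0, 1], [0, 1], [0, 1], [0, 1], [0, 1], [], [0, 1], [0, 1], [0, 1], [1], [0, 1], [0], [1], [0, 1], [0, 1], [0, 1], [0, 1], [0], [0, 1], [0, 1], [1], [0, 1], [0, 1], [0], [0, 1], [0, 1], [0, 1], [0, 1], [0, 1], [0, 1], [1], [0, 1], [0, 1], [0], [0, 1], [0, 1], [0, 1], [0, 1], [0, 1], [0, 1], [1], [0, 1], [0, 1], [0, 1], [0, 1], [0, 1], [0, 1], [0, 1], [0, 1], [0, 1], [0, 1], [1], [0], [0, 1], [0, 1], [0, 1], [0, 1], [0, 1], [0, 1], [0], [0, 1], [0, 1], [0, 1], [0, 1], [1], [1], [], [0, 1], [0, 1], [0, 1],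 [0, 1], [0, 1], [0, 1], [0], [0, 1], [0], [1], [0, 1], [0, 1], [1], [0, 1], [0, 1], [0, 1], [1], [0], [1], [0, 1], [1], [0, 1], [0, 1], [0, 1], [0, 1], [0, 1], [0, 1], [0, 1], [0, 1], [1], [0, 1], [0, 1], [0], [0, 1], [0, 1], [0, 1], [0, 1], [0], [1], [0, 1], [0, 1], [0, 1], [0], [0], [0, 1], [1], [0, 1], [0, 1], [0], [0, 1], [0, 1], [0, 1], [0, 1], [1], [0, 1], [0], [1], [0, 1], [1], [0], [1], [0, 1], [0], [0, 1], [1], [0, 1], [0, 1], [0, 1], [0, 1], [0, 1], [0], [0, 1], [0, 1], [0, 1], [0, 1], [0, 1], [0, 1], [0, 1], [0, 1], [0, 1], [0], [0], [0, 1], [0, 1], [1], [0, 1], [0, 1], [0], [0], [0], [1], [0], [0, 1], [1], [0], [0, 1], [0], [0, 1], [0], [1], [0], [1], [], [0, 1], [0, 1], [0, 1], [0, 1], [0], [0, 1], [0, 1], [0], [1], [0, 1], [0, 1], [0, 1], [0, 1], [0], [0, 1], [0, 1], [0, 1], [0, 1], [0, 1], [0, 1], [0, 1], [0], [0, 1], [], [1], [1], [0, 1], [0, 1], [], [0, 1], [0, 1], [0, 1], [0, 1], [0, 1], [0], [0, 1], [0, 1], [0, 1], [1], [0, 1],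 [0, 1], [0], [0, 1], [1], [0, 1], [0, 1], [0, 1], [0, 1], [0], [1], [0, 1], [0], [0, 1], [0, 1], [0, 1], [0, 1], [0], [1], [0, 1], [0, 1], [0, 1], [0], [0, 1], [0], [1], [0, 1], [0, 1], [0, 1], [0, 1], [0, 1], [0, 1], [0], [0], [0, 1], [0, 1], [0, 1], [1], [0, 1], [0], [0, 1], [0, 1], [0, 1], [0], [0], [0, 1], [], [], [1], [0, 1], [0, 1], [0], [], [0, 1], [1], [1], [0], [0, 1], [0, 1], [0, 1], [0, 1], [0, 1], [0], [0, 1], [0], [0, 1], [0, 1], [1], [0, 1], [1], [0, 1], [0, 1], [0, 1], [0, 1], [], [1], [0, 1], [], [1], [1], [0], [1], [0, 1], [0, 1], [0, 1], [0], [1], [0, 1], [0, 1], [0, 1], [0], [0, 1], [0, 1], [], [0, 1], [1], [0, 1], [0, 1], [], [0, 1], [0], [1], [], [0, 1], [0, 1], [], [1], [0, 1], [], [1], [1], [0, 1], [0, 1], [0, 1], [0, 1], [0], [0], [1], [0], [0], [0, 1], [1], [0, 1], [0, 1], [0, 1], [0], [0], [0, 1], [0, 1], [1], [], [0, 1], [1], [0, 1], [0, 1], [0], [0, 1], [0], [], [1], [0, 1], [0, 1], [], [0], [], [0, 1], [0], [], [],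 [], [0, 1], [1], [0, 1], [0, 1], [1], [0, 1], [1], [], [0, 1], [0, 1], [0, 1], [0, 1], [1], [0, 1], [0, 1], [0, 1], [0], [0], [0], [0, 1], [0], [0], [1], [1], [], [0, 1], [1], [0, 1], [1], [0], [0, 1], [1], [0, 1], [1], [1], [0, 1], [0], [0, 1], [0], [0, 1], [0, 1], [0], [0, 1], [1], [0, 1], [0], [0, 1], [], [0, 1], [0, 1], [0], [0, 1], [0, 1], [0, 1], [0, 1], [0, 1], [0, 1], [0, 1], [0, 1], [0, 1], [0], [0], [], [0, 1], [0], [0, 1], [0], [], [0, 1], [0], [0], [1], [], [1], [1], [], [1], [0], [1], [0, 1], [], [0, 1], [1], [0, 1], [0, 1], [0, 1], [1], [0, 1], [1], [0], [0, 1], [0], [0], [0, 1], [], [0], [1], [], [1], [0], [0, 1], [0, 1], [1], [0], [0], [1], [0, 1], [0], [0], [], [0], [0], [0, 1], [0, 1], [], [], [0, 1], [1], [1], [1], [0, 1], [0, 1], [1], [0], [1], [0, 1], [1], [0], [], [0], [], [0], [1], [0, 1], [1], [0], [1], [], [], [0], [1], [0], [0, 1], [0], [1], [1], [0, 1], [1], [], [0], [0, 1], [1], [0, 1], [0, 1], [], [0], [0], [0, 1],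 [1], [], [], [0], [1], [0, 1], [], [0, 1], [0, 1], [1], [0, 1], [0, 1], [], [1], [1], [0, 1], [0, 1], [1], [1], [1], [1], [1], [], [0], [1], [1], [0, 1], [0], [0], [], [0], [0, 1], [0, 1], [0], [0, 1], [0], [0, 1], [], [], [0], [1], [1], [0, 1], [1], [1], [0, 1], [0, 1], [1], [0, 1], [], [0], [0], [0], [0, 1], [1], [0, 1], [1], [0], [0], [0], [0], [1], [], [0], [0, 1], [], [1], [], [], [1], [0, 1], [1], [0, 1], [0, 1], [], [0, 1], [1], [0], [1], [0], [0, 1], [0], [1], [0, 1], [0], [0, 1], [0, 1], [1], [0], [1], [], [0], [1], [], [0], [1], [], [0], [1], [], [1], [], [1], [1], [0], [0, 1], [], [], [], [0], [0, 1], [0, 1], [1], [1], [0, 1], [0], [1], [0], [0, 1], [0], [0], [0], [0], [0, 1], [1], [], [], [], [], [], [], [0, 1], [], [0, 1], [], [], [], [], [0, 1], [0], [0, 1], [0, 1], [0], [0, 1], [], [], [1], [0, 1], [0], [], [0], [0], [1], [1], [1], [0], [0], [1], [], [], [0], [1], [], [], [1], [], [], [], [], [1], [0, 1], [], [], [], [0], [0, 1],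 [], [1], [0], [], [0], [0, 1], [], [], [1], [0, 1], [1], [], [1], [1], [], [0], [1], [1], [0, 1], [0], [], [], [0, 1], [], [0, 1], [], [0, 1], [], [0], [0, 1], [], [], [0, 1], [], [], [0], [], [1], [1], [0], [0, 1], [1], [], [0, 1], [0], [1], [0], [0], [1], [], [0], [1], [], [], [1], [0], [], [], [1], [1], [], [0, 1], [], [1], [0], [0], [], [], [], [], [1], [], [0], [], [0], [0], [], [1], [0], [0], [], [0], [0, 1], [0], [], [0], [0], [], [0, 1], [0], [0], [1], [], [], [1], [0, 1], [], [0, 1], [], [], [], [0], [], [0], [0, 1], [], [0], [], [0, 1], [], [], [1], [0, 1], [0], [0], [1], [], [], [0], [1], [0, 1], [], [], [], [], [0], [1], [1], [], [], [], [], [0], [], [1], [], [], [], [], [1], [], [0], [], [1], [0], [1], [], [], [], [1], [], [0], [], [1], [0], [0, 1], [], [], [0, 1], [], [1], [], [0], [0], [], [0], [0], [1], [1], [0], [0], [0], [1], [], [1], [], [0], [1], [], [0], [], [0], [0], [], [], [0, 1], [], [0], [], [0, 1], [1], [0, 1], [0, 1],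 [], [], [], [0], [], [1], [0], [], [], [0], [], [], [0], [], [], [0], [], [], [0], [], [1], [0, 1], [], [], [], [1], [], [], [0, 1], [1], [0], [], [], [1], [1], [0], [], [0, 1], [], [], [], [0], [1], [0], [1], [], [], [1], [0], [0], [0, 1], [], [], [1], [], [0, 1], [], [], [], [1], [], [], [], [], [], [1], [0], [], [0, 1], [], [], [], [1], [], [0, 1], [], [], [1], [], [], [], [], [1], [], [0], [], [0], [1], [1], [], [1], [0], [], [1], [], [1], [], [1], [0], [], [0, 1], [], [], [0], [], [0], [], [0, 1], [], [1], [0], [], [0], [], [1], [], [], [0], [0], [], [1], [], [], [], [], [], [0], [], [], [], [0], [0, 1], [], [], [], [0, 1], [], [0], [0], [], [], [1], [], [0], [], [], [1], [], [], [], [0], [1], [], [], [], [], [], [], [], [], [], [0], [1], [], [], [1], [], [0, 1], [], [], [], [0], [], [], [0], [0], [1], [0], [], [], [], [1], [], [], [], [], [0], [], [], [], [1], [0], [], [], [], [], [], [1], [], [0], [0], [], [], [0], [], [], [], [], [], [],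 [], [1], [], [0], [1], [0], [], [], [0], [], [0], [], [], [], [], [], [], [], [0], [], [], [], [], [], [], [0], [0], [], [], [1], [], [1], [0], [], [], [1], [0], [], [], [], [0, 1], [], [], [0], [0], [], [], [1], [], [], [], [], [], [], [], [1], [], [], [], [0, 1], [], [], [], [], [], [], [], [], [], [], [], [], [0], [], [], [0], [], [], [], [], [], [], [], [], [], [], [], [], [], [], [], [], [], [0], [], [], [], [0, 1], [], [], [], [], [], [], [], [], [], [], [], [], [0], [], [], [], [], [], [], [], [], [], [], [], [], [], [], [0], [], [0], [], [], [], [0], [0], [0], [], [], [], [], [], [1], [], [], [], [], [], [], [], [], [0], [], [], [0], [0], [], [], [], [0], [], [], [], [], [], [], [], [], [], [], [], [], [], [], [], [], [], [], [], [1], [], [], [1], [], [], [], [], [], [], [], [], [], [], [], [], [], [1], [], [0], [], [], [], [], [], [], [1], [], [1], [], [], [], [], [], [], [1], [], [], [], [], [], [], [], [], [], [], [0], [], [], [], [],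 [], [], [0], [], [], [], [], [], [], [], [], [0]]

abbrev n7_omodel := famModel 288545021 2147483647 2097152

set_option maxRecDepth 1000000 in
set_option maxHeartbeats 4000000 in
theorem n7_ocheck : distinctAux ((n7_omodel.nodes n7_jtabs (duadL n7_l) n7_ocert).map n7_omodel.code) 0 = true ∧
    (n7_omodel.nodes n7_jtabs (duadL n7_l) n7_ocert).length = 1536 := by
  decide +kernel

/-- generators of the normalizer -/
def n7_ntabs : List ℕ := [918365414169926838923561403989858440, 878433084020144695406737139219580397]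

set_option maxRecDepth 1000000 in
set_option maxHeartbeats 4000000 in
theorem n7_ntabs_check : ∀ t ∈ n7_ntabs, TabM24 t ∧ ConjTab n7_l (powL n7_l 2) t := by
  decide +kernel

def n7_ncert : List (List ℕ) := [[0, 1], [0, 1], [0, 1], [0, 1], [0, 1], [0, 1], [0, 1], [0, 1], [0, 1], [0, 1], [0, 1], [0, 1], [0, 1], [0, 1], [0, 1], [0, 1], [0, 1], [0, 1], [0, 1], [0, 1], [0, 1], [0, 1], [0, 1], [0, 1], [0, 1], [0], [], [], [], [], [], [1], [0, 1], [0, 1], [0, 1], [0, 1], [0, 1], [0, 1], [0, 1], [0, 1], [0, 1], [0], [], [], [], [], [], [], [], [], [], [], [0, 1], [0, 1], [0, 1], [0, 1], [0, 1], [0, 1], [0, 1], [0, 1], [0, 1], [0], [], [], [], [], [], [], [], [], [], [], [0, 1], [0, 1], [0, 1], [0, 1], [0, 1], [0, 1], [0, 1], [0, 1], [0], [], [], [], [], [], [], [], [], [], [], [0, 1], [0, 1], [0, 1], [0, 1], [0, 1], [0, 1], [0], [], [], [], [], [], [], [], [], [], [], [0, 1], [0, 1], [0]]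

noncomputable abbrev n7_nmodel := elemModel 1048573

set_option maxRecDepth 1000000 in
set_option maxHeartbeats 4000000 in
theorem n7_ncheck : distinctAux ((n7_nmodel.nodes n7_ntabs idList n7_ncert).map n7_nmodel.code) 0 = true ∧
    (n7_nmodel.nodes n7_ntabs idList n7_ncert).length = 126 := by
  decide +kernel

/-- generators of the centralizer -/
def n7_c1 : ℕ := 379952061530567689600278575445123159

def n7_c2 : ℕ := 649406258969758864751932095222301109

set_option maxRecDepth 1000000 in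
set_option maxHeartbeats 4000000 in
theorem n7_ctabs_check : (∀ t ∈ [n7_c1, n7_c2], TabM24 t ∧ ConjTab n7_l n7_l t) ∧
    ∃ a ∈ List.range 24, look n7_c1 (look n7_c2 a) ≠ look n7_c2 (look n7_c1 a) := by
  decide +kernel

def n7_ccert : List (List ℕ) := [[0, 1], [0, 1], [0], [0, 1], [0], [], [0, 1], [0], [], [0, 1], [0], [], [0, 1], [0], [], [0, 1], [0], [], [0, 1], [0], [], [0, 1], [0], [], [0, 1], [0], [], [0, 1], [0], [], [0, 1], [0], [], [0, 1], [0], [], [1], [0], [], [0]]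

noncomputable abbrev n7_cmodel := elemModel 1048573

set_option maxRecDepth 1000000 in
set_option maxHeartbeats 4000000 in
theorem n7_ccheck : distinctAux ((n7_cmodel.nodes [n7_c1, n7_c2] idList n7_ccert).map n7_cmodel.code) 0 = true ∧
    (n7_cmodel.nodes [n7_c1, n7_c2] idList n7_ccert).length = 42 := by
  decide +kernel

end Cfsg.Agent.Lib.Helper28
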