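import Cfsg.Agent.Lib.Helper28.ElemRepFacts
import Cfsg.Agent.Lib.Helper28.FamCheck

set_option autoImplicit false

/-!
Data for the centralizer of a fixed-point-free involution of `M24`: generators, enumeration
certificate, the sextet it fixes and an orbit certificate for the duad family of the involution.
-/

namespace Cfsg.Agent.Lib.Helper28

open Cfsg MulAction
open scoped Pointwise

/-- the twelve duads of the second involution representative -/
def c2b_D0 : List (List ℕ) := [[0, 23], [1, 2], [3, 6], [4, 22], [5, 21], [7, 14], [8, 20], [9, 18], [10, 12], [11, 15], [13, 16], [17, 19]]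

/-- the sextet whose tetrads are fixed by the second involution representative -/
def c2b_S0 : List (List ℕ) := [[3, 6, 7, 14], [1, 2, 13, 16], [9, 11, 15, 18], [8, 10, 12, 20], [5, 17, 19, 21], [0, 4, 22, 23]]

/-- generators of the centralizer -/
def c2b_tabs : List ℕ := [646957227705693053120036140802428459, 6010425824939901740871785679763703]

/-- commutation of a table with the second representative -/
def CommTab (t : ℕ) : Prop := ∀ a : Fin 24,
  look t ((el_rep2.getD 1 idList).getD a.val 0) = (el_rep2.getD 1 idList).getD (look t a.val) 0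

instance (t : ℕ) : Decidable (CommTab t) := by unfold CommTab; infer_instance

set_option maxRecDepth 1000000 in
set_option maxHeartbeats 4000000 in
theorem c2b_tabs_check : ∀ t ∈ c2b_tabs, TabM24 t ∧ CommTab t := by
  decide +kernel

set_option maxRecDepth 1000000 in
def c2b_cert : List (List ℕ) := [[0, 1], [0, 1], [0, 1], [0, 1], [0, 1], [0, 1], [0, 1], [0, 1], [0, 1], [0, 1], [0, 1], [0, 1], [0, 1], [0, 1], [0], [0, 1], [0, 1], [0, 1], [0, 1], [0, 1], [0, 1], [0, 1], [0], [0, 1], [0, 1], [0, 1], [0, 1], [0, 1], [0, 1], [0, 1], [0, 1], [0, 1], [0, 1], [0, 1], [0, 1], [0, 1], [0, 1], [0], [0, 1], [0, 1], [0, 1], [0, 1], [0, 1], [0, 1], [0, 1], [0, 1], [0, 1], [0, 1], [0, 1], [0, 1], [0, 1], [0, 1], [0], [0, 1], [0, 1], [0, 1], [0, 1], [0, 1], [0, 1], [0, 1], [0, 1], [0, 1], [0, 1], [0, 1], [0, 1], [0, 1], [0], [0, 1], [0, 1], [0, 1], [0, 1], [0, 1], [0, 1], [0, 1], [0, 1], [0, 1], [0, 1], [0, 1], [0, 1], [1], [0, 1], [0], [0, 1], [0,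 1], [0, 1], [0, 1], [0, 1], [0, 1], [1], [0, 1], [0, 1], [0, 1], [0, 1], [0, 1], [0, 1], [0], [0, 1], [0, 1], [0, 1], [0, 1], [0, 1], [0, 1], [0, 1], [0, 1], [0, 1], [0, 1], [0, 1], [0, 1], [0, 1], [0, 1], [0], [0, 1], [0, 1], [0, 1], [0, 1], [0, 1], [0, 1], [0, 1], [0, 1], [0, 1], [0, 1], [0, 1], [0], [0, 1], [0, 1], [0, 1], [0, 1], [0, 1], [0, 1], [0, 1], [0, 1], [0, 1], [0, 1], [0, 1], [0, 1], [1], [0], [0], [0, 1], [0, 1], [0, 1], [0, 1], [0, 1], [0, 1], [1], [0, 1], [0, 1], [0, 1], [0, 1], [0, 1], [0, 1], [0], [0, 1], [0, 1], [0, 1], [0, 1], [0, 1], [0, 1], [0, 1], [0, 1], [0, 1], [0, 1], [0, 1], [0, 1], [0, 1], [0], [0, 1], [0, 1], [0, 1], [0, 1], [0, 1], [0, 1], [0, 1], [0, 1], [0, 1], [0, 1], [0], [0, 1], [0, 1], [0, 1], [0, 1], [0, 1], [0, 1], [0, 1], [0, 1], [0, 1], [0, 1], [0, 1], [0, 1], [1], [0, 1], [0], [0, 1], [0, 1], [0, 1], [0, 1], [0, 1], [0, 1], [1], [0, 1], [0, 1], [0, 1], [0, 1], [0, 1], [0, 1], [0], [0, 1], [0,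 1], [0, 1], [0, 1], [0, 1], [0, 1], [0, 1], [0, 1], [0, 1], [0, 1], [0, 1], [0, 1], [0, 1], [0, 1], [0], [0, 1], [0, 1], [0, 1], [0, 1], [0, 1], [0, 1], [0, 1], [0], [1], [0, 1], [0, 1], [0, 1], [0, 1], [0, 1], [0, 1], [0], [0, 1], [0, 1], [0, 1], [0, 1], [1], [0], [0], [0, 1], [0, 1], [0, 1], [0, 1], [0, 1], [0, 1], [1], [0, 1], [0, 1], [0, 1], [0, 1], [0, 1], [0, 1], [0], [0, 1], [0, 1], [0, 1], [0, 1], [0, 1], [0, 1], [0, 1], [0, 1], [0, 1], [0, 1], [0, 1], [0, 1], [0], [0, 1], [0, 1], [0, 1], [0, 1], [0, 1], [0, 1], [0, 1], [0, 1], [0, 1], [0, 1], [0], [0, 1], [0, 1], [0, 1], [0, 1], [0, 1], [0, 1], [0, 1], [0, 1], [0, 1], [0, 1], [0, 1], [0, 1], [0], [0, 1], [0, 1], [0, 1], [0, 1], [0, 1], [0, 1], [1], [0, 1], [0, 1], [0, 1], [0, 1], [0, 1], [0, 1], [0], [0, 1], [0, 1], [0, 1], [0, 1], [0, 1], [0, 1], [0, 1], [0, 1], [0, 1], [0, 1], [0, 1], [0, 1], [0, 1], [0, 1], [0], [0, 1], [0, 1], [1], [0, 1], [1], [0], [0, 1], [0, 1], [0, 1],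 [0, 1], [0, 1], [0, 1], [0, 1], [0, 1], [0, 1], [1], [0, 1], [0, 1], [1], [0], [0], [1], [0, 1], [0, 1], [0, 1], [0, 1], [0, 1], [1], [0, 1], [0, 1], [0, 1], [0, 1], [0, 1], [0, 1], [0], [0, 1], [0, 1], [0, 1], [0, 1], [0, 1], [0, 1], [0, 1], [0, 1], [0, 1], [0, 1], [0, 1], [0, 1], [0, 1], [0], [0, 1], [0, 1], [0, 1], [0, 1], [0, 1], [1], [0, 1], [0, 1], [0, 1], [0, 1], [0], [1], [0, 1], [0, 1], [0, 1], [0, 1], [0, 1], [0, 1], [0, 1], [0], [0, 1], [1], [0, 1], [1], [1], [0], [0, 1], [0, 1], [0, 1], [0, 1], [0, 1], [0, 1], [1], [0, 1], [0, 1], [0, 1], [0, 1], [0, 1], [0, 1], [0], [0, 1], [0, 1], [0, 1], [0, 1], [0, 1], [0, 1], [0, 1], [0, 1], [0, 1], [0, 1], [0, 1], [0, 1], [0, 1], [0, 1], [0], [1], [0, 1], [0, 1], [0, 1], [0, 1], [0, 1], [0, 1], [0, 1], [0, 1], [1], [0, 1], [1], [0], [0], [0, 1], [0, 1], [0, 1], [0, 1], [0, 1], [0, 1], [1], [0, 1], [0, 1], [0, 1], [0, 1], [0, 1], [0], [0, 1], [0, 1], [0, 1], [0, 1], [0, 1], [0, 1], [0,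 1], [0, 1], [0, 1], [0, 1], [0, 1], [0], [0], [0, 1], [0, 1], [0, 1], [0, 1], [0, 1], [0, 1], [0, 1], [0, 1], [0, 1], [0, 1], [0], [0, 1], [0, 1], [0, 1], [0, 1], [0, 1], [0, 1], [0, 1], [0, 1], [0, 1], [0, 1], [0, 1], [0, 1], [0], [0, 1], [0, 1], [0, 1], [0, 1], [1], [0, 1], [0, 1], [0, 1], [0, 1], [0, 1], [0, 1], [0], [0, 1], [0, 1], [0, 1], [0, 1], [0, 1], [0, 1], [0, 1], [0, 1], [0, 1], [0, 1], [0, 1], [0, 1], [0, 1], [0], [0], [0, 1], [0, 1], [1], [0, 1], [], [0], [0, 1], [0, 1], [0, 1], [0, 1], [0, 1], [0, 1], [0, 1], [0, 1], [0, 1], [1], [0, 1], [0, 1], [1], [0], [0], [1], [0, 1], [0, 1], [0, 1], [0, 1], [0, 1], [1], [0, 1], [0, 1], [0, 1], [0, 1], [0, 1], [0, 1], [0], [0, 1], [0], [0, 1], [0, 1], [0, 1], [0, 1], [0, 1], [0, 1], [0], [0, 1], [0], [0, 1], [0, 1], [0, 1], [0, 1], [0, 1], [1], [0, 1], [0, 1], [0, 1], [0, 1], [0], [1], [0, 1], [0, 1], [0, 1], [0, 1], [1], [0, 1], [0, 1], [0], [0, 1], [1], [0, 1], [1], [1], [0], [0,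 1], [0, 1], [0, 1], [0, 1], [0, 1], [0, 1], [1], [0, 1], [0, 1], [0, 1], [0, 1], [0, 1], [0, 1], [0], [0], [0, 1], [1], [0, 1], [0, 1], [0, 1], [0, 1], [0, 1], [0, 1], [0, 1], [0], [0, 1], [0, 1], [0, 1], [0, 1], [0, 1], [0], [0, 1], [0, 1], [0, 1], [0, 1], [1], [0], [0], [0, 1], [0], [0, 1], [0], [0, 1], [0, 1], [1], [0, 1], [0, 1], [0, 1], [0], [0, 1], [0], [0, 1], [0, 1], [0, 1], [0, 1], [0, 1], [0, 1], [0, 1], [0, 1], [0, 1], [0, 1], [0, 1], [0], [0, 1], [0, 1], [0, 1], [0, 1], [0, 1], [0, 1], [0, 1], [0, 1], [0, 1], [0, 1], [0], [0, 1], [1], [0, 1], [0, 1], [0, 1], [0, 1], [1], [0, 1], [0, 1], [0, 1], [0, 1], [0, 1], [0], [0, 1], [0, 1], [0, 1], [0, 1], [0, 1], [0, 1], [], [0, 1], [0, 1], [0, 1], [0, 1], [0, 1], [0, 1], [0], [0, 1], [0, 1], [0, 1], [0, 1], [0, 1], [0, 1], [0, 1], [0, 1], [0, 1], [0, 1], [0, 1], [0, 1], [0, 1], [0, 1], [0], [0, 1], [1], [0, 1], [1], [0], [0, 1], [0, 1], [0, 1], [0, 1], [1], [0, 1], [0, 1], [0, 1],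 [1], [0, 1], [0, 1], [1], [0], [0], [1], [0, 1], [0, 1], [0, 1], [0, 1], [0, 1], [1], [0, 1], [0, 1], [0], [0], [0], [0, 1], [0], [1], [1], [0, 1], [1], [0, 1], [0, 1], [0, 1], [0, 1], [0, 1], [0, 1], [0], [0, 1], [0, 1], [0, 1], [0, 1], [0, 1], [1], [0, 1], [0, 1], [0, 1], [0, 1], [0], [1], [0, 1], [0, 1], [1], [0, 1], [0, 1], [0, 1], [0, 1], [0], [0, 1], [1], [0, 1], [1], [1], [0], [0, 1], [0, 1], [0, 1], [0, 1], [0, 1], [0, 1], [], [0, 1], [1], [0, 1], [0, 1], [0, 1], [0, 1], [0], [1], [0, 1], [0, 1], [0, 1], [0, 1], [0, 1], [0, 1], [0, 1], [0, 1], [1], [0, 1], [1], [0], [0], [0, 1], [0, 1], [0, 1], [0, 1], [0, 1], [0], [0, 1], [0], [0, 1], [0, 1], [0], [0, 1], [0, 1], [0, 1], [0, 1], [0, 1], [0, 1], [0, 1], [0, 1], [0, 1], [0, 1], [0, 1], [0], [0], [0, 1], [0, 1], [0, 1], [0, 1], [0, 1], [0, 1], [0, 1], [0, 1], [0], [0], [0, 1], [0, 1], [0, 1], [0], [0, 1], [0, 1], [0, 1], [0, 1], [0, 1], [0, 1], [0, 1], [0], [0, 1], [0, 1], [0,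 1], [0, 1], [1], [0, 1], [0, 1], [0, 1], [0, 1], [1], [0, 1], [0], [0, 1], [0, 1], [0, 1], [0, 1], [0, 1], [0, 1], [0, 1], [0, 1], [0, 1], [0, 1], [0, 1], [0, 1], [0], [0], [0, 1], [1], [1], [0, 1], [], [0], [0, 1], [0, 1], [0, 1], [0, 1], [0, 1], [0, 1], [0, 1], [0, 1], [0, 1], [1], [0, 1], [0, 1], [1], [0], [0], [1], [0, 1], [0, 1], [0, 1], [0, 1], [0, 1], [1], [0, 1], [0, 1], [0, 1], [0, 1], [1], [0, 1], [0], [0, 1], [0], [0, 1], [0, 1], [0, 1], [0, 1], [0, 1], [0, 1], [0, 1], [0, 1], [0, 1], [0, 1], [1], [0, 1], [0, 1], [0, 1], [0, 1], [0], [1], [0, 1], [0, 1], [0, 1], [0, 1], [1], [1], [0, 1], [0], [0, 1], [1], [0, 1], [1], [1], [0], [0, 1], [0, 1], [0, 1], [0, 1], [0, 1], [0, 1], [1], [0, 1], [0, 1], [0, 1], [0, 1], [0, 1], [1], [], [0], [0, 1], [1], [0, 1], [0, 1], [0, 1], [0, 1], [0, 1], [0, 1], [0], [0, 1], [0, 1], [0, 1], [0, 1], [0], [0, 1], [0, 1], [0], [0, 1], [1], [0], [0], [0, 1], [0], [0, 1], [0], [0, 1], [0, 1], [1],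 [0, 1], [0, 1], [0, 1], [0], [0, 1], [0], [0, 1], [0, 1], [0, 1], [0, 1], [0, 1], [0, 1], [0, 1], [0, 1], [0, 1], [0, 1], [0, 1], [0], [0, 1], [0], [0, 1], [0, 1], [0, 1], [0, 1], [0, 1], [0, 1], [0, 1], [0, 1], [0], [0, 1], [1], [0, 1], [0, 1], [0, 1], [0, 1], [1], [0, 1], [0, 1], [0, 1], [0, 1], [0, 1], [], [0, 1], [0, 1], [0, 1], [0, 1], [0, 1], [0, 1], [0], [0, 1], [0, 1], [0, 1], [0, 1], [0], [0, 1], [0, 1], [0, 1], [0, 1], [0, 1], [1], [0, 1], [0, 1], [0], [0, 1], [], [0, 1], [1], [0], [1], [0, 1], [0, 1], [0, 1], [1], [0, 1], [0, 1], [0, 1], [1], [0, 1], [0, 1], [1], [0], [0], [1], [0], [0], [0, 1], [0, 1], [], [0, 1], [0, 1], [0], [0], [], [0, 1], [0], [1], [1], [0, 1], [1], [0, 1], [0, 1], [0, 1], [0, 1], [0, 1], [0, 1], [0], [0, 1], [0, 1], [0, 1], [0, 1], [0, 1], [1], [0, 1], [0, 1], [0, 1], [0, 1], [0], [1], [0, 1], [0, 1], [1], [0, 1], [0, 1], [1], [0, 1], [0, 1], [1], [1], [1], [0], [0, 1], [0, 1], [0, 1], [0, 1], [0, 1],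 [0, 1], [], [0, 1], [1], [0, 1], [0, 1], [0, 1], [0, 1], [0, 1], [1], [0, 1], [1], [0], [0], [0, 1], [0, 1], [0], [0, 1], [1], [0, 1], [0, 1], [], [0, 1], [0, 1], [0], [0, 1], [0, 1], [0, 1], [0, 1], [0, 1], [0, 1], [0, 1], [0, 1], [0, 1], [0], [0], [0, 1], [0, 1], [0, 1], [0, 1], [0, 1], [0, 1], [0, 1], [0, 1], [0, 1], [0, 1], [0], [0, 1], [0], [0, 1], [], [0, 1], [0, 1], [0, 1], [0, 1], [0, 1], [0], [0, 1], [0, 1], [0, 1], [0, 1], [0, 1], [1], [], [0, 1], [1], [0], [1], [0, 1], [0, 1], [0, 1], [0, 1], [0, 1], [0, 1], [0], [0, 1], [1], [0, 1], [0, 1], [1], [0], [0], [0, 1], [0], [1], [0, 1], [], [0], [0, 1], [0, 1], [0, 1], [0, 1], [0, 1], [0, 1], [0, 1], [0, 1], [0, 1], [0, 1], [0, 1], [1], [0], [0], [1], [0, 1], [0, 1], [0, 1], [1], [1], [0, 1], [0], [0], [0, 1], [0, 1], [0, 1], [0], [0, 1], [0], [0, 1], [0, 1], [0, 1], [0, 1], [0, 1], [0, 1], [0], [0, 1], [0], [0, 1], [0, 1], [0], [0], [1], [0, 1], [1], [0, 1], [0, 1], [0], [1],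 [0, 1], [0], [0, 1], [1], [1], [0, 1], [1], [0], [0, 1], [1], [0, 1], [1], [], [0], [0, 1], [0, 1], [0, 1], [0, 1], [0, 1], [0, 1], [1], [0, 1], [1], [0, 1], [0, 1], [0, 1], [0, 1], [0], [0], [0], [], [0], [0, 1], [0, 1], [0, 1], [0, 1], [0], [], [0, 1], [1], [0, 1], [1], [0], [0, 1], [0, 1], [0, 1], [0, 1], [1], [0], [0], [0], [1], [0], [0, 1], [0, 1], [0, 1], [1], [0], [1], [], [0, 1], [0, 1], [0], [1], [0, 1], [0, 1], [1], [1], [0, 1], [0, 1], [0, 1], [0], [1], [0, 1], [0, 1], [0, 1], [0, 1], [0, 1], [1], [0, 1], [0, 1], [0, 1], [0, 1], [1], [0, 1], [0], [1], [], [1], [0, 1], [1], [0, 1], [1], [1], [0, 1], [1], [0, 1], [0], [1], [0, 1], [0, 1], [0, 1], [0, 1], [0, 1], [0, 1], [0, 1], [0], [0, 1], [1], [1], [1], [1], [0], [0], [], [0, 1], [1], [0], [1], [0, 1], [0], [0, 1], [1], [0, 1], [0, 1], [0, 1], [1], [0, 1], [0, 1], [1], [0], [1], [0, 1], [0, 1], [0, 1], [0, 1], [0, 1], [1], [0, 1], [1], [0], [0], [0], [0, 1], [0], [1], [1],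 [0, 1], [1], [0, 1], [0, 1], [1], [1], [0, 1], [0, 1], [0], [0, 1], [0], [0, 1], [0, 1], [1], [0, 1], [0, 1], [1], [0], [1], [0, 1], [], [0, 1], [0], [0, 1], [0, 1], [0, 1], [1], [1], [0, 1], [1], [0], [0], [1], [0, 1], [0, 1], [0, 1], [0, 1], [0], [0, 1], [0], [0, 1], [0, 1], [0], [0, 1], [0, 1], [0, 1], [0, 1], [1], [0, 1], [0, 1], [0, 1], [0, 1], [0, 1], [0, 1], [0], [0], [0], [0, 1], [0, 1], [0, 1], [0, 1], [0, 1], [], [0, 1], [0, 1], [0, 1], [0, 1], [0, 1], [0, 1], [0], [0, 1], [0, 1], [0], [], [0, 1], [0, 1], [0], [1], [0, 1], [0], [0, 1], [0, 1], [1], [0, 1], [0], [0, 1], [1], [1], [0, 1], [0, 1], [0, 1], [0, 1], [0, 1], [1], [0], [0, 1], [0, 1], [0], [0], [0, 1], [1], [0, 1], [0, 1], [1], [0, 1], [], [0, 1], [0, 1], [0, 1], [1], [1], [0, 1], [1], [0], [0], [1], [0, 1], [1], [0, 1], [0, 1], [1], [0, 1], [0], [0, 1], [0, 1], [1], [0, 1], [0], [0, 1], [0], [0, 1], [0, 1], [0, 1], [0, 1], [0, 1], [0, 1], [1], [0, 1], [0, 1], [0,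 1], [1], [0, 1], [0, 1], [0, 1], [0, 1], [0], [1], [0, 1], [0, 1], [0, 1], [], [1], [0, 1], [0], [0, 1], [1], [0, 1], [], [1], [0], [0, 1], [0, 1], [0, 1], [0, 1], [1], [0, 1], [0, 1], [0, 1], [0, 1], [0], [1], [], [0], [0, 1], [1], [0, 1], [0, 1], [0], [0, 1], [0, 1], [0], [0, 1], [0, 1], [0], [0, 1], [0], [0, 1], [0], [0], [0, 1], [1], [0], [], [0, 1], [0], [0, 1], [0], [0, 1], [], [1], [0, 1], [0, 1], [0, 1], [0], [0, 1], [0], [0, 1], [0, 1], [0, 1], [0, 1], [0, 1], [0, 1], [0, 1], [0], [0, 1], [0, 1], [0, 1], [0], [1], [0], [0, 1], [0], [0, 1], [0, 1], [0, 1], [0, 1], [0, 1], [0, 1], [0], [0, 1], [1], [0, 1], [0, 1], [0, 1], [1], [1], [0, 1], [0, 1], [0, 1], [0, 1], [], [0, 1], [0, 1], [0, 1], [0, 1], [0, 1], [0, 1], [0], [0, 1], [0, 1], [0, 1], [0, 1], [1], [0, 1], [0, 1], [0], [0, 1], [], [0, 1], [1], [0], [1], [0, 1], [0, 1], [0, 1], [1], [0, 1], [0, 1], [0, 1], [1], [], [0, 1], [1], [0], [0], [1], [0], [0], [0, 1], [], [0, 1],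 [0, 1], [], [0], [], [0, 1], [], [1], [1], [0, 1], [1], [0, 1], [0, 1], [0, 1], [0, 1], [0, 1], [0], [0], [0, 1], [0, 1], [0, 1], [0, 1], [0, 1], [1], [0], [0, 1], [0, 1], [0, 1], [0], [1], [0, 1], [0, 1], [1], [0, 1], [0, 1], [0, 1], [1], [1], [1], [0], [0, 1], [0, 1], [0, 1], [0, 1], [], [0, 1], [1], [0, 1], [0, 1], [0, 1], [0, 1], [0, 1], [], [0, 1], [1], [0], [0], [0], [0, 1], [1], [0, 1], [0, 1], [], [0, 1], [0, 1], [0], [0, 1], [0, 1], [0, 1], [0, 1], [0, 1], [0, 1], [0, 1], [0, 1], [0], [0], [0, 1], [0, 1], [0, 1], [0, 1], [0, 1], [0, 1], [0, 1], [0], [0, 1], [0, 1], [0], [0, 1], [0], [0], [], [0], [0, 1], [0, 1], [0, 1], [0, 1], [0], [1], [0, 1], [0, 1], [1], [0, 1], [1], [], [0], [1], [0], [1], [0, 1], [0, 1], [0, 1], [0, 1], [0, 1], [0, 1], [0], [0], [1], [0, 1], [], [0], [0], [0, 1], [0], [1], [0, 1], [], [0], [0, 1], [0, 1], [0, 1], [1], [0, 1], [0, 1], [0, 1], [0, 1], [0, 1], [0, 1], [0, 1], [1], [0], [0], [1], [0, 1], [0,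 1], [0], [1], [0, 1], [0, 1], [0, 1], [0, 1], [0, 1], [], [0, 1], [0, 1], [0], [0], [1], [0, 1], [1], [0, 1], [0, 1], [0], [1], [0, 1], [0], [0, 1], [1], [1], [0, 1], [1], [0], [0], [1], [0, 1], [1], [0, 1], [0, 1], [0, 1], [0, 1], [], [1], [0, 1], [], [0, 1], [0, 1], [1], [0, 1], [0], [], [], [0], [0, 1], [0], [0, 1], [0, 1], [0], [0, 1], [1], [0, 1], [1], [0], [0, 1], [1], [0, 1], [1], [0], [0], [0], [1], [0], [0, 1], [0, 1], [0, 1], [1], [0], [1], [], [0, 1], [0, 1], [0], [1], [0, 1], [0, 1], [1], [0, 1], [1], [1], [0, 1], [0, 1], [0, 1], [1], [0, 1], [0, 1], [0, 1], [1], [0, 1], [0], [1], [], [1], [0, 1], [1], [0, 1], [1], [1], [0, 1], [1], [0, 1], [0], [1], [0, 1], [0, 1], [0, 1], [0, 1], [1], [0, 1], [0, 1], [0], [0, 1], [1], [1], [1], [1], [0], [0], [], [0], [], [0], [1], [0, 1], [0], [0, 1], [1], [0], [0, 1], [0, 1], [1], [0, 1], [1], [1], [0], [1], [1], [0, 1], [0, 1], [1], [1], [0, 1], [0], [0], [0], [], [], [0, 1], [1], [0,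 1], [0, 1], [1], [], [0], [0, 1], [0], [0, 1], [0], [0, 1], [0, 1], [0], [1], [1], [0], [0], [0, 1], [0, 1], [0], [0], [0, 1], [0], [0], [0], [0], [0, 1], [0, 1], [0, 1], [0, 1], [1], [0, 1], [0, 1], [0], [0], [0, 1], [0, 1], [0, 1], [0, 1], [0, 1], [0, 1], [1], [0], [0, 1], [], [0], [0, 1], [0, 1], [0, 1], [0, 1], [0, 1], [0, 1], [0, 1], [], [0, 1], [0, 1], [0, 1], [0, 1], [1], [0], [0], [0, 1], [0, 1], [1], [0, 1], [0, 1], [0, 1], [0, 1], [1], [0, 1], [0, 1], [0, 1], [0, 1], [0, 1], [0], [0], [0, 1], [1], [], [0], [], [], [0, 1], [1], [1], [0], [1], [0, 1], [0], [0], [1], [1], [0], [0, 1], [], [0, 1], [0, 1], [0, 1], [0], [1], [0, 1], [0], [0, 1], [0], [0], [0, 1], [], [0, 1], [1], [0, 1], [0, 1], [0, 1], [0, 1], [0, 1], [0, 1], [0], [1], [0, 1], [1], [1], [0], [0, 1], [1], [0, 1], [1], [], [0], [], [0], [0, 1], [0], [0, 1], [0, 1], [1], [0, 1], [0, 1], [0], [1], [], [], [0, 1], [0, 1], [0], [0, 1], [0, 1], [0, 1], [0], [0, 1], [0,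 1], [0, 1], [0, 1], [0], [1], [0], [0], [0, 1], [1], [0], [], [0], [0], [0, 1], [0], [0, 1], [1], [1], [0, 1], [0, 1], [0], [0, 1], [0], [], [1], [0, 1], [0, 1], [0], [0, 1], [0, 1], [0, 1], [0], [0, 1], [0, 1], [0], [1], [0, 1], [0, 1], [0], [0, 1], [0, 1], [0, 1], [1], [0], [0, 1], [0], [0, 1], [], [0, 1], [0], [0], [0], [0, 1], [], [0, 1], [0, 1], [0, 1], [0], [0, 1], [0, 1], [0], [0], [1], [0], [0, 1], [0], [1], [0, 1], [0, 1], [0, 1], [0, 1], [1], [0, 1], [0, 1], [], [0], [0, 1], [1], [1], [], [0, 1], [1], [0, 1], [1], [0, 1], [0, 1], [0], [0], [], [], [0, 1], [0, 1], [0], [1], [0], [], [], [0, 1], [0], [1], [0, 1], [], [0, 1], [1], [0, 1], [0, 1], [1], [0], [0], [1], [0, 1], [0, 1], [0, 1], [0, 1], [1], [0, 1], [1], [0, 1], [0], [], [0, 1], [0, 1], [], [0, 1], [0, 1], [1], [0, 1], [0, 1], [1], [0], [0], [0, 1], [0, 1], [1], [], [], [0, 1], [1], [0, 1], [], [], [0, 1], [], [0, 1], [1], [0], [1], [], [0], [0, 1], [], [0, 1], [0,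 1], [0], [1], [0, 1], [0, 1], [0], [], [1], [1], [0, 1], [1], [0, 1], [0], [], [0, 1], [0, 1], [0, 1], [1], [1], [0, 1], [0, 1], [0, 1], [0, 1], [], [0, 1], [1], [0, 1], [0], [1], [0, 1], [0], [0, 1], [1], [0, 1], [0, 1], [0], [1], [0, 1], [0, 1], [], [0], [], [0, 1], [0], [], [0], [0], [0, 1], [0, 1], [0, 1], [0, 1], [0, 1], [0], [0, 1], [1], [], [1], [0, 1], [0], [0], [], [0, 1], [0], [], [1], [1], [0, 1], [0], [1], [1], [0, 1], [1], [1], [0, 1], [0], [1], [1], [0, 1], [1], [], [0], [1], [0, 1], [0, 1], [0, 1], [0, 1], [1], [1], [1], [1], [0], [0], [0], [], [], [1], [0], [0, 1], [0], [1], [0, 1], [1], [0, 1], [0, 1], [0, 1], [0, 1], [0], [0], [0], [1], [], [0, 1], [0, 1], [0, 1], [1], [0], [1], [], [0, 1], [0, 1], [0], [0, 1], [0, 1], [1], [1], [0, 1], [0, 1], [0], [0], [1], [0, 1], [0, 1], [1], [0, 1], [1], [1], [1], [0], [0, 1], [1], [0], [0], [1], [], [1], [0, 1], [1], [0, 1], [1], [1], [0, 1], [1], [0], [1], [0, 1], [0, 1], [0,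 1], [0, 1], [0, 1], [0, 1], [0], [0], [1], [], [1], [], [0, 1], [1], [], [], [0, 1], [0, 1], [1], [0, 1], [1], [1], [0], [0], [], [1], [0, 1], [0, 1], [], [1], [0], [0, 1], [0], [1], [0, 1], [0, 1], [0], [1], [0, 1], [1], [1], [0, 1], [1], [0], [0], [], [0, 1], [0, 1], [0, 1], [0, 1], [0, 1], [], [1], [0, 1], [0], [0], [0, 1], [1], [0], [0], [0], [0], [], [0, 1], [0], [1], [0, 1], [], [0, 1], [0, 1], [1], [0, 1], [0], [0, 1], [1], [1], [0, 1], [0, 1], [0], [1], [], [0], [0], [0, 1], [0, 1], [0, 1], [], [0, 1], [], [0, 1], [1], [1], [0, 1], [1], [0], [0], [0, 1], [0], [1], [0, 1], [0], [0, 1], [1], [0, 1], [], [0, 1], [0], [0, 1], [0, 1], [0, 1], [0, 1], [1], [0, 1], [0, 1], [1], [0], [0, 1], [0, 1], [], [1], [0, 1], [0, 1], [0, 1], [], [1], [0, 1], [0], [1], [], [1], [0], [1], [0, 1], [0, 1], [0], [], [0], [0, 1], [0, 1], [], [1], [0], [1], [1], [0, 1], [0, 1], [0], [0, 1], [1], [0], [0], [0, 1], [], [0], [1], [0], [], [0, 1], [0], [0,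 1], [], [1], [1], [0], [0], [0, 1], [0, 1], [0, 1], [0, 1], [0, 1], [0, 1], [0, 1], [0, 1], [0], [1], [0], [0, 1], [0], [0, 1], [0, 1], [1], [0, 1], [1], [0], [0, 1], [1], [0], [0, 1], [1], [], [1], [0, 1], [0], [], [0, 1], [], [0, 1], [0, 1], [0], [0, 1], [0, 1], [0, 1], [0], [0, 1], [0, 1], [0, 1], [1], [0, 1], [0, 1], [0], [0], [], [1], [1], [0], [1], [0, 1], [0, 1], [0, 1], [1], [0, 1], [0, 1], [0, 1], [1], [], [0], [], [1], [0], [], [], [0, 1], [0, 1], [], [0], [], [0, 1], [], [], [0, 1], [1], [0, 1], [0], [0, 1], [0, 1], [0], [0, 1], [0, 1], [0, 1], [1], [0], [0, 1], [0], [0, 1], [0], [1], [0], [0, 1], [0, 1], [0, 1], [0, 1], [1], [1], [1], [0], [0, 1], [0, 1], [0, 1], [], [1], [], [0], [0, 1], [1], [], [0, 1], [1], [0], [], [0], [1], [0, 1], [0, 1], [], [0, 1], [0], [0, 1], [0, 1], [0, 1], [0, 1], [0, 1], [0, 1], [1], [0], [0], [0, 1], [0, 1], [1], [1], [0, 1], [0], [1], [0, 1], [0], [0, 1], [0], [0], [], [0], [0], [], [0, 1],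 [0], [], [1], [0], [0, 1], [], [0, 1], [1], [], [0], [1], [1], [0, 1], [0, 1], [0, 1], [0, 1], [0, 1], [0, 1], [], [1], [0, 1], [], [0], [0], [0], [1], [0, 1], [], [0], [0, 1], [0, 1], [0, 1], [1], [0], [0, 1], [0, 1], [0, 1], [0, 1], [0, 1], [0], [0], [1], [0, 1], [0, 1], [], [1], [0, 1], [0, 1], [0, 1], [0, 1], [], [0, 1], [1], [0], [0], [1], [0, 1], [1], [0, 1], [0, 1], [0], [1], [0, 1], [], [0, 1], [1], [1], [0, 1], [], [0, 1], [], [0, 1], [0, 1], [1], [0, 1], [0], [], [], [], [0, 1], [0], [0, 1], [0, 1], [0], [0, 1], [], [0, 1], [1], [0], [0, 1], [1], [0], [1], [0], [0], [0], [1], [0], [0, 1], [0], [0, 1], [], [0], [0, 1], [1], [], [1], [0], [1], [1], [0, 1], [0], [0, 1], [0, 1], [], [0, 1], [0, 1], [1], [0, 1], [0], [], [1], [0, 1], [1], [0, 1], [1], [], [0, 1], [1], [0, 1], [0], [], [1], [0, 1], [0, 1], [0, 1], [0], [1], [0], [0, 1], [1], [1], [1], [], [0], [0], [], [0], [], [1], [0], [0], [0, 1], [], [0], [0, 1], [0, 1], [1],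 [0, 1], [1], [1], [0], [0], [0, 1], [], [0, 1], [0], [0], [0], [], [], [0, 1], [1], [0, 1], [0, 1], [1], [0, 1], [0], [1], [0, 1], [0], [1], [1], [0], [], [0, 1], [1], [0], [0], [0, 1], [0], [0], [0], [0, 1], [0, 1], [0, 1], [0, 1], [1], [0], [0, 1], [0, 1], [0, 1], [0, 1], [1], [1], [], [0, 1], [], [0], [0, 1], [0, 1], [0, 1], [1], [1], [], [0, 1], [0, 1], [0, 1], [0, 1], [1], [], [0], [0], [0, 1], [1], [], [0, 1], [0, 1], [0, 1], [], [1], [0, 1], [0], [0, 1], [1], [0], [0], [1], [], [], [0], [], [], [0, 1], [1], [0], [1], [1], [], [0], [1], [1], [0], [], [0, 1], [0, 1], [0], [], [1], [0], [0, 1], [0], [], [], [0, 1], [1], [1], [0, 1], [0, 1], [0, 1], [], [0], [1], [1], [1], [], [0, 1], [1], [0, 1], [1], [], [0], [], [0], [0, 1], [0], [0], [0, 1], [1], [0, 1], [0], [], [0], [0], [1], [1], [1], [], [0, 1], [], [0, 1], [0, 1], [], [1], [], [0], [0, 1], [1], [], [0], [0], [0, 1], [0], [0, 1], [1], [1], [0, 1], [1], [0], [0, 1], [0], [],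 [], [0], [0, 1], [], [0, 1], [0, 1], [1], [], [0, 1], [0, 1], [1], [], [0, 1], [0, 1], [1], [], [0, 1], [0, 1], [0], [0], [], [0, 1], [0, 1], [0, 1], [0], [1], [0], [1], [], [0], [0, 1], [1], [1], [], [0, 1], [1], [0, 1], [1], [0, 1], [0, 1], [0], [], [], [], [0, 1], [0, 1], [], [1], [0], [], [0], [0], [1], [], [0], [1], [0], [0, 1], [1], [1], [0], [0, 1], [1], [0, 1], [0, 1], [], [], [0], [], [0, 1], [0, 1], [1], [1], [0], [0], [1], [1], [], [], [0, 1], [1], [0, 1], [], [], [0, 1], [], [0], [0], [], [0], [], [0, 1], [], [0], [1], [0], [0], [0], [], [1], [1], [0, 1], [1], [0, 1], [0], [], [0, 1], [0, 1], [0], [1], [1], [0, 1], [0, 1], [0, 1], [0, 1], [], [0, 1], [1], [], [1], [0], [0], [0, 1], [0, 1], [], [0], [], [], [0], [0], [0, 1], [], [0, 1], [0, 1], [0, 1], [0], [], [], [0, 1], [0], [], [], [0, 1], [0], [], [1], [], [0, 1], [0], [1], [1], [0, 1], [], [1], [0, 1], [0], [1], [1], [0, 1], [1], [], [0], [], [0], [], [0, 1], [1], [],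 [1], [1], [0], [0], [], [], [], [], [0], [0, 1], [0], [1], [1], [0, 1], [0, 1], [0, 1], [0], [], [0], [1], [0, 1], [0, 1], [1], [1], [0], [1], [], [1], [0], [0, 1], [0], [], [0, 1], [0, 1], [0], [0], [], [0, 1], [1], [], [0], [0, 1], [1], [0, 1], [1], [0, 1], [1], [1], [0, 1], [1], [0], [0, 1], [0, 1], [0], [1], [0, 1], [], [0], [1], [], [], [], [0], [], [1], [], [1], [0, 1], [0], [1], [0, 1], [1], [], [], [1], [1], [], [0, 1], [1], [0], [0], [], [0], [0], [0], [], [0, 1], [0], [0, 1], [1], [], [0], [0, 1], [0], [1], [0, 1], [0], [1], [0], [0], [0, 1], [1], [0, 1], [0, 1], [1], [0, 1], [0, 1], [0, 1], [0, 1], [], [1], [0, 1], [1], [1], [0], [1], [0, 1], [], [0, 1], [0, 1], [1], [0, 1], [0], [0, 1], [0], [0, 1], [1], [0, 1], [], [0, 1], [1], [0], [0, 1], [], [1], [0], [0, 1], [], [], [0], [1], [0], [0], [0, 1], [], [0, 1], [], [0, 1], [0], [1], [0, 1], [1], [0], [0], [1], [], [0], [0, 1], [], [0, 1], [0], [0], [0, 1], [0, 1], [0], [0,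 1], [], [0, 1], [0], [1], [0], [0], [1], [0], [0, 1], [0, 1], [0], [0, 1], [0, 1], [1], [0], [0, 1], [0], [0, 1], [0, 1], [], [0], [0, 1], [0, 1], [1], [0, 1], [1], [], [0, 1], [0, 1], [], [], [0], [0, 1], [0, 1], [0], [1], [0, 1], [0, 1], [0, 1], [], [0, 1], [0, 1], [0], [], [0, 1], [], [0, 1], [0, 1], [1], [], [], [], [0, 1], [0, 1], [], [0], [], [0, 1], [], [1], [0], [0, 1], [0, 1], [0], [], [0], [1], [0], [1], [0, 1], [0, 1], [0, 1], [0, 1], [], [1], [1], [1], [1], [1], [], [0, 1], [0, 1], [0, 1], [], [0, 1], [1], [0, 1], [1], [], [], [1], [1], [], [0], [0], [0, 1], [1], [0, 1], [], [0, 1], [], [0, 1], [0, 1], [0, 1], [0, 1], [0, 1], [1], [0], [], [0, 1], [0, 1], [0, 1], [0, 1], [0, 1], [1], [0], [0], [1], [], [0], [], [1], [0], [], [1], [0, 1], [1], [0, 1], [1], [], [0], [1], [], [1], [0], [0, 1], [], [0, 1], [1], [], [1], [], [1], [1], [], [1], [1], [], [0], [0, 1], [0, 1], [0, 1], [0, 1], [0], [0], [1], [0], [0], [], [0], [0,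 1], [0], [0], [0], [], [1], [0], [1], [0, 1], [1], [0], [1], [0], [0, 1], [], [1], [0, 1], [1], [1], [1], [1], [0, 1], [], [], [1], [0, 1], [], [0, 1], [0], [1], [0], [0], [], [0, 1], [0], [0, 1], [1], [], [0, 1], [], [1], [0], [1], [], [0, 1], [0, 1], [1], [0], [1], [], [0, 1], [1], [1], [0], [1], [1], [0, 1], [0, 1], [0], [0], [0, 1], [1], [0], [], [], [0, 1], [1], [1], [], [1], [1], [0], [1], [0, 1], [0, 1], [1], [0, 1], [0], [0, 1], [], [1], [], [], [0], [0], [], [0], [], [0], [1], [1], [0], [1], [], [0, 1], [1], [1], [1], [], [0], [0, 1], [1], [], [0, 1], [0], [], [], [], [0, 1], [], [0], [1], [], [0], [0], [1], [], [0, 1], [], [0], [0], [0, 1], [], [0, 1], [0, 1], [], [0, 1], [0], [1], [], [0, 1], [0, 1], [0, 1], [0, 1], [0, 1], [0, 1], [1], [0, 1], [], [], [], [0, 1], [0, 1], [0, 1], [], [0, 1], [1], [1], [], [], [0], [1], [], [0, 1], [1], [1], [0, 1], [0], [1], [0], [0, 1], [1], [0, 1], [0, 1], [0], [0], [], [1], [1], [], [0],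 [1], [1], [0, 1], [], [], [0], [1], [], [1], [1], [0, 1], [0], [1], [], [], [0], [], [0, 1], [], [0], [0, 1], [0, 1], [0], [1], [0], [0], [0, 1], [1], [0], [], [1], [1], [0, 1], [], [], [], [0, 1], [0, 1], [0], [0, 1], [], [0, 1], [0], [], [], [], [], [], [1], [], [0], [0], [0], [], [], [1], [1], [1], [], [], [0, 1], [0], [], [1], [0, 1], [1], [1], [0, 1], [], [0], [0], [1], [0], [1], [0], [], [1], [], [0, 1], [1], [], [1], [], [1], [0], [], [0], [], [0, 1], [0], [], [], [0], [1], [], [0, 1], [], [1], [0, 1], [0, 1], [], [1], [1], [0], [1], [0, 1], [0], [], [1], [0, 1], [], [1], [], [0, 1], [0, 1], [0, 1], [], [0], [], [1], [0], [1], [0, 1], [], [1], [1], [0, 1], [0], [1], [], [0, 1], [], [], [0, 1], [], [0], [0], [0, 1], [1], [0, 1], [1], [], [1], [0], [], [], [0], [0], [], [1], [], [0, 1], [], [1], [1], [1], [0, 1], [1], [1], [1], [], [0], [1], [0, 1], [0, 1], [1], [1], [1], [], [], [1], [0], [], [], [], [0, 1], [0, 1], [0], [], [1],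 [0], [], [1], [0], [0], [0], [0], [], [1], [], [0], [], [0, 1], [0, 1], [1], [], [0], [], [1], [], [], [0], [0], [], [], [], [0], [1], [0], [1], [1], [0, 1], [0], [], [], [], [0], [1], [0], [0, 1], [], [0, 1], [], [0, 1], [1], [0, 1], [1], [], [0, 1], [1], [0], [0, 1], [1], [0, 1], [0, 1], [1], [0, 1], [0, 1], [1], [0], [1], [], [1], [], [1], [0, 1], [0, 1], [], [], [1], [1], [0], [1], [], [], [0], [1], [0, 1], [0, 1], [], [1], [0], [1], [0, 1], [], [0], [], [0], [], [], [], [0], [], [0], [0, 1], [0, 1], [0, 1], [], [0, 1], [], [0], [0, 1], [0, 1], [0], [1], [0, 1], [1], [0], [], [0, 1], [1], [1], [0, 1], [], [], [0], [0, 1], [1], [0], [0], [0, 1], [0, 1], [0, 1], [1], [0, 1], [0], [], [], [1], [1], [1], [1], [0, 1], [0, 1], [1], [], [0], [], [1], [0], [], [], [0], [0, 1], [], [], [0, 1], [1], [], [0, 1], [0], [0], [0, 1], [1], [0], [], [0, 1], [0], [0, 1], [0], [1], [1], [1], [0], [], [0], [0, 1], [], [1], [0], [0, 1], [1], [0, 1],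 [0, 1], [0, 1], [1], [0, 1], [1], [0], [], [0, 1], [1], [1], [0], [1], [], [], [0], [], [0, 1], [0], [], [], [], [0, 1], [], [0, 1], [1], [1], [1], [1], [0, 1], [0, 1], [], [1], [0, 1], [], [0], [0], [0], [], [0, 1], [0], [0, 1], [0, 1], [0, 1], [1], [1], [0, 1], [0, 1], [0], [1], [0, 1], [], [0, 1], [], [0, 1], [0, 1], [], [0], [1], [0, 1], [], [0], [0], [1], [0, 1], [], [0, 1], [1], [1], [0, 1], [], [0, 1], [], [0, 1], [0, 1], [], [], [], [], [0, 1], [], [], [0, 1], [], [0, 1], [1], [], [], [], [0], [], [0], [0], [0], [1], [0], [0], [0], [0, 1], [], [0], [], [1], [1], [0, 1], [], [0, 1], [1], [1], [0, 1], [0], [0, 1], [], [1], [1], [], [1], [0, 1], [0], [], [0], [0, 1], [1], [], [], [], [0], [], [0], [], [1], [0], [], [], [], [0, 1], [1], [1], [1], [], [0], [1], [], [0, 1], [0], [0], [], [], [], [0], [1], [0, 1], [0, 1], [1], [0, 1], [], [1], [0], [0, 1], [0], [], [0, 1], [0, 1], [0, 1], [1], [0, 1], [0, 1], [0], [], [1], [], [0],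 [0, 1], [0, 1], [0], [1], [1], [], [0, 1], [0, 1], [1], [], [0], [], [0, 1], [1], [0, 1], [0, 1], [0, 1], [], [1], [0], [0], [], [], [], [], [1], [0], [1], [1], [], [0], [1], [1], [0], [], [0, 1], [1], [0], [1], [], [0, 1], [1], [0], [0, 1], [], [0], [1], [1], [], [0], [1], [1], [1], [], [0], [], [0], [0], [0], [0], [0], [], [], [0], [0], [1], [], [0, 1], [], [0, 1], [0, 1], [], [1], [], [0], [0, 1], [1], [], [0], [0, 1], [], [1], [1], [1], [0, 1], [], [0], [0, 1], [0], [0, 1], [], [0, 1], [0, 1], [1], [], [0, 1], [1], [0, 1], [], [], [0, 1], [], [0], [0], [], [1], [0, 1], [0], [], [], [1], [], [0], [1], [1], [1], [], [0], [1], [0], [], [0, 1], [0], [], [], [], [0, 1], [0], [1], [0, 1], [0], [], [], [0], [], [1], [0, 1], [1], [0], [0], [1], [], [], [], [0, 1], [], [0, 1], [], [0, 1], [], [0], [], [], [0], [], [0, 1], [], [], [0], [0], [0], [], [1], [1], [1], [0, 1], [], [0, 1], [0], [1], [0, 1], [0, 1], [0, 1], [], [], [1], [0], [0,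 1], [0], [], [], [0], [0, 1], [], [0, 1], [0, 1], [], [], [0, 1], [0], [], [0, 1], [], [], [1], [], [0], [1], [1], [0, 1], [], [], [0, 1], [1], [0], [], [], [0], [], [], [0, 1], [1], [1], [0], [0], [], [], [], [0], [0, 1], [0], [1], [0], [1], [0], [], [], [0], [], [1], [], [0], [1], [], [1], [0], [0, 1], [0], [0], [0], [1], [], [0], [0], [1], [1], [1], [0, 1], [1], [1], [0, 1], [1], [0], [1], [], [], [], [], [], [0], [], [], [], [1], [0], [1], [1], [], [], [1], [], [], [0, 1], [0], [0], [], [0], [0], [0], [], [0, 1], [0], [], [0], [1], [0], [0], [0, 1], [1], [0, 1], [0, 1], [0, 1], [1], [], [], [1], [0, 1], [1], [], [0, 1], [0, 1], [1], [0], [], [0, 1], [1], [0], [], [0, 1], [1], [0], [0], [], [0], [0, 1], [], [0], [1], [], [], [0, 1], [], [0, 1], [0], [1], [0], [0], [1], [0], [0, 1], [0], [0], [0], [1], [0, 1], [], [0], [1], [0], [0], [0], [1], [0], [0, 1], [0], [0], [0, 1], [], [0], [0, 1], [0], [1], [], [0], [0, 1], [0], [0], [0],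 [0], [0, 1], [0, 1], [1], [0], [], [0, 1], [0, 1], [], [], [0], [], [0], [], [1], [], [], [0], [0, 1], [1], [0], [], [], [0], [1], [0, 1], [1], [], [1], [1], [0, 1], [], [1], [1], [], [], [], [], [0], [0, 1], [1], [1], [], [0, 1], [0], [], [1], [1], [], [], [1], [0, 1], [1], [0, 1], [1], [1], [], [1], [], [0], [], [0], [], [0], [0, 1], [1], [], [], [], [0], [0, 1], [], [0, 1], [], [1], [0], [1], [0, 1], [0], [0], [0], [], [1], [0, 1], [1], [1], [0, 1], [], [0, 1], [0], [1], [0], [], [0, 1], [1], [], [0], [], [1], [0], [1], [], [0, 1], [0], [1], [0], [1], [], [0, 1], [1], [1], [1], [1], [0, 1], [0, 1], [0], [0, 1], [], [], [], [1], [], [], [1], [0, 1], [0, 1], [], [0], [], [], [0], [], [0], [1], [0], [], [1], [], [0], [0, 1], [1], [], [], [0, 1], [], [0], [], [1], [], [0, 1], [], [0], [0], [1], [0, 1], [0, 1], [], [0, 1], [0, 1], [], [0, 1], [0, 1], [], [], [1], [0, 1], [0, 1], [], [0, 1], [1], [1], [], [], [0], [1], [], [1], [1], [0,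 1], [0], [1], [0], [0, 1], [1], [0, 1], [], [0], [0], [], [0], [1], [0, 1], [1], [], [], [0], [], [0, 1], [0, 1], [0], [1], [], [], [0], [], [], [1], [0, 1], [0, 1], [0], [1], [0, 1], [0], [], [], [], [], [1], [], [], [], [0], [], [], [1], [], [], [], [0, 1], [0], [], [], [1], [1], [0], [1], [], [1], [], [0, 1], [1], [], [1], [0], [0], [], [], [0], [1], [], [0], [], [1], [0, 1], [], [1], [1], [0], [1], [0], [], [], [0], [1], [1], [1], [], [0], [1], [1], [], [1], [], [0, 1], [1], [], [], [1], [0, 1], [], [], [0], [0], [], [1], [], [0, 1], [], [1], [], [1], [0], [1], [1], [1], [0], [0, 1], [], [], [], [], [], [], [0], [], [], [0], [], [], [0, 1], [0], [], [0], [0, 1], [0], [], [0], [], [0], [0, 1], [0, 1], [0], [0], [], [0], [], [0], [1], [1], [1], [], [1], [], [0], [], [0], [], [], [0], [1], [], [], [], [0, 1], [], [], [1], [0], [], [], [], [0, 1], [], [0], [0, 1], [0, 1], [0, 1], [0, 1], [0], [0], [0, 1], [0, 1], [0, 1], [1], [1], [],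 [], [], [], [0, 1], [1], [], [1], [1], [], [], [0, 1], [0], [0, 1], [1], [0, 1], [1], [0, 1], [], [], [0], [], [1], [1], [0], [1], [], [], [0, 1], [], [], [1], [], [1], [], [0], [0], [], [0], [0], [1], [0, 1], [0], [0, 1], [1], [1], [1], [], [0], [0], [], [1], [], [0], [0, 1], [0], [], [], [0, 1], [0, 1], [], [0, 1], [0], [0], [], [1], [], [], [0], [], [0, 1], [1], [1], [], [1], [0], [], [1], [], [0, 1], [0, 1], [0, 1], [1], [1], [0, 1], [0], [0], [0], [0], [], [], [1], [1], [], [0], [], [1], [1], [], [], [0], [1], [0, 1], [], [0], [], [1], [0, 1], [], [], [], [0, 1], [], [], [], [], [0], [0], [0, 1], [0], [], [], [0], [0, 1], [1], [1], [0, 1], [], [], [0, 1], [1], [1], [], [], [0, 1], [1], [1], [1], [], [0], [], [1], [], [], [0], [], [0], [1], [0], [0], [], [], [1], [], [0, 1], [0], [], [0, 1], [0], [1], [1], [], [], [1], [0, 1], [0, 1], [1], [0], [0, 1], [0, 1], [0, 1], [1], [], [0], [1], [0, 1], [1], [1], [], [0, 1], [], [1], [],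 [0, 1], [1], [1], [0], [], [], [0, 1], [0], [0], [], [1], [], [], [], [], [], [1], [], [], [], [], [], [], [], [1], [0, 1], [], [0], [1], [1], [], [0, 1], [], [], [0, 1], [], [0, 1], [], [0, 1], [0, 1], [1], [0], [0, 1], [1], [0, 1], [], [0], [0, 1], [0], [], [], [1], [], [0, 1], [], [0], [0, 1], [], [1], [0], [], [1], [1], [], [], [1], [1], [0, 1], [1], [0], [], [0], [], [], [], [1], [], [], [0], [0], [1], [0], [0], [1], [0], [0, 1], [], [], [], [0], [], [0], [], [1], [0], [], [], [], [0], [], [], [0], [], [1], [1], [0], [], [0, 1], [0, 1], [0], [1], [], [0, 1], [], [0], [0], [0, 1], [], [0], [], [], [0], [0, 1], [0], [0, 1], [0], [0, 1], [0], [], [0, 1], [1], [1], [1], [0], [1], [], [], [], [], [0, 1], [1], [], [], [], [], [0], [1], [0], [1], [], [0], [], [1], [], [], [1], [0], [0], [], [0], [0], [], [], [], [0], [1], [], [0], [0], [0], [0], [], [0], [0], [0], [], [0], [], [0, 1], [], [0, 1], [0, 1], [0], [], [1], [], [], [1], [0],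 [1], [1], [], [1], [], [0], [], [0, 1], [], [], [], [0], [], [], [], [1], [], [0], [], [0], [0], [1], [0], [], [0, 1], [], [], [], [], [], [1], [], [0, 1], [0, 1], [], [], [1], [0], [0], [0], [], [], [], [], [0], [], [], [1], [], [0, 1], [], [1], [1], [0], [], [], [], [1], [], [], [1], [], [], [], [], [], [1], [], [1], [], [0, 1], [0], [1], [0], [], [0], [0], [1], [], [1], [], [], [1], [1], [1], [0], [], [1], [], [1], [0], [1], [], [], [1], [], [], [], [1], [], [], [0], [1], [0], [1], [0], [0], [], [], [0], [1], [1], [1], [], [], [1], [0, 1], [], [0], [], [0, 1], [0, 1], [], [], [1], [0, 1], [], [1], [0, 1], [], [], [0, 1], [], [], [0, 1], [], [], [], [0], [], [1], [1], [0], [], [], [1], [1], [0], [1], [], [0], [], [1], [], [0], [1], [1], [], [0], [], [], [1], [], [0], [1], [0], [], [1], [], [], [], [0, 1], [0, 1], [0, 1], [], [], [], [], [], [], [0], [], [1], [], [0], [], [1], [0, 1], [1], [1], [0, 1], [], [0], [], [1], [], [], [0],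 [], [1], [], [], [], [], [0, 1], [], [], [], [], [0, 1], [], [], [], [], [0, 1], [0, 1], [], [0], [0], [], [1], [0], [], [], [], [], [0], [], [], [0, 1], [], [], [], [], [], [], [0], [0], [1], [0], [], [], [], [0], [], [1], [0], [], [], [1], [1], [], [], [], [1], [0], [0], [1], [0], [], [1], [1], [], [], [0], [], [], [], [], [], [0, 1], [], [], [0], [0], [], [0], [0], [1], [1], [], [0, 1], [0], [], [], [], [0], [], [0, 1], [0], [], [0, 1], [], [1], [0], [], [0], [], [], [], [0, 1], [0], [0], [], [], [0, 1], [], [0, 1], [], [0, 1], [], [1], [0, 1], [0, 1], [], [0, 1], [], [0, 1], [], [0, 1], [0, 1], [], [], [], [], [0, 1], [1], [], [], [0], [], [0], [0], [], [], [], [1], [1], [1], [0, 1], [1], [], [], [], [], [], [], [0], [], [], [], [1], [], [], [0, 1], [0], [], [], [], [], [], [], [0, 1], [1], [], [1], [0], [0, 1], [], [1], [], [], [1], [], [0], [1], [], [0], [0, 1], [], [0, 1], [], [1], [0], [], [], [1], [0, 1], [], [0], [], [], [0],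 [0, 1], [], [0], [], [1], [1], [], [0], [0], [0], [], [], [0], [0], [1], [], [], [0], [1], [], [], [], [], [0, 1], [], [1], [0], [], [0], [0], [0], [1], [1], [0, 1], [1], [0, 1], [], [], [], [0], [], [], [1], [], [0], [1], [], [0], [], [0, 1], [0], [], [], [], [0, 1], [0], [], [0, 1], [], [], [1], [], [0], [], [], [], [0, 1], [], [], [0], [], [], [0], [], [], [1], [1], [0, 1], [], [0, 1], [], [], [], [0], [1], [], [0], [], [], [0, 1], [0], [0, 1], [], [], [], [], [], [], [0], [1], [], [], [], [0, 1], [0], [1], [], [], [], [], [0], [1], [0], [0], [1], [], [0], [], [], [], [], [], [0, 1], [1], [0], [1], [], [], [], [], [1], [], [0], [0], [], [0], [], [0], [1], [0], [1], [0, 1], [], [0], [], [], [0], [1], [], [0, 1], [0, 1], [], [], [1], [1], [0], [], [], [], [], [], [1], [], [], [0, 1], [], [0], [0], [], [0], [1], [0], [0], [], [0], [1], [0], [], [0], [0], [], [0], [], [], [], [], [0], [0], [], [0], [0, 1], [], [], [], [], [], [], [],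 [1], [], [], [], [], [], [0], [], [], [], [], [], [0], [1], [], [], [], [0, 1], [0], [], [1], [], [1], [], [0, 1], [], [1], [1], [], [], [], [], [], [0, 1], [], [], [], [], [0], [0, 1], [], [], [0, 1], [0], [0], [0, 1], [], [1], [], [0], [0], [1], [], [], [], [0], [1], [1], [], [1], [], [1], [1], [], [0, 1], [0], [], [0], [], [], [], [0], [1], [1], [], [1], [], [], [], [], [], [0], [], [1], [0], [], [], [0, 1], [0], [], [], [1], [0, 1], [0], [1], [], [], [], [1], [0, 1], [], [0, 1], [], [0, 1], [], [], [], [], [], [], [0, 1], [], [1], [], [], [0], [], [0, 1], [0], [1], [1], [0], [], [], [], [], [], [], [], [], [], [0, 1], [], [], [], [], [1], [], [0, 1], [1], [], [1], [], [], [], [], [1], [1], [], [], [0], [], [1], [1], [], [1], [], [0], [], [1], [0, 1], [], [], [], [1], [], [0, 1], [], [1], [], [], [0], [], [], [0], [], [], [], [0], [0], [], [], [], [0, 1], [1], [], [0], [], [], [0], [], [], [0], [1], [], [], [], [1], [], [], [0], [],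 [], [0, 1], [0, 1], [1], [], [0, 1], [], [], [], [], [], [], [0, 1], [0], [0, 1], [], [1], [1], [], [], [1], [], [], [1], [], [1], [], [], [], [0], [], [], [1], [], [], [], [1], [], [0], [0], [0], [0], [], [], [], [0, 1], [0], [], [], [], [1], [], [1], [0], [], [1], [1], [0], [0], [], [], [1], [], [], [1], [], [1], [], [], [], [], [], [], [], [], [], [0], [], [], [1], [], [1], [1], [1], [], [1], [], [], [0], [], [], [], [0], [], [], [], [], [0], [0, 1], [0, 1], [], [1], [0], [1], [1], [1], [1], [], [1], [], [], [1], [], [], [], [], [], [], [], [], [], [0], [1], [], [], [0, 1], [], [1], [], [], [], [1], [1], [], [0], [], [], [], [], [], [1], [], [0, 1], [], [], [], [0], [0], [], [], [], [], [], [0], [], [1], [1], [], [1], [1], [0], [], [], [1], [], [0], [0, 1], [], [0], [], [], [1], [0], [1], [], [1], [], [], [], [], [], [1], [0], [], [0], [], [], [], [], [1], [], [], [], [], [], [0], [], [], [0], [1], [0], [], [], [1], [1], [], [0, 1],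 [], [], [0], [], [], [], [], [], [], [0], [0], [1], [0], [], [], [], [], [], [], [], [], [0, 1], [], [], [], [], [], [], [0, 1], [], [0], [], [], [1], [], [], [], [], [], [1], [1], [], [0], [], [1], [], [], [1], [], [0], [], [], [], [], [], [], [], [], [0], [], [], [1], [], [], [], [1], [0, 1], [0], [1], [], [], [0, 1], [0, 1], [], [], [0], [], [], [], [], [], [], [1], [0], [0], [], [], [1], [], [], [], [], [], [0], [], [], [], [], [], [], [], [], [], [0], [1], [0], [], [], [1], [], [], [], [], [], [], [0, 1], [0], [0], [], [], [], [], [], [0, 1], [1], [1], [], [], [], [], [], [0], [], [1], [], [], [1], [0], [], [1], [], [], [], [0], [1], [], [1], [], [0], [0, 1], [], [1], [], [], [], [], [1], [], [0], [], [0, 1], [], [], [0, 1], [], [], [], [], [1], [0, 1], [], [0], [0], [0, 1], [], [], [], [], [1], [], [], [1], [], [], [], [], [], [0, 1], [], [], [], [0], [], [], [0], [], [], [1], [0, 1], [1], [0], [0], [0], [1], [], [], [], [0], [],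 [], [0, 1], [1], [], [0, 1], [0, 1], [], [], [], [], [], [], [], [], [], [0], [], [], [], [1], [1], [], [], [1], [], [0, 1], [], [0], [], [], [], [], [], [], [], [], [], [], [0, 1], [], [0], [], [], [], [], [], [], [0, 1], [], [1], [], [], [0], [0], [], [], [], [0], [], [1], [], [], [0], [], [0], [], [], [], [], [0], [], [], [], [], [], [], [], [], [1], [], [0], [], [], [0], [], [0], [1], [], [0], [0, 1], [1], [], [1], [1], [1], [1], [0], [], [1], [1], [], [], [0], [1], [], [0, 1], [], [], [1], [0], [], [], [], [], [0, 1], [0, 1], [], [], [], [], [], [0], [0], [1], [], [], [], [], [], [], [], [], [0, 1], [1], [], [], [], [0], [], [0], [0], [], [], [1], [], [], [], [], [1], [1], [0], [], [], [0, 1], [], [1], [1], [], [], [], [], [], [], [], [], [], [], [], [], [0], [0], [], [], [1], [], [], [], [0], [1], [], [], [0], [1], [0, 1], [], [], [0], [], [], [], [], [], [0, 1], [], [], [], [0], [], [], [], [], [], [1], [], [], [], [], [], [1],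 [], [], [0], [0], [1], [], [], [0], [], [], [], [], [], [], [], [], [], [], [], [0], [], [], [], [], [], [], [], [], [], [], [], [1], [1], [0, 1], [], [], [], [1], [1], [], [0, 1], [], [], [], [], [], [], [], [], [], [0], [], [], [0], [0, 1], [], [], [], [1], [], [1], [], [], [], [], [], [1], [1], [], [1], [], [1], [], [0, 1], [1], [0], [0], [1], [], [0], [], [], [0], [], [], [], [1], [], [1], [], [1], [], [], [], [], [], [], [0], [0], [1], [], [], [], [0], [], [], [], [], [], [], [], [], [0], [], [], [1], [0], [], [], [], [0], [], [0], [1], [1], [], [], [], [], [1], [], [], [], [], [], [], [0], [], [], [], [], [], [], [], [], [], [], [0], [], [], [], [], [], [], [], [], [], [], [], [], [], [1], [], [], [], [], [], [], [], [], [], [], [], [], [0], [0, 1], [], [1], [], [], [], [], [], [], [], [], [], [], [], [], [], [], [], [], [], [], [0], [], [], [0], [], [], [1], [], [], [], [], [], [], [], [], [], [], [0], [], [0], [0], [], [0, 1],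 [], [], [], [], [], [], [], [], [], [], [], [], [0, 1], [], [], [], [], [], [], [], [], [], [], [0], [0], [], [], [], [], [], [1], [], [], [], [1], [], [0], [], [], [], [], [], [0], [], [], [], [0], [], [], [0, 1], [], [], [], [], [], [], [0], [], [], [1], [], [], [], [], [], [], [], [], [], [], [], [], [], [0, 1], [], [1], [], [], [], [1], [], [], [], [], [1], [], [0], [], [], [], [], [], [], [], [], [0], [], [], [], [], [1], [0], [], [], [], [], [], [], [], [], [], [], [], [], [], [1], [], [], [1], [1], [], [], [0], [], [], [], [], [], [], [], [], [], [], [], [], [0], [], [1], [], [], [], [1], [0], [], [], [1], [], [], [0], [], [], [], [1], [], [], [], [1], [0], [], [], [], [], [], [], [], [], [], [1], [0], [1], [1], [], [], [1], [], [], [], [], [], [], [], [], [], [1], [], [], [], [], [], [1], [], [], [], [], [], [], [], [], [], [], [], [], [], [], [], [], [], [], [], [], [], [], [], [], [], [], [], [], [], [], [0], [], [], [], [],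 [], [1], [], [], [], [], [], [0], [], [], [], [1], [], [], [], [], [], [], [], [], [], [0], [], [], [], [], [], [], [], [], [], [1], [], [0], [], [], [], [1], [], [], [1], [], [0], [0], [], [], [1], [0], [], [1], [], [], [], [], [1], [0], [], [], [], [], [], [], [], [], [], [], [], [], [], [], [], [], [], [], [], [], [], [0], [], [], [], [], [], [], [], [], [], [], [], [0], [1], [], [], [], [], [0], [], [1], [], [], [], [1], [], [], [], [], [], [], [], [], [], [], [], [], [], [], [], [], [1], [], [1], [], [], [], [], [], [], [], [], [], [], [0], [], [], [], [], [], [], [], [], [], [], [], [0, 1], [], [], [], [], [], [], [1], [], [], [], [], [0, 1], [], [], [], [], [], [], [], [0], [], [], [], [], [], [], [], [], [], [], [], [], [], [], [], [], [], [0], [0], [], [], [], [], [], [], [], [], [], [], [], [], [], [], [], [0], [], [], [], [], [], [], [], [], [], [], [], [], [], [], [], [], [], [], [], [], [1], [], [], [], [], [], [], [], [],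 [], [], [0], [], [], [], [], [], [], [], [], [], [0], [], [], [], [], [1], [], [], [], [1], [], [], [1], [], [], [0], [], [], [], [0], [], [], [], [], [], [], [], [], [], [0], [], [], [], [], [], [], [], [], [], [], [], [], [], [], [], [], [], [], [], [], [], [], [], [], [], [], [], [], [], [], [0], [], [], [], [], [], [], [], [], [], [], [], [], [], [], [], [], [], [], [], [], [], [], [], [], [], [], [1], [], [], [], [], [], [], [], [], [], [], [], [], [], [], [1], [], [], [], [], [], [], [], [], [], [], [], [], [], [], [], [1], [], [], [], [0], [], [], [], [], [], [], [], [], [], [], [], [], [], [], [], [], [], [], [], [], [], [], [], [], [], [], [], [], [], [], [1]]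

noncomputable abbrev c2b_model := elemModel 4189807

set_option maxRecDepth 1000000 in
set_option maxHeartbeats 4000000 in
theorem c2b_check : distinctAux ((c2b_model.nodes c2b_tabs idList c2b_cert).map c2b_model.code) 0 = true := by
  decide +kernel

set_option maxRecDepth 1000000 in
set_option maxHeartbeats 4000000 in
theorem c2b_len : (c2b_model.nodes c2b_tabs idList c2b_cert).length = 7680 := by
  decide +kernel

/-- elements of the centralizer moving the first point to every point -/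
def c2b_trans : List ℕ := [984818244535754528103549039458486304, 104584152350473937696876775538819809, 62493554151248870030661974949713058, 268314749705088934150500936352047747, 914068116840591274828119135766289860, 897106493668163090132425117368125477, 134315902896464353185163539479008934, 590151415930627339533574672422983815, 844052734501692086801673763374291080, 767852314680933568232166246772355401, 509511979153960114824537763875923530, 646957227705693053120036140802428459, 426235559913481511839031242204595820, 668147824173298960953831100581071149, 295574290884201802001150835706941710, 469551337924452681069595815985136047, 542035180034427172347306040763898896, 796290067805510928382375643827645937, 388148436091308457559662502404820178, 713026170200151416793171586352034131, 345960908212973523026928974770441428, 232965742716056277380237903376300277, 166282103159458015706643153936797974, 6010425824939901740871785679763703]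

set_option maxRecDepth 1000000 in
set_option maxHeartbeats 4000000 in
theorem c2b_trans_check : (∀ t ∈ c2b_trans, TabM24 t ∧ CommTab t) ∧
    c2b_trans.map (fun t => look t 0) = List.range 24 := by
  decide +kernel

/-- generators of the stabilizer of the sextet -/
def c2b_htabs : List ℕ := [811812649261556990224948689596618853, 393668118495251999232793532850903154]

set_option maxRecDepth 1000000 in
set_option maxHeartbeats 4000000 in
theorem c2b_htabs_check : IsSextetList c2b_S0 ∧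
    (∀ t ∈ c2b_htabs, TabM24 t ∧ famSubB (stepFam t c2b_S0) c2b_S0 = true) ∧
    (∀ l ∈ c2b_S0, setEqB (stepSet (el_rep2_tabs.getD 1 0) l) l = true) := by
  decide +kernel

def c2b_ocert : List (List ℕ) := [[0, 1], [0, 1], [0, 1], [1], [0], [0, 1], [0, 1], [], [0], [0], [], [1], [], [0], [0]]

abbrev c2b_omodel := famModel 288545021 2147483647 4096

set_option maxRecDepth 1000000 in
set_option maxHeartbeats 4000000 in
theorem c2b_ocheck : distinctAux ((c2b_omodel.nodes c2b_htabs c2b_D0 c2b_ocert).map c2b_omodel.code) 0 = true ∧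
    (c2b_omodel.nodes c2b_htabs c2b_D0 c2b_ocert).length = 18 := by
  decide +kernel

set_option maxRecDepth 1000000 in
set_option maxHeartbeats 4000000 in
theorem c2b_D0_check : (∀ l ∈ c2b_D0, GoodSet l ∧ l ≠ []) ∧ c2b_D0.Pairwise listDisjoint ∧
    (∀ l ∈ c2b_D0, ∃ a ∈ List.range 24, l = [a, (el_rep2.getD 1 idList).getD a 0]) ∧
    (∀ a ∈ List.range 24, ∃ l ∈ c2b_D0, setEqB l [a, (el_rep2.getD 1 idList).getD a 0] = true) := by
  decide +kernel

end Cfsg.Agent.Lib.Helper28
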