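import Cfsg.Agent.Lib.Helper28.FamCheck

set_option autoImplicit false

/-!
Orbit certificates for the stabilizer of an octad on trios and sextets.
-/

namespace Cfsg.Agent.Lib.Helper28

open Cfsg MulAction
open scoped Pointwise

def oc_tabs : List ℕ := [597386061139021884766321948028307553, 730136961450941240899633880137176065]

def oc_base : List ℕ := [0, 1, 2, 3, 5, 14, 17, 23]

set_option maxRecDepth 1000000 in
set_option maxHeartbeats 4000000 in
theorem oc_base_check : IsOctadList oc_base := by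
  decide +kernel

set_option maxRecDepth 1000000 in
set_option maxHeartbeats 4000000 in
theorem oc_tabs_check : ∀ t ∈ oc_tabs, TabM24 t ∧ setEqB (stepSet t oc_base) oc_base = true := by
  decide +kernel

def octrio_roots : Fin 3 → List (List ℕ) := ![
  [[9, 10, 11, 12, 13, 16, 19, 21], [4, 6, 7, 8, 15, 18, 20, 22], [0, 1, 2, 3, 5, 14, 17, 23]],
  [[0, 1, 2, 3, 4, 7, 10, 12], [8, 13, 15, 16, 18, 19, 20, 21], [5, 6, 9, 11, 14, 17, 22, 23]],
  [[0, 1, 2, 3, 4, 7, 10, 12], [5, 6, 8, 9, 14, 18, 19, 20], [11, 13, 15, 16, 17, 21, 22, 23]]]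

def octrio_certs : Fin 3 → List (List ℕ) := ![
  [[0, 1], [0, 1], [0], [0, 1], [0, 1], [1], [1], [0], [], [], [0], [0]],
  [[0, 1], [0, 1], [0, 1], [1], [0, 1], [0, 1], [0, 1], [0, 1], [0, 1], [0, 1], [0, 1], [0, 1], [0, 1], [0, 1], [0, 1], [0, 1], [0, 1], [0, 1], [0, 1], [0, 1], [0, 1], [0, 1], [0, 1], [0, 1], [0, 1], [0, 1], [0, 1], [1], [0, 1], [0, 1], [0, 1], [0, 1], [0, 1], [0, 1], [0, 1], [1], [0, 1], [0, 1], [0, 1], [0, 1], [0, 1], [0, 1], [0, 1], [0, 1], [0, 1], [0, 1], [0, 1], [0, 1], [0, 1], [0, 1], [1], [0], [], [0, 1], [0, 1], [0, 1], [0, 1], [0, 1], [0, 1], [0, 1], [0, 1], [0, 1], [0, 1], [0, 1], [0, 1], [0, 1], [0], [0, 1], [0, 1], [0, 1], [0, 1], [0, 1], [1], [1], [1], [0, 1], [0, 1], [0, 1], [], [0, 1], [0, 1], [0, 1], [1], [0, 1], [0, 1], [0, 1], [0], [0, 1], [], [0, 1], [0, 1], [1], [0], [0, 1], [0, 1], [0], [], [0, 1], [0, 1], [1], [0, 1], [0, 1], [0, 1], [0, 1], [0], [1], [0, 1], [0, 1], [0], [0, 1], [1],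 [1], [0, 1], [0, 1], [1], [1], [0, 1], [0, 1], [0, 1], [0, 1], [], [0, 1], [0, 1], [0], [1], [0, 1], [0, 1], [0], [0, 1], [1], [1], [0], [0, 1], [0], [], [], [0], [0, 1], [0, 1], [0], [1], [1], [0, 1], [1], [], [0, 1], [0], [0, 1], [0], [1], [1], [0, 1], [1], [1], [], [0], [0], [0], [1], [0], [0], [0, 1], [0, 1], [0, 1], [], [0, 1], [], [0, 1], [0, 1], [1], [1], [1], [1], [0, 1], [], [1], [0, 1], [], [], [], [1], [0], [0, 1], [0, 1], [0, 1], [1], [], [0], [1], [1], [], [0, 1], [0], [0], [0, 1], [1], [0, 1], [0], [], [], [0], [1], [0], [1], [1], [1], [0], [0, 1], [], [0], [0, 1], [], [], [1], [0, 1], [1], [0, 1], [1], [1], [0], [0, 1], [0], [0], [0, 1], [0], [], [0], [0, 1], [1], [], [1], [], [0, 1], [], [], [1], [0], [0], [0], [], [0], [0, 1], [], [], [], [0, 1], [], [], [0], [0, 1], [1], [1], [0, 1], [0, 1], [], [], [], [], [], [0, 1], [0], [], [], [1], [1], [1], [], [1], [0], [1], [1], [0], [0], [0, 1], [], [], [], [0],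 [0, 1], [0, 1], [0], [], [0], [], [], [1], [], [], [], [], [0, 1], [1], [0], [], [1], [], [], [1], [0, 1], [1], [0, 1], [], [], [1], [], [1], [0], [], [], [0], [], [1], [1], [1], [], [0], [], [], [1], [], [1], [], [], [0], [], [], [], [], [0], [0, 1], [1], [1], [1], [], [], [], [0], [0], [0], [], [0], [1], [1], [], [], [], [1], [], [0], [], [], [], [], [], [], [], [1], [0], [1], [0], [], [], [], [], [], [], [], [], [], [], [], [], [], [], [], [], [], [0], [], [], [], [], [], [], [], [], [], [1], [], [], [], [], [], [], [], [], [], [], [], [], [], [], [], [], [], [], [], [], [], [], [], [], [0]],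
  [[0, 1], [0, 1], [0, 1], [0, 1], [0, 1], [0, 1], [0, 1], [0, 1], [0, 1], [0, 1], [0, 1], [0, 1], [0, 1], [0, 1], [0, 1], [0, 1], [0, 1], [0, 1], [0, 1], [0, 1], [0, 1], [0, 1], [0, 1], [0, 1], [0, 1], [0, 1], [0, 1], [0, 1], [0, 1], [0, 1], [0, 1], [1], [0, 1], [0, 1], [0, 1], [0, 1], [0, 1], [0, 1], [0, 1], [0, 1], [0, 1], [0, 1], [0, 1], [0, 1], [0, 1], [0, 1], [0, 1], [0, 1], [0, 1], [0, 1], [0, 1], [0, 1], [1], [0, 1], [0, 1], [1], [0, 1], [0, 1], [0, 1], [0, 1], [0, 1], [0, 1], [0], [0, 1], [0, 1], [0, 1], [0, 1], [0, 1], [0, 1], [0, 1], [0, 1], [0, 1], [0, 1], [0, 1], [0, 1], [0, 1], [0, 1], [0, 1], [0, 1], [0, 1], [0, 1], [0, 1], [0, 1], [0, 1], [1], [1], [0, 1], [0, 1], [1], [0, 1], [0, 1], [0, 1], [0, 1], [0], [], [0, 1], [0, 1], [0, 1], [0, 1], [0, 1], [0, 1], [0, 1], [0, 1], [0, 1], [0, 1], [1], [0, 1], [0, 1], [0, 1], [0, 1], [0, 1], [0, 1], [0, 1], [0, 1], [0, 1], [0, 1], [0, 1], [0, 1], [0, 1], [0, 1], [0,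 1], [0, 1], [0, 1], [0, 1], [0, 1], [0, 1], [0, 1], [1], [0, 1], [0, 1], [0, 1], [0, 1], [0, 1], [0, 1], [0, 1], [0, 1], [0, 1], [0, 1], [0, 1], [0, 1], [0, 1], [0, 1], [0, 1], [0, 1], [0, 1], [0, 1], [0, 1], [1], [0, 1], [0, 1], [0, 1], [0, 1], [0, 1], [], [0, 1], [0, 1], [0, 1], [0, 1], [0, 1], [0, 1], [0, 1], [0, 1], [0, 1], [0, 1], [0, 1], [1], [0, 1], [0, 1], [0, 1], [0, 1], [0, 1], [0, 1], [0, 1], [0, 1], [0, 1], [0, 1], [0, 1], [0, 1], [0, 1], [0, 1], [1], [1], [0, 1], [0, 1], [0, 1], [0, 1], [0, 1], [0, 1], [0, 1], [0, 1], [0, 1], [0, 1], [0, 1], [0, 1], [0, 1], [0, 1], [0, 1], [0, 1], [0, 1], [1], [0, 1], [0, 1], [0, 1], [0, 1], [0, 1], [0, 1], [0, 1], [0], [1], [1], [0, 1], [0, 1], [0, 1], [0, 1], [1], [0, 1], [0, 1], [0, 1], [1], [0, 1], [0], [0], [0, 1], [0, 1], [0, 1], [0, 1], [0, 1], [0, 1], [1], [0, 1], [0, 1], [0, 1], [0, 1], [0, 1], [1], [0, 1], [0, 1], [0, 1], [1], [0, 1], [0, 1], [0, 1], [0, 1], [0, 1],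 [1], [0, 1], [0, 1], [0, 1], [0], [0, 1], [1], [0, 1], [0, 1], [0, 1], [1], [0, 1], [0, 1], [0], [1], [0, 1], [0, 1], [0, 1], [0, 1], [1], [0, 1], [0, 1], [0, 1], [0, 1], [0, 1], [0, 1], [0, 1], [0, 1], [0, 1], [0], [0, 1], [], [0, 1], [1], [0, 1], [0, 1], [0, 1], [0, 1], [0, 1], [0, 1], [0, 1], [0, 1], [0, 1], [0, 1], [0, 1], [0], [0, 1], [0, 1], [1], [0, 1], [0, 1], [1], [0, 1], [0, 1], [0], [0, 1], [0, 1], [0, 1], [0, 1], [0, 1], [0, 1], [0, 1], [0, 1], [0, 1], [0, 1], [0, 1], [0, 1], [0, 1], [1], [1], [1], [0, 1], [0, 1], [0, 1], [0, 1], [], [0, 1], [1], [0, 1], [0, 1], [0, 1], [0, 1], [0, 1], [0, 1], [0], [0, 1], [0, 1], [0], [1], [0, 1], [0, 1], [0], [0, 1], [0, 1], [0, 1], [1], [0, 1], [0, 1], [0, 1], [0, 1], [1], [0, 1], [0, 1], [1], [0, 1], [0, 1], [0, 1], [0, 1], [0, 1], [0, 1], [0, 1], [0], [0, 1], [0, 1], [0, 1], [0, 1], [0, 1], [0, 1], [0, 1], [0, 1], [0, 1], [0, 1], [0, 1], [1], [1], [0], [0, 1], [0, 1], [0,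 1], [1], [0, 1], [0, 1], [0, 1], [0, 1], [0, 1], [0, 1], [0, 1], [0, 1], [0, 1], [0, 1], [0, 1], [0, 1], [0, 1], [0, 1], [0, 1], [0, 1], [1], [0, 1], [0], [1], [1], [0, 1], [0, 1], [0, 1], [0, 1], [0, 1], [0, 1], [0, 1], [0, 1], [0], [0, 1], [1], [0, 1], [0, 1], [0, 1], [1], [0, 1], [0, 1], [1], [], [0, 1], [0, 1], [0, 1], [0, 1], [0, 1], [1], [1], [0, 1], [0, 1], [0, 1], [0], [0, 1], [1], [0, 1], [0, 1], [0, 1], [0, 1], [0, 1], [0, 1], [0, 1], [0, 1], [0, 1], [1], [0, 1], [0, 1], [1], [1], [0, 1], [0, 1], [0, 1], [0, 1], [0, 1], [0, 1], [1], [0, 1], [0, 1], [0, 1], [0, 1], [0, 1], [0, 1], [0, 1], [0, 1], [0, 1], [0], [0, 1], [1], [1], [0, 1], [0, 1], [0, 1], [0, 1], [], [0, 1], [1], [0], [0, 1], [1], [0], [0, 1], [0, 1], [0, 1], [0], [0, 1], [0, 1], [1], [0, 1], [0, 1], [0, 1], [0], [0, 1], [0, 1], [0], [1], [1], [1], [0, 1], [1], [0, 1], [0, 1], [0, 1], [1], [0, 1], [0, 1], [0, 1], [0, 1], [0], [0, 1], [1], [1], [0, 1],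 [0, 1], [0], [0, 1], [0, 1], [0, 1], [0], [0], [], [1], [0, 1], [0, 1], [0, 1], [0, 1], [0, 1], [0, 1], [1], [0, 1], [1], [0, 1], [0, 1], [0, 1], [0, 1], [0, 1], [0, 1], [0], [1], [0, 1], [0, 1], [1], [0, 1], [0, 1], [0], [1], [0, 1], [0], [1], [0, 1], [0], [0, 1], [1], [0, 1], [0, 1], [0], [0, 1], [0, 1], [0, 1], [0, 1], [0, 1], [0], [0], [1], [0], [0, 1], [0, 1], [0, 1], [0, 1], [0, 1], [0, 1], [0, 1], [0, 1], [0, 1], [1], [0, 1], [0], [0, 1], [0, 1], [0, 1], [0, 1], [1], [1], [0, 1], [0, 1], [0, 1], [0, 1], [0, 1], [0], [0, 1], [0, 1], [0, 1], [0, 1], [0, 1], [0, 1], [0, 1], [0, 1], [0, 1], [0, 1], [0, 1], [0, 1], [0, 1], [0, 1], [0, 1], [0, 1], [0, 1], [0, 1], [1], [0, 1], [0, 1], [1], [0, 1], [0, 1], [1], [0, 1], [1], [0], [0], [0, 1], [0, 1], [0], [0, 1], [0], [1], [0, 1], [0, 1], [0, 1], [0, 1], [0, 1], [1], [0, 1], [0, 1], [0, 1], [0, 1], [0, 1], [0, 1], [0, 1], [0], [0, 1], [0, 1], [0], [0, 1], [1], [0, 1], [1], [0],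 [0, 1], [0, 1], [0, 1], [0, 1], [0, 1], [0, 1], [0, 1], [0, 1], [0, 1], [0], [1], [0, 1], [0, 1], [0, 1], [0, 1], [1], [0, 1], [0, 1], [], [0, 1], [1], [0, 1], [0, 1], [0, 1], [0, 1], [0, 1], [0, 1], [0, 1], [0, 1], [0, 1], [0, 1], [1], [1], [0, 1], [1], [0, 1], [1], [0, 1], [0, 1], [0, 1], [1], [0, 1], [0, 1], [0, 1], [0, 1], [0, 1], [0, 1], [], [0, 1], [0, 1], [0, 1], [0, 1], [0, 1], [1], [0], [1], [0, 1], [0, 1], [0], [0], [0], [0, 1], [0, 1], [0, 1], [0, 1], [], [0, 1], [0, 1], [0, 1], [0, 1], [0], [0, 1], [0, 1], [0], [0, 1], [1], [0, 1], [1], [1], [0, 1], [0, 1], [0, 1], [], [0], [0, 1], [0, 1], [0], [0, 1], [0, 1], [], [0, 1], [0, 1], [1], [0], [0], [0, 1], [0, 1], [1], [0, 1], [0], [0, 1], [0], [0, 1], [0, 1], [0, 1], [0], [1], [1], [1], [], [0, 1], [0], [0, 1], [0], [1], [0, 1], [0], [0, 1], [0, 1], [0, 1], [0, 1], [0], [0], [0, 1], [0, 1], [0, 1], [0, 1], [0], [0, 1], [1], [0, 1], [0, 1], [1], [1], [0, 1], [0], [0,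 1], [0, 1], [1], [0, 1], [1], [0, 1], [0, 1], [0], [0, 1], [0, 1], [1], [], [0, 1], [1], [0, 1], [0, 1], [0, 1], [1], [0, 1], [0], [1], [0, 1], [1], [0, 1], [0, 1], [1], [0, 1], [0, 1], [0, 1], [0, 1], [0, 1], [0, 1], [0, 1], [0, 1], [1], [0, 1], [1], [1], [1], [0, 1], [1], [0, 1], [1], [], [0, 1], [], [], [0, 1], [0], [0], [0], [0], [], [0, 1], [1], [0], [1], [1], [0, 1], [0, 1], [0, 1], [0, 1], [0, 1], [1], [1], [0, 1], [0, 1], [0, 1], [0, 1], [1], [0, 1], [0], [0, 1], [1], [1], [0, 1], [1], [0, 1], [0, 1], [0], [0, 1], [1], [0, 1], [0], [0, 1], [0, 1], [0], [0, 1], [], [0, 1], [0, 1], [0, 1], [0, 1], [0, 1], [0], [1], [1], [0, 1], [0, 1], [0, 1], [0], [0, 1], [0], [0, 1], [0, 1], [0, 1], [0, 1], [0, 1], [0, 1], [0, 1], [], [0, 1], [0, 1], [1], [0], [0, 1], [0, 1], [0], [0, 1], [1], [0, 1], [0, 1], [0], [], [], [1], [], [0, 1], [0, 1], [0, 1], [1], [0, 1], [1], [0], [0], [], [0], [0], [1], [], [1], [0, 1], [0], [1], [0,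 1], [0], [0, 1], [1], [0], [0, 1], [1], [0, 1], [0, 1], [0], [0], [0, 1], [0, 1], [0], [1], [0], [0, 1], [0], [0, 1], [0, 1], [0, 1], [0, 1], [0, 1], [0, 1], [], [0, 1], [0, 1], [1], [], [1], [1], [0, 1], [0], [1], [0, 1], [0, 1], [1], [0], [1], [0], [], [1], [0, 1], [], [0, 1], [0], [], [0, 1], [0, 1], [0, 1], [1], [0, 1], [1], [0, 1], [0, 1], [0], [], [0], [0, 1], [0], [], [0], [0, 1], [0, 1], [0, 1], [0, 1], [0, 1], [0], [0], [0], [1], [0], [0, 1], [0], [0, 1], [1], [0, 1], [1], [], [0], [0, 1], [0], [0, 1], [0, 1], [0], [0, 1], [1], [], [0, 1], [], [0, 1], [0, 1], [0, 1], [1], [0, 1], [0, 1], [1], [0, 1], [1], [1], [0], [0], [1], [0, 1], [0, 1], [0, 1], [], [0, 1], [1], [0], [], [1], [0, 1], [0, 1], [], [0], [0, 1], [0], [1], [1], [0, 1], [0], [0, 1], [1], [1], [0, 1], [0], [1], [0, 1], [0, 1], [0], [0, 1], [1], [0, 1], [0, 1], [1], [1], [0, 1], [0, 1], [0], [1], [1], [0, 1], [0], [0, 1], [0, 1], [1], [], [0], [0, 1],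 [0, 1], [0], [], [0, 1], [0], [1], [0], [0], [], [0, 1], [1], [0, 1], [1], [], [1], [0, 1], [0, 1], [0, 1], [0, 1], [], [0], [0, 1], [0, 1], [0, 1], [0, 1], [0, 1], [0, 1], [0, 1], [0], [1], [1], [0, 1], [0, 1], [0, 1], [0, 1], [1], [], [0, 1], [0, 1], [0, 1], [0, 1], [0, 1], [1], [1], [0, 1], [1], [0, 1], [0, 1], [0, 1], [0, 1], [0, 1], [0], [1], [0], [0, 1], [0, 1], [0, 1], [], [1], [0, 1], [0, 1], [0], [0, 1], [0, 1], [0, 1], [1], [0, 1], [], [1], [1], [0, 1], [0, 1], [1], [1], [1], [1], [0, 1], [0, 1], [0], [0, 1], [1], [0, 1], [0, 1], [0], [0, 1], [0], [0], [1], [0, 1], [0], [0], [], [0, 1], [0, 1], [1], [], [1], [0, 1], [1], [0, 1], [], [0], [0], [0, 1], [0, 1], [], [0, 1], [1], [0, 1], [1], [0, 1], [0, 1], [0], [0, 1], [1], [1], [0, 1], [0], [1], [0, 1], [], [0, 1], [1], [0, 1], [0, 1], [1], [0, 1], [0], [0, 1], [], [1], [0, 1], [1], [1], [1], [1], [0, 1], [0], [1], [], [0, 1], [0, 1], [0], [0], [0, 1], [0], [0], [0],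 [0, 1], [0, 1], [0, 1], [1], [0], [1], [0, 1], [0, 1], [1], [], [0, 1], [], [1], [0], [0, 1], [1], [1], [0], [1], [1], [0], [], [0, 1], [0], [0], [], [1], [], [0, 1], [0, 1], [], [0, 1], [0, 1], [1], [1], [0], [1], [1], [0], [1], [0, 1], [0, 1], [], [0, 1], [1], [0], [0, 1], [], [1], [], [], [], [0, 1], [0, 1], [0, 1], [0, 1], [], [], [0, 1], [0], [0, 1], [0, 1], [0], [0], [0], [1], [0, 1], [0], [1], [0, 1], [1], [0, 1], [0, 1], [], [1], [], [0, 1], [0, 1], [0, 1], [0, 1], [1], [], [1], [0, 1], [0], [0, 1], [0], [0], [1], [0, 1], [0, 1], [0], [], [1], [], [0], [0], [0, 1], [1], [], [0], [0], [1], [0, 1], [0], [1], [0, 1], [0, 1], [0], [0, 1], [0, 1], [0, 1], [0, 1], [], [1], [1], [1], [], [], [0, 1], [], [0, 1], [0, 1], [0, 1], [1], [1], [1], [0, 1], [0, 1], [], [0, 1], [0, 1], [1], [], [], [], [0], [], [1], [1], [0], [0, 1], [0, 1], [0], [], [0], [1], [1], [1], [0], [0], [], [1], [0, 1], [0], [0, 1], [1], [0], [1], [1], [0,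 1], [1], [1], [0, 1], [0, 1], [0, 1], [1], [0, 1], [1], [], [0], [1], [0, 1], [0], [0, 1], [1], [1], [1], [1], [0, 1], [0], [1], [0], [0, 1], [0, 1], [0], [0, 1], [0, 1], [], [1], [0, 1], [0, 1], [0], [0], [1], [1], [1], [1], [0, 1], [0], [0], [1], [0], [0], [1], [0], [0, 1], [], [0, 1], [0, 1], [0, 1], [1], [1], [0, 1], [0], [1], [0, 1], [], [], [1], [1], [0, 1], [0], [1], [0, 1], [], [], [0, 1], [0, 1], [0], [0], [0], [1], [0], [0, 1], [0, 1], [0], [], [0], [0, 1], [0], [0], [1], [], [0], [0, 1], [1], [0], [1], [0], [1], [0, 1], [0, 1], [0, 1], [], [1], [0, 1], [0, 1], [0], [0, 1], [0], [1], [1], [], [], [0, 1], [], [0, 1], [1], [0, 1], [1], [1], [1], [0], [1], [1], [0, 1], [], [0, 1], [0, 1], [1], [], [1], [0, 1], [0, 1], [1], [0, 1], [1], [0], [0], [1], [0], [0, 1], [], [0, 1], [1], [0], [0, 1], [0, 1], [1], [1], [1], [0], [1], [1], [0, 1], [0], [0, 1], [0, 1], [1], [0], [1], [0, 1], [1], [1], [0], [0, 1], [0], [1], [0],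 [0], [0], [], [0], [1], [1], [], [0], [0, 1], [0, 1], [0, 1], [1], [0, 1], [], [0, 1], [0, 1], [1], [0], [0], [0], [1], [0], [0, 1], [0, 1], [], [0], [], [0, 1], [0, 1], [1], [0], [1], [0, 1], [0, 1], [0, 1], [], [0, 1], [], [1], [0, 1], [], [], [0], [], [1], [1], [], [0, 1], [0, 1], [], [1], [], [], [], [0, 1], [1], [0, 1], [0], [1], [0], [0], [0], [], [], [1], [], [0, 1], [0, 1], [0], [1], [1], [1], [1], [], [0, 1], [0], [0, 1], [1], [0], [], [1], [], [1], [0], [0, 1], [0, 1], [0, 1], [], [1], [], [0], [0, 1], [0, 1], [0], [0, 1], [0], [1], [0], [1], [], [], [0], [1], [0, 1], [1], [1], [1], [1], [0, 1], [1], [], [1], [1], [1], [0], [1], [1], [], [], [], [], [], [0, 1], [0], [0, 1], [], [], [0], [1], [0, 1], [1], [1], [0, 1], [], [0, 1], [1], [0], [], [0, 1], [0, 1], [0], [0], [0, 1], [0, 1], [1], [0, 1], [], [1], [0, 1], [1], [], [], [], [0, 1], [0, 1], [0], [], [0], [], [0], [0, 1], [], [1], [0], [], [], [0], [0, 1], [],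 [0], [], [0, 1], [0, 1], [1], [1], [0], [0], [], [1], [0], [1], [0], [0, 1], [1], [0], [], [0, 1], [0, 1], [0, 1], [], [], [0, 1], [], [], [1], [1], [], [], [0], [0, 1], [0], [1], [], [0, 1], [], [1], [0, 1], [1], [1], [0, 1], [0, 1], [0], [], [1], [1], [], [], [1], [1], [1], [0], [0, 1], [0], [0, 1], [0], [0], [1], [], [0], [0], [0], [1], [0, 1], [1], [0, 1], [], [0], [], [0], [0], [1], [0, 1], [], [0, 1], [], [0], [], [1], [0], [], [1], [0, 1], [0, 1], [1], [1], [1], [], [1], [0], [0], [], [1], [], [], [1], [1], [1], [], [0], [], [0], [], [1], [0, 1], [0, 1], [], [1], [0, 1], [0], [1], [], [], [], [], [0, 1], [], [], [], [], [0, 1], [0, 1], [0], [0, 1], [], [0], [0], [1], [1], [0, 1], [], [1], [0, 1], [0, 1], [0, 1], [1], [1], [1], [1], [1], [1], [0, 1], [1], [1], [0, 1], [0], [1], [1], [0, 1], [0], [0, 1], [], [1], [0], [], [0], [], [0], [1], [0], [0, 1], [1], [], [0, 1], [], [1], [1], [0], [1], [0], [0], [], [1], [0, 1],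 [0, 1], [1], [], [0], [], [0, 1], [0, 1], [1], [0], [], [], [0], [0, 1], [], [0, 1], [1], [0], [0], [0, 1], [1], [0, 1], [], [0], [1], [], [], [1], [], [1], [], [0, 1], [], [1], [1], [1], [0, 1], [], [1], [1], [], [], [], [0], [0], [], [0], [0], [0], [0], [1], [0, 1], [0, 1], [1], [0, 1], [0], [1], [0], [], [], [0], [1], [0, 1], [0, 1], [1], [0, 1], [0, 1], [1], [], [0], [], [], [0], [1], [], [1], [], [1], [], [1], [], [1], [0, 1], [0], [0], [0], [1], [], [0], [], [], [0], [], [1], [0], [1], [0, 1], [0, 1], [0, 1], [1], [1], [0], [0, 1], [], [], [], [1], [], [], [], [0, 1], [], [], [0], [0, 1], [1], [0], [], [0, 1], [0, 1], [0], [0], [0], [1], [1], [], [], [1], [1], [1], [1], [1], [0], [0, 1], [0], [], [0], [], [1], [1], [], [], [0, 1], [1], [0], [0, 1], [0], [], [1], [], [1], [1], [0, 1], [0], [1], [], [1], [], [], [1], [1], [0], [1], [0, 1], [], [], [1], [1], [1], [], [], [0], [0, 1], [], [1], [], [1], [1], [0, 1], [], [0,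 1], [], [], [0, 1], [1], [1], [], [], [], [0], [], [1], [], [], [0, 1], [], [], [], [0, 1], [], [1], [0, 1], [1], [0], [], [0, 1], [1], [], [], [0, 1], [], [], [0, 1], [1], [0, 1], [1], [1], [], [], [0, 1], [], [0], [], [0], [], [0], [0], [0, 1], [0], [], [0, 1], [], [0], [0, 1], [], [0, 1], [0], [1], [], [0], [0, 1], [0], [1], [0], [0], [0], [0], [], [0, 1], [0], [0, 1], [1], [], [0, 1], [0], [0], [0, 1], [1], [0], [0], [0], [1], [0, 1], [1], [0], [1], [0, 1], [], [1], [], [0, 1], [], [0], [1], [0], [], [1], [0, 1], [0], [], [1], [0], [1], [], [0, 1], [0], [], [], [1], [1], [1], [], [1], [1], [1], [], [], [0], [], [1], [], [0], [1], [], [0], [], [], [0], [1], [], [0, 1], [0, 1], [1], [], [1], [], [1], [], [0], [0], [1], [], [0], [0], [0], [1], [], [], [], [0], [], [], [], [0, 1], [0], [1], [0], [], [0], [], [1], [1], [], [], [], [1], [1], [], [0], [], [0], [0], [1], [1], [0], [1], [], [], [], [0, 1], [], [0], [1], [], [],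 [], [0, 1], [], [], [], [], [0], [0], [1], [], [1], [0, 1], [], [0, 1], [1], [0], [0], [0], [], [], [0], [], [1], [0], [], [], [], [0], [0], [1], [0, 1], [0], [], [0, 1], [0], [], [0, 1], [], [], [1], [], [], [], [1], [], [1], [], [0, 1], [], [1], [0], [0], [1], [], [], [], [0], [], [0], [0], [], [], [1], [0], [], [0, 1], [], [1], [0], [0], [], [0], [1], [], [], [0], [0], [1], [0, 1], [1], [0, 1], [0], [], [0], [0, 1], [], [], [1], [], [0], [], [], [0], [1], [], [], [], [], [0], [1], [0, 1], [1], [1], [0, 1], [1], [1], [0], [], [], [1], [], [0], [], [], [], [], [], [], [0], [1], [1], [], [0], [], [], [1], [], [0], [0, 1], [], [0], [0], [], [0, 1], [], [0], [], [0], [], [1], [1], [], [], [], [0], [], [], [], [0], [0], [], [0], [], [], [1], [0], [0], [], [0], [1], [1], [0], [], [0], [], [0, 1], [], [1], [], [1], [0, 1], [], [0], [], [1], [0], [], [], [], [0, 1], [1], [0], [], [1], [], [], [], [], [], [0], [], [], [], [], [0],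 [0, 1], [0], [], [0], [0], [0], [], [], [1], [], [], [1], [], [0], [0], [1], [], [], [], [], [0], [], [0], [], [], [1], [], [], [], [0], [], [], [0], [], [0], [], [], [], [], [], [0], [1], [], [1], [], [], [], [0, 1], [0, 1], [1], [0], [], [1], [], [0, 1], [0], [1], [], [], [1], [0], [0], [], [], [0], [], [], [], [], [], [0], [], [0], [1], [], [0], [], [0], [0, 1], [0], [1], [], [], [1], [], [], [1], [1], [1], [0], [], [1], [], [], [0, 1], [0], [1], [], [], [1], [], [0], [0, 1], [0], [1], [], [], [], [], [], [], [1], [], [], [], [], [], [], [], [0], [], [1], [1], [1], [0], [], [], [], [], [1], [1], [0], [0, 1], [1], [1], [], [], [], [0], [1], [1], [0], [], [], [], [], [0], [0], [], [1], [0, 1], [1], [], [0], [], [0, 1], [0], [0], [0], [], [0], [], [1], [], [1], [], [], [0, 1], [0], [0], [], [], [], [], [], [1], [0, 1], [], [], [0], [0, 1], [0], [], [], [1], [], [], [], [1], [0], [], [0], [1], [1], [], [], [0, 1], [], [], [],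 [], [1], [], [], [1], [], [], [], [], [], [1], [1], [], [], [], [], [], [0], [1], [], [], [0], [0], [], [], [0], [], [1], [0], [0], [], [0], [], [], [], [], [], [1], [0], [], [], [], [], [], [], [], [], [0, 1], [1], [], [], [], [], [1], [1], [], [1], [], [], [], [1], [], [], [], [], [], [], [1], [], [], [], [1], [], [], [], [], [], [], [0], [], [], [], [], [], [], [], [], [], [1], [], [], [], [0], [1], [], [], [], [0], [], [], [], [], [], [], [0, 1], [0], [], [], [1], [1], [], [], [0], [1], [1], [], [], [1], [], [], [], [], [], [], [], [], [], [0], [], [], [], [], [], [], [], [0], [], [], [], [], [], [0], [], [1], [], [], [1], [], [], [], [1], [1], [1], [0], [1], [], [], [], [], [1], [], [], [], [], [], [], [], [], [], [0], [], [], [], [], [], [1], [], [0], [0], [1], [], [], [], [], [], [1], [], [0], [], [], [1], [1], [], [], [], [], [0], [], [], [0], [], [], [], [0], [1], [0], [], [], [], [0], [], [], [], [], [], [], [],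 [], [0], [], [], [0], [], [0, 1], [], [], [], [1], [], [0], [0], [], [0, 1], [0], [0], [], [], [], [], [1], [1], [0], [], [], [], [], [], [], [1], [], [1], [], [], [], [1], [], [], [1], [], [], [], [], [], [], [], [], [], [], [], [], [], [], [], [1], [], [], [1], [], [], [], [0], [], [], [0], [1], [], [0], [], [], [], [], [1], [], [1], [], [1], [], [], [], [0], [], [], [], [], [0], [0], [], [0], [], [0], [], [], [], [1], [], [], [], [0, 1], [], [], [], [], [1], [], [], [], [], [], [], [], [], [1], [], [], [], [], [], [], [], [], [], [], [], [], [], [], [], [], [], [], [], [], [], [1], [], [], [1], [], [], [], [], [], [], [], [], [], [], [], [], [], [], [], [], [], [], [], [], [], [], [], [], [], [], [0], [], [], [0], [], [], [], [], [], [], [], [], [1], [], [], [], [], [], [], [], [], [1], [1], [], [0], [], [], [], [], [0], [], [], [0, 1], [], [], [], [], [], [], [], [], [], [1], [0], [], [], [0], [], [], [1], [0], [], [],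 [], [], [0], [], [], [], [], [], [], [], [0], [0], [], [], [], [], [], [], [], [], [], [], [], [], [], [], [], [], [], [], [], [], [], [], [], [], [0], [], [1], [], [], [], [], [], [], [], [], [], [], [], [], [], [], [], [], [], [], [], [], [], [], [], [], [1], [], [], [], [], [], [], [], [], [0], [], [], [0], [], [], [], [], [], [], [], [1], [], [], [], [], [], [], [], [0], [1], [], [], [], [1], [], [], [], [], [], [], [], [], [1], [], [], [], [], [], [], [1], [], [], [], [], [], [], [], [], [], [], [], [], [], [1], [], [], [], [], [], [1], [0], [], [], [], [], [], [], [], [], [], [1], [0], [], [], [], [0], [], [], [], [], [], [], [], [], [], [1], [], [], [], [], [], [], [], [], [], [], [], [], [], [], [], [], [], [], [], [], [], [], [], [], [], [1], [], [], [], [], [], [], [0], [], [], [], [], [], [], [], [], [], [], [], [], [], [], [], [], [], [], [], [], [], [], [], [], [], [0], [], [], [], [], [], [], [], [], [], [],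 [], [], [], [], [], [], [], [], [], [], [], [], [], [], [], [], [], [], [], [], [], [], [], [], [], [], [], [], [], [], [], [], [], [], [], [], [], [], [], [], [], [], [], [], [], [], [0]]]

def octrio_sizes : Fin 3 → ℕ := ![15, 420, 3360]

abbrev octrio_model := (famModel 1222356008 2147483647 2097152)

set_option maxRecDepth 1000000 in
set_option maxHeartbeats 4000000 in
theorem octrio_check : distinctAux (((List.ofFn fun i => octrio_model.nodes oc_tabs (octrio_roots i)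
    (octrio_certs i)).flatten).map octrio_model.code) 0 = true := by
  decide +kernel

set_option maxRecDepth 1000000 in
set_option maxHeartbeats 4000000 in
theorem octrio_len : ∀ i, (octrio_model.nodes oc_tabs (octrio_roots i) (octrio_certs i)).length =
    octrio_sizes i := by
  decide +kernel

set_option maxRecDepth 1000000 in
set_option maxHeartbeats 4000000 in
theorem octrio_rootcheck : ∀ i, IsTrioList (octrio_roots i) := by
  decide +kernel
def ocsext_roots : Fin 3 → List (List ℕ) := ![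
  [[0, 1, 2, 3], [4, 7, 10, 12], [8, 15, 16, 19], [13, 18, 20, 21], [6, 9, 11, 22], [5, 14, 17, 23]],
  [[0, 1, 4, 6], [7, 11, 13, 18], [2, 8, 14, 20], [3, 5, 16, 21], [10, 15, 19, 22], [9, 12, 17, 23]],
  [[0, 1, 2, 4], [3, 7, 10, 12], [5, 9, 18, 19], [6, 8, 14, 20], [11, 15, 17, 21], [13, 16, 22, 23]]]

def ocsext_certs : Fin 3 → List (List ℕ) := ![
  [[1], [0, 1], [0, 1], [0, 1], [0, 1], [0, 1], [1], [0, 1], [0, 1], [0, 1], [0], [], [0, 1], [1], [1], [0, 1], [0, 1], [], [0], [], [1], [], [1], [], [], [1], [0, 1], [0]],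
  [[0, 1], [0, 1], [0, 1], [0, 1], [0, 1], [0, 1], [0, 1], [0, 1], [0, 1], [0, 1], [0, 1], [0, 1], [0, 1], [0, 1], [0, 1], [0, 1], [0, 1], [1], [0, 1], [0, 1], [0, 1], [0, 1], [0, 1], [0, 1], [0, 1], [0, 1], [0, 1], [0, 1], [0, 1], [1], [0, 1], [1], [0, 1], [0, 1], [0, 1], [0, 1], [0, 1], [0, 1], [0, 1], [0, 1], [0, 1], [0, 1], [0, 1], [0, 1], [0, 1], [0, 1], [0, 1], [0, 1], [0, 1], [0, 1], [0, 1], [0, 1], [0], [0], [0, 1], [0, 1], [0, 1], [0, 1], [0, 1], [0, 1], [0, 1], [0, 1], [1], [0, 1], [0, 1], [0, 1], [0, 1], [0], [0, 1], [0], [0, 1], [0], [0, 1], [0, 1], [0], [0, 1], [1], [0, 1], [0, 1], [0], [1], [0, 1], [0, 1], [0, 1], [0, 1], [0, 1], [0, 1], [0, 1], [0, 1], [0, 1], [1], [0, 1], [0, 1], [0, 1], [1], [0, 1], [0, 1], [0, 1], [0, 1], [1], [0, 1], [0, 1], [0, 1], [0], [0, 1], [0], [1], [0, 1], [1], [1], [0, 1], [0], [0, 1], [0, 1], [], [0, 1], [1], [0, 1], [0, 1], [0, 1], [0], [0, 1], [0, 1], [0], [0], [0, 1], [0, 1],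 [0, 1], [0, 1], [0, 1], [], [0, 1], [0, 1], [0, 1], [0], [0, 1], [1], [0, 1], [0], [0], [1], [0, 1], [0, 1], [0], [0, 1], [0, 1], [0, 1], [0, 1], [0, 1], [0], [1], [], [0, 1], [0, 1], [0], [1], [1], [1], [0, 1], [0, 1], [0, 1], [0, 1], [0, 1], [0, 1], [1], [1], [0, 1], [0, 1], [0, 1], [0], [0], [0, 1], [0, 1], [0, 1], [], [0], [0, 1], [1], [0, 1], [0, 1], [0, 1], [0], [1], [0], [0, 1], [0], [0, 1], [0], [0, 1], [0], [0, 1], [], [1], [0], [0, 1], [0, 1], [1], [0, 1], [0, 1], [0, 1], [1], [0, 1], [0, 1], [0, 1], [0], [0, 1], [0, 1], [0, 1], [0, 1], [0, 1], [0, 1], [], [1], [0, 1], [0, 1], [], [0, 1], [0, 1], [1], [0, 1], [0, 1], [0, 1], [0, 1], [1], [1], [0, 1], [1], [], [1], [0, 1], [0, 1], [0, 1], [0, 1], [1], [0], [1], [0], [1], [0, 1], [1], [0, 1], [0, 1], [0, 1], [0], [0, 1], [], [1], [0], [1], [0, 1], [0, 1], [0, 1], [0, 1], [0, 1], [], [0, 1], [0], [0, 1], [0], [0, 1], [0, 1], [0], [0, 1], [0, 1], [0, 1], [1], [1], [0],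 [0, 1], [0], [1], [1], [0, 1], [0], [0, 1], [0], [0, 1], [], [1], [1], [0, 1], [1], [1], [1], [1], [0], [0, 1], [], [0, 1], [1], [0], [0, 1], [1], [1], [0, 1], [1], [0, 1], [1], [0, 1], [1], [0], [0, 1], [1], [0, 1], [0, 1], [0], [1], [0, 1], [1], [0, 1], [1], [1], [0, 1], [0, 1], [1], [0, 1], [0, 1], [1], [0], [0, 1], [1], [0], [], [0, 1], [0, 1], [0, 1], [], [1], [0], [0], [], [0], [1], [0], [], [1], [1], [1], [0, 1], [0, 1], [1], [1], [0, 1], [1], [1], [0, 1], [0, 1], [1], [], [0, 1], [], [1], [0, 1], [0], [0, 1], [0, 1], [1], [1], [1], [1], [0], [0, 1], [1], [0, 1], [1], [], [0, 1], [1], [], [], [0], [0], [], [0, 1], [], [1], [1], [0, 1], [1], [0], [0, 1], [], [0, 1], [0], [1], [0], [0, 1], [], [1], [0, 1], [0], [0, 1], [0], [], [0], [1], [0], [], [0, 1], [0], [0], [0], [0], [1], [1], [0], [0], [0, 1], [0, 1], [0], [], [1], [], [0, 1], [1], [0], [], [1], [], [0, 1], [1], [], [1], [1], [], [0], [1], [0, 1], [], [0], [],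 [], [0, 1], [0, 1], [], [1], [1], [], [1], [1], [], [0], [0, 1], [1], [1], [0, 1], [0], [], [], [0, 1], [1], [], [0], [0], [], [1], [], [1], [1], [0, 1], [], [0, 1], [], [], [0, 1], [0], [1], [1], [], [0, 1], [], [1], [], [0], [0, 1], [0, 1], [0], [1], [0, 1], [1], [0], [], [0, 1], [1], [], [0], [1], [], [], [0], [1], [], [0, 1], [0], [0], [], [1], [1], [0], [0, 1], [], [0], [0, 1], [], [0, 1], [0], [0, 1], [0], [], [], [], [0, 1], [], [], [], [1], [], [], [1], [], [1], [], [], [0, 1], [], [0], [0, 1], [], [], [0, 1], [1], [], [1], [0], [0, 1], [0], [0], [0, 1], [], [1], [], [1], [0], [1], [0], [0], [], [0], [], [1], [], [0, 1], [1], [], [0], [1], [], [1], [0], [0], [], [0], [0, 1], [], [], [1], [1], [1], [1], [], [1], [], [], [], [0, 1], [1], [1], [1], [], [], [0], [], [1], [0], [], [], [1], [], [0], [0, 1], [0], [], [], [0], [], [0], [0, 1], [], [1], [0], [], [], [], [0], [], [], [], [1], [], [0], [1], [], [0], [], [0, 1],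 [0], [1], [0, 1], [1], [], [], [1], [0], [1], [1], [0], [0], [1], [1], [], [0], [], [0, 1], [], [], [], [0], [0, 1], [], [1], [], [0, 1], [], [], [1], [], [], [], [], [0], [], [], [], [1], [0], [], [0], [0], [], [], [0, 1], [], [], [1], [1], [], [], [1], [1], [], [1], [], [], [], [], [1], [], [], [], [], [], [], [], [], [0, 1], [1], [], [1], [], [0], [1], [], [0], [0, 1], [1], [1], [], [], [], [], [], [], [], [], [], [1], [], [], [], [], [], [], [], [0], [], [], [1], [], [], [], [], [0], [], [], [], [], [], [], [], [], [0, 1], [], [], [0], [], [0], [], [], [], [0], [], [], [], [0, 1], [], [], [], [], [0], [], [], [1], [], [], [], [0], [], [], [], [], [], [], [], [], [], [], [], [0, 1], [], [], [], [], [], [], [], [], [], [0], [], [0], [], [1], [], [], [], [0], [], [], [], [], [], [], [], [], [], [], [], [], [], [], [], [], [0], [], [0], [], [], [], [0]],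
  [[0, 1], [0, 1], [0, 1], [0, 1], [0, 1], [0, 1], [0, 1], [0, 1], [0, 1], [0, 1], [0, 1], [0, 1], [0, 1], [0, 1], [0, 1], [0, 1], [0, 1], [1], [0, 1], [0, 1], [0, 1], [0, 1], [0, 1], [0, 1], [0, 1], [0, 1], [0, 1], [1], [0, 1], [0, 1], [0, 1], [1], [0, 1], [0, 1], [0, 1], [0, 1], [0, 1], [0, 1], [0, 1], [0, 1], [0, 1], [0, 1], [0, 1], [0, 1], [0, 1], [0, 1], [0, 1], [0, 1], [0], [0, 1], [0, 1], [], [0, 1], [0, 1], [0], [0, 1], [0, 1], [0, 1], [0, 1], [0], [0, 1], [0, 1], [0, 1], [0, 1], [0, 1], [0, 1], [0, 1], [0], [0, 1], [0, 1], [0, 1], [1], [0, 1], [0, 1], [0], [0, 1], [0, 1], [0, 1], [0, 1], [0, 1], [0, 1], [0, 1], [0, 1], [0, 1], [1], [0, 1], [0, 1], [0, 1], [0, 1], [0, 1], [1], [], [0, 1], [0, 1], [0, 1], [0], [0, 1], [0, 1], [0, 1], [0, 1], [0, 1], [0], [0, 1], [1], [0, 1], [0, 1], [0, 1], [1], [0, 1], [0, 1], [0, 1], [0, 1], [0, 1], [0, 1], [0, 1], [0, 1], [0, 1], [0, 1], [0], [0, 1], [0, 1], [0, 1], [0, 1], [0, 1],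 [0, 1], [0], [0, 1], [1], [0, 1], [0, 1], [0, 1], [0, 1], [0], [0, 1], [0, 1], [0, 1], [0, 1], [0, 1], [0, 1], [1], [0, 1], [0, 1], [0, 1], [0, 1], [0, 1], [1], [0, 1], [0, 1], [0, 1], [0, 1], [], [0, 1], [0, 1], [0, 1], [0, 1], [0], [0, 1], [0, 1], [0, 1], [0, 1], [0, 1], [1], [0, 1], [0, 1], [1], [0, 1], [0, 1], [0, 1], [0, 1], [0, 1], [1], [1], [0, 1], [0, 1], [0, 1], [0, 1], [0, 1], [0], [0, 1], [0, 1], [0, 1], [], [0], [0, 1], [0, 1], [0, 1], [0, 1], [0, 1], [1], [0, 1], [0, 1], [], [0], [0, 1], [0, 1], [1], [0, 1], [0, 1], [0], [], [0, 1], [0, 1], [0], [1], [0], [0], [0, 1], [0], [0, 1], [1], [0, 1], [0, 1], [0], [0, 1], [0], [0], [], [0, 1], [0], [0, 1], [1], [0, 1], [0, 1], [0, 1], [0, 1], [0, 1], [0], [1], [0, 1], [0, 1], [], [0, 1], [0], [0, 1], [0, 1], [1], [0, 1], [1], [1], [1], [0, 1], [1], [0, 1], [0], [0, 1], [0], [0, 1], [0], [0, 1], [0, 1], [0, 1], [0, 1], [0, 1], [0], [0, 1], [0, 1], [0, 1], [0, 1], [1],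 [0], [1], [], [], [1], [1], [0, 1], [0, 1], [0, 1], [0, 1], [0, 1], [0, 1], [0], [], [0, 1], [1], [0, 1], [0, 1], [0, 1], [0, 1], [], [0, 1], [], [1], [0, 1], [0, 1], [1], [0, 1], [0, 1], [0], [1], [0], [0, 1], [], [0, 1], [0, 1], [0, 1], [0], [0, 1], [0, 1], [0], [0, 1], [0, 1], [0, 1], [0], [0], [0, 1], [0, 1], [0], [0], [0, 1], [1], [0, 1], [0], [0], [], [0], [1], [1], [1], [0, 1], [0, 1], [0], [0, 1], [0, 1], [1], [], [], [0, 1], [1], [], [0, 1], [1], [1], [0, 1], [1], [0], [], [0], [0, 1], [0, 1], [0, 1], [0], [0, 1], [1], [1], [0], [1], [0, 1], [], [0, 1], [1], [0, 1], [], [1], [0, 1], [0, 1], [1], [], [1], [], [1], [1], [0], [1], [], [0, 1], [0], [1], [0], [0, 1], [1], [1], [1], [], [0, 1], [], [0, 1], [], [0, 1], [1], [0, 1], [1], [0, 1], [0, 1], [0], [0, 1], [1], [0, 1], [], [0, 1], [], [], [1], [0], [0], [0, 1], [0, 1], [0], [0], [0], [0, 1], [0], [], [0, 1], [], [0, 1], [0], [], [0], [], [], [1], [], [1], [], [],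 [0], [0, 1], [0], [0, 1], [], [1], [0], [], [1], [0], [0], [0, 1], [], [1], [0, 1], [0, 1], [], [1], [0, 1], [1], [1], [], [1], [1], [1], [0], [1], [0, 1], [0], [0, 1], [0, 1], [], [0], [1], [0, 1], [], [], [0], [1], [1], [1], [1], [0], [], [], [], [], [], [1], [0, 1], [1], [1], [1], [0, 1], [], [0], [0], [], [0], [0], [0, 1], [], [1], [1], [0], [1], [0, 1], [], [0], [0], [], [0, 1], [0], [0], [], [0], [], [1], [0, 1], [], [], [0], [0, 1], [0], [1], [0, 1], [1], [], [0, 1], [0], [], [], [1], [], [0], [], [], [0, 1], [1], [1], [0, 1], [1], [1], [0, 1], [0], [], [0], [0, 1], [1], [], [0, 1], [0], [0, 1], [0], [0, 1], [], [], [1], [1], [0, 1], [0], [0], [0], [], [], [0], [], [0, 1], [0], [], [], [1], [0, 1], [0], [], [1], [0, 1], [0], [1], [], [], [0], [], [0, 1], [0], [], [0, 1], [], [1], [0], [], [], [0], [0, 1], [], [], [0, 1], [1], [], [1], [1], [0], [0], [], [], [], [], [1], [], [0], [], [0, 1], [], [], [0], [], [], [0],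 [0, 1], [], [1], [0], [0, 1], [], [1], [0], [0, 1], [], [], [], [0, 1], [], [0], [0, 1], [], [1], [0], [], [1], [], [1], [1], [0], [1], [], [0], [], [], [], [], [], [1], [], [1], [], [], [], [1], [0], [], [], [], [0, 1], [0], [1], [], [], [0], [0, 1], [], [], [0, 1], [0], [], [], [1], [], [], [0], [0], [], [1], [], [], [], [0], [0], [], [0, 1], [1], [0], [], [0, 1], [0], [], [], [], [], [], [], [], [], [], [0], [0], [0], [0], [1], [], [], [1], [1], [0, 1], [1], [], [1], [0, 1], [], [], [0], [], [], [1], [0], [], [], [], [], [], [], [0], [], [], [0], [], [1], [], [1], [1], [], [1], [], [], [], [], [0, 1], [1], [], [], [], [], [], [], [], [], [], [], [], [0], [], [], [], [], [], [], [1], [], [], [], [0], [], [], [1], [], [], [1], [], [1], [0], [], [0], [1], [1], [], [], [], [], [1], [], [], [], [], [0], [1], [], [], [], [], [], [], [], [], [], [], [0], [], [0], [], [], [], [], [], [], [], [], [], [], [], [], [0], [], [0, 1],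 [], [], [], [], [], [], [], [1], [], [], [], [], [0], [], [], [], [1], [], [], [1], [], [], [1], [1], [], [], [], [], [], [], [], [], [], [], [], [], [], [], [], [0], [], [], [], [], [], [0], [1], [], [], [], [], [], [], [], [0], [], [], [0], [], [], [], [1], [], [], [], [], [], [], [], [], [], [], [], [], [], [], [], [], [], [], [], [], [1]]]

def ocsext_sizes : Fin 3 → ℕ := ![35, 840, 896]

abbrev ocsext_model := (famModel 1722851099 2147483647 2097152)

set_option maxRecDepth 1000000 in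
set_option maxHeartbeats 4000000 in
theorem ocsext_check : distinctAux (((List.ofFn fun i => ocsext_model.nodes oc_tabs (ocsext_roots i)
    (ocsext_certs i)).flatten).map ocsext_model.code) 0 = true := by
  decide +kernel

set_option maxRecDepth 1000000 in
set_option maxHeartbeats 4000000 in
theorem ocsext_len : ∀ i, (ocsext_model.nodes oc_tabs (ocsext_roots i) (ocsext_certs i)).length =
    ocsext_sizes i := by
  decide +kernel

set_option maxRecDepth 1000000 in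
set_option maxHeartbeats 4000000 in
theorem ocsext_rootcheck : ∀ i, IsSextetList (ocsext_roots i) := by
  decide +kernel

end Cfsg.Agent.Lib.Helper28
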