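import Cfsg.Agent.Lib.Helper28.FamCheck

set_option autoImplicit false

/-!
Orbit certificates for the stabilizer of a sextet on octads, trios and sextets.
-/

namespace Cfsg.Agent.Lib.Helper28

open Cfsg MulAction
open scoped Pointwise

def sx_tabs : List ℕ := [937413104379707079072079748855742884, 930031255473145121592313760652145808]

def sx_base : List (List ℕ) := [[3, 5, 14, 17], [8, 11, 12, 18], [9, 10, 15, 20], [6, 7, 19, 21], [4, 13, 16, 22], [0, 1, 2, 23]]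

set_option maxRecDepth 1000000 in
set_option maxHeartbeats 4000000 in
theorem sx_base_check : IsSextetList sx_base := by
  decide +kernel

set_option maxRecDepth 1000000 in
set_option maxHeartbeats 4000000 in
theorem sx_tabs_check : ∀ t ∈ sx_tabs, TabM24 t ∧ famSubB (stepFam t sx_base) sx_base = true := by
  decide +kernel

def sxoct_roots : Fin 3 → List ℕ := ![
  [0, 1, 2, 3, 5, 14, 17, 23],
  [0, 1, 3, 4, 5, 6, 16, 21],
  [0, 1, 2, 3, 4, 7, 10, 12]]

def sxoct_certs : Fin 3 → List (List ℕ) := ![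
  [[0, 1], [0], [0, 1], [1], [0, 1], [0], [1], [1], [0], [], [], [0], [], [0]],
  [[0, 1], [0, 1], [0, 1], [0, 1], [0, 1], [0, 1], [0, 1], [0, 1], [0, 1], [0, 1], [0, 1], [0, 1], [0, 1], [0, 1], [0, 1], [0, 1], [0, 1], [0, 1], [0, 1], [0, 1], [0, 1], [0, 1], [0, 1], [0, 1], [0, 1], [0, 1], [0, 1], [0, 1], [0, 1], [0, 1], [0, 1], [1], [0, 1], [0, 1], [0, 1], [0, 1], [0, 1], [0, 1], [0, 1], [0, 1], [0, 1], [0, 1], [0, 1], [0, 1], [0, 1], [0, 1], [1], [0, 1], [0], [1], [0, 1], [0], [0, 1], [0, 1], [1], [0, 1], [0, 1], [0], [1], [0, 1], [], [0, 1], [0], [0, 1], [0, 1], [0], [1], [0, 1], [0, 1], [0, 1], [1], [1], [0, 1], [0, 1], [0, 1], [0, 1], [1], [1], [1], [0, 1], [0, 1], [], [1], [], [0, 1], [0], [1], [], [0, 1], [], [1], [1], [0], [1], [0, 1], [0, 1], [1], [0, 1], [0], [1], [1], [], [0], [0, 1], [0], [0, 1], [0, 1], [0, 1], [0, 1], [0], [0], [1], [0, 1], [0], [1], [0, 1], [0, 1], [], [0], [0, 1], [0], [0, 1], [0], [1],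 [0, 1], [0, 1], [0], [0], [0, 1], [], [0, 1], [0], [0, 1], [1], [0, 1], [], [], [0, 1], [0], [0], [1], [], [0], [1], [], [0], [0, 1], [1], [0, 1], [0, 1], [1], [1], [1], [0, 1], [1], [], [1], [0, 1], [], [0], [0], [1], [0], [0], [0, 1], [0], [0, 1], [0], [], [1], [1], [], [1], [0], [0], [], [], [1], [1], [0], [1], [0, 1], [], [0, 1], [1], [0, 1], [], [0], [1], [1], [0], [0], [0], [0, 1], [0], [], [0, 1], [0, 1], [0, 1], [], [], [0, 1], [0, 1], [], [], [0, 1], [0], [0], [0, 1], [], [0], [0], [0], [], [0], [0], [0], [0, 1], [0], [], [0], [1], [0], [1], [0], [], [0], [], [0], [1], [0], [], [], [0], [0], [], [], [0], [0], [0], [], [], [1], [], [1], [0, 1], [0, 1], [], [0], [0], [0], [], [0, 1], [1], [], [], [0], [0], [], [], [0], [], [0], [1], [], [], [], [1], [], [0, 1], [1], [], [], [], [0], [], [1], [], [0], [], [0, 1], [], [], [0], [], [], [0], [0], [], [1], [1], [], [], [1], [], [0], [], [1], [0, 1], [], [1], [1], [1],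 [0], [1], [], [], [], [], [1], [], [], [], [], [], [], [], [], [], [0], [], [1], [], [0], [], [], [], [], [], [], [], [], [], [], [1], [], [], [], [], [], [], [], [], [1], [], [], [], [0]],
  [[0, 1], [0, 1], [0, 1], [0, 1], [0, 1], [0, 1], [0, 1], [0, 1], [0, 1], [0, 1], [0, 1], [0, 1], [0, 1], [0, 1], [0, 1], [0, 1], [0, 1], [0, 1], [0, 1], [0, 1], [0, 1], [0], [0, 1], [0, 1], [0, 1], [0, 1], [0, 1], [0], [0], [0], [0, 1], [], [0], [0, 1], [0, 1], [0, 1], [0, 1], [0, 1], [0, 1], [0, 1], [0, 1], [0, 1], [0, 1], [0, 1], [0, 1], [0, 1], [1], [0, 1], [1], [0, 1], [0, 1], [0, 1], [0, 1], [0, 1], [1], [0, 1], [0, 1], [0, 1], [], [0, 1], [0, 1], [0, 1], [1], [0, 1], [0, 1], [0, 1], [0], [0, 1], [1], [0, 1], [0, 1], [0], [0, 1], [0], [0, 1], [0, 1], [0, 1], [0, 1], [0, 1], [1], [0, 1], [0, 1], [1], [0, 1], [0], [], [0, 1], [0, 1], [0], [0, 1], [], [0, 1], [0, 1], [0, 1], [1], [1], [0], [0, 1], [0, 1], [0], [0], [0], [1], [0],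 [0, 1], [0, 1], [1], [0, 1], [0, 1], [0, 1], [0, 1], [0, 1], [0, 1], [0, 1], [0, 1], [0, 1], [0, 1], [0], [0, 1], [1], [0], [0, 1], [0, 1], [1], [0, 1], [0, 1], [], [0], [0], [1], [0, 1], [], [0, 1], [], [0, 1], [1], [0, 1], [0, 1], [0, 1], [1], [0, 1], [1], [0], [], [0], [0, 1], [0], [0], [0], [1], [1], [0], [0], [1], [0, 1], [1], [0, 1], [0, 1], [0], [0, 1], [0], [0], [0, 1], [1], [0, 1], [0, 1], [0, 1], [1], [0, 1], [], [0, 1], [], [], [0], [1], [1], [], [1], [1], [0], [1], [0, 1], [0, 1], [0], [0, 1], [1], [0, 1], [1], [], [1], [0], [1], [0], [], [0], [0, 1], [1], [1], [0], [], [0, 1], [], [1], [0], [], [1], [0], [1], [0, 1], [0], [], [0, 1], [], [1], [], [0, 1], [], [0, 1], [1], [1], [1], [0], [0, 1], [], [], [], [], [1], [], [1], [0], [], [1], [1], [], [1], [1], [1], [1], [0], [], [1], [1], [1], [], [], [], [], [0, 1], [0, 1], [], [], [], [], [0, 1], [1], [], [], [], [], [1], [], [], [], [0], [0], [], [], [], [],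 [], [0, 1], [], [], [], [], [], [], [1], [], [], [], [], [], [], [], [0], [], [1], [], [], [1], [], [1], [0, 1], [], [0], [1], [0], [], [], [0], [], [0], [], [0], [0], [], [], [], [0], [0, 1], [], [0, 1], [], [], [], [1], [], [], [1], [0], [], [0], [0], [], [], [], [], [], [], [0], [0, 1], [], [1], [], [1], [], [1], [], [], [], [0, 1], [], [], [], [], [], [], [], [0], [], [], [], [1], [], [], [], [], [], [], [], [], [], [], [], [], [1]]]

def sxoct_sizes : Fin 3 → ℕ := ![15, 360, 384]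

abbrev sxoct_model := (setModel 35225 262139)

set_option maxRecDepth 1000000 in
set_option maxHeartbeats 4000000 in
theorem sxoct_check : distinctAux (((List.ofFn fun i => sxoct_model.nodes sx_tabs (sxoct_roots i)
    (sxoct_certs i)).flatten).map sxoct_model.code) 0 = true := by
  decide +kernel

set_option maxRecDepth 1000000 in
set_option maxHeartbeats 4000000 in
theorem sxoct_len : ∀ i, (sxoct_model.nodes sx_tabs (sxoct_roots i) (sxoct_certs i)).length =
    sxoct_sizes i := by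
  decide +kernel

set_option maxRecDepth 1000000 in
set_option maxHeartbeats 4000000 in
theorem sxoct_rootcheck : ∀ i, IsOctadList (sxoct_roots i) := by
  decide +kernel
def sxtrio_roots : Fin 4 → List (List ℕ) := ![
  [[8, 9, 10, 11, 12, 15, 18, 20], [4, 6, 7, 13, 16, 19, 21, 22], [0, 1, 2, 3, 5, 14, 17, 23]],
  [[9, 10, 11, 12, 13, 16, 19, 21], [4, 6, 7, 8, 15, 18, 20, 22], [0, 1, 2, 3, 5, 14, 17, 23]],
  [[0, 1, 3, 4, 5, 6, 16, 21], [10, 11, 12, 13, 14, 17, 20, 22], [2, 7, 8, 9, 15, 18, 19, 23]],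
  [[0, 1, 2, 3, 4, 7, 10, 12], [5, 6, 8, 9, 14, 18, 19, 20], [11, 13, 15, 16, 17, 21, 22, 23]]]

def sxtrio_certs : Fin 4 → List (List ℕ) := ![
  [[0], [0, 1], [1], [0], [0, 1], [0, 1], [0, 1], [0], [0], [1]],
  [[0, 1], [0, 1], [0, 1], [0, 1], [0, 1], [0, 1], [0, 1], [0, 1], [1], [0, 1], [0, 1], [0, 1], [0, 1], [0, 1], [0, 1], [1], [0, 1], [0, 1], [0, 1], [0, 1], [0, 1], [0, 1], [0, 1], [0, 1], [0, 1], [1], [1], [0, 1], [0, 1], [0, 1], [0, 1], [0, 1], [1], [0, 1], [0], [0, 1], [0, 1], [0], [0], [0, 1], [0, 1], [0, 1], [0, 1], [0, 1], [0, 1], [0, 1], [0, 1], [0, 1], [0, 1], [0, 1], [0], [1], [0, 1], [1], [0], [0], [0], [0], [0, 1], [1], [0], [0, 1], [1], [0], [1], [], [0], [], [0, 1], [1], [0], [0, 1], [], [1], [0], [1], [1], [], [0], [1], [0], [0], [0], [0], [1], [0, 1], [1], [0, 1], [1], [], [1], [0], [0, 1], [0, 1], [0, 1], [0, 1], [1], [1], [0, 1], [1], [], [0], [], [1], [], [0], [0, 1], [], [1], [], [1], [], [0, 1],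 [0], [], [], [0], [0, 1], [], [1], [], [0], [1], [0], [], [], [1], [], [1], [1], [], [0, 1], [], [], [], [], [], [], [], [1], [0], [1], [], [1], [], [1], [], [], [], [], [], [], [], [1], [], [], [], [], [], [0], [], [], [], [], [], [1]],
  [[0, 1], [0, 1], [0, 1], [0, 1], [0, 1], [0, 1], [0, 1], [1], [0, 1], [0, 1], [0, 1], [0, 1], [0, 1], [0, 1], [0, 1], [0, 1], [0, 1], [0], [0, 1], [0, 1], [0, 1], [0, 1], [0, 1], [0, 1], [0, 1], [0, 1], [0, 1], [0, 1], [1], [0, 1], [0, 1], [0, 1], [0, 1], [0, 1], [0, 1], [0, 1], [0, 1], [0, 1], [0, 1], [0, 1], [0, 1], [0, 1], [0, 1], [0, 1], [0, 1], [1], [0, 1], [0, 1], [0, 1], [0, 1], [0, 1], [0, 1], [0, 1], [0], [0, 1], [0, 1], [0, 1], [0], [1], [0, 1], [0, 1], [0, 1], [0, 1], [1], [0, 1], [1], [0, 1], [0, 1], [1], [0, 1], [1], [0, 1], [0, 1], [0], [0, 1], [0, 1], [0, 1], [0, 1], [0, 1], [1], [0, 1], [1], [0, 1], [0], [1], [0, 1], [0, 1], [0, 1], [0, 1], [0, 1], [0, 1], [0, 1], [0,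 1], [0, 1], [1], [0, 1], [0, 1], [1], [0, 1], [0], [0, 1], [0, 1], [0, 1], [0, 1], [0, 1], [0, 1], [0, 1], [0, 1], [0], [1], [0, 1], [0, 1], [0], [0, 1], [0, 1], [0, 1], [1], [0, 1], [0, 1], [0, 1], [0], [0, 1], [0], [0, 1], [0, 1], [0, 1], [0], [0, 1], [0, 1], [0, 1], [1], [0, 1], [0, 1], [0, 1], [0, 1], [0, 1], [0, 1], [0], [1], [0, 1], [0, 1], [0], [0, 1], [], [0, 1], [1], [0, 1], [0, 1], [1], [0, 1], [0, 1], [0, 1], [0, 1], [0, 1], [1], [0], [0, 1], [1], [0, 1], [0, 1], [0, 1], [0], [0, 1], [1], [0], [0, 1], [0], [0, 1], [0, 1], [0, 1], [0, 1], [0], [0], [0, 1], [0, 1], [0], [0], [0, 1], [1], [1], [0], [1], [1], [0], [0, 1], [0, 1], [0, 1], [0, 1], [1], [0, 1], [0, 1], [], [0], [0, 1], [0, 1], [1], [0, 1], [0], [0, 1], [0, 1], [0, 1], [0, 1], [0, 1], [0, 1], [0, 1], [0], [0, 1], [0], [0, 1], [0], [1], [0, 1], [0, 1], [0], [], [1], [0, 1], [], [], [0, 1], [1], [0, 1], [1], [0, 1], [], [0], [], [1], [], [0, 1], [0, 1],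 [0], [0, 1], [0, 1], [], [1], [0, 1], [0, 1], [], [0], [0, 1], [], [1], [1], [0], [0, 1], [0, 1], [1], [0, 1], [1], [0, 1], [0, 1], [0, 1], [0], [1], [0, 1], [0], [], [0, 1], [1], [1], [1], [], [0], [], [1], [1], [], [0, 1], [0, 1], [0, 1], [0, 1], [1], [0, 1], [0], [0], [0], [], [0, 1], [1], [0, 1], [1], [0, 1], [1], [0], [0], [1], [0], [0, 1], [0], [], [0], [1], [], [1], [0, 1], [1], [], [0, 1], [1], [1], [1], [0, 1], [0, 1], [1], [0, 1], [0, 1], [0], [0, 1], [], [1], [0], [0, 1], [], [0, 1], [0], [0], [1], [1], [0, 1], [0], [], [1], [0, 1], [1], [1], [0, 1], [], [0, 1], [0], [1], [1], [], [], [], [0, 1], [1], [0, 1], [0, 1], [1], [1], [1], [1], [0], [0], [1], [0], [0, 1], [0, 1], [], [0, 1], [0], [1], [1], [], [0], [1], [0], [], [0, 1], [0, 1], [0, 1], [1], [1], [0, 1], [0], [1], [1], [0, 1], [0, 1], [0], [], [0], [0], [0, 1], [], [1], [], [0, 1], [0], [0, 1], [], [1], [0], [1], [0], [0], [0, 1], [], [0], [1], [1], [],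 [], [1], [1], [0], [0], [0], [0, 1], [0], [], [0], [], [1], [0, 1], [1], [0, 1], [], [0, 1], [], [1], [], [0], [0], [1], [], [], [1], [], [1], [1], [], [0], [1], [0], [1], [], [], [], [1], [1], [0, 1], [], [], [0, 1], [], [], [1], [0], [], [0], [], [1], [0], [1], [], [], [0], [], [], [0, 1], [], [1], [1], [], [], [0, 1], [0, 1], [1], [], [0], [], [0], [0, 1], [0], [0], [1], [], [1], [1], [0], [], [], [0], [], [], [], [0, 1], [0], [0], [1], [1], [0], [0], [0, 1], [1], [], [1], [0], [0], [1], [0], [0, 1], [], [], [0], [0], [0], [], [], [0], [], [], [], [1], [0, 1], [0], [], [], [], [], [], [], [], [], [], [1], [], [], [0], [], [], [0, 1], [], [0, 1], [], [], [0, 1], [], [], [], [], [], [], [], [1], [], [0], [1], [], [], [0], [0], [], [0, 1], [], [], [1], [1], [], [], [], [1], [], [1], [0], [], [], [], [1], [], [], [0, 1], [], [1], [], [1], [], [], [], [1], [0], [], [], [0], [0], [], [], [], [], [], [0], [], [], [1], [1],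 [1], [0], [], [0], [], [0], [0], [1], [0], [1], [0, 1], [], [1], [], [0], [0], [1], [], [], [], [], [1], [], [], [], [], [], [0], [], [1], [], [], [], [0], [], [0], [0], [], [], [], [], [], [], [], [], [], [0], [], [0], [], [], [], [], [], [], [], [1], [1], [], [], [], [], [], [], [], [], [], [], [], [], [0, 1], [], [], [0], [], [], [0, 1], [], [], [], [], [], [], [], [], [], [1], [0]],
  [[0, 1], [0, 1], [0, 1], [0, 1], [0, 1], [0, 1], [0, 1], [0, 1], [0, 1], [0, 1], [0, 1], [0, 1], [0, 1], [0, 1], [0, 1], [0, 1], [0, 1], [0, 1], [0, 1], [0, 1], [0, 1], [0, 1], [0, 1], [0, 1], [0, 1], [0, 1], [0, 1], [0, 1], [0, 1], [0, 1], [0, 1], [1], [0, 1], [0, 1], [0, 1], [0, 1], [0, 1], [0, 1], [0, 1], [0, 1], [0, 1], [0, 1], [0, 1], [0, 1], [0, 1], [0, 1], [0, 1], [0, 1], [0, 1], [0, 1], [0, 1], [0, 1], [0, 1], [0, 1], [0, 1], [0, 1], [0, 1], [0, 1], [0, 1], [0, 1], [0, 1], [0, 1], [0], [0, 1], [0, 1], [0, 1], [0, 1], [0, 1], [0,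 1], [0], [0, 1], [0, 1], [0, 1], [0, 1], [0, 1], [0, 1], [0, 1], [0, 1], [0, 1], [0, 1], [0, 1], [0, 1], [0, 1], [0, 1], [0, 1], [0, 1], [0, 1], [0, 1], [0, 1], [0, 1], [0, 1], [0, 1], [0, 1], [0], [1], [0, 1], [0, 1], [0, 1], [0, 1], [0, 1], [0, 1], [0, 1], [0, 1], [0, 1], [0, 1], [1], [0, 1], [0, 1], [0, 1], [0, 1], [0, 1], [0, 1], [0, 1], [], [0, 1], [0, 1], [0, 1], [0, 1], [0, 1], [0, 1], [0, 1], [0, 1], [0, 1], [1], [0, 1], [0, 1], [0, 1], [0, 1], [0, 1], [0, 1], [0, 1], [0, 1], [0, 1], [0, 1], [0, 1], [0, 1], [0, 1], [0, 1], [0, 1], [0], [0, 1], [1], [0, 1], [0, 1], [0, 1], [0, 1], [0, 1], [0, 1], [0, 1], [0, 1], [0, 1], [0], [0, 1], [0], [1], [0, 1], [0, 1], [0, 1], [0, 1], [0, 1], [0, 1], [0, 1], [0, 1], [0, 1], [0, 1], [1], [0, 1], [1], [0, 1], [0, 1], [0, 1], [0, 1], [0, 1], [0, 1], [0, 1], [0, 1], [0, 1], [0, 1], [0, 1], [0, 1], [0, 1], [0, 1], [0, 1], [0], [0, 1], [0, 1], [0, 1], [0, 1], [0, 1], [0, 1], [0,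 1], [0, 1], [0, 1], [0, 1], [0, 1], [0, 1], [0, 1], [0, 1], [0, 1], [0, 1], [0], [0, 1], [0, 1], [0, 1], [0, 1], [0, 1], [0, 1], [0, 1], [0, 1], [0, 1], [0, 1], [0, 1], [0, 1], [0, 1], [0], [1], [1], [1], [0], [0], [0, 1], [0, 1], [0, 1], [0, 1], [1], [0, 1], [0], [0, 1], [0, 1], [0, 1], [0, 1], [1], [0], [0, 1], [0, 1], [1], [0, 1], [0, 1], [0, 1], [0, 1], [0, 1], [0, 1], [1], [0, 1], [0, 1], [0], [0, 1], [0, 1], [0, 1], [0, 1], [0, 1], [1], [0, 1], [0, 1], [0, 1], [0, 1], [0, 1], [0, 1], [0, 1], [0, 1], [0, 1], [0, 1], [1], [0, 1], [0, 1], [0, 1], [0, 1], [0, 1], [1], [0, 1], [0, 1], [0, 1], [0, 1], [0, 1], [0, 1], [0, 1], [0, 1], [1], [0], [1], [0, 1], [0], [0, 1], [0, 1], [0, 1], [0], [0, 1], [0, 1], [0, 1], [1], [0, 1], [0, 1], [0, 1], [0], [0, 1], [0, 1], [0, 1], [0, 1], [1], [0, 1], [0, 1], [0], [0, 1], [1], [0, 1], [0, 1], [0, 1], [0, 1], [1], [0, 1], [0], [0, 1], [0, 1], [0, 1], [1], [0, 1], [0, 1], [0, 1], [0,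 1], [1], [0], [0, 1], [0, 1], [0, 1], [0], [1], [0], [0, 1], [0, 1], [1], [0, 1], [0, 1], [0, 1], [0, 1], [0, 1], [0, 1], [1], [0, 1], [0, 1], [1], [1], [1], [0, 1], [0, 1], [0, 1], [0, 1], [0, 1], [0, 1], [0, 1], [0, 1], [0, 1], [0, 1], [0, 1], [0, 1], [0, 1], [0], [], [1], [0, 1], [0, 1], [0, 1], [0, 1], [1], [0, 1], [0, 1], [1], [0, 1], [0], [0, 1], [0, 1], [0, 1], [0, 1], [0], [1], [0, 1], [0, 1], [0], [0, 1], [0, 1], [0, 1], [0, 1], [0, 1], [1], [0], [], [0, 1], [0], [0, 1], [0, 1], [0, 1], [0, 1], [0, 1], [0, 1], [1], [], [0], [0, 1], [0, 1], [0, 1], [0, 1], [1], [0, 1], [0], [0, 1], [0, 1], [0, 1], [0, 1], [0, 1], [0, 1], [1], [1], [0, 1], [0], [0, 1], [0, 1], [0, 1], [0, 1], [0, 1], [0, 1], [0, 1], [0, 1], [0], [0, 1], [0, 1], [0, 1], [1], [0, 1], [0, 1], [1], [0, 1], [0], [1], [], [1], [0, 1], [0], [0, 1], [0, 1], [0, 1], [0, 1], [0, 1], [0, 1], [], [0], [0, 1], [0, 1], [1], [0, 1], [1], [0], [0, 1], [0, 1], [0],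 [0, 1], [0], [0, 1], [0, 1], [0, 1], [0, 1], [1], [0, 1], [0], [0, 1], [0, 1], [0, 1], [0], [1], [0, 1], [], [0, 1], [0], [0, 1], [0, 1], [0, 1], [0, 1], [0, 1], [0], [1], [0, 1], [0, 1], [0, 1], [0], [0, 1], [1], [0, 1], [0, 1], [0, 1], [0], [1], [0, 1], [1], [0, 1], [0, 1], [0, 1], [0], [0, 1], [0, 1], [0], [1], [0, 1], [], [0, 1], [0, 1], [0], [1], [0, 1], [0, 1], [0, 1], [0, 1], [0, 1], [0, 1], [1], [0, 1], [0, 1], [0], [1], [0, 1], [0, 1], [0, 1], [0, 1], [1], [0], [0, 1], [0, 1], [0, 1], [1], [0, 1], [1], [0], [0, 1], [0, 1], [0, 1], [0, 1], [0, 1], [0, 1], [0, 1], [0, 1], [1], [1], [0, 1], [0, 1], [0, 1], [0, 1], [1], [1], [0, 1], [0, 1], [1], [0, 1], [0, 1], [1], [0, 1], [0], [0, 1], [0, 1], [0, 1], [0, 1], [0], [0], [0, 1], [1], [0, 1], [0, 1], [0, 1], [0, 1], [0], [0, 1], [0, 1], [0, 1], [0, 1], [0, 1], [0, 1], [0, 1], [0, 1], [0, 1], [0, 1], [0], [], [0, 1], [1], [0, 1], [0], [0, 1], [], [0], [0, 1], [0, 1],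 [1], [1], [0, 1], [0], [0, 1], [0], [0], [0, 1], [1], [0, 1], [0, 1], [0, 1], [0, 1], [], [0, 1], [0, 1], [0, 1], [0, 1], [1], [0], [0, 1], [0, 1], [0, 1], [0, 1], [1], [0, 1], [0], [], [0, 1], [0, 1], [1], [0], [0, 1], [0, 1], [0, 1], [1], [1], [1], [0, 1], [0], [0, 1], [0, 1], [1], [0, 1], [0], [0, 1], [0], [1], [0], [0], [1], [1], [0], [0], [0, 1], [], [0, 1], [0, 1], [0], [], [0, 1], [0, 1], [0, 1], [1], [0, 1], [0], [0, 1], [1], [0], [0], [], [1], [0, 1], [0, 1], [0, 1], [0], [0], [0], [0], [0, 1], [0, 1], [0, 1], [1], [0, 1], [0, 1], [1], [1], [0, 1], [1], [], [0], [0, 1], [0], [0, 1], [0], [1], [0, 1], [1], [0, 1], [0, 1], [0, 1], [0], [1], [0], [0, 1], [0, 1], [0, 1], [1], [0, 1], [0], [0, 1], [], [0, 1], [0, 1], [0, 1], [0, 1], [0, 1], [1], [0, 1], [0], [0, 1], [0, 1], [0, 1], [0, 1], [0, 1], [1], [0, 1], [1], [0, 1], [0, 1], [0, 1], [], [], [0], [0, 1], [0, 1], [0, 1], [0, 1], [], [0, 1], [0, 1], [0, 1], [0, 1],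 [0, 1], [0, 1], [0, 1], [1], [0, 1], [0, 1], [0, 1], [0, 1], [1], [0, 1], [0, 1], [0, 1], [0, 1], [0, 1], [], [0], [0, 1], [0, 1], [0, 1], [0, 1], [1], [1], [0, 1], [0], [0, 1], [0, 1], [1], [0], [1], [1], [0, 1], [0, 1], [1], [0], [0, 1], [0, 1], [0, 1], [0, 1], [1], [0, 1], [0, 1], [0], [1], [0, 1], [0], [1], [0, 1], [0, 1], [0], [0, 1], [0], [0], [0], [], [0], [1], [0, 1], [1], [0, 1], [1], [0, 1], [0, 1], [0, 1], [0, 1], [0, 1], [0], [1], [0], [0, 1], [0], [0, 1], [0, 1], [], [0, 1], [0, 1], [1], [0, 1], [0, 1], [1], [1], [0, 1], [0, 1], [1], [0, 1], [0, 1], [0, 1], [1], [1], [0, 1], [0, 1], [0], [0, 1], [0, 1], [0, 1], [0, 1], [], [0], [0, 1], [0, 1], [0], [0], [0, 1], [0, 1], [0, 1], [1], [0, 1], [0, 1], [0, 1], [0, 1], [1], [0, 1], [0, 1], [], [0, 1], [0, 1], [0, 1], [0, 1], [0, 1], [0], [0], [], [0, 1], [0, 1], [1], [0, 1], [0, 1], [], [0, 1], [0, 1], [0], [], [0, 1], [0], [0], [1], [0, 1], [1], [1], [], [1], [],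 [0, 1], [0], [], [0], [0, 1], [0], [1], [], [0], [1], [0], [0, 1], [1], [1], [0, 1], [1], [0, 1], [], [1], [0, 1], [0], [0], [0, 1], [0, 1], [0, 1], [0, 1], [0, 1], [0, 1], [0], [0], [], [0, 1], [0, 1], [1], [0], [0, 1], [0, 1], [], [0, 1], [0], [], [1], [0, 1], [0], [0, 1], [0, 1], [0, 1], [0, 1], [1], [], [0, 1], [1], [0, 1], [0, 1], [1], [0, 1], [0, 1], [1], [0, 1], [0], [1], [0, 1], [0, 1], [0, 1], [0], [], [0, 1], [0], [0], [0], [0, 1], [0, 1], [0, 1], [0], [1], [0, 1], [0, 1], [1], [0, 1], [0, 1], [0, 1], [1], [], [1], [], [1], [0, 1], [0, 1], [1], [1], [0], [1], [1], [0], [0, 1], [1], [], [0, 1], [0, 1], [0, 1], [0, 1], [0, 1], [], [0], [0], [1], [0, 1], [0, 1], [0, 1], [0, 1], [1], [0, 1], [0], [0, 1], [0, 1], [0, 1], [], [0, 1], [0, 1], [0], [0], [0, 1], [0, 1], [0, 1], [1], [1], [1], [0, 1], [], [], [0, 1], [], [], [0, 1], [0, 1], [], [1], [0, 1], [0], [0], [0], [0, 1], [0, 1], [0, 1], [0], [0, 1], [0, 1], [0,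 1], [0, 1], [], [1], [], [0, 1], [], [1], [0], [], [0, 1], [0, 1], [0, 1], [1], [0], [], [0], [0], [0, 1], [1], [0, 1], [0, 1], [0, 1], [0], [0], [], [0], [0], [], [0, 1], [0, 1], [], [1], [0, 1], [0], [0], [0], [0, 1], [0, 1], [1], [0, 1], [0, 1], [0], [0, 1], [], [0], [0, 1], [0, 1], [1], [0, 1], [0, 1], [0, 1], [0], [0], [0, 1], [0], [0], [1], [1], [1], [1], [1], [0, 1], [], [0], [1], [], [0], [0], [], [0, 1], [1], [0, 1], [0, 1], [1], [0, 1], [0, 1], [0, 1], [0, 1], [0], [0, 1], [0, 1], [0, 1], [0], [0], [], [0], [1], [], [], [], [0, 1], [0], [1], [1], [], [0, 1], [], [1], [0], [], [0, 1], [], [1], [1], [0, 1], [], [0], [0], [0, 1], [0, 1], [], [0, 1], [0], [], [1], [1], [0], [0], [1], [0, 1], [1], [1], [0, 1], [], [0, 1], [1], [0, 1], [1], [0], [0], [0, 1], [0, 1], [], [0], [0, 1], [], [1], [0, 1], [0, 1], [0, 1], [0, 1], [0, 1], [0], [1], [0, 1], [0], [0, 1], [1], [], [1], [0, 1], [], [1], [0, 1], [1], [0], [1], [0],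 [], [0, 1], [1], [0, 1], [], [], [], [], [], [1], [0, 1], [], [0], [1], [0, 1], [0, 1], [0, 1], [], [0, 1], [0], [0], [0], [0], [0, 1], [], [0], [1], [0, 1], [0, 1], [0], [1], [0, 1], [], [], [0, 1], [], [0, 1], [0], [0, 1], [0, 1], [1], [], [0], [], [1], [1], [0], [0, 1], [0, 1], [0, 1], [1], [1], [0], [0, 1], [0], [0, 1], [1], [0], [1], [1], [0, 1], [0, 1], [0, 1], [], [], [0], [0, 1], [0], [1], [], [0], [0, 1], [0, 1], [1], [0, 1], [0, 1], [0], [1], [1], [0], [1], [1], [1], [0], [0, 1], [1], [0, 1], [0, 1], [1], [], [], [0, 1], [0, 1], [0], [0, 1], [0], [0, 1], [0, 1], [0, 1], [], [1], [1], [1], [0, 1], [0], [1], [1], [1], [0], [0], [0, 1], [0, 1], [1], [0], [0, 1], [1], [], [], [1], [0, 1], [0, 1], [0], [0, 1], [0, 1], [0, 1], [1], [], [1], [0], [0, 1], [0, 1], [1], [], [0], [0], [1], [0, 1], [0, 1], [1], [0, 1], [], [0], [1], [0, 1], [1], [], [0, 1], [1], [0], [0, 1], [0, 1], [0], [1], [0], [0], [], [0], [], [0], [0,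 1], [0, 1], [], [], [0, 1], [0, 1], [0], [0], [0, 1], [0, 1], [0], [1], [0, 1], [1], [0], [1], [0], [0, 1], [0], [], [0, 1], [], [], [], [0], [], [0, 1], [0], [0], [0], [0, 1], [], [0, 1], [0, 1], [0, 1], [0], [0, 1], [0, 1], [0], [1], [], [1], [1], [0, 1], [0, 1], [0], [0, 1], [0], [], [0, 1], [0], [1], [0], [0, 1], [0, 1], [0, 1], [0, 1], [0, 1], [], [1], [0, 1], [1], [], [0], [1], [], [0], [], [], [], [1], [0], [1], [1], [], [0, 1], [0], [], [1], [0], [0, 1], [1], [1], [0, 1], [0, 1], [0, 1], [1], [0, 1], [0, 1], [1], [0], [1], [0, 1], [0, 1], [0], [1], [1], [], [0], [0, 1], [0], [], [0], [], [0], [0], [1], [], [0, 1], [1], [0], [], [], [], [0, 1], [0, 1], [0, 1], [0, 1], [1], [0], [0, 1], [0], [0], [1], [1], [0, 1], [0, 1], [], [1], [1], [], [0, 1], [1], [0], [], [0], [0, 1], [], [0], [0], [0, 1], [1], [0], [1], [], [], [], [1], [0, 1], [1], [1], [], [1], [0], [], [0], [0, 1], [1], [], [0], [], [1], [], [0, 1], [1],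 [0, 1], [0, 1], [1], [0, 1], [], [], [], [0], [1], [1], [0, 1], [1], [1], [0], [], [], [0], [], [0, 1], [], [0, 1], [], [1], [1], [1], [0], [0], [0, 1], [1], [], [], [], [], [], [0], [], [], [0], [], [0, 1], [], [], [0, 1], [1], [0, 1], [1], [1], [1], [0, 1], [], [0, 1], [0], [], [0, 1], [1], [], [0], [1], [1], [0], [], [0], [0], [0, 1], [0, 1], [1], [0], [], [0, 1], [1], [0], [], [0, 1], [1], [0], [], [0], [1], [0], [0, 1], [0], [1], [1], [0, 1], [], [], [], [], [0], [], [], [0], [0, 1], [1], [], [1], [1], [1], [0], [], [1], [], [], [0], [], [0, 1], [], [], [0, 1], [1], [1], [0, 1], [0, 1], [], [1], [], [0], [0], [1], [1], [0], [0], [1], [0], [1], [], [1], [0], [0], [], [1], [], [], [0], [], [0], [], [1], [], [0, 1], [0], [0], [0, 1], [1], [0], [1], [0], [1], [], [1], [], [0], [], [0], [1], [], [], [1], [], [1], [0], [], [1], [1], [1], [], [0, 1], [0], [], [0, 1], [0], [], [], [], [0], [1], [1], [0, 1], [0, 1], [0], [1],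 [0, 1], [1], [0, 1], [0, 1], [], [], [0], [1], [0, 1], [1], [0], [0], [0, 1], [], [], [], [0], [], [], [1], [0, 1], [0, 1], [], [0], [], [], [1], [], [0, 1], [0], [], [], [0], [1], [], [0], [0], [0, 1], [], [0, 1], [], [0], [0, 1], [], [1], [], [0], [1], [], [], [0, 1], [1], [0], [0], [0], [0, 1], [0, 1], [1], [0, 1], [0, 1], [0], [0], [1], [0, 1], [], [1], [0, 1], [0, 1], [], [], [1], [0], [], [], [0, 1], [0, 1], [1], [0], [0], [], [0], [0], [], [1], [], [0], [1], [], [], [], [], [0], [0], [0], [0], [1], [], [0], [], [], [], [0], [0, 1], [1], [], [], [0, 1], [1], [1], [0, 1], [], [0], [], [], [], [0], [], [], [1], [0], [0, 1], [1], [0, 1], [], [0, 1], [0], [0], [0], [0], [], [0], [1], [], [1], [1], [0], [0], [], [0], [], [], [0, 1], [0], [0, 1], [], [0, 1], [0], [1], [], [1], [0], [1], [], [0], [1], [], [0], [1], [0], [], [1], [0, 1], [], [1], [0], [], [], [0, 1], [0], [], [0], [0, 1], [1], [1], [], [1], [], [0], [0],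 [], [1], [0, 1], [], [0], [0, 1], [], [], [0], [], [1], [0], [], [], [0], [0], [], [], [], [0], [0], [0, 1], [1], [], [0], [0, 1], [0, 1], [0], [1], [], [0], [0], [], [1], [1], [], [0], [], [], [], [0, 1], [], [1], [1], [0, 1], [0, 1], [0], [], [], [0], [0], [], [0, 1], [1], [], [], [1], [0], [1], [], [1], [], [0], [1], [0, 1], [], [], [0], [], [], [], [], [0], [0], [], [0], [1], [0, 1], [0, 1], [], [0], [], [], [0], [0], [1], [], [], [], [1], [0, 1], [0], [], [1], [], [], [0], [], [], [0], [0], [1], [1], [], [1], [0], [0, 1], [], [], [0, 1], [], [], [0], [], [0], [], [1], [], [], [0, 1], [], [], [], [1], [], [1], [0, 1], [1], [], [], [], [], [], [1], [0, 1], [0], [1], [], [], [1], [], [], [], [], [0], [0], [], [], [], [0], [], [1], [1], [], [1], [], [], [0, 1], [], [0], [1], [1], [0], [], [], [], [], [], [1], [], [], [0], [1], [0], [0], [], [0], [0], [], [], [1], [0], [1], [], [], [], [0], [], [1], [0], [0], [], [], [],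 [], [], [0], [], [], [], [], [1], [], [], [], [], [0], [], [], [1], [1], [], [], [0], [], [], [], [], [], [1], [], [0, 1], [], [1], [1], [], [0], [0], [0, 1], [0], [1], [1], [0, 1], [], [1], [1], [1], [0], [], [1], [1], [1], [0], [0], [], [], [], [], [0, 1], [], [], [1], [1], [0, 1], [], [], [1], [], [], [], [], [0], [], [], [0], [1], [1], [], [0, 1], [], [], [1], [], [0], [], [1], [], [], [0], [], [0, 1], [], [1], [], [], [1], [], [1], [0], [], [0, 1], [], [0], [0], [0], [], [], [], [0], [0], [1], [], [0], [0], [], [], [1], [], [0], [], [], [0], [1], [1], [1], [1], [], [], [], [0], [1], [0], [0], [], [1], [], [], [], [], [1], [], [], [1], [1], [], [], [0, 1], [], [], [], [], [1], [0], [], [], [], [1], [], [], [], [], [], [0], [], [], [1], [1], [], [], [1], [0], [], [0], [0], [], [], [], [], [], [], [], [1], [1], [0], [0, 1], [], [], [], [], [], [0], [], [1], [0], [], [0], [], [], [0, 1], [], [], [], [], [1], [0, 1], [1],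 [1], [], [], [], [0], [], [], [0, 1], [], [0, 1], [], [], [], [], [0, 1], [], [], [], [], [1], [], [0], [], [], [0, 1], [0], [], [1], [1], [], [0], [0, 1], [1], [], [0], [1], [], [0, 1], [1], [1], [], [], [], [], [], [0], [], [], [], [0], [0], [], [], [], [], [], [], [0], [], [], [], [], [1], [], [], [0], [], [0], [], [], [], [0], [0], [1], [], [0], [], [], [], [], [1], [0], [1], [], [0], [], [], [], [], [1], [], [], [], [], [], [1], [], [], [], [0], [], [], [1], [], [0], [0], [0], [], [], [], [0], [], [], [1], [], [], [], [], [], [], [1], [], [1], [], [1], [], [0], [0], [], [0], [0], [0], [1], [1], [1], [], [], [1], [], [], [0], [], [0], [], [], [1], [], [1], [0], [0], [], [], [], [], [], [], [], [], [], [0], [], [1], [0, 1], [], [1], [0], [0], [], [], [1], [], [0], [], [], [0], [0], [], [], [], [], [1], [], [], [], [], [], [1], [1], [1], [0], [], [], [], [], [], [], [], [1], [], [1], [1], [0], [], [0], [], [], [0], [],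 [1], [], [1], [], [], [], [], [], [], [], [], [], [], [], [], [], [], [], [], [], [], [], [], [], [], [], [], [1], [], [], [], [], [1], [], [], [], [], [], [], [0], [], [1], [], [0], [], [], [], [], [1], [], [], [0], [], [], [1], [1], [1], [], [], [], [1], [], [], [], [], [], [], [0], [], [0], [], [], [], [], [], [], [], [], [0], [1], [], [], [], [], [], [], [], [], [], [], [], [], [1], [], [], [], [], [0, 1], [], [], [], [1], [], [0], [0], [], [0], [], [], [], [1], [], [], [], [1], [1], [], [1], [], [], [], [], [1], [], [1], [], [], [0], [], [], [], [0], [], [1], [], [], [], [], [0], [], [], [], [], [], [], [], [0], [0], [], [], [], [], [], [0], [], [], [], [], [], [], [0], [], [0], [], [], [], [], [], [], [], [], [], [], [], [], [1], [], [1], [], [], [], [0], [], [], [], [], [], [], [], [], [], [], [], [], [], [], [], [], [], [], [], [], [0], [], [], [], [], [], [], [0], [], [], [], [], [], [], [], [], [], [], [], [],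 [], [], [], [], [], [0], [0, 1], [], [], [], [], [], [], [], [], [], [], [], [], [], [], [], [], [], [], [], [0], [], [], [], [], [], [], [], [], [], [], [], [], [1], [], [], [], [], [], [], [], [], [0], [], [0], [], [], [], [], [], [], [], [], [], [], [], [], [], [], [], [], [], [], [], [], [], [], [], [], [], [], [1], [], [0], [1], [], [], [], [], [], [], [], [], [], [1], [], [], [], [], [], [], [], [], [], [], [], [], [], [], [], [], [], [0], [], [], [], [], [], [], [], [], [], [], [], [], [], [1], [], [], [], [], [], [], [], [], [], [], [], [0], [], [], [], [], [0], [], [], [], [], [], [], [], [], [], [], [], [], [], [], [], [], [], [], [], [], [], [], [], [], [], [], [], [], [], [], [], [], [], [1]]]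

def sxtrio_sizes : Fin 4 → ℕ := ![15, 180, 720, 2880]

abbrev sxtrio_model := (famModel 1222356008 2147483647 2097152)

set_option maxRecDepth 1000000 in
set_option maxHeartbeats 4000000 in
theorem sxtrio_check : distinctAux (((List.ofFn fun i => sxtrio_model.nodes sx_tabs (sxtrio_roots i)
    (sxtrio_certs i)).flatten).map sxtrio_model.code) 0 = true := by
  decide +kernel

set_option maxRecDepth 1000000 in
set_option maxHeartbeats 4000000 in
theorem sxtrio_len : ∀ i, (sxtrio_model.nodes sx_tabs (sxtrio_roots i) (sxtrio_certs i)).length =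
    sxtrio_sizes i := by
  decide +kernel

set_option maxRecDepth 1000000 in
set_option maxHeartbeats 4000000 in
theorem sxtrio_rootcheck : ∀ i, IsTrioList (sxtrio_roots i) := by
  decide +kernel
def sxsext_roots : Fin 4 → List (List ℕ) := ![
  [[3, 5, 14, 17], [8, 11, 12, 18], [9, 10, 15, 20], [6, 7, 19, 21], [4, 13, 16, 22], [0, 1, 2, 23]],
  [[0, 1, 3, 5], [10, 11, 15, 18], [8, 9, 12, 20], [4, 6, 16, 21], [7, 13, 19, 22], [2, 14, 17, 23]],
  [[0, 1, 2, 3], [4, 7, 10, 12], [8, 15, 16, 19], [13, 18, 20, 21], [6, 9, 11, 22], [5, 14, 17, 23]],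
  [[0, 1, 3, 4], [2, 7, 10, 12], [9, 13, 14, 15], [5, 6, 16, 21], [8, 17, 18, 22], [11, 19, 20, 23]]]

def sxsext_certs : Fin 4 → List (List ℕ) := ![
  [],
  [[0], [0, 1], [0, 1], [0, 1], [0, 1], [0, 1], [0, 1], [0, 1], [0, 1], [0], [0, 1], [0, 1], [0, 1], [0, 1], [0, 1], [0, 1], [1], [0, 1], [1], [1], [0, 1], [0, 1], [0, 1], [0, 1], [0, 1], [1], [0, 1], [0, 1], [], [0, 1], [1], [0, 1], [0, 1], [1], [0], [0], [], [1], [0, 1], [1], [1], [1], [0], [0, 1], [], [0], [], [0], [0, 1], [0], [], [], [1], [], [1], [0], [0], [1], [], [], [1], [], [1], [], [1], [], [0], [], [0], [], [], [1], [], [], [], [1], [1], [], [], [], [], [0], [], [1]],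
  [[0, 1], [0, 1], [0, 1], [0, 1], [0, 1], [0, 1], [0, 1], [0, 1], [0, 1], [0, 1], [0, 1], [0, 1], [0, 1], [0, 1], [0, 1], [1], [0, 1], [0, 1], [0, 1], [0, 1], [0, 1], [0, 1], [0, 1], [0, 1], [0, 1], [0, 1], [1], [0, 1], [0, 1], [0], [0, 1], [0], [0, 1], [0, 1], [], [0, 1], [0, 1], [0, 1], [0, 1], [0, 1], [0], [0], [], [0, 1], [0, 1], [0], [1], [0], [0, 1], [0, 1], [0, 1], [0], [0, 1], [0, 1], [0, 1], [1], [1], [0, 1], [0, 1], [0], [0, 1], [0, 1], [0, 1], [0, 1], [0, 1], [0], [0, 1], [1], [0, 1], [0, 1], [0], [0, 1], [0], [0, 1], [], [0, 1], [0], [0], [0], [], [0, 1], [1], [1], [1], [0], [1], [0], [0], [0, 1], [0, 1], [], [0, 1], [0], [1], [], [0, 1], [0, 1], [1], [0, 1], [], [1], [], [0, 1], [0, 1], [], [1], [0], [], [0, 1], [], [1], [0, 1], [0], [0, 1], [0], [0, 1], [], [], [], [0, 1], [], [0, 1], [], [], [0], [], [1], [1], [1], [0, 1], [0, 1], [0], [], [0], [], [0], [0, 1], [0], [0, 1], [0, 1], [], [], [1], [0, 1], [1],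 [], [], [0], [], [0, 1], [0], [1], [0], [1], [], [0, 1], [], [], [0], [], [], [], [], [], [0, 1], [1], [0], [], [0], [1], [], [], [], [0], [1], [1], [1], [1], [1], [1], [], [0], [], [0], [], [], [1], [], [], [], [1], [0, 1], [], [1], [], [], [1], [], [], [], [], [0, 1], [], [], [], [0], [], [], [], [], [], [1], [], [], [], [], [], [], [1], [], [], [], [0], [], [0], [], [], [], [], [], [], [], [], [], [], [], [0]],
  [[0, 1], [0, 1], [0, 1], [0, 1], [0, 1], [0, 1], [0, 1], [0, 1], [0, 1], [0, 1], [0, 1], [0, 1], [0, 1], [0, 1], [0, 1], [0, 1], [0, 1], [0, 1], [0, 1], [0, 1], [0, 1], [0, 1], [0, 1], [0, 1], [0, 1], [0, 1], [0, 1], [0, 1], [0, 1], [0, 1], [0, 1], [1], [0, 1], [0, 1], [0, 1], [0, 1], [0, 1], [0, 1], [0, 1], [0, 1], [0, 1], [0, 1], [0, 1], [1], [0, 1], [0, 1], [0, 1], [0, 1], [0, 1], [1], [0, 1], [1], [0, 1], [0, 1], [0, 1], [0, 1], [0, 1], [0, 1], [0, 1], [0, 1], [0, 1], [0, 1], [0], [0, 1], [0], [0], [0, 1],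 [0, 1], [0, 1], [0, 1], [0, 1], [1], [0, 1], [0, 1], [0, 1], [1], [1], [0, 1], [0, 1], [0, 1], [0, 1], [0, 1], [0, 1], [0, 1], [0, 1], [0, 1], [0, 1], [0, 1], [1], [0, 1], [0, 1], [0], [0], [1], [0, 1], [0, 1], [0, 1], [0, 1], [0, 1], [0, 1], [0, 1], [0, 1], [1], [0, 1], [0, 1], [0, 1], [0, 1], [0, 1], [0, 1], [0, 1], [0, 1], [0, 1], [0, 1], [0, 1], [0, 1], [1], [0, 1], [0, 1], [0, 1], [0, 1], [0], [0, 1], [0, 1], [0, 1], [1], [0, 1], [0, 1], [0, 1], [0, 1], [0, 1], [0, 1], [0, 1], [0, 1], [0, 1], [0, 1], [0, 1], [0, 1], [0, 1], [0, 1], [0, 1], [0, 1], [0, 1], [0, 1], [0, 1], [0, 1], [0, 1], [0], [1], [0, 1], [0, 1], [0, 1], [0, 1], [1], [0, 1], [0, 1], [0, 1], [0, 1], [0, 1], [], [0, 1], [1], [0, 1], [0, 1], [0, 1], [0, 1], [0, 1], [0], [0, 1], [0, 1], [1], [0, 1], [0, 1], [0, 1], [0, 1], [0], [0, 1], [0, 1], [0, 1], [0, 1], [0, 1], [0, 1], [0, 1], [1], [0, 1], [0, 1], [0, 1], [0, 1], [0, 1], [0, 1], [0, 1], [0, 1], [0,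 1], [0, 1], [0, 1], [0, 1], [0, 1], [0, 1], [0], [0, 1], [0], [1], [0, 1], [1], [0], [0, 1], [0, 1], [0, 1], [0, 1], [1], [0, 1], [0, 1], [1], [0, 1], [0, 1], [0, 1], [1], [0, 1], [0, 1], [0], [0, 1], [], [0, 1], [0, 1], [0, 1], [0, 1], [0, 1], [1], [0], [0, 1], [0, 1], [0, 1], [], [1], [0], [1], [0, 1], [0, 1], [0, 1], [0, 1], [0, 1], [], [1], [0, 1], [0], [0, 1], [0, 1], [1], [0, 1], [0, 1], [0, 1], [0], [1], [0, 1], [0, 1], [0], [0, 1], [0, 1], [0, 1], [0, 1], [0, 1], [1], [0, 1], [1], [1], [0, 1], [0, 1], [0, 1], [0], [0], [0, 1], [0, 1], [0, 1], [0, 1], [0], [1], [0, 1], [0, 1], [0, 1], [0, 1], [0, 1], [0], [0, 1], [], [0, 1], [0, 1], [0, 1], [0], [0, 1], [], [0], [0, 1], [0], [0], [0, 1], [0, 1], [0, 1], [0, 1], [0, 1], [1], [0, 1], [0, 1], [0, 1], [], [], [0, 1], [], [1], [0, 1], [0, 1], [0, 1], [1], [], [0, 1], [0, 1], [0, 1], [0, 1], [0, 1], [0], [0, 1], [1], [0, 1], [0, 1], [0, 1], [0], [0, 1], [0], [0, 1], [],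 [0, 1], [0, 1], [0], [0, 1], [0, 1], [0, 1], [0], [], [0, 1], [0, 1], [0, 1], [0, 1], [0, 1], [1], [0, 1], [1], [1], [0], [0], [0, 1], [1], [1], [0], [0, 1], [0, 1], [0, 1], [1], [0, 1], [0, 1], [0, 1], [0, 1], [0, 1], [0, 1], [0], [], [0], [0, 1], [0, 1], [0, 1], [0], [0], [1], [1], [], [0, 1], [0, 1], [0, 1], [0, 1], [1], [0], [0, 1], [0, 1], [0, 1], [], [], [0, 1], [0, 1], [0, 1], [0, 1], [0, 1], [0, 1], [0], [0, 1], [0], [0], [0], [1], [0, 1], [0], [0, 1], [0, 1], [0], [1], [], [0, 1], [0, 1], [0, 1], [0], [0, 1], [0], [], [0, 1], [1], [0, 1], [0, 1], [0, 1], [0, 1], [0], [0, 1], [0, 1], [], [0, 1], [0, 1], [1], [], [1], [0, 1], [1], [0, 1], [0, 1], [1], [1], [0], [0, 1], [1], [0], [0, 1], [], [0, 1], [0, 1], [], [0], [0, 1], [0, 1], [1], [1], [0, 1], [0], [0, 1], [1], [0], [0, 1], [0, 1], [0, 1], [0], [1], [1], [0, 1], [0, 1], [1], [0, 1], [0, 1], [1], [0, 1], [], [0, 1], [1], [0], [0], [0, 1], [0], [], [0], [0, 1],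 [1], [], [1], [0], [1], [0, 1], [1], [0, 1], [0, 1], [1], [0, 1], [0, 1], [1], [1], [1], [0], [], [0, 1], [0], [0, 1], [0, 1], [0], [0, 1], [0, 1], [0], [0], [0, 1], [1], [0, 1], [1], [1], [0], [0, 1], [0, 1], [0], [1], [0], [0], [0, 1], [1], [0, 1], [], [0, 1], [1], [0, 1], [0], [1], [0, 1], [0], [0], [1], [0, 1], [], [0, 1], [], [1], [], [1], [0], [1], [0], [0], [0, 1], [0], [], [0], [0, 1], [0, 1], [0, 1], [0], [0], [0, 1], [1], [0, 1], [0, 1], [0, 1], [0, 1], [0, 1], [0], [0, 1], [0], [1], [0, 1], [0], [1], [0, 1], [0, 1], [0, 1], [1], [], [], [0, 1], [], [], [0], [0, 1], [1], [0, 1], [0, 1], [0], [], [0, 1], [0, 1], [0], [], [1], [0, 1], [0, 1], [], [1], [1], [0], [0, 1], [], [0, 1], [0], [0, 1], [0], [], [], [0, 1], [1], [], [0], [0, 1], [0], [1], [0, 1], [1], [0, 1], [0], [], [0], [], [0], [0, 1], [], [0, 1], [0, 1], [], [1], [], [0], [1], [0, 1], [0, 1], [0], [0, 1], [], [], [], [0], [0, 1], [1], [1], [1], [0, 1],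 [], [], [0, 1], [0], [1], [0], [], [1], [0], [0], [0, 1], [0, 1], [0, 1], [1], [0, 1], [0], [1], [0, 1], [0], [], [0], [0, 1], [0], [0], [0, 1], [], [0], [0], [0], [0, 1], [1], [0], [0, 1], [], [0, 1], [1], [], [], [0], [], [0, 1], [1], [1], [], [1], [], [0, 1], [0, 1], [0], [1], [1], [1], [0, 1], [0, 1], [0], [0], [0, 1], [], [1], [1], [0, 1], [0], [], [], [], [0, 1], [0, 1], [0, 1], [1], [], [1], [], [1], [0, 1], [], [], [0], [1], [], [], [1], [0, 1], [1], [], [0, 1], [], [0, 1], [0, 1], [0], [1], [0], [0, 1], [0, 1], [1], [], [], [0], [0, 1], [1], [1], [], [0], [0], [], [0, 1], [0], [0, 1], [], [0], [0, 1], [0], [0, 1], [0, 1], [0, 1], [0], [0], [], [0], [0], [], [0], [0], [1], [1], [0, 1], [0, 1], [1], [0], [0, 1], [0, 1], [0], [1], [1], [0, 1], [], [1], [], [0, 1], [1], [], [0, 1], [], [], [1], [0], [1], [], [0, 1], [0], [0], [], [0, 1], [0], [], [0, 1], [1], [0, 1], [0], [0], [], [], [0], [0], [], [0, 1], [], [],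 [1], [1], [0], [0, 1], [], [], [], [], [], [1], [0, 1], [], [0], [], [], [0, 1], [1], [], [0], [1], [0, 1], [0], [], [0], [0], [], [0, 1], [], [1], [], [], [0, 1], [0, 1], [0, 1], [], [], [0], [0], [0], [], [0, 1], [0], [0], [], [0], [0, 1], [1], [0, 1], [1], [1], [0, 1], [1], [], [], [0], [], [0], [], [1], [], [], [1], [], [], [1], [0, 1], [0], [0, 1], [0], [], [0], [], [0, 1], [0, 1], [0], [1], [], [0], [], [1], [], [0, 1], [0], [0, 1], [], [0, 1], [], [0, 1], [0], [0], [1], [], [0, 1], [0], [], [1], [], [1], [0], [0, 1], [1], [0], [0], [0, 1], [0, 1], [], [], [], [0], [], [], [1], [0], [0], [0], [0], [0], [], [1], [1], [0, 1], [0], [1], [], [1], [0, 1], [], [1], [], [0, 1], [0], [0], [1], [1], [], [], [], [1], [1], [], [], [0], [0], [0], [1], [], [0], [], [0], [0, 1], [], [], [1], [1], [0], [], [], [], [], [], [], [1], [], [0, 1], [], [0, 1], [0], [], [], [0, 1], [0], [], [], [], [1], [], [0], [], [], [], [], [], [0,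 1], [], [], [0, 1], [], [], [], [], [1], [], [0, 1], [], [0, 1], [0], [], [], [], [], [1], [], [1], [], [], [0], [], [], [1], [], [], [], [0], [1], [], [1], [], [0], [1], [], [1], [], [], [0], [0, 1], [], [0], [0], [], [0], [], [], [0], [], [], [1], [0], [], [1], [0], [1], [], [0, 1], [0], [0], [0, 1], [], [], [], [], [0], [0], [], [0], [0, 1], [], [], [0], [0], [], [1], [], [], [1], [], [0], [0, 1], [], [], [0], [1], [0], [0], [0, 1], [], [0], [], [0, 1], [], [], [0, 1], [], [], [], [], [0], [1], [0], [1], [], [], [], [], [], [], [0, 1], [], [0], [], [], [], [], [0], [], [], [], [], [0], [], [], [1], [0], [], [1], [], [], [], [1], [], [], [1], [], [], [], [1], [1], [], [], [], [], [0, 1], [], [], [], [], [0], [], [0, 1], [], [], [], [0], [0, 1], [1], [], [], [], [0], [1], [], [], [], [1], [], [1], [], [], [1], [1], [], [], [], [1], [], [1], [], [], [], [0], [], [], [1], [1], [1], [1], [1], [], [1], [], [1], [], [0, 1],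 [], [], [1], [0, 1], [], [], [], [1], [1], [0, 1], [], [], [], [1], [], [], [], [1], [], [0], [], [], [], [], [], [1], [], [], [1], [], [1], [0], [], [], [], [0, 1], [], [], [], [1], [1], [1], [0], [0], [], [], [], [0], [], [0], [], [], [], [0], [1], [], [], [], [], [1], [], [], [], [], [], [1], [], [], [], [], [], [], [], [], [], [], [], [], [], [], [], [], [], [], [], [], [], [1], [], [], [], [0], [1], [0], [0], [], [], [], [], [], [0, 1], [1], [], [0], [], [1], [], [], [], [], [0], [0], [], [], [1], [], [], [], [], [], [], [1], [], [], [], [], [], [], [], [], [1], [], [], [], [], [], [], [], [], [], [], [0], [0], [], [], [], [], [0], [0], [], [], [], [], [0], [], [], [0, 1], [0], [], [], [], [1], [], [], [], [], [], [], [0], [], [], [], [], [], [], [], [], [1], [0], [], [], [0], [], [], [], [], [], [], [], [], [], [], [], [], [], [], [], [1], [], [], [], [], [], [], [], [], [], [], [], [], [], [], [], [], [], [], [],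 [1], [], [], [], [], [], [], [], [], [], [], [], [], [], [], [], [], [], [], [], [], [], [], [], [], [1]]]

def sxsext_sizes : Fin 4 → ℕ := ![1, 90, 240, 1440]

abbrev sxsext_model := (famModel 1722851099 2147483647 2097152)

set_option maxRecDepth 1000000 in
set_option maxHeartbeats 4000000 in
theorem sxsext_check : distinctAux (((List.ofFn fun i => sxsext_model.nodes sx_tabs (sxsext_roots i)
    (sxsext_certs i)).flatten).map sxsext_model.code) 0 = true := by
  decide +kernel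

set_option maxRecDepth 1000000 in
set_option maxHeartbeats 4000000 in
theorem sxsext_len : ∀ i, (sxsext_model.nodes sx_tabs (sxsext_roots i) (sxsext_certs i)).length =
    sxsext_sizes i := by
  decide +kernel

set_option maxRecDepth 1000000 in
set_option maxHeartbeats 4000000 in
theorem sxsext_rootcheck : ∀ i, IsSextetList (sxsext_roots i) := by
  decide +kernel

end Cfsg.Agent.Lib.Helper28
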