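import Cfsg.Agent.Lib.Helper28.FamCheck

set_option autoImplicit false

/-!
Orbit certificates for the stabilizer of a trio on octads, trios and sextets.
-/

namespace Cfsg.Agent.Lib.Helper28

open Cfsg MulAction
open scoped Pointwise

def tr_tabs : List ℕ := [259630864761434360363854750333709903, 726440589629645494814488680611208289]

def tr_base : List (List ℕ) := [[4, 6, 10, 11, 15, 16, 18, 21], [7, 8, 9, 12, 13, 19, 20, 22], [0, 1, 2, 3, 5, 14, 17, 23]]

set_option maxRecDepth 1000000 in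
set_option maxHeartbeats 4000000 in
theorem tr_base_check : IsTrioList tr_base := by
  decide +kernel

set_option maxRecDepth 1000000 in
set_option maxHeartbeats 4000000 in
theorem tr_tabs_check : ∀ t ∈ tr_tabs, TabM24 t ∧ famSubB (stepFam t tr_base) tr_base = true := by
  decide +kernel

def troct_roots : Fin 3 → List ℕ := ![
  [0, 1, 2, 3, 5, 14, 17, 23],
  [0, 1, 2, 4, 11, 15, 17, 21],
  [0, 1, 2, 3, 4, 7, 10, 12]]

def troct_certs : Fin 3 → List (List ℕ) := ![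
  [[0], [1]],
  [[0, 1], [0, 1], [0, 1], [0, 1], [0], [1], [0, 1], [0, 1], [0], [0, 1], [0, 1], [0, 1], [0, 1], [0, 1], [0, 1], [0, 1], [1], [0, 1], [0, 1], [0], [0, 1], [0, 1], [], [0, 1], [0, 1], [1], [0, 1], [0, 1], [0, 1], [1], [0, 1], [0], [0], [0, 1], [], [0], [1], [0], [], [0, 1], [0, 1], [], [], [0, 1], [], [0, 1], [], [], [], [1], [0], [0, 1], [1], [0, 1], [0], [], [0], [1], [1], [], [], [], [], [], [0, 1], [], [], [], [], [], [], [], [], [], [], [1], [], [0]],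
  [[0, 1], [0, 1], [0, 1], [0, 1], [0, 1], [0, 1], [0, 1], [0, 1], [0, 1], [0, 1], [0, 1], [0, 1], [0, 1], [0, 1], [0, 1], [0, 1], [1], [0, 1], [0], [0, 1], [0, 1], [1], [0, 1], [1], [0, 1], [0, 1], [0, 1], [0, 1], [0, 1], [1], [0, 1], [0, 1], [0, 1], [0, 1], [0, 1], [0, 1], [0, 1], [0, 1], [0, 1], [0, 1], [0, 1], [0, 1], [0, 1], [0, 1], [1], [0], [0, 1], [0, 1], [0, 1], [0, 1], [0, 1], [0, 1], [0, 1], [0, 1], [0, 1], [1], [], [0], [0, 1], [0, 1], [0, 1], [0, 1], [0, 1], [0, 1], [0, 1], [0, 1], [0, 1], [1], [0, 1], [0, 1], [0, 1], [0, 1], [0, 1], [0, 1], [0, 1], [0, 1], [0], [0, 1], [0, 1], [0], [0, 1], [1], [0, 1], [0], [0, 1], [0], [0, 1], [0, 1], [0, 1], [0, 1], [0, 1], [0], [0, 1], [], [0, 1], [0, 1], [1], [0, 1], [1], [0, 1], [0, 1], [0, 1], [0, 1], [0, 1], [0, 1], [0], [0, 1], [0], [0, 1], [0, 1], [0], [0], [0, 1], [0, 1], [0, 1], [0, 1], [1], [0, 1], [0], [0, 1], [1], [0], [0, 1], [1], [0, 1], [0, 1], [0, 1], [1],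 [0, 1], [1], [0, 1], [0, 1], [0, 1], [0, 1], [0], [0, 1], [0], [0, 1], [0, 1], [0, 1], [0], [0, 1], [0], [0], [0, 1], [0, 1], [0, 1], [0, 1], [1], [1], [0, 1], [0, 1], [0, 1], [1], [0, 1], [0, 1], [0, 1], [0], [1], [1], [0, 1], [0], [0, 1], [0], [0], [0, 1], [0], [0, 1], [0, 1], [0, 1], [0, 1], [1], [0], [0], [0, 1], [0, 1], [0], [0, 1], [1], [0, 1], [0, 1], [0, 1], [1], [0], [0], [0, 1], [1], [0], [1], [1], [0], [0, 1], [0, 1], [0], [0, 1], [0, 1], [0, 1], [1], [1], [1], [0, 1], [1], [0, 1], [0, 1], [0, 1], [0, 1], [0, 1], [0], [0], [0], [1], [0], [0, 1], [0], [0], [0, 1], [0], [0, 1], [0, 1], [0, 1], [1], [1], [0, 1], [], [0], [0], [0, 1], [0, 1], [0, 1], [0, 1], [], [1], [0, 1], [1], [0, 1], [1], [0], [0, 1], [0, 1], [0, 1], [0], [1], [0, 1], [0], [0], [0], [0], [0], [0], [0, 1], [], [0, 1], [1], [1], [0, 1], [], [0], [1], [0], [1], [0, 1], [0, 1], [], [0, 1], [], [0, 1], [0, 1], [0, 1], [], [], [1], [1], [0, 1], [1],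 [0, 1], [0], [0], [1], [0], [0, 1], [1], [0, 1], [0, 1], [1], [1], [], [0, 1], [0, 1], [0], [], [], [0], [], [], [0], [0, 1], [0], [0], [1], [1], [1], [1], [0], [0], [0, 1], [], [0, 1], [0], [0], [0], [], [0], [], [0, 1], [], [1], [0, 1], [0], [1], [0, 1], [0, 1], [0], [1], [], [0, 1], [0], [0, 1], [1], [0, 1], [], [], [1], [], [1], [], [1], [1], [1], [1], [1], [], [0], [1], [1], [0], [0], [0], [0, 1], [], [], [0], [1], [0, 1], [], [0, 1], [0, 1], [], [], [], [0, 1], [], [0, 1], [0], [0], [], [], [0], [], [0], [], [0], [], [1], [1], [1], [1], [1], [0], [1], [1], [1], [0, 1], [], [], [0, 1], [], [0], [], [], [0], [], [], [1], [0], [1], [1], [], [1], [0], [0, 1], [0, 1], [0], [0, 1], [1], [1], [0, 1], [], [], [1], [], [0, 1], [], [0], [0], [1], [], [0, 1], [1], [0, 1], [], [], [], [1], [0, 1], [0], [], [1], [], [1], [], [0], [1], [0, 1], [1], [], [1], [], [0, 1], [1], [1], [], [0, 1], [1], [0], [], [1], [1], [], [0], [], [],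 [0, 1], [0, 1], [0, 1], [1], [], [1], [], [], [0], [1], [], [], [0], [1], [], [], [1], [], [0], [], [], [], [1], [0, 1], [], [0], [], [1], [], [0], [1], [0], [], [1], [], [1], [], [], [], [], [1], [0], [1], [], [0], [0], [], [1], [0], [1], [], [0, 1], [0], [0], [0], [1], [], [0], [], [], [0], [], [0], [], [1], [1], [], [], [], [], [], [0], [1], [], [1], [], [], [], [0], [1], [], [0], [], [1], [0], [], [0], [0], [], [], [], [], [], [], [0, 1], [0], [1], [], [1], [0], [], [], [], [], [], [1], [], [], [1], [0], [], [], [], [], [], [], [], [], [], [], [], [1], [], [], [], [1], [], [], [], [], [], [], [], [1], [], [], [0], [], [], [], [], [], [], [0], [1], [], [], [], [], [], [0], [], [], [], [], [1], [], [], [], [], [0], [], [], [], [1], [], [], [], [], [], [], [], [1], [0], [], [0], [], [], [], [], [0], [], [], [], [], [], [], [], [], [], [], [], [], [], [1], [], [], [1], [], [], [], [], [], [], [], [], [], [], [], [0]]]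

def troct_sizes : Fin 3 → ℕ := ![3, 84, 672]

abbrev troct_model := (setModel 35225 262139)

set_option maxRecDepth 1000000 in
set_option maxHeartbeats 4000000 in
theorem troct_check : distinctAux (((List.ofFn fun i => troct_model.nodes tr_tabs (troct_roots i)
    (troct_certs i)).flatten).map troct_model.code) 0 = true := by
  decide +kernel

set_option maxRecDepth 1000000 in
set_option maxHeartbeats 4000000 in
theorem troct_len : ∀ i, (troct_model.nodes tr_tabs (troct_roots i) (troct_certs i)).length =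
    troct_sizes i := by
  decide +kernel

set_option maxRecDepth 1000000 in
set_option maxHeartbeats 4000000 in
theorem troct_rootcheck : ∀ i, IsOctadList (troct_roots i) := by
  decide +kernel
def trtrio_roots : Fin 5 → List (List ℕ) := ![
  [[4, 6, 10, 11, 15, 16, 18, 21], [7, 8, 9, 12, 13, 19, 20, 22], [0, 1, 2, 3, 5, 14, 17, 23]],
  [[9, 10, 11, 12, 13, 16, 19, 21], [4, 6, 7, 8, 15, 18, 20, 22], [0, 1, 2, 3, 5, 14, 17, 23]],
  [[0, 1, 2, 4, 11, 15, 17, 21], [6, 10, 12, 16, 18, 19, 20, 22], [3, 5, 7, 8, 9, 13, 14, 23]],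
  [[0, 1, 2, 3, 4, 7, 10, 12], [8, 13, 15, 16, 18, 19, 20, 21], [5, 6, 9, 11, 14, 17, 22, 23]],
  [[0, 1, 2, 3, 4, 7, 10, 12], [5, 6, 8, 9, 14, 18, 19, 20], [11, 13, 15, 16, 17, 21, 22, 23]]]

def trtrio_certs : Fin 5 → List (List ℕ) := ![
  [],
  [[0, 1], [0, 1], [0, 1], [0, 1], [0, 1], [0, 1], [0], [0, 1], [0, 1], [0, 1], [0, 1], [1], [0, 1], [0, 1], [0], [0], [], [0], [0, 1], [], [], [0], [0], [], [1], [0, 1], [0], [0], [1], [], [], [], [0], [], [], [], [], [], [], [0]],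
  [[0, 1], [0, 1], [0], [0, 1], [0], [0, 1], [0, 1], [0], [0, 1], [0, 1], [0, 1], [0, 1], [0, 1], [0, 1], [1], [0], [0, 1], [0, 1], [], [0, 1], [0], [1], [0, 1], [1], [], [1], [0, 1], [0], [0, 1], [0], [], [0, 1], [0, 1], [], [], [], [0], [0], [], [], [], [0], [0, 1], [], [], [], [], [], [], [1]],
  [[0, 1], [0, 1], [0, 1], [0, 1], [0, 1], [0, 1], [0, 1], [0, 1], [0, 1], [0, 1], [0, 1], [0, 1], [0, 1], [0, 1], [0, 1], [0, 1], [0, 1], [0, 1], [0], [0, 1], [0, 1], [0, 1], [0, 1], [1], [0, 1], [0, 1], [1], [0, 1], [0, 1], [0, 1], [0, 1], [0, 1], [0, 1], [0, 1], [0, 1], [0, 1], [0, 1], [0, 1], [0, 1], [0, 1], [0, 1], [1], [1], [0, 1], [0, 1], [0, 1], [0, 1], [0, 1], [0, 1], [0, 1], [0, 1], [0, 1], [0, 1], [0, 1], [0, 1], [0, 1], [0, 1], [0, 1], [], [0], [0, 1], [0, 1], [0, 1], [0, 1], [1], [0, 1], [0, 1], [1], [0, 1], [0, 1], [0, 1], [0, 1], [0, 1], [0, 1], [0, 1], [0, 1], [1], [0], [0, 1], [0, 1], [0, 1], [0, 1], [0, 1], [0],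 [0, 1], [0, 1], [0, 1], [0], [0, 1], [0, 1], [0, 1], [1], [0, 1], [0, 1], [0, 1], [0, 1], [0, 1], [0, 1], [0, 1], [0, 1], [1], [0, 1], [0, 1], [0], [0, 1], [0, 1], [0, 1], [0, 1], [0, 1], [0, 1], [], [0, 1], [0, 1], [0, 1], [0], [0, 1], [0, 1], [0], [0, 1], [0, 1], [0, 1], [0], [0, 1], [0, 1], [1], [0, 1], [0, 1], [0, 1], [0, 1], [0, 1], [0, 1], [0, 1], [1], [0, 1], [0, 1], [0, 1], [0, 1], [0, 1], [0, 1], [0, 1], [0, 1], [0, 1], [0, 1], [0, 1], [], [1], [0, 1], [0, 1], [], [0, 1], [1], [0, 1], [0, 1], [0, 1], [0, 1], [0, 1], [1], [0, 1], [0, 1], [0, 1], [0, 1], [0, 1], [0, 1], [0, 1], [0, 1], [0, 1], [0, 1], [0, 1], [0], [0, 1], [0, 1], [0, 1], [0, 1], [0, 1], [0, 1], [0, 1], [0, 1], [0], [0, 1], [0, 1], [1], [0], [0, 1], [0, 1], [0, 1], [0], [0], [1], [0, 1], [0], [0, 1], [0, 1], [0, 1], [1], [0, 1], [0, 1], [0, 1], [0, 1], [0, 1], [0, 1], [0], [0, 1], [0, 1], [0], [0], [0, 1], [0, 1], [1], [0], [1], [0, 1], [0, 1], [0,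 1], [0, 1], [0, 1], [0, 1], [0, 1], [0, 1], [0, 1], [0, 1], [1], [0, 1], [0, 1], [0, 1], [0, 1], [0, 1], [0, 1], [0, 1], [0, 1], [0, 1], [0, 1], [0], [0], [0, 1], [0], [1], [0, 1], [], [0, 1], [1], [0, 1], [0], [0, 1], [0, 1], [0], [0, 1], [0, 1], [0], [0, 1], [0, 1], [1], [], [0, 1], [0, 1], [0, 1], [1], [0, 1], [0, 1], [0, 1], [], [0, 1], [0, 1], [1], [0], [0, 1], [0, 1], [0, 1], [0, 1], [0], [0], [0, 1], [1], [0], [1], [0, 1], [0, 1], [0, 1], [1], [1], [0, 1], [0, 1], [0, 1], [0], [0], [0, 1], [0, 1], [0, 1], [0, 1], [0], [0, 1], [1], [0, 1], [0], [0], [0, 1], [0, 1], [1], [0, 1], [0, 1], [0, 1], [1], [0, 1], [0], [], [0, 1], [1], [0, 1], [0], [1], [0], [0, 1], [0, 1], [], [0, 1], [0, 1], [0], [0], [0, 1], [0], [1], [0, 1], [0, 1], [0, 1], [0], [0, 1], [0, 1], [1], [0, 1], [0], [0, 1], [1], [], [], [0], [0, 1], [1], [0], [0, 1], [0, 1], [1], [0], [0], [0], [0], [0, 1], [0, 1], [0, 1], [1], [0, 1], [], [], [1], [], [0,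 1], [0, 1], [0], [], [], [0, 1], [1], [0], [1], [1], [0, 1], [0, 1], [1], [], [1], [0, 1], [0, 1], [0, 1], [1], [], [0, 1], [0], [0, 1], [0, 1], [0, 1], [], [1], [], [0, 1], [0], [1], [0, 1], [0], [0, 1], [0], [], [0, 1], [0, 1], [1], [1], [0, 1], [1], [1], [1], [], [], [0, 1], [0, 1], [1], [0], [0], [0], [0, 1], [0, 1], [0, 1], [0], [0], [0], [0, 1], [0, 1], [0, 1], [0, 1], [0, 1], [0, 1], [0], [0], [0], [1], [0, 1], [1], [1], [], [0], [0, 1], [0, 1], [0, 1], [0, 1], [1], [0, 1], [0, 1], [0, 1], [0], [], [], [0], [0], [0], [0, 1], [0, 1], [0], [], [0, 1], [0], [0], [0], [], [0], [0, 1], [0], [0], [], [0, 1], [0, 1], [], [], [], [], [], [1], [0, 1], [0, 1], [1], [1], [], [0], [0, 1], [0, 1], [], [], [0], [], [0, 1], [0], [0], [0, 1], [1], [1], [0, 1], [0], [0], [1], [0], [1], [0], [1], [1], [0], [0], [0], [0], [0], [1], [], [0, 1], [1], [0], [0], [0], [0], [], [], [0], [0], [0], [0], [0, 1], [], [0, 1], [0], [0, 1], [],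 [1], [], [1], [0], [], [], [1], [0, 1], [0], [], [], [], [1], [0], [0, 1], [0], [0], [0, 1], [0], [1], [1], [1], [0], [1], [0, 1], [0], [1], [0, 1], [], [0, 1], [1], [1], [0, 1], [0, 1], [], [], [0, 1], [], [0], [0], [1], [0, 1], [1], [1], [], [], [0, 1], [0], [1], [0], [0, 1], [0], [1], [], [0], [], [], [], [0, 1], [], [1], [], [0], [0], [], [1], [], [0], [1], [], [0], [], [1], [1], [1], [0], [], [], [1], [1], [0, 1], [], [], [1], [], [0, 1], [], [0], [], [], [0], [1], [1], [0], [], [1], [], [], [], [0], [1], [0], [1], [1], [0, 1], [], [0, 1], [], [0, 1], [0], [], [0], [0], [0], [0, 1], [], [0, 1], [], [0], [], [1], [], [], [0, 1], [], [], [], [0, 1], [0], [], [1], [1], [], [0], [], [], [1], [0, 1], [], [1], [], [], [], [0], [], [], [], [0], [], [], [0], [0], [0, 1], [0], [1], [], [0, 1], [0, 1], [1], [], [], [0], [], [], [1], [], [0], [], [1], [], [0], [0], [0, 1], [], [0], [], [], [1], [1], [], [], [], [0], [0], [0],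 [0, 1], [], [0], [], [], [], [], [], [], [1], [0], [], [], [], [], [], [1], [], [], [], [], [1], [1], [0], [0], [0, 1], [1], [1], [], [0], [0], [0], [], [], [0], [], [1], [1], [], [], [], [0, 1], [1], [], [1], [], [1], [0], [0, 1], [1], [1], [1], [0, 1], [0], [1], [], [], [], [], [], [], [], [], [0], [1], [], [0], [1], [], [], [0], [1], [1], [0], [0], [], [], [], [1], [0], [0], [], [0], [1], [], [0], [], [], [], [1], [], [0, 1], [], [], [], [], [0], [], [], [0], [], [], [], [], [], [], [], [0, 1], [0], [], [], [], [], [], [], [], [], [], [], [], [], [], [], [0], [], [], [], [], [], [1], [], [], [], [], [], [0], [0], [], [], [], [], [1], [1], [], [], [], [0], [], [], [], [0], [], [0], [], [], [], [], [1], [], [0, 1], [1], [], [], [], [], [0], [], [0], [], [0, 1], [0], [], [], [], [], [], [], [], [1], [], [], [], [], [], [], [], [0], [], [], [], [0], [], [], [1], [], [], [], [], [1], [], [], [], [], [0], [], [0], [], [], [],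 [], [1], [], [], [], [], [0], [], [], [], [], [], [], [], [], [1], [], [], [], [], [], [], [], [1], [], [], [], [], [1], [0], [], [], [], [], [], [], [], [], [], [], [], [], [], [], [], [], [], [], [], [], [], [], [], [0], [], [], [0, 1]],
  [[0, 1], [0, 1], [0, 1], [0, 1], [0, 1], [0, 1], [0, 1], [0, 1], [0, 1], [0, 1], [0, 1], [0, 1], [0, 1], [0, 1], [0, 1], [0, 1], [0, 1], [0, 1], [0, 1], [0, 1], [0, 1], [0, 1], [0, 1], [0, 1], [0, 1], [0, 1], [0, 1], [0, 1], [0, 1], [0, 1], [0, 1], [0, 1], [0, 1], [0, 1], [0, 1], [0, 1], [0, 1], [0, 1], [0, 1], [0, 1], [0, 1], [0], [0, 1], [0, 1], [0, 1], [0, 1], [0, 1], [0, 1], [0, 1], [0], [0, 1], [0, 1], [0, 1], [0, 1], [0, 1], [0, 1], [0, 1], [0, 1], [0, 1], [0, 1], [1], [0, 1], [0], [0, 1], [0, 1], [0, 1], [0, 1], [0, 1], [0, 1], [0, 1], [0, 1], [0, 1], [0, 1], [0, 1], [0, 1], [0, 1], [0, 1], [0, 1], [0, 1], [0, 1], [0, 1], [0, 1], [0, 1], [0, 1], [0, 1], [0, 1], [0, 1], [0, 1],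 [0, 1], [0, 1], [0, 1], [0, 1], [0, 1], [0], [0, 1], [0, 1], [1], [0, 1], [0, 1], [0, 1], [0, 1], [0, 1], [0, 1], [0, 1], [0, 1], [0, 1], [0, 1], [0, 1], [1], [0, 1], [0], [0, 1], [0, 1], [0, 1], [0, 1], [0, 1], [0, 1], [0, 1], [0, 1], [0, 1], [0, 1], [0, 1], [0, 1], [0, 1], [0, 1], [0, 1], [0, 1], [0], [0, 1], [0, 1], [0, 1], [0, 1], [0, 1], [0, 1], [0, 1], [0, 1], [0, 1], [0, 1], [0, 1], [0, 1], [0, 1], [0, 1], [0], [0, 1], [0, 1], [0, 1], [0, 1], [0, 1], [0, 1], [], [0, 1], [0, 1], [0, 1], [0, 1], [], [0, 1], [0, 1], [0, 1], [0, 1], [0, 1], [0], [0, 1], [0, 1], [0, 1], [0, 1], [0, 1], [0, 1], [0, 1], [0], [0, 1], [0, 1], [0, 1], [0, 1], [0, 1], [0, 1], [0, 1], [0, 1], [0, 1], [0, 1], [0, 1], [1], [0, 1], [0, 1], [0, 1], [0, 1], [0, 1], [0, 1], [0, 1], [0, 1], [0, 1], [0, 1], [0, 1], [0, 1], [0, 1], [0, 1], [1], [0, 1], [0, 1], [0, 1], [0, 1], [0], [0, 1], [0, 1], [0], [0, 1], [0, 1], [0, 1], [0, 1], [0], [0, 1], [0, 1],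 [0], [0, 1], [0, 1], [0, 1], [0], [0, 1], [0, 1], [0, 1], [0, 1], [0, 1], [0, 1], [0, 1], [0, 1], [0, 1], [0, 1], [1], [0, 1], [0], [0, 1], [0, 1], [0], [0, 1], [0, 1], [0, 1], [0, 1], [0, 1], [0, 1], [0, 1], [0, 1], [0, 1], [1], [0, 1], [0], [1], [0, 1], [0, 1], [0, 1], [0, 1], [0, 1], [0, 1], [0, 1], [1], [0, 1], [0, 1], [0, 1], [0, 1], [0], [0, 1], [0], [0], [0, 1], [0, 1], [0, 1], [0, 1], [0, 1], [0, 1], [0], [0, 1], [0], [], [0], [0, 1], [0, 1], [0, 1], [0, 1], [0, 1], [0, 1], [0, 1], [1], [0, 1], [1], [0], [0, 1], [0, 1], [0, 1], [0, 1], [1], [0, 1], [0, 1], [0, 1], [0, 1], [0, 1], [0, 1], [0, 1], [0, 1], [1], [0, 1], [0, 1], [0, 1], [0, 1], [0, 1], [0, 1], [0, 1], [1], [0, 1], [0], [0], [0, 1], [0, 1], [1], [0, 1], [0, 1], [0], [0, 1], [0, 1], [0, 1], [0, 1], [0, 1], [0, 1], [1], [0, 1], [0], [0, 1], [0, 1], [0, 1], [0, 1], [0], [0, 1], [0, 1], [0, 1], [0, 1], [1], [0, 1], [0, 1], [0, 1], [0, 1], [0, 1], [0, 1], [1],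 [0, 1], [0, 1], [0, 1], [0, 1], [1], [0, 1], [1], [0, 1], [0, 1], [0, 1], [1], [0, 1], [0, 1], [0], [0, 1], [0, 1], [0, 1], [0, 1], [1], [0, 1], [0, 1], [0, 1], [1], [0, 1], [0, 1], [1], [1], [0, 1], [0, 1], [0, 1], [0, 1], [0, 1], [0, 1], [1], [0, 1], [0], [], [0, 1], [0, 1], [0, 1], [0], [0, 1], [0, 1], [1], [0, 1], [0, 1], [0, 1], [1], [0, 1], [1], [1], [0, 1], [0, 1], [0, 1], [0, 1], [0, 1], [0, 1], [0, 1], [0, 1], [0, 1], [0, 1], [0, 1], [0], [0, 1], [0, 1], [0, 1], [0, 1], [0, 1], [0, 1], [0, 1], [0, 1], [1], [0, 1], [0, 1], [0, 1], [0], [0, 1], [0, 1], [0, 1], [1], [1], [0, 1], [0, 1], [1], [0, 1], [0, 1], [0, 1], [0, 1], [0, 1], [0, 1], [0], [0, 1], [0, 1], [0, 1], [0], [0], [0, 1], [0, 1], [], [0, 1], [1], [0, 1], [0], [0, 1], [0, 1], [1], [0, 1], [0, 1], [0, 1], [1], [0, 1], [0, 1], [0, 1], [0], [0, 1], [1], [0], [0, 1], [0], [0, 1], [0, 1], [0, 1], [0], [0], [1], [0], [0], [0, 1], [0, 1], [0, 1], [1], [0, 1],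 [0, 1], [1], [0, 1], [0, 1], [0, 1], [0, 1], [], [0], [0, 1], [0], [0, 1], [0], [0, 1], [0, 1], [0, 1], [0, 1], [0], [0, 1], [0, 1], [0, 1], [0, 1], [0, 1], [0, 1], [0, 1], [0], [0, 1], [0, 1], [0, 1], [0, 1], [0], [0, 1], [0, 1], [1], [0, 1], [0, 1], [0, 1], [1], [0, 1], [0, 1], [0, 1], [0, 1], [0, 1], [0, 1], [0, 1], [0, 1], [0, 1], [0, 1], [0, 1], [0], [0, 1], [0, 1], [0, 1], [0, 1], [1], [0], [0, 1], [1], [0], [0, 1], [0, 1], [0, 1], [0], [0], [0, 1], [0, 1], [0, 1], [0], [1], [1], [], [0], [0, 1], [0, 1], [0, 1], [0, 1], [0, 1], [0], [0, 1], [0, 1], [0, 1], [0, 1], [0, 1], [0, 1], [1], [0, 1], [0, 1], [0], [0, 1], [0, 1], [0, 1], [0, 1], [0], [1], [0, 1], [0, 1], [0], [0], [1], [0, 1], [0, 1], [1], [1], [1], [0], [0], [0], [0], [0, 1], [0, 1], [0], [0, 1], [0, 1], [0, 1], [1], [], [1], [1], [0, 1], [], [1], [0], [0, 1], [], [0, 1], [0, 1], [0, 1], [1], [1], [0], [0, 1], [1], [0, 1], [0], [0, 1], [0, 1], [0, 1], [0],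 [0, 1], [0, 1], [0, 1], [0], [0, 1], [1], [0, 1], [1], [0, 1], [0, 1], [0, 1], [0], [1], [0, 1], [0, 1], [0, 1], [1], [0], [0, 1], [], [0, 1], [1], [1], [0, 1], [1], [0, 1], [0, 1], [0, 1], [0, 1], [0, 1], [0, 1], [0, 1], [0, 1], [0, 1], [1], [], [1], [0, 1], [0], [0, 1], [0, 1], [0, 1], [0, 1], [0, 1], [0, 1], [0, 1], [0], [1], [0, 1], [0, 1], [0, 1], [0, 1], [1], [0], [0, 1], [0], [1], [], [0, 1], [0], [0, 1], [0, 1], [0, 1], [], [0, 1], [0], [0, 1], [1], [0, 1], [1], [0, 1], [0], [0, 1], [0, 1], [1], [], [0, 1], [0, 1], [0, 1], [1], [1], [0, 1], [0, 1], [0, 1], [0, 1], [0], [0], [0, 1], [0], [0, 1], [0], [0, 1], [0, 1], [0, 1], [0, 1], [0], [1], [1], [0, 1], [0, 1], [0, 1], [0], [0], [0], [0], [0, 1], [0, 1], [1], [0, 1], [1], [0, 1], [0, 1], [0, 1], [0, 1], [0, 1], [0, 1], [0, 1], [1], [1], [0], [0], [1], [], [0, 1], [0, 1], [0, 1], [1], [0, 1], [0, 1], [0, 1], [0], [1], [0, 1], [0, 1], [1], [0, 1], [0, 1], [0, 1], [],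 [0, 1], [0, 1], [0, 1], [], [0, 1], [0, 1], [0, 1], [0, 1], [1], [0, 1], [1], [1], [0, 1], [], [1], [0, 1], [1], [1], [0, 1], [0, 1], [], [0, 1], [], [0, 1], [1], [0, 1], [0, 1], [1], [0], [0], [0, 1], [0], [], [0, 1], [0, 1], [0, 1], [0, 1], [0, 1], [0, 1], [1], [0], [0], [0, 1], [0, 1], [0], [0, 1], [0], [0, 1], [0, 1], [0, 1], [1], [0, 1], [0], [0, 1], [0], [0, 1], [0], [0], [0, 1], [0], [], [0, 1], [0], [1], [0, 1], [0, 1], [0], [0, 1], [1], [0, 1], [0, 1], [0, 1], [1], [1], [0], [0, 1], [1], [0, 1], [0], [0, 1], [1], [1], [], [1], [0, 1], [1], [0, 1], [0, 1], [0, 1], [1], [1], [], [0], [1], [1], [0, 1], [0], [1], [0, 1], [0, 1], [0, 1], [0, 1], [], [0], [0, 1], [0], [1], [0, 1], [0, 1], [0, 1], [1], [1], [0, 1], [], [1], [0, 1], [], [0, 1], [0], [1], [0, 1], [], [1], [1], [1], [0], [], [0], [0, 1], [0], [0], [], [0, 1], [0], [0], [0, 1], [0, 1], [0], [0, 1], [], [0], [0], [1], [1], [0, 1], [0, 1], [0, 1], [0, 1], [0,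 1], [1], [1], [0, 1], [0, 1], [], [0, 1], [0, 1], [0, 1], [0, 1], [0], [], [0, 1], [0], [0, 1], [1], [0, 1], [1], [0, 1], [1], [1], [1], [0], [1], [0, 1], [0], [1], [0, 1], [0, 1], [1], [], [0, 1], [1], [0], [0], [0], [0, 1], [], [0], [0, 1], [0], [0], [0, 1], [0], [0, 1], [1], [0, 1], [0, 1], [0, 1], [0, 1], [1], [0], [0], [], [0], [0, 1], [], [0, 1], [0], [1], [1], [0, 1], [], [0, 1], [0], [0, 1], [0, 1], [1], [0, 1], [0], [0], [], [], [0, 1], [0], [0, 1], [1], [0, 1], [0], [0, 1], [1], [1], [1], [0], [0, 1], [0], [0], [], [0, 1], [0, 1], [0, 1], [0, 1], [0, 1], [], [1], [0], [0, 1], [1], [1], [1], [0, 1], [1], [0, 1], [0, 1], [1], [0], [0, 1], [0, 1], [], [0, 1], [0, 1], [0, 1], [0], [], [0], [0], [1], [0], [0], [0, 1], [], [1], [1], [0], [0, 1], [0], [1], [1], [0, 1], [1], [1], [0, 1], [0, 1], [1], [1], [0, 1], [0], [], [0], [], [0], [1], [1], [0, 1], [0, 1], [], [1], [0, 1], [1], [0, 1], [0], [0], [0], [0, 1], [], [0,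 1], [0, 1], [0, 1], [0, 1], [], [0], [1], [0], [0, 1], [0, 1], [1], [0, 1], [1], [0, 1], [], [1], [0, 1], [], [0], [0], [0, 1], [0], [], [0, 1], [1], [0], [1], [1], [], [0], [], [1], [0, 1], [0], [0, 1], [1], [0, 1], [0, 1], [0, 1], [1], [0], [], [0], [], [1], [0], [0, 1], [0, 1], [0], [0], [], [], [0, 1], [1], [1], [1], [0, 1], [0, 1], [1], [1], [0], [0, 1], [0], [0], [0, 1], [1], [1], [0, 1], [0, 1], [1], [1], [0], [0, 1], [0], [], [0], [1], [1], [0], [0, 1], [0, 1], [0, 1], [0, 1], [0, 1], [0, 1], [0, 1], [0, 1], [0, 1], [0, 1], [0], [], [1], [0, 1], [0, 1], [0, 1], [], [1], [0, 1], [0], [], [1], [0], [0, 1], [], [1], [0, 1], [], [0, 1], [0, 1], [], [1], [], [0, 1], [1], [], [0], [0], [0, 1], [0], [0, 1], [1], [], [1], [0], [1], [0, 1], [0, 1], [0, 1], [0], [0, 1], [0, 1], [0, 1], [1], [0], [0, 1], [0, 1], [0, 1], [1], [1], [1], [0, 1], [], [0, 1], [0, 1], [0, 1], [0], [1], [1], [0, 1], [0], [1], [], [1], [1], [], [0,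 1], [0, 1], [1], [0], [1], [], [1], [0, 1], [0, 1], [0], [1], [0], [1], [0, 1], [0, 1], [1], [0, 1], [], [1], [0, 1], [0], [], [], [0, 1], [0, 1], [1], [0], [], [1], [], [], [], [0], [0], [1], [0, 1], [], [1], [0, 1], [1], [0], [0], [0, 1], [0], [], [0, 1], [0, 1], [0, 1], [1], [0, 1], [0, 1], [0, 1], [], [0, 1], [0, 1], [1], [0], [1], [0], [], [0], [1], [], [0, 1], [0, 1], [1], [], [1], [0], [], [1], [], [], [1], [0, 1], [0], [0, 1], [], [], [1], [], [0], [1], [0], [1], [0, 1], [0, 1], [], [], [], [1], [1], [], [0, 1], [], [0, 1], [0, 1], [1], [1], [0, 1], [0], [], [1], [], [1], [0, 1], [0, 1], [], [0, 1], [1], [0], [0, 1], [1], [0], [], [1], [], [], [], [0], [0, 1], [0], [0], [], [], [0], [], [], [0], [0], [1], [], [], [1], [0, 1], [0, 1], [1], [0], [0], [0, 1], [1], [], [1], [1], [], [], [0, 1], [], [0, 1], [], [], [0, 1], [0], [], [0, 1], [1], [0, 1], [0], [1], [0], [1], [0, 1], [0, 1], [], [0], [0], [1], [], [0], [0,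 1], [0, 1], [0, 1], [0, 1], [1], [0, 1], [1], [0], [1], [1], [], [0], [0, 1], [0, 1], [0, 1], [], [0], [0], [], [0, 1], [0], [], [0], [0], [0], [], [0], [0, 1], [], [0], [0, 1], [], [], [0, 1], [0], [], [], [0], [1], [0], [], [1], [1], [0, 1], [0, 1], [0], [], [0], [], [1], [1], [0], [], [1], [0, 1], [0], [1], [1], [0, 1], [], [1], [], [], [1], [0, 1], [0], [1], [], [1], [1], [0, 1], [1], [0], [], [1], [], [1], [0], [], [0], [1], [1], [0, 1], [0, 1], [0], [0, 1], [0, 1], [0], [], [0, 1], [1], [], [1], [0], [], [], [1], [], [0], [0, 1], [], [0], [0, 1], [0], [0], [0], [], [0, 1], [1], [0], [0], [0], [1], [0, 1], [0, 1], [0, 1], [0], [0], [0, 1], [], [], [], [1], [], [1], [1], [1], [0, 1], [0], [], [0, 1], [0], [1], [], [0, 1], [], [], [1], [0], [], [1], [0], [0, 1], [0, 1], [0], [], [], [], [], [], [], [0], [0], [0], [], [], [0, 1], [], [], [0], [1], [1], [1], [], [], [], [], [0, 1], [1], [], [0, 1], [1], [], [], [0], [1],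 [1], [1], [1], [1], [], [], [0], [0], [], [], [], [0, 1], [], [0], [], [0], [], [1], [1], [0], [0, 1], [1], [0, 1], [], [], [0, 1], [], [1], [1], [0, 1], [], [], [], [0, 1], [], [0, 1], [], [0, 1], [], [], [0], [1], [1], [0, 1], [0], [], [1], [0, 1], [1], [], [], [0], [], [], [], [1], [0, 1], [], [0], [], [], [], [1], [0, 1], [], [], [], [0], [0], [0], [0], [1], [0, 1], [0, 1], [1], [], [1], [], [1], [], [], [1], [], [], [0, 1], [0], [0, 1], [], [], [], [0, 1], [], [0], [], [1], [], [1], [1], [], [1], [0], [], [1], [0], [], [1], [], [0], [], [], [0], [0], [], [1], [1], [0], [], [0, 1], [], [], [0], [0], [], [1], [0, 1], [], [], [1], [0, 1], [], [0, 1], [0], [0], [], [0], [0], [0, 1], [0], [1], [], [1], [0], [], [0, 1], [1], [], [0, 1], [1], [], [1], [0], [], [], [0], [0, 1], [], [], [], [0], [], [], [], [1], [1], [], [], [0], [1], [], [0], [1], [0], [], [0], [0, 1], [0, 1], [0], [1], [], [], [], [0, 1], [0], [], [], [],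 [1], [1], [0], [], [1], [1], [], [0], [1], [0], [0], [], [], [], [0], [0], [], [], [], [1], [0, 1], [0, 1], [1], [], [0], [], [0], [], [], [1], [], [0], [], [], [], [1], [], [0], [1], [1], [1], [0, 1], [0, 1], [1], [1], [], [0, 1], [], [1], [0], [0], [0, 1], [0], [], [0], [0], [0], [], [], [0, 1], [1], [0], [], [], [0], [1], [0], [], [0], [], [0, 1], [], [], [], [0], [1], [1], [0], [], [], [1], [1], [], [0], [], [], [], [1], [1], [], [], [], [], [1], [0], [1], [1], [0], [], [], [1], [1], [0], [0], [0, 1], [], [], [], [], [], [], [], [], [0], [], [0], [0], [1], [], [], [], [1], [], [0], [1], [0, 1], [], [0], [0, 1], [], [0, 1], [], [], [], [1], [1], [], [], [1], [], [1], [0], [], [], [], [0], [], [0, 1], [0], [1], [1], [1], [0, 1], [], [], [0, 1], [0], [0], [1], [], [], [1], [1], [], [1], [0], [], [1], [], [0], [], [], [1], [], [0], [], [], [], [1], [], [], [], [1], [], [], [0, 1], [0], [], [], [], [], [0], [0], [0], [],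 [], [], [1], [], [], [], [1], [], [0], [], [], [0], [0, 1], [0], [], [0], [], [0], [0], [0, 1], [0], [], [1], [1], [], [], [0], [], [], [], [], [0, 1], [0], [0], [0], [0], [], [0], [], [0, 1], [0], [1], [0], [], [1], [], [1], [], [], [], [], [], [], [], [], [], [], [], [], [], [1], [], [], [], [0], [0, 1], [], [], [], [0], [], [], [], [1], [1], [1], [], [], [], [], [1], [], [0], [0], [0], [0, 1], [], [1], [], [], [], [], [0], [0], [1], [0, 1], [1], [], [1], [], [0, 1], [], [1], [], [0], [], [0], [], [], [0, 1], [1], [0], [], [0, 1], [], [0], [0], [0], [], [], [], [0, 1], [0, 1], [], [], [], [0, 1], [0], [], [0, 1], [], [0], [], [], [], [1], [0], [], [0], [], [0], [], [], [0], [0], [], [0], [], [0, 1], [1], [1], [], [], [0], [], [], [], [], [], [0, 1], [], [1], [], [], [], [], [], [1], [1], [0, 1], [], [], [1], [], [1], [], [1], [], [0, 1], [], [], [], [0], [0], [0], [0, 1], [1], [0], [1], [1], [], [], [], [], [], [1], [],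 [], [], [], [1], [], [0], [], [0], [1], [0], [0], [1], [], [1], [], [], [], [1], [0], [], [1], [], [], [], [], [0, 1], [], [], [], [], [], [], [], [1], [], [], [], [1], [], [], [0], [1], [1], [0], [], [1], [], [0, 1], [], [0], [], [1], [], [1], [1], [], [], [], [], [], [1], [], [], [], [1], [], [], [0], [], [], [], [], [], [], [0], [0, 1], [], [], [], [], [0], [1], [0], [0], [0], [], [1], [], [], [], [], [], [], [], [1], [], [], [], [1], [1], [], [], [], [], [], [], [1], [1], [], [], [1], [], [0], [], [], [0, 1], [], [], [], [0], [1], [], [], [], [], [], [], [], [], [], [], [], [0], [], [1], [], [0], [], [], [], [], [], [], [], [], [], [], [0], [], [], [], [], [], [0], [], [], [], [], [1], [], [0], [], [0, 1], [1], [], [], [], [0], [1], [0], [], [], [0], [], [], [0], [], [0], [], [], [1], [], [], [], [], [], [0], [1], [], [], [], [], [], [], [], [0, 1], [], [], [], [], [], [], [0], [0], [], [0], [0], [], [], [], [], [],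 [], [], [], [], [1], [], [], [], [], [1], [0], [], [], [], [], [], [], [1], [], [0], [1], [], [0], [], [], [1], [], [], [], [], [1], [], [], [], [], [], [], [], [], [], [], [], [], [], [0], [], [], [0, 1], [], [], [0], [], [], [1], [], [0], [], [], [], [0], [], [], [], [], [], [], [], [0], [], [], [], [], [], [], [], [1], [], [], [], [], [], [], [], [1], [], [1], [], [], [], [], [], [], [], [0], [], [], [0], [], [], [0], [], [], [], [], [0], [], [], [], [], [], [0], [], [1], [], [], [0], [], [], [], [], [], [], [], [], [], [], [1], [], [], [0], [], [], [], [], [0, 1], [], [], [], [1], [], [], [1], [], [], [], [], [], [], [], [], [], [], [0], [], [], [], [], [], [1], [], [1], [], [], [], [], [], [], [], [], [1], [], [0], [], [], [0], [], [], [], [], [], [], [], [], [], [], [], [], [], [], [], [], [], [], [], [], [], [], [], [], [0], [], [], [1], [], [], [], [], [], [], [], [], [], [], [], [], [], [], [], [], [], [], [], [0],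 [0], [], [], [], [], [], [], [], [], [0], [], [], [], [], [], [], [], [], [1], [], [], [], [], [], [], [], [], [], [], [], [], [], [], [], [], [], [], [], [], [], [], [], [], [], [], [], [], [0]]]

def trtrio_sizes : Fin 5 → ℕ := ![1, 42, 56, 1008, 2688]

abbrev trtrio_model := (famModel 1222356008 2147483647 2097152)

set_option maxRecDepth 1000000 in
set_option maxHeartbeats 4000000 in
theorem trtrio_check : distinctAux (((List.ofFn fun i => trtrio_model.nodes tr_tabs (trtrio_roots i)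
    (trtrio_certs i)).flatten).map trtrio_model.code) 0 = true := by
  decide +kernel

set_option maxRecDepth 1000000 in
set_option maxHeartbeats 4000000 in
theorem trtrio_len : ∀ i, (trtrio_model.nodes tr_tabs (trtrio_roots i) (trtrio_certs i)).length =
    trtrio_sizes i := by
  decide +kernel

set_option maxRecDepth 1000000 in
set_option maxHeartbeats 4000000 in
theorem trtrio_rootcheck : ∀ i, IsTrioList (trtrio_roots i) := by
  decide +kernel
def trsext_roots : Fin 4 → List (List ℕ) := ![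
  [[7, 8, 9, 13], [0, 1, 2, 17], [6, 10, 16, 18], [4, 11, 15, 21], [12, 19, 20, 22], [3, 5, 14, 23]],
  [[0, 1, 2, 3], [4, 7, 10, 12], [8, 15, 16, 19], [13, 18, 20, 21], [6, 9, 11, 22], [5, 14, 17, 23]],
  [[0, 1, 4, 6], [7, 11, 13, 18], [2, 8, 14, 20], [3, 5, 16, 21], [10, 15, 19, 22], [9, 12, 17, 23]],
  [[0, 1, 2, 4], [3, 7, 10, 12], [5, 9, 18, 19], [6, 8, 14, 20], [11, 15, 17, 21], [13, 16, 22, 23]]]

def trsext_certs : Fin 4 → List (List ℕ) := ![
  [[0, 1], [0], [0], [0, 1]],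
  [[0, 1], [0, 1], [0, 1], [0], [0, 1], [0, 1], [0], [0, 1], [0, 1], [0, 1], [0, 1], [0, 1], [0, 1], [0, 1], [1], [0, 1], [1], [1], [1], [1], [0, 1], [], [1], [1], [0, 1], [0, 1], [0, 1], [1], [0], [1], [1], [0, 1], [0, 1], [1], [0], [0], [0], [0, 1], [1], [0], [], [1], [1], [0], [1], [0], [0], [0], [0], [0], [1], [0], [0, 1], [0], [0], [0, 1], [], [], [], [0], [0], [], [0], [1], [], [], [], [], [1], [1], [], [], [], [], [], [0]],
  [[0, 1], [0, 1], [0, 1], [0, 1], [0, 1], [0, 1], [0, 1], [0, 1], [0, 1], [1], [0, 1], [0, 1], [0], [0, 1], [0, 1], [1], [0, 1], [0, 1], [0, 1], [0, 1], [0, 1], [0, 1], [0, 1], [0, 1], [0, 1], [0, 1], [0, 1], [0, 1], [0, 1], [0, 1], [0], [0, 1], [0, 1], [0, 1], [0, 1], [0, 1], [1], [0], [0, 1], [0], [0, 1], [0, 1], [0, 1], [1], [0, 1], [0, 1], [0, 1], [0, 1], [0, 1], [0, 1], [0, 1], [0, 1], [0, 1], [1], [0, 1], [], [0, 1], [0, 1], [0], [0, 1], [0], [1], [0], [0, 1], [0], [0, 1], [0, 1], [0], [0,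 1], [0, 1], [1], [0], [0], [0, 1], [0, 1], [0, 1], [0], [], [1], [0], [0, 1], [0, 1], [0, 1], [0], [0], [0, 1], [0, 1], [], [0, 1], [1], [0, 1], [0, 1], [0, 1], [0], [1], [0, 1], [0, 1], [0], [1], [0, 1], [0, 1], [0, 1], [1], [1], [0, 1], [1], [0, 1], [0, 1], [0, 1], [0, 1], [], [0], [0], [1], [0, 1], [0], [1], [0, 1], [], [0, 1], [0, 1], [], [0], [0], [0, 1], [1], [0, 1], [0, 1], [1], [0, 1], [0], [0], [], [0, 1], [0, 1], [0], [0], [], [0, 1], [1], [0], [0, 1], [0, 1], [0, 1], [0, 1], [0, 1], [], [1], [], [0], [0], [0, 1], [0, 1], [0], [1], [0, 1], [0], [0, 1], [1], [1], [0], [], [1], [0, 1], [1], [0, 1], [0], [0], [0], [1], [0, 1], [1], [1], [1], [1], [1], [], [0], [], [1], [0, 1], [1], [0], [0, 1], [0], [], [], [0], [1], [], [0], [], [], [], [], [], [], [1], [1], [0, 1], [1], [], [], [1], [1], [0, 1], [], [0], [], [0, 1], [], [], [], [0, 1], [0, 1], [0], [1], [0], [], [1], [], [], [0], [0], [], [0], [0, 1], [], [0], [0],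 [0], [], [1], [0], [], [], [0], [], [1], [1], [1], [], [], [0], [0, 1], [0], [], [], [], [], [0], [], [], [], [1], [1], [1], [0], [0], [1], [1], [], [], [], [0], [], [0], [0], [], [], [], [0], [], [], [0], [], [], [], [], [1], [0], [], [], [], [], [], [], [1], [], [1], [], [], [], [0], [], [], [], [], [], [], [], [], [], [], [0], [], [], [], [], [], [], [], [], [], [], [], [1], [], [], [], [], [], [], [], [], [], [], [], [], [], [0]],
  [[0, 1], [0, 1], [0, 1], [0, 1], [0, 1], [0, 1], [0, 1], [0, 1], [0, 1], [0, 1], [0, 1], [0, 1], [0, 1], [0, 1], [0, 1], [0, 1], [0, 1], [0, 1], [0, 1], [0, 1], [0, 1], [1], [0, 1], [0, 1], [0, 1], [0, 1], [0], [0, 1], [0, 1], [0, 1], [0, 1], [0, 1], [1], [0, 1], [0, 1], [0, 1], [0, 1], [0, 1], [0, 1], [0, 1], [0, 1], [0, 1], [0, 1], [0, 1], [0, 1], [0, 1], [0, 1], [0, 1], [0, 1], [0, 1], [0, 1], [0, 1], [0], [0, 1], [0, 1], [0, 1], [0, 1], [0, 1], [0, 1], [0, 1], [0], [0, 1], [0, 1], [0,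 1], [0, 1], [0, 1], [0, 1], [0, 1], [0, 1], [0, 1], [0, 1], [0, 1], [0, 1], [0, 1], [0, 1], [0, 1], [0, 1], [0, 1], [0, 1], [0, 1], [0, 1], [0, 1], [1], [0, 1], [0, 1], [0, 1], [0, 1], [0, 1], [0], [0], [0, 1], [0, 1], [1], [0, 1], [0, 1], [0, 1], [0, 1], [0], [0], [0, 1], [0, 1], [0, 1], [0, 1], [0, 1], [0, 1], [1], [0, 1], [0, 1], [0, 1], [0, 1], [0, 1], [0, 1], [1], [0, 1], [0], [0, 1], [0, 1], [0, 1], [1], [0], [0, 1], [0, 1], [0, 1], [0, 1], [0, 1], [], [0, 1], [1], [0, 1], [0], [0, 1], [0, 1], [0, 1], [0, 1], [0, 1], [0], [0, 1], [0, 1], [0, 1], [0, 1], [0, 1], [0, 1], [0, 1], [0, 1], [0, 1], [0, 1], [0, 1], [0], [0, 1], [0, 1], [0, 1], [0, 1], [0, 1], [0], [0, 1], [0, 1], [0, 1], [0, 1], [0, 1], [0], [0, 1], [0, 1], [0, 1], [0], [0, 1], [0], [0, 1], [1], [0, 1], [0, 1], [1], [0, 1], [0], [0, 1], [0, 1], [0, 1], [0, 1], [1], [0, 1], [0, 1], [0, 1], [0, 1], [0, 1], [0, 1], [0, 1], [0, 1], [0, 1], [0, 1], [0, 1], [0,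 1], [1], [0, 1], [0, 1], [0, 1], [0, 1], [0], [0, 1], [0, 1], [0, 1], [0, 1], [0, 1], [0], [0, 1], [0, 1], [0, 1], [0, 1], [1], [0, 1], [0, 1], [0, 1], [0, 1], [0, 1], [0], [0, 1], [1], [0, 1], [0, 1], [0], [0], [0, 1], [0, 1], [0, 1], [0, 1], [0, 1], [0, 1], [1], [0, 1], [0, 1], [0, 1], [0, 1], [0, 1], [1], [1], [0], [0, 1], [0, 1], [0, 1], [0, 1], [0, 1], [0, 1], [0, 1], [0, 1], [0], [0, 1], [0], [1], [0], [0, 1], [0, 1], [0, 1], [0, 1], [0, 1], [0, 1], [0, 1], [0, 1], [0], [0, 1], [0, 1], [0, 1], [0, 1], [0, 1], [0, 1], [0, 1], [0], [0], [0, 1], [1], [0, 1], [0], [0, 1], [0], [1], [0], [0, 1], [0, 1], [0, 1], [0, 1], [0], [0], [0], [1], [0, 1], [0, 1], [1], [1], [0], [0, 1], [0], [1], [], [0], [0], [0, 1], [0], [0, 1], [0, 1], [0, 1], [0], [0], [0, 1], [0, 1], [1], [0], [0, 1], [0], [0], [0, 1], [1], [0, 1], [0, 1], [], [1], [0, 1], [0], [0, 1], [0, 1], [1], [0, 1], [1], [1], [0, 1], [1], [0, 1], [0, 1], [1], [0, 1],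 [0, 1], [], [0, 1], [0, 1], [0, 1], [0, 1], [0, 1], [1], [0], [1], [0], [0], [1], [0, 1], [1], [0, 1], [1], [0], [0, 1], [0], [0], [1], [0], [], [0, 1], [0, 1], [0, 1], [0, 1], [0, 1], [0, 1], [0, 1], [0], [1], [0], [0, 1], [0, 1], [0], [0, 1], [1], [0, 1], [0], [1], [1], [1], [], [0, 1], [0], [], [0], [0, 1], [0, 1], [0], [0], [0], [0], [0, 1], [0, 1], [0, 1], [0], [1], [0, 1], [0, 1], [0], [0, 1], [0, 1], [], [0, 1], [0, 1], [0, 1], [0], [0, 1], [1], [0, 1], [0, 1], [1], [0, 1], [0, 1], [1], [], [0, 1], [0, 1], [0, 1], [0], [1], [], [0, 1], [0, 1], [1], [], [0, 1], [1], [], [1], [], [0, 1], [0], [1], [0, 1], [0, 1], [0], [0], [0, 1], [0], [0, 1], [0, 1], [0], [0], [1], [1], [0, 1], [0, 1], [0, 1], [], [0], [0], [1], [], [1], [0], [0], [0, 1], [0], [0, 1], [0], [1], [0, 1], [0, 1], [1], [1], [1], [1], [0, 1], [0, 1], [0], [1], [], [0], [1], [0, 1], [0, 1], [0, 1], [0, 1], [1], [0], [1], [0], [1], [], [0, 1], [0, 1], [1],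 [], [0, 1], [0], [0, 1], [0, 1], [], [0], [], [1], [1], [1], [0], [0, 1], [0], [], [0, 1], [0, 1], [0, 1], [0, 1], [0, 1], [1], [0, 1], [0, 1], [1], [0, 1], [1], [1], [0, 1], [1], [0, 1], [], [0, 1], [0], [0, 1], [0], [0], [], [1], [0, 1], [], [0, 1], [1], [0, 1], [0, 1], [0, 1], [0, 1], [1], [0], [0], [1], [], [0], [0], [0], [], [], [0, 1], [0], [1], [0], [], [0, 1], [0], [0, 1], [1], [1], [0], [1], [1], [0], [1], [0], [0], [0, 1], [0, 1], [0, 1], [0], [0, 1], [0, 1], [1], [1], [0], [0, 1], [0, 1], [0], [0, 1], [1], [1], [1], [0, 1], [], [0], [1], [], [0], [], [1], [1], [0, 1], [], [0], [0, 1], [], [0], [0], [], [0], [0], [0], [], [1], [0], [], [0], [0, 1], [0], [0], [0], [0, 1], [0], [1], [], [0, 1], [0, 1], [0, 1], [0], [0, 1], [0, 1], [1], [0, 1], [0], [], [0], [0], [], [0], [0], [0, 1], [1], [0, 1], [], [], [0, 1], [1], [0, 1], [], [], [1], [0, 1], [], [], [], [0], [], [], [0], [0, 1], [], [0], [1], [1], [0, 1], [],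 [1], [1], [0, 1], [0, 1], [1], [1], [0, 1], [0], [1], [0], [], [], [0, 1], [0, 1], [0], [0, 1], [0, 1], [], [1], [0], [0, 1], [0, 1], [], [0, 1], [], [], [1], [1], [0, 1], [0], [], [0], [0, 1], [1], [0], [0, 1], [], [1], [], [0, 1], [0, 1], [0, 1], [0, 1], [0, 1], [0], [], [], [0, 1], [], [], [], [0], [0], [0, 1], [0, 1], [0, 1], [0], [0, 1], [0], [], [0, 1], [0, 1], [1], [0], [], [0], [], [0], [], [1], [], [], [], [0], [0], [0, 1], [0], [0], [], [], [0], [0], [1], [0], [1], [], [0, 1], [], [], [1], [], [0, 1], [0, 1], [0], [1], [], [1], [1], [0, 1], [0], [], [0], [], [0], [0], [], [], [], [], [0, 1], [], [0], [], [0], [0, 1], [0, 1], [1], [0, 1], [0], [1], [], [1], [0, 1], [0, 1], [1], [1], [], [0], [1], [1], [1], [0], [1], [0, 1], [0], [1], [1], [1], [0, 1], [0], [0], [], [1], [0], [0], [0, 1], [0], [1], [], [1], [], [1], [], [], [], [], [1], [0, 1], [], [], [0], [0], [1], [0, 1], [0, 1], [0, 1], [], [0, 1], [0], [], [0],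 [], [], [0, 1], [0, 1], [1], [0], [1], [], [], [0], [1], [1], [0], [0], [], [1], [0, 1], [1], [0], [0], [0], [0], [1], [0], [0], [], [], [0], [1], [0], [], [0], [0, 1], [0], [1], [0, 1], [0], [0], [0], [], [], [1], [0], [], [], [], [1], [], [], [1], [], [], [], [], [0, 1], [1], [1], [], [1], [0], [], [0, 1], [0, 1], [0], [1], [], [], [], [0, 1], [0, 1], [0], [0], [1], [], [0], [], [], [1], [1], [0], [1], [], [], [0], [0, 1], [], [0], [0], [0], [], [1], [0], [], [], [0], [0, 1], [1], [1], [], [0], [0], [0], [], [], [0], [0], [], [0, 1], [], [0], [], [0], [], [], [0, 1], [], [0, 1], [0], [], [0], [0], [0], [], [], [0], [0, 1], [0], [], [], [1], [1], [0], [], [], [1], [1], [], [], [0], [], [], [], [0], [], [1], [0, 1], [1], [0], [1], [], [], [0, 1], [], [0, 1], [], [0], [], [1], [], [0], [], [0], [], [0], [], [1], [], [], [1], [], [], [], [], [], [0], [], [], [], [0, 1], [0], [0], [], [1], [0], [0], [], [], [], [], [1], [],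 [], [], [], [1], [], [0], [1], [0], [0], [], [], [], [0, 1], [0], [1], [], [], [1], [], [0], [], [], [], [], [], [1], [], [1], [], [], [1], [], [], [0], [], [], [], [1], [], [], [1], [], [], [], [], [0, 1], [], [], [], [], [1], [1], [1], [], [0], [], [0], [0], [], [], [1], [0, 1], [], [0], [0], [1], [], [1], [0], [1], [], [0, 1], [1], [0], [], [0], [0], [0], [], [0], [], [1], [], [], [], [], [], [0], [1], [], [], [], [], [0], [], [], [1], [], [1], [], [0], [], [], [0, 1], [], [], [0], [], [], [], [0], [], [], [], [1], [], [], [], [], [], [], [], [], [], [], [0], [1], [0], [], [0], [], [], [], [0], [], [0], [], [], [1], [], [], [], [], [0], [], [], [], [], [], [], [], [], [], [], [], [], [0], [], [], [], [], [1], [], [0], [], [], [], [], [0], [], [], [1], [0], [], [1], [], [], [0], [], [], [], [], [1], [1], [], [], [], [0, 1], [], [], [], [1], [0], [], [], [1], [], [], [], [], [], [], [], [0, 1], [0, 1], [], [], [], [], [],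 [0], [], [0], [1], [], [], [], [], [], [], [], [], [], [], [1], [], [], [1], [], [], [], [], [], [], [0], [0], [], [], [], [], [], [1], [], [], [], [], [], [], [], [], [], [], [], [], [], [], [], [], [], [], [], [], [], [], [], [1], [], [], [], [1], [], [0], [], [], [], [], [], [], [], [], [0], [], [], [], [], [], [], [], [], [], [], [], [], [], [], [], [], [], [], [], [], [], [], [], [], [], [], [], [], [], [], [], [], [1], [], [], [], [], [], [], [], [], [], [], [], [0]]]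

def trsext_sizes : Fin 4 → ℕ := ![7, 84, 336, 1344]

abbrev trsext_model := (famModel 1722851099 2147483647 2097152)

set_option maxRecDepth 1000000 in
set_option maxHeartbeats 4000000 in
theorem trsext_check : distinctAux (((List.ofFn fun i => trsext_model.nodes tr_tabs (trsext_roots i)
    (trsext_certs i)).flatten).map trsext_model.code) 0 = true := by
  decide +kernel

set_option maxRecDepth 1000000 in
set_option maxHeartbeats 4000000 in
theorem trsext_len : ∀ i, (trsext_model.nodes tr_tabs (trsext_roots i) (trsext_certs i)).length =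
    trsext_sizes i := by
  decide +kernel

set_option maxRecDepth 1000000 in
set_option maxHeartbeats 4000000 in
theorem trsext_rootcheck : ∀ i, IsSextetList (trsext_roots i) := by
  decide +kernel

end Cfsg.Agent.Lib.Helper28
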