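import Cfsg.Agent.Lib.Helper28.Data5610
import Cfsg.Agent.Lib.Helper28.ElemReps
import Cfsg.Agent.Lib.Helper28.ElemModel

set_option autoImplicit false

/-!
Data for the action of an octad stabilizer on the fifteen trios through the octad.
-/

namespace Cfsg.Agent.Lib.Helper28

open Cfsg MulAction
open scoped Pointwise

/-- generators of the joint stabilizer of the base octad and the first trio through it -/
def ot_tabs : List ℕ := [587158456018979186263425767354490017, 149533503393695990646080262668489760]

set_option maxRecDepth 1000000 in
set_option maxHeartbeats 4000000 in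
theorem ot_tabs_check : ∀ t ∈ ot_tabs, TabM24 t ∧ setEqB (stepSet t oc_base) oc_base = true ∧
    famSubB (stepFam t (octrio_roots 0)) (octrio_roots 0) = true := by
  decide +kernel

/-- a second trio through the base octad -/
def ot_root : List (List ℕ) := [[4, 6, 10, 11, 15, 16, 18, 21], [7, 8, 9, 12, 13, 19, 20, 22], [0, 1, 2, 3, 5, 14, 17, 23]]

def ot_cert : List (List ℕ) := [[0, 1], [0, 1], [0], [0], [0, 1], [0], [], [1], [0], [], [0], [0]]

abbrev ot_model := famModel 288545021 2147483647 4096

set_option maxRecDepth 1000000 in
set_option maxHeartbeats 4000000 in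
theorem ot_check : IsTrioList ot_root ∧
    distinctAux ((ot_model.nodes ot_tabs ot_root ot_cert).map ot_model.code) 0 = true ∧
    (ot_model.nodes ot_tabs ot_root ot_cert).length = 14 := by
  decide +kernel

set_option maxRecDepth 1000000 in
set_option maxHeartbeats 4000000 in
theorem ot_cover_check : ∀ x ∈ alltrio_nodes, x.any (fun l => setEqB l oc_base) = true →
    ((octrio_model.nodes oc_tabs (octrio_roots 0) (octrio_certs 0)).any
      (fun y => famEqB x y) = true) ∧
    (famEqB x (octrio_roots 0) = true ∨
      (ot_model.nodes ot_tabs ot_root ot_cert).any (fun y => famEqB x y) = true) := by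
  decide +kernel

set_option maxRecDepth 1000000 in
set_option maxHeartbeats 4000000 in
theorem ot_count_check :
    (alltrio_nodes.filter (fun x => x.any (fun l => setEqB l oc_base))).length = 15 := by
  decide +kernel

/-- generators of the pointwise stabilizer of the base octad -/
def ok_tabs : List ℕ := [975346028712660580592452217730074656, 981818691054096003685363657089320992, 972512676110088067912772961567868960, 983548720921252936276249910206105632]

set_option maxRecDepth 1000000 in
set_option maxHeartbeats 4000000 in
theorem ok_tabs_check : ∀ t ∈ ok_tabs, TabM24 t ∧ ∀ a ∈ oc_base, look t a = a := by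
  decide +kernel

def ok_cert : List (List ℕ) := [[0, 1, 2, 3], [1, 2, 3], [2, 3], [3], [], [2, 3], [3], [], [3], [], [], [3]]

noncomputable abbrev ok_model := elemModel 1048573

set_option maxRecDepth 1000000 in
set_option maxHeartbeats 4000000 in
theorem ok_check : distinctAux ((ok_model.nodes ok_tabs idList ok_cert).map ok_model.code) 0 = true ∧
    (ok_model.nodes ok_tabs idList ok_cert).length = 16 := by
  decide +kernel

set_option maxRecDepth 1000000 in
set_option maxHeartbeats 4000000 in
theorem ok_fix_check : ∀ l ∈ ok_model.nodes ok_tabs idList ok_cert,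
    (∀ a : Fin 24, look (packL l) a.val = l.getD a.val 0) ∧
    ∀ x ∈ alltrio_nodes, x.any (fun l' => setEqB l' oc_base) = true →
      famSubB (stepFam (packL l) x) x = true := by
  decide +kernel

end Cfsg.Agent.Lib.Helper28
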