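import Cfsg.Agent.Lib.Helper28.FamCheck

set_option autoImplicit false

/-!
Orbit certificates for the stabilizer of a 3-set on sextets.
-/

namespace Cfsg.Agent.Lib.Helper28

open Cfsg MulAction
open scoped Pointwise

def ts_tabs : List ℕ := [441495299306053904948560133824545856, 191073551128792756237020368752607297]

def ts_base : List ℕ := [0, 1, 2]

set_option maxRecDepth 1000000 in
set_option maxHeartbeats 4000000 in
theorem ts_base_check : (fun l => GoodSet l ∧ l.length = 3) ts_base := by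
  decide +kernel

set_option maxRecDepth 1000000 in
set_option maxHeartbeats 4000000 in
theorem ts_tabs_check : ∀ t ∈ ts_tabs, TabM24 t ∧ setEqB (stepSet t ts_base) ts_base = true := by
  decide +kernel

def tssext_roots : Fin 3 → List (List ℕ) := ![
  [[0, 1, 2, 3], [4, 7, 10, 12], [8, 15, 16, 19], [13, 18, 20, 21], [6, 9, 11, 22], [5, 14, 17, 23]],
  [[0, 1, 3, 4], [2, 7, 10, 12], [9, 13, 14, 15], [5, 6, 16, 21], [8, 17, 18, 22], [11, 19, 20, 23]],
  [[0, 3, 4, 5], [7, 9, 11, 17], [8, 10, 14, 19], [1, 6, 16, 21], [2, 15, 20, 22], [12, 13, 18, 23]]]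

def tssext_certs : Fin 3 → List (List ℕ) := ![
  [[0, 1], [1], [0, 1], [0, 1], [0, 1], [0], [0, 1], [0], [1], [], [0], [0], [], [0], [1], [], [], [1], [0]],
  [[0, 1], [0, 1], [0, 1], [0, 1], [0, 1], [0, 1], [0], [0, 1], [0, 1], [0, 1], [0], [0, 1], [0, 1], [0, 1], [0, 1], [0, 1], [0, 1], [0], [0, 1], [0, 1], [0, 1], [0, 1], [0, 1], [0, 1], [0], [0, 1], [0, 1], [1], [0, 1], [0, 1], [0], [0, 1], [0, 1], [0, 1], [0, 1], [0, 1], [0, 1], [0], [0, 1], [0, 1], [0, 1], [0, 1], [0, 1], [0], [0, 1], [0, 1], [0, 1], [0, 1], [0, 1], [0, 1], [0], [0, 1], [0, 1], [0], [0, 1], [0, 1], [0, 1], [0], [0, 1], [0, 1], [0], [0], [0, 1], [0, 1], [], [0, 1], [0], [0, 1], [0], [1], [0, 1], [0, 1], [0, 1], [0], [1], [0, 1], [0, 1], [], [0], [0, 1], [0, 1], [0, 1], [0, 1], [0, 1], [], [1], [0, 1], [0], [0, 1], [0, 1], [0], [0], [0, 1], [1], [0, 1], [0], [1], [0, 1], [0, 1], [0, 1], [], [0, 1], [0], [1], [0, 1], [0, 1], [0, 1], [0], [0, 1], [0, 1], [0, 1], [0,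 1], [0, 1], [0], [1], [0, 1], [1], [0, 1], [0, 1], [0, 1], [1], [0, 1], [0, 1], [0, 1], [0, 1], [0, 1], [0], [0, 1], [0], [0, 1], [1], [0, 1], [0], [0, 1], [0, 1], [1], [0, 1], [0], [0, 1], [0, 1], [0], [0, 1], [0, 1], [0], [0], [0, 1], [0], [0, 1], [0], [], [0, 1], [0], [1], [0, 1], [0], [0, 1], [0, 1], [0], [0, 1], [0, 1], [0, 1], [0, 1], [0, 1], [0, 1], [0], [0, 1], [0, 1], [0, 1], [0, 1], [0, 1], [0], [0], [0], [0, 1], [0], [], [1], [0, 1], [0, 1], [0, 1], [0, 1], [0, 1], [1], [], [0], [0, 1], [0, 1], [0], [0], [0, 1], [0, 1], [0], [], [0], [1], [1], [0], [0, 1], [], [0, 1], [0, 1], [0], [0, 1], [0, 1], [0, 1], [0], [1], [0, 1], [0], [0], [1], [0, 1], [0, 1], [0], [0, 1], [0, 1], [1], [0, 1], [0], [0, 1], [0, 1], [0, 1], [0, 1], [0, 1], [], [], [0], [0, 1], [0, 1], [1], [0], [1], [0, 1], [0], [1], [0, 1], [0], [0, 1], [1], [], [], [1], [0], [0], [1], [0, 1], [1], [0, 1], [1], [0, 1], [0, 1], [1], [0], [0], [1], [0, 1], [0], [], [1],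 [1], [0], [], [0, 1], [1], [0], [0, 1], [], [0, 1], [0], [1], [0, 1], [0, 1], [0, 1], [0], [0, 1], [], [], [], [1], [0], [0, 1], [0, 1], [1], [0], [1], [0], [0, 1], [0, 1], [0], [1], [], [0, 1], [], [0, 1], [1], [0, 1], [1], [1], [], [1], [1], [0, 1], [0], [1], [0, 1], [0, 1], [1], [0], [0], [], [], [0], [1], [], [1], [0], [0, 1], [1], [1], [0, 1], [], [0], [1], [], [0, 1], [1], [], [0, 1], [], [1], [], [0, 1], [0], [1], [0], [], [0], [], [], [], [0], [], [0], [], [1], [0, 1], [], [], [0], [], [0], [], [0], [0], [], [0, 1], [0, 1], [], [], [0, 1], [1], [], [1], [], [0], [], [0], [0], [], [], [0], [], [], [1], [], [], [], [], [0, 1], [0, 1], [1], [0], [0], [0], [1], [], [], [0, 1], [], [], [], [0], [1], [0], [0], [0, 1], [], [0], [], [0, 1], [0], [0], [0], [1], [1], [1], [], [0, 1], [], [], [0], [0], [], [0, 1], [], [0], [1], [], [], [1], [1], [0, 1], [0], [0], [], [], [1], [0], [], [0], [1], [], [], [0], [0, 1], [], [], [], [1], [0], [],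 [1], [], [0], [], [0], [1], [0], [], [], [0, 1], [0, 1], [0], [0, 1], [1], [], [1], [1], [0], [0], [], [0], [1], [0, 1], [], [0, 1], [], [], [], [0, 1], [0, 1], [], [], [], [], [1], [], [], [], [1], [], [0], [1], [], [], [], [], [], [1], [1], [], [], [], [0, 1], [], [1], [0, 1], [], [1], [1], [1], [0], [0, 1], [], [1], [], [], [1], [], [], [0], [], [0], [], [], [1], [], [0], [0], [0], [], [], [], [0], [0], [], [], [], [], [], [0], [], [0, 1], [1], [], [1], [], [], [], [], [0], [], [1], [0], [], [], [0], [1], [1], [0], [], [], [0], [], [], [0], [0], [0], [1], [], [], [], [], [], [], [], [], [], [], [0, 1], [], [0], [], [], [], [0], [], [], [], [0], [], [], [], [], [], [], [], [], [], [], [], [], [], [], [], [], [], [], [], [], [], [], [], [], [], [], [], [], [], [0]],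
  [[0, 1], [0, 1], [0, 1], [0, 1], [0, 1], [0, 1], [0], [0, 1], [0, 1], [0, 1], [0], [0, 1], [0, 1], [0, 1], [0, 1], [0, 1], [0, 1], [0], [0, 1], [0, 1], [0, 1], [0, 1], [0, 1], [0, 1], [0], [0, 1], [0, 1], [1], [0, 1], [0, 1], [0], [0], [0, 1], [0, 1], [0, 1], [0, 1], [0, 1], [], [0, 1], [0, 1], [0, 1], [0, 1], [0, 1], [0], [0, 1], [0, 1], [0, 1], [0, 1], [0, 1], [0, 1], [0], [0, 1], [0, 1], [0], [0, 1], [0, 1], [0, 1], [0, 1], [0, 1], [0], [0, 1], [0, 1], [0, 1], [0], [0, 1], [0], [0, 1], [0, 1], [0, 1], [0], [0, 1], [0], [1], [0, 1], [0, 1], [0], [1], [0, 1], [0, 1], [0, 1], [0, 1], [0, 1], [], [0, 1], [0, 1], [0, 1], [0, 1], [0, 1], [0], [0], [0, 1], [0, 1], [0, 1], [0], [0, 1], [0, 1], [0, 1], [1], [0, 1], [0, 1], [0], [0, 1], [0, 1], [0, 1], [0, 1], [0, 1], [0, 1], [0, 1], [0], [0, 1], [0, 1], [0], [1], [0, 1], [0, 1], [1], [0, 1], [1], [0, 1], [0, 1], [0], [0], [0, 1], [0, 1], [0, 1], [0], [0, 1], [0, 1], [1], [0, 1], [0], [0, 1],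 [0, 1], [0], [0, 1], [0, 1], [0], [1], [0], [0, 1], [0, 1], [0, 1], [0], [0, 1], [0, 1], [0, 1], [0, 1], [0, 1], [0], [], [0, 1], [0, 1], [0], [0, 1], [0, 1], [0, 1], [0, 1], [0], [0], [0, 1], [0, 1], [0, 1], [0, 1], [0, 1], [0, 1], [0, 1], [1], [0], [0, 1], [0, 1], [0, 1], [0, 1], [0], [0, 1], [0, 1], [0, 1], [1], [0, 1], [0, 1], [0], [1], [0, 1], [1], [0], [0, 1], [0], [0, 1], [0], [0, 1], [0, 1], [0], [0, 1], [0], [0], [0, 1], [0], [0, 1], [], [0], [0, 1], [0, 1], [0, 1], [0], [0], [0, 1], [0], [0, 1], [1], [0], [0], [0, 1], [1], [0, 1], [0, 1], [0], [0, 1], [0, 1], [0, 1], [0], [0], [0, 1], [0, 1], [0], [0, 1], [0, 1], [0, 1], [0, 1], [1], [0, 1], [0], [], [0, 1], [0], [1], [], [0, 1], [0, 1], [1], [1], [0, 1], [0, 1], [0], [], [0], [1], [0, 1], [0, 1], [0, 1], [0], [0, 1], [0, 1], [0, 1], [0], [0], [0], [1], [1], [0], [1], [0, 1], [0, 1], [1], [0], [0, 1], [0], [0, 1], [], [0, 1], [0, 1], [1], [0, 1], [0, 1], [0, 1], [0, 1], [0], [0,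 1], [0, 1], [1], [0], [0, 1], [1], [0], [0, 1], [0, 1], [0], [0, 1], [0, 1], [1], [0, 1], [0, 1], [0], [], [0], [0, 1], [0, 1], [0, 1], [0, 1], [1], [0, 1], [0], [], [1], [0, 1], [0, 1], [0], [0, 1], [0, 1], [1], [0], [], [0], [0], [0, 1], [0, 1], [0], [0], [1], [0, 1], [1], [0, 1], [0, 1], [0, 1], [0], [1], [0, 1], [0, 1], [0], [1], [0, 1], [], [0, 1], [0, 1], [0], [1], [0, 1], [0], [0], [0], [0, 1], [0], [0, 1], [0, 1], [1], [0], [1], [0, 1], [], [0], [0], [1], [0, 1], [0, 1], [1], [0, 1], [0], [0, 1], [0, 1], [1], [0, 1], [0], [0, 1], [0], [0], [0, 1], [], [0, 1], [0, 1], [0], [0, 1], [], [0], [1], [0, 1], [0, 1], [0], [], [0], [0, 1], [0, 1], [0], [0], [0, 1], [0], [1], [0, 1], [1], [], [0, 1], [], [1], [0], [0, 1], [], [0, 1], [], [0], [0], [0, 1], [0, 1], [1], [0, 1], [0], [1], [0], [], [0], [0], [1], [0, 1], [], [0], [1], [0, 1], [0, 1], [0], [], [0, 1], [0, 1], [], [1], [0], [], [0], [0, 1], [0, 1], [1], [0, 1], [0], [0, 1], [0,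 1], [0, 1], [], [0, 1], [0, 1], [0], [0, 1], [], [0, 1], [0, 1], [0], [1], [0], [0], [0], [0, 1], [0, 1], [0, 1], [0, 1], [0], [0], [0], [0, 1], [0], [0], [1], [1], [], [1], [1], [0, 1], [0, 1], [], [0, 1], [0, 1], [], [0, 1], [], [0, 1], [1], [0, 1], [0, 1], [1], [1], [0], [0], [1], [0], [], [0, 1], [], [], [0], [0], [0], [1], [0], [1], [0, 1], [0, 1], [0, 1], [1], [0], [0], [0, 1], [0, 1], [0, 1], [0], [0, 1], [1], [1], [0, 1], [0], [0], [0, 1], [1], [0], [1], [0, 1], [0, 1], [0, 1], [0], [0, 1], [], [1], [1], [0], [], [0], [0], [], [1], [0, 1], [1], [1], [0, 1], [0, 1], [0, 1], [1], [0], [1], [0, 1], [], [1], [0, 1], [0], [0], [], [1], [0, 1], [], [0], [1], [0, 1], [], [1], [0], [0, 1], [], [1], [], [0], [0, 1], [0], [0], [], [0, 1], [], [0, 1], [0, 1], [1], [], [1], [0, 1], [0, 1], [1], [1], [0], [], [], [0, 1], [], [1], [1], [1], [0, 1], [0, 1], [1], [], [0, 1], [0, 1], [0, 1], [0], [1], [0, 1], [1], [], [], [0, 1], [0, 1], [0], [0],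 [], [0], [0], [0, 1], [0, 1], [0], [0], [], [], [0], [0, 1], [0, 1], [0], [0], [], [], [0], [0, 1], [0, 1], [1], [], [1], [0], [], [0, 1], [0], [0], [], [1], [0, 1], [0, 1], [0, 1], [], [0], [0, 1], [0, 1], [0], [1], [0], [], [0, 1], [], [0], [], [0], [0, 1], [0], [0], [0], [0, 1], [0], [], [], [], [], [0], [], [0, 1], [0, 1], [1], [], [1], [], [], [], [1], [], [], [0, 1], [], [1], [], [1], [1], [0, 1], [1], [1], [0], [], [1], [], [], [0], [0], [0], [0], [], [1], [1], [], [0, 1], [1], [1], [0], [1], [0], [1], [1], [], [0], [1], [], [], [0], [], [0, 1], [0, 1], [], [], [], [], [0, 1], [1], [], [], [], [1], [], [], [0], [0], [1], [1], [1], [], [0], [0], [1], [0], [0], [1], [1], [], [0], [], [0, 1], [0, 1], [0], [0, 1], [], [0], [0, 1], [0, 1], [1], [], [], [], [1], [], [], [], [1], [0], [], [], [], [], [], [0, 1], [0], [0, 1], [1], [], [0, 1], [], [0, 1], [0], [], [], [0, 1], [0], [1], [1], [0], [], [0], [], [0, 1], [1], [0], [], [0], [],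 [], [0], [], [0], [0], [], [], [], [1], [0, 1], [], [0, 1], [], [], [1], [], [1], [], [0], [0], [], [0], [], [1], [0, 1], [0, 1], [0], [0], [1], [0], [], [1], [], [], [0], [1], [], [], [0], [], [], [1], [], [], [0, 1], [], [0], [0], [], [], [], [0], [1], [], [], [0], [], [], [0, 1], [], [1], [], [], [], [1], [], [], [1], [1], [], [0], [], [0], [], [], [], [0], [], [1], [0], [], [0], [1], [], [], [], [1], [], [], [], [1], [0], [], [1], [0, 1], [], [0, 1], [1], [0], [1], [], [1], [0], [], [], [], [0, 1], [0], [], [], [1], [], [1], [0], [], [0], [0], [], [0], [], [], [], [], [], [1], [0], [0], [], [], [], [], [], [1], [], [1], [0, 1], [], [], [], [], [0], [1], [0], [], [], [1], [0], [], [1], [], [], [], [1], [], [], [], [1], [1], [], [], [], [], [], [1], [], [], [], [], [], [], [], [1], [], [1], [], [], [], [], [0], [0], [], [0], [0], [1], [1], [], [], [], [], [1], [0], [0], [1], [], [], [], [], [], [1], [0], [], [], [1], [], [], [], [], [0,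 1], [], [], [0], [1], [], [1], [], [0], [], [], [], [1], [0], [], [], [], [1], [1], [], [], [], [], [], [], [0], [0], [], [], [], [], [], [], [], [], [], [], [], [], [0], [], [1], [], [], [], [], [], [], [], [], [], [], [], [0], [], [1], [], [], [], [1], [], [], [0], [], [], [], [], [], [], [], [1], [1], [], [], [], [], [], [1], [0], [0], [], [], [], [], [], [], [], [], [], [], [], [1], [], [], [], [], [], [], [], [], [], [1], [], [], [], [], [], [], [], [1], [], [], [], [], [], [], [], [], [], [], [], [], [], [], [], [], [], [], [], [], [], [], [0]]]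

def tssext_sizes : Fin 3 → ℕ := ![21, 630, 1120]

abbrev tssext_model := (famModel 1722851099 2147483647 2097152)

set_option maxRecDepth 1000000 in
set_option maxHeartbeats 4000000 in
theorem tssext_check : distinctAux (((List.ofFn fun i => tssext_model.nodes ts_tabs (tssext_roots i)
    (tssext_certs i)).flatten).map tssext_model.code) 0 = true := by
  decide +kernel

set_option maxRecDepth 1000000 in
set_option maxHeartbeats 4000000 in
theorem tssext_len : ∀ i, (tssext_model.nodes ts_tabs (tssext_roots i) (tssext_certs i)).length =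
    tssext_sizes i := by
  decide +kernel

set_option maxRecDepth 1000000 in
set_option maxHeartbeats 4000000 in
theorem tssext_rootcheck : ∀ i, IsSextetList (tssext_roots i) := by
  decide +kernel

end Cfsg.Agent.Lib.Helper28
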