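import Cfsg.Agent.Lib.Helper28.FamCheck2

set_option autoImplicit false

/-!
Orbit certificates for the stabilizer of a complementary pair of dodecads on such pairs and on sextets.
-/

namespace Cfsg.Agent.Lib.Helper28

open Cfsg MulAction
open scoped Pointwise

def dp_tabs : List ℕ := [251035469447846576817353474919946855, 810945329591149453517913063581635125]

def dp_base : List (List ℕ) := [[0, 1, 2, 3, 4, 5, 9, 11, 12, 15, 16, 23], [6, 7, 8, 10, 13, 14, 17, 18, 19, 20, 21, 22]]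

set_option maxRecDepth 1000000 in
set_option maxHeartbeats 4000000 in
theorem dp_base_check : IsDodecadPairList dp_base := by
  decide +kernel

set_option maxRecDepth 1000000 in
set_option maxHeartbeats 4000000 in
theorem dp_tabs_check : ∀ t ∈ dp_tabs, TabM24 t ∧ famSubB (stepFam t dp_base) dp_base = true := by
  decide +kernel

def dppair_roots : Fin 3 → List (List ℕ) := ![
  [[0, 1, 2, 3, 4, 5, 9, 11, 12, 15, 16, 23], [6, 7, 8, 10, 13, 14, 17, 18, 19, 20, 21, 22]],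
  [[8, 10, 11, 12, 14, 15, 16, 17, 18, 19, 21, 22], [0, 1, 2, 3, 4, 5, 6, 7, 9, 13, 20, 23]],
  [[0, 1, 2, 3, 4, 5, 6, 10, 13, 14, 18, 22], [7, 8, 9, 11, 12, 15, 16, 17, 19, 20, 21, 23]]]

def dppair_certs : Fin 3 → List (List ℕ) := ![
  [],
  [[0, 1], [0, 1], [0, 1], [0, 1], [0], [0, 1], [0, 1], [0, 1], [0, 1], [0, 1], [0, 1], [0, 1], [0, 1], [0, 1], [0, 1], [0, 1], [0, 1], [0, 1], [0, 1], [0, 1], [0, 1], [0, 1], [0, 1], [0, 1], [0, 1], [0, 1], [0, 1], [0, 1], [0, 1], [0, 1], [0, 1], [0, 1], [0, 1], [0, 1], [0, 1], [0, 1], [0, 1], [0, 1], [0], [0, 1], [0, 1], [0, 1], [0], [0, 1], [1], [0], [0, 1], [0, 1], [0, 1], [0, 1], [0, 1], [0, 1], [0, 1], [0, 1], [0, 1], [0, 1], [0], [0, 1], [0], [1], [0, 1], [0], [0, 1], [0, 1], [0, 1], [0, 1], [0], [0, 1], [], [0, 1], [0, 1], [0, 1], [0, 1], [0, 1], [0, 1], [0], [0, 1], [0, 1], [0, 1], [0, 1], [0, 1], [1], [1], [0, 1], [0, 1], [1], [0], [0, 1], [1], [0, 1], [0, 1], [0, 1], [0, 1], [0,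 1], [0, 1], [0, 1], [0, 1], [0, 1], [1], [0, 1], [0, 1], [0, 1], [1], [0, 1], [0, 1], [0, 1], [0, 1], [1], [0, 1], [0, 1], [0, 1], [0], [1], [0, 1], [1], [0, 1], [0], [0, 1], [0, 1], [0, 1], [0, 1], [0, 1], [0, 1], [0], [0, 1], [0, 1], [0, 1], [0, 1], [0, 1], [0, 1], [0, 1], [1], [0, 1], [0, 1], [0], [1], [0], [0, 1], [1], [1], [1], [1], [0], [0, 1], [1], [], [0, 1], [0], [], [], [0, 1], [], [0, 1], [0, 1], [0], [0], [0, 1], [0, 1], [], [0, 1], [], [1], [0], [1], [0, 1], [0, 1], [0, 1], [], [0, 1], [0, 1], [0], [0], [1], [0], [0, 1], [0, 1], [0, 1], [], [0, 1], [1], [0, 1], [1], [1], [0], [0], [0, 1], [0], [0], [0], [0, 1], [0, 1], [0], [0, 1], [], [0, 1], [0, 1], [], [1], [], [1], [0, 1], [0], [0], [], [0, 1], [0, 1], [0], [0], [], [0, 1], [0, 1], [0], [0], [1], [0, 1], [1], [0, 1], [1], [0], [1], [], [1], [1], [], [1], [0], [], [], [0], [], [], [1], [], [0, 1], [0], [], [0, 1], [0, 1], [1], [1], [0, 1], [0, 1], [0], [], [],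 [0], [0, 1], [1], [0, 1], [], [0, 1], [], [0], [], [0], [], [], [0], [0], [], [1], [1], [], [1], [0, 1], [1], [0, 1], [0, 1], [0], [], [], [0, 1], [0, 1], [1], [], [], [], [], [1], [], [0], [1], [1], [], [], [], [], [0, 1], [], [1], [0], [], [0], [], [], [1], [1], [0, 1], [], [0], [1], [], [0], [], [0, 1], [0, 1], [0], [0], [], [], [0, 1], [0, 1], [], [0, 1], [1], [0, 1], [], [1], [0, 1], [0], [], [1], [], [], [], [0], [1], [], [], [0, 1], [1], [0, 1], [1], [1], [0, 1], [1], [1], [], [0], [1], [], [], [], [], [], [], [], [], [1], [0], [], [], [], [1], [0], [], [1], [0], [], [], [0], [], [1], [], [], [0], [1], [1], [], [0], [], [0, 1], [], [0], [1], [1], [1], [1], [0], [1], [], [0], [0, 1], [], [], [], [], [1], [1], [0], [], [], [0, 1], [1], [1], [1], [0], [], [1], [], [], [1], [], [1], [], [1], [], [], [], [], [], [], [1], [], [], [], [], [], [], [], [], [], [], [], [], [], [], [1], [], [], [1], [1], [0], [], [1], [], [], [],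 [], [], [], [0, 1], [], [], [], [], [], [], [1], [], [], [], [0], [], [], [], [], [1], [], [], [], [], [], [], [], [], [], [], [], [], [], [], [], [], [], [], [], [], [], [], [], [], [], [], [], [0]],
  [[0, 1], [0, 1], [0, 1], [0, 1], [0, 1], [0, 1], [0, 1], [0, 1], [0, 1], [0, 1], [0, 1], [0, 1], [0, 1], [0, 1], [0, 1], [0, 1], [0, 1], [0, 1], [0, 1], [0, 1], [0, 1], [0, 1], [0, 1], [0, 1], [0, 1], [0, 1], [0, 1], [0, 1], [0, 1], [0, 1], [0, 1], [0, 1], [0, 1], [0, 1], [0, 1], [0, 1], [0, 1], [1], [0, 1], [0, 1], [0, 1], [0, 1], [0, 1], [0, 1], [0, 1], [0, 1], [0, 1], [0, 1], [0], [0, 1], [0, 1], [0, 1], [1], [0, 1], [0, 1], [0, 1], [0, 1], [0, 1], [0, 1], [0, 1], [0, 1], [0, 1], [0, 1], [0, 1], [0, 1], [0, 1], [], [0, 1], [0, 1], [0, 1], [0, 1], [1], [0, 1], [0, 1], [0, 1], [0, 1], [0, 1], [0], [0, 1], [0, 1], [0, 1], [0, 1], [0, 1], [1], [0, 1], [0, 1], [0, 1], [0, 1], [0, 1], [0, 1], [0, 1], [1], [0], [0, 1], [0], [0],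 [1], [0, 1], [0, 1], [1], [0, 1], [0, 1], [0], [0, 1], [0, 1], [0], [0], [0, 1], [0, 1], [0, 1], [0, 1], [0, 1], [0, 1], [0, 1], [0, 1], [0], [1], [0, 1], [0, 1], [0, 1], [0, 1], [0, 1], [0, 1], [0, 1], [1], [0, 1], [0, 1], [0, 1], [1], [0, 1], [0, 1], [0, 1], [0, 1], [0, 1], [1], [0, 1], [0, 1], [0], [1], [0], [1], [0, 1], [0, 1], [0], [0], [0, 1], [0, 1], [0], [0, 1], [1], [0], [0, 1], [0, 1], [0, 1], [0, 1], [1], [0, 1], [0, 1], [0, 1], [1], [0, 1], [1], [0, 1], [0, 1], [0, 1], [0], [1], [0, 1], [0], [0, 1], [0, 1], [0, 1], [0, 1], [0, 1], [0], [0], [0, 1], [0], [0, 1], [0, 1], [0, 1], [0], [0, 1], [0], [0, 1], [1], [], [0, 1], [0], [0], [1], [], [0, 1], [1], [0, 1], [0, 1], [0, 1], [0, 1], [0, 1], [0], [0, 1], [1], [0], [1], [0, 1], [0], [1], [0], [1], [0, 1], [0, 1], [0, 1], [0, 1], [0], [], [0, 1], [0, 1], [0, 1], [0, 1], [], [0], [0, 1], [1], [1], [0, 1], [0, 1], [0, 1], [0, 1], [0], [0], [0, 1], [0, 1], [0], [0, 1],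 [0, 1], [0], [0], [0, 1], [0, 1], [], [0, 1], [0, 1], [1], [0, 1], [0, 1], [0], [], [1], [0], [0, 1], [0, 1], [0, 1], [1], [1], [1], [0, 1], [0], [0], [0], [0, 1], [], [1], [0, 1], [], [0], [0, 1], [1], [0, 1], [], [0, 1], [1], [], [0], [0], [0, 1], [0, 1], [0, 1], [1], [0], [0], [0, 1], [1], [0, 1], [1], [0, 1], [0], [1], [0], [], [1], [0, 1], [], [0], [0, 1], [0, 1], [0], [], [0], [1], [], [1], [0], [1], [0, 1], [1], [1], [0, 1], [], [0, 1], [0, 1], [], [0, 1], [0, 1], [1], [0], [0], [0], [], [0, 1], [1], [1], [1], [0], [0, 1], [1], [0], [], [1], [0], [0, 1], [1], [0, 1], [0], [1], [1], [1], [0], [0], [1], [1], [1], [0, 1], [0, 1], [], [1], [0, 1], [0, 1], [0, 1], [], [], [0], [0], [1], [1], [1], [0], [0], [0, 1], [0, 1], [0, 1], [1], [0, 1], [0, 1], [0, 1], [0, 1], [0], [], [1], [], [1], [0], [1], [], [0, 1], [1], [0], [0, 1], [0], [1], [0], [1], [1], [0], [], [0], [0, 1], [1], [0, 1], [0, 1], [0], [], [1], [0, 1], [1], [],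 [1], [1], [0], [0], [0], [], [0, 1], [0, 1], [0, 1], [0, 1], [], [], [0], [], [1], [0], [1], [1], [1], [], [1], [0, 1], [1], [0, 1], [], [], [0], [0, 1], [0, 1], [1], [], [0, 1], [0], [1], [], [0, 1], [], [], [0], [0], [0], [], [0], [], [1], [0], [1], [0, 1], [], [0, 1], [], [0, 1], [1], [1], [0], [1], [1], [], [0], [], [0, 1], [1], [0], [], [1], [0, 1], [0, 1], [1], [], [0], [], [0], [], [0], [], [], [], [0], [0], [1], [1], [0], [1], [], [1], [0], [], [1], [0], [1], [], [], [0, 1], [0], [0, 1], [1], [1], [0], [0], [1], [0], [1], [0, 1], [1], [0], [], [1], [1], [], [], [0], [], [], [1], [], [], [0], [1], [], [0], [], [1], [], [], [], [], [], [], [], [], [0], [0], [], [], [], [1], [0, 1], [0, 1], [1], [], [], [], [0], [1], [1], [], [0], [], [], [0, 1], [], [0], [1], [], [], [0], [0], [1], [], [], [0, 1], [1], [], [0], [], [], [1], [], [0, 1], [1], [], [0, 1], [0], [0], [], [1], [1], [], [0], [0, 1], [], [], [0], [0, 1], [], [0],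 [], [], [], [], [1], [0, 1], [0], [1], [], [0], [0, 1], [], [], [0], [1], [1], [1], [0], [], [], [0], [], [0], [1], [0], [1], [], [], [], [], [], [0], [0], [0], [], [], [], [], [], [1], [0, 1], [], [0, 1], [], [], [1], [], [1], [], [0, 1], [0], [], [], [0], [0], [], [], [], [0], [], [], [], [], [], [], [1], [], [], [], [], [], [], [], [], [1], [], [], [], [], [0, 1], [], [], [0, 1], [], [1], [], [], [], [], [], [1], [], [1], [], [], [], [0, 1], [], [], [], [], [], [], [], [0], [], [], [], [], [], [], [0], [], [1], [1], [], [], [], [1], [], [], [], [], [], [1], [], [], [], [1], [], [], [], [], [], [], [], [0, 1], [], [], [], [0], [], [], [], [], [], [], [], [], [], [], [0], [], [], [], [], [], [], [], [], [1], [], [], [], [], [], [], [], [], [0]]]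

def dppair_sizes : Fin 3 → ℕ := ![1, 495, 792]

abbrev dppair_model := (famModel 1222356008 2147483647 2097152)

set_option maxRecDepth 1000000 in
set_option maxHeartbeats 4000000 in
theorem dppair_check : distinctAux (((List.ofFn fun i => dppair_model.nodes dp_tabs (dppair_roots i)
    (dppair_certs i)).flatten).map dppair_model.code) 0 = true := by
  decide +kernel

set_option maxRecDepth 1000000 in
set_option maxHeartbeats 4000000 in
theorem dppair_len : ∀ i, (dppair_model.nodes dp_tabs (dppair_roots i) (dppair_certs i)).length =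
    dppair_sizes i := by
  decide +kernel

set_option maxRecDepth 1000000 in
set_option maxHeartbeats 4000000 in
theorem dppair_rootcheck : ∀ i, IsDodecadPairList (dppair_roots i) := by
  decide +kernel
def dpsext_roots : Fin 3 → List (List ℕ) := ![
  [[0, 1, 6, 7], [5, 9, 10, 14], [4, 11, 13, 18], [3, 15, 17, 20], [8, 12, 16, 22], [2, 19, 21, 23]],
  [[0, 1, 2, 3], [4, 7, 10, 12], [8, 15, 16, 19], [13, 18, 20, 21], [6, 9, 11, 22], [5, 14, 17, 23]],
  [[0, 1, 2, 6], [5, 12, 13, 15], [10, 16, 17, 18], [4, 8, 14, 20], [3, 9, 11, 22], [7, 19, 21, 23]]]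

def dpsext_certs : Fin 3 → List (List ℕ) := ![
  [[0, 1], [0, 1], [0, 1], [0, 1], [0, 1], [0, 1], [0, 1], [1], [0, 1], [0, 1], [0, 1], [0, 1], [0, 1], [0, 1], [0, 1], [0, 1], [0, 1], [0, 1], [0, 1], [0, 1], [0, 1], [0, 1], [0, 1], [1], [0, 1], [0, 1], [0, 1], [0, 1], [0, 1], [0, 1], [0, 1], [0, 1], [0, 1], [1], [0, 1], [0, 1], [0, 1], [0, 1], [0, 1], [0, 1], [0, 1], [0, 1], [0, 1], [0], [0, 1], [0, 1], [0, 1], [0, 1], [1], [0, 1], [0], [0, 1], [1], [1], [0, 1], [0], [0, 1], [0, 1], [0, 1], [0], [1], [0, 1], [0, 1], [0, 1], [1], [0, 1], [0, 1], [0, 1], [0], [0, 1], [0, 1], [0, 1], [1], [0, 1], [0, 1], [0, 1], [0, 1], [0], [0, 1], [1], [1], [0, 1], [0, 1], [0, 1], [0, 1], [0, 1], [0, 1], [0, 1], [0, 1], [0, 1], [0], [0, 1], [0], [0, 1], [0, 1], [0, 1], [1], [0], [0], [0, 1], [1], [0, 1], [0, 1], [0, 1], [0, 1], [0, 1], [0, 1], [0], [1], [], [0, 1], [0, 1], [0, 1], [0, 1], [0], [0, 1], [0], [0], [], [0], [], [0, 1], [], [0], [0,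 1], [], [0], [1], [0, 1], [1], [0, 1], [1], [1], [], [0, 1], [0], [1], [0], [0, 1], [], [1], [1], [0], [0, 1], [0, 1], [1], [1], [0, 1], [0, 1], [1], [0, 1], [], [0, 1], [1], [0, 1], [0, 1], [0, 1], [0], [0, 1], [0], [0, 1], [1], [1], [0, 1], [1], [0], [0, 1], [0], [0], [], [], [0, 1], [0], [1], [0, 1], [0, 1], [], [1], [0, 1], [1], [], [0], [1], [0, 1], [1], [], [0], [1], [1], [0, 1], [0], [], [0], [0, 1], [0, 1], [0, 1], [1], [1], [1], [1], [], [0, 1], [0], [], [0, 1], [], [0], [0], [], [1], [], [1], [1], [], [1], [1], [0], [], [0, 1], [1], [0], [], [0], [0], [1], [], [], [0], [0], [0], [], [], [], [0], [0, 1], [], [1], [], [], [], [1], [], [1], [], [0, 1], [0, 1], [0, 1], [], [0], [], [0, 1], [], [], [], [1], [1], [1], [], [1], [], [1], [], [1], [0], [], [], [0, 1], [], [1], [], [0], [], [], [0, 1], [0], [1], [], [1], [0], [1], [0], [1], [1], [0], [], [], [1], [0, 1], [], [0], [1], [0], [], [], [], [], [], [], [], [], [],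 [0], [], [0], [1], [], [1], [], [], [], [], [], [], [], [], [0], [0], [], [], [1], [], [1], [0], [], [], [0], [1], [], [1], [], [0], [0, 1], [], [], [], [1], [1], [], [], [], [], [0], [], [], [], [0], [], [], [], [], [], [], [], [], [], [1], [], [], [], [1], [0], [0], [0], [], [], [], [], [], [], [], [], [], [], [], [], [], [1], [], [], [], [0]],
  [[0, 1], [0, 1], [0, 1], [0, 1], [0, 1], [0, 1], [0, 1], [0, 1], [0, 1], [0, 1], [0, 1], [0, 1], [0, 1], [0, 1], [0, 1], [0, 1], [0, 1], [0, 1], [0, 1], [0, 1], [0, 1], [0, 1], [0, 1], [0, 1], [0, 1], [0, 1], [0, 1], [0, 1], [0, 1], [0, 1], [0, 1], [0, 1], [0, 1], [0], [0, 1], [0, 1], [0, 1], [0, 1], [0, 1], [0], [0, 1], [0, 1], [1], [1], [0, 1], [0, 1], [0, 1], [0, 1], [0, 1], [0, 1], [0, 1], [0, 1], [0, 1], [0, 1], [0, 1], [0, 1], [0, 1], [0, 1], [0, 1], [0, 1], [0, 1], [0, 1], [0, 1], [1], [0, 1], [0, 1], [1], [1], [0], [0, 1], [0, 1], [0], [0, 1], [1], [0, 1], [0, 1], [0], [0,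 1], [0, 1], [0, 1], [0, 1], [0, 1], [0, 1], [1], [0, 1], [0, 1], [0, 1], [1], [0, 1], [0, 1], [0, 1], [0, 1], [0, 1], [0, 1], [0, 1], [0, 1], [0], [0], [0, 1], [0, 1], [0, 1], [0, 1], [1], [0], [0], [0, 1], [1], [1], [0, 1], [0, 1], [0, 1], [1], [0, 1], [], [0, 1], [0, 1], [1], [0, 1], [0, 1], [0, 1], [0], [0, 1], [0, 1], [1], [], [1], [0, 1], [0], [1], [0], [0, 1], [0, 1], [0], [1], [0, 1], [0], [1], [0, 1], [], [0, 1], [1], [0, 1], [0], [1], [0, 1], [0], [0, 1], [1], [1], [0, 1], [0], [0], [0, 1], [1], [0, 1], [1], [0], [0, 1], [0, 1], [0, 1], [0, 1], [0, 1], [0], [1], [], [1], [], [0, 1], [0, 1], [0, 1], [0], [0, 1], [0], [], [0], [1], [0, 1], [0, 1], [0], [], [0, 1], [], [1], [0, 1], [0, 1], [1], [0], [0, 1], [0, 1], [0], [0, 1], [], [0], [0, 1], [], [0, 1], [1], [1], [], [1], [0, 1], [0, 1], [1], [0, 1], [0, 1], [0, 1], [1], [0, 1], [], [0, 1], [0, 1], [1], [0, 1], [0], [0, 1], [1], [1], [0], [0, 1], [0], [0], [], [], [0,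 1], [], [0, 1], [0], [0], [0, 1], [0], [], [0], [], [1], [], [0, 1], [1], [], [0], [0, 1], [0], [], [0], [0, 1], [0], [0, 1], [0], [], [0, 1], [0, 1], [], [0, 1], [0], [], [], [], [0], [0, 1], [1], [], [], [0], [0], [0], [0], [0], [0, 1], [], [0, 1], [0], [], [0, 1], [1], [0], [], [1], [1], [0, 1], [0, 1], [0], [1], [1], [0], [], [], [0], [0, 1], [0], [0, 1], [], [], [], [1], [0], [], [], [0, 1], [], [0], [1], [1], [0], [1], [], [1], [0, 1], [], [0], [], [0], [0], [], [], [], [1], [1], [0], [1], [0], [0], [1], [1], [0, 1], [0, 1], [], [], [], [], [0], [0, 1], [], [1], [0, 1], [0, 1], [], [], [1], [], [], [], [], [], [1], [], [], [0], [0], [0], [1], [0], [0], [1], [0], [0], [], [0], [], [], [1], [], [], [0], [], [], [], [], [1], [], [1], [], [0], [], [1], [1], [], [], [1], [], [], [], [], [], [0], [], [], [0, 1], [], [0], [1], [], [], [], [], [], [0], [0], [], [0], [], [], [], [1], [], [], [0], [], [], [], [], [], [0], [], [],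 [], [], [], [], [], [], [], [], [], [], [1], [], [], [], [], [], [0, 1], [], [], [], [1], [], [], [1], [], [], [1], [], [], [1], [], [0], [], [], [0], [], [], [], [], [], [], [0], [], [], [], [], [], [], [], [], [], [0, 1]],
  [[0, 1], [0, 1], [0, 1], [0, 1], [0, 1], [0, 1], [0, 1], [0, 1], [0, 1], [0, 1], [0, 1], [0, 1], [0, 1], [0, 1], [0, 1], [0, 1], [1], [0, 1], [0, 1], [0, 1], [0, 1], [0], [0, 1], [0, 1], [0, 1], [0, 1], [0, 1], [0, 1], [0, 1], [0, 1], [1], [0, 1], [0, 1], [0, 1], [0, 1], [0, 1], [0, 1], [0, 1], [0, 1], [0, 1], [0, 1], [0, 1], [0, 1], [0, 1], [0, 1], [0, 1], [0, 1], [0, 1], [0, 1], [0, 1], [0, 1], [0, 1], [0, 1], [0, 1], [1], [0, 1], [0, 1], [0, 1], [0, 1], [0, 1], [0, 1], [1], [0, 1], [0, 1], [1], [0, 1], [0, 1], [0, 1], [0, 1], [0, 1], [0, 1], [0, 1], [0, 1], [1], [0, 1], [0], [0, 1], [1], [0, 1], [0], [0, 1], [0, 1], [0, 1], [1], [0, 1], [0, 1], [0, 1], [0, 1], [0, 1], [0, 1], [0, 1], [0, 1], [0, 1],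 [0, 1], [0, 1], [0, 1], [0, 1], [0, 1], [0, 1], [0, 1], [0, 1], [0, 1], [0, 1], [0, 1], [1], [0, 1], [0, 1], [0, 1], [0], [0, 1], [0, 1], [0, 1], [0, 1], [0, 1], [0, 1], [0, 1], [0, 1], [0, 1], [0], [1], [0, 1], [0, 1], [0, 1], [0, 1], [1], [0, 1], [0, 1], [0, 1], [0, 1], [0, 1], [], [0, 1], [0, 1], [0], [0, 1], [0, 1], [0, 1], [0, 1], [0, 1], [1], [0, 1], [0, 1], [0, 1], [0, 1], [0, 1], [0, 1], [0, 1], [0, 1], [0, 1], [0, 1], [0, 1], [0, 1], [0, 1], [0, 1], [0], [0, 1], [0, 1], [0, 1], [0], [0, 1], [0, 1], [0], [0], [], [0], [0, 1], [0, 1], [0], [0, 1], [0, 1], [0], [0], [0], [0, 1], [0, 1], [0, 1], [0], [0, 1], [1], [0, 1], [0, 1], [0, 1], [0, 1], [0], [], [0, 1], [0, 1], [0], [0, 1], [1], [0], [0, 1], [0, 1], [0, 1], [0, 1], [], [1], [1], [0], [0], [], [0, 1], [0], [0, 1], [1], [0, 1], [0], [1], [1], [0], [], [0, 1], [0], [1], [1], [0, 1], [0, 1], [1], [1], [0, 1], [0], [], [0, 1], [0, 1], [0, 1], [0, 1], [0, 1], [0], [0],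 [0], [0, 1], [0, 1], [0, 1], [0, 1], [0, 1], [0], [0, 1], [0, 1], [0, 1], [0, 1], [0, 1], [1], [0, 1], [0, 1], [0], [0, 1], [0, 1], [0, 1], [1], [0, 1], [0, 1], [1], [0], [0, 1], [0, 1], [0], [1], [], [0], [0, 1], [0, 1], [0], [0, 1], [0, 1], [1], [], [0, 1], [0, 1], [0, 1], [1], [0, 1], [0, 1], [0, 1], [1], [0, 1], [0, 1], [0], [0], [0, 1], [], [0, 1], [0], [0], [0, 1], [1], [], [1], [1], [0, 1], [0], [0, 1], [0, 1], [0], [], [0], [1], [], [0, 1], [0, 1], [], [1], [1], [0, 1], [1], [0], [0], [0, 1], [1], [0, 1], [0], [0], [0], [1], [0], [1], [], [0], [0, 1], [], [0, 1], [0, 1], [0, 1], [0, 1], [1], [], [0], [0, 1], [0, 1], [0, 1], [0, 1], [0, 1], [0, 1], [0], [0, 1], [1], [1], [0, 1], [0, 1], [0], [1], [], [0, 1], [0, 1], [0, 1], [1], [0], [], [1], [0], [0], [0, 1], [], [0, 1], [0, 1], [0, 1], [0, 1], [1], [0, 1], [], [0], [0, 1], [1], [1], [0, 1], [], [], [0, 1], [], [], [0, 1], [0, 1], [1], [0, 1], [0, 1], [0], [1], [1],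 [0], [0, 1], [0, 1], [1], [0, 1], [0, 1], [0, 1], [1], [1], [0, 1], [0, 1], [0], [0, 1], [0, 1], [], [0, 1], [], [1], [0], [], [0], [1], [], [0], [1], [0, 1], [0, 1], [0, 1], [0], [1], [1], [1], [1], [], [1], [], [0], [], [1], [1], [], [0, 1], [1], [0], [], [], [0], [], [], [0, 1], [0], [], [1], [], [1], [1], [1], [1], [1], [0], [], [1], [0], [0], [], [0, 1], [], [], [0], [0], [0], [0, 1], [0, 1], [0], [1], [1], [], [0], [1], [0, 1], [0, 1], [0], [0, 1], [0, 1], [0], [0], [0], [0, 1], [0], [0], [], [0], [1], [], [], [1], [], [0, 1], [], [1], [], [1], [], [], [0], [], [0], [0], [0], [0, 1], [], [1], [0], [], [0, 1], [1], [0], [0], [0], [0, 1], [1], [0], [0], [0, 1], [1], [], [], [0, 1], [], [], [], [0, 1], [0], [], [0], [], [1], [], [0], [0], [0], [0, 1], [], [], [0, 1], [1], [0], [0], [], [], [1], [], [0], [0, 1], [], [1], [0], [], [0], [0, 1], [1], [1], [1], [1], [0, 1], [], [1], [0, 1], [0], [0, 1], [0, 1], [], [], [0], [1],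 [0], [1], [], [], [0], [0], [0], [], [], [], [], [], [0], [0], [], [1], [], [], [0], [], [], [0], [], [], [1], [0], [0, 1], [1], [], [], [], [0, 1], [], [], [], [], [0, 1], [], [1], [0, 1], [], [0, 1], [], [1], [], [0], [1], [0, 1], [1], [1], [1], [1], [0], [0, 1], [0], [1], [], [], [0], [1], [], [], [], [], [], [], [0], [0], [], [1], [], [1], [1], [1], [], [], [0], [], [], [0], [1], [], [], [0], [0], [], [0, 1], [1], [0], [1], [1], [1], [1], [], [0, 1], [0, 1], [], [], [0], [], [0, 1], [0], [1], [], [1], [0, 1], [0, 1], [], [0, 1], [1], [1], [0], [], [], [], [], [], [], [1], [0], [], [], [0], [], [], [], [], [1], [1], [], [1], [1], [], [], [], [], [], [], [], [], [], [0, 1], [], [1], [1], [], [], [], [], [], [], [1], [], [1], [], [], [], [], [1], [], [], [], [], [], [0, 1], [], [0], [], [1], [], [], [], [], [], [], [], [], [], [], [], [0, 1], [], [], [1], [0], [], [], [0], [1], [], [], [1], [], [], [], [], [], [0], [], [1],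 [], [], [], [], [], [], [], [], [], [], [], [], [], [], [1], [0], [], [], [], [0], [], [], [], [], [], [], [], [0], [], [], [], [], [], [], [], [], [], [0], [0], [], [], [], [], [], [], [], [], [1], [], [], [], [0], [0], [], [], [], [], [1], [], [0], [], [], [], [], [], [], [], [], [], [], [], [], [], [], [], [], [], [], [], [1], [], [], [], [], [], [], [], [], [], [1], [], [], [], [], [], [], [], [], [], [], [], [], [], [], [0]]]

def dpsext_sizes : Fin 3 → ℕ := ![396, 495, 880]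

abbrev dpsext_model := (famModel 1722851099 2147483647 2097152)

set_option maxRecDepth 1000000 in
set_option maxHeartbeats 4000000 in
theorem dpsext_check : distinctAux (((List.ofFn fun i => dpsext_model.nodes dp_tabs (dpsext_roots i)
    (dpsext_certs i)).flatten).map dpsext_model.code) 0 = true := by
  decide +kernel

set_option maxRecDepth 1000000 in
set_option maxHeartbeats 4000000 in
theorem dpsext_len : ∀ i, (dpsext_model.nodes dp_tabs (dpsext_roots i) (dpsext_certs i)).length =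
    dpsext_sizes i := by
  decide +kernel

set_option maxRecDepth 1000000 in
set_option maxHeartbeats 4000000 in
theorem dpsext_rootcheck : ∀ i, IsSextetList (dpsext_roots i) := by
  decide +kernel

end Cfsg.Agent.Lib.Helper28
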