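import Cfsg.Agent.Lib.Helper28.ElemModel
import Cfsg.Agent.Lib.Helper28.Data1600

set_option autoImplicit false

/-!
Generators and enumeration certificate of the stabilizer of a dodecad and three of its points.
-/

namespace Cfsg.Agent.Lib.Helper28

open Cfsg MulAction
open scoped Pointwise

def m9g_tabs : List ℕ := [479539966697379831563923867680475168, 231481493390101609027975706633930784]

set_option maxRecDepth 1000000 in
set_option maxHeartbeats 4000000 in
theorem m9g_tabs_check : ∀ t ∈ m9g_tabs, TabM24 t ∧ setEqB (stepSet t m9_base) m9_base = true ∧ look t 0 = 0 ∧ look t 1 = 1 ∧ look t 2 = 2 := by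
  decide +kernel

def m9g_cert : List (List ℕ) := [[0, 1], [0, 1], [0, 1], [0, 1], [0, 1], [0, 1], [0, 1], [1], [0, 1], [0, 1], [0, 1], [0, 1], [0, 1], [0], [0], [0, 1], [0], [1], [0, 1], [0], [0], [0], [1], [0], [0, 1], [0, 1], [0, 1], [0], [], [1], [0, 1], [0], [1], [0], [0, 1], [0, 1], [0], [0, 1], [0], [1], [], [], [0], [1], [], [1], [0], [1], [0], [0], [0], [], [1], [], [1], [], [1]]

noncomputable abbrev m9g_model := elemModel 1048573

set_option maxRecDepth 1000000 in
set_option maxHeartbeats 4000000 in
theorem m9g_check : distinctAux ((m9g_model.nodes m9g_tabs idList m9g_cert).map m9g_model.code) 0 = true := by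
  decide +kernel

set_option maxRecDepth 1000000 in
set_option maxHeartbeats 4000000 in
theorem m9g_len : (m9g_model.nodes m9g_tabs idList m9g_cert).length = 72 := by
  decide +kernel

end Cfsg.Agent.Lib.Helper28
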