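import Cfsg.Agent.Lib.Helper28.FamCheck2
import Cfsg.Agent.Lib.Helper28.ElemFix

set_option autoImplicit false

/-!
Enumerations of all octads, dodecads, trios and sextets by certificates under generators of `M24`; packed tables of the representatives of the elements of order 2 and 3.
-/

namespace Cfsg.Agent.Lib.Helper28

open Cfsg MulAction
open scoped Pointwise

def all_tabs : List ℕ := [956302485175575353788796878166559809, 1795248432537898728475572672376535, 974380510768821363662145534143076928]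

set_option maxRecDepth 1000000 in
set_option maxHeartbeats 4000000 in
theorem all_tabs_check : ∀ t ∈ all_tabs, TabM24 t := by
  decide +kernel

def alloct_roots : Fin 1 → List ℕ := ![
  [0, 1, 2, 3, 4, 7, 10, 12]]

def alloct_certs : Fin 1 → List (List ℕ) := ![
  [[0, 1, 2], [0, 1, 2], [0, 2], [0, 2], [0, 1, 2], [0, 2], [0, 2], [0, 1, 2], [0, 2], [0, 1, 2], [0, 2], [0, 1, 2], [0, 2], [0, 2], [0, 2], [0, 2], [0, 1, 2], [0, 2], [0, 1, 2], [0, 2], [0, 2], [2], [0, 2], [0, 1, 2], [0, 2], [0, 2], [2], [0, 2], [0, 1, 2], [0, 2], [0, 2], [0, 1, 2], [0, 2], [0, 1], [0, 2], [0, 2], [0, 2], [0, 1, 2], [0, 2], [0, 1, 2], [0, 2], [0, 2], [0, 1, 2], [0, 2], [0, 1, 2], [0, 2], [0, 2], [0, 1, 2], [0, 2], [0, 1, 2], [0, 2], [0, 2], [0, 1, 2], [0, 2], [0, 1, 2], [0, 2], [0, 2], [1, 2], [0, 2], [0, 1], [0, 2], [0, 2], [0, 1, 2], [0], [0, 1, 2], [0], [2], [2], [0, 2], [0, 1, 2], [0, 2], [0, 1, 2], [2], [0], [0, 1, 2], [0, 2], [0, 1,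 2], [0], [0, 1, 2], [0], [0, 2], [0, 2], [0, 1, 2], [0, 2], [0, 1], [0, 2], [0, 2], [0, 1], [0, 2], [0], [0, 2], [0], [0, 1], [0, 2], [0, 2], [0], [0, 1, 2], [2], [0, 2], [0, 1], [0], [0, 2], [0, 2], [0, 2], [0, 1, 2], [0, 2], [0, 1, 2], [0, 2], [0, 1, 2], [2], [0, 2], [0, 1], [0, 2], [0, 1, 2], [0, 2], [0, 2], [0, 1, 2], [0, 2], [2], [2], [0, 1, 2], [0, 2], [2], [0, 1], [], [0, 2], [0, 2], [0], [0, 1, 2], [0, 2], [0, 1, 2], [0, 2], [2], [2], [0, 1, 2], [0, 2], [0, 2], [0], [0, 1, 2], [2], [], [0, 2], [2], [0, 2], [0], [1], [0, 1], [0, 2], [], [], [0, 2], [0, 2], [1, 2], [0, 2], [0, 1, 2], [], [0], [0, 1, 2], [0, 2], [0], [0], [], [0], [0, 1], [0, 1, 2], [0], [2], [0, 1], [0], [1, 2], [2], [0, 2], [], [0, 1, 2], [0, 2], [], [1, 2], [0], [0, 2], [0, 1, 2], [0, 2], [2], [0, 2], [0, 2], [0, 1, 2], [2], [0, 2], [0], [0, 1], [2], [0, 1], [0, 2], [1, 2], [0], [1, 2], [], [0, 1, 2], [0, 1, 2], [], [1], [0, 1, 2], [], [0,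 1], [], [0, 1, 2], [2], [0, 1, 2], [0, 1, 2], [2], [], [0, 2], [0, 1], [0, 2], [1], [], [0, 1], [0, 1, 2], [0, 2], [0, 1, 2], [2], [0, 1], [2], [0, 2], [2], [0, 2], [0, 1], [2], [0, 2], [0], [2], [0], [0, 2], [0, 1], [0], [], [], [0, 2], [2], [1, 2], [0], [], [0, 2], [1], [2], [], [], [0, 2], [0, 2], [0], [0, 1], [0, 2], [], [0, 2], [0], [0], [0, 2], [0, 2], [2], [0], [0, 2], [0, 2], [2], [1], [0], [0, 1], [0, 2], [0, 1, 2], [0], [], [0], [], [], [0, 1], [2], [2], [0], [0], [1, 2], [], [2], [0, 2], [0, 1, 2], [0, 2], [], [0, 1], [0, 2], [1, 2], [0, 2], [0, 2], [0, 1], [0, 2], [2], [0], [0], [], [2], [1, 2], [], [0, 1], [0], [0, 1, 2], [], [0, 1, 2], [0], [], [0, 2], [1, 2], [], [2], [], [0, 2], [0, 2], [], [0], [], [0], [0, 1], [0], [], [0, 1, 2], [], [0], [], [1, 2], [1, 2], [], [1, 2], [0], [2], [2], [0], [], [0], [2], [2], [0], [2], [0, 2], [], [0, 2], [2], [2], [1], [], [0, 2], [2], [0], [0], [], [], [], [0], [],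 [0, 2], [0], [2], [2], [0], [0, 2], [0, 1], [0, 2], [0], [0], [], [2], [1], [0, 2], [], [2], [0, 1, 2], [], [1], [0], [], [0], [0], [], [0], [], [], [0, 2], [0, 1, 2], [], [], [], [0, 2], [0, 2], [2], [], [], [0], [], [0, 2], [2], [0], [2], [2], [2], [2], [], [], [], [], [2], [], [0], [], [], [0], [0], [1, 2], [], [0], [0, 1], [2], [1], [2], [0], [], [2], [], [], [], [], [2], [], [0], [0, 1], [0], [0, 2], [0], [0], [0, 1], [0], [], [0, 2], [0], [0], [0], [1], [0, 1], [2], [], [2], [0], [], [0], [], [], [], [1], [], [0, 1], [], [2], [2], [], [1], [], [0], [], [1, 2], [2], [], [], [], [], [], [0], [], [], [2], [], [], [], [], [], [], [], [0], [], [], [], [1, 2], [0, 1], [2], [], [], [2], [0], [], [2], [], [], [0, 2], [], [], [2], [2], [1, 2], [0], [0], [0], [1], [], [], [2], [1], [0, 2], [0], [0], [], [], [], [], [], [], [], [2], [2], [], [2], [0], [], [], [], [0], [0, 1, 2], [], [0, 2], [0, 2], [1], [], [], [], [],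 [], [], [0, 1], [], [], [0, 1], [], [], [], [0, 1], [2], [0], [], [], [2], [], [0], [2], [0], [1], [], [], [], [1], [], [], [], [], [], [0], [1], [], [], [], [], [], [2], [], [0], [1], [1], [], [], [0], [], [], [2], [], [], [], [], [], [], [], [], [0, 2], [], [], [], [], [], [0], [], [0], [], [1], [], [1], [], [], [], [], [0], [], [], [1], [], [], [], [0], [], [], [2], [], [], [], [], [], [], [], [], [], [0], [], [], [], [], [0], [], [1, 2], [], [], [], [0], [], [], [], [], [], [], [], [], [0], [], [0], [0, 2], [], [], [], [], [], [], [], [0], [], [], [2], [], [], [], [], [0], [], [], [], [], [], [], [], [], [], [], [], [], [2], [], [], [], [], [], [2], [], [], [], [], [], [2], [], [], [], [], [], [], [], [], [], [], [], [2]]]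

def alloct_sizes : Fin 1 → ℕ := ![759]

abbrev alloct_model := (setModel 35225 262139)

set_option maxRecDepth 1000000 in
set_option maxHeartbeats 4000000 in
theorem alloct_check : distinctAux (((List.ofFn fun i => alloct_model.nodes all_tabs (alloct_roots i)
    (alloct_certs i)).flatten).map alloct_model.code) 0 = true := by
  decide +kernel

set_option maxRecDepth 1000000 in
set_option maxHeartbeats 4000000 in
theorem alloct_len : ∀ i, (alloct_model.nodes all_tabs (alloct_roots i) (alloct_certs i)).length =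
    alloct_sizes i := by
  decide +kernel

set_option maxRecDepth 1000000 in
set_option maxHeartbeats 4000000 in
theorem alloct_rootcheck : ∀ i, IsOctadList (alloct_roots i) := by
  decide +kernel
def alldod_roots : Fin 1 → List ℕ := ![
  [0, 1, 2, 3, 4, 5, 6, 7, 9, 13, 20, 23]]

def alldod_certs : Fin 1 → List (List ℕ) := ![
  [[0, 1, 2], [0, 1, 2], [0, 2], [0, 2], [0, 1, 2], [0, 2], [0, 2], [0, 1, 2], [0, 2], [0, 1, 2], [0, 2], [0, 1, 2], [0, 2], [0, 2], [0, 1, 2], [0, 2], [0, 1, 2], [0, 2], [0, 1, 2], [0, 2], [0, 2], [0, 1, 2], [0, 2], [0, 1, 2], [0, 2], [0, 2], [0, 1, 2], [0, 2], [0, 1, 2], [0, 2], [0, 2], [0, 1, 2], [0, 2], [0, 1, 2], [0, 2], [0, 1, 2], [2], [0, 2], [0, 1, 2], [0, 2], [0, 1, 2], [0, 2], [0, 2], [0, 1, 2], [0, 2], [0, 1, 2], [0, 2], [0, 2], [0, 1, 2], [0, 2], [0, 1, 2], [0, 2], [0, 1, 2], [0, 2], [0, 2], [0, 1, 2], [0, 2], [0, 1, 2], [0, 2], [0, 2], [0, 1, 2], [0, 2], [0, 1, 2], [0, 2], [0, 1,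 2], [0], [0, 2], [1, 2], [0], [0, 1, 2], [0, 2], [0, 2], [0, 1, 2], [0, 2], [0, 1, 2], [0, 2], [0, 1, 2], [2], [0, 2], [0, 1, 2], [0, 2], [0, 2], [0, 2], [0, 2], [0, 1, 2], [0, 2], [0, 1, 2], [0, 2], [0, 2], [0, 2], [0, 2], [0, 2], [0, 1, 2], [0, 2], [0, 2], [0, 1, 2], [0, 2], [0, 1], [0], [0, 2], [0, 1, 2], [0, 2], [0, 2], [0], [0, 1, 2], [0, 2], [0], [0, 1, 2], [0], [0, 2], [0, 2], [0, 2], [0, 1, 2], [0, 2], [0, 2], [0, 2], [0, 2], [2], [0, 2], [0, 1, 2], [2], [0, 1, 2], [0, 2], [0, 2], [0, 1, 2], [0, 2], [0, 1, 2], [0, 2], [0, 2], [2], [0, 2], [0, 1, 2], [0, 2], [0, 1, 2], [0], [0, 2], [0, 2], [0], [0, 1, 2], [0, 2], [0, 2], [0, 1, 2], [0, 2], [0, 1, 2], [0, 2], [0, 1, 2], [2], [0, 2], [0, 1, 2], [0, 2], [0, 1, 2], [0, 2], [0, 2], [0, 1, 2], [0, 2], [0, 1, 2], [0, 2], [0, 2], [0, 1, 2], [0, 1, 2], [0, 2], [0, 2], [0, 2], [0, 1, 2], [0, 1, 2], [0, 2], [0, 2], [0, 1, 2], [0, 2], [0, 1, 2], [0, 2], [0, 1, 2], [2],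 [0, 2], [0, 2], [0, 2], [0, 1], [0, 2], [2], [0, 1, 2], [0, 2], [0, 1, 2], [0, 2], [0], [0, 2], [0, 1, 2], [0, 2], [0, 1, 2], [0, 2], [0, 2], [0, 1, 2], [0, 2], [0, 1, 2], [2], [0, 1, 2], [0, 2], [0, 1, 2], [0, 2], [0, 1, 2], [0, 2], [2], [0, 1, 2], [0], [0, 2], [0, 2], [0, 2], [0, 1, 2], [0, 2], [0, 1, 2], [0, 2], [0, 1, 2], [0, 2], [0, 1, 2], [0, 2], [0, 1, 2], [0, 2], [0, 1, 2], [0, 2], [0, 2], [0, 1, 2], [0, 2], [0, 1, 2], [0, 2], [0, 1, 2], [0, 2], [0], [0, 1, 2], [0], [0, 1], [0], [0, 1, 2], [0, 1, 2], [0, 2], [0, 1, 2], [2], [0, 2], [0, 1, 2], [0], [1, 2], [0, 2], [0, 1, 2], [0, 2], [2], [0, 2], [0, 1, 2], [0], [2], [0, 1, 2], [0, 2], [0], [0, 1, 2], [0, 1, 2], [2], [0, 1, 2], [0, 2], [0, 1], [0, 2], [0, 1, 2], [2], [0, 2], [0, 1, 2], [0, 2], [0, 1, 2], [2], [1, 2], [0, 2], [1, 2], [0, 2], [2], [0, 2], [2], [0, 1, 2], [0], [0], [0, 2], [0, 1, 2], [0], [2], [0, 1, 2], [0, 2], [0, 2], [0, 2], [0, 1, 2], [0, 2],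 [0], [0, 1, 2], [0], [0, 2], [0, 2], [2], [0], [0, 2], [1, 2], [0, 2], [0, 2], [0, 1], [0, 2], [0], [0, 2], [2], [0, 1, 2], [0, 2], [0, 1, 2], [0, 2], [0, 2], [0, 1], [0, 1], [0, 2], [0, 1, 2], [0, 2], [0, 1, 2], [0, 2], [0, 2], [0, 2], [0, 1, 2], [0, 2], [0, 1, 2], [0, 2], [0, 2], [2], [0, 2], [0, 1, 2], [0, 2], [0, 1, 2], [0, 2], [0], [0, 1, 2], [0, 2], [0, 1, 2], [0, 2], [0, 2], [0, 2], [0, 1, 2], [0, 2], [0, 1, 2], [0, 2], [0], [0, 2], [0, 2], [0, 1, 2], [0, 2], [0, 2], [0, 1, 2], [0, 2], [0, 2], [0, 2], [0, 2], [0, 2], [2], [0, 1, 2], [0], [0, 1, 2], [2], [0, 2], [0, 1], [0, 2], [0, 1, 2], [0, 2], [0, 2], [2], [0, 2], [1, 2], [], [0, 2], [1, 2], [0, 2], [0, 1, 2], [0, 2], [0, 1], [0, 2], [0, 1], [0, 2], [], [0, 1, 2], [0, 2], [0, 2], [0, 1, 2], [0, 2], [0, 1, 2], [0, 2], [0, 1, 2], [2], [2], [0, 1, 2], [0, 2], [1, 2], [0], [2], [0, 1, 2], [0, 2], [0, 2], [0, 2], [0], [2], [1, 2], [0], [0, 1, 2], [2], [0, 2], [0,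 2], [0, 1], [0], [0, 1], [0, 2], [0, 2], [0, 2], [0, 2], [0, 2], [0, 1], [0], [1, 2], [0, 2], [0, 2], [1, 2], [0], [0, 1, 2], [0, 1, 2], [0, 2], [0, 1, 2], [0, 2], [0, 2], [0, 1], [2], [0, 1, 2], [0, 2], [0], [0, 1, 2], [0, 2], [1, 2], [], [0, 2], [0], [0, 2], [0, 2], [0], [0, 1], [0, 2], [2], [0, 2], [0, 1, 2], [2], [], [0, 2], [0, 2], [0, 1, 2], [0, 2], [0, 2], [1], [2], [0, 1, 2], [], [0, 2], [0, 1], [0, 2], [0, 2], [0, 1], [0, 2], [0, 2], [1], [0, 1, 2], [0, 2], [0, 1, 2], [0, 2], [0, 1, 2], [0, 2], [0, 1], [2], [0, 2], [0], [0, 2], [0, 1], [0, 2], [2], [0, 1, 2], [0, 2], [0, 1], [0, 2], [0, 2], [1], [0], [0, 1, 2], [0, 2], [0], [0, 2], [2], [0, 1, 2], [0, 2], [0, 2], [1, 2], [0], [0, 1, 2], [0], [0], [0, 2], [0], [0, 1, 2], [0, 2], [0, 1], [2], [0, 2], [1, 2], [0, 2], [0, 1, 2], [0, 2], [0, 2], [0, 1, 2], [2], [1, 2], [], [0, 2], [0], [], [1, 2], [0, 2], [2], [0, 2], [1, 2], [0], [0], [0, 1], [0, 1, 2], [2], [2],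 [1, 2], [], [0], [1, 2], [0, 2], [0, 1, 2], [0, 2], [0, 2], [2], [2], [], [0, 1, 2], [0, 2], [2], [0, 2], [2], [2], [0, 1, 2], [0, 2], [0, 1, 2], [0], [0, 2], [0, 1, 2], [], [0, 2], [0, 1], [0, 2], [0, 1], [], [0, 2], [1, 2], [0, 2], [0, 1, 2], [0, 2], [0, 2], [0, 1], [0], [0, 2], [0, 2], [0, 2], [0, 2], [0, 1], [2], [0], [0, 2], [0, 1, 2], [2], [0, 2], [0, 1, 2], [0, 2], [0, 1, 2], [0], [0], [0, 2], [0, 2], [0, 2], [0, 2], [0], [], [2], [0], [0, 2], [0, 2], [0, 1], [0, 2], [2], [2], [0, 2], [0, 2], [0, 2], [0, 2], [0, 2], [], [2], [0, 2], [0], [0, 2], [0, 2], [0, 1, 2], [0, 2], [0], [1], [2], [0, 2], [], [0, 1], [0, 1, 2], [], [0, 1, 2], [0, 2], [0, 2], [1, 2], [0, 2], [0, 1], [2], [0, 2], [0], [0, 2], [0], [2], [0, 1], [0], [0, 2], [2], [0, 2], [1], [0], [1, 2], [], [0, 2], [0], [1, 2], [0, 1], [0, 2], [0, 1, 2], [0], [2], [1, 2], [0, 1, 2], [0], [2], [0, 2], [1], [2], [0, 1], [2], [1, 2], [0], [1], [0], [0, 2],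 [1], [0, 2], [0], [0, 1, 2], [0, 2], [], [0, 1, 2], [0], [0, 1, 2], [0, 2], [0], [1], [0, 2], [0, 2], [0], [0, 2], [], [1], [], [0, 2], [2], [0], [0], [2], [0, 2], [2], [0, 1], [0, 2], [], [1, 2], [0, 2], [0, 1, 2], [0, 2], [0, 1, 2], [0, 2], [0, 1, 2], [2], [2], [2], [0, 2], [0, 2], [0, 2], [], [0, 2], [2], [2], [0, 2], [0, 2], [2], [0, 2], [1, 2], [2], [], [0, 2], [0, 2], [0, 1], [0, 2], [0, 2], [0, 2], [], [2], [0, 2], [0, 2], [], [0, 1, 2], [0], [0, 2], [0, 2], [0, 2], [0, 1], [2], [0, 1, 2], [0, 2], [], [0], [0, 2], [0, 2], [], [0, 2], [], [0, 1, 2], [0], [2], [0], [0], [0, 1], [0, 2], [0, 2], [0, 2], [0], [0, 2], [0, 2], [0], [1], [0], [0, 1, 2], [], [1, 2], [2], [], [0, 1, 2], [0, 2], [0, 1], [0, 2], [0, 2], [0, 2], [], [0], [1, 2], [2], [2], [], [0, 2], [0, 2], [1], [0], [2], [0], [2], [], [0, 2], [2], [], [1], [], [0, 1, 2], [0, 2], [0], [], [], [0], [], [], [1], [2], [2], [0], [1, 2], [0], [2], [0, 2], [0,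 1, 2], [0], [0, 2], [2], [2], [1, 2], [0, 2], [2], [0], [0, 2], [0, 2], [0, 1, 2], [0], [0, 1], [0], [2], [0], [], [0, 1, 2], [2], [2], [0, 2], [0, 1, 2], [2], [2], [2], [0, 2], [0, 1, 2], [0, 2], [2], [2], [0, 2], [0, 2], [0], [2], [2], [0, 2], [0, 2], [0, 2], [0, 2], [1], [2], [0], [], [0, 1], [2], [2], [0], [2], [2], [0], [0, 1, 2], [2], [0, 1], [], [], [], [], [0], [], [2], [2], [], [], [0], [2], [0, 1, 2], [0], [1], [], [0, 1], [1, 2], [], [0, 2], [2], [0, 1], [2], [], [0, 2], [2], [0], [], [], [], [0], [1, 2], [2], [0], [], [0, 2], [0, 2], [0, 2], [2], [2], [0, 1, 2], [0], [0, 2], [2], [0, 1, 2], [0, 2], [0], [], [0, 2], [0], [], [2], [2], [0, 2], [0, 1, 2], [0, 2], [0, 1, 2], [0], [], [0, 1, 2], [0, 2], [0], [0], [], [1, 2], [0, 1, 2], [2], [], [], [], [0], [0], [0, 2], [2], [0, 2], [], [0, 2], [0, 1, 2], [0, 2], [1, 2], [2], [0], [1], [2], [0], [1, 2], [0], [0, 2], [2], [2], [0], [0, 2], [0, 2], [0, 1, 2],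 [0], [0, 2], [2], [0], [], [0], [0, 2], [0], [0], [0], [2], [0, 2], [0], [2], [0], [1, 2], [], [], [0, 2], [0, 2], [], [], [0], [1], [0, 2], [0], [0], [], [0, 1], [0, 2], [2], [0, 1, 2], [0], [0, 1, 2], [2], [0], [0, 1, 2], [2], [1], [2], [2], [0, 1], [0], [0, 2], [], [], [0, 1], [], [0, 1, 2], [0, 2], [0], [1], [], [0, 1, 2], [], [0, 2], [0, 1, 2], [0], [0], [0, 2], [], [2], [0], [0, 1], [2], [1, 2], [0], [0], [2], [], [2], [0, 2], [1], [], [0], [1, 2], [2], [], [0, 1, 2], [], [0, 2], [1], [2], [0, 1, 2], [0, 2], [2], [0, 2], [1, 2], [0, 2], [0, 2], [2], [0, 1], [1, 2], [0, 1], [0, 2], [1, 2], [1, 2], [], [], [2], [2], [1, 2], [0], [2], [], [2], [0, 2], [], [0, 1], [2], [0, 2], [], [], [0], [], [0, 2], [2], [0, 1], [0], [0, 2], [], [0, 2], [], [0, 1], [2], [1], [2], [0], [0, 1, 2], [], [2], [0, 2], [0], [2], [0, 2], [0], [2], [1, 2], [], [], [2], [2], [0, 2], [0, 2], [], [], [], [2], [], [0, 2], [], [], [2], [0],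 [0, 1, 2], [0, 2], [2], [0, 2], [0], [], [2], [0, 2], [0], [], [2], [0, 2], [0, 2], [0], [], [], [0, 2], [2], [2], [0, 1], [0], [0, 1, 2], [], [], [0, 1, 2], [1], [], [0], [2], [], [2], [], [1], [0], [0], [2], [0, 1, 2], [], [0, 1], [], [0], [], [0, 1, 2], [], [2], [2], [2], [], [], [], [], [2], [], [2], [0], [], [1], [2], [0, 2], [], [2], [0, 2], [0], [], [0], [2], [], [], [1, 2], [0], [0, 2], [2], [0], [], [0, 2], [0, 2], [2], [2], [0, 2], [1], [0, 2], [2], [0], [], [], [0], [0], [2], [0, 1, 2], [0, 2], [1, 2], [0], [], [], [1, 2], [0], [0, 2], [2], [0], [0, 1], [], [1], [], [0, 2], [0], [], [2], [0, 2], [0, 2], [0, 1, 2], [], [0], [0], [0], [], [0, 2], [], [], [1, 2], [1, 2], [0], [], [], [0, 1, 2], [2], [0], [1], [], [0, 1, 2], [0], [0], [], [0, 2], [], [], [], [2], [0], [0, 2], [0, 2], [0], [0], [], [0, 1], [2], [2], [2], [2], [], [0, 1, 2], [], [2], [], [], [], [1], [], [1], [], [2], [], [], [1], [0, 2], [2],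 [], [0], [], [0, 2], [], [0, 2], [1, 2], [], [], [], [0, 2], [], [], [0, 1, 2], [], [0], [2], [0, 2], [1, 2], [0], [2], [0], [2], [2], [0, 2], [], [2], [1, 2], [0, 2], [0], [0], [], [], [0], [2], [], [], [], [0, 1], [], [], [], [], [], [], [0], [0], [], [1], [], [1], [0], [0], [2], [1], [2], [], [], [], [0], [], [0, 1], [0], [1], [], [], [0, 1], [], [0], [1, 2], [], [0], [0, 1, 2], [0], [0], [], [], [], [1], [], [0, 1], [], [2], [2], [1, 2], [], [0, 1], [], [0], [0], [2], [], [0], [], [0, 1], [], [1], [0], [0], [], [0, 2], [0], [], [0], [], [], [0, 2], [0], [0, 1], [], [], [0, 2], [2], [], [2], [0, 2], [2], [1, 2], [], [2], [0], [], [], [], [], [], [2], [0], [1], [2], [1], [], [0], [2], [], [1], [], [0, 1], [], [], [2], [0], [], [], [0], [0, 1], [0, 2], [0], [0], [1], [], [2], [1], [2], [], [0, 1], [], [1, 2], [0], [0], [2], [0], [], [2], [], [0, 2], [0, 2], [0, 2], [], [0], [], [0, 1], [], [0], [2], [2], [0, 2], [0],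 [], [2], [2], [0], [1], [], [1, 2], [], [], [], [0, 2], [], [], [2], [], [2], [2], [], [], [0], [1], [], [1], [], [], [], [2], [], [], [2], [0], [], [2], [], [0, 2], [], [], [0], [], [0], [2], [0], [], [0], [0], [], [1], [0], [0], [2], [], [], [], [], [0], [0], [2], [], [0], [1], [], [1, 2], [0, 2], [0, 2], [2], [2], [2], [], [0, 2], [0], [2], [], [2], [0, 1], [2], [2], [], [1], [], [0, 2], [], [2], [2], [], [], [2], [], [1, 2], [2], [0], [1], [2], [2], [0, 2], [], [], [], [], [0], [0], [2], [0], [0, 2], [0], [], [], [], [2], [1, 2], [2], [0], [0, 2], [], [], [0, 1], [2], [0], [], [2], [0], [2], [1, 2], [], [2], [], [0, 1], [], [], [], [2], [], [], [0], [0, 2], [1], [0], [], [], [1], [], [], [], [2], [], [0], [], [0], [], [2], [1], [], [], [1], [], [], [], [], [], [0, 2], [], [0, 2], [], [], [], [0], [], [0], [], [2], [2], [], [], [], [0], [2], [1], [], [], [], [2], [2], [0, 1], [0], [2], [], [], [0, 2], [], [2], [],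 [], [0], [], [0, 2], [2], [], [0], [], [2], [0], [2], [], [], [], [2], [], [0, 1], [0, 2], [0, 2], [1], [], [], [], [2], [], [1], [0], [], [0, 2], [], [2], [], [], [1], [0, 2], [], [], [], [1], [], [], [], [0, 1], [], [0, 2], [0, 1], [0], [2], [], [0], [], [], [0], [2], [], [2], [1], [0], [], [0], [2], [2], [], [0], [0], [0, 2], [2], [], [2], [], [], [2], [0], [], [0], [], [2], [], [0], [2], [0], [0, 1], [], [], [], [], [], [2], [2], [], [], [], [], [], [2], [], [], [2], [2], [0], [0], [], [0], [1, 2], [2], [2], [1], [2], [], [], [], [], [0], [0, 2], [0], [], [], [2], [], [0, 2], [], [1, 2], [0], [], [], [], [2], [], [], [], [0], [2], [], [], [], [], [], [], [], [], [2], [], [], [], [2], [], [0], [1, 2], [], [], [], [], [], [], [], [2], [], [], [], [1], [], [], [], [0, 2], [], [2], [2], [], [], [], [], [2], [0], [0, 1], [2], [2], [0], [0], [], [0], [], [], [], [2], [0, 2], [], [], [2], [0, 2], [1], [], [], [], [],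 [], [], [], [2], [], [], [0], [], [0, 2], [], [], [], [0], [], [], [2], [], [], [0], [2], [0], [0, 1], [], [], [], [], [], [], [1], [], [], [], [], [0, 2], [], [], [], [0], [0], [], [], [], [2], [], [], [], [0, 2], [0], [0], [0], [0, 1], [], [], [], [], [0, 2], [0], [0], [0], [], [], [2], [], [], [], [2], [], [0], [2], [], [], [], [], [], [0], [], [], [0, 2], [], [], [], [2], [], [], [], [0], [2], [], [0], [2], [], [], [], [], [], [], [], [], [0], [0], [], [], [2], [], [], [2], [], [], [], [], [0], [], [], [], [], [], [], [], [], [0], [], [], [0], [2], [], [2], [2], [0, 1], [], [], [], [2], [0], [], [], [2], [], [], [], [], [1, 2], [2], [], [], [], [1], [0], [2], [], [2], [], [], [0, 2], [0], [], [2], [2], [1], [2], [], [], [], [], [], [], [], [], [], [2], [], [], [], [], [], [2], [], [], [2], [], [1, 2], [], [], [], [], [], [], [], [], [], [], [], [], [], [0, 2], [], [], [], [], [], [], [], [], [], [1], [0], [2],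 [], [], [0], [], [], [], [], [], [2], [], [], [], [0], [], [], [1], [], [], [], [], [0], [], [], [], [], [], [], [], [2], [], [], [], [], [0], [2], [], [], [], [], [], [], [], [], [], [0], [], [], [], [], [], [], [], [], [], [2], [0], [], [], [], [], [], [], [], [0], [1], [0], [], [], [2], [0], [], [2], [], [], [], [], [], [], [], [], [], [], [2], [0], [], [], [], [], [], [2], [], [1, 2], [], [0], [], [], [], [2], [], [], [1], [1], [], [2], [], [], [], [], [], [2], [2], [], [], [2], [], [], [], [2], [], [], [], [], [], [], [], [], [], [], [], [2], [2], [], [], [], [0], [], [0], [], [0], [], [], [], [2], [0], [], [], [], [], [0], [1], [], [2], [], [], [2], [], [], [], [], [0], [], [], [], [], [], [], [1], [], [], [], [2], [], [], [], [], [], [], [], [], [], [], [], [], [], [], [0], [], [], [], [], [], [], [2], [], [], [], [], [], [], [], [], [], [], [], [], [2], [], [], [], [], [], [], [], [], [], [], [], [], [1], [],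 [], [], [], [], [], [], [], [], [], [], [], [], [], [], [], [], [], [], [], [], [], [], [], [], [], [], [], [], [], [], [], [], [], [], [], [], [], [], [], [], [], [], [], [], [], [], [], [], [], [], [], [], [], [], [], [], [], [], [], [], [], [], [2], [], [], [], [], [], [], [], [], [2], [], [], [], [], [2], [], [], [], [], [], [], [], [], [], [], [], [], [], [], [], [], [], [], [], [], [], [0], [], [], [], [], [], [], [], [], [], [], [], [], [], [0], [], [], [], [], [], [], [], [], [], [], [], [], [], [], [], [], [], [], [], [], [], [], [1], [], [], [], [], [], [], [], [], [], [], [], [], [], [], [], [], [0], [], [], [], [], [], [1], [0], [], [], [], [], [], [], [], [], [], [], [], [], [], [], [], [], [], [], [], [], [], [], [], [], [], [0], [], [], [], [], [], [], [], [], [], [], [], [], [], [], [], [], [], [], [], [], [], [], [], [], [2], [], [], [], [], [], [], [], [], [], [], [], [], [], [], [], [2], [], [],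 [], [], [], [], [], [], [], [], [], [], [], [0], [], [], [], [], [], [], [], [], [0]]]

def alldod_sizes : Fin 1 → ℕ := ![2576]

abbrev alldod_model := (setModel 35225 262139)

set_option maxRecDepth 1000000 in
set_option maxHeartbeats 4000000 in
theorem alldod_check : distinctAux (((List.ofFn fun i => alldod_model.nodes all_tabs (alldod_roots i)
    (alldod_certs i)).flatten).map alldod_model.code) 0 = true := by
  decide +kernel

set_option maxRecDepth 1000000 in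
set_option maxHeartbeats 4000000 in
theorem alldod_len : ∀ i, (alldod_model.nodes all_tabs (alldod_roots i) (alldod_certs i)).length =
    alldod_sizes i := by
  decide +kernel

set_option maxRecDepth 1000000 in
set_option maxHeartbeats 4000000 in
theorem alldod_rootcheck : ∀ i, IsDodecadList (alldod_roots i) := by
  decide +kernel
def alltrio_roots : Fin 1 → List (List ℕ) := ![
  [[0, 1, 2, 3, 4, 7, 10, 12], [5, 6, 8, 9, 14, 18, 19, 20], [11, 13, 15, 16, 17, 21, 22, 23]]]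

def alltrio_certs : Fin 1 → List (List ℕ) := ![
  [[0, 2], [0, 1, 2], [0, 2], [0, 1, 2], [0, 2], [0, 2], [0, 1, 2], [0, 2], [0, 1, 2], [0, 2], [0, 2], [0, 1, 2], [0, 2], [0, 1, 2], [0, 2], [0, 1, 2], [0, 2], [0, 2], [0, 1, 2], [0, 2], [0, 1, 2], [0, 2], [0, 2], [0, 1, 2], [0, 2], [0, 1, 2], [0, 2], [0, 1, 2], [2], [0, 2], [0, 1, 2], [0, 2], [0, 1, 2], [0, 2], [0, 2], [0, 1, 2], [0, 2], [0, 1, 2], [0, 2], [0, 2], [0, 1, 2], [0, 2], [0, 1, 2], [0, 2], [0, 1, 2], [0, 2], [0, 2], [0, 1, 2], [0], [0, 1, 2], [0, 2], [0, 2], [2], [0, 2], [0, 1, 2], [0, 2], [0, 1, 2], [2], [0, 2], [0, 1, 2], [0, 2], [0, 1, 2], [0, 2], [0, 2], [0, 1, 2], [0, 2], [0, 1, 2], [0, 2], [0, 2], [0, 2], [0, 1, 2], [0, 2], [0, 1, 2], [0, 2], [0, 2], [0, 1, 2], [0, 2], [0, 2], [0, 2], [0, 2], [0, 1, 2], [0, 2], [0, 1, 2], [0, 2], [0, 1, 2], [0, 2], [2], [0, 1, 2], [0], [0, 1, 2], [0, 2], [0, 2], [0, 1, 2], [0, 2], [0, 1, 2], [0, 2], [0, 1, 2], [2],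 [2], [0, 1, 2], [0, 2], [0, 1, 2], [0, 2], [0, 2], [0, 1, 2], [0, 2], [0, 1, 2], [0, 2], [0, 2], [0, 1, 2], [0, 2], [0, 2], [0, 2], [1, 2], [0, 2], [0, 2], [0, 1, 2], [0, 1, 2], [0, 2], [0, 2], [0, 1, 2], [0, 2], [0, 1, 2], [0, 2], [0, 2], [0, 1, 2], [0, 2], [0, 1, 2], [0, 2], [0, 2], [0, 1, 2], [0, 2], [0, 2], [0, 2], [0, 2], [0, 2], [0, 1, 2], [0, 2], [0, 1, 2], [0, 2], [0, 2], [0, 1, 2], [0, 2], [0, 1, 2], [0, 2], [0, 2], [0, 1, 2], [0, 2], [0, 1, 2], [0, 2], [0, 1, 2], [0, 2], [0, 2], [0, 1, 2], [0], [0, 1, 2], [0, 2], [0, 2], [0, 1, 2], [0, 2], [0, 1, 2], [0, 2], [0, 1, 2], [0, 2], [0, 1, 2], [0, 2], [0, 2], [0, 1, 2], [0, 2], [0, 1, 2], [0, 2], [0, 2], [0, 1, 2], [0, 2], [0, 1, 2], [0, 2], [0, 1, 2], [0, 2], [0, 2], [0, 1, 2], [], [0, 1, 2], [0, 2], [0, 1, 2], [0, 2], [0, 1, 2], [0, 2], [0, 1, 2], [2], [0, 2], [0, 1, 2], [0, 2], [0, 1, 2], [0, 2], [0, 2], [0, 1, 2], [0, 2], [0, 1, 2], [0, 2], [0, 2], [0, 1, 2],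 [0, 2], [0, 2], [0, 1, 2], [2], [0, 2], [0, 1, 2], [0, 1], [0, 2], [0, 2], [0, 1, 2], [0, 2], [0, 2], [0, 2], [0, 1, 2], [2], [2], [0, 1, 2], [0, 2], [0, 2], [0, 2], [0, 2], [0, 1, 2], [2], [0, 2], [0, 2], [0, 2], [2], [0, 2], [0, 1, 2], [0, 2], [2], [0, 1, 2], [0, 2], [0, 1, 2], [0, 2], [0, 2], [0, 1], [0, 2], [0, 2], [0, 2], [0, 1, 2], [0, 2], [2], [0, 2], [0], [0, 1, 2], [0, 2], [0, 2], [0, 1, 2], [0, 2], [0, 1, 2], [0, 2], [1, 2], [2], [2], [0, 1, 2], [0, 2], [0, 1, 2], [0, 2], [0, 1, 2], [0, 2], [0, 2], [0, 2], [0, 1, 2], [0], [1, 2], [0, 2], [0, 1, 2], [0, 2], [0, 2], [0, 1, 2], [0, 2], [0, 2], [0, 1, 2], [0, 2], [0, 1], [0, 2], [0, 2], [2], [0, 2], [1, 2], [0, 2], [0, 1], [0, 2], [0, 2], [0, 1, 2], [0, 2], [1, 2], [0, 2], [0, 1, 2], [0, 2], [0, 2], [0, 1, 2], [0, 2], [0, 1, 2], [0], [2], [1, 2], [0, 2], [0, 1, 2], [0, 2], [0, 1, 2], [0, 2], [0, 2], [0, 1, 2], [0], [0, 1, 2], [0, 2], [0, 1, 2], [0, 2], [0, 1,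 2], [0], [0, 1, 2], [0, 2], [1, 2], [2], [0, 2], [0, 1, 2], [0, 2], [0, 1, 2], [0, 2], [0, 2], [0, 1, 2], [0, 2], [0, 1, 2], [], [0, 1, 2], [0, 2], [0, 2], [0, 1, 2], [], [0, 1, 2], [0, 2], [0, 2], [0, 1, 2], [0, 2], [0, 1, 2], [0, 2], [0, 1, 2], [2], [0, 2], [0, 1, 2], [0, 2], [0, 1, 2], [0, 2], [0, 2], [0, 1, 2], [2], [0, 1, 2], [0, 2], [0, 2], [1, 2], [2], [0, 1, 2], [0, 2], [0, 1, 2], [0, 2], [2], [0, 1, 2], [0], [0, 2], [0, 2], [0, 1, 2], [0, 2], [1, 2], [0, 2], [1, 2], [2], [0, 2], [0, 1, 2], [0, 2], [0, 1, 2], [0, 2], [0, 2], [0, 1], [0, 2], [0, 1, 2], [0, 2], [2], [2], [0, 2], [0, 1, 2], [0, 2], [0, 2], [0, 1, 2], [0, 2], [0, 1, 2], [0, 2], [0, 1, 2], [0, 2], [0, 2], [1, 2], [], [0, 1, 2], [0, 2], [0, 2], [2], [0, 2], [0, 1, 2], [0, 2], [0, 1, 2], [2], [0, 2], [0, 1], [0, 2], [0, 1, 2], [0, 2], [0, 2], [0, 1, 2], [0, 2], [0, 1], [0, 2], [0, 2], [0, 2], [0, 2], [0, 1, 2], [0, 2], [0, 2], [0, 2], [0, 2], [0,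 1, 2], [2], [0, 2], [0, 2], [2], [0, 1, 2], [2], [0], [0, 1, 2], [0, 2], [0, 1, 2], [0, 2], [0], [0, 1, 2], [2], [2], [0, 2], [0, 2], [0, 2], [0, 1, 2], [0, 2], [0, 2], [0, 2], [0, 2], [0, 1, 2], [0, 2], [0, 1, 2], [0, 2], [0, 2], [0], [0, 2], [0, 1, 2], [2], [0, 1, 2], [0, 2], [0, 2], [2], [0], [0, 1, 2], [0, 2], [0, 2], [0, 2], [0, 2], [0], [2], [0, 1], [2], [0, 2], [0], [0], [0, 1], [0, 2], [0, 1], [0, 2], [], [0, 2], [1, 2], [0, 2], [0, 1, 2], [0, 2], [0, 2], [0, 1, 2], [0], [0], [0, 2], [1, 2], [0, 2], [0, 1, 2], [2], [0], [0, 1], [2], [0, 2], [0, 2], [0, 1], [0, 2], [0, 1, 2], [0], [0, 2], [0, 2], [0, 2], [0, 1], [0, 2], [0, 2], [0, 1, 2], [0, 2], [0, 1, 2], [0], [0, 1, 2], [2], [1, 2], [0], [0, 1], [2], [0, 2], [0], [0, 1, 2], [0, 2], [1, 2], [0, 2], [0, 1], [0, 2], [0, 2], [0, 1, 2], [0, 2], [0, 1], [0, 2], [2], [0, 1, 2], [0, 2], [2], [0, 1, 2], [0, 2], [0, 2], [0, 1, 2], [0], [], [0, 2], [0], [0, 1, 2], [0,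 2], [0, 1], [0], [0, 1, 2], [], [0, 1], [0, 2], [0, 2], [0], [0, 1, 2], [0, 2], [0, 1], [0, 2], [0], [0, 1, 2], [0, 2], [0], [0, 1], [0], [0, 1, 2], [0, 1, 2], [0], [], [0, 1, 2], [0, 2], [0, 1, 2], [0, 2], [1], [2], [0, 2], [0, 1, 2], [2], [0, 1], [2], [0], [0, 1, 2], [0, 2], [0, 2], [0], [], [2], [0, 1, 2], [0, 2], [0, 2], [0, 1, 2], [0, 2], [1, 2], [2], [0, 2], [2], [0, 2], [0, 1, 2], [2], [0, 2], [1, 2], [0], [0, 1, 2], [0, 2], [1, 2], [2], [0, 1, 2], [], [2], [0, 2], [0, 2], [], [0, 1, 2], [0], [0, 1, 2], [0, 2], [0], [1, 2], [2], [1, 2], [0, 2], [0, 1, 2], [0, 2], [0], [0, 1], [0, 2], [0, 2], [0, 2], [1, 2], [], [2], [1, 2], [0], [0, 1], [0], [0, 1, 2], [2], [0, 1, 2], [2], [0, 2], [0, 1, 2], [0, 2], [2], [0, 2], [2], [2], [0, 2], [0], [0, 1, 2], [0, 2], [0, 1, 2], [0, 2], [1], [0, 2], [], [0, 1, 2], [], [0, 2], [0, 2], [0, 1, 2], [0, 2], [0, 1, 2], [2], [2], [0, 1, 2], [0, 2], [0, 1, 2], [0, 2], [0, 2], [0,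 2], [0, 2], [0, 1, 2], [], [0], [0, 2], [0], [0, 1], [0, 2], [2], [2], [0, 1, 2], [0, 2], [0, 1], [0, 2], [0, 2], [0, 1, 2], [0], [0, 1, 2], [0, 2], [0, 2], [], [0, 2], [0, 1], [0], [0, 1, 2], [0, 2], [0, 2], [2], [0, 1], [2], [0, 2], [1, 2], [0, 2], [0, 2], [2], [2], [0, 1, 2], [0], [0, 2], [0, 2], [2], [0, 1, 2], [0, 2], [0, 2], [0, 2], [0, 1, 2], [0, 2], [0, 2], [0], [0], [0, 1, 2], [0, 2], [0, 1, 2], [0, 2], [2], [0], [0], [0, 1, 2], [0, 2], [0, 2], [1, 2], [0, 2], [0, 1, 2], [0, 2], [0, 2], [], [], [0, 1, 2], [0], [0], [2], [0, 2], [0, 1], [0, 2], [0, 2], [0, 1, 2], [0, 2], [0, 2], [0, 2], [0, 1, 2], [0, 2], [0, 2], [1, 2], [0, 2], [0, 2], [0, 1, 2], [0, 2], [], [0, 2], [1, 2], [2], [], [0, 1], [], [0, 1, 2], [0], [], [1], [0, 2], [0, 2], [2], [0, 2], [2], [0, 1, 2], [0, 2], [0, 1], [0, 2], [0, 2], [0, 2], [0, 2], [0, 1, 2], [0, 2], [0, 2], [0, 1, 2], [0, 2], [1], [0, 2], [0, 2], [2], [0, 2], [0], [0, 1, 2], [2],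 [0, 2], [1, 2], [0, 2], [0, 2], [0, 2], [2], [0], [0, 2], [0, 2], [], [0], [2], [0, 2], [0], [0, 2], [0, 2], [0], [0, 2], [2], [1], [0, 2], [], [0, 1, 2], [0], [0], [0, 2], [], [0, 1], [2], [0], [0, 2], [2], [2], [0, 2], [0, 1], [], [0, 2], [0, 2], [2], [0, 2], [0, 2], [0, 1], [0, 2], [0, 2], [1, 2], [2], [0, 1, 2], [0, 2], [0], [1, 2], [0, 2], [0, 1, 2], [2], [0, 1, 2], [0], [0, 1, 2], [0], [1, 2], [2], [0, 2], [0, 1, 2], [0, 2], [0, 2], [0], [0, 1], [0], [2], [0, 2], [], [0, 2], [2], [0], [0], [0, 1, 2], [2], [0, 2], [0, 2], [0, 2], [0, 1, 2], [0, 2], [2], [0, 1, 2], [2], [0, 1, 2], [], [0, 2], [1, 2], [0, 2], [0, 1, 2], [0], [0, 2], [0], [0, 1, 2], [2], [0, 2], [0, 1, 2], [0], [0, 1, 2], [0, 2], [0], [0, 2], [2], [0], [0, 2], [0, 2], [0, 1], [0, 2], [0], [0, 2], [2], [0, 2], [2], [0, 2], [0, 1], [0], [], [0, 2], [0, 1], [0, 2], [0, 2], [0, 2], [2], [], [0, 2], [2], [0, 2], [], [0, 1, 2], [0], [0, 1], [], [1], [0,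 2], [1], [0], [1, 2], [0, 2], [1, 2], [0, 2], [2], [0, 2], [0], [0, 1, 2], [0], [0, 1, 2], [0, 2], [0, 1, 2], [0, 2], [0, 1], [0], [0], [0], [], [2], [0, 2], [0, 2], [0, 2], [0], [0], [1, 2], [0, 2], [0, 2], [0], [0, 2], [0, 2], [0, 2], [0], [0, 1, 2], [2], [2], [0, 2], [0], [0, 1], [0], [0, 1, 2], [0, 2], [0, 2], [2], [0], [0, 2], [1, 2], [0, 2], [1], [0], [1, 2], [0, 2], [0, 1, 2], [2], [0, 2], [1, 2], [2], [2], [0], [1, 2], [0, 2], [2], [0, 2], [1, 2], [2], [0], [0, 1, 2], [0], [0], [0], [0], [0], [0, 2], [0, 1], [0, 2], [0, 1, 2], [0, 1], [0], [0, 1, 2], [0, 2], [2], [0, 2], [2], [], [], [0], [0, 2], [0, 1, 2], [0, 2], [2], [0, 2], [1, 2], [2], [0, 2], [0, 1, 2], [0, 2], [0, 1, 2], [0, 2], [2], [0, 2], [0, 1, 2], [2], [1, 2], [], [1, 2], [], [2], [0, 1, 2], [2], [0, 1], [1, 2], [1, 2], [0], [0, 1, 2], [0], [0, 1], [], [1, 2], [0], [0, 1], [0, 2], [0, 2], [], [0, 2], [0, 2], [1], [0, 2], [2], [0, 1], [2], [0, 1],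 [0], [0, 2], [0, 2], [], [1], [0], [1, 2], [0, 2], [2], [0, 2], [0, 1, 2], [0, 2], [0, 1, 2], [0], [2], [0], [2], [0, 2], [], [], [0, 1, 2], [], [2], [0, 2], [0, 1, 2], [], [0, 1, 2], [], [0], [2], [0], [0], [0], [0, 2], [2], [0, 2], [0, 2], [], [0, 1, 2], [], [1, 2], [0, 2], [0, 1], [0, 2], [0, 1, 2], [0, 2], [0, 2], [0, 1, 2], [0], [], [2], [0, 2], [0, 1], [1, 2], [], [0, 2], [0], [0, 2], [0, 2], [0, 1, 2], [2], [0], [0], [0, 2], [], [2], [1], [2], [0], [1, 2], [2], [], [0, 2], [0, 1, 2], [2], [0, 1, 2], [0], [0, 2], [0, 2], [1, 2], [0, 2], [0, 1], [2], [0, 2], [1, 2], [0], [1, 2], [], [0, 1], [2], [2], [1, 2], [2], [2], [1, 2], [0], [0], [0, 1, 2], [0, 2], [0, 2], [0, 1], [0, 2], [0, 2], [0, 2], [0], [0, 2], [0, 2], [0, 1], [0, 1, 2], [0], [0, 1, 2], [2], [2], [2], [0, 1, 2], [0], [0, 1], [], [0], [0, 1], [0, 2], [0], [0, 1, 2], [0], [1, 2], [], [1], [0, 2], [0], [2], [0, 2], [], [], [0], [0, 1, 2], [], [0, 2],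 [], [0, 1], [0], [], [0, 2], [], [0], [], [0], [], [0], [0, 1, 2], [2], [0], [0, 2], [2], [0], [1, 2], [0, 2], [], [2], [0], [2], [1, 2], [0, 2], [0, 2], [0, 1], [2], [0], [0], [0], [0], [0, 1], [0, 2], [0], [2], [1, 2], [], [], [1], [1, 2], [2], [], [0, 2], [0], [1, 2], [], [1, 2], [0], [2], [2], [2], [0, 1, 2], [2], [0, 1], [2], [2], [], [0, 2], [0, 1], [], [2], [2], [], [0], [0, 2], [0], [2], [0, 2], [0, 2], [], [], [2], [1, 2], [0, 2], [2], [0, 2], [2], [], [], [2], [0, 2], [], [0], [0], [0, 2], [0, 1, 2], [2], [0], [], [0, 1], [], [0, 1, 2], [], [0], [], [0, 2], [0], [0], [0, 2], [0], [0, 1, 2], [], [], [2], [0, 2], [2], [], [2], [2], [0, 2], [2], [2], [0, 2], [], [], [0, 1, 2], [1, 2], [], [0, 1, 2], [], [], [], [1, 2], [2], [0], [0, 2], [2], [0, 2], [2], [0, 1, 2], [1], [0], [1, 2], [], [0, 2], [], [0], [1, 2], [2], [], [2], [0, 2], [2], [0, 2], [], [], [2], [0, 2], [0, 2], [1, 2], [2], [], [], [0, 1, 2], [0,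 2], [2], [0, 1, 2], [2], [], [0, 1, 2], [2], [], [0], [2], [0, 1], [0], [], [2], [0], [0, 1], [0, 2], [2], [1, 2], [0, 2], [0, 1], [], [1, 2], [2], [0], [0, 1, 2], [0], [0, 1], [], [0, 2], [0], [2], [0, 2], [2], [], [0, 2], [2], [0, 1], [0, 2], [0], [1], [0, 2], [0, 1], [0, 2], [2], [], [0, 1], [0, 2], [0, 1, 2], [2], [2], [1, 2], [0, 1], [0], [0, 1], [0, 1, 2], [], [0, 1, 2], [2], [0], [0], [0, 1, 2], [0, 2], [0], [0, 2], [], [1], [], [0, 1, 2], [2], [0], [], [2], [0, 2], [0, 2], [0, 2], [0, 1, 2], [0, 2], [0, 2], [0, 1, 2], [0], [0, 1, 2], [2], [], [0], [1, 2], [0], [0, 1], [], [], [0, 2], [0], [], [0, 1], [], [2], [0, 2], [], [2], [0, 1], [2], [0, 2], [2], [0, 1], [2], [2], [0, 2], [0], [0], [], [0, 2], [2], [0, 1], [0], [0, 2], [], [], [0], [0, 1, 2], [], [], [0, 1], [0, 2], [2], [0, 2], [1, 2], [], [0, 1, 2], [0, 2], [], [], [], [2], [], [1, 2], [], [1, 2], [], [2], [], [], [0, 1], [0, 2], [0], [2], [2], [2],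 [], [2], [0, 2], [0, 2], [0, 2], [0, 1, 2], [], [1, 2], [2], [2], [0, 2], [1, 2], [0, 2], [0, 1, 2], [2], [2], [0, 2], [0, 2], [0, 1], [2], [], [2], [], [1], [0, 1, 2], [0, 2], [0, 1, 2], [0, 2], [1, 2], [], [], [0, 2], [0, 1], [], [1, 2], [2], [2], [0, 2], [2], [1], [2], [0], [0, 2], [1], [2], [2], [1], [2], [], [0], [0], [0], [2], [0, 2], [], [], [1], [2], [], [1], [2], [2], [2], [2], [0, 2], [0], [], [0], [1, 2], [0], [], [1], [], [0, 1], [0], [1, 2], [], [2], [], [2], [], [1], [2], [2], [0], [0], [0], [0], [0], [2], [2], [0, 2], [0, 1], [], [0, 2], [], [2], [], [0], [0, 1], [], [0, 2], [], [0, 1], [], [0, 2], [1], [0, 2], [0], [], [0, 2], [0], [2], [], [0, 1], [0], [0, 1, 2], [2], [0, 2], [0, 2], [], [1], [2], [], [0], [1, 2], [2], [0, 1, 2], [], [], [2], [0], [0], [1, 2], [2], [0, 1], [0, 2], [], [], [0, 1], [], [2], [0, 1], [0, 2], [0, 1], [], [0], [0], [], [], [], [0, 2], [0], [0, 2], [2], [0], [], [0], [0],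 [], [2], [0], [0], [], [2], [0], [], [0, 2], [], [0], [0, 1], [0], [0, 1, 2], [0, 2], [], [], [2], [2], [0, 2], [1], [0, 2], [0, 1, 2], [], [0, 2], [0, 2], [0, 1], [0], [0, 2], [2], [0], [0, 1], [], [2], [2], [0], [], [2], [0, 2], [2], [2], [], [2], [0, 2], [0, 2], [1, 2], [0, 2], [], [], [], [0, 2], [2], [0], [], [0, 2], [], [], [0], [], [], [], [1], [2], [2], [], [2], [0], [], [1, 2], [], [0], [], [0], [0, 2], [], [1], [0], [1], [], [], [2], [1], [2], [0, 2], [2], [1, 2], [], [2], [2], [2], [], [0, 2], [0], [], [], [0, 2], [], [], [0], [0, 2], [0], [], [], [], [0, 1, 2], [0], [2], [0, 2], [0, 2], [], [1], [0], [2], [0], [0, 2], [0, 2], [2], [0], [0, 2], [2], [2], [2], [0], [0, 1], [0, 2], [0, 2], [1], [0], [], [0, 2], [2], [0, 2], [0, 1, 2], [2], [0, 2], [1], [2], [], [], [0], [], [0], [], [], [0], [0, 2], [0], [], [], [0], [1], [], [0], [], [], [0, 1, 2], [], [2], [2], [], [], [], [0, 2], [0], [0, 1, 2], [], [0],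 [1], [], [2], [0, 2], [0], [2], [0, 2], [], [], [2], [], [0], [1], [], [0], [1], [2], [0, 2], [2], [2], [], [], [0, 2], [], [2], [0, 1, 2], [0, 2], [], [0, 2], [], [], [0], [], [2], [0, 2], [2], [2], [1, 2], [0], [2], [0], [], [], [2], [], [0], [0, 2], [1, 2], [0, 2], [1], [0, 2], [], [], [2], [], [1, 2], [0], [1, 2], [], [1], [2], [], [2], [0], [0, 1], [0], [1, 2], [], [0], [], [], [], [1], [], [], [0], [], [2], [0, 1, 2], [2], [], [2], [0, 2], [0, 2], [], [], [0, 1], [], [0, 2], [], [2], [1], [0], [0], [0], [2], [], [], [0, 2], [1, 2], [2], [2], [0], [2], [], [], [2], [], [], [0, 1, 2], [], [0], [0, 1, 2], [0], [0], [1], [0, 2], [0, 2], [], [], [], [1], [], [2], [], [], [1], [], [0, 1], [0, 1], [2], [], [0], [], [], [0, 1, 2], [2], [], [1], [0], [1, 2], [], [2], [2], [1, 2], [], [2], [1], [0], [0, 2], [1], [0, 2], [2], [2], [2], [0], [0, 1, 2], [0], [0], [0], [0, 2], [], [], [0, 2], [], [], [], [2], [], [1], [],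 [0], [0], [0], [2], [], [], [], [2], [], [0, 2], [2], [], [0], [], [0, 2], [0], [], [], [2], [2], [0], [0], [0], [0, 2], [0], [0, 2], [2], [1, 2], [1, 2], [2], [0], [2], [0], [], [], [2], [0, 1], [1], [], [], [0], [], [], [1], [], [0], [], [], [], [0, 2], [0], [1], [], [], [], [], [0, 1, 2], [0, 2], [2], [0], [0], [], [2], [0], [2], [0, 1], [], [0, 2], [0, 2], [0], [], [2], [], [0, 2], [0], [0, 2], [0, 2], [], [0, 1, 2], [0], [], [], [], [0, 2], [0], [2], [], [], [0, 1], [0], [0], [0], [2], [0, 2], [0, 2], [0], [0, 2], [], [], [0], [0], [], [], [0, 2], [], [], [], [2], [2], [0], [], [], [2], [0, 1, 2], [2], [], [], [0, 1], [], [2], [0], [0], [0], [0, 2], [0, 1, 2], [], [], [0, 2], [], [1], [0], [0], [], [1], [], [2], [], [0], [2], [0], [0, 2], [], [2], [], [0], [0, 2], [0, 2], [], [0, 2], [0, 2], [1], [0, 2], [], [0], [], [2], [2], [0, 2], [2], [0], [0, 2], [1], [], [2], [2], [1], [], [], [0, 1], [], [], [], [0], [0,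 2], [], [2], [0], [], [], [2], [], [0, 2], [], [], [1], [2], [], [1], [], [2], [], [], [], [0], [], [2], [0], [], [0, 2], [1], [2], [], [2], [], [2], [], [], [], [0, 1], [], [], [], [1], [], [1, 2], [0, 2], [], [0, 2], [], [0], [], [1], [2], [], [1, 2], [1], [], [2], [0], [], [], [], [], [2], [1], [1], [0], [], [0, 2], [0], [0], [], [0], [2], [], [], [2], [2], [], [], [1], [], [0], [0], [0, 2], [], [], [0, 2], [0, 2], [], [1, 2], [0, 2], [2], [], [], [1], [], [1], [0, 1, 2], [2], [0, 2], [], [], [], [0, 1], [1], [0, 2], [], [], [], [2], [0], [2], [], [], [0], [0, 2], [0, 2], [1, 2], [0], [], [2], [1], [], [0], [], [], [], [0], [0], [], [0, 1], [0], [0, 2], [0], [0, 2], [2], [], [0, 2], [], [], [0], [0], [], [2], [], [], [], [2], [], [2], [], [], [], [2], [], [2], [0], [], [], [], [2], [], [0], [0, 2], [2], [1, 2], [2], [], [2], [], [2], [], [0], [0], [0], [], [2], [1], [], [2], [], [], [], [0], [], [2], [], [0], [0,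 1], [], [], [2], [2], [], [], [], [], [2], [], [2], [2], [1], [], [], [], [], [], [0, 2], [], [2], [], [2], [], [], [0], [], [0], [0, 2], [0], [], [0, 2], [], [2], [], [2], [0], [2], [], [1], [], [], [2], [], [], [1], [], [2], [0], [0, 2], [0], [], [1], [2], [], [0], [1], [], [2], [], [], [], [], [2], [], [0], [1, 2], [0], [0], [2], [0], [0, 2], [2], [], [1], [0, 2], [0], [], [], [2], [2], [0], [0, 2], [], [0], [], [], [], [0], [], [], [2], [0], [0], [2], [0], [0], [1], [], [2], [0, 1, 2], [], [], [], [], [], [2], [], [], [0], [], [], [2], [], [], [], [2], [], [0], [2], [], [], [], [2], [], [1], [], [], [0, 1], [], [2], [], [0], [], [], [], [], [], [], [], [], [], [0, 2], [], [], [], [], [], [0], [], [], [2], [], [], [0], [], [], [1, 2], [], [], [], [], [], [1], [2], [0], [], [0, 1, 2], [], [], [2], [0], [1], [0], [0], [], [2], [], [], [], [2], [], [], [], [], [], [1], [], [], [2], [], [2], [], [0], [0], [2], [], [0],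 [2], [], [], [2], [], [], [], [], [], [0], [], [], [0], [], [], [2], [0, 1], [], [0], [2], [], [], [2], [], [], [1], [2], [2], [1], [], [], [0], [0], [2], [0], [], [2], [2], [0], [1], [], [], [], [], [1], [], [0], [], [1, 2], [], [], [], [], [2], [], [], [0], [2], [0], [2], [0], [], [2], [2], [2], [0], [], [0], [], [], [1], [], [], [], [2], [], [], [], [], [1], [], [], [0], [], [], [], [], [0], [], [2], [1, 2], [], [], [], [], [], [], [], [0], [2], [], [], [], [], [], [0], [], [], [0], [], [], [], [], [], [2], [1], [], [], [0], [0], [2], [0], [], [], [], [], [0, 2], [], [], [0, 2], [0, 2], [], [], [], [], [1, 2], [1, 2], [], [], [0, 2], [], [], [0], [], [1], [0, 1, 2], [], [2], [], [], [], [], [2], [], [0], [2], [0], [0], [], [0], [2], [], [1], [], [0, 2], [], [], [], [0, 2], [2], [], [], [], [], [], [], [], [], [2], [], [], [], [0], [], [], [0], [], [0], [], [], [], [2], [], [0], [], [], [0], [], [], [2], [], [0,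 2], [], [2], [], [1], [0], [0, 1], [0], [0], [], [], [], [], [2], [], [], [], [], [], [], [0, 2], [], [2], [0], [], [], [], [], [], [], [0], [], [], [], [], [], [2], [], [], [], [], [0], [], [], [0], [1], [], [], [2], [], [0], [], [], [0], [0], [], [0], [], [], [0], [], [2], [2], [0], [], [], [], [], [0, 1], [], [], [], [2], [], [], [], [], [], [2], [], [0], [2], [2], [], [1], [], [], [], [2], [2], [], [2], [], [], [2], [], [], [0], [], [], [2], [2], [1], [0], [2], [], [2], [], [], [], [], [], [], [], [0], [0], [2], [0], [], [2], [], [], [0], [0], [], [], [], [0], [], [], [0], [], [], [], [], [], [0], [2], [], [0], [], [], [2], [], [], [], [], [], [], [], [], [], [], [], [2], [], [], [2], [], [], [], [2], [], [0], [], [2], [], [], [], [0, 1], [], [2], [0], [], [], [], [0], [0], [], [2], [], [2], [], [], [1], [2], [], [2], [], [], [], [0, 2], [], [], [2], [], [], [], [2], [], [1], [2], [], [0], [0], [0, 1], [2], [2],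 [], [], [], [], [], [], [], [], [], [0, 2], [], [], [], [], [], [], [0], [], [], [], [], [], [], [], [], [2], [], [], [2], [], [2], [], [], [], [], [], [2], [], [0], [], [], [], [], [], [2], [], [], [], [0], [], [], [1], [], [2], [2], [], [], [], [], [], [], [], [], [2], [], [], [], [], [], [0], [2], [], [], [], [], [], [], [], [2], [], [], [0], [], [], [1], [], [1], [], [], [0], [], [], [], [], [], [1], [], [], [0], [], [0], [0], [], [], [], [], [], [], [], [], [0], [], [], [], [], [], [], [], [], [], [], [], [], [], [2], [], [0, 2], [], [], [], [2], [2], [], [], [], [], [], [], [], [2], [], [], [], [], [], [], [0], [], [0, 2], [], [], [], [], [1], [], [], [], [], [], [1], [0], [], [], [], [0], [], [], [1], [], [], [], [], [2], [], [], [], [], [], [], [], [2], [], [], [], [], [], [], [2], [], [2], [], [], [], [], [1], [], [], [2], [], [], [], [], [0], [], [], [], [], [], [], [], [2], [], [0, 2], [], [], [], [], [],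 [], [], [], [], [], [], [], [], [], [], [], [], [2], [], [], [], [2], [], [], [], [], [], [], [], [], [], [0], [0], [], [], [0], [], [], [], [2], [], [], [], [1], [], [], [], [], [], [], [], [0, 2], [], [], [], [], [], [2], [], [], [], [0], [], [], [2], [2], [], [], [], [1], [], [], [0, 1], [], [], [], [], [], [], [], [], [], [], [0], [], [], [], [], [], [], [], [], [], [], [], [], [], [], [0], [], [], [], [], [], [], [], [], [], [], [], [], [1, 2], [0, 2], [], [], [], [], [], [], [], [], [], [], [], [], [], [2], [0], [], [2], [2], [], [], [], [], [0, 2], [], [], [], [], [], [], [], [], [0], [], [], [], [], [], [2], [], [], [], [], [], [], [2], [], [], [], [], [], [], [], [], [], [], [], [], [], [], [], [], [], [], [], [], [], [], [], [], [], [], [], [], [2], [2], [], [], [], [], [], [], [], [0, 1], [2], [], [], [], [], [], [], [], [], [], [], [], [], [], [2], [], [], [], [], [], [], [], [], [], [0], [], [], [], [],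 [], [], [], [], [0], [], [], [], [], [], [], [], [], [], [], [], [], [], [], [], [], [], [], [], [], [], [], [], [], [], [], [], [], [], [], [], [], [], [], [], [2], [], [], [], [], [], [], [], [], [0], [], [], [], [], [], [], [], [], [], [], [], [], [], [], [], [], [], [], [], [], [], [], [], [0], [], [], [], [], [], [], [], [], [], [], [], [], [], [], [], [], [], [2], [0], [], [], [], [], [], [], [], [], [], [], [], [], [], [], [], [], [0], [], [], [], [], [], [], [], [], [], [], [], [], [0], [], [], [], [], [], [], [], [], [], [], [], [], [], [], [], [], [], [], [], [], [], [], [], [], [], [], [], [], [], [], [], [], [], [], [], [], [], [], [], [], [], [], [], [], [], [], [], [], [], [], [], [], [], [], [], [2], [], [], [], [], [], [], [], [], [], [], [], [], [], [], [], [], [], [], [], [], [], [], [], [], [], [], [], [], [], [], [], [], [], [], [], [], [], [], [], [], [], [], [], [], [], [], [], [], [], [], [],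 [], [], [], [], [], [], [], [], [], [], [], [], [0], [], [], [], [], [], [], [], [], [], [], [], [], [], [], [1], [], [], [], [], [], [], [], [], [], [], [], [], [], [], [], [], [], [], [], [], [], [], [], [], [], [], [], [], [], [], [], [], [], [], [], [], [], [], [], [], [], [], [], [], [], [], [], [], [], [], [], [], [], [], [], [], [], [], [], [], [], [], [], [], [], [], [], [], [], [], [], [], [], [], [], [], [], [], [], [], [], [], [], [], [], [], [], [0]]]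

def alltrio_sizes : Fin 1 → ℕ := ![3795]

abbrev alltrio_model := (famModel 1222356008 2147483647 2097152)

set_option maxRecDepth 1000000 in
set_option maxHeartbeats 4000000 in
theorem alltrio_check : distinctAux (((List.ofFn fun i => alltrio_model.nodes all_tabs (alltrio_roots i)
    (alltrio_certs i)).flatten).map alltrio_model.code) 0 = true := by
  decide +kernel

set_option maxRecDepth 1000000 in
set_option maxHeartbeats 4000000 in
theorem alltrio_len : ∀ i, (alltrio_model.nodes all_tabs (alltrio_roots i) (alltrio_certs i)).length =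
    alltrio_sizes i := by
  decide +kernel

set_option maxRecDepth 1000000 in
set_option maxHeartbeats 4000000 in
theorem alltrio_rootcheck : ∀ i, IsTrioList (alltrio_roots i) := by
  decide +kernel
def allsext_roots : Fin 1 → List (List ℕ) := ![
  [[0, 1, 2, 3], [4, 7, 10, 12], [8, 15, 16, 19], [13, 18, 20, 21], [6, 9, 11, 22], [5, 14, 17, 23]]]

def allsext_certs : Fin 1 → List (List ℕ) := ![
  [[0, 1, 2], [0, 1, 2], [0, 2], [0, 2], [0, 1, 2], [0, 2], [0, 2], [0, 1, 2], [0, 2], [0, 1, 2], [0, 2], [0, 1, 2], [0, 2], [0, 2], [0, 1, 2], [2], [0, 1, 2], [0, 2], [0, 1, 2], [0, 2], [0, 2], [0, 1, 2], [0, 2], [0, 1, 2], [0, 2], [0, 2], [0, 1, 2], [0, 2], [1, 2], [0, 2], [0, 2], [0, 1, 2], [0, 2], [0, 1, 2], [0, 2], [0, 1, 2], [2], [0, 2], [0, 2], [0, 1, 2], [0, 2], [2], [0, 1, 2], [0, 2], [0, 1, 2], [0, 2], [0, 2], [0, 1, 2], [0, 2], [0, 1, 2], [0, 2], [0, 1, 2], [0, 2], [0, 2], [0, 1, 2], [0, 2], [0, 1, 2], [0, 2], [0,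 2], [0, 1, 2], [0, 2], [0, 1, 2], [0, 2], [0, 1, 2], [0, 2], [0, 2], [0, 1, 2], [0], [0, 2], [0, 2], [0, 1, 2], [0, 2], [0, 1, 2], [0, 2], [0, 1, 2], [2], [0, 2], [0, 1, 2], [0, 2], [0, 1, 2], [0, 2], [0, 2], [0, 1, 2], [0, 2], [0, 1, 2], [2], [0, 2], [0, 2], [0, 2], [0, 2], [0, 1, 2], [0, 2], [0, 1, 2], [0, 2], [0, 2], [0, 1, 2], [0, 2], [0, 2], [0, 1, 2], [0, 2], [0, 2], [1], [0], [0, 1, 2], [0, 2], [0, 2], [1, 2], [0, 2], [1, 2], [0, 2], [0, 1, 2], [2], [0, 2], [0, 1, 2], [0, 2], [1], [0, 2], [0], [0, 1, 2], [0, 2], [1, 2], [0, 2], [0, 2], [0, 1, 2], [0, 2], [0, 1, 2], [0, 2], [0, 1, 2], [0, 2], [0, 2], [0, 1, 2], [], [0, 1, 2], [0, 2], [0, 2], [0, 1, 2], [0, 2], [1, 2], [0, 2], [1, 2], [2], [0, 2], [0, 1, 2], [0, 2], [0, 1, 2], [0, 2], [0, 2], [0, 1, 2], [0, 2], [0, 1, 2], [0, 2], [0, 2], [0, 1, 2], [0, 2], [2], [0, 2], [0, 1, 2], [0, 2], [0, 2], [0, 1, 2], [0, 2], [0, 2], [0, 1, 2], [0, 2], [0, 1, 2], [2], [0,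 2], [0, 1], [0, 2], [0, 1, 2], [0, 2], [0, 2], [0, 1, 2], [0], [0, 1, 2], [0, 2], [0, 2], [2], [1, 2], [0, 2], [0, 1, 2], [0, 2], [0, 2], [0, 1], [0, 2], [1, 2], [2], [0, 2], [0, 1, 2], [2], [0, 2], [0, 2], [0, 1], [0, 2], [0, 2], [0, 1, 2], [0], [0, 1, 2], [0, 2], [0, 2], [0, 2], [0, 1], [0, 2], [0], [0, 2], [0, 2], [0, 2], [0, 1], [0], [0, 1, 2], [0, 2], [2], [1, 2], [0], [0, 1, 2], [0, 2], [0, 2], [0, 1, 2], [2], [0, 1, 2], [0, 2], [0, 1, 2], [2], [0, 2], [0, 1], [0, 2], [0, 1, 2], [0, 2], [0, 1, 2], [0, 2], [0, 2], [1, 2], [0, 2], [1, 2], [0, 2], [0], [0, 1, 2], [0, 1], [0, 2], [0], [0, 1, 2], [0, 2], [0, 1, 2], [0, 2], [2], [0, 2], [0, 1, 2], [2], [0], [], [0, 1, 2], [0, 2], [0, 1, 2], [0, 2], [0, 2], [0, 2], [0, 1], [0, 2], [0, 1, 2], [0, 2], [0, 2], [0, 1, 2], [0, 2], [0], [0, 2], [0], [0, 2], [0, 1, 2], [0, 2], [2], [0, 1, 2], [0], [2], [2], [0, 1], [0, 2], [0, 1], [0, 2], [0, 1, 2], [2], [0, 2], [0, 1, 2],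 [0, 2], [2], [0, 2], [0, 2], [0, 1, 2], [2], [0, 1, 2], [2], [0, 2], [0, 1, 2], [0, 2], [0, 1, 2], [0, 2], [0, 1, 2], [2], [0, 2], [0, 1, 2], [2], [0, 2], [0, 1, 2], [0, 2], [1, 2], [0, 2], [0, 2], [], [0, 2], [0, 1, 2], [], [2], [0, 2], [0, 1, 2], [], [0, 2], [0, 2], [0, 2], [0, 1], [0, 2], [0, 1, 2], [], [2], [1, 2], [0, 2], [1], [0], [0], [0, 1, 2], [0, 2], [1], [2], [0, 1, 2], [2], [], [], [0], [0, 1], [2], [0, 2], [0, 1, 2], [0, 2], [0, 1, 2], [], [0, 1, 2], [2], [0, 2], [0, 1], [0, 2], [0, 2], [0, 1, 2], [0, 2], [2], [0, 2], [0, 2], [0, 1, 2], [0, 2], [0], [2], [0, 1], [0], [0, 2], [0, 1, 2], [0], [0], [0, 2], [0, 1, 2], [0], [0, 2], [0, 1], [0, 2], [0, 2], [0], [0, 2], [0], [0, 1, 2], [2], [0, 2], [0], [0, 1, 2], [0], [0, 1, 2], [0, 2], [0], [1], [2], [0, 2], [0, 2], [0, 1], [0, 2], [0, 2], [0, 1, 2], [0, 1, 2], [2], [0, 2], [0, 2], [2], [0, 1], [0], [0, 2], [0, 2], [2], [0, 1], [], [0, 1, 2], [0, 2], [0, 2],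 [0, 1, 2], [2], [0, 2], [2], [2], [0], [0], [0], [0, 2], [0, 2], [0, 2], [2], [0, 2], [0], [2], [0, 2], [2], [0, 1, 2], [2], [0, 2], [0, 2], [0, 1, 2], [], [0, 2], [0, 2], [0, 1, 2], [0, 2], [0, 1], [0, 2], [2], [0, 1], [1], [], [2], [2], [0, 2], [0, 1, 2], [0, 2], [1], [0], [0, 1], [0], [0, 1, 2], [0], [0, 1], [], [], [], [2], [0, 2], [0], [1], [], [0, 1], [0, 1], [0, 2], [0], [0, 2], [2], [0, 2], [0, 2], [0], [1, 2], [2], [0, 2], [], [0, 1, 2], [0, 2], [0, 2], [0], [1, 2], [2], [2], [], [1, 2], [2], [0, 2], [0, 1, 2], [], [], [2], [], [0], [0], [2], [2], [0], [0, 1, 2], [0, 2], [0, 1, 2], [2], [0, 2], [0, 1], [], [2], [0, 2], [], [1, 2], [0, 2], [0, 2], [0, 2], [2], [0, 2], [0, 1], [0, 2], [2], [0, 2], [0, 2], [2], [0, 1, 2], [0], [2], [], [1, 2], [0], [0, 2], [0], [0, 2], [1, 2], [], [0, 2], [1, 2], [0, 2], [0], [2], [], [2], [0, 2], [0], [0, 1], [], [0], [0, 2], [0], [0, 2], [2], [0, 2], [0, 2], [0, 2], [0, 1],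 [0], [0, 1], [0, 2], [], [], [0, 2], [2], [0, 2], [1, 2], [2], [1, 2], [], [0, 1, 2], [], [2], [0], [0, 2], [0], [], [1, 2], [0], [1, 2], [0, 2], [0, 2], [1, 2], [], [1, 2], [0, 1], [0, 2], [0, 1], [0, 1], [], [0], [0, 2], [2], [0], [0], [2], [1], [0, 2], [], [], [2], [0, 2], [0, 1, 2], [], [1, 2], [], [0, 1, 2], [0], [0, 1], [2], [0, 1, 2], [0, 2], [], [0, 2], [2], [0, 2], [1, 2], [2], [0], [0, 1, 2], [], [2], [0], [2], [0, 1, 2], [0, 2], [2], [2], [0, 2], [], [2], [0], [0, 2], [2], [1, 2], [0, 2], [0, 1], [2], [2], [0, 2], [0, 2], [0, 1, 2], [0, 2], [0, 2], [0], [], [], [2], [2], [2], [0, 2], [], [0], [], [0], [0, 2], [0], [0, 2], [1, 2], [2], [2], [0, 2], [], [0, 2], [2], [0, 1], [0, 2], [0, 1, 2], [2], [0, 1], [0], [0], [0, 2], [0], [], [2], [0, 2], [1, 2], [0], [0, 2], [], [0, 2], [0, 2], [], [0], [0], [2], [0], [], [0], [0, 1], [0, 2], [0, 2], [0], [0, 2], [], [], [0], [], [2], [1], [0, 2], [], [0], [], [2],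 [0], [0], [0, 1], [2], [2], [0], [1], [0, 2], [0], [0, 2], [2], [0], [0], [2], [], [1], [], [0, 1], [2], [], [], [0, 2], [0], [0, 2], [], [2], [], [], [0], [0], [0, 1], [0, 2], [0, 1, 2], [0], [2], [1], [0], [0], [1], [], [0, 2], [0, 2], [2], [2], [], [0, 2], [0, 2], [1], [2], [], [0], [], [0, 1], [], [1], [2], [2], [1, 2], [1, 2], [2], [2], [0, 1], [], [], [0, 1, 2], [0, 2], [], [1, 2], [], [], [], [1], [2], [0, 1, 2], [2], [0, 2], [], [0, 2], [0], [2], [], [0, 2], [0], [0, 2], [0, 1, 2], [0, 2], [], [1], [0], [0, 2], [0], [], [], [], [], [2], [0, 1], [], [0, 1], [0, 2], [1], [0], [], [2], [], [0], [0, 1, 2], [], [0], [0], [2], [0], [2], [0, 1, 2], [2], [0], [2], [], [2], [], [0, 1, 2], [1], [], [2], [2], [0, 2], [0, 1], [], [2], [2], [2], [1], [2], [1, 2], [0, 2], [1], [2], [], [0, 2], [0, 1], [0, 2], [0, 2], [0, 2], [0, 1], [], [1, 2], [1], [2], [0, 1], [0], [2], [0], [2], [], [2], [2], [0, 2], [0, 1, 2], [0, 2],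 [0, 2], [1, 2], [2], [0, 2], [0], [0, 2], [], [1], [], [], [0, 2], [], [1], [], [0], [2], [1], [], [2], [0, 1], [0], [0, 2], [], [], [0, 2], [0, 2], [2], [0], [], [2], [], [0], [], [], [], [2], [2], [], [], [], [0, 1, 2], [0], [0], [0], [0, 2], [2], [0, 1], [1, 2], [], [], [], [], [0], [], [], [0], [0, 2], [0], [1], [0], [1], [], [2], [], [0, 2], [0, 2], [1, 2], [0], [2], [0, 2], [], [2], [0, 1, 2], [], [1], [], [], [0, 1], [0], [0, 2], [], [1], [2], [0], [0], [], [0, 2], [0], [2], [], [0, 2], [], [], [], [0], [2], [], [], [2], [2], [1, 2], [0], [0], [0], [0], [], [0], [], [], [2], [2], [1, 2], [0], [], [0, 2], [0], [2], [], [0, 1, 2], [2], [], [], [2], [], [2], [0, 2], [], [], [], [], [0], [2], [], [0], [0], [0], [], [], [], [2], [0], [], [0], [], [1], [1], [], [], [2], [], [], [2], [], [2], [], [], [], [2], [2], [0], [], [0], [0], [0], [0, 2], [], [], [2], [0], [0, 2], [0], [0], [], [1], [], [], [0, 2], [2], [],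 [1], [], [2], [0, 2], [], [0], [], [1], [], [0], [2], [], [], [], [], [0], [0, 2], [2], [], [], [0], [0], [0, 1], [], [], [0], [], [1], [0, 2], [], [2], [], [0], [], [], [], [], [], [1], [], [], [], [], [0], [], [0], [0], [0, 2], [2], [0, 2], [0, 2], [1], [], [], [1, 2], [], [0], [0], [0], [0, 2], [2], [2], [2], [2], [0, 2], [0], [], [], [0], [], [], [], [2], [2], [2], [0], [0], [2], [], [], [0], [2], [], [0], [1, 2], [], [], [], [], [2], [2], [1], [0, 2], [2], [1], [0], [2], [], [], [0], [], [2], [2], [], [2], [2], [], [], [0], [0, 1], [], [0], [], [0, 2], [], [], [], [0], [], [], [1], [0, 2], [2], [], [1, 2], [], [], [0], [2], [], [], [], [1], [2], [1], [1], [2], [2], [0], [2], [2], [0, 1], [], [0], [], [0], [], [], [], [], [0], [], [], [0], [], [], [], [], [0], [], [1], [0, 2], [1], [], [], [], [0, 1], [], [2], [], [], [0, 1], [], [1], [], [], [2], [2], [1], [0], [0, 2], [], [2], [], [], [1, 2], [], [], [], [],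 [2], [], [0, 1], [], [0], [], [], [], [2], [0], [], [0], [], [], [], [], [], [2], [], [], [], [], [], [], [], [0], [], [2], [1], [2], [], [], [], [0], [0], [], [2], [], [], [], [], [], [], [], [0], [], [], [0], [], [0], [], [0], [0], [], [1], [], [], [], [0], [1], [], [0], [], [0], [], [0], [], [], [], [], [0], [], [0, 1], [], [], [1], [], [], [], [], [], [], [2], [2], [], [], [], [], [], [], [], [], [], [], [], [2], [], [], [], [2], [0], [], [1], [], [], [], [], [], [], [1], [], [2], [], [], [1], [], [], [], [], [], [], [], [0], [], [0], [], [], [2], [], [2], [0], [2], [1], [2], [0, 2], [0], [], [], [], [], [], [], [2], [], [], [], [], [], [], [], [], [], [], [1], [], [], [], [2], [0], [0], [], [], [], [], [], [0], [], [], [0], [], [0], [], [], [], [0], [0], [], [], [], [0], [], [], [0], [], [], [], [], [], [], [], [], [0], [], [], [], [], [], [], [], [], [], [], [], [], [], [], [], [0], [], [], [], [], [], [], [],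 [], [], [], [], [], [], [], [], [], [], [], [], [], [2], [0, 2], [], [], [], [], [], [], [], [], [], [], [], [0, 1], [], [2], [], [], [], [], [], [], [0], [], [2], [], [2], [], [], [], [2], [], [], [], [], [], [], [], [], [0], [], [], [2], [], [], [], [2], [], [1, 2], [], [], [], [], [], [], [], [], [], [], [], [], [], [2], [], [], [], [], [], [], [], [], [0], [1], [], [], [2], [], [], [], [], [], [], [], [], [], [], [], [], [], [], [], [2], [], [], [], [], [], [], [], [], [], [], [], [], [], [], [1], [2], [2], [2], [], [], [], [0], [], [], [], [], [], [], [], [], [], [], [], [], [2], [], [], [], [], [], [0], [], [2], [0], [], [], [], [], [], [], [], [], [], [], [], [], [], [], [], [], [], [], [], [], [], [], [], [], [], [], [], [], [], [], [], [], [0], [], [], [], [], [], [], [0], [], [], [], [0], [], [], [], [], [], [], [], [], [], [], [], [], [], [], [], [], [], [], [], [], [], [], [], [], [], [], [], [], [], [],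 [], [], [], [], [], [], [], [], [], [], [], [], [], [], [], [], [], [], [], [], [], [], [], [], [], [], [], [], [], [], [], [], [], [], [], [], [], [], [], [], [], [], [], [], [], [], [], [], [], [], [], [], [], [], [], [], [], [], [], [], [2]]]

def allsext_sizes : Fin 1 → ℕ := ![1771]

abbrev allsext_model := (famModel 1722851099 2147483647 2097152)

set_option maxRecDepth 1000000 in
set_option maxHeartbeats 4000000 in
theorem allsext_check : distinctAux (((List.ofFn fun i => allsext_model.nodes all_tabs (allsext_roots i)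
    (allsext_certs i)).flatten).map allsext_model.code) 0 = true := by
  decide +kernel

set_option maxRecDepth 1000000 in
set_option maxHeartbeats 4000000 in
theorem allsext_len : ∀ i, (allsext_model.nodes all_tabs (allsext_roots i) (allsext_certs i)).length =
    allsext_sizes i := by
  decide +kernel

set_option maxRecDepth 1000000 in
set_option maxHeartbeats 4000000 in
theorem allsext_rootcheck : ∀ i, IsSextetList (allsext_roots i) := by
  decide +kernel

def el_rep2_tabs : List ℕ := [28854523491105362182008475499005015, 5405947491382263735420182690202711]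

def el_rep3_tabs : List ℕ := [24243033552532260328186959759871713, 15838368908470520400205020538375905]


end Cfsg.Agent.Lib.Helper28
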