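import Cfsg.Agent.Lib.Helper28.ElemConj

set_option autoImplicit false

/-!
Enumeration of the stabilizer of four points in `M24`, and conjugacy data for the elements of order 2 and 3 in four of its cosets.
-/

namespace Cfsg.Agent.Lib.Helper28

open Cfsg MulAction
open scoped Pointwise

def el_gens : List (List ℕ) := [[1, 2, 3, 4, 5, 6, 7, 8, 9, 10, 11, 12, 13, 14, 15, 16, 17, 18, 19, 20, 21, 22, 0, 23], [22, 0, 1, 2, 3, 4, 5, 6, 7, 8, 9, 10, 11, 12, 13, 14, 15, 16, 17, 18, 19, 20, 21, 23], [23, 22, 11, 15, 17, 9, 19, 13, 20, 5, 16, 2, 21, 7, 18, 3, 10, 4, 14, 6, 8, 12, 1, 0], [0, 18, 6, 3, 2, 21, 1, 5, 16, 12, 7, 19, 8, 9, 17, 15, 13, 11, 4, 22, 10, 20, 14, 23], [0, 6, 4, 3, 18, 7, 2, 10, 12, 13, 20, 17, 9,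 16, 22, 15, 8, 14, 1, 11, 21, 5, 19, 23]]

set_option maxRecDepth 1000000 in
set_option maxHeartbeats 4000000 in
theorem el_gens_check : ∀ g ∈ el_gens, ListM24 g := by
  decide +kernel

def k4_tabs : List ℕ := [962332223866351030363001502796515360, 984205959184003985217761710016366624]

set_option maxRecDepth 1000000 in
set_option maxHeartbeats 4000000 in
theorem k4_tabs_check : ∀ t ∈ k4_tabs, TabM24 t ∧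
    ∀ j : Fin 7, j.val < 4 → look t (m24base j).val = (m24base j).val := by
  decide +kernel

def k4_cert : List (List ℕ) := [[0, 1], [0, 1], [0, 1], [0, 1], [0, 1], [0, 1], [0], [1], [0, 1], [0, 1], [0], [0, 1], [0, 1], [0, 1], [0, 1], [0, 1], [0], [0, 1], [0, 1], [0, 1], [1], [0, 1], [0, 1], [0], [0, 1], [0, 1], [0, 1], [0], [0], [0, 1], [1], [1], [0, 1], [0, 1], [0], [0, 1], [0, 1], [0, 1], [1], [0], [0, 1], [0, 1], [0, 1], [1], [0], [0, 1], [0], [0], [0, 1], [1], [1], [0, 1], [0], [0, 1], [0, 1], [1], [0], [0, 1], [0, 1], [0, 1], [1], [0], [0, 1], [0], [0, 1], [0], [0, 1], [1], [1], [0, 1], [0], [0], [0, 1], [0, 1], [0], [1], [0, 1], [0, 1], [0, 1], [1], [0, 1], [0], [0, 1], [0, 1], [0, 1], [0, 1], [0, 1],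 [0, 1], [0], [0, 1], [0], [0], [1], [1], [0, 1], [0], [0], [0, 1], [0, 1], [0], [1], [0, 1], [0, 1], [0, 1], [0], [0, 1], [1], [0, 1], [0], [0, 1], [0, 1], [1], [0], [0, 1], [0, 1], [1], [0], [0, 1], [0], [0, 1], [0, 1], [1], [1], [0], [0], [0, 1], [0, 1], [0, 1], [0, 1], [1], [0, 1], [0, 1], [0], [0, 1], [0], [1], [0, 1], [0], [0], [0, 1], [0, 1], [0, 1], [0, 1], [0, 1], [0], [0, 1], [1], [0, 1], [0, 1], [0, 1], [1], [0], [1], [0, 1], [1], [0], [0, 1], [0], [0, 1], [0, 1], [1], [1], [0], [0], [0, 1], [0], [], [0, 1], [0], [0, 1], [0], [0, 1], [1], [0, 1], [0], [0, 1], [0], [0], [1], [1], [0, 1], [0, 1], [0, 1], [0], [1], [0, 1], [0, 1], [0, 1], [0], [0, 1], [0, 1], [0], [0, 1], [0], [0, 1], [0, 1], [1], [0],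 [0, 1], [], [0, 1], [0], [1], [0, 1], [0], [0, 1], [0, 1], [0], [0, 1], [0, 1], [0], [0, 1], [1], [0, 1], [1], [0], [1], [0, 1], [1], [0], [0, 1], [0], [1], [1], [0], [0], [0, 1], [0], [], [0, 1], [0], [0, 1], [0], [0, 1], [0, 1], [0], [0, 1], [0], [0], [1], [0, 1], [0, 1], [0, 1], [0], [1], [0, 1], [0, 1], [0, 1], [0], [0, 1], [0, 1], [0], [0, 1], [0], [0, 1], [0, 1], [1], [0], [0, 1], [0], [1], [1], [0, 1], [], [], [0], [0], [0, 1], [0, 1], [0, 1], [0, 1], [0], [1], [1], [0, 1], [1], [0], [1], [0], [1], [0], [0, 1], [0], [0, 1], [0, 1], [1], [1], [0], [0], [0, 1], [0], [], [0], [0], [0], [0, 1], [1], [0, 1], [0], [1], [1], [0, 1], [0, 1], [0, 1], [0], [1], [0, 1], [0, 1], [], [0, 1], [1], [0, 1], [1], [0],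 [0, 1], [1], [0], [0, 1], [0], [1], [0], [0], [0, 1], [0], [], [0, 1], [0], [0, 1], [0, 1], [0], [0], [1], [0, 1], [0, 1], [0, 1], [0], [1], [0, 1], [0, 1], [0, 1], [0, 1], [0], [0, 1], [0, 1], [1], [0], [0, 1], [0], [1], [1], [0, 1], [], [], [0], [0], [0, 1], [0, 1], [0, 1], [0], [1], [1], [0, 1], [1], [1], [0], [1], [0], [0], [0], [0, 1], [0, 1], [1], [1], [0], [0], [0, 1], [0], [], [0], [0], [0], [0, 1], [1], [0, 1], [0], [1], [1], [0, 1], [0, 1], [0, 1], [0], [1], [0, 1], [0, 1], [1], [0], [0, 1], [0], [0, 1], [1], [0, 1], [], [0], [], [1], [0], [], [1], [0], [], [], [0, 1], [0], [0, 1], [0], [1], [0], [1], [0], [1], [0], [1], [0, 1], [0], [0, 1], [1], [0], [0, 1], [0], [0, 1], [0, 1], [1], [0], [0, 1],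 [], [1], [], [0], [0], [0, 1], [], [1], [1], [1], [], [1], [0], [1], [], [0, 1], [0], [1], [0, 1], [1], [1], [0], [0], [1], [0], [0, 1], [0, 1], [0], [0], [1], [0, 1], [0, 1], [0], [1], [0, 1], [0, 1], [0, 1], [0, 1], [0, 1], [0, 1], [1], [0], [0, 1], [0], [1], [1], [0, 1], [], [], [1], [1], [], [1], [], [0], [1], [0], [], [0], [0, 1], [0, 1], [1], [1], [], [0], [0, 1], [0], [0, 1], [0], [1], [1], [0, 1], [0, 1], [0, 1], [0], [1], [0, 1], [0, 1], [], [], [0, 1], [0], [0, 1], [1], [0, 1], [], [1], [0], [], [1], [0], [], [], [0, 1], [0], [0, 1], [], [0], [1], [0], [1], [0], [0, 1], [0], [0, 1], [1], [], [0, 1], [0], [0, 1], [0, 1], [1], [0], [0, 1], [], [1], [], [0], [], [0, 1], [], [1], [1], [1], [], [1], [],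 [1], [], [0, 1], [], [1], [1], [1], [], [0], [], [1], [], [0, 1], [0], [1], [], [0], [0], [0, 1], [0], [], [], [1], [], [], [], [], [], [], [0], [1], [1], [1], [], [], [1], [1], [0], [0], [0], [], [], [0], [0], [], [0], [0], [], [], [0], [0, 1], [1], [0], [1], [0], [0], [0, 1], [], [0], [], [], [], [0, 1], [0], [0], [], [0], [0], [1], [0], [0, 1], [], [0], [1], [0], [0], [1], [1], [], [0, 1], [], [], [], [1], [], [], [1], [0], [], [0], [0, 1], [], [], [1], [], [0], [0, 1], [], [0], [0], [1], [0], [1], [0, 1], [0], [], [0, 1], [0, 1], [], [], [0], [0], [0, 1], [], [0], [], [], [0], [1], [1], [0], [0, 1], [1], [], [1], [], [0, 1], [], [0], [1], [], [], [1], [1], [], [1], [], [1], [], [0], [], [], [1], [1], [],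 [], [], [], [0], [1], [], [0], [], [0, 1], [0], [], [], [], [], [], [], [], [], [0], [], [], [], [1], [], [0], [0], [], [], [0], [0], [0], [0], [], [], [0], [0, 1], [1], [0], [1], [], [0], [0], [], [], [], [], [0], [0], [0], [0], [0], [1], [0], [0], [], [0], [], [], [1], [], [1], [1], [], [1], [], [], [], [1], [], [], [], [], [1], [1], [1], [1], [1], [], [], [1], [1], [1], [], [], [1], [], [], [], [1], [], [], [], [], [], [], [], [1], [], [], [], [], [], [], [], [], [], [], [0], [1], [], [], [], [1], [0], [1], [], [0, 1], [], [], [], [1], [], [1], [], [], [], [], [], [], [], [], [], [], [], [], [], [], [], [], [], [], [0], [], [0], [], [], [], [0], [0], [], [], [0], [0], [], [], [], [1], [1], [1], [], [], [1],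 [], [1], [1], [1], [], [], [1], [1], [1], [], [], [1], [], [], [1], [], [], [], [], [1], [], [], [], [], [0], [0], [], [0], [], [0], [1], [0], [], [], [], [], [], [0], [1], [1], [], [], [], [], [0], [], [], [0], [], [1], [1], [], [], [], [], [0], [], [0], [], [0], [], [], [], [], [], [0], [1], [1], [], [1], [], [], [], [1], [], [], [], [1], [], [], [], [1], [], [1]]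

noncomputable abbrev k4_model := elemModel 4194301

set_option maxRecDepth 1000000 in
set_option maxHeartbeats 4000000 in
theorem k4_check : distinctAux ((k4_model.nodes k4_tabs idList k4_cert).map k4_model.code) 0 = true := by
  decide +kernel

set_option maxRecDepth 1000000 in
set_option maxHeartbeats 4000000 in
theorem k4_len : (k4_model.nodes k4_tabs idList k4_cert).length = 960 := by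
  decide +kernel

/-- is an involution or the identity -/
def isInvL (y : List ℕ) : Bool := decide (compL y y = idList)

/-- has order dividing three -/
def isOrd3L (y : List ℕ) : Bool := decide (compL y (compL y y) = idList)

def el_rep2 : List (List ℕ) := [[23, 2, 1, 5, 4, 3, 19, 21, 8, 15, 20, 11, 12, 13, 17, 9, 16, 14, 18, 6, 10, 7, 22, 0], [23, 2, 1, 6, 22, 21, 3, 14, 20, 18, 12, 15, 10, 16, 7, 11, 13, 19, 9, 17, 8, 5, 4, 0]]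

def el_rep3 : List (List ℕ) := [[1, 23, 3, 14, 7, 5, 22, 15, 8, 11, 19, 13, 10, 9, 2, 4, 16, 17, 6, 12, 20, 21, 18, 0], [1, 23, 3, 9, 22, 7, 13, 10, 11, 2, 5, 19, 4, 21, 18, 17, 15, 16, 20, 8, 14, 6, 12, 0]]

set_option maxRecDepth 1000000 in
set_option maxHeartbeats 4000000 in
theorem el_rep_check : (∀ g ∈ el_rep2, ListM24 g) ∧ ∀ g ∈ el_rep3, ListM24 g := by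
  decide +kernel

def el_c2a : List ℕ := [23, 2, 1, 11, 10, 8, 13, 16, 7, 17, 3, 6, 21, 15, 18, 14, 9, 12, 19, 4, 5, 22, 20, 0]

def el_c2a_data : List (List ℕ × ℕ) := [([], 0), ([], 0), ([], 0), ([], 0), ([], 0), ([], 0), ([], 0), ([], 0), ([], 0), ([], 0), ([], 0), ([], 0), ([], 0), ([], 0), ([], 0), ([], 0), ([], 0), ([], 0), ([], 0), ([], 0), ([], 0), ([], 0), ([], 0), ([], 0), ([], 0), ([], 0), ([], 0), ([], 0), ([], 0), ([], 0), ([], 0), ([], 0), ([], 0), ([], 0), ([3, 1, 2, 2, 4, 3, 3, 1, 4, 0, 3, 1, 4, 4, 3, 2, 4, 2, 1, 1, 1, 2, 4, 0, 3, 4, 4, 0, 1, 4, 1, 0, 3, 2, 0, 2, 4, 4, 3, 1, 0, 1, 2, 4, 3, 3, 2, 3, 2, 4, 2, 3, 4, 1, 2, 4, 1, 0, 2, 0], 0), ([], 0), ([], 0), ([], 0), ([], 0), ([], 0), ([], 0), ([],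 0), ([], 0), ([], 0), ([], 0), ([], 0), ([], 0), ([], 0), ([], 0), ([], 0), ([], 0), ([3, 2, 0, 1, 3, 2, 0, 3, 2, 1, 1, 0, 1, 1, 2, 2, 0, 3, 0, 4, 0, 3, 4, 1, 2, 2, 2, 4, 4, 1, 0, 0, 4, 0, 0, 2, 4, 0, 0, 0, 1, 0, 0, 0, 3, 1, 4, 1, 3, 1, 4, 3, 0, 1, 3, 3, 0, 2, 1, 1], 1), ([], 0), ([], 0), ([], 0), ([], 0), ([], 0), ([], 0), ([], 0), ([], 0), ([], 0), ([], 0), ([], 0), ([], 0), ([], 0), ([], 0), ([], 0), ([], 0), ([], 0), ([], 0), ([], 0), ([], 0), ([2, 4, 0, 0, 4, 3, 2, 4, 0, 4, 4, 1, 4, 0, 3, 1, 1, 1, 0, 0, 4, 0, 1, 4, 4, 3, 0, 1, 3, 0, 3, 2, 2, 4, 3, 1, 2, 4, 3, 1, 2, 0, 3, 3, 4, 4, 2, 4, 4, 0, 1, 0, 4, 3, 4, 2, 1, 0, 2, 3], 1), ([], 0), ([], 0), ([1, 0, 4, 0, 4, 4, 2, 2, 3, 1, 2, 0, 1, 1, 1, 0, 2, 3, 4, 4,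 2, 0, 0, 0, 2, 2, 1, 3, 0, 1, 0, 0, 3, 0, 2, 4, 3, 2, 2, 2, 3, 1, 0, 1, 3, 1, 3, 0, 1, 3, 0, 4, 2, 4, 3, 4, 1, 2, 3, 4], 1), ([], 0), ([], 0), ([], 0), ([], 0), ([], 0), ([2, 1, 4, 3, 0, 3, 2, 0, 4, 2, 2, 1, 0, 1, 2, 2, 0, 1, 2, 0, 1, 4, 0, 0, 4, 0, 4, 0, 2, 2, 3, 3, 2, 3, 2, 1, 0, 2, 2, 2, 3, 4, 3, 0, 4, 1, 4, 3, 1, 1, 0, 3, 2, 2, 4, 4, 0, 4, 1, 0], 1), ([], 0), ([], 0), ([], 0), ([], 0), ([], 0), ([], 0), ([], 0), ([], 0), ([3, 4, 1, 0, 3, 2, 1, 1, 3, 3, 4, 3, 3, 0, 0, 2, 3, 2, 3, 2, 0, 0, 2, 2, 4, 2, 3, 2, 0, 3, 2, 1, 3, 0, 1, 0, 0, 3, 1, 4, 4, 1, 2, 2, 0, 3, 3, 3, 1, 2, 3, 0, 2, 3, 1, 4, 1, 1, 0, 1], 1), ([], 0), ([], 0), ([], 0), ([2, 3, 1, 3, 4, 3, 3, 3, 1, 3, 0, 0, 4, 3, 2, 2, 2, 4, 4, 0, 0, 3, 3, 4,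 1, 2, 2, 4, 2, 0, 2, 1, 4, 2, 1, 4, 3, 3, 0, 2, 4, 4, 4, 2, 3, 0, 3, 4, 2, 4, 3, 0, 3, 2, 1, 0, 3, 2, 4, 3], 0), ([], 0), ([], 0), ([1, 2, 1, 4, 4, 2, 0, 3, 0, 1, 0, 4, 2, 3, 4, 3, 2, 4, 4, 3, 1, 4, 3, 0, 4, 2, 0, 0, 2, 2, 1, 1, 0, 2, 3, 1, 0, 4, 4, 3, 0, 1, 4, 2, 1, 0, 0, 4, 0, 3, 3, 1, 2, 4, 2, 3, 1, 0, 1, 4], 1), ([], 0), ([], 0), ([], 0), ([], 0), ([], 0), ([], 0), ([], 0), ([], 0), ([], 0), ([], 0), ([], 0), ([], 0), ([], 0), ([], 0), ([], 0), ([], 0), ([3, 3, 4, 2, 3, 2, 3, 4, 0, 3, 3, 4, 4, 4, 0, 1, 4, 4, 2, 0, 1, 0, 1, 3, 2, 2, 0, 1, 2, 4, 3, 3, 0, 0, 0, 0, 2, 3, 0, 4, 3, 1, 2, 1, 1, 3, 1, 2, 0, 2, 3, 2, 0, 3, 3, 2, 2, 0, 2, 2], 1), ([], 0), ([], 0), ([], 0), ([], 0), ([], 0), ([], 0), ([], 0), ([],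 0), ([], 0), ([], 0), ([], 0), ([], 0), ([], 0), ([], 0), ([], 0), ([4, 0, 1, 4, 0, 0, 1, 1, 4, 0, 1, 4, 0, 0, 1, 1, 0, 2, 1, 1, 3, 4, 2, 1, 0, 3, 4, 1, 4, 0, 3, 1, 0, 4, 4, 1, 0, 0, 3, 2, 3, 2, 2, 0, 0, 3, 0, 3, 2, 4, 4, 3, 1, 0, 1, 3, 0, 4, 0, 2], 1), ([], 0), ([], 0), ([], 0), ([], 0), ([], 0), ([], 0), ([], 0), ([], 0), ([3, 0, 1, 1, 1, 1, 3, 3, 3, 0, 1, 0, 3, 4, 2, 4, 1, 2, 0, 0, 4, 3, 0, 3, 2, 1, 3, 3, 3, 1, 3, 3, 4, 0, 1, 3, 4, 4, 3, 1, 4, 1, 4, 0, 1, 3, 0, 2, 2, 0, 3, 4, 0, 3, 1, 4, 3, 4, 2, 2], 1), ([2, 4, 4, 3, 0, 1, 1, 2, 2, 3, 4, 2, 1, 3, 0, 1, 4, 4, 1, 1, 0, 0, 3, 1, 4, 1, 2, 3, 2, 1, 3, 3, 3, 0, 3, 1, 3, 3, 4, 4, 2, 1, 2, 3, 1, 2, 3, 1, 4, 0, 0, 4, 1, 4, 0, 4, 3, 2, 0, 3], 1), ([], 0), ([], 0),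 ([0, 3, 1, 2, 0, 4, 4, 3, 3, 2, 3, 4, 1, 0, 0, 2, 2, 3, 1, 4, 1, 3, 3, 0, 2, 1, 4, 2, 0, 1, 0, 1, 0, 3, 1, 1, 2, 3, 1, 1, 0, 0, 1, 0, 0, 4, 2, 4, 4, 1, 2, 0, 4, 3, 1, 2, 3, 2, 1, 2], 1), ([], 0), ([4, 3, 3, 0, 2, 1, 2, 1, 0, 4, 3, 2, 0, 2, 0, 2, 1, 1, 0, 1, 0, 2, 2, 2, 1, 0, 0, 0, 2, 0, 0, 4, 4, 1, 4, 3, 0, 0, 4, 1, 4, 1, 3, 1, 0, 2, 4, 3, 3, 1, 1, 1, 1, 2, 1, 2, 0, 1, 0, 2], 1), ([], 0), ([], 0), ([], 0), ([], 0), ([], 0), ([], 0), ([3, 3, 3, 3, 4, 0, 4, 2, 1, 3, 3, 0, 3, 0, 2, 4, 0, 4, 2, 0, 2, 0, 3, 3, 4, 3, 0, 1, 2, 4, 2, 0, 4, 0, 3, 2, 2, 1, 2, 0, 2, 3, 0, 1, 3, 4, 1, 0, 1, 4, 3, 1, 2, 0, 1, 3, 4, 3, 4, 3], 1), ([], 0), ([], 0), ([], 0), ([], 0), ([], 0), ([], 0), ([], 0), ([], 0), ([], 0), ([], 0), ([],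 0), ([], 0), ([], 0), ([], 0), ([], 0), ([], 0), ([0, 3, 0, 4, 0, 0, 3, 4, 3, 4, 2, 1, 0, 2, 0, 1, 4, 1, 4, 4, 4, 4, 3, 2, 4, 0, 4, 3, 4, 0, 0, 4, 3, 4, 3, 2, 0, 0, 2, 3, 2, 3, 1, 0, 0, 3, 2, 1, 2, 0, 2, 2, 1, 4, 1, 3, 0, 4, 3, 2], 1), ([], 0), ([], 0), ([], 0), ([], 0), ([], 0), ([], 0), ([], 0), ([], 0), ([], 0), ([], 0), ([], 0), ([], 0), ([], 0), ([], 0), ([], 0), ([], 0), ([1, 0, 4, 2, 3, 4, 4, 3, 0, 2, 2, 3, 4, 0, 3, 4, 1, 3, 0, 0, 0, 0, 3, 1, 3, 4, 4, 2, 2, 4, 4, 3, 4, 3, 1, 3, 3, 3, 1, 4, 0, 2, 2, 0, 1, 1, 4, 4, 4, 2, 0, 4, 2, 2, 2, 1, 2, 1, 1, 0], 1), ([], 0), ([], 0), ([0, 3, 0, 4, 4, 1, 2, 1, 2, 2, 2, 1, 2, 1, 3, 1, 3, 4, 4, 0, 4, 3, 4, 4, 0, 2, 4, 2, 4, 1, 3, 4, 3, 0, 1, 1, 3, 3, 3, 2, 4, 2, 1, 0,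 3, 0, 0, 2, 0, 3, 1, 0, 1, 3, 4, 3, 3, 4, 4, 4], 1), ([], 0), ([], 0), ([0, 2, 3, 4, 1, 1, 3, 2, 4, 1, 2, 0, 3, 1, 4, 2, 1, 2, 4, 3, 1, 4, 1, 4, 4, 0, 2, 1, 4, 4, 3, 3, 1, 1, 1, 0, 2, 4, 4, 2, 2, 1, 4, 3, 4, 3, 0, 3, 4, 2, 2, 3, 4, 1, 0, 4, 2, 3, 0, 4], 1), ([], 0), ([], 0), ([], 0), ([], 0), ([], 0), ([], 0), ([], 0), ([], 0), ([1, 0, 1, 1, 4, 3, 0, 4, 3, 3, 1, 3, 3, 3, 1, 4, 1, 4, 3, 2, 3, 4, 0, 1, 4, 1, 3, 2, 1, 3, 3, 0, 1, 2, 1, 2, 4, 3, 4, 3, 1, 3, 1, 4, 4, 4, 4, 1, 0, 3, 1, 0, 4, 2, 2, 0, 1, 1, 3, 0], 0), ([], 0), ([0, 3, 0, 2, 2, 3, 1, 1, 4, 2, 0, 4, 1, 3, 2, 1, 3, 1, 3, 0, 1, 4, 0, 4, 3, 1, 2, 2, 3, 0, 4, 2, 2, 2, 1, 4, 1, 2, 3, 3, 3, 2, 4, 1, 3, 1, 3, 0, 2, 3, 0, 4, 1, 2, 0, 1, 3, 2, 1, 3], 0), ([],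 0), ([3, 2, 4, 0, 1, 3, 2, 3, 0, 0, 2, 2, 4, 1, 4, 3, 2, 1, 1, 1, 2, 2, 4, 4, 1, 3, 2, 3, 1, 0, 2, 3, 2, 2, 4, 4, 3, 3, 4, 3, 3, 2, 1, 4, 1, 2, 1, 2, 1, 0, 4, 2, 3, 0, 2, 4, 1, 3, 4, 2], 1), ([], 0), ([], 0), ([], 0), ([], 0), ([], 0), ([], 0), ([], 0), ([], 0), ([], 0), ([], 0), ([], 0), ([], 0), ([], 0), ([], 0), ([], 0), ([], 0), ([], 0), ([], 0), ([], 0), ([], 0), ([], 0), ([], 0), ([], 0), ([], 0), ([], 0), ([], 0), ([], 0), ([], 0), ([], 0), ([], 0), ([], 0), ([], 0), ([], 0), ([], 0), ([], 0), ([], 0), ([], 0), ([], 0), ([], 0), ([], 0), ([], 0), ([], 0), ([], 0), ([], 0), ([], 0), ([], 0), ([], 0), ([], 0), ([], 0), ([4, 0, 1, 4, 1, 4, 0, 4, 0, 3, 3, 0, 1, 2, 2, 2, 2, 2, 3, 3, 0, 0, 1, 1, 3, 0, 2, 0,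 2, 2, 4, 2, 1, 4, 1, 0, 1, 1, 0, 4, 4, 3, 4, 2, 3, 0, 3, 4, 3, 0, 3, 1, 0, 2, 2, 2, 4, 1, 0, 0], 1), ([], 0), ([], 0), ([], 0), ([], 0), ([], 0), ([1, 0, 1, 0, 2, 1, 2, 2, 1, 0, 4, 4, 2, 4, 4, 3, 4, 2, 4, 3, 1, 1, 4, 0, 2, 0, 4, 1, 2, 1, 1, 0, 1, 1, 3, 0, 1, 0, 1, 2, 0, 1, 4, 2, 3, 2, 2, 2, 2, 1, 1, 1, 1, 2, 2, 1, 0, 4, 4, 0], 1), ([], 0), ([], 0), ([], 0), ([], 0), ([], 0), ([], 0), ([], 0), ([], 0), ([], 0), ([], 0), ([], 0), ([], 0), ([0, 0, 3, 1, 2, 4, 1, 2, 4, 1, 1, 3, 3, 0, 2, 0, 2, 3, 2, 2, 2, 4, 3, 1, 3, 4, 4, 0, 3, 2, 1, 4, 3, 4, 3, 4, 4, 2, 3, 1, 1, 4, 0, 1, 1, 2, 1, 0, 1, 3, 0, 2, 4, 4, 1, 1, 3, 2, 2, 0], 1), ([], 0), ([], 0), ([], 0), ([3, 1, 4, 1, 1, 0, 2, 1, 0, 3, 0, 1, 0, 2, 1, 2, 4, 0, 1, 0,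 4, 0, 3, 1, 2, 2, 2, 2, 4, 1, 4, 2, 4, 0, 4, 4, 3, 0, 3, 4, 2, 3, 3, 1, 2, 4, 2, 4, 0, 4, 3, 3, 0, 3, 1, 2, 1, 0, 3, 0], 1), ([], 0), ([], 0), ([], 0), ([], 0), ([], 0), ([], 0), ([], 0), ([], 0), ([], 0), ([], 0), ([], 0), ([], 0), ([], 0), ([], 0), ([], 0), ([], 0), ([], 0), ([], 0), ([], 0), ([], 0), ([], 0), ([], 0), ([], 0), ([], 0), ([], 0), ([], 0), ([], 0), ([], 0), ([], 0), ([], 0), ([], 0), ([], 0), ([], 0), ([], 0), ([], 0), ([], 0), ([1, 0, 0, 0, 3, 0, 4, 2, 2, 2, 1, 1, 1, 3, 1, 4, 4, 0, 3, 3, 3, 4, 1, 2, 3, 2, 2, 3, 3, 1, 0, 4, 1, 1, 4, 0, 2, 1, 3, 0, 3, 4, 3, 0, 2, 4, 2, 3, 1, 4, 4, 3, 4, 0, 2, 4, 3, 2, 3, 4], 1), ([], 0), ([], 0), ([], 0), ([], 0), ([], 0), ([], 0), ([], 0), ([], 0), ([1, 1, 2,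 4, 4, 0, 0, 0, 3, 2, 1, 0, 3, 1, 1, 0, 3, 4, 3, 2, 4, 4, 2, 3, 2, 3, 1, 2, 4, 4, 1, 4, 0, 4, 3, 1, 4, 2, 4, 1, 0, 4, 1, 4, 3, 0, 1, 3, 1, 1, 4, 4, 0, 0, 0, 1, 0, 0, 1, 3], 1), ([], 0), ([], 0), ([], 0), ([], 0), ([], 0), ([], 0), ([], 0), ([], 0), ([], 0), ([], 0), ([], 0), ([], 0), ([4, 1, 2, 0, 2, 0, 1, 4, 0, 0, 1, 1, 2, 4, 3, 4, 3, 1, 2, 3, 2, 2, 4, 1, 0, 0, 4, 4, 0, 3, 2, 3, 3, 1, 4, 0, 4, 0, 1, 0, 0, 3, 1, 3, 4, 4, 0, 2, 0, 0, 2, 3, 0, 3, 2, 3, 1, 4, 0, 0], 1), ([], 0), ([], 0), ([], 0), ([], 0), ([2, 3, 0, 3, 4, 2, 2, 0, 3, 4, 3, 2, 3, 3, 3, 0, 0, 4, 3, 3, 3, 2, 1, 1, 1, 3, 2, 3, 0, 4, 1, 0, 3, 3, 1, 0, 4, 1, 1, 0, 1, 4, 2, 4, 3, 3, 4, 0, 4, 0, 0, 1, 0, 1, 0, 3, 2, 3, 1, 0], 1), ([], 0), ([], 0), ([],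 0), ([], 0), ([], 0), ([], 0), ([], 0), ([], 0), ([], 0), ([], 0), ([], 0), ([], 0), ([], 0), ([], 0), ([], 0), ([0, 1, 3, 1, 4, 1, 0, 4, 2, 2, 3, 0, 1, 1, 4, 0, 3, 2, 1, 4, 3, 0, 1, 3, 3, 3, 0, 1, 2, 3, 4, 2, 3, 1, 1, 4, 3, 4, 3, 0, 1, 0, 3, 3, 0, 2, 2, 3, 3, 4, 3, 3, 2, 4, 2, 0, 1, 0, 0, 1], 1), ([], 0), ([], 0), ([], 0), ([], 0), ([], 0), ([], 0), ([], 0), ([], 0), ([], 0), ([], 0), ([], 0), ([], 0), ([], 0), ([], 0), ([], 0), ([], 0), ([], 0), ([], 0), ([], 0), ([], 0), ([], 0), ([], 0), ([], 0), ([], 0), ([], 0), ([], 0), ([], 0), ([], 0), ([], 0), ([], 0), ([], 0), ([], 0), ([], 0), ([], 0), ([], 0), ([], 0), ([], 0), ([], 0), ([1, 1, 2, 4, 3, 0, 2, 1, 0, 3, 0, 3, 2, 1, 4, 3, 1, 4, 4, 0, 1, 1, 3, 2, 2,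 0, 2, 3, 4, 2, 0, 1, 0, 3, 1, 0, 1, 2, 2, 3, 1, 3, 1, 1, 0, 2, 2, 4, 3, 1, 0, 0, 1, 4, 0, 3, 0, 1, 1, 4], 1), ([], 0), ([], 0), ([4, 4, 1, 1, 3, 1, 3, 0, 4, 1, 0, 4, 1, 3, 4, 0, 4, 1, 1, 2, 0, 0, 2, 2, 0, 4, 1, 4, 2, 4, 1, 4, 3, 4, 3, 3, 1, 1, 0, 0, 3, 3, 2, 4, 1, 0, 4, 4, 4, 0, 2, 0, 2, 4, 3, 1, 3, 4, 3, 3], 1), ([], 0), ([], 0), ([], 0), ([], 0), ([], 0), ([0, 0, 3, 1, 3, 0, 0, 4, 1, 1, 4, 3, 3, 4, 0, 1, 3, 3, 0, 1, 3, 1, 2, 4, 1, 1, 1, 1, 3, 0, 1, 3, 2, 1, 3, 4, 1, 0, 1, 3, 0, 1, 4, 3, 4, 3, 3, 2, 1, 4, 0, 4, 3, 0, 0, 2, 2, 4, 4, 4], 0), ([], 0), ([], 0), ([], 0), ([], 0), ([], 0), ([], 0), ([0, 2, 4, 0, 2, 0, 1, 4, 3, 2, 4, 1, 4, 0, 4, 1, 0, 3, 3, 3, 0, 4, 1, 2, 4, 2, 2, 3, 3, 3, 1, 4, 0, 0, 0, 3, 3, 3,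 3, 0, 1, 1, 4, 1, 2, 0, 1, 4, 3, 4, 4, 0, 0, 3, 0, 0, 4, 0, 3, 2], 1), ([], 0), ([], 0), ([], 0), ([], 0), ([], 0), ([], 0), ([], 0), ([], 0), ([], 0), ([], 0), ([], 0), ([], 0), ([], 0), ([], 0), ([], 0), ([], 0), ([], 0), ([], 0), ([], 0), ([], 0), ([], 0), ([1, 4, 3, 3, 2, 1, 4, 1, 4, 2, 3, 2, 1, 1, 0, 4, 1, 0, 0, 3, 3, 4, 0, 0, 2, 0, 2, 3, 1, 0, 3, 1, 0, 3, 3, 1, 0, 0, 2, 0, 0, 2, 4, 4, 2, 0, 4, 2, 2, 1, 3, 0, 2, 2, 2, 1, 2, 0, 1, 2], 1), ([], 0), ([], 0), ([0, 1, 4, 3, 3, 3, 0, 2, 0, 3, 0, 2, 0, 2, 0, 4, 3, 1, 3, 0, 0, 2, 0, 0, 4, 3, 1, 0, 0, 4, 0, 3, 2, 3, 1, 1, 4, 4, 3, 4, 3, 4, 2, 2, 2, 3, 1, 2, 2, 3, 0, 0, 0, 4, 4, 3, 2, 3, 3, 0], 1), ([], 0), ([], 0), ([], 0), ([], 0), ([], 0), ([], 0), ([], 0), ([],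 0), ([], 0), ([], 0), ([], 0), ([], 0), ([], 0), ([], 0), ([], 0), ([], 0), ([], 0), ([], 0), ([], 0), ([], 0), ([], 0), ([], 0), ([], 0), ([], 0), ([], 0), ([], 0), ([], 0), ([], 0), ([], 0), ([], 0), ([], 0), ([], 0), ([], 0), ([], 0), ([3, 4, 2, 1, 4, 2, 1, 0, 3, 0, 3, 0, 0, 4, 2, 3, 0, 2, 2, 1, 4, 3, 0, 4, 0, 4, 4, 4, 0, 1, 0, 4, 2, 4, 3, 0, 0, 2, 3, 2, 1, 0, 2, 3, 4, 2, 3, 3, 4, 1, 2, 0, 3, 3, 4, 1, 0, 4, 1, 2], 1), ([], 0), ([], 0), ([1, 4, 2, 1, 4, 3, 1, 1, 1, 4, 4, 0, 1, 1, 3, 3, 1, 0, 3, 4, 1, 4, 0, 4, 1, 3, 4, 1, 3, 1, 2, 1, 0, 4, 2, 1, 4, 4, 0, 1, 1, 4, 3, 1, 2, 1, 0, 2, 4, 3, 0, 0, 3, 2, 0, 1, 0, 3, 4, 2], 1), ([], 0), ([], 0), ([], 0), ([], 0), ([], 0), ([], 0), ([], 0), ([2, 2, 3, 1, 1, 1, 0, 1,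 3, 1, 1, 1, 2, 2, 1, 0, 3, 1, 4, 3, 2, 2, 4, 2, 2, 3, 0, 2, 2, 2, 3, 2, 3, 2, 3, 4, 1, 1, 1, 0, 2, 1, 3, 1, 4, 3, 1, 1, 3, 0, 3, 1, 3, 3, 4, 2, 1, 0, 0, 3], 1), ([], 0), ([], 0), ([], 0), ([], 0), ([], 0), ([], 0), ([], 0), ([], 0), ([1, 1, 3, 4, 0, 0, 3, 1, 2, 4, 2, 2, 3, 3, 0, 0, 1, 1, 2, 4, 0, 1, 1, 4, 4, 3, 0, 2, 3, 4, 4, 4, 3, 0, 2, 3, 3, 1, 1, 2, 2, 4, 4, 2, 0, 2, 3, 4, 0, 0, 4, 0, 4, 4, 4, 2, 0, 0, 4, 3], 1), ([], 0), ([], 0), ([], 0), ([], 0), ([0, 1, 3, 1, 4, 1, 0, 4, 2, 2, 3, 0, 1, 1, 4, 0, 3, 2, 1, 4, 3, 0, 1, 3, 3, 3, 0, 1, 2, 3, 2, 0, 0, 1, 2, 2, 3, 2, 2, 1, 0, 4, 4, 1, 3, 4, 4, 4, 1, 1, 2, 2, 1, 4, 4, 2, 3, 3, 3, 2], 1), ([], 0), ([], 0), ([], 0), ([], 0), ([], 0), ([], 0), ([], 0), ([], 0), ([],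 0), ([], 0), ([], 0), ([], 0), ([], 0), ([], 0), ([], 0), ([], 0), ([], 0), ([], 0), ([], 0), ([], 0), ([], 0), ([], 0), ([], 0), ([], 0), ([], 0), ([], 0), ([], 0), ([], 0), ([], 0), ([], 0), ([], 0), ([], 0), ([], 0), ([], 0), ([], 0), ([], 0), ([], 0), ([], 0), ([], 0), ([], 0), ([], 0), ([], 0), ([], 0), ([], 0), ([], 0), ([1, 2, 4, 1, 1, 0, 0, 1, 0, 1, 2, 2, 2, 1, 4, 1, 3, 0, 2, 3, 2, 4, 4, 3, 4, 3, 3, 0, 1, 0, 0, 1, 3, 0, 1, 2, 0, 0, 4, 0, 4, 3, 1, 0, 2, 0, 4, 0, 1, 3, 0, 4, 3, 3, 2, 4, 3, 1, 2, 3], 1), ([], 0), ([], 0), ([], 0), ([], 0), ([], 0), ([], 0), ([4, 4, 0, 3, 3, 1, 4, 4, 3, 2, 2, 0, 4, 0, 0, 1, 0, 1, 3, 1, 2, 3, 1, 0, 1, 0, 2, 4, 1, 2, 1, 4, 3, 1, 1, 2, 3, 4, 3, 0, 4, 1, 3, 1, 3, 0, 1, 3, 3,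 1, 0, 2, 1, 2, 3, 0, 0, 3, 4, 2], 1), ([], 0), ([], 0), ([], 0), ([2, 0, 2, 1, 3, 2, 0, 4, 0, 2, 2, 3, 3, 2, 1, 4, 1, 0, 0, 2, 3, 1, 2, 0, 3, 3, 0, 2, 4, 2, 1, 3, 0, 3, 3, 1, 1, 0, 1, 0, 2, 0, 2, 3, 1, 0, 1, 1, 0, 2, 4, 4, 4, 0, 2, 0, 0, 2, 4, 4], 1), ([], 0), ([], 0), ([], 0), ([2, 2, 4, 0, 3, 1, 0, 2, 0, 0, 0, 1, 2, 0, 2, 2, 0, 0, 1, 0, 1, 4, 0, 1, 0, 0, 4, 1, 3, 2, 2, 4, 2, 1, 1, 1, 4, 1, 3, 3, 4, 4, 3, 2, 3, 4, 0, 3, 3, 2, 4, 4, 4, 1, 1, 1, 3, 4, 2, 4], 1), ([], 0), ([], 0), ([], 0), ([], 0), ([], 0), ([], 0), ([1, 1, 2, 3, 4, 0, 3, 2, 1, 2, 3, 2, 1, 0, 3, 3, 4, 4, 2, 0, 2, 1, 2, 2, 1, 4, 4, 4, 2, 0, 1, 2, 3, 4, 1, 2, 1, 4, 3, 3, 2, 4, 1, 2, 1, 3, 3, 3, 1, 4, 0, 3, 1, 0, 1, 1, 4, 3, 3, 3], 1), ([], 0), ([],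 0), ([], 0), ([], 0), ([], 0), ([], 0), ([], 0), ([], 0), ([], 0), ([], 0), ([], 0), ([], 0), ([], 0), ([], 0), ([], 0), ([], 0), ([], 0), ([0, 1, 1, 0, 1, 4, 3, 0, 2, 4, 2, 3, 3, 2, 2, 3, 2, 3, 4, 0, 2, 3, 3, 3, 2, 4, 0, 1, 0, 2, 4, 3, 3, 2, 1, 4, 0, 3, 3, 4, 3, 0, 1, 1, 2, 3, 4, 2, 2, 3, 3, 2, 3, 0, 3, 1, 4, 1, 4, 0], 1), ([], 0), ([], 0), ([], 0), ([2, 3, 0, 2, 0, 3, 2, 0, 2, 3, 2, 0, 1, 3, 4, 0, 0, 4, 0, 4, 3, 4, 0, 3, 2, 1, 3, 3, 4, 2, 2, 4, 3, 4, 1, 1, 0, 2, 2, 4, 4, 3, 4, 2, 2, 2, 4, 0, 0, 3, 0, 4, 1, 1, 2, 0, 1, 0, 1, 1], 1), ([], 0), ([1, 4, 1, 4, 3, 3, 3, 2, 0, 3, 4, 2, 1, 2, 4, 3, 4, 3, 4, 3, 4, 4, 2, 4, 2, 2, 2, 2, 3, 2, 1, 1, 2, 4, 3, 1, 2, 0, 3, 2, 1, 2, 2, 2, 1, 0, 1, 3, 3, 2, 1, 2, 1, 1, 4, 3,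 2, 1, 2, 4], 1), ([], 0), ([4, 3, 4, 4, 4, 1, 4, 0, 0, 2, 0, 3, 1, 2, 0, 0, 3, 0, 3, 0, 2, 0, 2, 0, 0, 1, 1, 3, 4, 4, 1, 1, 4, 1, 1, 3, 2, 3, 3, 4, 0, 1, 0, 2, 3, 1, 2, 1, 4, 2, 1, 4, 2, 4, 1, 3, 4, 3, 0, 3], 1), ([], 0), ([], 0), ([], 0), ([], 0), ([], 0), ([], 0), ([], 0), ([], 0), ([], 0), ([], 0), ([0, 4, 2, 4, 0, 1, 4, 3, 1, 3, 2, 1, 0, 1, 3, 0, 3, 0, 4, 2, 1, 3, 2, 4, 4, 2, 1, 1, 1, 2, 3, 4, 2, 4, 3, 2, 3, 2, 4, 4, 1, 0, 1, 2, 0, 1, 1, 3, 2, 4, 3, 4, 3, 3, 1, 1, 3, 3, 0, 1], 1), ([], 0), ([], 0), ([], 0), ([], 0), ([], 0), ([], 0), ([], 0), ([], 0), ([], 0), ([], 0), ([4, 2, 2, 2, 4, 4, 1, 1, 4, 4, 3, 2, 4, 1, 0, 1, 4, 0, 4, 2, 3, 1, 2, 0, 1, 1, 1, 4, 2, 3, 4, 3, 4, 3, 3, 1, 1, 2, 0, 2, 4, 4, 3, 2, 1,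 2, 4, 1, 0, 3, 3, 4, 0, 3, 0, 1, 3, 0, 1, 4], 1), ([], 0), ([], 0), ([], 0), ([], 0), ([], 0), ([], 0), ([], 0), ([], 0), ([], 0), ([], 0), ([], 0), ([], 0), ([], 0), ([], 0), ([], 0), ([], 0), ([], 0), ([], 0), ([], 0), ([], 0), ([], 0), ([], 0), ([], 0), ([], 0), ([], 0), ([], 0), ([], 0), ([], 0), ([], 0), ([], 0), ([], 0), ([], 0), ([], 0), ([], 0), ([], 0), ([], 0), ([], 0), ([], 0), ([], 0), ([], 0), ([], 0), ([], 0), ([], 0), ([], 0), ([], 0), ([], 0), ([], 0), ([], 0), ([], 0), ([], 0), ([], 0), ([], 0), ([], 0), ([], 0), ([], 0), ([], 0), ([], 0), ([], 0), ([], 0), ([], 0), ([], 0), ([], 0), ([], 0), ([], 0), ([], 0), ([], 0), ([], 0), ([], 0), ([], 0), ([], 0), ([3, 1, 4, 0, 0, 3, 1, 2, 0, 0, 0, 3,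 3, 2, 4, 3, 2, 1, 0, 2, 2, 2, 1, 0, 2, 4, 2, 3, 2, 2, 3, 3, 4, 3, 1, 3, 0, 4, 4, 2, 4, 2, 4, 1, 1, 0, 2, 0, 0, 2, 4, 2, 2, 0, 2, 2, 0, 2, 2, 1], 1), ([], 0), ([], 0), ([2, 2, 4, 2, 1, 2, 2, 4, 0, 2, 2, 0, 4, 1, 2, 4, 1, 1, 1, 2, 2, 2, 2, 2, 3, 2, 0, 3, 1, 0, 3, 4, 4, 4, 2, 1, 2, 4, 1, 1, 4, 1, 3, 4, 3, 2, 1, 1, 3, 3, 3, 1, 3, 1, 4, 1, 4, 0, 4, 4], 1), ([], 0), ([], 0), ([], 0), ([], 0), ([], 0), ([], 0), ([], 0), ([], 0), ([], 0), ([], 0), ([], 0), ([], 0), ([], 0), ([], 0), ([], 0), ([], 0), ([], 0), ([], 0), ([], 0), ([], 0), ([], 0), ([], 0), ([], 0), ([], 0), ([], 0), ([], 0), ([], 0), ([], 0), ([], 0), ([], 0), ([], 0), ([], 0), ([], 0), ([], 0), ([], 0), ([], 0), ([], 0), ([1, 0, 4, 4, 1, 4, 4, 2, 4, 0,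 2, 1, 4, 1, 4, 1, 3, 3, 2, 3, 1, 2, 1, 4, 1, 4, 3, 0, 1, 2, 0, 2, 0, 4, 0, 1, 0, 0, 3, 1, 4, 4, 0, 4, 0, 1, 0, 2, 1, 2, 1, 3, 1, 0, 0, 1, 2, 2, 0, 1], 0), ([], 0), ([4, 4, 0, 1, 2, 1, 2, 0, 0, 4, 1, 1, 1, 1, 3, 3, 2, 2, 2, 0, 3, 2, 2, 1, 3, 3, 4, 2, 4, 0, 2, 2, 4, 2, 3, 3, 3, 3, 2, 3, 0, 1, 4, 0, 1, 0, 4, 2, 4, 0, 2, 0, 4, 0, 1, 0, 3, 0, 2, 3], 0), ([], 0), ([], 0), ([], 0), ([], 0), ([], 0), ([], 0), ([], 0), ([], 0), ([], 0), ([0, 2, 1, 3, 2, 0, 2, 4, 1, 3, 0, 3, 3, 1, 3, 3, 2, 3, 1, 4, 4, 1, 0, 3, 4, 3, 3, 3, 4, 1, 4, 3, 4, 3, 4, 3, 1, 2, 0, 4, 4, 4, 2, 1, 3, 0, 3, 0, 4, 0, 2, 0, 1, 4, 0, 4, 3, 3, 1, 3], 1), ([], 0), ([], 0), ([], 0), ([], 0), ([], 0), ([4, 1, 2, 0, 4, 4, 1, 4, 3, 3, 1, 0, 3, 0, 3, 4, 1,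 1, 1, 3, 0, 3, 1, 0, 4, 2, 2, 3, 2, 1, 3, 4, 4, 0, 3, 2, 4, 0, 2, 1, 3, 2, 1, 4, 0, 1, 3, 4, 3, 3, 3, 1, 0, 2, 3, 1, 4, 4, 4, 1], 0), ([], 0), ([], 0), ([], 0), ([], 0), ([], 0), ([], 0), ([], 0), ([], 0), ([], 0), ([], 0), ([], 0), ([], 0), ([], 0), ([], 0), ([], 0), ([], 0), ([], 0), ([], 0), ([], 0), ([], 0), ([], 0), ([], 0), ([], 0), ([3, 3, 2, 1, 1, 3, 2, 0, 2, 1, 3, 0, 3, 2, 4, 1, 0, 2, 1, 0, 3, 4, 3, 3, 3, 4, 1, 1, 2, 1, 0, 4, 0, 3, 4, 3, 3, 2, 4, 0, 4, 0, 1, 2, 4, 0, 1, 3, 0, 2, 3, 2, 2, 3, 2, 1, 0, 1, 1, 1], 1), ([], 0), ([], 0), ([], 0), ([2, 4, 1, 2, 2, 3, 3, 1, 1, 4, 0, 3, 1, 3, 4, 1, 3, 0, 4, 2, 4, 4, 2, 4, 3, 0, 0, 3, 2, 4, 1, 1, 4, 1, 3, 1, 0, 1, 1, 2, 3, 2, 0, 0, 4, 3, 1, 2, 3, 2, 2, 2, 1, 4,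 1, 4, 4, 0, 1, 1], 0), ([], 0), ([], 0), ([], 0), ([], 0), ([], 0), ([], 0), ([], 0), ([], 0), ([], 0), ([], 0), ([], 0), ([4, 3, 4, 4, 2, 4, 3, 0, 3, 4, 3, 3, 4, 1, 1, 1, 1, 1, 4, 1, 1, 0, 4, 4, 0, 1, 4, 2, 3, 2, 3, 2, 4, 0, 0, 1, 1, 4, 0, 0, 4, 1, 0, 2, 4, 4, 4, 3, 1, 0, 2, 4, 1, 3, 2, 1, 1, 1, 0, 3], 1), ([], 0), ([], 0), ([], 0), ([], 0), ([], 0), ([], 0), ([], 0), ([0, 0, 0, 0, 2, 4, 2, 0, 0, 2, 2, 3, 3, 1, 1, 1, 3, 4, 2, 4, 4, 0, 2, 0, 1, 3, 2, 0, 3, 0, 2, 3, 4, 2, 0, 1, 0, 2, 0, 1, 1, 4, 3, 1, 2, 0, 1, 1, 2, 2, 4, 3, 2, 1, 2, 0, 3, 0, 3, 1], 1), ([2, 2, 2, 4, 3, 2, 2, 1, 2, 0, 4, 2, 3, 2, 4, 1, 1, 4, 3, 0, 0, 2, 1, 1, 4, 0, 2, 0, 1, 4, 3, 0, 0, 4, 0, 2, 2, 2, 1, 4, 0, 4, 4, 1, 4, 2, 3, 0, 0, 3, 0, 4,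 1, 2, 4, 0, 3, 2, 3, 4], 1), ([1, 1, 2, 1, 0, 0, 0, 2, 0, 0, 2, 0, 4, 3, 4, 0, 2, 4, 0, 2, 1, 3, 4, 0, 4, 4, 3, 1, 3, 0, 4, 4, 1, 2, 2, 1, 0, 1, 2, 0, 2, 0, 2, 0, 2, 4, 2, 4, 4, 1, 3, 2, 3, 1, 1, 0, 4, 2, 3, 2], 1), ([], 0), ([2, 4, 4, 1, 3, 4, 2, 3, 3, 0, 4, 2, 1, 2, 4, 2, 0, 2, 0, 3, 4, 0, 1, 3, 3, 4, 2, 4, 4, 2, 3, 2, 3, 1, 2, 4, 0, 2, 2, 0, 1, 2, 3, 2, 1, 4, 4, 4, 2, 1, 0, 3, 0, 4, 3, 4, 3, 2, 4, 3], 0), ([], 0), ([], 0), ([], 0), ([4, 1, 0, 0, 2, 0, 1, 2, 2, 4, 4, 0, 4, 2, 1, 1, 3, 4, 0, 3, 0, 0, 1, 3, 3, 2, 1, 2, 3, 3, 4, 1, 1, 0, 4, 1, 1, 4, 4, 0, 2, 3, 0, 2, 1, 3, 4, 1, 1, 2, 3, 3, 2, 0, 2, 2, 2, 3, 4, 1], 1), ([0, 4, 0, 2, 3, 1, 3, 0, 3, 1, 2, 4, 3, 2, 4, 0, 1, 2, 0, 0, 3, 2, 3, 1, 0, 1, 3, 2, 2, 2,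 2, 3, 1, 1, 1, 1, 1, 4, 2, 0, 3, 2, 1, 4, 0, 4, 0, 3, 0, 3, 4, 1, 3, 4, 4, 0, 2, 2, 4, 2], 1), ([], 0), ([], 0), ([], 0), ([], 0), ([], 0), ([], 0), ([], 0), ([], 0), ([], 0), ([], 0), ([], 0), ([], 0), ([], 0), ([], 0), ([], 0), ([], 0), ([], 0), ([], 0), ([], 0), ([], 0), ([], 0), ([], 0), ([], 0), ([], 0), ([], 0), ([1, 4, 2, 2, 2, 1, 3, 4, 4, 1, 0, 1, 2, 0, 4, 3, 4, 2, 4, 0, 1, 0, 4, 3, 0, 3, 4, 0, 1, 1, 0, 0, 0, 0, 0, 1, 0, 4, 1, 1, 0, 2, 0, 0, 4, 2, 1, 1, 0, 1, 1, 1, 3, 3, 3, 4, 1, 4, 1, 0], 1), ([4, 3, 2, 1, 0, 2, 0, 0, 0, 4, 0, 0, 2, 3, 0, 1, 0, 4, 0, 1, 0, 1, 3, 3, 4, 0, 3, 4, 3, 2, 0, 0, 4, 3, 2, 3, 3, 0, 1, 0, 4, 3, 2, 2, 1, 1, 2, 1, 0, 4, 1, 3, 1, 3, 3, 3, 4, 0, 4, 4], 1), ([], 0), ([], 0), ([],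 0), ([], 0), ([], 0), ([], 0), ([], 0), ([], 0), ([], 0), ([], 0), ([], 0), ([1, 2, 1, 3, 4, 2, 4, 4, 3, 0, 3, 1, 4, 2, 3, 2, 3, 2, 1, 0, 1, 3, 4, 1, 2, 1, 2, 0, 3, 3, 1, 4, 4, 4, 3, 0, 0, 3, 4, 4, 0, 1, 0, 0, 2, 1, 4, 1, 2, 2, 0, 1, 2, 0, 2, 0, 0, 2, 0, 3], 1), ([], 0), ([], 0), ([], 0), ([], 0), ([2, 0, 3, 4, 4, 3, 3, 0, 1, 1, 4, 4, 1, 2, 0, 1, 3, 1, 3, 1, 1, 4, 4, 1, 3, 1, 3, 4, 4, 4, 1, 3, 1, 2, 1, 0, 3, 0, 4, 2, 0, 4, 3, 3, 3, 3, 2, 4, 0, 1, 2, 0, 0, 2, 4, 4, 4, 0, 2, 3], 1), ([], 0), ([], 0), ([], 0), ([], 0), ([], 0), ([], 0), ([3, 0, 4, 4, 3, 4, 4, 4, 0, 4, 2, 3, 3, 0, 1, 1, 0, 3, 4, 0, 2, 1, 4, 2, 2, 3, 4, 3, 3, 1, 2, 4, 4, 4, 4, 2, 2, 0, 0, 2, 0, 1, 1, 3, 3, 0, 1, 3, 2, 2, 3, 4, 3, 1, 0, 0, 3, 4, 4,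 4], 1), ([], 0), ([], 0), ([], 0), ([], 0), ([], 0), ([], 0), ([], 0), ([], 0), ([], 0), ([], 0), ([], 0), ([], 0), ([], 0), ([], 0), ([], 0), ([], 0), ([], 0), ([], 0), ([], 0), ([], 0), ([], 0), ([1, 1, 2, 3, 4, 4, 3, 0, 3, 4, 4, 3, 1, 0, 0, 1, 0, 2, 0, 1, 2, 3, 3, 1, 4, 3, 0, 3, 3, 4, 2, 3, 0, 4, 1, 4, 1, 1, 1, 4, 2, 1, 3, 1, 4, 0, 2, 4, 2, 3, 3, 1, 4, 3, 4, 0, 4, 1, 1, 1], 1), ([], 0), ([], 0), ([], 0), ([], 0), ([], 0), ([], 0), ([], 0), ([], 0), ([], 0), ([], 0), ([], 0), ([], 0), ([], 0), ([], 0), ([], 0), ([], 0), ([], 0), ([], 0), ([], 0), ([], 0), ([], 0), ([], 0), ([], 0), ([], 0), ([], 0), ([], 0), ([], 0), ([], 0), ([], 0), ([], 0), ([], 0), ([], 0), ([], 0), ([], 0), ([], 0), ([], 0), ([], 0),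 ([], 0), ([], 0), ([], 0), ([], 0), ([], 0), ([], 0), ([], 0), ([], 0), ([], 0), ([], 0), ([], 0), ([], 0), ([], 0), ([], 0), ([], 0), ([], 0), ([], 0), ([], 0), ([], 0), ([], 0), ([], 0), ([], 0), ([], 0), ([1, 0, 0, 4, 3, 4, 4, 4, 1, 0, 2, 2, 0, 2, 2, 1, 3, 2, 0, 1, 4, 3, 4, 4, 3, 3, 2, 1, 2, 3, 1, 3, 2, 2, 2, 3, 0, 4, 3, 0, 2, 1, 0, 2, 2, 1, 2, 2, 4, 2, 3, 3, 0, 0, 3, 1, 0, 1, 0, 3], 1), ([], 0), ([], 0), ([], 0), ([], 0), ([], 0), ([], 0), ([], 0), ([], 0), ([], 0), ([], 0), ([], 0), ([], 0), ([], 0), ([], 0), ([], 0), ([2, 1, 4, 3, 1, 2, 1, 1, 3, 4, 3, 1, 0, 4, 1, 4, 4, 3, 2, 2, 3, 4, 1, 0, 3, 1, 4, 3, 1, 0, 4, 1, 1, 3, 4, 1, 1, 1, 3, 0, 1, 4, 2, 4, 2, 1, 4, 3, 1, 4, 3, 1, 0, 2, 3, 4, 4, 4, 1, 4], 1), ([],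 0), ([], 0), ([], 0), ([], 0), ([], 0), ([], 0), ([], 0), ([], 0)]

set_option maxRecDepth 1000000 in
set_option maxHeartbeats 4000000 in
theorem el_c2a_check : ListM24 el_c2a ∧
    conjCheck el_gens el_c2a isInvL el_rep2 (k4_model.nodes k4_tabs idList k4_cert) el_c2a_data = true := by
  decide +kernel

def el_c2b : List ℕ := [23, 1, 2, 6, 16, 19, 17, 5, 12, 20, 9, 11, 8, 4, 7, 10, 22, 21, 18, 14, 15, 3, 13, 0]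

def el_c2b_data : List (List ℕ × ℕ) := [([], 0), ([], 0), ([], 0), ([], 0), ([], 0), ([], 0), ([], 0), ([], 0), ([], 0), ([], 0), ([], 0), ([], 0), ([], 0), ([], 0), ([], 0), ([], 0), ([], 0), ([], 0), ([], 0), ([], 0), ([], 0), ([], 0), ([], 0), ([], 0), ([], 0), ([], 0), ([], 0), ([], 0), ([], 0), ([], 0), ([], 0), ([], 0), ([], 0), ([], 0), ([], 0), ([], 0), ([], 0), ([], 0), ([], 0), ([4, 0, 0, 2, 1, 1, 2, 0, 3, 1, 1, 1, 1, 3, 1, 3, 3, 3, 0, 0, 0, 1, 1, 0, 3, 2, 3, 0, 1, 3, 2, 0, 0, 2, 2, 1, 3, 1, 2, 4, 0, 2, 0, 1, 1, 2, 3, 3, 4, 3, 0, 0, 4, 2, 2, 0, 0, 3, 1, 2], 0), ([], 0), ([], 0), ([], 0), ([], 0), ([], 0), ([], 0), ([], 0), ([], 0), ([], 0), ([], 0), ([], 0), ([], 0), ([0, 3, 4, 3, 2, 2, 4, 2, 3, 4,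 0, 4, 3, 3, 0, 3, 1, 1, 0, 1, 3, 3, 3, 2, 0, 1, 1, 0, 4, 0, 4, 0, 1, 1, 2, 3, 4, 3, 3, 2, 3, 3, 4, 0, 1, 2, 4, 3, 4, 1, 3, 0, 4, 3, 3, 2, 2, 0, 1, 1], 0), ([], 0), ([], 0), ([], 0), ([], 0), ([], 0), ([], 0), ([], 0), ([], 0), ([], 0), ([], 0), ([], 0), ([], 0), ([], 0), ([], 0), ([], 0), ([], 0), ([1, 3, 0, 1, 3, 0, 2, 1, 3, 0, 2, 2, 2, 2, 3, 0, 0, 1, 1, 1, 2, 3, 1, 3, 4, 1, 2, 0, 4, 2, 0, 0, 3, 0, 4, 1, 4, 4, 2, 3, 4, 2, 3, 1, 1, 1, 0, 0, 0, 0, 2, 2, 4, 0, 3, 2, 1, 0, 1, 1], 0), ([], 0), ([], 0), ([], 0), ([], 0), ([], 0), ([], 0), ([], 0), ([], 0), ([], 0), ([], 0), ([], 0), ([], 0), ([], 0), ([], 0), ([], 0), ([], 0), ([], 0), ([], 0), ([], 0), ([], 0), ([], 0), ([], 0), ([], 0), ([], 0), ([], 0), ([], 0),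 ([], 0), ([], 0), ([], 0), ([], 0), ([0, 4, 2, 0, 2, 4, 4, 2, 0, 1, 2, 4, 1, 2, 1, 1, 0, 4, 3, 4, 4, 0, 2, 3, 0, 2, 3, 3, 4, 0, 0, 3, 0, 3, 0, 4, 0, 0, 4, 0, 4, 3, 2, 2, 1, 1, 3, 2, 4, 0, 3, 0, 4, 4, 2, 4, 4, 1, 2, 2], 0), ([], 0), ([], 0), ([], 0), ([], 0), ([], 0), ([], 0), ([], 0), ([], 0), ([], 0), ([], 0), ([], 0), ([], 0), ([], 0), ([], 0), ([], 0), ([], 0), ([], 0), ([], 0), ([], 0), ([], 0), ([], 0), ([], 0), ([], 0), ([], 0), ([], 0), ([], 0), ([], 0), ([], 0), ([], 0), ([], 0), ([2, 4, 3, 3, 0, 1, 1, 3, 3, 2, 2, 0, 2, 3, 4, 3, 3, 3, 2, 4, 4, 4, 0, 0, 0, 4, 2, 3, 0, 1, 2, 2, 3, 2, 4, 4, 3, 3, 0, 4, 4, 1, 4, 0, 2, 3, 2, 0, 2, 3, 0, 1, 2, 3, 3, 2, 4, 1, 4, 0], 0), ([], 0), ([], 0), ([], 0), ([], 0), ([],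 0), ([], 0), ([], 0), ([], 0), ([], 0), ([], 0), ([], 0), ([], 0), ([], 0), ([], 0), ([], 0), ([], 0), ([], 0), ([], 0), ([], 0), ([], 0), ([], 0), ([], 0), ([], 0), ([], 0), ([], 0), ([], 0), ([], 0), ([], 0), ([], 0), ([], 0), ([], 0), ([], 0), ([], 0), ([], 0), ([], 0), ([], 0), ([], 0), ([], 0), ([], 0), ([], 0), ([], 0), ([], 0), ([], 0), ([], 0), ([], 0), ([], 0), ([], 0), ([], 0), ([], 0), ([], 0), ([], 0), ([], 0), ([], 0), ([], 0), ([], 0), ([2, 2, 4, 2, 1, 4, 3, 3, 4, 3, 4, 3, 2, 3, 2, 3, 1, 1, 3, 2, 3, 4, 1, 4, 3, 4, 3, 3, 1, 1, 4, 2, 2, 0, 0, 0, 0, 2, 3, 0, 2, 0, 0, 2, 3, 4, 0, 4, 4, 4, 1, 2, 0, 3, 0, 1, 4, 4, 2, 1], 0), ([], 0), ([1, 0, 4, 3, 2, 0, 3, 1, 0, 4, 2, 1, 2, 1, 0, 4, 2, 2, 2, 2, 2, 4,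 4, 4, 3, 0, 3, 1, 1, 4, 0, 3, 4, 0, 2, 3, 4, 1, 3, 2, 3, 4, 1, 3, 3, 1, 0, 4, 2, 4, 2, 4, 2, 2, 0, 0, 2, 2, 1, 1], 0), ([], 0), ([], 0), ([], 0), ([], 0), ([], 0), ([], 0), ([], 0), ([], 0), ([0, 1, 3, 1, 0, 4, 3, 4, 1, 2, 4, 2, 2, 3, 2, 4, 4, 3, 4, 3, 1, 4, 2, 4, 4, 3, 0, 0, 2, 3, 1, 4, 3, 4, 2, 0, 4, 0, 3, 4, 2, 4, 2, 2, 1, 0, 1, 4, 4, 0, 1, 0, 3, 0, 0, 3, 0, 4, 4, 1], 0), ([], 0), ([], 0), ([], 0), ([], 0), ([], 0), ([], 0), ([], 0), ([], 0), ([], 0), ([0, 3, 3, 0, 0, 1, 1, 4, 0, 2, 0, 2, 2, 4, 0, 4, 1, 4, 2, 0, 2, 2, 4, 3, 2, 2, 4, 3, 4, 1, 4, 2, 4, 4, 0, 0, 2, 1, 0, 0, 0, 4, 1, 0, 4, 3, 1, 2, 0, 4, 1, 0, 4, 3, 4, 2, 1, 1, 1, 2], 0), ([], 0), ([], 0), ([], 0), ([], 0), ([], 0), ([], 0), ([], 0), ([], 0),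 ([], 0), ([], 0), ([], 0), ([2, 1, 4, 3, 3, 0, 2, 4, 3, 2, 3, 2, 1, 4, 4, 4, 2, 2, 4, 4, 0, 3, 2, 2, 3, 0, 2, 2, 1, 1, 3, 2, 3, 3, 1, 0, 0, 4, 0, 0, 0, 4, 2, 1, 0, 1, 4, 4, 1, 2, 4, 3, 3, 2, 4, 1, 1, 3, 4, 1], 0), ([], 0), ([], 0), ([], 0), ([], 0), ([], 0), ([], 0), ([], 0), ([], 0), ([], 0), ([4, 2, 2, 0, 2, 4, 1, 2, 4, 3, 3, 2, 2, 1, 4, 2, 4, 3, 1, 0, 2, 2, 4, 0, 0, 1, 2, 4, 4, 3, 1, 4, 3, 4, 2, 2, 2, 4, 3, 4, 1, 2, 2, 1, 4, 2, 0, 1, 2, 1, 1, 0, 3, 0, 0, 4, 1, 3, 0, 4], 0), ([], 0), ([], 0), ([], 0), ([], 0), ([], 0), ([], 0), ([], 0), ([], 0), ([], 0), ([], 0), ([0, 4, 1, 0, 1, 4, 4, 0, 3, 4, 3, 1, 3, 4, 3, 3, 3, 1, 3, 1, 4, 3, 0, 0, 1, 3, 1, 2, 2, 2, 4, 0, 3, 2, 1, 0, 1, 3, 1, 0, 1, 3, 1, 1, 2, 1, 0, 3,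 2, 3, 2, 4, 1, 1, 2, 1, 3, 4, 2, 1], 0), ([], 0), ([], 0), ([], 0), ([], 0), ([], 0), ([], 0), ([], 0), ([], 0), ([], 0), ([], 0), ([2, 0, 1, 4, 3, 1, 0, 1, 2, 1, 1, 1, 4, 4, 4, 4, 2, 2, 3, 0, 0, 1, 1, 1, 3, 2, 2, 0, 3, 1, 2, 3, 0, 3, 3, 3, 0, 3, 3, 2, 1, 4, 0, 3, 3, 3, 0, 0, 2, 2, 1, 1, 3, 4, 2, 3, 0, 2, 1, 4], 0), ([], 0), ([], 0), ([], 0), ([], 0), ([], 0), ([], 0), ([], 0), ([], 0), ([], 0), ([], 0), ([], 0), ([], 0), ([], 0), ([], 0), ([], 0), ([], 0), ([], 0), ([], 0), ([], 0), ([], 0), ([], 0), ([], 0), ([], 0), ([], 0), ([], 0), ([], 0), ([], 0), ([], 0), ([], 0), ([], 0), ([], 0), ([], 0), ([], 0), ([], 0), ([], 0), ([], 0), ([], 0), ([], 0), ([], 0), ([], 0), ([], 0), ([], 0), ([], 0), ([], 0), ([],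 0), ([], 0), ([], 0), ([], 0), ([], 0), ([], 0), ([], 0), ([], 0), ([], 0), ([], 0), ([], 0), ([], 0), ([], 0), ([], 0), ([], 0), ([], 0), ([], 0), ([], 0), ([], 0), ([], 0), ([], 0), ([], 0), ([], 0), ([], 0), ([4, 2, 0, 4, 0, 2, 0, 1, 0, 2, 2, 1, 0, 1, 2, 4, 3, 3, 0, 2, 3, 4, 1, 4, 0, 4, 3, 1, 3, 2, 4, 1, 2, 3, 4, 4, 2, 3, 2, 3, 1, 3, 4, 3, 0, 3, 1, 0, 4, 0, 0, 4, 0, 4, 3, 1, 0, 4, 3, 3], 0), ([], 0), ([], 0), ([], 0), ([], 0), ([], 0), ([], 0), ([], 0), ([], 0), ([], 0), ([], 0), ([], 0), ([], 0), ([], 0), ([], 0), ([], 0), ([], 0), ([], 0), ([], 0), ([], 0), ([], 0), ([], 0), ([], 0), ([], 0), ([], 0), ([0, 4, 0, 2, 2, 3, 2, 0, 2, 3, 3, 3, 2, 3, 3, 2, 3, 0, 3, 2, 0, 4, 2, 3, 0, 3, 0, 3, 2, 0, 2, 0, 3, 1,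 3, 3, 3, 4, 0, 0, 0, 0, 0, 2, 3, 0, 4, 4, 2, 1, 3, 0, 0, 4, 3, 0, 3, 1, 3, 3], 0), ([], 0), ([], 0), ([], 0), ([], 0), ([], 0), ([], 0), ([], 0), ([2, 3, 2, 4, 4, 2, 2, 0, 0, 3, 1, 3, 0, 4, 1, 3, 3, 0, 2, 0, 3, 1, 0, 1, 0, 4, 4, 1, 2, 0, 4, 4, 1, 1, 3, 4, 4, 3, 4, 2, 4, 3, 2, 0, 2, 3, 4, 1, 0, 0, 1, 1, 1, 3, 2, 2, 1, 3, 2, 2], 0), ([], 0), ([], 0), ([], 0), ([], 0), ([], 0), ([2, 4, 4, 4, 3, 4, 1, 4, 3, 3, 4, 0, 4, 0, 1, 3, 2, 0, 0, 4, 3, 3, 3, 1, 2, 1, 0, 4, 0, 3, 0, 3, 3, 3, 2, 3, 2, 4, 4, 1, 0, 3, 1, 1, 2, 2, 3, 3, 4, 2, 2, 4, 0, 3, 1, 3, 2, 1, 4, 2], 0), ([], 0), ([], 0), ([], 0), ([], 0), ([], 0), ([], 0), ([], 0), ([], 0), ([], 0), ([], 0), ([], 0), ([], 0), ([], 0), ([], 0), ([], 0), ([], 0), ([0, 1,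 1, 1, 0, 0, 4, 3, 2, 4, 0, 3, 0, 1, 1, 2, 1, 1, 1, 0, 4, 4, 1, 0, 3, 1, 2, 2, 4, 4, 0, 2, 1, 1, 2, 2, 2, 2, 2, 2, 4, 1, 4, 3, 2, 2, 1, 1, 2, 1, 3, 1, 4, 1, 3, 3, 0, 0, 2, 0], 0), ([], 0), ([], 0), ([], 0), ([], 0), ([], 0), ([], 0), ([], 0), ([], 0), ([], 0), ([], 0), ([], 0), ([], 0), ([], 0), ([], 0), ([], 0), ([], 0), ([], 0), ([], 0), ([], 0), ([], 0), ([], 0), ([], 0), ([], 0), ([], 0), ([], 0), ([], 0), ([], 0), ([], 0), ([], 0), ([], 0), ([], 0), ([], 0), ([], 0), ([], 0), ([], 0), ([], 0), ([], 0), ([], 0), ([], 0), ([], 0), ([], 0), ([], 0), ([], 0), ([], 0), ([], 0), ([], 0), ([], 0), ([], 0), ([], 0), ([], 0), ([], 0), ([], 0), ([], 0), ([1, 2, 2, 2, 0, 3, 3, 4, 4, 3, 4, 1, 2, 4, 3, 4, 1, 1, 1, 3,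 1, 4, 3, 2, 1, 4, 0, 1, 0, 1, 2, 0, 0, 3, 4, 3, 1, 0, 0, 3, 0, 1, 1, 3, 0, 4, 3, 3, 4, 4, 4, 0, 2, 0, 4, 4, 1, 4, 0, 2], 0), ([], 0), ([], 0), ([1, 2, 2, 2, 4, 0, 1, 1, 1, 1, 3, 4, 1, 0, 3, 3, 3, 3, 3, 4, 0, 3, 4, 0, 2, 1, 1, 2, 3, 2, 1, 3, 2, 0, 0, 4, 2, 4, 0, 0, 0, 3, 3, 4, 0, 3, 4, 4, 4, 3, 2, 3, 4, 0, 2, 0, 2, 2, 0, 1], 0), ([], 0), ([], 0), ([], 0), ([], 0), ([], 0), ([], 0), ([], 0), ([], 0), ([], 0), ([], 0), ([], 0), ([], 0), ([], 0), ([], 0), ([], 0), ([], 0), ([], 0), ([], 0), ([], 0), ([], 0), ([], 0), ([], 0), ([], 0), ([3, 0, 2, 2, 2, 2, 0, 4, 4, 4, 0, 2, 3, 3, 0, 4, 1, 4, 3, 2, 3, 2, 3, 4, 1, 0, 2, 1, 1, 0, 0, 2, 0, 1, 2, 0, 1, 2, 0, 3, 1, 3, 4, 4, 3, 0, 2, 3, 2, 0, 1, 0, 3, 1, 3, 1, 4, 4, 2, 3],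 0), ([], 0), ([], 0), ([], 0), ([], 0), ([], 0), ([3, 2, 1, 2, 3, 1, 4, 2, 0, 2, 2, 0, 2, 2, 2, 4, 2, 0, 3, 2, 1, 3, 2, 2, 3, 1, 1, 3, 4, 1, 0, 3, 4, 2, 4, 2, 0, 0, 0, 4, 4, 0, 1, 4, 2, 1, 1, 4, 3, 2, 3, 2, 0, 3, 3, 3, 1, 1, 4, 3], 0), ([], 0), ([], 0), ([], 0), ([], 0), ([], 0), ([], 0), ([], 0), ([2, 0, 2, 4, 3, 0, 4, 2, 4, 3, 2, 0, 0, 0, 0, 3, 3, 2, 4, 2, 4, 1, 3, 4, 1, 4, 0, 0, 1, 3, 2, 4, 3, 2, 4, 3, 4, 1, 3, 3, 4, 3, 2, 3, 0, 0, 2, 2, 1, 3, 2, 4, 1, 3, 3, 0, 4, 1, 2, 4], 0), ([], 0), ([], 0), ([], 0), ([], 0), ([], 0), ([], 0), ([], 0), ([3, 3, 4, 4, 2, 0, 4, 2, 3, 3, 0, 0, 2, 4, 4, 2, 4, 3, 0, 4, 4, 4, 3, 2, 1, 3, 1, 2, 1, 4, 3, 2, 3, 2, 3, 1, 1, 4, 2, 4, 4, 3, 3, 3, 3, 0, 1, 3, 3, 0, 0, 2, 1, 1, 2, 3,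 3, 0, 0, 0], 0), ([], 0), ([], 0), ([], 0), ([], 0), ([4, 4, 2, 0, 0, 0, 0, 1, 1, 0, 3, 3, 2, 2, 4, 1, 4, 0, 3, 4, 3, 3, 3, 1, 1, 1, 1, 4, 0, 4, 2, 4, 1, 4, 1, 3, 2, 1, 0, 3, 2, 0, 4, 2, 3, 4, 0, 4, 2, 3, 2, 3, 1, 3, 3, 1, 1, 0, 1, 2], 0), ([], 0), ([], 0), ([], 0), ([], 0), ([], 0), ([], 0), ([], 0), ([0, 0, 2, 1, 2, 1, 0, 0, 1, 3, 0, 1, 4, 2, 0, 1, 4, 3, 4, 4, 0, 2, 4, 1, 3, 3, 4, 4, 4, 0, 3, 3, 1, 3, 2, 2, 3, 2, 2, 2, 2, 2, 3, 2, 4, 2, 1, 0, 4, 1, 4, 0, 1, 4, 3, 2, 4, 0, 4, 4], 0), ([], 0), ([], 0), ([], 0), ([], 0), ([], 0), ([], 0), ([], 0), ([], 0), ([], 0), ([], 0), ([], 0), ([], 0), ([], 0), ([], 0), ([], 0), ([], 0), ([], 0), ([], 0), ([], 0), ([], 0), ([], 0), ([], 0), ([], 0), ([], 0), ([], 0), ([],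 0), ([], 0), ([], 0), ([1, 4, 2, 2, 4, 4, 3, 3, 3, 4, 4, 4, 0, 4, 0, 3, 3, 3, 3, 0, 3, 0, 3, 2, 0, 0, 0, 2, 0, 0, 0, 4, 4, 3, 4, 1, 3, 3, 0, 2, 0, 4, 4, 1, 1, 4, 1, 2, 4, 3, 1, 2, 1, 2, 3, 2, 1, 2, 0, 1], 0), ([], 0), ([], 0), ([], 0), ([], 0), ([], 0), ([], 0), ([], 0), ([], 0), ([], 0), ([], 0), ([], 0), ([], 0), ([], 0), ([], 0), ([], 0), ([], 0), ([], 0), ([], 0), ([], 0), ([], 0), ([], 0), ([], 0), ([], 0), ([], 0), ([], 0), ([], 0), ([], 0), ([], 0), ([], 0), ([], 0), ([], 0), ([4, 0, 0, 2, 4, 0, 0, 3, 3, 0, 2, 0, 4, 0, 0, 3, 1, 3, 4, 4, 4, 4, 0, 1, 0, 1, 2, 3, 0, 0, 3, 2, 0, 4, 1, 2, 4, 3, 3, 4, 3, 2, 0, 4, 0, 1, 4, 2, 3, 0, 0, 2, 4, 3, 1, 4, 0, 3, 1, 2], 0), ([], 0), ([], 0), ([], 0), ([], 0), ([], 0),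 ([], 0), ([], 0), ([], 0), ([], 0), ([], 0), ([], 0), ([], 0), ([], 0), ([], 0), ([], 0), ([], 0), ([], 0), ([], 0), ([], 0), ([], 0), ([], 0), ([], 0), ([], 0), ([], 0), ([], 0), ([], 0), ([], 0), ([], 0), ([], 0), ([], 0), ([2, 4, 2, 0, 3, 0, 3, 2, 1, 1, 0, 4, 2, 1, 4, 4, 1, 2, 0, 1, 2, 4, 0, 0, 3, 1, 1, 2, 4, 1, 3, 1, 0, 2, 4, 2, 2, 3, 1, 4, 2, 1, 0, 2, 1, 1, 0, 1, 1, 3, 2, 4, 3, 0, 1, 2, 4, 4, 4, 0], 0), ([], 0), ([], 0), ([], 0), ([], 0), ([], 0), ([], 0), ([], 0), ([], 0), ([], 0), ([], 0), ([], 0), ([], 0), ([], 0), ([], 0), ([], 0), ([], 0), ([], 0), ([], 0), ([], 0), ([], 0), ([], 0), ([], 0), ([], 0), ([], 0), ([], 0), ([], 0), ([4, 0, 3, 0, 3, 3, 4, 3, 3, 2, 3, 1, 3, 3, 4, 0, 0, 0, 3, 4, 0, 2, 0,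 4, 2, 0, 2, 3, 4, 0, 0, 2, 1, 1, 3, 4, 0, 3, 2, 4, 2, 3, 1, 4, 3, 1, 4, 2, 0, 3, 0, 2, 3, 2, 1, 4, 2, 0, 2, 0], 0), ([], 0), ([], 0), ([], 0), ([], 0), ([], 0), ([], 0), ([], 0), ([], 0), ([], 0), ([], 0), ([], 0), ([], 0), ([], 0), ([], 0), ([], 0), ([], 0), ([], 0), ([], 0), ([], 0), ([], 0), ([], 0), ([], 0), ([], 0), ([], 0), ([], 0), ([], 0), ([], 0), ([], 0), ([], 0), ([], 0), ([], 0), ([4, 4, 1, 3, 1, 4, 1, 1, 4, 4, 2, 2, 2, 1, 4, 0, 1, 4, 2, 0, 1, 2, 0, 2, 0, 2, 4, 0, 3, 2, 1, 1, 1, 1, 1, 2, 2, 4, 2, 0, 1, 4, 1, 3, 1, 4, 4, 1, 0, 1, 3, 4, 2, 0, 2, 1, 4, 0, 4, 2], 0), ([], 0), ([], 0), ([], 0), ([], 0), ([], 0), ([], 0), ([], 0), ([], 0), ([], 0), ([], 0), ([], 0), ([], 0), ([], 0), ([2, 4, 0, 4, 2, 1,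 2, 0, 1, 3, 0, 3, 3, 4, 4, 0, 2, 3, 1, 3, 3, 0, 3, 3, 4, 1, 2, 0, 3, 2, 1, 2, 4, 3, 0, 2, 4, 3, 2, 1, 0, 1, 1, 2, 3, 2, 2, 3, 2, 0, 0, 4, 3, 4, 4, 2, 3, 4, 1, 3], 0), ([], 0), ([4, 1, 2, 4, 0, 3, 1, 4, 3, 3, 2, 0, 4, 4, 3, 4, 3, 4, 1, 1, 1, 0, 4, 4, 1, 4, 2, 1, 0, 4, 2, 2, 2, 4, 4, 0, 2, 0, 2, 4, 3, 2, 4, 1, 2, 1, 4, 1, 2, 1, 3, 3, 0, 4, 2, 2, 0, 3, 0, 0], 0), ([], 0), ([], 0), ([], 0), ([], 0), ([], 0), ([], 0), ([], 0), ([], 0), ([], 0), ([], 0), ([], 0), ([], 0), ([], 0), ([], 0), ([], 0), ([0, 3, 4, 0, 2, 1, 4, 0, 1, 2, 1, 2, 4, 1, 4, 2, 4, 1, 0, 0, 0, 1, 1, 4, 4, 1, 1, 4, 2, 3, 4, 2, 2, 2, 4, 2, 0, 2, 4, 3, 0, 0, 3, 1, 0, 4, 2, 2, 1, 2, 1, 0, 4, 0, 3, 4, 4, 2, 2, 0], 0), ([], 0), ([], 0), ([], 0), ([],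 0), ([], 0), ([], 0), ([], 0), ([], 0), ([], 0), ([], 0), ([], 0), ([], 0), ([], 0), ([], 0), ([], 0), ([], 0), ([], 0), ([], 0), ([], 0), ([], 0), ([], 0), ([], 0), ([], 0), ([], 0), ([], 0), ([], 0), ([2, 2, 0, 4, 0, 2, 2, 1, 0, 4, 0, 2, 1, 4, 0, 4, 1, 2, 2, 1, 1, 2, 4, 0, 3, 4, 2, 2, 2, 4, 0, 0, 4, 1, 3, 3, 4, 2, 4, 3, 2, 3, 2, 2, 3, 3, 2, 4, 1, 1, 4, 3, 3, 1, 3, 3, 2, 4, 0, 1], 0), ([], 0), ([], 0), ([], 0), ([], 0), ([], 0), ([], 0), ([], 0), ([], 0), ([], 0), ([], 0), ([], 0), ([], 0), ([], 0), ([], 0), ([], 0), ([], 0), ([], 0), ([], 0), ([], 0), ([], 0), ([], 0), ([], 0), ([], 0), ([], 0), ([], 0), ([], 0), ([], 0), ([], 0), ([], 0), ([], 0), ([], 0), ([], 0), ([], 0), ([], 0), ([], 0), ([], 0), ([],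 0), ([], 0), ([], 0), ([], 0), ([], 0), ([], 0), ([], 0), ([], 0), ([], 0), ([], 0), ([], 0), ([], 0), ([], 0), ([], 0), ([], 0), ([], 0), ([], 0), ([], 0), ([], 0), ([], 0), ([], 0), ([], 0), ([], 0), ([], 0), ([], 0), ([], 0), ([], 0), ([], 0), ([], 0), ([], 0), ([], 0), ([], 0), ([], 0), ([], 0), ([], 0), ([], 0), ([], 0), ([], 0), ([], 0), ([], 0), ([], 0), ([], 0), ([], 0), ([], 0), ([], 0), ([], 0), ([], 0), ([], 0), ([], 0), ([], 0), ([], 0), ([], 0), ([], 0), ([], 0), ([], 0), ([], 0), ([], 0), ([], 0), ([], 0), ([], 0), ([], 0), ([], 0), ([], 0), ([1, 1, 0, 2, 3, 1, 0, 2, 2, 4, 4, 1, 4, 4, 3, 3, 0, 2, 4, 1, 2, 3, 2, 3, 2, 3, 3, 4, 0, 3, 4, 4, 2, 0, 0, 1, 0, 4, 3, 3, 4, 3, 4, 2, 3, 1, 2, 3, 3, 3, 4,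 2, 4, 1, 1, 1, 4, 3, 3, 0], 0), ([], 0), ([], 0), ([], 0), ([], 0), ([], 0), ([], 0), ([], 0), ([], 0), ([], 0), ([], 0), ([], 0), ([], 0), ([], 0), ([], 0), ([], 0), ([], 0), ([], 0), ([], 0), ([], 0), ([], 0), ([], 0), ([], 0), ([], 0), ([], 0), ([], 0), ([4, 4, 0, 0, 4, 3, 0, 0, 0, 1, 0, 4, 3, 1, 0, 0, 2, 2, 0, 1, 3, 2, 0, 0, 2, 0, 3, 2, 4, 3, 3, 3, 0, 2, 2, 2, 3, 0, 0, 2, 1, 0, 0, 1, 0, 2, 3, 3, 4, 3, 3, 3, 4, 2, 1, 3, 3, 4, 0, 4], 0), ([], 0), ([], 0), ([], 0), ([], 0), ([], 0), ([], 0), ([], 0), ([], 0), ([], 0), ([], 0), ([], 0), ([], 0), ([], 0), ([], 0), ([], 0), ([], 0), ([], 0), ([], 0), ([], 0), ([], 0), ([], 0), ([], 0), ([3, 4, 2, 3, 3, 3, 2, 3, 2, 2, 3, 2, 4, 4, 0, 1, 4, 1, 3, 1, 4, 4, 0, 3, 0,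 4, 0, 2, 0, 3, 0, 4, 0, 3, 3, 4, 3, 2, 3, 2, 1, 1, 4, 2, 2, 1, 1, 1, 3, 0, 4, 3, 1, 1, 0, 4, 2, 0, 3, 0], 0), ([], 0), ([], 0), ([], 0), ([], 0), ([], 0), ([], 0), ([], 0), ([], 0), ([], 0), ([], 0), ([], 0), ([], 0), ([], 0), ([], 0), ([], 0), ([], 0), ([], 0), ([], 0), ([], 0), ([], 0), ([], 0), ([], 0), ([], 0), ([], 0), ([], 0), ([], 0), ([], 0), ([], 0), ([], 0), ([], 0), ([], 0), ([], 0), ([], 0), ([], 0), ([], 0), ([], 0), ([], 0), ([], 0), ([], 0), ([], 0), ([], 0), ([], 0), ([], 0), ([1, 2, 2, 3, 1, 3, 2, 3, 1, 3, 2, 1, 3, 4, 0, 2, 4, 2, 4, 3, 4, 2, 2, 4, 0, 1, 1, 4, 3, 0, 0, 0, 3, 4, 1, 0, 1, 4, 0, 3, 0, 4, 3, 2, 4, 2, 4, 1, 0, 0, 4, 0, 3, 4, 0, 1, 0, 1, 2, 3], 0), ([], 0), ([], 0), ([], 0), ([], 0),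 ([], 0), ([], 0), ([], 0), ([], 0), ([], 0), ([], 0), ([], 0), ([], 0), ([], 0), ([], 0), ([], 0), ([], 0), ([], 0), ([], 0), ([], 0), ([], 0), ([], 0), ([], 0), ([], 0), ([], 0), ([], 0), ([], 0), ([], 0), ([], 0), ([], 0), ([], 0), ([], 0), ([], 0), ([], 0), ([], 0), ([], 0), ([], 0), ([], 0), ([], 0), ([], 0), ([], 0), ([], 0), ([], 0), ([], 0), ([], 0), ([], 0), ([], 0), ([], 0), ([], 0), ([], 0), ([], 0), ([], 0), ([], 0), ([], 0), ([], 0), ([], 0), ([], 0), ([], 0), ([], 0), ([], 0), ([4, 1, 0, 1, 1, 3, 1, 3, 4, 3, 2, 1, 4, 0, 4, 4, 2, 0, 2, 4, 0, 4, 0, 2, 3, 4, 4, 2, 3, 1, 4, 2, 0, 2, 3, 0, 4, 1, 1, 2, 4, 2, 0, 2, 0, 2, 0, 3, 4, 4, 3, 4, 0, 4, 1, 4, 4, 3, 4, 3], 0), ([], 0), ([], 0), ([], 0)]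

set_option maxRecDepth 1000000 in
set_option maxHeartbeats 4000000 in
theorem el_c2b_check : ListM24 el_c2b ∧
    conjCheck el_gens el_c2b isInvL el_rep2 (k4_model.nodes k4_tabs idList k4_cert) el_c2b_data = true := by
  decide +kernel

def el_c3a : List ℕ := [1, 23, 3, 22, 20, 15, 17, 2, 10, 16, 7, 6, 8, 11, 12, 9, 4, 21, 13, 5, 18, 14, 19, 0]

def el_c3a_data : List (List ℕ × ℕ) := [([], 0), ([], 0), ([], 0), ([], 0), ([], 0), ([], 0), ([], 0), ([], 0), ([], 0), ([], 0), ([], 0), ([], 0), ([], 0), ([], 0), ([], 0), ([], 0), ([], 0), ([], 0), ([], 0), ([], 0), ([], 0), ([], 0), ([], 0), ([], 0), ([], 0), ([], 0), ([], 0), ([], 0), ([], 0), ([], 0), ([0, 2, 2, 4, 4, 3, 3, 1, 3, 2, 0, 1, 3, 2, 4, 3, 2, 3, 2,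 3, 1, 3, 0, 2, 3, 4, 0, 2, 0, 2, 4, 1, 0, 0, 4, 3, 4, 1, 1, 1, 3, 4, 3, 4, 0, 0, 0, 1, 0, 3, 1, 0, 4, 4, 3, 4, 4, 4, 4, 3], 1), ([], 0), ([], 0), ([], 0), ([], 0), ([], 0), ([], 0), ([], 0), ([], 0), ([], 0), ([], 0), ([], 0), ([], 0), ([], 0), ([], 0), ([], 0), ([], 0), ([], 0), ([], 0), ([], 0), ([], 0), ([], 0), ([], 0), ([3, 4, 4, 1, 2, 0, 3, 2, 3, 1, 3, 4, 3, 4, 3, 2, 1, 2, 3, 3, 2, 3, 1, 3, 4, 3, 1, 1, 1, 1, 0, 3, 2, 4, 2, 0, 2, 1, 0, 2, 3, 3, 3, 1, 2, 4, 0, 3, 1, 2, 0, 2, 4, 1, 4, 3, 0, 3, 2, 1], 1), ([], 0), ([], 0), ([], 0), ([], 0), ([], 0), ([], 0), ([], 0), ([], 0), ([], 0), ([], 0), ([], 0), ([], 0), ([], 0), ([], 0), ([], 0), ([0, 3, 4, 3, 4, 3, 4, 1, 4, 2, 2, 4, 3, 0, 4, 3, 4, 2, 4, 3, 3, 2, 1,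 2, 3, 1, 0, 1, 4, 4, 4, 4, 0, 1, 1, 0, 2, 2, 3, 4, 4, 0, 2, 2, 3, 3, 2, 2, 3, 3, 3, 2, 3, 4, 3, 4, 2, 2, 0, 1], 0), ([0, 3, 1, 0, 0, 0, 1, 4, 2, 1, 2, 2, 2, 2, 2, 1, 0, 3, 2, 0, 4, 0, 4, 2, 2, 4, 3, 4, 2, 1, 4, 2, 0, 0, 1, 0, 1, 1, 2, 3, 0, 1, 2, 4, 0, 3, 3, 3, 1, 3, 1, 1, 4, 1, 1, 4, 0, 3, 0, 2], 1), ([], 0), ([], 0), ([], 0), ([], 0), ([], 0), ([], 0), ([], 0), ([], 0), ([], 0), ([], 0), ([], 0), ([], 0), ([2, 2, 0, 2, 0, 0, 3, 0, 1, 2, 1, 1, 2, 2, 2, 2, 4, 3, 1, 4, 2, 3, 0, 3, 1, 1, 2, 0, 1, 3, 1, 2, 2, 3, 3, 2, 0, 4, 3, 2, 3, 0, 3, 2, 3, 4, 4, 0, 3, 0, 2, 1, 3, 0, 3, 4, 4, 0, 3, 3], 0), ([], 0), ([], 0), ([], 0), ([], 0), ([], 0), ([], 0), ([], 0), ([], 0), ([], 0), ([], 0), ([], 0), ([], 0), ([], 0), ([],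 0), ([], 0), ([0, 3, 3, 4, 1, 1, 1, 2, 2, 1, 4, 4, 4, 1, 0, 2, 4, 3, 1, 0, 1, 1, 3, 0, 2, 3, 2, 3, 1, 0, 1, 1, 4, 0, 3, 3, 0, 2, 0, 4, 1, 0, 3, 1, 2, 0, 3, 2, 1, 2, 2, 0, 1, 1, 1, 1, 1, 3, 2, 4], 1), ([], 0), ([], 0), ([], 0), ([], 0), ([], 0), ([], 0), ([], 0), ([4, 0, 1, 4, 3, 4, 1, 3, 0, 0, 2, 3, 0, 1, 0, 1, 0, 3, 4, 4, 4, 0, 2, 2, 2, 2, 4, 3, 0, 3, 0, 3, 2, 2, 3, 1, 2, 4, 4, 1, 2, 2, 2, 3, 2, 4, 3, 0, 3, 4, 0, 3, 2, 4, 3, 1, 3, 1, 2, 4], 1), ([], 0), ([2, 2, 0, 4, 3, 0, 4, 3, 4, 3, 4, 0, 0, 1, 4, 3, 3, 2, 1, 2, 0, 0, 3, 0, 1, 2, 4, 4, 0, 4, 4, 1, 1, 2, 2, 3, 0, 2, 1, 1, 0, 0, 2, 4, 0, 3, 0, 2, 4, 4, 2, 0, 1, 3, 4, 2, 0, 2, 1, 0], 1), ([], 0), ([], 0), ([], 0), ([0, 4, 3, 4, 0, 0, 1, 3, 4, 0, 2, 1, 3, 4,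 2, 1, 1, 0, 1, 2, 0, 1, 4, 0, 0, 1, 0, 3, 2, 2, 3, 3, 0, 2, 1, 3, 0, 4, 3, 2, 4, 0, 2, 2, 4, 3, 4, 4, 3, 1, 2, 4, 0, 0, 0, 0, 1, 2, 0, 3], 1), ([], 0), ([], 0), ([], 0), ([], 0), ([], 0), ([], 0), ([], 0), ([], 0), ([], 0), ([], 0), ([], 0), ([], 0), ([], 0), ([], 0), ([0, 2, 3, 4, 0, 0, 4, 2, 2, 2, 2, 0, 2, 2, 3, 0, 0, 2, 3, 4, 3, 1, 3, 3, 1, 2, 3, 1, 4, 1, 4, 2, 2, 2, 2, 0, 2, 1, 0, 2, 0, 4, 1, 0, 3, 0, 4, 2, 1, 0, 3, 2, 1, 0, 0, 1, 1, 0, 4, 3], 1), ([], 0), ([], 0), ([], 0), ([], 0), ([], 0), ([], 0), ([], 0), ([], 0), ([], 0), ([], 0), ([], 0), ([0, 3, 3, 1, 1, 2, 0, 2, 4, 3, 1, 0, 1, 4, 4, 4, 1, 3, 0, 4, 1, 3, 3, 2, 3, 4, 4, 3, 4, 0, 2, 1, 0, 2, 3, 0, 0, 4, 2, 2, 3, 0, 0, 0, 4, 1, 0, 2, 4, 1, 3, 4, 4, 4,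 2, 3, 4, 2, 4, 1], 1), ([], 0), ([], 0), ([2, 4, 4, 4, 0, 0, 0, 2, 3, 3, 1, 2, 2, 2, 0, 4, 3, 3, 2, 0, 1, 1, 3, 1, 3, 2, 0, 4, 0, 2, 0, 4, 2, 2, 2, 1, 3, 0, 4, 4, 1, 0, 2, 0, 0, 4, 4, 4, 1, 4, 2, 2, 2, 2, 2, 2, 3, 2, 4, 0], 0), ([], 0), ([], 0), ([], 0), ([], 0), ([], 0), ([], 0), ([], 0), ([], 0), ([], 0), ([], 0), ([], 0), ([], 0), ([], 0), ([], 0), ([], 0), ([], 0), ([], 0), ([], 0), ([], 0), ([], 0), ([], 0), ([], 0), ([], 0), ([], 0), ([], 0), ([], 0), ([], 0), ([], 0), ([], 0), ([], 0), ([], 0), ([], 0), ([0, 1, 0, 3, 2, 1, 1, 2, 1, 3, 2, 2, 4, 3, 1, 0, 4, 1, 0, 0, 1, 4, 0, 4, 3, 1, 4, 2, 0, 1, 3, 0, 2, 2, 0, 2, 0, 3, 1, 0, 1, 0, 1, 4, 1, 4, 4, 3, 1, 4, 4, 1, 2, 0, 3, 0, 0, 4, 2, 3], 1), ([], 0), ([],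 0), ([], 0), ([], 0), ([], 0), ([], 0), ([], 0), ([2, 1, 3, 2, 4, 2, 1, 4, 0, 3, 3, 2, 3, 0, 3, 2, 2, 2, 1, 2, 4, 4, 2, 4, 1, 1, 4, 4, 4, 1, 4, 2, 3, 0, 2, 2, 3, 0, 2, 2, 4, 0, 0, 2, 1, 3, 0, 4, 0, 1, 0, 0, 1, 4, 0, 0, 2, 2, 2, 3], 1), ([], 0), ([], 0), ([], 0), ([], 0), ([], 0), ([], 0), ([], 0), ([], 0), ([], 0), ([], 0), ([], 0), ([], 0), ([], 0), ([], 0), ([], 0), ([], 0), ([], 0), ([], 0), ([], 0), ([], 0), ([], 0), ([], 0), ([], 0), ([], 0), ([], 0), ([], 0), ([], 0), ([], 0), ([], 0), ([], 0), ([], 0), ([], 0), ([], 0), ([], 0), ([3, 2, 1, 4, 2, 0, 0, 1, 0, 3, 0, 2, 3, 2, 2, 1, 1, 3, 0, 4, 3, 3, 3, 4, 3, 0, 1, 3, 4, 3, 0, 2, 4, 1, 4, 3, 4, 0, 3, 2, 2, 2, 4, 0, 3, 4, 0, 3, 0, 1, 3, 2, 0, 4, 4, 4, 4, 4,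 3, 3], 0), ([], 0), ([], 0), ([], 0), ([], 0), ([], 0), ([], 0), ([], 0), ([], 0), ([1, 2, 4, 2, 1, 4, 2, 2, 2, 3, 2, 2, 4, 4, 1, 0, 1, 1, 1, 1, 1, 3, 4, 4, 3, 1, 0, 4, 3, 2, 2, 3, 4, 1, 2, 2, 3, 4, 0, 4, 2, 3, 0, 1, 0, 2, 0, 0, 0, 3, 0, 0, 1, 3, 3, 0, 4, 3, 0, 1], 0), ([], 0), ([], 0), ([], 0), ([], 0), ([], 0), ([], 0), ([], 0), ([], 0), ([], 0), ([], 0), ([], 0), ([], 0), ([], 0), ([], 0), ([], 0), ([], 0), ([], 0), ([], 0), ([], 0), ([], 0), ([], 0), ([], 0), ([], 0), ([], 0), ([], 0), ([], 0), ([], 0), ([], 0), ([], 0), ([], 0), ([], 0), ([], 0), ([], 0), ([], 0), ([], 0), ([], 0), ([], 0), ([], 0), ([], 0), ([], 0), ([], 0), ([], 0), ([], 0), ([], 0), ([], 0), ([], 0), ([], 0), ([], 0), ([], 0), ([], 0),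 ([], 0), ([], 0), ([], 0), ([], 0), ([], 0), ([], 0), ([], 0), ([], 0), ([], 0), ([], 0), ([], 0), ([], 0), ([], 0), ([], 0), ([], 0), ([], 0), ([], 0), ([], 0), ([], 0), ([], 0), ([], 0), ([], 0), ([], 0), ([], 0), ([], 0), ([], 0), ([], 0), ([], 0), ([], 0), ([], 0), ([], 0), ([], 0), ([], 0), ([], 0), ([3, 2, 2, 3, 4, 1, 1, 2, 3, 4, 0, 4, 3, 0, 1, 2, 1, 3, 2, 1, 2, 2, 1, 4, 4, 3, 1, 2, 0, 3, 2, 0, 2, 3, 4, 0, 0, 2, 0, 0, 4, 4, 4, 1, 4, 1, 2, 3, 4, 0, 0, 4, 2, 4, 3, 3, 1, 2, 4, 2], 1), ([], 0), ([], 0), ([], 0), ([], 0), ([], 0), ([], 0), ([], 0), ([], 0), ([], 0), ([], 0), ([0, 3, 4, 1, 4, 1, 4, 2, 1, 2, 2, 4, 1, 1, 3, 1, 1, 1, 4, 4, 4, 2, 1, 2, 0, 2, 1, 0, 4, 2, 2, 0, 1, 1, 4, 3, 3, 4, 3, 1, 0, 4, 4, 2,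 2, 4, 2, 4, 0, 2, 0, 0, 0, 1, 4, 2, 0, 4, 0, 4], 1), ([], 0), ([], 0), ([], 0), ([], 0), ([], 0), ([], 0), ([], 0), ([], 0), ([], 0), ([], 0), ([], 0), ([], 0), ([], 0), ([], 0), ([], 0), ([], 0), ([], 0), ([], 0), ([], 0), ([], 0), ([], 0), ([], 0), ([], 0), ([], 0), ([], 0), ([], 0), ([], 0), ([], 0), ([], 0), ([], 0), ([], 0), ([], 0), ([], 0), ([], 0), ([], 0), ([], 0), ([], 0), ([], 0), ([], 0), ([], 0), ([], 0), ([], 0), ([], 0), ([], 0), ([], 0), ([], 0), ([4, 1, 3, 1, 4, 3, 3, 4, 3, 4, 4, 1, 0, 3, 2, 4, 1, 0, 3, 3, 1, 0, 4, 3, 2, 1, 4, 1, 4, 0, 0, 2, 2, 1, 1, 2, 0, 3, 0, 3, 3, 4, 1, 2, 0, 1, 1, 0, 0, 4, 4, 2, 1, 3, 1, 1, 4, 0, 1, 1], 1), ([], 0), ([], 0), ([], 0), ([], 0), ([], 0), ([3, 3, 0, 2, 4, 4,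 0, 3, 0, 3, 3, 0, 2, 0, 1, 2, 2, 2, 4, 3, 2, 4, 2, 1, 3, 0, 2, 0, 4, 1, 3, 0, 3, 1, 0, 2, 0, 3, 0, 4, 0, 0, 3, 4, 1, 2, 2, 3, 0, 1, 1, 0, 0, 4, 1, 1, 4, 3, 2, 1], 0), ([], 0), ([], 0), ([], 0), ([], 0), ([], 0), ([], 0), ([], 0), ([], 0), ([], 0), ([], 0), ([], 0), ([], 0), ([], 0), ([], 0), ([], 0), ([], 0), ([], 0), ([], 0), ([], 0), ([], 0), ([], 0), ([], 0), ([], 0), ([], 0), ([], 0), ([], 0), ([], 0), ([], 0), ([], 0), ([], 0), ([], 0), ([], 0), ([], 0), ([], 0), ([], 0), ([], 0), ([4, 1, 3, 1, 2, 0, 0, 3, 1, 3, 2, 0, 1, 4, 1, 3, 4, 4, 0, 0, 2, 0, 3, 4, 0, 0, 0, 4, 1, 2, 4, 0, 0, 3, 4, 3, 0, 4, 0, 1, 4, 2, 4, 3, 4, 4, 2, 1, 0, 4, 2, 1, 2, 2, 1, 0, 1, 3, 3, 1], 1), ([], 0), ([], 0), ([], 0), ([], 0), ([],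 0), ([], 0), ([], 0), ([], 0), ([], 0), ([], 0), ([], 0), ([], 0), ([], 0), ([], 0), ([], 0), ([], 0), ([], 0), ([], 0), ([], 0), ([], 0), ([], 0), ([], 0), ([], 0), ([], 0), ([], 0), ([], 0), ([], 0), ([], 0), ([], 0), ([], 0), ([], 0), ([], 0), ([], 0), ([], 0), ([], 0), ([], 0), ([], 0), ([], 0), ([], 0), ([], 0), ([], 0), ([], 0), ([], 0), ([2, 0, 1, 2, 3, 1, 1, 4, 0, 0, 2, 0, 1, 4, 0, 2, 4, 2, 2, 2, 1, 0, 4, 4, 4, 2, 2, 0, 1, 3, 0, 4, 3, 4, 3, 4, 0, 2, 2, 3, 1, 4, 4, 3, 1, 1, 2, 0, 0, 4, 4, 3, 1, 1, 2, 4, 0, 2, 4, 3], 0), ([], 0), ([], 0), ([], 0), ([], 0), ([], 0), ([], 0), ([], 0), ([], 0), ([], 0), ([3, 3, 0, 1, 0, 4, 1, 0, 0, 2, 3, 3, 4, 1, 0, 0, 4, 1, 0, 2, 3, 2, 3, 3, 3, 4, 2, 3, 1, 0, 0, 3, 0, 1,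 1, 1, 3, 3, 2, 1, 2, 0, 0, 4, 4, 0, 2, 2, 3, 1, 1, 3, 2, 0, 1, 4, 1, 1, 0, 3], 1), ([], 0), ([], 0), ([], 0), ([], 0), ([], 0), ([], 0), ([], 0), ([], 0), ([], 0), ([3, 1, 3, 2, 2, 0, 1, 0, 4, 2, 3, 0, 0, 3, 4, 0, 1, 1, 2, 3, 2, 3, 0, 4, 2, 0, 3, 1, 1, 1, 1, 2, 2, 1, 3, 1, 4, 0, 4, 2, 1, 3, 3, 3, 1, 4, 2, 1, 2, 4, 0, 0, 3, 1, 1, 3, 0, 0, 2, 0], 1), ([], 0), ([], 0), ([], 0), ([], 0), ([], 0), ([3, 1, 1, 4, 2, 4, 3, 3, 0, 2, 0, 4, 1, 1, 2, 0, 2, 0, 4, 2, 3, 2, 0, 1, 4, 1, 0, 1, 2, 3, 1, 3, 0, 1, 3, 2, 0, 0, 3, 0, 0, 3, 1, 3, 1, 2, 1, 3, 2, 3, 3, 3, 0, 1, 4, 0, 2, 3, 0, 4], 1), ([], 0), ([], 0), ([], 0), ([], 0), ([], 0), ([], 0), ([], 0), ([], 0), ([], 0), ([], 0), ([], 0), ([], 0), ([], 0), ([], 0), ([], 0),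 ([], 0), ([], 0), ([], 0), ([1, 3, 3, 1, 4, 1, 1, 1, 4, 3, 2, 1, 4, 2, 1, 3, 0, 4, 3, 4, 0, 0, 2, 4, 4, 4, 1, 2, 3, 0, 1, 0, 1, 2, 3, 3, 2, 4, 1, 4, 4, 4, 2, 1, 4, 2, 1, 2, 1, 3, 4, 3, 4, 3, 4, 0, 3, 4, 0, 1], 1), ([4, 0, 2, 1, 2, 1, 0, 1, 2, 1, 3, 0, 1, 1, 3, 4, 4, 1, 2, 0, 1, 3, 2, 3, 4, 2, 1, 4, 4, 3, 2, 3, 2, 1, 0, 4, 1, 3, 2, 1, 4, 0, 3, 2, 2, 4, 4, 1, 2, 4, 3, 2, 4, 1, 1, 1, 1, 4, 1, 2], 1), ([], 0), ([], 0), ([], 0), ([], 0), ([], 0), ([], 0), ([], 0), ([4, 3, 0, 3, 0, 1, 1, 1, 3, 3, 4, 1, 0, 1, 2, 4, 4, 0, 3, 2, 0, 2, 1, 1, 1, 1, 0, 3, 4, 0, 1, 2, 4, 4, 4, 4, 2, 3, 3, 3, 0, 0, 4, 3, 4, 4, 4, 0, 3, 0, 2, 4, 0, 0, 1, 3, 3, 2, 4, 1], 1), ([], 0), ([], 0), ([], 0), ([], 0), ([], 0), ([], 0), ([], 0), ([],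 0), ([], 0), ([], 0), ([], 0), ([], 0), ([], 0), ([], 0), ([], 0), ([], 0), ([], 0), ([], 0), ([], 0), ([], 0), ([], 0), ([], 0), ([], 0), ([], 0), ([], 0), ([], 0), ([], 0), ([], 0), ([], 0), ([], 0), ([], 0), ([0, 4, 1, 4, 0, 0, 1, 0, 2, 4, 4, 0, 1, 4, 3, 1, 0, 2, 1, 2, 3, 2, 3, 2, 3, 1, 2, 4, 1, 2, 3, 0, 3, 0, 1, 4, 4, 0, 1, 0, 2, 2, 4, 2, 0, 4, 4, 3, 3, 1, 1, 3, 4, 3, 1, 1, 0, 2, 1, 0], 1), ([], 0), ([], 0), ([], 0), ([], 0), ([1, 2, 4, 1, 1, 0, 4, 3, 0, 4, 0, 2, 2, 0, 2, 2, 0, 1, 4, 2, 3, 4, 1, 4, 1, 3, 0, 1, 0, 1, 2, 2, 4, 1, 2, 1, 3, 4, 2, 1, 2, 3, 1, 3, 2, 2, 2, 3, 4, 2, 4, 1, 3, 4, 4, 1, 3, 3, 2, 2], 1), ([], 0), ([], 0), ([], 0), ([], 0), ([], 0), ([], 0), ([], 0), ([1, 1, 3, 2, 0, 2, 3, 4, 0, 0, 1,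 1, 0, 1, 2, 3, 4, 4, 4, 4, 2, 2, 1, 0, 0, 1, 2, 4, 4, 2, 4, 0, 2, 1, 1, 2, 4, 1, 2, 1, 3, 0, 2, 1, 3, 2, 3, 2, 3, 1, 3, 1, 2, 2, 3, 3, 1, 3, 1, 2], 1), ([4, 3, 1, 2, 1, 2, 0, 2, 4, 3, 3, 2, 0, 4, 4, 3, 3, 1, 1, 4, 0, 1, 0, 2, 4, 0, 2, 1, 2, 3, 1, 3, 1, 3, 0, 3, 3, 3, 3, 0, 0, 4, 4, 0, 0, 0, 2, 2, 0, 0, 4, 0, 3, 0, 0, 0, 2, 0, 4, 4], 1), ([], 0), ([], 0), ([], 0), ([], 0), ([], 0), ([0, 0, 0, 3, 0, 1, 1, 1, 2, 4, 2, 1, 4, 3, 3, 2, 3, 1, 1, 0, 4, 0, 3, 0, 4, 3, 2, 0, 3, 1, 2, 0, 4, 1, 1, 0, 2, 2, 4, 4, 3, 1, 0, 4, 3, 2, 3, 3, 0, 3, 0, 0, 0, 4, 0, 3, 4, 3, 3, 3], 1), ([], 0), ([], 0), ([], 0), ([], 0), ([], 0), ([4, 1, 0, 3, 4, 0, 4, 4, 2, 2, 4, 1, 1, 2, 2, 2, 1, 3, 0, 0, 0, 4, 2, 1, 3, 2, 0, 2, 4, 0, 3, 4, 4,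 1, 3, 4, 3, 0, 3, 3, 2, 0, 2, 1, 1, 0, 0, 2, 4, 4, 4, 0, 1, 1, 4, 1, 0, 3, 0, 3], 1), ([], 0), ([], 0), ([], 0), ([], 0), ([], 0), ([], 0), ([], 0), ([2, 0, 0, 4, 4, 1, 3, 0, 2, 2, 4, 0, 2, 0, 1, 0, 4, 4, 2, 1, 2, 2, 0, 0, 1, 0, 0, 3, 1, 4, 4, 4, 2, 2, 1, 1, 4, 2, 2, 0, 2, 1, 1, 2, 1, 3, 0, 1, 3, 0, 2, 0, 1, 3, 1, 2, 4, 1, 4, 2], 1), ([], 0), ([], 0), ([], 0), ([], 0), ([], 0), ([], 0), ([], 0), ([], 0), ([], 0), ([], 0), ([], 0), ([], 0), ([], 0), ([], 0), ([], 0), ([], 0), ([], 0), ([], 0), ([], 0), ([], 0), ([], 0), ([], 0), ([], 0), ([], 0), ([], 0), ([], 0), ([], 0), ([], 0), ([], 0), ([], 0), ([], 0), ([], 0), ([], 0), ([], 0), ([], 0), ([], 0), ([], 0), ([], 0), ([], 0), ([], 0), ([], 0), ([], 0), ([],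 0), ([], 0), ([], 0), ([], 0), ([], 0), ([], 0), ([], 0), ([], 0), ([], 0), ([], 0), ([], 0), ([], 0), ([], 0), ([], 0), ([], 0), ([2, 1, 3, 0, 0, 0, 1, 4, 4, 3, 2, 1, 0, 3, 0, 4, 4, 4, 1, 4, 2, 3, 1, 1, 1, 2, 0, 2, 3, 0, 0, 3, 3, 0, 3, 4, 4, 0, 1, 3, 2, 4, 2, 4, 1, 2, 2, 1, 2, 0, 2, 0, 3, 2, 1, 4, 2, 4, 3, 3], 1), ([], 0), ([], 0), ([], 0), ([], 0), ([], 0), ([], 0), ([], 0), ([], 0), ([], 0), ([], 0), ([], 0), ([], 0), ([4, 4, 3, 1, 4, 4, 1, 3, 3, 2, 2, 4, 1, 2, 2, 1, 0, 1, 4, 2, 2, 3, 4, 0, 2, 1, 0, 1, 4, 4, 1, 3, 1, 0, 2, 4, 2, 2, 1, 2, 4, 0, 3, 2, 3, 0, 4, 1, 1, 1, 0, 4, 2, 1, 4, 1, 3, 4, 4, 4], 1), ([], 0), ([], 0), ([1, 4, 2, 3, 2, 1, 4, 1, 3, 0, 4, 1, 3, 0, 3, 3, 1, 4, 4, 0, 3, 3, 2, 4, 1, 1, 3, 2, 1,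 4, 4, 3, 1, 3, 0, 4, 2, 4, 0, 2, 2, 4, 3, 3, 3, 4, 0, 1, 2, 3, 1, 1, 2, 4, 3, 2, 2, 3, 2, 0], 1), ([], 0), ([], 0), ([], 0), ([], 0), ([], 0), ([], 0), ([], 0), ([], 0), ([1, 4, 1, 2, 0, 0, 4, 2, 1, 0, 4, 0, 2, 4, 1, 1, 1, 3, 3, 3, 2, 3, 3, 1, 4, 3, 0, 2, 2, 4, 1, 4, 0, 2, 0, 2, 1, 4, 4, 0, 2, 0, 0, 3, 1, 1, 1, 4, 2, 4, 2, 0, 2, 3, 3, 0, 3, 0, 4, 4], 1), ([2, 4, 4, 1, 0, 1, 0, 2, 0, 3, 3, 4, 1, 3, 3, 2, 4, 2, 1, 3, 3, 2, 0, 4, 3, 1, 4, 3, 2, 3, 0, 0, 1, 1, 2, 0, 0, 0, 0, 3, 4, 1, 0, 3, 0, 4, 3, 3, 3, 4, 1, 0, 3, 0, 2, 1, 3, 0, 4, 3], 0), ([], 0), ([], 0), ([], 0), ([], 0), ([], 0), ([], 0), ([], 0), ([], 0), ([], 0), ([], 0), ([0, 4, 0, 1, 1, 4, 1, 2, 1, 2, 3, 3, 2, 0, 4, 3, 2, 2, 1, 3, 3, 4, 4, 1, 2, 0, 3,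 4, 4, 0, 4, 0, 0, 3, 1, 2, 4, 3, 2, 1, 2, 2, 0, 3, 3, 0, 1, 0, 0, 0, 4, 4, 1, 0, 3, 2, 3, 2, 1, 1], 1), ([], 0), ([], 0), ([], 0), ([], 0), ([], 0), ([], 0), ([], 0), ([], 0), ([], 0), ([], 0), ([], 0), ([], 0), ([3, 4, 4, 0, 0, 2, 0, 3, 4, 4, 1, 3, 3, 0, 1, 0, 0, 3, 2, 0, 1, 4, 1, 1, 2, 0, 3, 0, 2, 0, 1, 4, 4, 0, 0, 2, 1, 0, 3, 0, 2, 1, 4, 0, 0, 2, 4, 1, 4, 4, 3, 0, 3, 0, 2, 2, 1, 0, 3, 4], 1), ([], 0), ([1, 1, 0, 3, 3, 0, 2, 3, 4, 3, 0, 4, 3, 4, 2, 3, 3, 2, 0, 4, 2, 0, 2, 1, 2, 2, 1, 3, 0, 1, 1, 1, 3, 4, 3, 4, 1, 2, 3, 2, 0, 1, 2, 1, 1, 1, 4, 1, 4, 4, 1, 0, 1, 1, 3, 0, 4, 3, 4, 1], 1), ([], 0), ([], 0), ([], 0), ([], 0), ([], 0), ([], 0), ([], 0), ([], 0), ([], 0), ([], 0), ([], 0), ([], 0), ([], 0), ([3,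 1, 2, 1, 1, 4, 4, 2, 4, 3, 4, 3, 1, 2, 0, 0, 1, 3, 4, 2, 1, 3, 2, 4, 1, 2, 3, 3, 3, 3, 2, 1, 3, 2, 0, 2, 4, 1, 1, 2, 3, 4, 2, 0, 0, 4, 1, 1, 1, 1, 4, 4, 2, 0, 1, 4, 0, 4, 0, 2], 1), ([], 0), ([], 0), ([], 0), ([], 0), ([], 0), ([], 0), ([], 0), ([], 0), ([], 0), ([], 0), ([], 0), ([], 0), ([], 0), ([], 0), ([], 0), ([], 0), ([], 0), ([], 0), ([], 0), ([], 0), ([], 0), ([], 0), ([], 0), ([], 0), ([], 0), ([0, 3, 3, 1, 4, 3, 0, 3, 2, 3, 4, 3, 4, 3, 2, 4, 4, 0, 0, 0, 1, 1, 0, 3, 4, 4, 3, 2, 3, 1, 4, 1, 3, 0, 0, 1, 0, 1, 2, 3, 3, 0, 0, 2, 1, 3, 4, 4, 1, 3, 4, 4, 4, 3, 2, 4, 0, 2, 4, 4], 1), ([], 0), ([1, 0, 2, 0, 3, 0, 2, 2, 0, 4, 4, 4, 2, 4, 2, 2, 3, 1, 0, 3, 4, 2, 1, 0, 0, 1, 3, 4, 2, 4, 3, 4, 3, 1, 2, 1, 0, 4,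 4, 0, 3, 3, 2, 2, 1, 4, 2, 1, 4, 2, 2, 4, 4, 2, 1, 3, 0, 0, 2, 4], 1), ([], 0), ([], 0), ([], 0), ([], 0), ([], 0), ([], 0), ([], 0), ([], 0), ([], 0), ([], 0), ([], 0), ([], 0), ([], 0), ([], 0), ([], 0), ([], 0), ([], 0), ([], 0), ([], 0), ([], 0), ([], 0), ([2, 3, 1, 0, 3, 3, 2, 0, 3, 0, 2, 1, 3, 4, 1, 2, 3, 4, 4, 1, 2, 2, 0, 0, 1, 1, 1, 4, 3, 2, 4, 3, 1, 0, 3, 4, 1, 3, 2, 1, 0, 0, 0, 4, 1, 4, 2, 3, 0, 0, 1, 3, 3, 1, 2, 2, 2, 0, 2, 2], 1), ([], 0), ([], 0), ([], 0), ([], 0), ([], 0), ([0, 3, 0, 3, 4, 2, 1, 4, 3, 1, 4, 3, 4, 4, 2, 4, 3, 4, 0, 2, 4, 1, 1, 1, 2, 0, 4, 1, 0, 2, 1, 2, 2, 0, 3, 2, 2, 1, 0, 0, 4, 0, 0, 1, 2, 1, 1, 3, 1, 2, 3, 2, 2, 4, 1, 4, 2, 0, 3, 4], 1), ([], 0), ([], 0), ([], 0), ([], 0), ([],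 0), ([], 0), ([], 0), ([], 0), ([], 0), ([2, 0, 2, 1, 2, 3, 0, 3, 2, 4, 2, 2, 4, 0, 3, 3, 3, 4, 0, 3, 2, 4, 0, 3, 0, 0, 4, 2, 2, 4, 3, 3, 2, 4, 3, 1, 2, 3, 1, 2, 4, 2, 2, 0, 4, 1, 4, 4, 3, 1, 4, 0, 1, 2, 0, 4, 0, 0, 3, 3], 1), ([], 0), ([], 0), ([], 0), ([], 0), ([], 0), ([], 0), ([], 0), ([], 0), ([], 0), ([], 0), ([], 0), ([], 0), ([4, 4, 0, 0, 1, 3, 4, 0, 2, 3, 0, 4, 2, 3, 2, 3, 1, 2, 0, 3, 3, 1, 3, 2, 2, 3, 3, 2, 0, 1, 1, 0, 1, 1, 0, 0, 3, 4, 4, 3, 0, 4, 0, 1, 0, 4, 4, 3, 1, 4, 0, 0, 2, 0, 1, 3, 3, 3, 2, 3], 0), ([], 0), ([], 0), ([], 0), ([], 0), ([], 0), ([], 0), ([], 0), ([], 0), ([], 0), ([], 0), ([], 0), ([], 0), ([], 0), ([], 0), ([], 0), ([], 0), ([], 0), ([], 0), ([], 0), ([], 0), ([], 0), ([], 0),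 ([], 0), ([], 0), ([], 0), ([], 0), ([], 0), ([], 0), ([], 0), ([], 0), ([], 0), ([], 0), ([], 0), ([], 0), ([], 0), ([], 0), ([], 0), ([], 0), ([], 0), ([], 0), ([], 0), ([0, 2, 2, 3, 0, 2, 2, 2, 1, 4, 2, 2, 3, 3, 1, 3, 0, 2, 0, 2, 4, 4, 4, 0, 0, 0, 1, 3, 0, 1, 0, 0, 3, 1, 2, 4, 1, 1, 0, 1, 2, 4, 2, 4, 3, 4, 3, 3, 4, 0, 3, 0, 1, 1, 2, 4, 0, 0, 3, 3], 0), ([], 0), ([], 0), ([], 0), ([], 0), ([], 0), ([], 0), ([], 0), ([], 0), ([], 0), ([], 0), ([], 0), ([], 0), ([], 0), ([], 0), ([3, 2, 3, 0, 4, 1, 0, 4, 1, 2, 4, 1, 1, 2, 1, 1, 4, 1, 4, 4, 4, 2, 3, 1, 1, 3, 1, 4, 2, 4, 1, 4, 0, 0, 2, 0, 4, 0, 2, 1, 0, 2, 3, 1, 1, 3, 2, 1, 1, 4, 0, 2, 3, 2, 3, 4, 1, 1, 0, 2], 1), ([], 0), ([], 0), ([], 0), ([], 0), ([], 0), ([],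 0), ([], 0), ([], 0), ([], 0), ([], 0), ([], 0), ([3, 2, 0, 3, 4, 3, 2, 2, 2, 3, 1, 4, 3, 3, 0, 0, 1, 3, 2, 3, 3, 4, 2, 3, 2, 1, 0, 0, 2, 2, 0, 0, 3, 0, 1, 2, 1, 2, 0, 3, 0, 4, 0, 3, 4, 1, 4, 0, 2, 1, 3, 4, 3, 4, 1, 3, 1, 2, 1, 3], 1), ([], 0), ([], 0), ([3, 2, 2, 1, 0, 2, 3, 1, 4, 4, 4, 3, 0, 1, 4, 1, 3, 3, 4, 1, 0, 4, 0, 0, 0, 2, 4, 2, 2, 4, 3, 0, 3, 3, 1, 1, 1, 2, 2, 4, 2, 0, 3, 2, 1, 1, 0, 0, 4, 1, 3, 1, 2, 3, 2, 2, 4, 3, 4, 3], 1), ([], 0), ([], 0), ([], 0), ([], 0), ([], 0), ([], 0), ([], 0), ([], 0), ([], 0), ([], 0), ([], 0), ([], 0), ([], 0), ([], 0), ([], 0), ([4, 3, 3, 2, 0, 3, 3, 1, 4, 1, 2, 2, 2, 4, 3, 1, 1, 0, 1, 4, 4, 0, 1, 4, 4, 1, 3, 1, 3, 0, 2, 0, 2, 1, 4, 2, 1, 3, 3, 4, 2, 2, 1, 3, 3, 0, 1,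 3, 2, 4, 2, 2, 0, 3, 4, 0, 1, 4, 2, 1], 1), ([], 0), ([], 0), ([], 0), ([], 0), ([], 0), ([], 0), ([], 0), ([], 0), ([], 0), ([], 0), ([], 0), ([], 0), ([], 0), ([], 0), ([], 0), ([], 0), ([], 0), ([], 0), ([], 0), ([], 0), ([], 0), ([], 0), ([], 0), ([], 0), ([], 0), ([], 0), ([], 0), ([], 0), ([], 0), ([], 0), ([], 0), ([2, 0, 0, 4, 4, 3, 3, 1, 2, 3, 1, 4, 4, 2, 4, 0, 3, 3, 3, 1, 4, 3, 4, 2, 4, 4, 0, 4, 0, 4, 2, 3, 2, 2, 2, 1, 3, 2, 2, 0, 1, 3, 2, 1, 0, 4, 1, 1, 2, 0, 3, 2, 2, 1, 1, 0, 2, 3, 0, 3], 0), ([], 0), ([], 0), ([], 0), ([], 0), ([], 0), ([], 0), ([], 0), ([], 0), ([], 0), ([], 0), ([], 0), ([2, 1, 0, 2, 4, 4, 3, 2, 2, 2, 4, 2, 0, 3, 1, 1, 1, 2, 3, 3, 4, 2, 3, 4, 4, 3, 3, 0, 0, 4, 3, 2, 0, 3, 3, 4,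 2, 3, 1, 4, 0, 1, 0, 4, 2, 0, 4, 1, 3, 0, 0, 4, 1, 2, 1, 0, 1, 1, 2, 0], 1), ([], 0), ([], 0), ([], 0), ([], 0), ([], 0), ([], 0), ([], 0), ([], 0), ([1, 2, 1, 3, 3, 0, 0, 0, 4, 3, 0, 3, 4, 2, 3, 1, 4, 1, 4, 4, 4, 1, 3, 4, 4, 1, 2, 1, 3, 1, 4, 0, 3, 3, 0, 4, 2, 0, 4, 4, 2, 4, 3, 4, 0, 2, 1, 3, 1, 2, 0, 2, 0, 2, 4, 1, 0, 1, 0, 3], 0), ([], 0), ([], 0), ([], 0), ([], 0), ([], 0), ([], 0), ([], 0), ([], 0), ([], 0), ([], 0), ([], 0), ([], 0), ([], 0), ([], 0), ([], 0), ([], 0), ([], 0), ([], 0), ([], 0), ([], 0), ([], 0), ([], 0), ([], 0), ([], 0), ([], 0), ([], 0), ([], 0), ([], 0), ([], 0), ([2, 4, 0, 4, 1, 2, 3, 1, 0, 1, 4, 2, 3, 1, 1, 3, 0, 1, 2, 2, 0, 1, 4, 1, 4, 2, 3, 2, 4, 1, 0, 1, 4, 3, 2, 0, 2, 3, 4, 2,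 2, 3, 1, 4, 2, 2, 1, 3, 1, 4, 2, 3, 2, 3, 0, 4, 1, 1, 0, 1], 1), ([], 0), ([], 0), ([], 0), ([], 0), ([], 0), ([0, 3, 1, 2, 4, 3, 3, 2, 0, 1, 1, 1, 0, 0, 1, 1, 1, 1, 0, 2, 2, 4, 4, 1, 1, 1, 3, 2, 0, 3, 0, 3, 3, 1, 2, 0, 1, 2, 4, 1, 0, 4, 0, 1, 0, 2, 1, 3, 3, 2, 0, 2, 4, 1, 3, 1, 0, 2, 1, 0], 1), ([], 0)]

set_option maxRecDepth 1000000 in
set_option maxHeartbeats 4000000 in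
theorem el_c3a_check : ListM24 el_c3a ∧
    conjCheck el_gens el_c3a isOrd3L el_rep3 (k4_model.nodes k4_tabs idList k4_cert) el_c3a_data = true := by
  decide +kernel

def el_c3b : List ℕ := [1, 23, 2, 8, 13, 12, 5, 14, 7, 9, 15, 6, 21, 4, 18, 20, 22, 11, 19, 3, 10, 17, 16, 0]

def el_c3b_data : List (List ℕ × ℕ) := [([], 0), ([], 0), ([], 0), ([2, 0, 0, 2, 3, 1, 1, 0, 1, 4, 0, 0, 4, 3, 2, 1, 1, 3, 3, 4, 0, 1, 0, 1, 4, 4, 0, 3, 1, 0, 0, 1, 0, 4, 0, 0, 4, 1, 4, 3, 3, 1, 4, 4, 2, 0, 0, 2, 1, 3, 3, 4, 3, 3, 4, 4, 3, 1, 2, 1], 0), ([], 0), ([2, 2, 4, 4, 1, 3, 4, 2, 2, 1, 3, 4, 0, 2, 1, 4, 0, 1, 0, 2, 1, 1, 2, 1, 1, 3, 2, 1, 2, 0, 3, 3, 3, 3, 4, 0, 4, 3, 1, 1, 1, 3, 3, 1, 2, 2, 4, 0, 1, 3, 2, 2, 4, 1, 3, 4, 3, 0,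 2, 0], 0), ([], 0), ([4, 1, 2, 0, 4, 1, 2, 0, 0, 2, 3, 4, 1, 0, 0, 2, 4, 4, 0, 2, 4, 3, 0, 3, 2, 2, 0, 1, 1, 0, 0, 1, 4, 4, 2, 0, 3, 2, 2, 2, 0, 0, 0, 1, 4, 2, 3, 1, 1, 1, 3, 1, 2, 0, 3, 4, 3, 0, 3, 1], 0), ([], 0), ([], 0), ([], 0), ([], 0), ([], 0), ([], 0), ([], 0), ([], 0), ([2, 4, 4, 0, 1, 3, 4, 2, 2, 0, 0, 4, 1, 4, 2, 2, 4, 3, 3, 2, 0, 3, 4, 3, 3, 0, 4, 0, 0, 3, 2, 0, 4, 2, 3, 1, 0, 2, 4, 3, 3, 0, 1, 4, 0, 3, 1, 1, 4, 4, 0, 1, 2, 1, 1, 1, 1, 1, 4, 0], 0), ([], 0), ([], 0), ([], 0), ([], 0), ([], 0), ([], 0), ([], 0), ([4, 1, 2, 3, 4, 2, 2, 4, 2, 0, 2, 1, 0, 0, 2, 2, 0, 0, 4, 4, 3, 0, 3, 1, 1, 2, 3, 1, 4, 4, 1, 0, 2, 2, 3, 4, 2, 0, 1, 2, 4, 0, 1, 2, 2, 0, 4, 0, 1, 0, 0, 0, 1, 3, 3, 3, 3, 2, 0, 2], 0), ([],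 0), ([], 0), ([], 0), ([], 0), ([], 0), ([], 0), ([], 0), ([], 0), ([], 0), ([], 0), ([], 0), ([], 0), ([], 0), ([], 0), ([], 0), ([], 0), ([], 0), ([], 0), ([], 0), ([], 0), ([], 0), ([], 0), ([], 0), ([], 0), ([], 0), ([2, 2, 2, 4, 1, 1, 1, 4, 4, 3, 3, 0, 1, 3, 0, 4, 1, 2, 0, 1, 3, 3, 4, 0, 1, 3, 1, 1, 2, 0, 3, 2, 2, 2, 2, 4, 3, 4, 0, 3, 1, 2, 0, 1, 3, 0, 3, 1, 3, 0, 1, 3, 3, 4, 1, 0, 4, 3, 0, 0], 0), ([], 0), ([], 0), ([], 0), ([], 0), ([], 0), ([], 0), ([], 0), ([], 0), ([], 0), ([], 0), ([0, 0, 1, 3, 4, 4, 0, 2, 4, 1, 2, 2, 3, 3, 3, 2, 0, 2, 1, 4, 2, 4, 3, 3, 3, 3, 3, 0, 0, 1, 2, 4, 1, 1, 1, 3, 0, 0, 1, 3, 0, 0, 3, 0, 2, 1, 2, 3, 4, 4, 4, 2, 3, 2, 3, 3, 1, 4, 3, 2], 0), ([], 0), ([], 0), ([], 0), ([], 0),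 ([], 0), ([], 0), ([], 0), ([], 0), ([], 0), ([1, 3, 1, 2, 1, 4, 0, 4, 2, 1, 4, 1, 2, 4, 3, 3, 1, 0, 3, 0, 0, 1, 3, 1, 1, 4, 1, 3, 4, 3, 3, 0, 0, 2, 4, 4, 3, 1, 3, 0, 1, 1, 1, 3, 0, 0, 0, 3, 3, 4, 0, 3, 2, 1, 1, 3, 2, 4, 0, 4], 0), ([], 0), ([], 0), ([], 0), ([], 0), ([], 0), ([], 0), ([], 0), ([], 0), ([], 0), ([], 0), ([], 0), ([], 0), ([], 0), ([], 0), ([], 0), ([], 0), ([], 0), ([], 0), ([], 0), ([], 0), ([], 0), ([], 0), ([], 0), ([], 0), ([], 0), ([], 0), ([], 0), ([], 0), ([1, 2, 3, 1, 1, 2, 0, 4, 2, 3, 0, 4, 3, 0, 2, 0, 2, 0, 4, 4, 2, 2, 4, 2, 0, 4, 3, 4, 4, 2, 3, 2, 2, 4, 0, 4, 1, 0, 1, 4, 2, 1, 4, 0, 2, 4, 2, 2, 0, 4, 1, 3, 2, 0, 3, 0, 1, 4, 1, 0], 0), ([], 0), ([4, 0, 4, 1, 3, 0, 3, 4, 0, 2, 3, 2,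 1, 3, 0, 4, 2, 1, 3, 3, 1, 1, 3, 1, 3, 3, 1, 0, 0, 4, 3, 0, 4, 1, 2, 1, 0, 4, 0, 3, 1, 1, 2, 1, 0, 3, 0, 2, 0, 4, 4, 1, 0, 4, 0, 4, 4, 1, 1, 0], 0), ([], 0), ([], 0), ([], 0), ([], 0), ([], 0), ([], 0), ([], 0), ([], 0), ([], 0), ([], 0), ([], 0), ([], 0), ([], 0), ([], 0), ([], 0), ([], 0), ([], 0), ([], 0), ([], 0), ([], 0), ([], 0), ([], 0), ([], 0), ([], 0), ([], 0), ([], 0), ([], 0), ([], 0), ([], 0), ([], 0), ([], 0), ([], 0), ([], 0), ([], 0), ([], 0), ([2, 1, 4, 2, 1, 1, 0, 4, 0, 0, 3, 1, 3, 3, 4, 1, 1, 1, 3, 1, 2, 1, 0, 0, 4, 2, 3, 4, 3, 0, 1, 1, 3, 1, 0, 2, 2, 4, 2, 0, 4, 3, 4, 3, 4, 0, 3, 2, 4, 3, 1, 0, 2, 3, 1, 3, 0, 0, 1, 2], 0), ([], 0), ([], 0), ([], 0), ([], 0), ([], 0), ([], 0), ([], 0), ([],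 0), ([], 0), ([], 0), ([], 0), ([], 0), ([], 0), ([], 0), ([], 0), ([], 0), ([], 0), ([3, 3, 1, 1, 2, 3, 2, 1, 3, 1, 3, 1, 2, 1, 4, 0, 2, 3, 2, 3, 3, 0, 4, 2, 2, 2, 3, 2, 3, 1, 0, 3, 2, 2, 4, 3, 2, 3, 4, 3, 4, 4, 4, 3, 2, 1, 4, 4, 4, 2, 3, 1, 0, 2, 2, 1, 2, 2, 2, 4], 0), ([], 0), ([], 0), ([], 0), ([], 0), ([], 0), ([], 0), ([0, 4, 3, 1, 4, 1, 2, 1, 2, 0, 3, 1, 3, 3, 3, 1, 1, 2, 1, 1, 0, 3, 1, 3, 0, 3, 2, 4, 2, 2, 0, 2, 1, 4, 3, 0, 2, 3, 2, 1, 4, 2, 0, 3, 3, 2, 4, 2, 1, 0, 1, 4, 0, 2, 4, 1, 3, 4, 3, 2], 0), ([], 0), ([], 0), ([], 0), ([], 0), ([], 0), ([], 0), ([], 0), ([], 0), ([], 0), ([], 0), ([], 0), ([], 0), ([], 0), ([], 0), ([], 0), ([], 0), ([], 0), ([3, 1, 4, 4, 0, 2, 2, 3, 4, 0, 3, 1, 2, 0, 1, 0, 0,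 1, 4, 1, 4, 2, 3, 3, 3, 4, 3, 3, 3, 0, 1, 4, 4, 1, 1, 3, 0, 3, 4, 0, 4, 2, 2, 2, 1, 3, 4, 4, 4, 2, 4, 3, 0, 2, 3, 0, 3, 3, 1, 1], 0), ([], 0), ([], 0), ([], 0), ([], 0), ([], 0), ([], 0), ([], 0), ([], 0), ([], 0), ([], 0), ([], 0), ([], 0), ([], 0), ([], 0), ([], 0), ([], 0), ([], 0), ([], 0), ([], 0), ([], 0), ([], 0), ([], 0), ([], 0), ([], 0), ([], 0), ([], 0), ([4, 3, 4, 4, 4, 2, 1, 4, 3, 4, 1, 2, 3, 4, 1, 4, 3, 3, 4, 0, 1, 4, 4, 4, 4, 1, 2, 0, 4, 2, 3, 1, 2, 1, 4, 4, 0, 4, 1, 3, 0, 1, 1, 2, 0, 2, 4, 2, 4, 3, 4, 2, 3, 1, 2, 0, 1, 2, 2, 2], 0), ([], 0), ([], 0), ([], 0), ([], 0), ([], 0), ([], 0), ([], 0), ([], 0), ([], 0), ([], 0), ([], 0), ([], 0), ([], 0), ([], 0), ([], 0), ([], 0), ([], 0), ([], 0),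 ([], 0), ([], 0), ([], 0), ([], 0), ([], 0), ([], 0), ([3, 2, 0, 4, 4, 3, 2, 0, 2, 0, 2, 1, 3, 3, 4, 1, 4, 4, 0, 2, 1, 0, 3, 3, 1, 4, 3, 2, 3, 3, 0, 2, 4, 2, 0, 4, 1, 0, 2, 3, 3, 3, 3, 1, 3, 2, 1, 0, 2, 3, 1, 0, 2, 2, 1, 3, 0, 0, 3, 3], 0), ([], 0), ([], 0), ([], 0), ([4, 2, 4, 4, 3, 2, 0, 3, 4, 0, 4, 0, 4, 2, 0, 2, 2, 0, 0, 4, 4, 2, 3, 3, 3, 4, 4, 2, 4, 4, 1, 0, 4, 0, 3, 0, 1, 0, 1, 3, 3, 2, 1, 2, 1, 1, 4, 1, 3, 0, 3, 0, 1, 3, 3, 1, 1, 3, 0, 3], 0), ([], 0), ([], 0), ([1, 2, 3, 4, 2, 4, 0, 2, 3, 1, 4, 4, 0, 1, 1, 2, 3, 2, 2, 2, 3, 1, 1, 0, 0, 1, 1, 3, 3, 4, 3, 0, 3, 1, 1, 2, 4, 4, 0, 3, 3, 2, 0, 0, 2, 3, 3, 0, 0, 3, 2, 0, 4, 1, 4, 2, 3, 0, 3, 4], 0), ([], 0), ([4, 2, 4, 1, 2, 3, 0, 4, 2, 4, 1, 1, 1, 3, 2, 1,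 4, 0, 0, 1, 3, 0, 4, 3, 1, 1, 4, 0, 4, 2, 4, 4, 0, 0, 0, 0, 2, 2, 2, 1, 2, 1, 4, 1, 1, 2, 0, 0, 4, 0, 1, 0, 1, 1, 0, 1, 0, 4, 1, 3], 0), ([], 0), ([], 0), ([], 0), ([], 0), ([3, 4, 4, 1, 1, 0, 0, 3, 3, 3, 1, 1, 1, 1, 2, 2, 2, 3, 4, 1, 1, 2, 1, 3, 2, 2, 0, 4, 0, 0, 3, 2, 2, 1, 1, 2, 2, 3, 0, 1, 1, 4, 2, 2, 3, 0, 0, 2, 2, 2, 3, 0, 1, 2, 0, 2, 0, 3, 2, 2], 0), ([], 0), ([1, 4, 3, 1, 3, 3, 2, 2, 0, 1, 2, 2, 3, 3, 3, 3, 1, 2, 0, 3, 3, 2, 0, 1, 0, 1, 4, 2, 3, 2, 1, 1, 0, 0, 3, 2, 4, 2, 3, 4, 3, 3, 2, 3, 2, 3, 1, 3, 4, 0, 3, 2, 4, 1, 1, 0, 0, 0, 2, 3], 0), ([], 0), ([], 0), ([1, 0, 4, 2, 2, 4, 0, 1, 0, 1, 2, 3, 3, 0, 1, 0, 0, 2, 3, 1, 1, 3, 4, 2, 0, 4, 0, 0, 3, 4, 4, 1, 1, 4, 4, 1, 4, 2, 3, 2, 2, 0, 4, 4, 1, 4, 2,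 0, 1, 4, 3, 0, 3, 2, 1, 2, 4, 4, 4, 1], 0), ([], 0), ([1, 1, 4, 2, 0, 0, 2, 4, 4, 4, 1, 2, 0, 3, 0, 4, 4, 2, 2, 2, 4, 4, 0, 0, 3, 0, 3, 0, 3, 4, 0, 1, 2, 0, 2, 4, 0, 1, 4, 1, 3, 3, 3, 1, 3, 2, 1, 4, 2, 4, 4, 4, 1, 2, 3, 1, 0, 2, 1, 2], 0), ([], 0), ([], 0), ([], 0), ([1, 0, 3, 1, 3, 0, 3, 1, 2, 4, 4, 1, 3, 2, 3, 2, 1, 0, 1, 0, 0, 4, 3, 4, 2, 3, 2, 0, 0, 3, 0, 2, 1, 1, 0, 0, 1, 0, 1, 2, 3, 1, 1, 0, 2, 0, 0, 1, 4, 0, 3, 0, 4, 1, 1, 3, 1, 4, 3, 1], 0), ([], 0), ([], 0), ([], 0), ([], 0), ([], 0), ([], 0), ([], 0), ([], 0), ([3, 0, 3, 4, 4, 0, 2, 3, 1, 0, 0, 1, 4, 3, 3, 0, 3, 1, 1, 2, 4, 3, 1, 4, 2, 2, 0, 4, 1, 4, 3, 4, 0, 0, 1, 0, 1, 4, 3, 3, 3, 4, 4, 1, 3, 0, 3, 4, 4, 2, 3, 0, 2, 2, 0, 1, 3, 1, 4, 2], 0), ([],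 0), ([], 0), ([], 0), ([], 0), ([], 0), ([], 0), ([], 0), ([2, 3, 0, 3, 3, 2, 0, 2, 2, 3, 4, 3, 0, 0, 2, 1, 2, 3, 4, 0, 0, 0, 2, 0, 3, 0, 4, 3, 3, 4, 2, 3, 3, 3, 2, 0, 4, 1, 0, 2, 4, 2, 3, 2, 3, 4, 4, 0, 1, 4, 1, 0, 3, 1, 4, 3, 4, 4, 2, 2], 0), ([], 0), ([], 0), ([], 0), ([], 0), ([], 0), ([], 0), ([], 0), ([], 0), ([2, 1, 4, 3, 3, 4, 1, 4, 0, 1, 2, 2, 1, 2, 4, 2, 2, 3, 0, 4, 4, 4, 0, 3, 4, 3, 0, 2, 4, 2, 0, 4, 2, 0, 3, 0, 4, 4, 4, 0, 4, 2, 1, 3, 2, 3, 1, 3, 3, 2, 0, 0, 4, 1, 2, 1, 4, 0, 0, 2], 0), ([], 0), ([], 0), ([], 0), ([4, 2, 4, 3, 1, 4, 1, 0, 0, 2, 4, 2, 3, 1, 4, 4, 2, 4, 3, 0, 4, 3, 2, 1, 2, 4, 4, 0, 1, 3, 0, 3, 1, 2, 4, 2, 0, 0, 1, 0, 0, 2, 3, 2, 4, 2, 0, 0, 3, 2, 1, 3, 4, 0, 1, 1, 1, 0, 2, 4], 0),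 ([], 0), ([], 0), ([], 0), ([], 0), ([], 0), ([], 0), ([], 0), ([], 0), ([], 0), ([], 0), ([], 0), ([], 0), ([], 0), ([], 0), ([], 0), ([], 0), ([], 0), ([], 0), ([], 0), ([], 0), ([3, 0, 3, 4, 4, 4, 4, 2, 0, 2, 3, 1, 3, 1, 1, 3, 3, 1, 3, 3, 3, 1, 1, 3, 0, 0, 4, 3, 4, 0, 2, 3, 4, 0, 0, 2, 3, 3, 1, 0, 0, 4, 0, 2, 3, 1, 1, 2, 2, 1, 0, 3, 0, 2, 4, 3, 2, 1, 2, 0], 0), ([], 0), ([1, 4, 1, 2, 4, 4, 1, 2, 1, 1, 2, 4, 0, 2, 2, 2, 4, 4, 2, 2, 1, 1, 1, 4, 0, 1, 1, 1, 3, 3, 0, 3, 3, 3, 4, 2, 0, 0, 4, 4, 0, 3, 2, 0, 0, 0, 1, 2, 1, 2, 0, 0, 2, 2, 3, 1, 3, 0, 4, 4], 0), ([], 0), ([], 0), ([], 0), ([], 0), ([], 0), ([], 0), ([], 0), ([], 0), ([], 0), ([], 0), ([], 0), ([], 0), ([], 0), ([], 0), ([], 0), ([], 0), ([], 0), ([],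 0), ([], 0), ([], 0), ([], 0), ([2, 1, 2, 4, 1, 0, 1, 2, 2, 1, 1, 2, 2, 0, 1, 1, 2, 2, 2, 1, 1, 3, 2, 2, 2, 2, 4, 0, 4, 1, 1, 0, 4, 0, 4, 0, 3, 0, 0, 3, 2, 2, 2, 1, 4, 3, 3, 1, 1, 1, 0, 0, 3, 0, 4, 4, 0, 0, 4, 2], 0), ([], 0), ([], 0), ([], 0), ([], 0), ([3, 4, 3, 3, 0, 2, 4, 1, 4, 3, 3, 1, 4, 0, 1, 0, 0, 1, 2, 1, 0, 0, 3, 4, 1, 1, 3, 3, 3, 2, 2, 4, 2, 2, 4, 3, 4, 2, 1, 1, 4, 3, 0, 2, 4, 4, 3, 1, 4, 4, 3, 1, 3, 3, 0, 2, 0, 3, 1, 4], 0), ([], 0), ([], 0), ([], 0), ([], 0), ([], 0), ([], 0), ([], 0), ([], 0), ([0, 1, 0, 3, 1, 4, 0, 4, 3, 1, 3, 2, 4, 4, 3, 2, 0, 3, 0, 2, 3, 0, 1, 4, 0, 2, 4, 0, 3, 4, 4, 4, 3, 1, 1, 0, 4, 4, 1, 3, 0, 2, 2, 3, 2, 1, 1, 2, 4, 4, 3, 4, 4, 4, 0, 4, 4, 0, 3, 1], 0), ([], 0), ([3, 2,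 2, 2, 0, 2, 0, 0, 2, 3, 0, 2, 1, 1, 1, 0, 1, 2, 2, 3, 4, 0, 4, 4, 3, 1, 0, 3, 1, 1, 0, 3, 2, 2, 3, 0, 0, 0, 0, 3, 4, 1, 4, 1, 1, 0, 2, 3, 4, 0, 1, 0, 3, 0, 0, 1, 4, 3, 0, 0], 0), ([], 0), ([], 0), ([], 0), ([], 0), ([], 0), ([], 0), ([], 0), ([], 0), ([4, 2, 4, 1, 3, 0, 0, 1, 0, 1, 2, 0, 4, 3, 0, 3, 4, 3, 1, 2, 2, 2, 0, 3, 2, 0, 0, 4, 3, 2, 1, 1, 2, 2, 2, 2, 3, 2, 2, 2, 0, 1, 2, 1, 4, 1, 4, 4, 0, 0, 4, 0, 2, 1, 0, 1, 2, 3, 2, 3], 0), ([], 0), ([], 0), ([3, 0, 1, 2, 2, 2, 1, 3, 3, 0, 4, 0, 1, 0, 3, 1, 1, 1, 3, 3, 1, 4, 0, 2, 1, 1, 0, 3, 3, 4, 4, 0, 0, 3, 2, 4, 3, 2, 2, 1, 1, 1, 0, 0, 2, 1, 0, 0, 1, 2, 0, 3, 2, 3, 1, 0, 4, 2, 0, 0], 0), ([], 0), ([], 0), ([], 0), ([], 0), ([], 0), ([], 0), ([], 0), ([], 0), ([],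 0), ([], 0), ([], 0), ([], 0), ([], 0), ([], 0), ([1, 0, 0, 4, 3, 1, 1, 0, 4, 2, 4, 2, 2, 4, 1, 1, 4, 0, 0, 3, 3, 4, 3, 1, 3, 4, 2, 0, 4, 4, 0, 4, 0, 0, 4, 0, 0, 3, 0, 1, 3, 3, 0, 2, 4, 1, 4, 4, 1, 3, 3, 0, 0, 0, 4, 1, 4, 4, 4, 0], 0), ([], 0), ([], 0), ([], 0), ([], 0), ([1, 2, 3, 3, 2, 1, 1, 2, 2, 1, 3, 0, 2, 2, 0, 4, 3, 2, 3, 0, 0, 4, 0, 2, 4, 3, 2, 0, 0, 1, 2, 3, 0, 0, 0, 3, 4, 4, 0, 1, 3, 3, 1, 3, 3, 2, 0, 3, 0, 2, 2, 1, 3, 3, 4, 4, 4, 1, 4, 4], 0), ([], 0), ([], 0), ([], 0), ([], 0), ([], 0), ([], 0), ([], 0), ([], 0), ([], 0), ([], 0), ([], 0), ([], 0), ([], 0), ([], 0), ([], 0), ([], 0), ([], 0), ([], 0), ([], 0), ([], 0), ([], 0), ([], 0), ([], 0), ([], 0), ([2, 3, 0, 0, 4, 2, 0, 2, 1, 3, 0, 0, 4, 0,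 4, 1, 2, 4, 2, 3, 1, 0, 1, 0, 0, 4, 2, 1, 3, 2, 3, 1, 1, 3, 0, 1, 0, 4, 4, 2, 0, 2, 4, 3, 0, 1, 3, 0, 2, 2, 0, 3, 2, 2, 4, 2, 0, 4, 2, 0], 0), ([], 0), ([], 0), ([], 0), ([], 0), ([], 0), ([], 0), ([], 0), ([], 0), ([], 0), ([], 0), ([0, 4, 0, 4, 0, 2, 2, 1, 1, 2, 3, 3, 4, 0, 0, 3, 3, 3, 1, 3, 3, 4, 3, 0, 1, 4, 3, 2, 2, 3, 2, 3, 0, 3, 4, 4, 1, 0, 1, 0, 0, 1, 1, 2, 0, 3, 0, 0, 0, 2, 4, 1, 4, 2, 4, 3, 4, 4, 0, 0], 0), ([], 0), ([], 0), ([], 0), ([], 0), ([], 0), ([], 0), ([], 0), ([], 0), ([], 0), ([1, 1, 2, 0, 2, 0, 2, 4, 4, 2, 3, 4, 3, 3, 1, 3, 1, 3, 4, 1, 1, 2, 3, 2, 4, 4, 4, 1, 1, 1, 2, 2, 3, 3, 4, 4, 4, 0, 3, 3, 4, 3, 3, 0, 3, 3, 4, 4, 1, 3, 3, 1, 3, 4, 2, 1, 0, 0, 3, 4], 0), ([], 0), ([2, 1, 1, 4, 4, 4,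 3, 1, 2, 3, 0, 2, 0, 0, 0, 4, 1, 0, 3, 0, 1, 2, 0, 1, 2, 4, 4, 2, 4, 0, 4, 0, 0, 0, 1, 2, 1, 1, 4, 3, 1, 0, 3, 2, 3, 0, 4, 3, 3, 4, 3, 1, 2, 1, 3, 3, 3, 4, 2, 0], 0), ([], 0), ([], 0), ([], 0), ([], 0), ([], 0), ([], 0), ([], 0), ([], 0), ([], 0), ([], 0), ([], 0), ([], 0), ([], 0), ([], 0), ([], 0), ([], 0), ([], 0), ([], 0), ([], 0), ([2, 2, 3, 2, 1, 2, 1, 1, 1, 1, 0, 2, 1, 4, 3, 1, 3, 4, 3, 2, 3, 3, 4, 4, 2, 2, 2, 0, 2, 0, 2, 1, 4, 1, 1, 4, 2, 1, 1, 1, 2, 1, 0, 4, 4, 4, 3, 4, 4, 3, 4, 1, 4, 2, 1, 0, 4, 0, 3, 3], 0), ([], 0), ([4, 2, 0, 3, 1, 1, 2, 2, 4, 1, 2, 1, 2, 4, 0, 1, 2, 2, 2, 3, 0, 0, 4, 1, 3, 4, 1, 4, 0, 2, 1, 3, 1, 0, 1, 3, 1, 1, 2, 2, 0, 2, 2, 2, 1, 3, 2, 1, 1, 2, 0, 2, 2, 2, 2, 4, 2, 4, 4, 3],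 0), ([], 0), ([], 0), ([], 0), ([], 0), ([], 0), ([], 0), ([], 0), ([], 0), ([], 0), ([3, 2, 4, 3, 1, 1, 1, 2, 3, 0, 0, 2, 4, 1, 0, 0, 2, 4, 0, 1, 1, 1, 4, 1, 4, 3, 2, 4, 0, 4, 0, 0, 2, 3, 1, 2, 3, 0, 0, 2, 4, 0, 0, 3, 1, 4, 1, 1, 4, 2, 4, 3, 3, 1, 4, 4, 1, 3, 1, 4], 0), ([], 0), ([], 0), ([], 0), ([], 0), ([], 0), ([], 0), ([], 0), ([], 0), ([2, 1, 1, 0, 1, 4, 0, 1, 2, 2, 0, 2, 3, 0, 0, 4, 1, 1, 1, 0, 0, 1, 3, 3, 2, 1, 3, 2, 1, 2, 1, 2, 2, 3, 1, 1, 4, 3, 1, 2, 3, 4, 2, 3, 4, 0, 2, 3, 0, 1, 2, 3, 2, 1, 2, 4, 1, 4, 0, 2], 0), ([4, 2, 1, 4, 2, 0, 2, 3, 3, 4, 2, 0, 0, 0, 2, 1, 4, 4, 4, 4, 2, 4, 0, 2, 1, 2, 1, 0, 0, 0, 2, 2, 3, 0, 4, 0, 3, 4, 4, 2, 2, 1, 3, 4, 0, 0, 0, 0, 2, 3, 2, 4, 0, 4, 0, 3, 4, 0, 3, 2], 0),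 ([1, 4, 0, 4, 4, 3, 4, 4, 0, 1, 0, 4, 0, 3, 1, 2, 2, 1, 3, 2, 3, 4, 0, 2, 0, 1, 1, 0, 4, 3, 1, 0, 2, 0, 1, 2, 2, 2, 4, 3, 4, 3, 0, 1, 1, 1, 1, 3, 3, 0, 2, 1, 4, 1, 1, 1, 4, 2, 2, 3], 0), ([], 0), ([], 0), ([], 0), ([3, 3, 0, 1, 1, 2, 0, 2, 3, 3, 4, 0, 1, 2, 0, 2, 1, 2, 1, 2, 3, 0, 3, 0, 2, 3, 0, 2, 4, 4, 3, 3, 0, 1, 3, 4, 0, 3, 4, 2, 3, 2, 1, 3, 2, 0, 3, 3, 2, 4, 0, 1, 3, 2, 2, 1, 1, 4, 1, 0], 0), ([], 0), ([], 0), ([], 0), ([], 0), ([], 0), ([], 0), ([], 0), ([], 0), ([], 0), ([], 0), ([], 0), ([], 0), ([], 0), ([], 0), ([], 0), ([], 0), ([], 0), ([], 0), ([], 0), ([], 0), ([], 0), ([], 0), ([], 0), ([], 0), ([], 0), ([], 0), ([], 0), ([], 0), ([], 0), ([], 0), ([], 0), ([], 0), ([], 0), ([], 0), ([], 0), ([],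 0), ([], 0), ([], 0), ([], 0), ([], 0), ([4, 2, 0, 0, 2, 4, 4, 4, 4, 3, 3, 4, 0, 1, 0, 3, 2, 2, 1, 1, 3, 0, 4, 1, 4, 3, 2, 3, 1, 2, 3, 4, 4, 2, 4, 1, 3, 3, 3, 3, 3, 1, 0, 2, 3, 4, 3, 4, 2, 1, 1, 4, 0, 2, 1, 0, 3, 0, 0, 0], 0), ([], 0), ([], 0), ([], 0), ([], 0), ([], 0), ([], 0), ([], 0), ([], 0), ([], 0), ([], 0), ([], 0), ([], 0), ([3, 1, 4, 2, 1, 1, 3, 2, 4, 2, 4, 1, 3, 0, 3, 0, 3, 1, 1, 1, 0, 3, 1, 0, 1, 3, 2, 3, 4, 1, 4, 3, 0, 3, 0, 3, 1, 1, 1, 2, 2, 1, 4, 0, 0, 0, 2, 1, 2, 4, 2, 4, 3, 0, 4, 4, 1, 1, 0, 0], 0), ([4, 4, 1, 2, 0, 4, 4, 1, 3, 0, 3, 0, 3, 3, 1, 3, 1, 1, 4, 2, 3, 1, 3, 0, 4, 0, 4, 0, 3, 3, 0, 2, 2, 3, 1, 4, 0, 4, 3, 1, 1, 4, 1, 1, 0, 3, 4, 0, 2, 2, 4, 1, 4, 4, 1, 3, 3, 4, 0, 1], 0), ([], 0),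 ([], 0), ([], 0), ([], 0), ([], 0), ([], 0), ([], 0), ([], 0), ([4, 3, 1, 4, 1, 4, 2, 0, 0, 1, 4, 1, 2, 3, 4, 3, 2, 4, 3, 0, 3, 3, 0, 3, 1, 1, 4, 3, 1, 2, 3, 0, 3, 1, 0, 0, 2, 4, 3, 1, 1, 0, 2, 4, 2, 0, 4, 0, 3, 4, 3, 3, 3, 4, 0, 4, 0, 1, 1, 2], 0), ([], 0), ([], 0), ([], 0), ([], 0), ([2, 0, 3, 3, 0, 1, 1, 0, 3, 1, 0, 1, 4, 1, 1, 3, 2, 2, 1, 4, 0, 1, 1, 1, 3, 3, 4, 2, 3, 1, 2, 4, 2, 0, 3, 3, 3, 2, 0, 2, 2, 4, 1, 2, 1, 0, 2, 1, 3, 2, 0, 3, 1, 4, 4, 3, 0, 3, 2, 3], 0), ([], 0), ([], 0), ([1, 1, 1, 0, 0, 3, 2, 3, 4, 2, 2, 1, 1, 1, 1, 2, 2, 4, 1, 1, 4, 4, 2, 0, 1, 2, 3, 3, 4, 2, 4, 3, 0, 4, 4, 3, 3, 3, 3, 3, 2, 4, 0, 3, 4, 1, 2, 1, 0, 2, 3, 4, 1, 1, 3, 3, 1, 4, 2, 0], 0), ([], 0), ([], 0), ([], 0), ([], 0), ([],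 0), ([1, 1, 3, 3, 2, 1, 0, 3, 1, 4, 4, 3, 3, 0, 3, 1, 4, 3, 1, 1, 4, 2, 0, 3, 3, 0, 4, 4, 0, 0, 4, 1, 4, 3, 2, 3, 1, 1, 0, 4, 0, 3, 3, 2, 4, 0, 2, 1, 4, 2, 3, 3, 0, 3, 1, 0, 3, 0, 1, 1], 0), ([], 0), ([], 0), ([], 0), ([], 0), ([], 0), ([1, 1, 2, 0, 1, 1, 0, 3, 1, 2, 2, 4, 1, 2, 3, 4, 2, 1, 0, 4, 0, 3, 3, 2, 0, 3, 4, 3, 4, 3, 0, 1, 2, 2, 3, 1, 1, 1, 4, 0, 1, 3, 1, 1, 1, 1, 1, 1, 2, 1, 0, 0, 1, 0, 4, 1, 4, 0, 1, 1], 0), ([], 0), ([], 0), ([], 0), ([], 0), ([], 0), ([], 0), ([2, 1, 0, 0, 3, 4, 0, 1, 1, 4, 4, 4, 0, 0, 1, 1, 4, 2, 0, 0, 4, 2, 3, 0, 3, 0, 1, 4, 2, 0, 2, 2, 0, 1, 1, 1, 0, 4, 3, 0, 2, 4, 4, 0, 2, 2, 0, 2, 4, 0, 4, 4, 2, 2, 1, 1, 3, 3, 2, 1], 0), ([], 0), ([], 0), ([], 0), ([], 0), ([], 0), ([], 0),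 ([], 0), ([], 0), ([], 0), ([], 0), ([], 0), ([], 0), ([], 0), ([], 0), ([], 0), ([], 0), ([], 0), ([2, 2, 4, 1, 4, 4, 0, 4, 4, 3, 4, 1, 3, 3, 4, 4, 1, 2, 3, 0, 2, 3, 4, 3, 0, 4, 4, 2, 1, 1, 1, 3, 4, 2, 0, 2, 1, 4, 1, 4, 4, 3, 0, 4, 3, 0, 2, 2, 0, 4, 1, 0, 0, 1, 0, 2, 0, 0, 2, 4], 0), ([], 0), ([], 0), ([], 0), ([], 0), ([], 0), ([], 0), ([], 0), ([], 0), ([], 0), ([], 0), ([], 0), ([], 0), ([], 0), ([], 0), ([], 0), ([], 0), ([], 0), ([1, 3, 1, 3, 0, 3, 0, 1, 3, 3, 2, 1, 1, 2, 2, 4, 0, 2, 1, 4, 4, 0, 1, 3, 1, 3, 0, 3, 4, 3, 0, 1, 1, 1, 1, 3, 3, 4, 4, 0, 3, 1, 3, 0, 3, 0, 0, 1, 3, 0, 0, 0, 1, 3, 0, 0, 4, 3, 2, 4], 0), ([], 0), ([], 0), ([], 0), ([], 0), ([], 0), ([], 0), ([], 0), ([], 0), ([], 0), ([], 0), ([],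 0), ([], 0), ([], 0), ([], 0), ([], 0), ([], 0), ([], 0), ([], 0), ([], 0), ([], 0), ([], 0), ([], 0), ([], 0), ([], 0), ([], 0), ([], 0), ([0, 4, 3, 0, 1, 3, 0, 3, 3, 1, 3, 2, 2, 3, 1, 4, 3, 4, 3, 1, 0, 2, 0, 3, 2, 3, 0, 0, 1, 3, 1, 3, 1, 3, 0, 1, 4, 0, 2, 1, 4, 2, 0, 1, 0, 0, 2, 4, 0, 3, 3, 3, 1, 2, 0, 0, 2, 2, 0, 4], 0), ([], 0), ([], 0), ([], 0), ([2, 1, 1, 3, 1, 1, 3, 3, 2, 0, 2, 3, 1, 0, 0, 4, 3, 1, 3, 3, 4, 2, 0, 0, 3, 1, 1, 1, 0, 2, 2, 0, 4, 2, 4, 2, 3, 0, 4, 3, 2, 0, 0, 3, 2, 3, 4, 3, 1, 3, 4, 2, 3, 3, 0, 1, 1, 1, 4, 1], 0), ([], 0), ([], 0), ([], 0), ([], 0), ([3, 1, 0, 2, 0, 3, 2, 4, 4, 1, 2, 1, 2, 1, 1, 3, 1, 2, 2, 2, 0, 0, 2, 2, 4, 2, 0, 3, 4, 3, 0, 2, 3, 1, 0, 3, 2, 3, 0, 4, 1, 0, 3, 3, 4, 3, 0,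 0, 4, 4, 4, 3, 1, 4, 4, 3, 2, 3, 0, 1], 0), ([], 0), ([], 0), ([], 0), ([], 0), ([], 0), ([], 0), ([], 0), ([], 0), ([], 0), ([], 0), ([], 0), ([], 0), ([], 0), ([0, 1, 4, 1, 2, 4, 2, 1, 4, 2, 2, 1, 2, 4, 2, 3, 4, 3, 1, 0, 3, 3, 4, 1, 1, 0, 1, 1, 0, 4, 4, 0, 0, 4, 0, 2, 2, 4, 2, 3, 2, 2, 4, 4, 3, 2, 1, 3, 4, 1, 1, 1, 3, 3, 0, 0, 4, 0, 3, 3], 0), ([], 0), ([], 0), ([], 0), ([], 0), ([], 0), ([], 0), ([], 0), ([], 0), ([], 0), ([1, 2, 4, 3, 2, 4, 4, 0, 4, 3, 2, 1, 1, 0, 1, 1, 2, 4, 2, 2, 1, 1, 2, 0, 2, 1, 3, 1, 1, 4, 4, 1, 2, 0, 0, 4, 3, 2, 0, 2, 2, 0, 1, 0, 3, 0, 1, 1, 0, 2, 4, 1, 1, 4, 1, 3, 0, 2, 1, 3], 0), ([], 0), ([], 0), ([], 0), ([], 0), ([], 0), ([], 0), ([], 0), ([], 0), ([], 0), ([], 0), ([], 0), ([],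 0), ([2, 3, 0, 1, 1, 0, 3, 3, 4, 2, 3, 3, 0, 0, 1, 2, 2, 1, 4, 2, 1, 2, 0, 1, 4, 1, 4, 3, 1, 2, 4, 2, 2, 3, 3, 1, 0, 2, 1, 4, 3, 1, 2, 0, 3, 0, 1, 4, 0, 0, 1, 1, 2, 0, 1, 1, 1, 3, 3, 3], 0), ([], 0), ([], 0), ([0, 4, 4, 4, 0, 2, 2, 4, 2, 1, 1, 4, 2, 4, 4, 3, 4, 3, 4, 2, 0, 1, 3, 0, 2, 0, 0, 0, 1, 1, 1, 1, 1, 3, 1, 0, 0, 4, 4, 3, 4, 2, 1, 3, 0, 0, 0, 3, 0, 0, 0, 3, 3, 0, 3, 0, 2, 4, 0, 4], 0), ([], 0), ([], 0), ([], 0), ([], 0), ([], 0), ([], 0), ([], 0), ([], 0), ([], 0), ([], 0), ([], 0), ([], 0), ([], 0), ([], 0), ([3, 3, 3, 1, 1, 2, 4, 1, 0, 3, 0, 0, 3, 3, 0, 2, 2, 1, 3, 1, 2, 0, 1, 0, 1, 0, 4, 3, 1, 4, 4, 4, 1, 4, 1, 1, 3, 1, 2, 2, 4, 1, 4, 2, 1, 1, 4, 3, 2, 4, 1, 3, 3, 2, 3, 2, 2, 1, 1, 4], 0), ([], 0),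 ([], 0), ([], 0), ([], 0), ([], 0), ([], 0), ([], 0), ([3, 2, 3, 1, 3, 4, 2, 0, 4, 1, 0, 1, 2, 4, 2, 1, 3, 1, 1, 3, 1, 0, 0, 3, 4, 1, 3, 3, 0, 0, 4, 3, 4, 1, 0, 2, 4, 2, 2, 4, 1, 1, 2, 3, 3, 2, 3, 3, 1, 3, 2, 4, 1, 3, 2, 0, 1, 2, 4, 4], 0), ([], 0), ([], 0), ([], 0), ([], 0), ([], 0), ([], 0), ([], 0), ([], 0), ([], 0), ([], 0), ([1, 2, 4, 4, 0, 2, 3, 3, 0, 1, 0, 1, 0, 4, 2, 0, 0, 3, 4, 2, 3, 3, 0, 4, 3, 2, 3, 2, 4, 1, 2, 0, 4, 1, 0, 2, 3, 3, 1, 1, 4, 2, 2, 2, 0, 2, 3, 3, 4, 4, 3, 0, 2, 3, 0, 1, 4, 1, 0, 3], 0), ([], 0), ([], 0), ([], 0), ([2, 3, 2, 2, 1, 4, 1, 2, 2, 2, 1, 0, 3, 0, 4, 0, 3, 3, 3, 4, 4, 3, 4, 3, 1, 0, 4, 1, 3, 0, 2, 1, 2, 4, 1, 2, 4, 4, 2, 0, 0, 2, 2, 4, 0, 2, 4, 0, 4, 1, 4, 3, 0, 2, 3, 1, 0,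 0, 2, 4], 0), ([], 0), ([], 0), ([], 0), ([], 0), ([], 0), ([], 0), ([], 0), ([], 0), ([0, 2, 0, 2, 0, 4, 2, 2, 4, 2, 3, 4, 1, 3, 4, 3, 1, 1, 3, 4, 2, 4, 0, 2, 1, 0, 1, 0, 3, 2, 1, 3, 3, 3, 4, 3, 2, 2, 4, 0, 2, 2, 0, 4, 0, 3, 0, 4, 1, 3, 2, 1, 2, 4, 1, 4, 0, 4, 1, 1], 0), ([], 0), ([], 0), ([], 0), ([], 0), ([], 0), ([], 0), ([], 0), ([], 0), ([], 0), ([], 0), ([], 0), ([], 0), ([], 0), ([], 0), ([], 0), ([], 0), ([], 0), ([1, 0, 3, 0, 0, 0, 2, 3, 3, 2, 1, 3, 4, 2, 2, 3, 1, 4, 4, 1, 0, 3, 1, 4, 3, 2, 1, 3, 4, 4, 2, 1, 2, 1, 0, 0, 4, 3, 1, 4, 4, 2, 2, 0, 3, 1, 3, 2, 0, 2, 3, 4, 3, 4, 3, 0, 2, 4, 4, 0], 0), ([], 0), ([], 0), ([], 0), ([], 0), ([], 0), ([], 0), ([], 0), ([], 0), ([], 0), ([], 0), ([], 0), ([],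 0), ([], 0), ([], 0), ([], 0), ([], 0), ([], 0), ([], 0), ([], 0), ([], 0), ([0, 0, 0, 1, 4, 1, 3, 3, 4, 1, 0, 1, 0, 0, 1, 4, 1, 2, 1, 1, 0, 4, 1, 1, 4, 0, 0, 2, 2, 1, 4, 3, 0, 3, 2, 1, 4, 0, 0, 1, 1, 0, 0, 0, 1, 3, 0, 2, 2, 1, 0, 4, 4, 0, 3, 2, 2, 2, 3, 1], 0), ([], 0), ([], 0), ([], 0), ([], 0), ([], 0), ([], 0), ([], 0), ([], 0), ([], 0), ([], 0), ([], 0), ([0, 2, 4, 1, 4, 3, 4, 4, 2, 1, 2, 1, 3, 4, 0, 4, 0, 0, 2, 2, 2, 2, 2, 3, 0, 3, 0, 3, 1, 0, 3, 1, 4, 1, 2, 4, 0, 3, 3, 4, 2, 0, 2, 4, 2, 0, 1, 1, 2, 1, 4, 0, 1, 4, 0, 1, 0, 3, 2, 1], 0), ([], 0), ([], 0), ([], 0), ([], 0), ([], 0), ([], 0), ([], 0), ([], 0), ([], 0), ([], 0), ([], 0), ([], 0), ([], 0), ([0, 0, 4, 2, 2, 3, 0, 0, 1, 2, 3, 4, 3, 4, 4, 3, 0,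 3, 2, 1, 3, 2, 2, 0, 1, 3, 0, 4, 2, 4, 1, 1, 4, 0, 1, 2, 3, 0, 4, 4, 4, 4, 2, 0, 3, 1, 2, 0, 1, 0, 0, 0, 2, 4, 0, 1, 1, 1, 1, 2], 0), ([], 0), ([], 0), ([], 0), ([], 0), ([4, 3, 0, 2, 0, 3, 3, 0, 3, 0, 0, 1, 0, 1, 3, 0, 0, 0, 0, 3, 4, 2, 1, 3, 4, 4, 4, 1, 1, 1, 0, 2, 1, 1, 4, 4, 2, 4, 1, 4, 2, 1, 3, 0, 3, 1, 0, 4, 0, 1, 4, 2, 1, 4, 3, 2, 0, 3, 1, 0], 0), ([1, 4, 2, 2, 1, 2, 3, 0, 3, 2, 2, 3, 4, 3, 2, 0, 1, 4, 2, 0, 2, 4, 0, 0, 3, 2, 2, 2, 2, 1, 4, 0, 4, 1, 0, 2, 2, 0, 3, 4, 0, 4, 0, 4, 3, 4, 1, 1, 1, 3, 1, 3, 4, 2, 2, 4, 1, 2, 3, 4], 0), ([], 0), ([], 0), ([], 0), ([], 0), ([], 0), ([], 0), ([], 0), ([], 0), ([], 0), ([], 0), ([], 0), ([], 0), ([], 0), ([], 0), ([], 0), ([], 0), ([], 0), ([], 0), ([], 0), ([],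 0), ([], 0), ([], 0), ([], 0), ([], 0), ([], 0), ([2, 2, 3, 1, 4, 3, 4, 3, 0, 3, 0, 1, 4, 1, 0, 0, 4, 4, 1, 2, 2, 3, 3, 1, 4, 2, 2, 2, 0, 2, 3, 1, 4, 0, 3, 3, 3, 2, 3, 2, 1, 1, 0, 0, 4, 4, 4, 4, 2, 1, 3, 1, 0, 2, 0, 0, 3, 4, 1, 4], 0), ([], 0), ([1, 2, 0, 3, 1, 4, 1, 0, 2, 4, 4, 3, 4, 0, 1, 4, 0, 1, 1, 0, 0, 2, 0, 3, 4, 2, 4, 1, 2, 2, 0, 2, 2, 0, 0, 2, 0, 2, 2, 3, 2, 3, 1, 2, 0, 1, 1, 3, 4, 0, 0, 3, 0, 4, 1, 2, 2, 0, 0, 2], 0), ([], 0), ([], 0), ([], 0), ([1, 1, 3, 1, 4, 3, 3, 0, 3, 3, 2, 0, 1, 4, 4, 4, 2, 1, 2, 3, 1, 0, 1, 3, 0, 1, 2, 2, 1, 0, 4, 0, 3, 2, 4, 0, 2, 1, 0, 0, 0, 1, 4, 3, 1, 3, 2, 3, 2, 4, 3, 1, 4, 4, 3, 3, 3, 3, 2, 3], 0), ([], 0), ([], 0), ([], 0), ([2, 3, 0, 3, 3, 4, 3, 3, 1, 3, 1, 2, 1, 2,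 4, 1, 4, 3, 1, 4, 4, 1, 0, 0, 2, 1, 4, 3, 0, 0, 4, 2, 2, 0, 3, 2, 2, 1, 0, 3, 1, 2, 2, 1, 1, 3, 4, 3, 4, 2, 1, 1, 1, 2, 2, 2, 4, 2, 4, 2], 0), ([], 0), ([], 0), ([], 0), ([], 0), ([], 0), ([], 0), ([], 0), ([], 0), ([], 0), ([], 0), ([], 0), ([], 0), ([], 0), ([], 0), ([], 0), ([], 0), ([0, 4, 0, 2, 2, 1, 0, 2, 1, 3, 4, 0, 3, 0, 3, 4, 4, 3, 2, 2, 2, 0, 1, 1, 0, 1, 3, 1, 4, 2, 1, 4, 3, 4, 3, 2, 2, 0, 4, 1, 4, 2, 3, 2, 3, 3, 4, 4, 3, 3, 3, 3, 2, 0, 4, 3, 2, 1, 1, 3], 0), ([4, 1, 1, 2, 4, 2, 2, 1, 0, 0, 2, 2, 0, 2, 2, 4, 2, 4, 1, 1, 0, 3, 4, 1, 1, 2, 3, 3, 1, 1, 2, 1, 4, 2, 2, 4, 1, 0, 0, 2, 2, 4, 1, 4, 3, 3, 3, 4, 2, 1, 3, 4, 2, 3, 1, 3, 0, 2, 0, 2], 0), ([], 0), ([], 0), ([], 0), ([], 0), ([], 0), ([], 0), ([],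 0), ([], 0), ([], 0), ([], 0), ([], 0), ([], 0), ([], 0), ([4, 3, 0, 3, 1, 4, 2, 2, 0, 3, 2, 4, 1, 4, 4, 2, 2, 2, 3, 1, 4, 1, 4, 3, 0, 4, 1, 1, 1, 3, 1, 0, 0, 0, 3, 3, 4, 3, 1, 4, 0, 3, 3, 3, 0, 0, 4, 0, 3, 1, 2, 2, 4, 1, 4, 0, 1, 1, 4, 4], 0), ([], 0), ([], 0), ([], 0), ([], 0), ([], 0), ([], 0), ([], 0), ([], 0), ([], 0), ([], 0), ([], 0), ([2, 0, 4, 1, 3, 1, 4, 4, 0, 3, 1, 1, 0, 4, 3, 0, 4, 3, 2, 0, 0, 4, 1, 0, 3, 3, 4, 2, 2, 1, 2, 1, 3, 1, 1, 1, 4, 1, 1, 4, 0, 4, 0, 1, 3, 4, 4, 0, 0, 1, 3, 1, 4, 0, 1, 0, 3, 2, 0, 0], 0), ([], 0), ([], 0), ([], 0), ([], 0), ([], 0), ([], 0), ([], 0), ([], 0), ([], 0), ([], 0), ([], 0), ([], 0), ([], 0), ([], 0), ([], 0), ([0, 4, 1, 4, 2, 1, 3, 4, 1, 2, 0, 0, 0, 4, 0, 4, 0,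 3, 3, 3, 1, 2, 1, 0, 2, 0, 4, 4, 0, 1, 2, 0, 4, 3, 3, 3, 3, 4, 4, 0, 3, 4, 2, 2, 1, 0, 0, 2, 1, 3, 1, 2, 0, 3, 3, 0, 2, 2, 4, 1], 0), ([1, 3, 1, 2, 4, 1, 3, 4, 3, 3, 1, 4, 1, 4, 3, 3, 4, 0, 2, 0, 3, 0, 1, 1, 4, 2, 3, 0, 4, 0, 4, 3, 3, 1, 4, 0, 3, 0, 4, 1, 1, 3, 1, 2, 2, 3, 4, 2, 0, 4, 1, 0, 1, 0, 4, 0, 1, 4, 2, 4], 0), ([], 0), ([], 0), ([], 0), ([], 0), ([], 0), ([], 0), ([], 0), ([], 0), ([], 0), ([], 0), ([], 0), ([], 0), ([], 0), ([], 0), ([], 0), ([], 0), ([], 0), ([], 0), ([], 0), ([], 0), ([], 0), ([], 0), ([], 0), ([], 0), ([], 0), ([], 0), ([], 0), ([3, 0, 2, 4, 1, 2, 2, 1, 1, 1, 3, 1, 0, 4, 1, 0, 3, 3, 3, 2, 4, 0, 3, 4, 2, 1, 3, 0, 1, 1, 3, 4, 3, 1, 3, 4, 2, 4, 3, 1, 2, 4, 2, 2, 0, 1, 2, 2, 1, 0, 2,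 3, 3, 1, 3, 4, 4, 2, 2, 2], 0), ([], 0), ([], 0), ([], 0), ([], 0), ([], 0), ([1, 1, 3, 2, 0, 2, 3, 1, 1, 3, 0, 2, 4, 2, 2, 0, 3, 4, 0, 1, 3, 0, 3, 1, 1, 2, 3, 1, 4, 4, 0, 2, 1, 0, 2, 0, 2, 2, 0, 0, 0, 1, 1, 0, 2, 1, 2, 3, 1, 4, 1, 3, 4, 4, 4, 4, 3, 2, 1, 3], 0), ([], 0), ([], 0), ([], 0), ([], 0), ([], 0), ([], 0), ([], 0), ([], 0), ([], 0), ([], 0), ([], 0), ([], 0), ([], 0), ([2, 0, 2, 2, 1, 2, 0, 0, 0, 0, 0, 3, 4, 4, 2, 2, 1, 2, 3, 4, 4, 1, 2, 3, 0, 4, 3, 3, 1, 4, 4, 1, 0, 4, 3, 1, 4, 2, 3, 0, 0, 4, 0, 2, 4, 2, 4, 0, 4, 1, 4, 4, 3, 0, 2, 0, 0, 1, 0, 2], 0), ([], 0), ([], 0), ([], 0), ([], 0), ([], 0), ([2, 3, 2, 2, 2, 4, 4, 4, 3, 1, 2, 3, 2, 4, 3, 0, 4, 4, 2, 3, 2, 2, 0, 2, 2, 4, 2, 2, 1, 0, 2, 4, 0, 4,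 4, 3, 2, 2, 3, 4, 0, 4, 0, 2, 3, 0, 3, 2, 2, 0, 0, 0, 2, 4, 2, 3, 3, 2, 2, 3], 0), ([], 0), ([], 0), ([], 0), ([], 0), ([], 0), ([2, 2, 2, 2, 4, 2, 1, 1, 2, 2, 0, 2, 4, 0, 2, 0, 1, 1, 3, 1, 4, 4, 1, 0, 1, 4, 0, 1, 0, 0, 1, 0, 2, 0, 3, 1, 4, 0, 3, 1, 2, 1, 2, 2, 0, 0, 1, 1, 4, 4, 3, 4, 2, 1, 1, 1, 3, 1, 3, 0], 0), ([2, 3, 2, 2, 3, 0, 0, 0, 3, 0, 1, 2, 0, 0, 0, 2, 4, 2, 4, 0, 4, 3, 0, 1, 4, 2, 3, 4, 1, 4, 0, 4, 3, 1, 0, 2, 4, 1, 4, 3, 4, 1, 1, 1, 1, 0, 0, 3, 3, 0, 3, 0, 0, 2, 3, 4, 1, 2, 4, 1], 0), ([], 0), ([3, 0, 4, 4, 3, 3, 4, 4, 0, 1, 0, 0, 2, 1, 2, 0, 0, 4, 4, 4, 1, 1, 0, 4, 1, 1, 2, 0, 3, 3, 0, 1, 2, 0, 4, 1, 2, 2, 2, 4, 3, 1, 2, 3, 4, 3, 0, 3, 0, 2, 0, 2, 4, 2, 0, 2, 4, 2, 1, 2], 0), ([2, 1, 3, 0, 3, 2,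 0, 4, 0, 4, 0, 3, 3, 1, 3, 4, 2, 3, 3, 1, 1, 0, 4, 1, 0, 4, 3, 0, 0, 0, 4, 0, 2, 1, 4, 3, 4, 4, 4, 4, 4, 4, 4, 1, 3, 4, 2, 3, 0, 0, 0, 0, 1, 0, 4, 0, 4, 4, 3, 3], 0), ([], 0)]

set_option maxRecDepth 1000000 in
set_option maxHeartbeats 4000000 in
theorem el_c3b_check : ListM24 el_c3b ∧
    conjCheck el_gens el_c3b isOrd3L el_rep3 (k4_model.nodes k4_tabs idList k4_cert) el_c3b_data = true := by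
  decide +kernel


end Cfsg.Agent.Lib.Helper28
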