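import Cfsg.Agent.Lib.Helper28.DataFusM12

set_option autoImplicit false

/-!
Data for a Sylow 2-subgroup of the stabilizer of the base dodecad and the point `0`: the
stabilizer of a further point and of a pair of points.
-/

namespace Cfsg.Agent.Lib.Helper28

open Cfsg MulAction
open scoped Pointwise

/-- a point of the base dodecad -/
def f11_Q : List ℕ := [1]

/-- a pair of points of the base dodecad -/
def f11_F : List ℕ := [2, 3]

set_option maxRecDepth 1000000 in
set_option maxHeartbeats 4000000 in
theorem f11_base_check : GoodSet f11_Q ∧ GoodSet f11_F := by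
  decide +kernel

def f11_ocert1 : List (List ℕ) := [[0, 1], [0], [0], [0, 1], [1], [0], [1], [], [1]]

abbrev f11_omodel1 := setModel 37 251

/-- the images of the point -/
abbrev f11_nodes1 : List (List ℕ) := f11_omodel1.nodes ci_mtabs f11_Q f11_ocert1

set_option maxRecDepth 1000000 in
set_option maxHeartbeats 4000000 in
theorem f11_ocheck1 : distinctAux (f11_nodes1.map f11_omodel1.code) 0 = true ∧
    f11_nodes1.length = 11 := by
  decide +kernel

/-- generators of the stabilizer of the point -/
def f11_ktabs : List ℕ := [964812097413994125264832280397004832, 111900915340140799565762007607382048]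

set_option maxRecDepth 1000000 in
set_option maxHeartbeats 4000000 in
theorem f11_ktabs_check : ∀ t ∈ f11_ktabs, TabM24 t ∧ setEqB (stepSet t m9_base) m9_base = true ∧
    look t 0 = 0 ∧ setEqB (stepSet t f11_Q) f11_Q = true := by
  decide +kernel

def f11_ocert2 : List (List ℕ) := [[0, 1], [0, 1], [1], [1], [0, 1], [0], [0, 1], [1], [0], [0, 1], [0, 1], [0], [0, 1], [0], [0], [0, 1], [0], [], [1], [1], [0], [0], [], [0], [0], [1], [0], [0], [0, 1], [1], [1], [1], [1], [], [1], [], [0], [], [0], [0]]

abbrev f11_omodel2 := setModel 140 997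

/-- the images of the pair -/
abbrev f11_nodes2 : List (List ℕ) := f11_omodel2.nodes f11_ktabs f11_F f11_ocert2

set_option maxRecDepth 1000000 in
set_option maxHeartbeats 4000000 in
theorem f11_ocheck2 : distinctAux (f11_nodes2.map f11_omodel2.code) 0 = true ∧
    f11_nodes2.length = 45 := by
  decide +kernel

/-- the central involution -/
def f11_z : List ℕ := [0, 1, 2, 3, 12, 23, 22, 10, 19, 11, 7, 9, 4, 13, 17, 16, 15, 14, 18, 8, 20, 21, 6, 5]

/-- generators of the Sylow subgroup: two conjugates of the central involution and a conjugate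
of their product -/
def f11_pgs : List (List ℕ) := [[0, 1, 3, 2, 12, 9, 14, 7, 19, 5, 10, 23, 4, 13, 6, 15, 16, 22, 20, 8, 18, 21, 17, 11], [0, 1, 3, 2, 15, 5, 6, 8, 7, 11, 19, 9, 16, 21, 17, 4, 12, 14, 18, 10, 20, 13, 22, 23], [0, 1, 2, 3, 5, 12, 8, 14, 22, 15, 17, 16, 23, 18, 10, 11, 9, 7, 13, 6, 21, 20, 19, 4]]

/-- their packed tables -/
def f11_ptabs : List ℕ := [479864406656447012501278885249354784, 984493369334060478447889424982281248, 191655080657721609818884470928934944]

/-- the conjugating elements: `g z g⁻¹` is the generator, for the first two generators -/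
def f11_gs : List (List ℕ) := [[0, 16, 15, 1, 12, 3, 17, 20, 6, 5, 18, 9, 4, 10, 19, 23, 11, 8, 7, 14, 21, 13, 22, 2], [0, 1, 23, 5, 16, 9, 17, 10, 8, 3, 19, 2, 12, 6, 21, 4, 15, 13, 18, 7, 20, 22, 14, 11]]

/-- the conjugating element for the last generator -/
def f11_gx : List ℕ := [0, 3, 2, 1, 16, 12, 17, 19, 22, 23, 8, 5, 15, 18, 7, 9, 11, 10, 20, 6, 21, 13, 14, 4]

/-- the element whose conjugate is the last generator -/
def f11_w : List ℕ := [0, 1, 2, 3, 15, 9, 14, 19, 7, 23, 8, 5, 16, 21, 22, 12, 4, 6, 20, 10, 18, 13, 17, 11]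

def f11_pcert : List (List ℕ) := [[0, 1, 2], [1, 2], [0, 2], [0, 1, 2], [0, 2], [0, 1, 2]]

noncomputable abbrev f11_model := elemModel 4093

/-- the elements of the Sylow subgroup -/
noncomputable abbrev f11_nodes : List (List ℕ) := f11_model.nodes f11_ptabs idList f11_pcert

set_option maxRecDepth 1000000 in
set_option maxHeartbeats 4000000 in
theorem f11_pgs_check : f11_ptabs = f11_pgs.map packL ∧ ∀ x ∈ f11_pgs, ListM24 x ∧
    (∀ a : Fin 24, look (packL x) a.val = x.getD a.val 0) ∧
    setEqB (stepSet (packL x) m9_base) m9_base = true ∧ x.getD 0 0 = 0 ∧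
    setEqB (stepSet (packL x) f11_Q) f11_Q = true ∧
    setEqB (stepSet (packL x) f11_F) f11_F = true := by
  decide +kernel

set_option maxRecDepth 1000000 in
set_option maxHeartbeats 4000000 in
theorem f11_pcheck : distinctAux (f11_nodes.map f11_model.code) 0 = true ∧
    f11_nodes.length = 16 := by
  decide +kernel

set_option maxRecDepth 1000000 in
set_option maxHeartbeats 4000000 in
theorem f11_nodes_check : ∀ l ∈ f11_nodes,
    l = idList ∨ l = f11_z ∨ ∃ x ∈ f11_pgs, compL l x ≠ compL x l := by
  decide +kernel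

set_option maxRecDepth 1000000 in
set_option maxHeartbeats 4000000 in
theorem f11_conj_check : f11_z ∈ f11_nodes ∧ (∀ p ∈ (f11_pgs.take 2).zip f11_gs, ListM24 p.2 ∧
    setEqB (stepSet (packL p.2) m9_base) m9_base = true ∧ p.2.getD 0 0 = 0 ∧
    (∀ a : Fin 24, look (packL p.2) a.val = p.2.getD a.val 0) ∧
    compL p.2 f11_z = compL p.1 p.2) ∧
    ListM24 f11_gx ∧ setEqB (stepSet (packL f11_gx) m9_base) m9_base = true ∧
    f11_gx.getD 0 0 = 0 ∧
    (∀ a : Fin 24, look (packL f11_gx) a.val = f11_gx.getD a.val 0) ∧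
    compL f11_gx f11_w = compL (f11_pgs.getD 2 []) f11_gx ∧
    f11_w = compL (f11_pgs.getD 0 []) (f11_pgs.getD 1 []) := by
  decide +kernel

set_option maxRecDepth 1000000 in
set_option maxHeartbeats 4000000 in
theorem f11_unique_check : (∀ x ∈ f11_nodes1,
      (∀ t ∈ f11_ptabs, setEqB (stepSet t x) x = true) → setEqB x f11_Q = true) ∧
    ∀ x ∈ f11_nodes2,
      (∀ t ∈ f11_ptabs, setEqB (stepSet t x) x = true) → setEqB x f11_F = true := by
  decide +kernel

end Cfsg.Agent.Lib.Helper28
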