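import Cfsg.Agent.Lib.Helper28.CentInvM11
import Cfsg.Agent.Lib.Helper28.ElemFix

set_option autoImplicit false

/-!
Data for a Sylow 2-subgroup of the stabilizer of the base dodecad: the stabilizer of four points
of the dodecad and of a partition of them into two pairs.
-/

namespace Cfsg.Agent.Lib.Helper28

open Cfsg MulAction
open scoped Pointwise

/-- four points of the base dodecad -/
def f12_Q : List ℕ := [0, 1, 2, 3]

/-- a partition of the four points into pairs -/
def f12_F : List (List ℕ) := [[0, 1], [2, 3]]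

set_option maxRecDepth 1000000 in
set_option maxHeartbeats 4000000 in
theorem f12_base_check : GoodSet f12_Q ∧ (∀ l ∈ f12_F, GoodSet l ∧ l ≠ []) ∧
    f12_F.Pairwise listDisjoint := by
  decide +kernel

def f12_ocert1 : List (List ℕ) := [[0, 1], [0, 1], [0, 1], [0, 1], [0, 1], [0, 1], [0, 1], [0, 1], [0, 1], [0, 1], [0, 1], [0, 1], [0, 1], [0, 1], [0, 1], [0, 1], [0, 1], [0, 1], [0, 1], [0], [0, 1], [0, 1], [0, 1], [0, 1], [0, 1], [0], [0, 1], [0], [0, 1], [0, 1], [0, 1], [1], [0, 1], [0, 1], [0, 1], [0, 1], [0, 1], [0, 1], [0, 1], [0, 1], [0, 1], [0, 1], [1], [1], [0, 1], [0, 1], [0, 1], [0, 1], [0, 1], [0, 1], [0, 1], [1], [0], [0, 1], [1], [0, 1], [0], [1], [0, 1], [0, 1], [0], [0, 1], [0, 1], [], [0], [0, 1], [0], [0, 1], [0, 1], [0, 1], [0, 1], [0, 1], [0, 1], [0, 1], [0, 1], [0, 1], [0, 1], [0, 1], [0, 1], [0, 1], [1], [0, 1], [0], [0, 1], [0], [0], [0, 1], [], [0], [0, 1], [0, 1], [0, 1], [0], [0, 1], [0, 1], [0], [0, 1], [0, 1], [0, 1], [0, 1], [0], [0, 1], [1], [0,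 1], [0, 1], [], [0], [0, 1], [], [0, 1], [0], [0, 1], [0, 1], [0, 1], [0, 1], [1], [1], [1], [0, 1], [1], [0, 1], [1], [1], [1], [0], [0, 1], [0, 1], [], [0, 1], [1], [0, 1], [0, 1], [1], [1], [0], [1], [0, 1], [0, 1], [1], [0, 1], [0], [0, 1], [0, 1], [], [], [1], [0, 1], [0], [0, 1], [0, 1], [0, 1], [0, 1], [0, 1], [1], [0, 1], [0, 1], [0, 1], [], [0], [0], [0, 1], [1], [0], [0], [0, 1], [0], [0, 1], [0], [0, 1], [1], [0], [1], [0], [0], [1], [1], [0, 1], [0, 1], [1], [], [0, 1], [1], [], [0, 1], [0, 1], [0, 1], [1], [0, 1], [0], [0], [0], [], [1], [1], [0, 1], [1], [0, 1], [0, 1], [], [1], [1], [1], [0, 1], [1], [], [0, 1], [0], [0], [0], [0], [0, 1], [0, 1], [0, 1], [0], [0, 1], [], [], [], [], [0], [], [0], [0, 1], [], [0], [1], [0], [0, 1], [], [1], [1], [0, 1], [0, 1], [1], [0], [1], [0], [0, 1], [0], [0, 1], [0, 1], [0], [1], [1], [0], [1], [0], [0, 1], [0, 1], [0, 1], [], [1], [1], [0, 1], [1], [0, 1], [0, 1], [0, 1], [], [1], [0, 1], [1], [0, 1], [0, 1], [1], [0, 1],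 [], [], [0, 1], [1], [1], [0], [], [1], [0, 1], [], [], [1], [1], [0], [0, 1], [0], [1], [1], [1], [], [1], [1], [0], [0], [], [0, 1], [0], [0], [0], [0, 1], [], [], [0], [1], [], [], [], [0], [], [1], [], [], [0, 1], [0], [1], [], [1], [0], [], [1], [0, 1], [], [], [], [1], [0, 1], [], [], [1], [], [1], [], [0, 1], [0], [0], [0], [], [0], [], [1], [1], [1], [], [1], [], [], [0], [1], [0], [1], [], [0], [0], [1], [0], [0, 1], [], [1], [], [1], [1], [0], [1], [0], [], [], [0], [], [], [0], [], [], [], [], [], [0], [1], [], [1], [], [], [0], [], [], [], [0], [0], [], [], [], [], [], [], [], [], [0], [], [0], [], [], [0], [], [], [1], [0], [], [1], [], [], [1], [], [0, 1], [1], [], [1], [], [], [], [], [], [], [], [], [], [0], [], [], [0], [0], [1], [], [1], [], [], [0], [], [1], [], [], [], [], [], [], [1], [], [], [], [], [1], [], [], [1], [1], [], [], [1], [], [], [], [], [], [], [], [], [], [], [], [], [], [], [], [], [], [1], [], [], [], [], [], [], [], [], [], [], [], [],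 [], [1]]

abbrev f12_omodel1 := setModel 1103 8179

/-- the images of the four points -/
abbrev f12_nodes1 : List (List ℕ) := f12_omodel1.nodes s5_dtabs f12_Q f12_ocert1

set_option maxRecDepth 1000000 in
set_option maxHeartbeats 4000000 in
theorem f12_ocheck1 : distinctAux (f12_nodes1.map f12_omodel1.code) 0 = true ∧
    f12_nodes1.length = 495 := by
  decide +kernel

/-- generators of the stabilizer of the four points -/
def f12_ktabs : List ℕ := [523999285908529389699553417927591010, 387380419338545113325313307255604226]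

set_option maxRecDepth 1000000 in
set_option maxHeartbeats 4000000 in
theorem f12_ktabs_check : ∀ t ∈ f12_ktabs, TabM24 t ∧ setEqB (stepSet t m9_base) m9_base = true ∧
    setEqB (stepSet t f12_Q) f12_Q = true := by
  decide +kernel

def f12_ocert2 : List (List ℕ) := [[1], [0]]

abbrev f12_omodel2 := famModel 288545021 2147483647 1024

/-- the images of the partition -/
abbrev f12_nodes2 : List (List (List ℕ)) := f12_omodel2.nodes f12_ktabs f12_F f12_ocert2

set_option maxRecDepth 1000000 in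
set_option maxHeartbeats 4000000 in
theorem f12_ocheck2 : distinctAux (f12_nodes2.map f12_omodel2.code) 0 = true ∧
    f12_nodes2.length = 3 := by
  decide +kernel

/-- the central involution -/
def f12_z : List ℕ := [0, 1, 2, 3, 12, 23, 22, 10, 19, 11, 7, 9, 4, 13, 17, 16, 15, 14, 18, 8, 20, 21, 6, 5]

/-- generators of the Sylow subgroup: three conjugates of the central involution and a conjugate
of a product of two of them -/
def f12_pgs : List (List ℕ) := [[1, 0, 2, 3, 4, 9, 14, 10, 8, 5, 7, 23, 12, 21, 6, 16, 15, 22, 18, 19, 20, 13, 17, 11], [2, 3, 0, 1, 12, 5, 22, 10, 8, 11, 7, 9, 4, 20, 14, 15, 16, 17, 21, 19, 13, 18, 6, 23], [0, 1, 3, 2, 16, 23, 22, 19, 10, 9, 8, 11, 15, 21, 14, 12, 4, 17, 18, 7, 20, 13, 6, 5], [3, 2, 1, 0, 23, 4, 8, 17, 22, 15, 14, 16, 5, 13, 7, 11, 9, 10, 18, 6, 20, 21, 19, 12]]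

/-- their packed tables -/
def f12_ptabs : List ℕ := [479542856681831949596530790245697537, 963918492803612076772893908740898914, 216033315535346378741682966364228640, 524001383078310981267920839922156611]

/-- the conjugating elements: `g z g⁻¹` is the generator, for the first three generators -/
def f12_gs : List (List ℕ) := [[4, 3, 12, 2, 15, 11, 10, 21, 14, 0, 13, 1, 16, 20, 22, 5, 9, 17, 8, 6, 18, 19, 7, 23], [16, 15, 5, 23, 2, 9, 22, 18, 13, 12, 21, 4, 0, 17, 7, 1, 3, 10, 19, 20, 8, 14, 6, 11], [11, 1, 0, 9, 3, 23, 8, 6, 7, 4, 22, 16, 2, 18, 21, 12, 15, 13, 20, 19, 14, 17, 10, 5]]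

/-- the conjugating element for the last generator -/
def f12_gx : List ℕ := [4, 12, 23, 5, 1, 15, 19, 20, 18, 11, 21, 9, 2, 14, 22, 0, 3, 6, 10, 13, 7, 17, 8, 16]

/-- the element whose conjugate is the last generator -/
def f12_w : List ℕ := [2, 3, 1, 0, 12, 9, 17, 7, 8, 23, 10, 5, 4, 20, 6, 16, 15, 22, 13, 19, 21, 18, 14, 11]

/-- an element of `M24` moving the base dodecad to the dodecad of squares and fixing `0` -/
def f12_h : List ℕ := [0, 4, 12, 16, 8, 13, 20, 5, 22, 1, 17, 18, 2, 11, 10, 9, 3, 14, 21, 19, 23, 7, 15, 6]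

set_option maxRecDepth 1000000 in
def f12_pcert : List (List ℕ) := [[0, 1, 2, 3], [1, 2, 3], [0, 2, 3], [0, 1, 3], [0, 1, 2, 3], [0, 2, 3], [0, 1, 3], [0, 1, 2, 3], [1, 2, 3], [1, 3], [0, 2, 3], [], [2, 3], [1], [], [], [], [], [1, 2, 3], [1, 3], [0, 2, 3], [], [2, 3], [1], [], [], [], [], [2, 3], [0], [1], [2, 3], [1], [], [], [], [], [], [], [2, 3], [0], [1], [2, 3], [1]]

noncomputable abbrev f12_model := elemModel 65521

/-- the elements of the Sylow subgroup -/
noncomputable abbrev f12_nodes : List (List ℕ) := f12_model.nodes f12_ptabs idList f12_pcert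

set_option maxRecDepth 1000000 in
set_option maxHeartbeats 4000000 in
theorem f12_pgs_check : f12_ptabs = f12_pgs.map packL ∧ ∀ x ∈ f12_pgs, ListM24 x ∧
    (∀ a : Fin 24, look (packL x) a.val = x.getD a.val 0) ∧
    setEqB (stepSet (packL x) m9_base) m9_base = true ∧
    setEqB (stepSet (packL x) f12_Q) f12_Q = true ∧
    famSubB (stepFam (packL x) f12_F) f12_F = true := by
  decide +kernel

set_option maxRecDepth 1000000 in
set_option maxHeartbeats 4000000 in
theorem f12_pcheck : distinctAux (f12_nodes.map f12_model.code) 0 = true ∧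
    f12_nodes.length = 64 := by
  decide +kernel

set_option maxRecDepth 1000000 in
set_option maxHeartbeats 4000000 in
theorem f12_nodes_check : ∀ l ∈ f12_nodes,
    l = idList ∨ l = f12_z ∨ ∃ x ∈ f12_pgs, compL l x ≠ compL x l := by
  decide +kernel

set_option maxRecDepth 1000000 in
set_option maxHeartbeats 4000000 in
theorem f12_conj_check : f12_z ∈ f12_nodes ∧ (∀ p ∈ (f12_pgs.take 3).zip f12_gs, ListM24 p.2 ∧
    setEqB (stepSet (packL p.2) m9_base) m9_base = true ∧
    (∀ a : Fin 24, look (packL p.2) a.val = p.2.getD a.val 0) ∧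
    compL p.2 f12_z = compL p.1 p.2) ∧
    ListM24 f12_gx ∧ setEqB (stepSet (packL f12_gx) m9_base) m9_base = true ∧
    (∀ a : Fin 24, look (packL f12_gx) a.val = f12_gx.getD a.val 0) ∧
    compL f12_gx f12_w = compL (f12_pgs.getD 3 []) f12_gx ∧
    f12_w = compL ((f12_pgs.getD 0 [])) ((f12_pgs.getD 1 [])) := by
  decide +kernel

set_option maxRecDepth 1000000 in
set_option maxHeartbeats 4000000 in
theorem f12_unique_check : (∀ x ∈ f12_nodes1,
      (∀ t ∈ f12_ptabs, setEqB (stepSet t x) x = true) → setEqB x f12_Q = true) ∧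
    ∀ x ∈ f12_nodes2,
      (∀ t ∈ f12_ptabs, famEqB (stepFam t x) x = true) → famEqB x f12_F = true := by
  decide +kernel

set_option maxRecDepth 1000000 in
set_option maxHeartbeats 4000000 in
theorem f12_h_check : ListM24 f12_h ∧ f12_h.getD 0 0 = 0 ∧
    (∀ a : Fin 24, look (packL f12_h) a.val = f12_h.getD a.val 0) ∧
    setEqB (stepSet (packL f12_h) m9_base) [0, 1, 2, 3, 4, 6, 8, 9, 12, 13, 16, 18] = true := by
  decide +kernel

end Cfsg.Agent.Lib.Helper28
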