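import Cfsg.Agent.Lib.Helper28.DataFusM24

set_option autoImplicit false

/-!
Data for the fusion in a Sylow 2-subgroup of `M23` and `M22`: the stabilizer of a point in the
Sylow 2-subgroup of `M24`.
-/

namespace Cfsg.Agent.Lib.Helper28

open Cfsg MulAction
open scoped Pointwise

/-- three involutions generating the stabilizer of a point in the Sylow subgroup -/
def fp_pgs : List (List ℕ) := [[0, 16, 2, 15, 22, 5, 9, 11, 8, 6, 12, 7, 10, 13, 18, 3, 1, 21, 14, 19, 20, 17, 4, 23], [23, 13, 16, 6, 22, 5, 3, 14, 10, 9, 8, 11, 20, 1, 7, 15, 2, 17, 18, 19, 12, 21, 4, 0], [6, 11, 9, 22, 7, 5, 0, 4, 8, 2, 10, 1, 12, 18, 23, 16, 15, 17, 13, 19, 20, 21, 3, 14]]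

/-- their packed tables -/
def fp_ptabs : List ℕ := [961290644579918423623017798904023552, 6060145480204035173653581800882615, 586309454452345973730673223167321446]

/-- elements fixing two points and conjugating the central involution to the generators -/
def fp_gs : List (List ℕ) := [[6, 7, 14, 1, 3, 5, 12, 16, 20, 21, 2, 4, 13, 18, 10, 22, 11, 0, 17, 19, 8, 23, 15, 9], [4, 0, 7, 10, 6, 5, 2, 8, 9, 12, 17, 1, 21, 14, 16, 13, 23, 18, 20, 19, 15, 11, 3, 22], [22, 15, 9, 11, 14, 5, 18, 1, 8, 4, 21, 0, 10, 2, 13, 6, 16, 12, 7, 19, 17, 20, 23, 3]]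

/-- an element moving the two fixed points to the standard ones -/
def fp_h : List ℕ := [8, 6, 16, 11, 19, 23, 14, 9, 21, 4, 15, 5, 22, 20, 10, 13, 2, 12, 18, 0, 1, 3, 7, 17]

set_option maxRecDepth 1000000 in
def fp_pcert : List (List ℕ) := [[0, 1, 2], [1, 2], [0, 2], [0, 1], [0, 2], [0, 1], [1, 2], [0, 1], [1, 2], [0, 2], [1, 2], [0, 1], [1, 2], [0, 2], [2], [0, 1], [1, 2], [0, 2], [0, 2], [1], [1, 2], [0], [2], [0, 1], [1, 2], [0, 2], [0, 2], [1], [1, 2], [0], [0, 1], [1, 2], [0, 2], [0, 2], [1], [1, 2], [0], [1, 2], [0, 1], [0, 2], [2], [0, 1], [1, 2], [0, 1], [1, 2], [0, 2], [0, 2], [1], [1, 2], [0], [1, 2], [0, 1], [0, 2], [2], [0, 1], [1, 2], [1], [2], [0, 2], [], [1], [], [2], [], [], [], [], [1, 2], [], [0], [], [2], [], [], [], [], [], [], [], [1], [2], [0, 2], [], [1], [], [2], [], [], [], [], [1, 2], [], [0], [], [2], [], [], [], [], [], [], [], [0], [], [1, 2], [], [], [], [], [], [], [], [0], [], [1, 2]]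

noncomputable abbrev fp_model := elemModel 65519

/-- the elements of the stabilizer -/
noncomputable abbrev fp_nodes : List (List ℕ) := fp_model.nodes fp_ptabs idList fp_pcert

set_option maxRecDepth 1000000 in
set_option maxHeartbeats 4000000 in
theorem fp_pgs_check : fp_ptabs = fp_pgs.map packL ∧ ∀ x ∈ fp_pgs, x ∈ sy_nodes ∧ x.getD 5 0 = 5 ∧
    ∀ a : Fin 24, look (packL x) a.val = x.getD a.val 0 := by
  decide +kernel

set_option maxRecDepth 1000000 in
set_option maxHeartbeats 4000000 in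
theorem fp_conj_check : ∀ p ∈ fp_pgs.zip fp_gs, ListM24 p.2 ∧ p.2.getD 5 0 = 5 ∧
    p.2.getD 19 0 = 19 ∧ compL p.2 fm_z = compL p.1 p.2 := by
  decide +kernel

set_option maxRecDepth 1000000 in
set_option maxHeartbeats 4000000 in
theorem fp_h_check : ListM24 fp_h ∧ fp_h.getD 5 0 = 23 ∧ fp_h.getD 19 0 = 0 := by
  decide +kernel

set_option maxRecDepth 1000000 in
set_option maxHeartbeats 4000000 in
theorem fp_pcheck : distinctAux (fp_nodes.map fp_model.code) 0 = true ∧ fp_nodes.length = 128 := by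
  decide +kernel

set_option maxRecDepth 1000000 in
set_option maxHeartbeats 4000000 in
theorem fp_nodes_check : ∀ l ∈ fp_nodes, l.getD 19 0 = 19 ∧
    (l = idList ∨ l = fm_z ∨ ∃ x ∈ fp_pgs, compL l x ≠ compL x l) := by
  decide +kernel

set_option maxRecDepth 1000000 in
set_option maxHeartbeats 4000000 in
theorem fp_oct_unique_check : ∀ x ∈ alloct_nodes,
    (∀ t ∈ fp_ptabs, setEqB (stepSet t x) x = true) → setEqB x sy_O0 = true := by
  decide +kernel

set_option maxRecDepth 1000000 in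
set_option maxHeartbeats 4000000 in
theorem fp_sext_unique_check : ∀ x ∈ allsext_nodes,
    (∀ t ∈ fp_ptabs, famEqB (stepFam t x) x = true) → famEqB x c2b_S0 = true := by
  decide +kernel

set_option maxRecDepth 1000000 in
set_option maxHeartbeats 4000000 in
theorem fp_F_unique_check : ∀ x ∈ sy_omodel2.nodes sy_btabs sy_F sy_ocert2,
    (∀ t ∈ fp_ptabs, famEqB (stepFam t x) x = true) → famEqB x sy_F = true := by
  decide +kernel

end Cfsg.Agent.Lib.Helper28
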