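import Cfsg.Agent.Lib.Helper28.SylowTwo
import Cfsg.Agent.Lib.Helper28.ElemFix

set_option autoImplicit false

/-!
Data for the fusion in a Sylow 2-subgroup of `M24`: the central involution, four conjugates of it
generating the Sylow subgroup, and the conjugating elements.
-/

namespace Cfsg.Agent.Lib.Helper28

open Cfsg

/-- the central involution of the Sylow subgroup -/
def fm_z : List ℕ := [23, 16, 13, 7, 22, 5, 14, 3, 8, 18, 10, 15, 12, 2, 6, 11, 1, 17, 9, 19, 20, 21, 4, 0]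

/-- four conjugates of the central involution generating the Sylow subgroup -/
def fm_xs : List (List ℕ) := [[4, 1, 2, 7, 0, 17, 14, 3, 8, 11, 10, 9, 12, 13, 6, 18, 16, 5, 15, 21, 20, 19, 23, 22], [0, 1, 2, 18, 4, 12, 15, 9, 17, 7, 19, 14, 5, 13, 11, 6, 16, 8, 3, 10, 21, 20, 22, 23], [9, 3, 6, 1, 15, 5, 2, 16, 8, 0, 10, 22, 12, 14, 13, 4, 7, 17, 23, 19, 20, 21, 11, 18], [0, 16, 2, 15, 22, 5, 9, 11, 8, 6, 12, 7, 10, 13, 18, 3, 1, 21, 14, 19, 20, 17, 4, 23]]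

/-- the conjugating elements -/
def fm_gs : List (List ℕ) := [[5, 6, 23, 21, 11, 1, 18, 19, 8, 7, 16, 4, 20, 22, 15, 0, 14, 10, 3, 12, 13, 2, 9, 17], [7, 8, 12, 18, 15, 0, 11, 3, 22, 21, 1, 19, 13, 5, 14, 10, 17, 4, 20, 2, 23, 16, 6, 9], [22, 16, 13, 18, 9, 12, 15, 23, 20, 6, 5, 3, 19, 14, 4, 1, 7, 8, 2, 17, 10, 21, 0, 11], [3, 7, 9, 4, 18, 23, 10, 22, 5, 16, 13, 21, 2, 6, 12, 17, 11, 20, 1, 0, 19, 8, 14, 15]]

/-- the packed tables of the generators -/
def fm_xtabs : List ℕ := [944496889293913780967556848111814692, 984778571922801353358945941669349408, 762847560011793799481615347350542441, 961290644579918423623017798904023552]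

set_option maxRecDepth 1000000 in
def fm_xcert : List (List ℕ) := [[0, 1, 2, 3], [1, 2, 3], [0, 2, 3], [0, 1, 3], [0, 1, 2], [0, 2, 3], [0, 1, 3], [0, 1, 2], [1, 2, 3], [0, 1, 3], [0, 1, 2], [1, 2, 3], [0, 2, 3], [0, 1, 2], [1, 2, 3], [0, 2, 3], [0, 1, 3], [1, 2, 3], [0, 1, 3], [0, 1, 2], [1, 2, 3], [0, 2, 3], [0, 1, 2], [1, 2, 3], [0, 2, 3], [0, 1, 3], [2, 3], [0, 1, 3], [1, 2], [1, 2, 3], [0, 2, 3], [0, 1, 2], [1, 2, 3], [0, 2, 3], [0, 1, 3], [0, 2, 3], [1, 3], [0, 1, 2], [1, 2, 3], [0, 3], [0, 1, 2], [1, 2, 3], [0, 2, 3], [0, 1, 3], [2, 3], [0, 1, 3], [1, 2], [1, 2, 3], [0, 1, 3], [0, 2], [1, 2, 3], [0, 2, 3], [0, 1], [2, 3], [0, 1, 3], [1, 2], [1, 2, 3], [0, 2, 3], [0, 1, 2], [1, 2, 3], [0, 2, 3], [0, 1, 3], [0, 2, 3], [1, 3], [0, 1, 2], [1, 2, 3], [0, 3], [0, 1, 2], [1, 2, 3], [0, 2, 3], [0, 1, 3], [2, 3], [0, 1, 3], [1, 2], [1, 2, 3], [0, 1, 3], [0, 2], [1, 2, 3], [0, 2, 3], [0, 1], [0, 1, 3], [1, 2],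 [3], [0, 2, 3], [1, 2], [2, 3], [1], [0, 2, 3], [1, 3], [1, 2], [1, 2], [3], [0, 1, 2], [1, 2, 3], [0, 2, 3], [0, 1, 3], [2, 3], [0, 1, 3], [1, 2], [1, 2, 3], [0, 1, 3], [2], [1, 2, 3], [0, 2, 3], [0, 1], [1], [1, 3], [0, 1, 2], [3], [1], [3], [0, 2, 3], [1], [2, 3], [1], [1], [1], [0, 1, 2], [1, 2, 3], [0, 2, 3], [0, 1, 3], [2, 3], [1, 3], [1, 2], [1, 2, 3], [0, 1, 3], [0, 2], [1, 3], [0, 2, 3], [], [3], [2], [1], [3], [0, 1, 2], [2], [0, 1, 3], [2], [0, 1, 3], [2], [1, 2, 3], [0, 2, 3], [0, 1], [2], [0, 1], [3], [3], [0, 1, 2], [1, 2, 3], [0], [0, 1], [3], [0], [0, 1, 3], [1, 2], [3], [0, 2, 3], [1, 2], [2, 3], [1], [0, 2, 3], [1, 3], [1, 2], [1, 2], [3], [0, 1, 2], [1, 2, 3], [0, 2, 3], [0, 1, 3], [2, 3], [0, 1, 3], [1, 2], [1, 2, 3], [0, 1, 3], [2], [1, 2, 3], [0, 2, 3], [0, 1], [1], [1, 3], [0, 1, 2], [3], [1], [3], [0, 2, 3], [1], [2, 3], [1], [1], [1], [0, 1, 2], [1, 2, 3], [0, 2, 3], [0, 1, 3], [2, 3],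 [1, 3], [1, 2], [1, 2, 3], [0, 1, 3], [0, 2], [1, 3], [0, 2, 3], [], [3], [2], [1], [3], [0, 1, 2], [2], [0, 1, 3], [2], [0, 1, 3], [2], [1, 2, 3], [0, 2, 3], [0, 1], [2], [0, 1], [3], [3], [0, 1, 2], [1, 2, 3], [0], [0, 1], [3], [0], [3], [0, 2, 3], [1, 2], [2], [1], [0, 1, 2], [3], [3], [0, 1, 2], [2, 3], [1], [0, 1, 3], [2], [2, 3], [1], [1, 3], [0, 1, 2], [3], [1], [0, 2, 3], [1], [2], [1], [0, 1, 2], [1, 2], [0, 3], [0, 3], [2, 3], [1, 3], [1, 2], [1, 2, 3], [0, 3], [2], [1, 3], [0, 3], [], [3], [2], [1], [3], [0, 1, 2], [2], [0, 1, 3], [2], [0, 1, 3], [2], [1, 2, 3], [0], [1], [], [3], [3], [0, 1, 2], [1, 2, 3], [0], [1], [3], [], [2, 3], [], [0], [1, 3], [0], [], [1], [3], [1, 2], [1, 3], [3], [0, 2], [0, 3], [1], [], [3], [2, 3], [], [1], [3], [], [2], [1, 3], [1], [3], [0, 3], [2], [1], [3], [0], [3], [2], [3], [1], [2], [1], [2], [1, 3], [2], [1, 3], [3], [0], [2], [0], [3], [1], [1, 3], [0], [0],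 [1, 2], [0], [0], [2], [1], [0], [3], [3], [1], [], [1], [0], [], [0], [2], [1], [0, 2], [1, 3], [2], [1], [], [], [1, 2], [], [], [2], [], [0, 2], [1], [3], [0, 2], [1], [], [], [1], [1], [2, 3], [], [], [], [3], [0, 2, 3], [1, 2], [2], [1], [0, 1, 2], [3], [3], [0, 1, 2], [2, 3], [1], [0, 1, 3], [2], [2, 3], [1], [1, 3], [0, 1, 2], [3], [1], [0, 2, 3], [1], [2], [1], [0, 1, 2], [1, 2], [0, 3], [0, 3], [2, 3], [1, 3], [1, 2], [1, 2, 3], [0, 3], [2], [1, 3], [0, 3], [], [3], [2], [1], [3], [0, 1, 2], [2], [0, 1, 3], [2], [0, 1, 3], [2], [1, 2, 3], [0], [1], [], [3], [3], [0, 1, 2], [1, 2, 3], [0], [1], [3], [], [2, 3], [], [0], [1, 3], [0], [], [1], [3], [1, 2], [1, 3], [3], [0, 2], [0, 3], [1], [], [3], [2, 3], [], [1], [3], [], [2], [1, 3], [1], [3], [0, 3], [2], [1], [3], [0], [3], [2], [3], [1], [2], [1], [2], [1, 3], [2], [1, 3], [3], [0], [2], [0], [3], [1], [1, 3], [0], [0], [1, 2], [0], [0], [2], [1],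 [0], [3], [3], [1], [], [1], [0], [], [0], [2], [1], [0, 2], [1, 3], [2], [1], [], [], [1, 2], [], [], [2], [], [0, 2], [1], [3], [0, 2], [1], [], [], [1], [1], [2, 3], [], [], [], [1], [], [3], [2], [2], [1], [0], [2, 3], [], [0], [], [], [1], [], [2], [1], [1, 3], [2], [3], [3], [0, 2], [], [1], [], [], [3], [], [], [], [], [], [1], [3], [3], [3], [0, 2], [3], [], [], [1], [], [], [2], [1], [], [], [1], [], [3], [2], [3], [1], [2], [1], [2], [1, 3], [2], [1, 3], [], [], [3], [1], [1, 3], [], [2], [0], [0], [2], [], [], [], [], [1], [], [], [0], [], [], [2], [], [2], [1, 3], [2], [], [], [2], [1], [], [2], [1], [], [], [], [1], [], [], [], [], [], [], [], [], [], [], [], [], [], [], [], [], [], [], [], [], [], [], [], [], [], [], [], [], [], [], [], [], [], [], [], [], [], [], [], [], [], [], [], [], [], [], [], [], [], [], [], [], [], [], [], [], [], [], [], [], [], [], [], [], [], [], [], [3], [], [], [],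 [], [], [], [], [], [], [], [], [], [], [], [], [], [], [], [], [], [], [], [], [], [], [1], [], [3], [2], [2], [1], [0], [2, 3], [], [0], [], [], [1], [], [2], [1], [1, 3], [2], [3], [3], [0, 2], [], [1], [], [], [3], [], [], [], [], [], [1], [3], [3], [3], [0, 2], [3], [], [], [1], [], [], [2], [1], [], [], [1], [], [3], [2], [3], [1], [2], [1], [2], [1, 3], [2], [1, 3], [], [], [3], [1], [1, 3], [], [2], [0], [0], [2], [], [], [], [], [1], [], [], [0], [], [], [2], [], [2], [1, 3], [2], [], [], [2], [1], [], [2], [1], [], [], [], [1], [], [], [], [], [], [], [], [], [], [], [], [], [], [], [], [], [], [], [], [], [], [], [], [], [], [], [], [], [], [], [], [], [], [], [], [], [], [], [], [], [], [], [], [], [], [], [], [], [], [], [], [], [], [], [], [], [], [], [], [], [], [], [], [], [], [], [], [3]]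

noncomputable abbrev fm_model := elemModel 1048573

/-- the elements of the Sylow subgroup -/
noncomputable abbrev sy_nodes : List (List ℕ) := sy_tmodel.nodes sy_ttabs idList sy_tcert

set_option maxRecDepth 1000000 in
set_option maxHeartbeats 4000000 in
theorem fm_mem_check : fm_z ∈ sy_nodes ∧ ∀ x ∈ fm_xs, x ∈ sy_nodes := by
  decide +kernel

set_option maxRecDepth 1000000 in
set_option maxHeartbeats 4000000 in
theorem fm_conj_check : ∀ p ∈ fm_xs.zip fm_gs, ListM24 p.2 ∧ compL p.2 fm_z = compL p.1 p.2 := by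
  decide +kernel

set_option maxRecDepth 1000000 in
set_option maxHeartbeats 4000000 in
theorem fm_center_check : ∀ l ∈ sy_nodes, l = idList ∨ l = fm_z ∨
    ∃ x ∈ fm_xs, compL l x ≠ compL x l := by
  decide +kernel

set_option maxRecDepth 1000000 in
set_option maxHeartbeats 4000000 in
theorem fm_xtabs_check : fm_xtabs = fm_xs.map packL ∧
    ∀ x ∈ fm_xs, ∀ a : Fin 24, look (packL x) a.val = x.getD a.val 0 := by
  decide +kernel

set_option maxRecDepth 1000000 in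
set_option maxHeartbeats 4000000 in
theorem fm_xcheck : distinctAux ((fm_model.nodes fm_xtabs idList fm_xcert).map fm_model.code) 0 = true ∧
    (fm_model.nodes fm_xtabs idList fm_xcert).length = 1024 := by
  decide +kernel

end Cfsg.Agent.Lib.Helper28
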