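import Cfsg.Agent.Lib.Helper28.DodecadPair
import Cfsg.Agent.Lib.Helper28.M9

set_option autoImplicit false

/-!
Dodecads through a point: there are `1288`, and `M24` is transitive on the pairs of a dodecad and
one of its points.
-/

namespace Cfsg.Agent.Lib.Helper28

open Cfsg MulAction
open scoped Pointwise

theorem ncard_dodecads_through (x : GolayPt) : {y | y ∈ dodecads ∧ x ∈ y}.ncard = 1288 := by
  classical
  have h0 : dodecads.ncard = 2576 := Cfsg.Agent.S0361.result
  have hd : {y | y ∈ dodecads ∧ x ∉ y} = dodecads \ {y | y ∈ dodecads ∧ x ∈ y} := by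
    ext y
    simp only [Set.mem_setOf_eq, Set.mem_diff]
    tauto
  have hsub : {y | y ∈ dodecads ∧ x ∈ y} ⊆ dodecads := fun y hy => hy.1
  have h1 : {y | y ∈ dodecads ∧ x ∉ y}.ncard = 2576 - {y | y ∈ dodecads ∧ x ∈ y}.ncard := by
    rw [hd, Set.ncard_diff hsub (Set.toFinite _), h0]
  have h2 : {y | y ∈ dodecads ∧ x ∉ y} = (fun y : Finset GolayPt => yᶜ) '' {y | y ∈ dodecads ∧ x ∈ y} := by
    ext y
    constructor
    · rintro ⟨hy, hxy⟩
      exact ⟨yᶜ, ⟨compl_mem_dodecads hy, Finset.mem_compl.mpr hxy⟩, compl_compl y⟩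
    · rintro ⟨z, ⟨hz, hxz⟩, rfl⟩
      exact ⟨compl_mem_dodecads hz, by simpa using hxz⟩
  rw [h2, Set.ncard_image_of_injective _ compl_injective] at h1
  have h3 : {y | y ∈ dodecads ∧ x ∈ y}.ncard ≤ 2576 := by
    rw [← h0]
    exact Set.ncard_le_ncard hsub (Set.toFinite _)
  omega

/-- `M24` is transitive on the pairs of a dodecad and one of its points -/
theorem M24_dodecad_flag_transitive {d d' : Finset GolayPt} (hd : d ∈ dodecads)
    (hd' : d' ∈ dodecads) {x x' : GolayPt} (hx : x ∈ d) (hx' : x' ∈ d') :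
    ∃ g ∈ M24, g • d = d' ∧ g x = x' := by
  obtain ⟨g, hg, hgd, hmap⟩ := M24_dodecad_list_transitive hd hd' [x] [x'] (by simp) (by simp)
    (by simpa using hx) (by simpa using hx') rfl (by simp)
  exact ⟨g, hg, hgd, by simpa using hmap⟩

end Cfsg.Agent.Lib.Helper28
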