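import Cfsg.Agent.Lib.Helper28.Data1638
import Cfsg.Agent.Lib.Helper28.DodecadClasses
import Cfsg.Agent.Lib.Helper28.ThreeSets
import Cfsg.Agent.Lib.Helper28.M24Multi

set_option autoImplicit false

/-!
Duads of the 22 points off two given points `p`, `q`, relative to a fixed duad `s`: the invariant
made of the size of the intersection with `s` and of the existence of an octad through `p`, `q`
and both duads.
-/

namespace Cfsg.Agent.Lib.Helper28

open Cfsg MulAction
open scoped Pointwise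

/-- the duads avoiding the two points of `z` -/
def duadF (z : Finset GolayPt × GolayPt × GolayPt) : Set (Finset GolayPt) :=
  {t | t.card = 2 ∧ z.2.1 ∉ t ∧ z.2.2 ∉ t}

theorem ncard_duadF (z : Finset GolayPt × GolayPt × GolayPt) (hpq : z.2.1 ≠ z.2.2) :
    (duadF z).ncard = 231 := by
  classical
  have : duadF z = ((Finset.powersetCard 2 (Finset.univ \ {z.2.1, z.2.2}) :
      Finset (Finset GolayPt)) : Set (Finset GolayPt)) := by
    ext t
    simp only [duadF, Set.mem_setOf_eq, Finset.mem_coe, Finset.mem_powersetCard]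
    constructor
    · rintro ⟨h1, h2, h3⟩
      refine ⟨?_, h1⟩
      intro x hx
      rw [Finset.mem_sdiff, Finset.mem_insert, Finset.mem_singleton]
      refine ⟨Finset.mem_univ _, ?_⟩
      rintro (rfl | rfl)
      · exact h2 hx
      · exact h3 hx
    · rintro ⟨h1, h2⟩
      refine ⟨h2, ?_, ?_⟩
      · intro hc
        have := Finset.mem_sdiff.mp (h1 hc)
        exact this.2 (by simp)
      · intro hc
        have := Finset.mem_sdiff.mp (h1 hc)
        exact this.2 (by simp)
  rw [this, Set.ncard_coe_finset, Finset.card_powersetCard, Finset.card_sdiff_of_subset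
    (Finset.subset_univ _), Finset.card_univ, Finset.card_pair hpq]
  rfl

theorem duadF_smul {g : Equiv.Perm GolayPt} (z : Finset GolayPt × GolayPt × GolayPt)
    (t : Finset GolayPt) (ht : t ∈ duadF z) : g • t ∈ duadF (g • z) := by
  obtain ⟨h1, h2, h3⟩ := ht
  refine ⟨by rw [Finset.card_smul_finset]; exact h1, ?_, ?_⟩
  · intro hc
    exact h2 ((Finset.smul_mem_smul_finset_iff g).mp hc)
  · intro hc
    exact h3 ((Finset.smul_mem_smul_finset_iff g).mp hc)

/-- some octad contains the two points of `z`, the duad of `z` and `t` -/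
def inOct (z : Finset GolayPt × GolayPt × GolayPt) (t : Finset GolayPt) : Prop :=
  ∃ o ∈ octads, z.2.1 ∈ o ∧ z.2.2 ∈ o ∧ z.1 ∪ t ⊆ o

theorem inOct_smul_of {g : Equiv.Perm GolayPt} (hg : g ∈ M24)
    (z : Finset GolayPt × GolayPt × GolayPt) (t : Finset GolayPt) (h : inOct z t) :
    inOct (g • z) (g • t) := by
  obtain ⟨o, ho, h1, h2, h3⟩ := h
  refine ⟨g • o, smul_mem_octads hg ho, Finset.smul_mem_smul_finset h1,
    Finset.smul_mem_smul_finset h2, ?_⟩
  show g • z.1 ∪ g • t ⊆ g • o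
  rw [← Finset.smul_finset_union]
  exact Finset.smul_finset_subset_smul_finset h3

theorem inOct_smul {g : Equiv.Perm GolayPt} (hg : g ∈ M24)
    (z : Finset GolayPt × GolayPt × GolayPt) (t : Finset GolayPt) :
    inOct (g • z) (g • t) ↔ inOct z t := by
  constructor
  · intro h
    have := inOct_smul_of (M24.inv_mem hg) _ _ h
    rwa [inv_smul_smul, inv_smul_smul] at this
  · exact inOct_smul_of hg z t

open Classical in
/-- the invariant of a duad relative to `z` -/
noncomputable def duadInv (z : Finset GolayPt × GolayPt × GolayPt) (t : Finset GolayPt) :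
    ℕ × Bool := ((z.1 ∩ t).card, decide (inOct z t))

theorem duadInv_smul {g : Equiv.Perm GolayPt} (hg : g ∈ M24)
    (z : Finset GolayPt × GolayPt × GolayPt) (t : Finset GolayPt) :
    duadInv (g • z) (g • t) = duadInv z t := by
  classical
  unfold duadInv
  rw [Prod.mk.injEq]
  refine ⟨card_smul_inter_smul g z.1 t, ?_⟩
  rw [decide_eq_decide]
  exact inOct_smul hg z t

/-- the base object -/
def du_Z : Finset GolayPt × GolayPt × GolayPt := (ptSet du_base, ptN 0, ptN 1)

theorem inOct_of_wit {w l : List ℕ} (hw : IsOctadList w) (h0 : 0 ∈ w) (h1 : 1 ∈ w)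
    (hb : ∀ a ∈ du_base, a ∈ w) (hl : ∀ a ∈ l, a ∈ w) : inOct du_Z (ptSet l) := by
  refine ⟨ptSet w, hw.mem, (ptN_mem_ptSet hw.1 (by norm_num)).mpr h0,
    (ptN_mem_ptSet hw.1 (by norm_num)).mpr h1, ?_⟩
  intro x hx
  rw [Finset.mem_union] at hx
  rcases hx with hx | hx
  · obtain ⟨a, ha, rfl⟩ := mem_ptSet.mp hx
    exact mem_ptSet.mpr ⟨a, hb a ha, rfl⟩
  · obtain ⟨a, ha, rfl⟩ := mem_ptSet.mp hx
    exact mem_ptSet.mpr ⟨a, hl a ha, rfl⟩

theorem du_base_good : GoodSet du_base := du_base_check.1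

theorem not_inOct_of_wit {w l : List ℕ} (hw : IsOctadList w) (h0 : 0 ∈ w) (h1 : 1 ∈ w)
    (hb : ∀ a ∈ du_base, a ∈ w) {c : ℕ} (hc : c ∈ l) (hcw : c ∈ w)
    (hgood : GoodSet (0 :: 1 :: c :: du_base)) (h5 : (0 :: 1 :: c :: du_base).length = 5)
    (hout : ∃ a ∈ l, a ∉ w ∧ a < 24) : ¬ inOct du_Z (ptSet l) := by
  classical
  rintro ⟨o, ho, hp, hq, hsub⟩
  obtain ⟨a, ha, haw, ha24⟩ := hout
  -- five common points of `o` and the witness octad
  have hfive : ptSet (0 :: 1 :: c :: du_base) ⊆ o ∩ ptSet w := by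
    intro x hx
    obtain ⟨b, hb', rfl⟩ := mem_ptSet.mp hx
    rw [Finset.mem_inter]
    simp only [List.mem_cons] at hb'
    rcases hb' with rfl | rfl | rfl | hb'
    · exact ⟨hp, mem_ptSet.mpr ⟨0, h0, rfl⟩⟩
    · exact ⟨hq, mem_ptSet.mpr ⟨1, h1, rfl⟩⟩
    · exact ⟨hsub (Finset.mem_union_right _ (mem_ptSet.mpr ⟨b, hc, rfl⟩)),
        mem_ptSet.mpr ⟨b, hcw, rfl⟩⟩
    · exact ⟨hsub (Finset.mem_union_left _ (mem_ptSet.mpr ⟨b, hb', rfl⟩)),
        mem_ptSet.mpr ⟨b, hb b hb', rfl⟩⟩
  have heq : o = ptSet w := by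
    apply octad_eq_of_inter_ge ho hw.mem
    rw [← h5, ← card_ptSet hgood]
    exact Finset.card_le_card hfive
  have hao : ptN a ∈ o := hsub (Finset.mem_union_right _ (mem_ptSet.mpr ⟨a, ha, rfl⟩))
  rw [heq, ptN_mem_ptSet hw.1 ha24] at hao
  exact haw hao

end Cfsg.Agent.Lib.Helper28

namespace Cfsg.Agent.Lib.Helper28

open Cfsg MulAction
open scoped Pointwise

theorem duadInv_eq_iff (z : Finset GolayPt × GolayPt × GolayPt) (t : Finset GolayPt) (n : ℕ)
    (b : Bool) : duadInv z t = (n, b) ↔ (z.1 ∩ t).card = n ∧ (inOct z t ↔ b = true) := by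
  classical
  unfold duadInv
  rw [Prod.mk.injEq]
  constructor
  · rintro ⟨h1, h2⟩
    refine ⟨h1, ?_⟩
    rw [← h2, decide_eq_true_iff]
  · rintro ⟨h1, h2⟩
    refine ⟨h1, ?_⟩
    rw [Bool.eq_iff_iff, decide_eq_true_iff]
    exact h2

/-- the values of the invariant at the roots -/
def dudu_inv : Fin 4 → ℕ × Bool := ![(2, true), (1, true), (0, true), (0, false)]

theorem dudu_inv_eq (i : Fin 4) : duadInv du_Z (ptSet (dudu_roots i)) = dudu_inv i := by
  have hcard : ∀ i, (ptSet du_base ∩ ptSet (dudu_roots i)).card = (dudu_inv i).1 := by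
    intro i
    rw [card_inter_ptSet du_base_check.1 (dudu_rootcheck i).1]
    revert i
    decide
  have hin : ∀ j : Fin 3, inOct du_Z (ptSet (dudu_roots j.castSucc)) := by
    intro j
    obtain ⟨h1, h2, h3, h4⟩ := dudu_wit_check j.castSucc
    exact inOct_of_wit h1 h2 h3 h4 (dudu_wit_in j)
  have hout : ¬ inOct du_Z (ptSet (dudu_roots 3)) := by
    obtain ⟨h1, h2, h3, h4⟩ := dudu_wit_check 3
    obtain ⟨h5, a, ha, haw⟩ := dudu_wit_out
    refine not_inOct_of_wit h1 h2 h3 h4 (c := (dudu_roots 3).head!) (by decide) h5 (by decide)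
      (by decide) ⟨a, ha, haw, (dudu_rootcheck 3).1.2 a ha⟩
  rw [duadInv_eq_iff]
  refine ⟨hcard i, ?_⟩
  fin_cases i
  · exact ⟨fun _ => rfl, fun _ => hin 0⟩
  · exact ⟨fun _ => rfl, fun _ => hin 1⟩
  · exact ⟨fun _ => rfl, fun _ => hin 2⟩
  · exact ⟨fun h => absurd h hout, fun h => by simp [dudu_inv] at h⟩

theorem dudu_inv_injective : Function.Injective dudu_inv := by decide

end Cfsg.Agent.Lib.Helper28
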