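import Cfsg.Agent.Lib.Helper28.ElemModel
import Cfsg.Agent.Lib.Helper28.M24Multi

set_option autoImplicit false

/-!
Words in image lists, checked conjugacy data along an enumeration of a coset, and the reduction
of elements of order 2 and 3 of `M24` to cosets of the stabilizer of four points.
-/

namespace Cfsg.Agent.Lib.Helper28

open Cfsg MulAction
open scoped Pointwise

/-- the image list of a word in a family of image lists -/
def wordL (gens : List (List ℕ)) (w : List ℕ) : List ℕ :=
  w.foldr (fun i acc => compL (gens.getD i idList) acc) idList

theorem goodPerm_wordL {gens : List (List ℕ)} (hg : ∀ g ∈ gens, ListM24 g) (w : List ℕ) :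
    GoodPerm (wordL gens w) ∧ permOfList (wordL gens w) ∈ M24 := by
  induction w with
  | nil =>
    refine ⟨goodPerm_idList, ?_⟩
    show permOfList idList ∈ M24
    rw [permOfList_idList]; exact M24.one_mem
  | cons i w ih =>
    have hi : GoodPerm (gens.getD i idList) ∧ permOfList (gens.getD i idList) ∈ M24 := by
      by_cases h : i < gens.length
      · rw [List.getD_eq_getElem _ _ h]
        have := hg _ (List.getElem_mem h)
        exact ⟨this.1, this.mem⟩
      · rw [List.getD_eq_default _ _ (not_lt.mp h)]
        exact ⟨goodPerm_idList, by rw [permOfList_idList]; exact M24.one_mem⟩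
    show GoodPerm (compL (gens.getD i idList) (wordL gens w)) ∧
      permOfList (compL (gens.getD i idList) (wordL gens w)) ∈ M24
    refine ⟨goodPerm_compL hi.1 ih.1, ?_⟩
    rw [← permOfList_compL hi.1 ih.1]
    exact M24.mul_mem hi.2 ih.2

/-- checked conjugacy data: for every node `l` whose product `c ∘ l` satisfies `p`, a word `w`
and an index `r` with `w (c ∘ l) = rep_r w` -/
def conjCheck (gens : List (List ℕ)) (c : List ℕ) (p : List ℕ → Bool) (reps : List (List ℕ)) :
    List (List ℕ) → List (List ℕ × ℕ) → Bool
  | [], _ => true
  | _ :: _, [] => false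
  | l :: ls, (w, r) :: ds =>
    (if p (compL c l) then
      (decide (r < reps.length) &&
        decide (compL (wordL gens w) (compL c l) = compL (reps.getD r idList) (wordL gens w)))
      else true) && conjCheck gens c p reps ls ds

theorem conjCheck_sound (gens : List (List ℕ)) (c : List ℕ) (p : List ℕ → Bool)
    (reps : List (List ℕ)) : ∀ (nodes : List (List ℕ)) (data : List (List ℕ × ℕ)),
    conjCheck gens c p reps nodes data = true → ∀ l ∈ nodes, p (compL c l) = true →
    ∃ (w : List ℕ) (r : ℕ), r < reps.length ∧
      compL (wordL gens w) (compL c l) = compL (reps.getD r idList) (wordL gens w) := by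
  intro nodes
  induction nodes with
  | nil => intro _ _ l hl; exact absurd hl List.not_mem_nil
  | cons x xs ih =>
    intro data h l hl hp
    match data, h with
    | (w, r) :: ds, h =>
      unfold conjCheck at h
      rw [Bool.and_eq_true] at h
      rcases List.mem_cons.mp hl with rfl | hl'
      · rw [if_pos hp, Bool.and_eq_true, decide_eq_true_iff, decide_eq_true_iff] at h
        exact ⟨w, r, h.1.1, h.1.2⟩
      · exact ih ds h.2 l hl' hp

/-- conjugation from an equation between image lists -/
theorem conj_of_compL {k y r : List ℕ} (hk : GoodPerm k) (hy : GoodPerm y) (hr : GoodPerm r)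
    (h : compL k y = compL r k) :
    permOfList k * permOfList y * (permOfList k)⁻¹ = permOfList r := by
  rw [permOfList_compL hk hy, h, ← permOfList_compL hr hk, mul_inv_cancel_right]

/-- an element of `M24` agreeing with `c` on the first four base points lies in the coset of `c`
with respect to the stabilizer of these points -/
theorem inv_mul_mem_baseStab {c g : Equiv.Perm GolayPt} (hc : c ∈ M24) (hg : g ∈ M24)
    (h : ∀ j : Fin 7, j.val < 4 → g (Helper4.pt (m24base j)) = c (Helper4.pt (m24base j))) :
    c⁻¹ * g ∈ baseStab M24 4 := by
  rw [mem_baseStab]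
  refine ⟨M24.mul_mem (M24.inv_mem hc) hg, fun j hj => ?_⟩
  rw [Equiv.Perm.mul_apply, h j hj]
  simp

end Cfsg.Agent.Lib.Helper28
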