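import Cfsg.Agent.Lib.Helper28.InvolTypes

set_option autoImplicit false

/-!
Numbers of octads, dodecads, trios and sextets fixed by the elements of order 2 and 3 of `M24`.
-/

namespace Cfsg.Agent.Lib.Helper28

open Cfsg MulAction
open scoped Pointwise

set_option maxRecDepth 1000000 in
set_option maxHeartbeats 4000000 in
theorem rep2A_count_check :
    (alloct_nodes.filter (fun x => setEqB (stepSet (el_rep2_tabs.getD 0 0) x) x)).length = 71 ∧
    (alltrio_nodes.filter (fun x => famEqB (stepFam (el_rep2_tabs.getD 0 0) x) x)).length = 99 ∧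
    (allsext_nodes.filter (fun x => famEqB (stepFam (el_rep2_tabs.getD 0 0) x) x)).length = 91 := by
  decide +kernel

set_option maxRecDepth 1000000 in
set_option maxHeartbeats 4000000 in
theorem rep2B_count_check :
    (alloct_nodes.filter (fun x => setEqB (stepSet (el_rep2_tabs.getD 1 0) x) x)).length = 15 ∧
    (alltrio_nodes.filter (fun x => famEqB (stepFam (el_rep2_tabs.getD 1 0) x) x)).length = 75 ∧
    (allsext_nodes.filter (fun x => famEqB (stepFam (el_rep2_tabs.getD 1 0) x) x)).length = 51 := by
  decide +kernel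

set_option maxRecDepth 1000000 in
set_option maxHeartbeats 4000000 in
theorem rep3A_count_check :
    (alloct_nodes.filter (fun x => setEqB (stepSet (el_rep3_tabs.getD 0 0) x) x)).length = 21 ∧
    (alltrio_nodes.filter (fun x => famEqB (stepFam (el_rep3_tabs.getD 0 0) x) x)).length = 15 ∧
    (allsext_nodes.filter (fun x => famEqB (stepFam (el_rep3_tabs.getD 0 0) x) x)).length = 16 ∧
    (alldod_nodes.filter (fun x => setEqB (stepSet (el_rep3_tabs.getD 0 0) x) x)).length = 20 := by
  decide +kernel

set_option maxRecDepth 1000000 in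
set_option maxHeartbeats 4000000 in
theorem rep3B_count_check :
    (alltrio_nodes.filter (fun x => famEqB (stepFam (el_rep3_tabs.getD 1 0) x) x)).length = 15 ∧
    (allsext_nodes.filter (fun x => famEqB (stepFam (el_rep3_tabs.getD 1 0) x) x)).length = 7 := by
  decide +kernel

/-- transfer of the numbers of fixed objects to a conjugate -/
theorem fixed_counts_of_conj {k g r : Equiv.Perm GolayPt} (hk : k ∈ M24) (h : k * g * k⁻¹ = r) :
    {y | y ∈ octads ∧ g • y = y}.ncard = {y | y ∈ octads ∧ r • y = y}.ncard ∧
    {y | y ∈ dodecads ∧ g • y = y}.ncard = {y | y ∈ dodecads ∧ r • y = y}.ncard ∧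
    {y | y ∈ trios ∧ g • y = y}.ncard = {y | y ∈ trios ∧ r • y = y}.ncard ∧
    {y | y ∈ sextets ∧ g • y = y}.ncard = {y | y ∈ sextets ∧ r • y = y}.ncard := by
  have hki := M24.inv_mem hk
  rw [← h]
  refine ⟨?_, ?_, ?_, ?_⟩
  · exact (ncard_fixed_conj octads k g (fun y hy => smul_mem_octads hk hy)
      (fun y hy => smul_mem_octads hki hy)).symm
  · exact (ncard_fixed_conj dodecads k g (fun y hy => smul_mem_dodecads hk hy)
      (fun y hy => smul_mem_dodecads hki hy)).symm
  · exact (ncard_fixed_conj trios k g (fun y hy => smul_mem_trios hk hy)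
      (fun y hy => smul_mem_trios hki hy)).symm
  · exact (ncard_fixed_conj sextets k g (fun y hy => smul_mem_sextets hk hy)
      (fun y hy => smul_mem_sextets hki hy)).symm

end Cfsg.Agent.Lib.Helper28
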