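import Cfsg.Agent.Lib.Helper28.ElemReps

set_option autoImplicit false

/-!
The representatives of the elements of order 2 and 3 of `M24`: membership, orders, fixed points,
numbers of fixed octads, dodecads, trios and sextets.
-/

namespace Cfsg.Agent.Lib.Helper28

open Cfsg MulAction
open scoped Pointwise

set_option maxRecDepth 1000000 in
theorem rep_tabs_check :
    (∀ r : Fin 2, ∀ a : Fin 24, look (el_rep2_tabs.getD r.val 0) a.val =
      (el_rep2.getD r.val idList).getD a.val 0) ∧
    (∀ r : Fin 2, ∀ a : Fin 24, look (el_rep3_tabs.getD r.val 0) a.val =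
      (el_rep3.getD r.val idList).getD a.val 0) := by
  decide +kernel

theorem rep2_listM24 (r : Fin 2) : ListM24 (el_rep2.getD r.val idList) := by
  have h : r.val < el_rep2.length := r.2
  rw [List.getD_eq_getElem _ _ h]
  exact el_rep_check.1 _ (List.getElem_mem h)

theorem rep3_listM24 (r : Fin 2) : ListM24 (el_rep3.getD r.val idList) := by
  have h : r.val < el_rep3.length := r.2
  rw [List.getD_eq_getElem _ _ h]
  exact el_rep_check.2 _ (List.getElem_mem h)

theorem rep2_mem (r : Fin 2) : rep2 r.val ∈ M24 := (rep2_listM24 r).mem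

theorem rep3_mem (r : Fin 2) : rep3 r.val ∈ M24 := (rep3_listM24 r).mem

theorem rep2_acts (r : Fin 2) : ActsBy (rep2 r.val) (el_rep2_tabs.getD r.val 0) :=
  actsBy_permOfList (rep2_listM24 r).1 (rep_tabs_check.1 r)

theorem rep3_acts (r : Fin 2) : ActsBy (rep3 r.val) (el_rep3_tabs.getD r.val 0) :=
  actsBy_permOfList (rep3_listM24 r).1 (rep_tabs_check.2 r)

set_option maxRecDepth 1000000 in
theorem rep_pow_check :
    (∀ r : Fin 2, compL (el_rep2.getD r.val idList) (el_rep2.getD r.val idList) = idList ∧
      el_rep2.getD r.val idList ≠ idList) ∧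
    (∀ r : Fin 2, compL (el_rep3.getD r.val idList)
      (compL (el_rep3.getD r.val idList) (el_rep3.getD r.val idList)) = idList ∧
      el_rep3.getD r.val idList ≠ idList) := by
  decide +kernel

theorem rep2_order (r : Fin 2) : orderOf (rep2 r.val) = 2 := by
  have hl := (rep2_listM24 r).1
  haveI : Fact (Nat.Prime 2) := ⟨Nat.prime_two⟩
  apply orderOf_permOfList hl 2 (rep_pow_check.1 r).2
  rw [pow_two, permOfList_compL hl hl, (rep_pow_check.1 r).1, permOfList_idList]

theorem rep3_order (r : Fin 2) : orderOf (rep3 r.val) = 3 := by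
  have hl := (rep3_listM24 r).1
  haveI : Fact (Nat.Prime 3) := ⟨Nat.prime_three⟩
  apply orderOf_permOfList hl 3 (rep_pow_check.2 r).2
  have h2 := goodPerm_compL hl hl
  have : permOfList (el_rep3.getD r.val idList) ^ 3 =
      permOfList (el_rep3.getD r.val idList) * (permOfList (el_rep3.getD r.val idList) *
        permOfList (el_rep3.getD r.val idList)) := by
    rw [pow_succ, pow_two]; group
  rw [this, permOfList_compL hl hl, permOfList_compL hl h2, (rep_pow_check.2 r).1,
    permOfList_idList]

set_option maxRecDepth 1000000 in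
theorem rep_fix_check : IsOctadList (fixL (el_rep2.getD 0 idList)) ∧
    fixL (el_rep2.getD 1 idList) = [] ∧ (fixL (el_rep3.getD 0 idList)).length = 6 ∧
    fixL (el_rep3.getD 1 idList) = [] := by
  decide +kernel

theorem rep2_fix0 : (Finset.univ.filter fun p => rep2 0 p = p) ∈ octads := by
  have := fix_permOfList (rep2_listM24 0).1
  unfold rep2
  simp only [Fin.val_zero] at this
  rw [this]
  exact rep_fix_check.1.mem

theorem rep2_fix1 : ∀ p, rep2 1 p ≠ p :=
  fixedPointFree_permOfList (rep2_listM24 1).1 rep_fix_check.2.1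

theorem rep3_fix0 : (Finset.univ.filter fun p => rep3 0 p = p).card = 6 := by
  have := fix_permOfList (rep3_listM24 0).1
  unfold rep3
  simp only [Fin.val_zero] at this
  rw [this, card_ptSet (goodSet_fixL _)]
  exact rep_fix_check.2.2.1

theorem rep3_fix1 : ∀ p, rep3 1 p ≠ p :=
  fixedPointFree_permOfList (rep3_listM24 1).1 rep_fix_check.2.2.2

end Cfsg.Agent.Lib.Helper28
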