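import Mathlib
import Cfsg.Prelude.Def_Sporadic_a
import Cfsg.Agent.Lib.Helper3.Steiner
import Cfsg.Agent.Lib.Helper4.S3622

set_option autoImplicit false
set_option linter.unusedSectionVars false
set_option linter.unusedVariables false

/-!
Intersection numbers of a Steiner system `S(4,5,11)`: two blocks always meet, and a 5-set which is
not a block is disjoint from exactly one block.
-/

namespace Cfsg.Agent.Lib.Helper28

open Cfsg Finset Cfsg.Agent.Lib.Helper3.Steiner Cfsg.Agent.Helper4.S3622

namespace S4511

variable {α : Type*} [Fintype α] [DecidableEq α] {B : Set (Finset α)}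

theorem eq_of_inter_card {d S : Finset α} (hd : d.card = 5) (hS : S.card = 5)
    (h : (d ∩ S).card = 5) : d = S := by
  have h1 : d ∩ S = d := eq_of_subset_of_card_le inter_subset_left (by rw [h, hd])
  have h2 : d ∩ S = S := eq_of_subset_of_card_le inter_subset_right (by rw [h, hS])
  exact h1.symm.trans h2

variable (hα : Fintype.card α = 11) (hB : Cfsg.IsSteinerSystem 4 5 B)
include hα hB

lemma lam4 (I : Finset α) (hI : I.card = 4) : ((blocksF B).filter (I ⊆ ·)).card = 1 := by
  have h := card_blocks_containing hB I (by omega)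
  rw [hα, hI] at h
  norm_num [Nat.choose] at h
  omega

lemma lam3 (I : Finset α) (hI : I.card = 3) : ((blocksF B).filter (I ⊆ ·)).card = 4 := by
  have h := card_blocks_containing hB I (by omega)
  rw [hα, hI] at h
  norm_num [Nat.choose] at h
  omega

lemma lam2 (I : Finset α) (hI : I.card = 2) : ((blocksF B).filter (I ⊆ ·)).card = 12 := by
  have h := card_blocks_containing hB I (by omega)
  rw [hα, hI] at h
  norm_num [Nat.choose] at h
  omega

lemma lam1 (I : Finset α) (hI : I.card = 1) : ((blocksF B).filter (I ⊆ ·)).card = 30 := by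
  have h := card_blocks_containing hB I (by omega)
  rw [hα, hI] at h
  norm_num [Nat.choose] at h
  omega

lemma lam0 (I : Finset α) (hI : I.card = 0) : ((blocksF B).filter (I ⊆ ·)).card = 66 := by
  have h := card_blocks_containing hB I (by omega)
  rw [hα, hI] at h
  norm_num [Nat.choose] at h
  omega

/-- the number of blocks disjoint from a 5-set -/
theorem cnt_zero (S : Finset α) (hS : S.card = 5) :
    ((blocksF B).filter (fun d => (d ∩ S).card = 0)).card +
      ((blocksF B).filter (fun d => (d ∩ S).card = 5)).card = 1 := by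
  have hN : ∀ d ∈ blocksF B, (d ∩ S).card < 6 := fun d _ => by
    have := card_le_card (inter_subset_right : d ∩ S ⊆ S)
    omega
  have h0 := sum_choose_inter_gen (blocksF B) S 0 66 (fun I _ hI => lam0 hα hB I hI)
  have h1 := sum_choose_inter_gen (blocksF B) S 1 30 (fun I _ hI => lam1 hα hB I hI)
  have h2 := sum_choose_inter_gen (blocksF B) S 2 12 (fun I _ hI => lam2 hα hB I hI)
  have h3 := sum_choose_inter_gen (blocksF B) S 3 4 (fun I _ hI => lam3 hα hB I hI)
  have h4 := sum_choose_inter_gen (blocksF B) S 4 1 (fun I _ hI => lam4 hα hB I hI)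
  rw [sum_fiber (blocksF B) S (fun j => j.choose 0) 6 hN] at h0
  rw [sum_fiber (blocksF B) S (fun j => j.choose 1) 6 hN] at h1
  rw [sum_fiber (blocksF B) S (fun j => j.choose 2) 6 hN] at h2
  rw [sum_fiber (blocksF B) S (fun j => j.choose 3) 6 hN] at h3
  rw [sum_fiber (blocksF B) S (fun j => j.choose 4) 6 hN] at h4
  have c02 : Nat.choose 0 2 = 0 := by decide
  have c12 : Nat.choose 1 2 = 0 := by decide
  have c22 : Nat.choose 2 2 = 1 := by decide
  have c32 : Nat.choose 3 2 = 3 := by decide
  have c42 : Nat.choose 4 2 = 6 := by decide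
  have c52 : Nat.choose 5 2 = 10 := by decide
  have c03 : Nat.choose 0 3 = 0 := by decide
  have c13 : Nat.choose 1 3 = 0 := by decide
  have c23 : Nat.choose 2 3 = 0 := by decide
  have c33 : Nat.choose 3 3 = 1 := by decide
  have c43 : Nat.choose 4 3 = 4 := by decide
  have c53 : Nat.choose 5 3 = 10 := by decide
  have c04 : Nat.choose 0 4 = 0 := by decide
  have c14 : Nat.choose 1 4 = 0 := by decide
  have c24 : Nat.choose 2 4 = 0 := by decide
  have c34 : Nat.choose 3 4 = 0 := by decide
  have c44 : Nat.choose 4 4 = 1 := by decide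
  have c54 : Nat.choose 5 4 = 5 := by decide
  simp only [sum_range_succ, sum_range_zero, hS, Nat.choose_zero_right, Nat.choose_one_right]
    at h0 h1
  simp only [sum_range_succ, sum_range_zero, hS, c02, c12, c22, c32, c42, c52] at h2
  simp only [sum_range_succ, sum_range_zero, hS, c03, c13, c23, c33, c43, c53] at h3
  simp only [sum_range_succ, sum_range_zero, hS, c04, c14, c24, c34, c44, c54] at h4
  omega

theorem cnt_five_of_mem {S : Finset α} (hS : S.card = 5) (hSB : S ∈ B) :
    ((blocksF B).filter (fun d => (d ∩ S).card = 5)).card = 1 := by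
  rw [card_eq_one]
  refine ⟨S, ?_⟩
  ext d
  rw [mem_filter, mem_blocksF, mem_singleton]
  constructor
  · rintro ⟨hd, h⟩
    exact eq_of_inter_card (hB.1 d hd) hS h
  · rintro rfl
    exact ⟨hSB, by rw [inter_self, hS]⟩

theorem cnt_five_of_notMem {S : Finset α} (hS : S.card = 5) (hSB : S ∉ B) :
    ((blocksF B).filter (fun d => (d ∩ S).card = 5)).card = 0 := by
  rw [card_eq_zero, filter_eq_empty_iff]
  intro d hd h
  rw [mem_blocksF] at hd
  have := eq_of_inter_card (hB.1 d hd) hS h
  rw [this] at hd
  exact hSB hd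

/-- two blocks of an `S(4,5,11)` always meet -/
theorem inter_ne_zero {b c : Finset α} (hb : b ∈ B) (hc : c ∈ B) : (c ∩ b).card ≠ 0 := by
  have h := cnt_zero hα hB b (hB.1 b hb)
  rw [cnt_five_of_mem hα hB (hB.1 b hb) hb] at h
  have h0 : ((blocksF B).filter (fun d => (d ∩ b).card = 0)).card = 0 := by omega
  rw [card_eq_zero, filter_eq_empty_iff] at h0
  exact h0 (mem_blocksF.mpr hc)

/-- a 5-set which is not a block is disjoint from exactly one block -/
theorem exists_unique_disjoint {S : Finset α} (hS : S.card = 5) (hSB : S ∉ B) :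
    ∃! d, d ∈ B ∧ (d ∩ S).card = 0 := by
  have h := cnt_zero hα hB S hS
  rw [cnt_five_of_notMem hα hB hS hSB] at h
  have h0 : ((blocksF B).filter (fun d => (d ∩ S).card = 0)).card = 1 := by omega
  obtain ⟨d, hd⟩ := card_eq_one.mp h0
  have hmem : ∀ c, c ∈ B ∧ (c ∩ S).card = 0 ↔ c = d := by
    intro c
    have h1 : c ∈ (blocksF B).filter (fun d => (d ∩ S).card = 0) ↔ c = d := by
      rw [hd, mem_singleton]
    rw [mem_filter, mem_blocksF] at h1
    exact h1
  exact ⟨d, (hmem d).mpr rfl, fun c hc => (hmem c).mp hc⟩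

end S4511

end Cfsg.Agent.Lib.Helper28
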