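import Mathlib
import Cfsg.Agent.Lib.Helper28.Steiner4511
import Cfsg.Agent.Lib.Helper28.Derived
import Cfsg.Agent.Lib.Helper28.Aut12
import Cfsg.Agent.S0387
import Cfsg.Agent.S0388

/-!
# The Steiner system `S(4,5,11)`

The canonical extension of an `S(4,5,11)` to an `S(5,6,12)` (blocks plus the new point, and their
complements); uniqueness and the automorphism group follow from the `S(5,6,12)` case.
-/

set_option autoImplicit false
set_option linter.unusedSectionVars false
open scoped Pointwise

namespace Cfsg.Agent.Lib.Helper28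

open Cfsg Finset PlaneFour

namespace Ext11

/-! ### Generalities -/

theorem card_eq_of_regular {G X : Type*} [Group G] [MulAction G X]
    (hpt : ∀ x y : X, ∃ g : G, g • x = y) (x0 : X) (h : MulAction.stabilizer G x0 = ⊥) :
    Nat.card G = Nat.card X := by
  have hbij : Function.Bijective (fun g : G => g • x0) := by
    constructor
    · intro g g' hgg
      have h' : g • x0 = g' • x0 := hgg
      have h1 : g'⁻¹ * g ∈ MulAction.stabilizer G x0 := by
        rw [MulAction.mem_stabilizer_iff, mul_smul, inv_smul_eq_iff]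
        exact h'
      rw [h, Subgroup.mem_bot] at h1
      exact (inv_mul_eq_one.mp h1).symm
    · intro y
      exact hpt x0 y
  exact Nat.card_eq_of_bijective _ hbij

theorem image_compl_equiv {γ δ : Type*} [Fintype γ] [DecidableEq γ] [Fintype δ] [DecidableEq δ]
    (e : γ ≃ δ) (s : Finset γ) : (sᶜ).image e = (s.image e)ᶜ := by
  ext y
  simp only [mem_image, mem_compl]
  constructor
  · rintro ⟨x, hx, rfl⟩ ⟨x', hx', h⟩
    have := e.injective h
    rw [this] at hx'
    exact hx hx'
  · intro h
    exact ⟨e.symm y, fun hx => h ⟨e.symm y, hx, e.apply_symm_apply y⟩, e.apply_symm_apply y⟩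

theorem exists_emb_zero {γ : Type*} [Fintype γ] [DecidableEq γ] (hγ : 5 ≤ Fintype.card γ)
    (p : γ) : ∃ x : Fin 5 ↪ γ, x 0 = p := by
  obtain ⟨z⟩ : Nonempty (Fin 5 ↪ γ) := Function.Embedding.nonempty_of_card_le (by
    rw [Fintype.card_fin]
    exact hγ)
  refine ⟨z.trans (Equiv.swap (z 0) p).toEmbedding, ?_⟩
  show Equiv.swap (z 0) p (z 0) = p
  exact Equiv.swap_apply_left _ _

/-- point transitivity of the automorphism group of an `S(5,6,12)` -/
theorem exists_aut_point {γ : Type*} [Fintype γ] [DecidableEq γ] (hγ : Fintype.card γ = 12)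
    {E : Set (Finset γ)} (hE : IsSteinerSystem 5 6 E) (p q : γ) :
    ∃ g : Equiv.Perm γ, g ∈ setSystemAut E ∧ g p = q := by
  obtain ⟨x, hx⟩ := exists_emb_zero (by rw [hγ]; norm_num) p
  obtain ⟨y, hy⟩ := exists_emb_zero (by rw [hγ]; norm_num) q
  obtain ⟨g, hg, hgx⟩ := Aut12.exists_aut_map hγ hE x y
  refine ⟨g, hg, ?_⟩
  rw [← hx, ← hy]
  exact hgx 0

variable {α : Type*} [Fintype α] [DecidableEq α]

theorem subset_insertNone_iff {s : Finset (Option α)} {b : Finset α} :
    s ⊆ insertNone b ↔ s.eraseNone ⊆ b := by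
  constructor
  · intro h y hy
    rw [mem_eraseNone] at hy
    exact some_mem_insertNone.mp (h hy)
  · intro h x hx
    cases x with
    | none => exact none_mem_insertNone
    | some y => exact some_mem_insertNone.mpr (h (mem_eraseNone.mpr hx))

theorem subset_compl_insertNone_iff {s : Finset (Option α)} {b : Finset α} (hs : none ∉ s) :
    s ⊆ (insertNone b)ᶜ ↔ (b ∩ s.eraseNone).card = 0 := by
  rw [card_eq_zero]
  constructor
  · intro h
    rw [eq_empty_iff_forall_notMem]
    intro y hy
    rw [mem_inter, mem_eraseNone] at hy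
    have h1 := h hy.2
    rw [mem_compl, some_mem_insertNone] at h1
    exact h1 hy.1
  · intro h x hx
    rw [mem_compl]
    cases x with
    | none => exact absurd hx hs
    | some y =>
      rw [some_mem_insertNone]
      intro hyb
      have h1 : y ∈ b ∩ s.eraseNone := mem_inter.mpr ⟨hyb, mem_eraseNone.mpr hx⟩
      rw [h] at h1
      exact absurd h1 (notMem_empty y)

theorem card_eraseNone_of_mem {s : Finset (Option α)} (h : none ∈ s) :
    s.eraseNone.card + 1 = s.card := by
  conv_rhs => rw [← Derived.insertNone_eraseNone_of_mem h]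
  rw [card_insertNone]

theorem card_eraseNone_of_notMem {s : Finset (Option α)} (h : none ∉ s) :
    s.eraseNone.card = s.card := by
  rw [card_eraseNone_eq_card_erase, erase_eq_of_notMem h]

/-! ### The extension -/

/-- the extension of a family of blocks by a new point: the blocks with the new point, and their
complements -/
def Ext (D : Set (Finset α)) : Set (Finset (Option α)) :=
  {c | ∃ b ∈ D, c = insertNone b ∨ c = (insertNone b)ᶜ}

theorem insertNone_mem_ext {D : Set (Finset α)} {b : Finset α} (hb : b ∈ D) :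
    insertNone b ∈ Ext D := ⟨b, hb, Or.inl rfl⟩

theorem compl_mem_ext {D : Set (Finset α)} {b : Finset α} (hb : b ∈ D) :
    (insertNone b)ᶜ ∈ Ext D := ⟨b, hb, Or.inr rfl⟩

theorem derived_ext (D : Set (Finset α)) : Derived.derived (Ext D) = D := by
  ext b
  rw [Derived.mem_derived]
  constructor
  · rintro ⟨b', hb', h | h⟩
    · rw [Derived.insertNone_inj h]
      exact hb'
    · exfalso
      have h1 : none ∈ insertNone b := none_mem_insertNone
      rw [h, mem_compl] at h1
      exact h1 none_mem_insertNone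
  · exact insertNone_mem_ext

theorem ext_steiner (hα : Fintype.card α = 11) {D : Set (Finset α)}
    (hD : IsSteinerSystem 4 5 D) : IsSteinerSystem 5 6 (Ext D) := by
  constructor
  · rintro c ⟨b, hb, rfl | rfl⟩
    · rw [card_insertNone, hD.1 b hb]
    · rw [card_compl, Fintype.card_option, hα, card_insertNone, hD.1 b hb]
  · intro s hs
    by_cases hn : none ∈ s
    · have hc : s.eraseNone.card = 4 := by
        have := card_eraseNone_of_mem hn
        omega
      obtain ⟨b, ⟨hb, hsb⟩, huniq⟩ := hD.2 _ hc
      refine ⟨insertNone b, ⟨insertNone_mem_ext hb, subset_insertNone_iff.mpr hsb⟩, ?_⟩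
      rintro c ⟨⟨b', hb', rfl | rfl⟩, hsc⟩
      · rw [huniq b' ⟨hb', subset_insertNone_iff.mp hsc⟩]
      · exfalso
        have h1 := hsc hn
        rw [mem_compl] at h1
        exact h1 none_mem_insertNone
    · have hc : s.eraseNone.card = 5 := by rw [card_eraseNone_of_notMem hn, hs]
      by_cases hsD : s.eraseNone ∈ D
      · refine ⟨insertNone s.eraseNone,
          ⟨insertNone_mem_ext hsD, subset_insertNone_iff.mpr (Subset.refl _)⟩, ?_⟩
        rintro c ⟨⟨b', hb', rfl | rfl⟩, hsc⟩
        · have h1 := subset_insertNone_iff.mp hsc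
          have h2 : s.eraseNone = b' :=
            eq_of_subset_of_card_le h1 (by rw [hc, hD.1 b' hb'])
          rw [h2]
        · exfalso
          exact S4511.inter_ne_zero hα hD hsD hb' ((subset_compl_insertNone_iff hn).mp hsc)
      · obtain ⟨d, ⟨hd, hdS⟩, huniq⟩ := S4511.exists_unique_disjoint hα hD hc hsD
        refine ⟨(insertNone d)ᶜ,
          ⟨compl_mem_ext hd, (subset_compl_insertNone_iff hn).mpr hdS⟩, ?_⟩
        rintro c ⟨⟨b', hb', rfl | rfl⟩, hsc⟩
        · exfalso
          have h1 := subset_insertNone_iff.mp hsc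
          have h2 : s.eraseNone = b' :=
            eq_of_subset_of_card_le h1 (by rw [hc, hD.1 b' hb'])
          rw [h2] at hsD
          exact hsD hb'
        · rw [huniq b' ⟨hb', (subset_compl_insertNone_iff hn).mp hsc⟩]

theorem card_option_eq (hα : Fintype.card α = 11) : Fintype.card (Option α) = 12 := by
  rw [Fintype.card_option, hα]

/-! ### Maps of extensions fixing the new point -/

theorem image_removeNone_mem {β : Type*} [Fintype β] [DecidableEq β] {D : Set (Finset α)}
    {D' : Set (Finset β)} (ψ : Option α ≃ Option β) (h0 : ψ none = none)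
    (hψ : ∀ c ∈ Ext D, c.image ψ ∈ Ext D') {b : Finset α} (hb : b ∈ D) :
    b.image (Equiv.removeNone ψ) ∈ D' := by
  have h1 := hψ _ (insertNone_mem_ext hb)
  rw [Derived.image_insertNone ψ h0] at h1
  have h2 : b.image (Equiv.removeNone ψ) ∈ Derived.derived (Ext D') := h1
  rw [derived_ext] at h2
  exact h2

/-- uniqueness of `S(4,5,11)` -/
theorem steiner_4_5_11_iso {β : Type*} [Fintype β] [DecidableEq β] (hα : Fintype.card α = 11)
    (hβ : Fintype.card β = 11) {D : Set (Finset α)} {D' : Set (Finset β)}
    (hD : IsSteinerSystem 4 5 D) (hD' : IsSteinerSystem 4 5 D') : SetSystemIso D D' := by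
  have hE := ext_steiner hα hD
  have hE' := ext_steiner hβ hD'
  obtain ⟨φ, hφ⟩ := Witt12.steiner_5_6_12_iso (card_option_eq hα) (card_option_eq hβ) hE hE'
  obtain ⟨g, hg, hg0⟩ := exists_aut_point (card_option_eq hβ) hE' (φ none) none
  have h0 : (φ.trans g) none = none := hg0
  have hψ : ∀ c ∈ Ext D, c.image (φ.trans g) ∈ Ext D' := by
    intro c hc
    have h1 : c.image φ ∈ Ext D' := by
      rw [← hφ]
      exact ⟨c, hc, rfl⟩
    have h2 := image_mem_of_mem_aut hg h1
    rw [image_image] at h2
    exact h2
  exact ⟨Equiv.removeNone (φ.trans g), SetSys.steiner_image_eq (by norm_num) hD hD' _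
    (fun b hb => image_removeNone_mem (φ.trans g) h0 hψ hb)⟩

/-! ### The automorphism group -/

theorem optionCongr_mem_aut {D : Set (Finset α)} {σ : Equiv.Perm α} (hσ : σ ∈ setSystemAut D) :
    Equiv.optionCongr σ ∈ setSystemAut (Ext D) := by
  apply mem_aut_of_image_mem
  rintro c ⟨b, hb, rfl | rfl⟩
  · rw [Derived.image_insertNone_optionCongr]
    exact insertNone_mem_ext (image_mem_of_mem_aut hσ hb)
  · rw [image_compl_equiv, Derived.image_insertNone_optionCongr]
    exact compl_mem_ext (image_mem_of_mem_aut hσ hb)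

theorem removeNone_mem_aut {D : Set (Finset α)} {g : Equiv.Perm (Option α)}
    (hg : g ∈ setSystemAut (Ext D)) (h0 : g none = none) :
    Equiv.removeNone g ∈ setSystemAut D := by
  apply mem_aut_of_image_mem
  intro b hb
  exact image_removeNone_mem g h0 (fun c hc => image_mem_of_mem_aut hg hc) hb

/-- a 4-tuple extended by the new point -/
def ext5 (x : Fin 4 ↪ α) : Fin 5 ↪ Option α := (finSuccEquiv 4).toEmbedding.trans x.optionMap

theorem ext5_zero (x : Fin 4 ↪ α) : ext5 x 0 = none := by
  show Option.map x (finSuccEquiv 4 0) = none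
  rw [finSuccEquiv_zero]
  rfl

theorem ext5_succ (x : Fin 4 ↪ α) (i : Fin 4) : ext5 x i.succ = some (x i) := by
  show Option.map x (finSuccEquiv 4 i.succ) = _
  rw [finSuccEquiv_succ]
  rfl

theorem exists_aut_map4 (hα : Fintype.card α = 11) {D : Set (Finset α)}
    (hD : IsSteinerSystem 4 5 D) (x y : Fin 4 ↪ α) :
    ∃ σ : Equiv.Perm α, σ ∈ setSystemAut D ∧ ∀ i, σ (x i) = y i := by
  obtain ⟨g, hg, hgx⟩ :=
    Aut12.exists_aut_map (card_option_eq hα) (ext_steiner hα hD) (ext5 x) (ext5 y)
  have h0 : g none = none := by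
    have h1 := hgx 0
    rwa [ext5_zero, ext5_zero] at h1
  refine ⟨Equiv.removeNone g, removeNone_mem_aut hg h0, fun i => ?_⟩
  have h1 := hgx i.succ
  rw [ext5_succ, ext5_succ] at h1
  have h2 := Equiv.removeNone_some g ⟨_, h1⟩
  exact Option.some_injective _ (h2.trans h1)

theorem eq_one_of_fix_four (hα : Fintype.card α = 11) {D : Set (Finset α)}
    (hD : IsSteinerSystem 4 5 D) {σ : Equiv.Perm α} (hσ : σ ∈ setSystemAut D) (x : Fin 4 ↪ α)
    (hx : ∀ i, σ (x i) = x i) : σ = 1 := by
  have h1 : Equiv.optionCongr σ = 1 :=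
    Aut12.eq_one_of_fix_five (card_option_eq hα) (ext_steiner hα hD) (optionCongr_mem_aut hσ)
      (ext5 x) (fun i => by
        cases i using Fin.cases with
        | zero =>
          rw [ext5_zero]
          rfl
        | succ i =>
          rw [ext5_succ]
          show some (σ (x i)) = some (x i)
          rw [hx i])
  apply Derived.optHom_injective α
  rw [map_one, Derived.optHom_apply]
  exact h1

theorem pretransitive_4 (hα : Fintype.card α = 11) {D : Set (Finset α)}
    (hD : IsSteinerSystem 4 5 D) : MulAction.IsMultiplyPretransitive (setSystemAut D) α 4 := by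
  rw [MulAction.isMultiplyPretransitive_iff]
  intro x y
  obtain ⟨g, hg, hgx⟩ := exists_aut_map4 hα hD x y
  refine ⟨⟨g, hg⟩, ?_⟩
  ext i
  exact hgx i

theorem stabilizer_eq_bot (hα : Fintype.card α = 11) {D : Set (Finset α)}
    (hD : IsSteinerSystem 4 5 D) (x : Fin 4 ↪ α) :
    MulAction.stabilizer (setSystemAut D) x = ⊥ := by
  rw [Subgroup.eq_bot_iff_forall]
  intro g hg
  rw [MulAction.mem_stabilizer_iff] at hg
  apply Subtype.ext
  show (g : Equiv.Perm α) = 1
  apply eq_one_of_fix_four hα hD g.2 x
  intro i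
  have h1 := DFunLike.congr_fun hg i
  exact h1

theorem card_aut (hα : Fintype.card α = 11) {D : Set (Finset α)}
    (hD : IsSteinerSystem 4 5 D) : Nat.card (setSystemAut D) = 7920 := by
  obtain ⟨x0⟩ : Nonempty (Fin 4 ↪ α) := Function.Embedding.nonempty_of_card_le (by
    rw [Fintype.card_fin, hα]
    norm_num)
  have hpt := pretransitive_4 hα hD
  rw [MulAction.isMultiplyPretransitive_iff] at hpt
  rw [card_eq_of_regular hpt x0 (stabilizer_eq_bot hα hD x0), Nat.card_eq_fintype_card,
    Fintype.card_embedding_eq, hα, Fintype.card_fin]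
  rfl

/-! ### Simplicity -/

/-- automorphisms of `D` extend to the extension -/
def optAut (D : Set (Finset α)) : setSystemAut D →* setSystemAut (Ext D) :=
  ((Derived.optHom α).comp (setSystemAut D).subtype).codRestrict (setSystemAut (Ext D))
    (fun σ => optionCongr_mem_aut σ.2)

theorem optAut_apply (D : Set (Finset α)) (σ : setSystemAut D) :
    ((optAut D σ : setSystemAut (Ext D)) : Equiv.Perm (Option α)) = Equiv.optionCongr σ.1 := rfl

section Simple

variable {d : Finset GolayPt} (hd : d ∈ dodecads) {D : Set (Finset α)}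
  (φ : Option α ≃ {p : GolayPt // p ∈ d})
  (hφ : (fun b : Finset (Option α) => b.image φ) '' Ext D = Aut12.hexSys d)

/-- the embedding of the automorphism group in `M24` given by coordinates -/
noncomputable def toM24 : setSystemAut D →* M24 :=
  (MulAction.stabilizer M24 d).subtype.comp
    ((Aut12.resEquiv hd).symm.toMonoidHom.comp ((SetSys.autCongr φ hφ).toMonoidHom.comp (optAut D)))

theorem toM24_apply (σ : setSystemAut D) :
    toM24 hd φ hφ σ = ((Aut12.resEquiv hd).symm (SetSys.autCongr φ hφ (optAut D σ))).1 := rfl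

theorem toM24_injective : Function.Injective (toM24 hd φ hφ) := by
  intro a b hab
  rw [toM24_apply, toM24_apply] at hab
  have h1 := Subtype.ext hab
  have h2 := (SetSys.autCongr φ hφ).injective ((Aut12.resEquiv hd).symm.injective h1)
  have h3 : Derived.optHom α a.1 = Derived.optHom α b.1 := congrArg Subtype.val h2
  exact Subtype.ext (Derived.optHom_injective α h3)

theorem toM24_mem (σ : setSystemAut D) :
    toM24 hd φ hφ σ ∈ MulAction.stabilizer M24 d ⊓ MulAction.stabilizer M24 (φ none).1 := by
  rw [toM24_apply, Subgroup.mem_inf]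
  refine ⟨((Aut12.resEquiv hd).symm (SetSys.autCongr φ hφ (optAut D σ))).2, ?_⟩
  rw [MulAction.mem_stabilizer_iff]
  have hwy : Aut12.resHom d ((Aut12.resEquiv hd).symm (SetSys.autCongr φ hφ (optAut D σ))) =
      SetSys.autCongr φ hφ (optAut D σ) :=
    MulEquiv.ofBijective_apply_symm_apply (Aut12.resHom d) (Aut12.resHom_bijective hd)
  have h2 : (SetSys.autCongr φ hφ (optAut D σ)).1 (φ none) = φ none := by
    rw [SetSys.autCongr_apply, Equiv.symm_apply_apply]
    rfl
  rw [← hwy] at h2
  exact congrArg Subtype.val h2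

end Simple

theorem aut_simple (hα : Fintype.card α = 11) {D : Set (Finset α)}
    (hD : IsSteinerSystem 4 5 D) : IsSimpleGroup (setSystemAut D) := by
  have hd := squareDodecad_mem
  obtain ⟨φ, hφ⟩ := Witt12.steiner_5_6_12_iso (card_option_eq hα) (Aut12.card_subtype_dodecad hd)
    (ext_steiner hα hD) (Aut12.hexSys_steiner hd)
  have hKs : IsSimpleGroup ↥(MulAction.stabilizer M24 Spor.squareDodecad ⊓
      MulAction.stabilizer M24 (φ none).1) := Cfsg.Agent.S0388.result _ hd _ (φ none).2
  have hKc : Nat.card ↥(MulAction.stabilizer M24 Spor.squareDodecad ⊓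
      MulAction.stabilizer M24 (φ none).1) = 7920 := Cfsg.Agent.S0387.result _ hd _ (φ none).2
  have hinj : Function.Injective ((toM24 hd φ hφ).codRestrict _ (toM24_mem hd φ hφ)) := by
    intro a b hab
    have h1 := congrArg (fun z : ↥(MulAction.stabilizer M24 Spor.squareDodecad ⊓
      MulAction.stabilizer M24 (φ none).1) => (z : M24)) hab
    exact toM24_injective hd φ hφ h1
  have hbij := hinj.bijective_of_nat_card_le (by rw [hKc, card_aut hα hD])
  exact (MulEquiv.ofBijective _ hbij).isSimpleGroup

/-- the automorphism group of any `S(4,5,11)` -/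
theorem aut_11 (hα : Fintype.card α = 11) {D : Set (Finset α)} (hD : IsSteinerSystem 4 5 D) :
    IsM11 (setSystemAut D) ∧ MulAction.IsMultiplyPretransitive (setSystemAut D) α 4 ∧
      ∀ x : Fin 4 ↪ α, MulAction.stabilizer (setSystemAut D) x = ⊥ :=
  ⟨⟨aut_simple hα hD, card_aut hα hD⟩, pretransitive_4 hα hD, stabilizer_eq_bot hα hD⟩

end Ext11

end Cfsg.Agent.Lib.Helper28
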