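import Cfsg.Agent.Lib.Helper28.BSGSCore
import Cfsg.Prelude.Def_Spor_J3

/-!
# Packed vectors of `𝔽₄⁹`

A vector of `𝔽₄⁹` (coordinates indexed by `Cfsg.Spor.F9`) is stored in one natural number of 18
bits: bit `j` and bit `9 + j` are the coefficients of `1` and `ω` of coordinate `j`.  A matrix is
stored by its nine columns in one number of 162 bits.  The semantic maps `ofV` and `matOf` go to an
arbitrary field of characteristic two with a root `ω` of `X² + X + 1`.
-/

set_option autoImplicit false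

namespace Cfsg.Agent.Lib.Helper28.F4

open Cfsg.Spor
open scoped MatrixGroups

/-- a field of characteristic two with a primitive cube root of unity -/
class Data (F : Type*) [Field F] (ω : F) : Prop where
  /-- characteristic two -/
  two : (2 : F) = 0
  /-- the equation of `ω` -/
  om : ω ^ 2 + ω + 1 = 0

section field
variable {F : Type*} [Field F] {ω : F} [hd : Data F ω]

omit hd in
theorem add_self' (h : (2 : F) = 0) (a : F) : a + a = 0 := by
  calc a + a = 2 * a := by ring
    _ = 0 := by rw [h, zero_mul]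

theorem om_sq : ω ^ 2 = ω + 1 := by
  have h := hd.om
  have h2 : ω ^ 2 = ω ^ 2 + ω + 1 + (ω + 1) := by
    have := add_self' hd.two (ω + 1)
    calc ω ^ 2 = ω ^ 2 + 0 := by ring
      _ = ω ^ 2 + ((ω + 1) + (ω + 1)) := by rw [this]
      _ = ω ^ 2 + ω + 1 + (ω + 1) := by ring
  rw [h2, h, zero_add]

theorem om_ne_zero : ω ≠ 0 := by
  intro h
  have := hd.om
  rw [h] at this
  simp at this

theorem om_ne_one : ω ≠ 1 := by
  intro h
  have := hd.om
  rw [h] at this
  have h2 : (1 : F) + 1 = 0 := add_self' hd.two 1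
  have : (1 : F) = 0 := by
    calc (1 : F) = 1 ^ 2 + 1 + 1 - (1 + 1) := by ring
      _ = 0 := by rw [this, h2, sub_zero]
  exact one_ne_zero this

end field

/-- index of a coordinate -/
def idx (z : F9) : ℕ := 3 * z.1.val + z.2.val

theorem idx_lt (z : F9) : idx z < 9 := by
  have h1 := ZMod.val_lt z.1
  have h2 := ZMod.val_lt z.2
  unfold idx
  omega

section sem
variable {F : Type*} [Field F]

/-- a bit as an element of the field -/
def bitF (F : Type*) [Field F] (b : Bool) : F := cond b 1 0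

/-- the vector of a number -/
def ofV (ω : F) (v : ℕ) : F9 → F := fun z =>
  bitF F (v.testBit (idx z)) + bitF F (v.testBit (9 + idx z)) * ω

variable {ω : F} [hd : Data F ω]

omit hd in
theorem bitF_xor (h2 : (2 : F) = 0) (a b : Bool) : bitF F (a ^^ b) = bitF F a + bitF F b := by
  cases a <;> cases b <;> simp [bitF]
  exact (add_self' h2 1).symm

theorem ofV_xor (a b : ℕ) : ofV ω (Nat.xor a b) = ofV ω a + ofV ω b := by
  funext z
  show bitF F ((a ^^^ b).testBit (idx z)) + bitF F ((a ^^^ b).testBit (9 + idx z)) * ω =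
    (bitF F (a.testBit (idx z)) + bitF F (a.testBit (9 + idx z)) * ω) +
    (bitF F (b.testBit (idx z)) + bitF F (b.testBit (9 + idx z)) * ω)
  rw [Nat.testBit_xor, Nat.testBit_xor, bitF_xor hd.two, bitF_xor hd.two]
  ring

theorem ofV_zero : ofV ω 0 = 0 := by
  funext z
  simp [ofV, bitF]

/-- multiplication of a packed vector by `ω` -/
def mulw (x : ℕ) : ℕ :=
  Nat.lor (Nat.land (Nat.shiftRight x 9) 511)
    (Nat.shiftLeft (Nat.land (Nat.xor x (Nat.shiftRight x 9)) 511) 9)

theorem testBit_511 (i : ℕ) : Nat.testBit 511 i = decide (i < 9) := by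
  have h : (511 : ℕ) = 2 ^ 9 - 1 := by norm_num
  rw [h, Nat.testBit_two_pow_sub_one]

theorem mulw_lo (x i : ℕ) (hi : i < 9) : (mulw x).testBit i = x.testBit (9 + i) := by
  show ((x >>> 9 &&& 511) ||| ((x ^^^ x >>> 9) &&& 511) <<< 9).testBit i = _
  rw [Nat.testBit_or, Nat.testBit_and, Nat.testBit_shiftRight, testBit_511, Nat.testBit_shiftLeft]
  have h1 : decide (i < 9) = true := by simpa using hi
  have h2 : decide (i ≥ 9) = false := by simp; omega
  rw [h1, h2]
  simp

theorem mulw_hi (x i : ℕ) (hi : i < 9) :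
    (mulw x).testBit (9 + i) = (x.testBit i ^^ x.testBit (9 + i)) := by
  show ((x >>> 9 &&& 511) ||| ((x ^^^ x >>> 9) &&& 511) <<< 9).testBit (9 + i) = _
  rw [Nat.testBit_or, Nat.testBit_and, Nat.testBit_shiftRight, testBit_511, Nat.testBit_shiftLeft,
    Nat.testBit_and, Nat.testBit_xor, Nat.testBit_shiftRight, testBit_511]
  have h1 : decide (9 + i < 9) = false := by simp
  have h2 : decide (9 + i ≥ 9) = true := by simp
  have h3 : 9 + i - 9 = i := by omega
  have h4 : decide (i < 9) = true := by simpa using hi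
  rw [h1, h2, h3, h4]
  simp

theorem ofV_mulw (x : ℕ) : ofV ω (mulw x) = ω • ofV ω x := by
  funext z
  show bitF F ((mulw x).testBit (idx z)) + bitF F ((mulw x).testBit (9 + idx z)) * ω =
    ω * (bitF F (x.testBit (idx z)) + bitF F (x.testBit (9 + idx z)) * ω)
  rw [mulw_lo x _ (idx_lt z), mulw_hi x _ (idx_lt z), bitF_xor hd.two]
  have h := om_sq (F := F) (ω := ω)
  have : ω * (bitF F (x.testBit (idx z)) + bitF F (x.testBit (9 + idx z)) * ω) =
      bitF F (x.testBit (idx z)) * ω + bitF F (x.testBit (9 + idx z)) * ω ^ 2 := by ring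
  rw [this, h]
  have h2 := add_self' hd.two (bitF F (x.testBit (9 + idx z)) * ω)
  calc bitF F (x.testBit (9 + idx z)) +
        (bitF F (x.testBit (idx z)) + bitF F (x.testBit (9 + idx z))) * ω
      = bitF F (x.testBit (idx z)) * ω + bitF F (x.testBit (9 + idx z)) * (ω + 1) := by ring

/-- a bit of `v` times a packed vector -/
theorem ofV_bitmul (v j c : ℕ) :
    ofV ω (Nat.mul (Nat.land (Nat.shiftRight v j) 1) c) = bitF F (v.testBit j) • ofV ω c := by
  have h : Nat.land (Nat.shiftRight v j) 1 = (v.testBit j).toNat := by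
    show (v >>> j) &&& 1 = (v.testBit j).toNat
    rw [Nat.and_one_is_mod, Nat.toNat_testBit, Nat.shiftRight_eq_div_pow]
  rw [h]
  cases v.testBit j
  · show ofV ω (0 * c) = (0 : F) • ofV ω c
    rw [zero_mul, zero_smul, ofV_zero]
  · show ofV ω (1 * c) = (1 : F) • ofV ω c
    rw [one_mul, one_smul]

/-- the coefficient of a coordinate -/
def coef (ω : F) (v k : ℕ) : F := bitF F (v.testBit k) + bitF F (v.testBit (9 + k)) * ω

omit hd in
theorem ofV_apply (v : ℕ) (z : F9) : ofV ω v z = coef ω v (idx z) := rfl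

/-- one term of the product of a matrix and a vector -/
def sel (v j k c d : ℕ) : ℕ :=
  Nat.xor (Nat.mul (Nat.land (Nat.shiftRight v j) 1) c) (Nat.mul (Nat.land (Nat.shiftRight v k) 1) d)

theorem ofV_sel (v j c : ℕ) : ofV ω (sel v j (9 + j) c (mulw c)) = coef ω v j • ofV ω c := by
  unfold sel coef
  rw [ofV_xor, ofV_bitmul, ofV_bitmul, ofV_mulw, add_smul, mul_smul]

/-- the `j`-th column of a matrix code -/
def col (c j : ℕ) : ℕ := Nat.land (Nat.shiftRight c (Nat.mul 18 j)) 262143

/-- matrices: the columns and their multiples by `ω` -/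
structure M9 where
  /-- column -/
  c0 : ℕ
  /-- column -/
  c1 : ℕ
  /-- column -/
  c2 : ℕ
  /-- column -/
  c3 : ℕ
  /-- column -/
  c4 : ℕ
  /-- column -/
  c5 : ℕ
  /-- column -/
  c6 : ℕ
  /-- column -/
  c7 : ℕ
  /-- column -/
  c8 : ℕ
  /-- column times `ω` -/
  d0 : ℕ
  /-- column times `ω` -/
  d1 : ℕ
  /-- column times `ω` -/
  d2 : ℕ
  /-- column times `ω` -/
  d3 : ℕ
  /-- column times `ω` -/
  d4 : ℕ
  /-- column times `ω` -/
  d5 : ℕ
  /-- column times `ω` -/
  d6 : ℕ
  /-- column times `ω` -/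
  d7 : ℕ
  /-- column times `ω` -/
  d8 : ℕ

/-- the matrix of a code -/
def decM (c : ℕ) : M9 :=
  ⟨col c 0, col c 1, col c 2, col c 3, col c 4, col c 5, col c 6, col c 7, col c 8,
   mulw (col c 0), mulw (col c 1), mulw (col c 2), mulw (col c 3), mulw (col c 4), mulw (col c 5), mulw (col c 6), mulw (col c 7), mulw (col c 8)⟩

/-- matrix times vector -/
def mv (M : M9) (v : ℕ) : ℕ :=
  Nat.xor (sel v 0 9 M.c0 M.d0) (Nat.xor (sel v 1 10 M.c1 M.d1) (Nat.xor (sel v 2 11 M.c2 M.d2)
    (Nat.xor (sel v 3 12 M.c3 M.d3) (Nat.xor (sel v 4 13 M.c4 M.d4) (Nat.xor (sel v 5 14 M.c5 M.d5)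
    (Nat.xor (sel v 6 15 M.c6 M.d6) (Nat.xor (sel v 7 16 M.c7 M.d7) (sel v 8 17 M.c8 M.d8))))))))

theorem ofV_mv (c v : ℕ) : ofV ω (mv (decM c) v) =
    coef ω v 0 • ofV ω (col c 0) + (coef ω v 1 • ofV ω (col c 1) + (coef ω v 2 • ofV ω (col c 2) +
    (coef ω v 3 • ofV ω (col c 3) + (coef ω v 4 • ofV ω (col c 4) + (coef ω v 5 • ofV ω (col c 5) +
    (coef ω v 6 • ofV ω (col c 6) + (coef ω v 7 • ofV ω (col c 7) +
      coef ω v 8 • ofV ω (col c 8)))))))) := by
  show ofV ω (Nat.xor (sel v 0 (9 + 0) (col c 0) (mulw (col c 0)))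
    (Nat.xor (sel v 1 (9 + 1) (col c 1) (mulw (col c 1)))
    (Nat.xor (sel v 2 (9 + 2) (col c 2) (mulw (col c 2)))
    (Nat.xor (sel v 3 (9 + 3) (col c 3) (mulw (col c 3)))
    (Nat.xor (sel v 4 (9 + 4) (col c 4) (mulw (col c 4)))
    (Nat.xor (sel v 5 (9 + 5) (col c 5) (mulw (col c 5)))
    (Nat.xor (sel v 6 (9 + 6) (col c 6) (mulw (col c 6)))
    (Nat.xor (sel v 7 (9 + 7) (col c 7) (mulw (col c 7)))
      (sel v 8 (9 + 8) (col c 8) (mulw (col c 8))))))))))) = _
  simp only [ofV_xor, ofV_sel]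

omit hd in
theorem sum_F9 {M : Type*} [AddCommMonoid M] (f : F9 → M) : ∑ z : F9, f z =
    f (0, 0) + f (0, 1) + f (0, 2) + f (1, 0) + f (1, 1) + f (1, 2) + f (2, 0) + f (2, 1) + f (2, 2) := by
  rw [Fintype.sum_prod_type]
  have h3 : ∀ g : ZMod 3 → M, ∑ x : ZMod 3, g x = g 0 + g 1 + g 2 := fun g => Fin.sum_univ_three g
  rw [h3]
  simp only [h3]
  abel

/-- the semantic matrix of a code -/
def matOf (ω : F) (c : ℕ) : Matrix F9 F9 F := fun i j => ofV ω (col c (idx j)) i

theorem mulVec_ofV (c v : ℕ) : Matrix.mulVec (matOf ω c) (ofV ω v) = ofV ω (mv (decM c) v) := by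
  funext i
  rw [ofV_mv]
  show ∑ j, matOf ω c i j * ofV ω v j = _
  rw [sum_F9]
  simp only [matOf, ofV_apply, Pi.add_apply, Pi.smul_apply, smul_eq_mul]
  have e0 : idx ((0, 0) : F9) = 0 := rfl
  have e1 : idx ((0, 1) : F9) = 1 := rfl
  have e2 : idx ((0, 2) : F9) = 2 := rfl
  have e3 : idx ((1, 0) : F9) = 3 := rfl
  have e4 : idx ((1, 1) : F9) = 4 := rfl
  have e5 : idx ((1, 2) : F9) = 5 := rfl
  have e6 : idx ((2, 0) : F9) = 6 := rfl
  have e7 : idx ((2, 1) : F9) = 7 := rfl
  have e8 : idx ((2, 2) : F9) = 8 := rfl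
  rw [e0, e1, e2, e3, e4, e5, e6, e7, e8]
  ring

/-! ### keys -/

/-- the key of a vector -/
def key (v : ℕ) : ℕ := Nat.land v 262143

theorem key_lt (v : ℕ) : key v < 262144 := by
  show v &&& 262143 < 2 ^ 18
  exact Nat.and_lt_two_pow v (by norm_num)

theorem testBit_262143 (i : ℕ) : Nat.testBit 262143 i = decide (i < 18) := by
  have h : (262143 : ℕ) = 2 ^ 18 - 1 := by norm_num
  rw [h, Nat.testBit_two_pow_sub_one]

omit hd in
theorem ofV_key (v : ℕ) : ofV ω (key v) = ofV ω v := by
  funext z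
  have hz := idx_lt z
  show bitF F ((v &&& 262143).testBit (idx z)) + bitF F ((v &&& 262143).testBit (9 + idx z)) * ω =
    bitF F (v.testBit (idx z)) + bitF F (v.testBit (9 + idx z)) * ω
  rw [Nat.testBit_and, Nat.testBit_and, testBit_262143, testBit_262143]
  have h1 : decide (idx z < 18) = true := by simp; omega
  have h2 : decide (9 + idx z < 18) = true := by simp; omega
  rw [h1, h2, Bool.and_true, Bool.and_true]

theorem key_of_lt {k : ℕ} (hk : k < 262144) : key k = k := by
  show k &&& 262143 = k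
  have h : (262143 : ℕ) = 2 ^ 18 - 1 := by norm_num
  rw [h, Nat.and_two_pow_sub_one_eq_mod, Nat.mod_eq_of_lt (by norm_num; exact hk)]

theorem bit_pair_inj {a a' b b' : Bool}
    (h : bitF F a + bitF F b * ω = bitF F a' + bitF F b' * ω) : a = a' ∧ b = b' := by
  have h0 := om_ne_zero (F := F) (ω := ω)
  have h1 := om_ne_one (F := F) (ω := ω)
  have h2 : (1 : F) + 1 = 0 := add_self' hd.two 1
  cases a <;> cases a' <;> cases b <;> cases b' <;>
    simp only [bitF, cond_true, cond_false, zero_mul, one_mul, add_zero, zero_add] at h <;>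
    first
    | exact ⟨rfl, rfl⟩
    | exact absurd (show (1 : F) = 0 by linear_combination h) one_ne_zero
    | exact absurd (show (1 : F) = 0 by linear_combination -h) one_ne_zero
    | exact absurd (show ω = 0 by linear_combination h) h0
    | exact absurd (show ω = 0 by linear_combination -h) h0
    | exact absurd (show ω = 1 by linear_combination h) h1
    | exact absurd (show ω = 1 by linear_combination -h) h1
    | exact absurd (show ω = 1 by linear_combination h - h2) h1
    | exact absurd (show ω = 1 by linear_combination -h - h2) h1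

theorem idx_surj : ∀ i : ℕ, i < 9 → ∃ z : F9, idx z = i := by
  intro i hi
  interval_cases i
  · exact ⟨(0, 0), rfl⟩
  · exact ⟨(0, 1), rfl⟩
  · exact ⟨(0, 2), rfl⟩
  · exact ⟨(1, 0), rfl⟩
  · exact ⟨(1, 1), rfl⟩
  · exact ⟨(1, 2), rfl⟩
  · exact ⟨(2, 0), rfl⟩
  · exact ⟨(2, 1), rfl⟩
  · exact ⟨(2, 2), rfl⟩

theorem idx_inj : ∀ z w : F9, idx z = idx w → z = w := by decide

theorem ofV_inj {k k' : ℕ} (hk : k < 262144) (hk' : k' < 262144) (h : ofV ω k = ofV ω k') :
    k = k' := by
  apply Nat.eq_of_testBit_eq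
  intro i
  by_cases hi : i < 18
  · by_cases hi9 : i < 9
    · obtain ⟨z, hz⟩ := idx_surj i hi9
      have := (bit_pair_inj (ω := ω) (congrFun h z)).1
      rwa [hz] at this
    · obtain ⟨z, hz⟩ := idx_surj (i - 9) (by omega)
      have := (bit_pair_inj (ω := ω) (congrFun h z)).2
      rw [hz] at this
      have e : 9 + (i - 9) = i := by omega
      rwa [e] at this
  · have h18 : (262144 : ℕ) = 2 ^ 18 := by norm_num
    have hle : 2 ^ 18 ≤ 2 ^ i := Nat.pow_le_pow_right (by norm_num) (by omega)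
    rw [Nat.testBit_lt_two_pow (lt_of_lt_of_le (h18 ▸ hk) hle),
      Nat.testBit_lt_two_pow (lt_of_lt_of_le (h18 ▸ hk') hle)]

/-- the key of a semantic vector -/
noncomputable def toKey (ω : F) (x : F9 → F) : ℕ := by
  classical
  exact if h : ∃ k, k < 262144 ∧ ofV ω k = x then Classical.choose h else 0

theorem toKey_ofV {k : ℕ} (hk : k < 262144) : toKey ω (ofV ω k) = k := by
  classical
  have h : ∃ k', k' < 262144 ∧ ofV ω k' = ofV ω k := ⟨k, hk, rfl⟩
  unfold toKey
  rw [dif_pos h]
  exact ofV_inj (Classical.choose_spec h).1 hk (Classical.choose_spec h).2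

theorem key_eq_of_ofV {v v' : ℕ} (h : ofV ω v = ofV ω v') : key v = key v' := by
  apply ofV_inj (ω := ω) (key_lt v) (key_lt v')
  rw [ofV_key, ofV_key, h]

omit hd in
theorem ofV_eq_of_key {v v' : ℕ} (h : key v = key v') : ofV ω v = ofV ω v' := by
  rw [← ofV_key v, ← ofV_key v', h]

/-! ### the standard basis -/

/-- the standard basis as a list -/
def basL : List ℕ := [1, 2, 4, 8, 16, 32, 64, 128, 256]

theorem bas_mem (z : F9) : 2 ^ idx z ∈ basL := by
  revert z
  decide

omit hd in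
theorem ofV_bas (z : F9) : ofV ω (2 ^ idx z) = Pi.single z 1 := by
  funext w
  show bitF F ((2 ^ idx z).testBit (idx w)) + bitF F ((2 ^ idx z).testBit (9 + idx w)) * ω = _
  rw [Nat.testBit_two_pow, Nat.testBit_two_pow]
  have hz := idx_lt z
  have h2 : decide (idx z = 9 + idx w) = false := by simp; omega
  rw [h2]
  by_cases hzw : z = w
  · subst hzw
    simp [bitF]
  · have h1 : decide (idx z = idx w) = false := by
      simp only [decide_eq_false_iff_not]
      exact fun h => hzw (idx_inj z w h)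
    rw [h1, Pi.single_apply, if_neg (Ne.symm hzw)]
    simp [bitF]

omit hd in
theorem mat_eq_of_basis {A B : Matrix F9 F9 F}
    (h : ∀ z : F9, Matrix.mulVec A (ofV ω (2 ^ idx z)) = Matrix.mulVec B (ofV ω (2 ^ idx z))) :
    A = B := by
  ext i j
  have := congrFun (h j) i
  rw [ofV_bas, Matrix.mulVec_single_one, Matrix.mulVec_single_one] at this
  exact this

omit hd in
theorem gl_smul (g : GL F9 F) (v : F9 → F) :
    g • v = Matrix.mulVec (g : Matrix F9 F9 F) v := rfl

omit hd in
theorem gl_eq_of_basis {g h : GL F9 F}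
    (hb : ∀ z : F9, g • ofV ω (2 ^ idx z) = h • ofV ω (2 ^ idx z)) : g = h := by
  apply Units.ext
  apply mat_eq_of_basis (ω := ω)
  intro z
  have := hb z
  rwa [gl_smul, gl_smul] at this

end sem

end Cfsg.Agent.Lib.Helper28.F4
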