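import Cfsg.Agent.Lib.Helper28.FusionM22

set_option autoImplicit false

/-!
Subgroups given as stabilizers of two objects in succession, with orbits listed: their order and
their normalizer.
-/

namespace Cfsg.Agent.Lib.Helper28

open Cfsg MulAction
open scoped Pointwise

theorem orbit_eq_of_list {Y : Type*} [MulAction (Equiv.Perm GolayPt) Y]
    (H : Subgroup (Equiv.Perm GolayPt)) (y : Y) (ys : List Y) (hnd : ys.Nodup)
    (horb : ∀ z ∈ ys, ∃ g ∈ H, g • y = z) (hcard : (orbit H y).ncard = ys.length) :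
    ∀ z, z ∈ orbit H y → z ∈ ys := by
  classical
  have hset : ((ys.toFinset : Finset Y) : Set Y) = orbit H y := by
    apply Set.eq_of_subset_of_ncard_le
    · intro z hz
      rw [Finset.mem_coe, List.mem_toFinset] at hz
      obtain ⟨g, hg, rfl⟩ := horb z hz
      exact ⟨⟨g, hg⟩, rfl⟩
    · rw [hcard, Set.ncard_coe_finset, List.toFinset_card_of_nodup hnd]
    · exact Set.finite_range _
  intro z hz
  rw [← hset, Finset.mem_coe, List.mem_toFinset] at hz
  exact hz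

/-- the order and the normalizer of the stabilizer of two objects in succession -/
theorem flag_sylow {Y₁ Y₂ : Type*} [MulAction (Equiv.Perm GolayPt) Y₁]
    [MulAction (Equiv.Perm GolayPt) Y₂] (H : Subgroup (Equiv.Perm GolayPt)) (y₁ : Y₁) (y₂ : Y₂)
    (ys1 : List Y₁) (ys2 : List Y₂) (p : ℕ) (hnd1 : ys1.Nodup) (hnd2 : ys2.Nodup)
    (horb1 : ∀ y ∈ ys1, ∃ g ∈ H, g • y₁ = y)
    (horb2 : ∀ y ∈ ys2, ∃ g ∈ H ⊓ stabilizer (Equiv.Perm GolayPt) y₁, g • y₂ = y)
    (hcard : Nat.card H = p * ys2.length * ys1.length)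
    (hP : p ≤ Nat.card ↥(H ⊓ stabilizer (Equiv.Perm GolayPt) y₁ ⊓
      stabilizer (Equiv.Perm GolayPt) y₂))
    (hu1 : ∀ y ∈ ys1, (∀ t ∈ H ⊓ stabilizer (Equiv.Perm GolayPt) y₁ ⊓
      stabilizer (Equiv.Perm GolayPt) y₂, t • y = y) → y = y₁)
    (hu2 : ∀ y ∈ ys2, (∀ t ∈ H ⊓ stabilizer (Equiv.Perm GolayPt) y₁ ⊓
      stabilizer (Equiv.Perm GolayPt) y₂, t • y = y) → y = y₂) :
    Nat.card ↥(H ⊓ stabilizer (Equiv.Perm GolayPt) y₁ ⊓ stabilizer (Equiv.Perm GolayPt) y₂) = p ∧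
    ∀ n ∈ H, (∀ t ∈ H ⊓ stabilizer (Equiv.Perm GolayPt) y₁ ⊓ stabilizer (Equiv.Perm GolayPt) y₂,
      n⁻¹ * t * n ∈ H ⊓ stabilizer (Equiv.Perm GolayPt) y₁ ⊓ stabilizer (Equiv.Perm GolayPt) y₂) →
      n ∈ H ⊓ stabilizer (Equiv.Perm GolayPt) y₁ ⊓ stabilizer (Equiv.Perm GolayPt) y₂ := by
  set K := H ⊓ stabilizer (Equiv.Perm GolayPt) y₁ with hK
  set P := K ⊓ stabilizer (Equiv.Perm GolayPt) y₂ with hPdef
  have h1 := card_mul_le_of_orbit H K y₁ inf_le_left
    (fun c hc => mem_stabilizer_iff.mp (Subgroup.mem_inf.mp hc).2) ys1 hnd1 horb1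
  have h2 := card_mul_le_of_orbit K P y₂ inf_le_left
    (fun c hc => mem_stabilizer_iff.mp (Subgroup.mem_inf.mp hc).2) ys2 hnd2 horb2
  have hHpos : 0 < Nat.card H := Nat.card_pos
  have hn1 : 0 < ys1.length := by
    rcases Nat.eq_zero_or_pos ys1.length with h | h
    · rw [h, mul_zero] at hcard; omega
    · exact h
  have hn2 : 0 < ys2.length := by
    rcases Nat.eq_zero_or_pos ys2.length with h | h
    · rw [h, mul_zero, zero_mul] at hcard; omega
    · exact h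
  have h3 : Nat.card P * ys2.length * ys1.length ≤ p * ys2.length * ys1.length := by
    calc Nat.card P * ys2.length * ys1.length ≤ Nat.card K * ys1.length :=
          Nat.mul_le_mul_right _ h2
      _ ≤ Nat.card H := h1
      _ = p * ys2.length * ys1.length := hcard
  have hPle : Nat.card P ≤ p :=
    Nat.le_of_mul_le_mul_right (Nat.le_of_mul_le_mul_right h3 hn1) hn2
  have hPeq : Nat.card P = p := le_antisymm hPle hP
  have hKeq : Nat.card K = p * ys2.length := by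
    apply le_antisymm
    · apply Nat.le_of_mul_le_mul_right _ hn1
      rw [← hcard]
      exact h1
    · rw [← hPeq]
      exact h2
  have ho1 : (orbit H y₁).ncard = ys1.length := by
    have h := card_eq_orbit_mul_card_inf_stabilizer' H y₁
    rw [← hK, hKeq, hcard] at h
    have h' : ys1.length * (p * ys2.length) = (orbit H y₁).ncard * (p * ys2.length) := by
      rw [← h]; ring
    exact (Nat.eq_of_mul_eq_mul_right (by rw [← hKeq]; exact Nat.card_pos) h').symm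
  have ho2 : (orbit K y₂).ncard = ys2.length := by
    have h := card_eq_orbit_mul_card_inf_stabilizer' K y₂
    rw [← hPdef, hPeq, hKeq] at h
    have h' : ys2.length * p = (orbit K y₂).ncard * p := by
      rw [← h]; ring
    exact (Nat.eq_of_mul_eq_mul_right (by rw [← hPeq]; exact Nat.card_pos) h').symm
  refine ⟨hPeq, ?_⟩
  intro n hn hinv
  have hPK : ∀ t ∈ P, t ∈ K := fun t ht => (Subgroup.mem_inf.mp ht).1
  have hfix1 : ∀ t ∈ P, t • y₁ = y₁ := fun t ht =>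
    mem_stabilizer_iff.mp (Subgroup.mem_inf.mp (hPK t ht)).2
  have hfix2 : ∀ t ∈ P, t • y₂ = y₂ := fun t ht =>
    mem_stabilizer_iff.mp (Subgroup.mem_inf.mp ht).2
  have hm1 : n • y₁ ∈ ys1 :=
    orbit_eq_of_list H y₁ ys1 hnd1 horb1 ho1 _ ⟨⟨n, hn⟩, rfl⟩
  have hy1 : n • y₁ = y₁ := hu1 _ hm1 fun t ht =>
    smul_conj_fixed n t _ (hfix1 _ (hinv t ht))
  have hnK : n ∈ K := Subgroup.mem_inf.mpr ⟨hn, mem_stabilizer_iff.mpr hy1⟩
  have hm2 : n • y₂ ∈ ys2 :=
    orbit_eq_of_list K y₂ ys2 hnd2 horb2 ho2 _ ⟨⟨n, hnK⟩, rfl⟩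
  have hy2 : n • y₂ = y₂ := hu2 _ hm2 fun t ht =>
    smul_conj_fixed n t _ (hfix2 _ (hinv t ht))
  exact Subgroup.mem_inf.mpr ⟨hnK, mem_stabilizer_iff.mpr hy2⟩

end Cfsg.Agent.Lib.Helper28
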