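import Cfsg.Agent.Lib.Helper28.FusionM12
import Cfsg.Agent.Lib.Helper28.DataFusM11

set_option autoImplicit false

/-!
The 2-fusion system of `M11` is simple.  A Sylow 2-subgroup of the stabilizer of the base dodecad
and the point `0` is the stabilizer of a further point and of a pair of points.
-/

namespace Cfsg.Agent.Lib.Helper28

open Cfsg MulAction
open scoped Pointwise

/-- listed permutations stabilizing the base dodecad and the point `0` -/
theorem permOfList_mem_m11B {g : List ℕ} (h1 : ListM24 g)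
    (h2 : ∀ a : Fin 24, look (packL g) a.val = g.getD a.val 0)
    (h3 : setEqB (stepSet (packL g) m9_base) m9_base = true) (h0 : g.getD 0 0 = 0) :
    permOfList g ∈ m11B := by
  have h := mem_qtH.mp (permOfList_mem_qtH h1 h2 h3)
  exact mem_m11B.mpr ⟨h.1, h.2, permOfList_apply_ptN h1.1 (by norm_num) h0⟩

/-- the stabilizer of the point -/
def f11K : Subgroup (Equiv.Perm GolayPt) := m11B ⊓ stabilizer (Equiv.Perm GolayPt) (ptSet f11_Q)

/-- the Sylow subgroup -/
def f11P : Subgroup (Equiv.Perm GolayPt) :=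
  m11B ⊓ stabilizer (Equiv.Perm GolayPt) (ptSet f11_Q) ⊓
    stabilizer (Equiv.Perm GolayPt) (ptSet f11_F)

theorem mem_f11P {g : Equiv.Perm GolayPt} : g ∈ f11P ↔
    g ∈ m11B ∧ g • ptSet f11_Q = ptSet f11_Q ∧ g • ptSet f11_F = ptSet f11_F := by
  unfold f11P
  rw [Subgroup.mem_inf, Subgroup.mem_inf, mem_stabilizer_iff, mem_stabilizer_iff, and_assoc]

theorem f11P_le : f11P ≤ m11B := fun _ hg => (mem_f11P.mp hg).1

theorem f11_nodes1_sound : ∀ x ∈ f11_nodes1, GoodSet x ∧ ∃ g ∈ m11B, g • ptSet f11_Q = ptSet x :=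
  f11_omodel1.nodes_sound m11B ci_mtabs ci_mgens f11_Q f11_base_check.1 f11_ocert1

theorem f11_kgens : ∀ t ∈ f11_ktabs, ∃ g ∈ f11K, ActsBy g t := by
  intro t ht
  obtain ⟨htab, hd, h0, hQ⟩ := f11_ktabs_check t ht
  obtain ⟨g, hg, hact⟩ := htab.exists
  refine ⟨g, Subgroup.mem_inf.mpr ⟨mem_m11B.mpr ⟨hg, ?_, ?_⟩, ?_⟩, hact⟩
  · rw [(smul_ptSet hact m9_base_check.1).1]
    exact ptSet_eq_of_setEqB hd
  · rw [(hact 0 (by norm_num)).2, h0]
  · rw [mem_stabilizer_iff, (smul_ptSet hact f11_base_check.1).1]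
    exact ptSet_eq_of_setEqB hQ

theorem f11_nodes2_sound : ∀ x ∈ f11_nodes2, GoodSet x ∧ ∃ g ∈ f11K, g • ptSet f11_F = ptSet x :=
  f11_omodel2.nodes_sound f11K f11_ktabs f11_kgens f11_F f11_base_check.2 f11_ocert2

theorem f11_pgs_mem : ∀ x ∈ f11_pgs, GoodPerm x ∧ permOfList x ∈ f11P := by
  intro x hx
  obtain ⟨hM, hlook, hd, h0, hQ, hF⟩ := f11_pgs_check.2 x hx
  have hact := actsBy_permOfList hM.1 hlook
  refine ⟨hM.1, mem_f11P.mpr ⟨permOfList_mem_m11B hM hlook hd h0, ?_, ?_⟩⟩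
  · rw [(smul_ptSet hact f11_base_check.1).1]
    exact ptSet_eq_of_setEqB hQ
  · rw [(smul_ptSet hact f11_base_check.2).1]
    exact ptSet_eq_of_setEqB hF

theorem f11_pgens (K : Subgroup (Equiv.Perm GolayPt)) (hK : ∀ x ∈ f11_pgs, permOfList x ∈ K) :
    ∀ t ∈ f11_ptabs, ∃ g ∈ K, ActsBy g t :=
  gens_of_lists f11_pgs f11_ptabs f11_pgs_check.1 (fun x hx => (f11_pgs_mem x hx).1)
    (fun x hx => (f11_pgs_check.2 x hx).2.1) K hK

theorem f11_flag : Nat.card f11P = 16 ∧
    ∀ n ∈ m11B, (∀ t ∈ f11P, n⁻¹ * t * n ∈ f11P) → n ∈ f11P := by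
  have hnd1 : (f11_nodes1.map ptSet).Nodup :=
    f11_omodel1.sem_nodup _ (fun x hx => (f11_nodes1_sound x hx).1) f11_ocheck1.1
  have hnd2 : (f11_nodes2.map ptSet).Nodup :=
    f11_omodel2.sem_nodup _ (fun x hx => (f11_nodes2_sound x hx).1) f11_ocheck2.1
  apply flag_sylow m11B (ptSet f11_Q) (ptSet f11_F) (f11_nodes1.map ptSet) (f11_nodes2.map ptSet)
    16 hnd1 hnd2
  · intro y hy
    obtain ⟨x, hx, rfl⟩ := List.mem_map.mp hy
    exact (f11_nodes1_sound x hx).2
  · intro y hy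
    obtain ⟨x, hx, rfl⟩ := List.mem_map.mp hy
    exact (f11_nodes2_sound x hx).2
  · rw [List.length_map, List.length_map, f11_ocheck1.2, f11_ocheck2.2, m11B_card]
  · have h := le_card_of_nodes 4093 f11P f11_ptabs
      (f11_pgens f11P fun x hx => (f11_pgs_mem x hx).2) f11_pcert f11_pcheck.1
    rw [f11_pcheck.2] at h
    exact h
  · intro y hy hfix
    obtain ⟨x, hx, rfl⟩ := List.mem_map.mp hy
    have hgx := (f11_nodes1_sound x hx).1
    have hall : ∀ t ∈ f11_ptabs, setEqB (stepSet t x) x = true := by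
      intro t ht
      obtain ⟨g, hg, hact⟩ := f11_pgens f11P (fun x hx => (f11_pgs_mem x hx).2) t ht
      obtain ⟨h1, h2⟩ := smul_ptSet hact hgx
      have h3 := hfix g hg
      rw [h1] at h3
      exact (setEqB_iff h2 hgx).mpr h3
    exact (setEqB_iff hgx f11_base_check.1).mp (f11_unique_check.1 x hx hall)
  · intro y hy hfix
    obtain ⟨x, hx, rfl⟩ := List.mem_map.mp hy
    have hgx := (f11_nodes2_sound x hx).1
    have hall : ∀ t ∈ f11_ptabs, setEqB (stepSet t x) x = true := by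
      intro t ht
      obtain ⟨g, hg, hact⟩ := f11_pgens f11P (fun x hx => (f11_pgs_mem x hx).2) t ht
      obtain ⟨h1, h2⟩ := smul_ptSet hact hgx
      have h3 := hfix g hg
      rw [h1] at h3
      exact (setEqB_iff h2 hgx).mpr h3
    exact (setEqB_iff hgx f11_base_check.2).mp (f11_unique_check.2 x hx hall)

theorem f11_enum : ∀ g ∈ f11P, ∃ l ∈ f11_nodes, GoodPerm l ∧ g = permOfList l :=
  elems_of_cert 4093 f11P f11_ptabs (f11_pgens f11P fun x hx => (f11_pgs_mem x hx).2) f11_pcert 16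
    f11_flag.1 f11_pcheck.1 f11_pcheck.2

theorem f11_nodes_mem : ∀ l ∈ f11_nodes, GoodPerm l ∧ permOfList l ∈ f11P := by
  intro l hl
  obtain ⟨hgood, g, hg, hgx⟩ := f11_model.nodes_sound f11P f11_ptabs
    (f11_pgens f11P fun x hx => (f11_pgs_mem x hx).2) idList goodPerm_idList f11_pcert l hl
  refine ⟨hgood, ?_⟩
  have h1 : g * permOfList idList = permOfList l := hgx
  rw [permOfList_idList, mul_one] at h1
  rw [← h1]
  exact hg

theorem f11_z_good : GoodPerm f11_z := (f11_nodes_mem f11_z f11_conj_check.1).1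

theorem f11_center {s : Equiv.Perm GolayPt} (hs : s ∈ f11P) (hc : ∀ t ∈ f11P, s * t = t * s) :
    s = 1 ∨ s = permOfList f11_z := by
  obtain ⟨l, hl, hgood, rfl⟩ := f11_enum s hs
  rcases f11_nodes_check l hl with h | h | ⟨x, hx, hne⟩
  · left
    rw [h, permOfList_idList]
  · right
    rw [h]
  · exfalso
    apply hne
    obtain ⟨hgx, hxm⟩ := f11_pgs_mem x hx
    have h1 := hc (permOfList x) hxm
    rw [permOfList_compL hgood hgx, permOfList_compL hgx hgood] at h1
    exact permOfList_injective (goodPerm_compL hgood hgx) (goodPerm_compL hgx hgood) h1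

theorem f11_gen (T : Subgroup (Equiv.Perm GolayPt)) (hx : ∀ x ∈ f11_pgs, permOfList x ∈ T) :
    f11P ≤ T := by
  have hs := f11_model.nodes_sound T f11_ptabs (f11_pgens T hx) idList goodPerm_idList f11_pcert
  intro g hg
  obtain ⟨l, hl, _, rfl⟩ := f11_enum g hg
  obtain ⟨_, g', hg', hgx⟩ := hs l hl
  have h1 : g' * permOfList idList = permOfList l := hgx
  rw [permOfList_idList, mul_one] at h1
  rw [← h1]
  exact hg'

theorem f11_fusion (T : Subgroup (Equiv.Perm GolayPt)) (_hTS : T ≤ f11P)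
    (hT : ∀ x ∈ T, ∀ g ∈ m11B, g * x * g⁻¹ ∈ f11P → g * x * g⁻¹ ∈ T)
    (hz : permOfList f11_z ∈ T) : f11P ≤ T := by
  obtain ⟨_, hc2, hgxM, hgxd, hgx0, hgxl, hgxc, hw⟩ := f11_conj_check
  have h2 : ∀ x ∈ f11_pgs.take 2, permOfList x ∈ T := by
    intro x hx
    have hx' : x ∈ f11_pgs := List.mem_of_mem_take hx
    obtain ⟨g, hp⟩ := exists_mem_zip (f11_pgs.take 2) f11_gs (by decide) hx
    obtain ⟨hM, hd, h0, hl, hc⟩ := hc2 _ hp
    exact fusion_step hT f11_z_good hM.1 (f11_pgs_mem x hx').1 hz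
      (permOfList_mem_m11B hM hl hd h0) hc (f11_pgs_mem x hx').2
  have hmem : ∀ i, i < 3 → f11_pgs.getD i [] ∈ f11_pgs := by
    intro i hi
    have hlen : f11_pgs.length = 3 := by decide
    rw [List.getD_eq_getElem _ _ (by omega)]
    exact List.getElem_mem _
  have hmem2 : ∀ i, i < 2 → f11_pgs.getD i [] ∈ f11_pgs.take 2 := by
    intro i hi
    interval_cases i <;> decide
  have hwT : permOfList f11_w ∈ T := by
    rw [hw, ← permOfList_compL (f11_pgs_mem _ (hmem 0 (by norm_num))).1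
      (f11_pgs_mem _ (hmem 1 (by norm_num))).1]
    exact T.mul_mem (h2 _ (hmem2 0 (by norm_num))) (h2 _ (hmem2 1 (by norm_num)))
  have hwg : GoodPerm f11_w := by
    rw [hw]
    exact goodPerm_compL (f11_pgs_mem _ (hmem 0 (by norm_num))).1
      (f11_pgs_mem _ (hmem 1 (by norm_num))).1
  have h3 : permOfList (f11_pgs.getD 2 []) ∈ T :=
    fusion_step hT hwg hgxM.1 (f11_pgs_mem _ (hmem 2 (by norm_num))).1 hwT
      (permOfList_mem_m11B hgxM hgxl hgxd hgx0) hgxc (f11_pgs_mem _ (hmem 2 (by norm_num))).2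
  apply f11_gen T
  intro x hx
  have hsplit : x ∈ f11_pgs.take 2 ∨ x = f11_pgs.getD 2 [] := by
    have : f11_pgs = f11_pgs.take 2 ++ [f11_pgs.getD 2 []] := by decide
    rw [this] at hx
    rcases List.mem_append.mp hx with h | h
    · exact Or.inl h
    · exact Or.inr (List.mem_singleton.mp h)
  rcases hsplit with h | h
  · exact h2 x h
  · rw [h]
    exact h3

theorem f11P_finite : Finite ↥f11P := inferInstance

/-- the data for the stabilizer of the base dodecad and the point `0` -/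
theorem f11_ambData : AmbData 2 m11B f11P := by
  have : Fact (Nat.Prime 2) := ⟨Nat.prime_two⟩
  have hp : IsPGroup 2 f11P := IsPGroup.of_card (n := 4) (by rw [f11_flag.1]; norm_num)
  refine ⟨f11P_le, hp, ?_, ?_, f11_flag.2, ?_⟩
  · intro h
    have h1 := f11_flag.1
    rw [h, Subgroup.card_bot] at h1
    omega
  · rw [relIndex_eq_of_card (m := 495) f11P_le f11_flag.1 (by rw [m11B_card]) (by norm_num)]
    norm_num
  · exact closed_of_center f11P_le hp (permOfList f11_z) (fun s hs hc => f11_center hs hc)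
      f11_fusion

theorem m11B_map : m11B.map (MulAut.conj f12c).toMonoidHom = Spor.M11 := by
  unfold m11B
  rw [map_conj_inf_stabilizer (ptN 0) (ptN 0) f12c_0, qtH_map, ptN_0]
  rfl

theorem f11_ambData_M11 : AmbData 2 Spor.M11 (f11P.map (MulAut.conj f12c).toMonoidHom) := by
  have h := f11_ambData.map (MulAut.conj f12c)
  rw [m11B_map] at h
  exact h

end Cfsg.Agent.Lib.Helper28
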