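import Cfsg.Agent.Lib.Helper28.FlagSylow
import Cfsg.Agent.Lib.Helper28.DataFusM12
import Cfsg.Agent.Lib.Helper28.OutM12

set_option autoImplicit false

/-!
The 2-fusion system of `M12` is simple.  A Sylow 2-subgroup of the stabilizer of the base dodecad
is the stabilizer of four points of the dodecad and of a partition of them into two pairs.
-/

namespace Cfsg.Agent.Lib.Helper28

open Cfsg MulAction
open scoped Pointwise

/-! ### general tools -/

/-- conjugation of a stabilizer -/
theorem map_conj_inf_stabilizer' {Y : Type*} [MulAction (Equiv.Perm GolayPt) Y]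
    {K : Subgroup (Equiv.Perm GolayPt)} {h : Equiv.Perm GolayPt} (y y' : Y) (hy : h • y = y') :
    (K ⊓ stabilizer (Equiv.Perm GolayPt) y).map (MulAut.conj h).toMonoidHom =
      K.map (MulAut.conj h).toMonoidHom ⊓ stabilizer (Equiv.Perm GolayPt) y' := by
  ext x
  rw [Subgroup.mem_map_equiv, Subgroup.mem_inf, Subgroup.mem_inf, Subgroup.mem_map_equiv,
    mem_stabilizer_iff, mem_stabilizer_iff]
  apply and_congr Iff.rfl
  rw [MulAut.conj_symm_apply, ← hy]
  constructor
  · intro hx
    have h1 : h • (h⁻¹ * x * h) • y = h • y := congrArg (fun u => h • u) hx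
    rw [← mul_smul] at h1
    have e : h * (h⁻¹ * x * h) = x * h := by group
    rw [e, mul_smul] at h1
    exact h1
  · intro hx
    rw [mul_smul, mul_smul, hx, ← mul_smul, inv_mul_cancel, one_smul]

/-- a lower bound for the order from listed elements -/
theorem le_card_of_nodes (M : ℕ) (H : Subgroup (Equiv.Perm GolayPt)) (tabs : List ℕ)
    (hgens : ∀ t ∈ tabs, ∃ g ∈ H, ActsBy g t) (cert : List (List ℕ))
    (hcheck : distinctAux (((elemModel M).nodes tabs idList cert).map (elemModel M).code) 0 = true) :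
    ((elemModel M).nodes tabs idList cert).length ≤ Nat.card H := by
  classical
  have hs := (elemModel M).nodes_sound H tabs hgens idList goodPerm_idList cert
  have hgood : ∀ x ∈ (elemModel M).nodes tabs idList cert, GoodPerm x := fun x hx => (hs x hx).1
  have hnd : (((elemModel M).nodes tabs idList cert).map permOfList).Nodup :=
    (elemModel M).sem_nodup _ hgood hcheck
  have hsub : ((((elemModel M).nodes tabs idList cert).map permOfList).toFinset :
      Set (Equiv.Perm GolayPt)) ⊆ (H : Set _) := by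
    intro y hy
    rw [Finset.mem_coe, List.mem_toFinset, List.mem_map] at hy
    obtain ⟨x, hx, rfl⟩ := hy
    obtain ⟨_, g, hg, hgx⟩ := hs x hx
    have h1 : g * permOfList idList = permOfList x := hgx
    rw [permOfList_idList, mul_one] at h1
    rw [← h1]
    exact hg
  have h1 := Set.ncard_le_ncard hsub (Set.toFinite _)
  rw [Set.ncard_coe_finset, List.toFinset_card_of_nodup hnd, List.length_map] at h1
  exact le_trans h1 (le_of_eq (Nat.card_coe_set_eq _).symm)

/-- listed permutations stabilizing the base dodecad -/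
theorem permOfList_mem_qtH {g : List ℕ} (h1 : ListM24 g)
    (h2 : ∀ a : Fin 24, look (packL g) a.val = g.getD a.val 0)
    (h3 : setEqB (stepSet (packL g) m9_base) m9_base = true) : permOfList g ∈ qtH := by
  have hact := actsBy_permOfList h1.1 h2
  refine mem_qtH.mpr ⟨h1.mem, ?_⟩
  rw [(smul_ptSet hact m9_base_check.1).1]
  exact ptSet_eq_of_setEqB h3

/-! ### the subgroups -/

/-- the stabilizer of the four points -/
def f12K : Subgroup (Equiv.Perm GolayPt) := qtH ⊓ stabilizer (Equiv.Perm GolayPt) (ptSet f12_Q)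

/-- the Sylow subgroup -/
def f12P : Subgroup (Equiv.Perm GolayPt) :=
  qtH ⊓ stabilizer (Equiv.Perm GolayPt) (ptSet f12_Q) ⊓
    stabilizer (Equiv.Perm GolayPt) (famSet f12_F)

theorem f12_Q_good : GoodSet f12_Q := f12_base_check.1

theorem f12_F_good : GoodFam f12_F :=
  goodFam_of_disjoint f12_base_check.2.1 f12_base_check.2.2

theorem mem_f12P {g : Equiv.Perm GolayPt} : g ∈ f12P ↔
    g ∈ qtH ∧ g • ptSet f12_Q = ptSet f12_Q ∧ g • famSet f12_F = famSet f12_F := by
  unfold f12P
  rw [Subgroup.mem_inf, Subgroup.mem_inf, mem_stabilizer_iff, mem_stabilizer_iff, and_assoc]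

theorem f12P_le : f12P ≤ qtH := fun _ hg => (mem_f12P.mp hg).1

theorem f12_nodes1_sound : ∀ x ∈ f12_nodes1, GoodSet x ∧ ∃ g ∈ qtH, g • ptSet f12_Q = ptSet x :=
  f12_omodel1.nodes_sound qtH s5_dtabs qt_dgens f12_Q f12_Q_good f12_ocert1

theorem f12_kgens : ∀ t ∈ f12_ktabs, ∃ g ∈ f12K, ActsBy g t := by
  intro t ht
  obtain ⟨htab, hd, hQ⟩ := f12_ktabs_check t ht
  obtain ⟨g, hg, hact⟩ := htab.exists
  refine ⟨g, Subgroup.mem_inf.mpr ⟨mem_qtH.mpr ⟨hg, ?_⟩, ?_⟩, hact⟩
  · rw [(smul_ptSet hact m9_base_check.1).1]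
    exact ptSet_eq_of_setEqB hd
  · rw [mem_stabilizer_iff, (smul_ptSet hact f12_Q_good).1]
    exact ptSet_eq_of_setEqB hQ

theorem f12_nodes2_sound : ∀ x ∈ f12_nodes2, GoodFam x ∧ ∃ g ∈ f12K, g • famSet f12_F = famSet x :=
  f12_omodel2.nodes_sound f12K f12_ktabs f12_kgens f12_F f12_F_good f12_ocert2

theorem f12_pgs_mem : ∀ x ∈ f12_pgs, GoodPerm x ∧ permOfList x ∈ f12P := by
  intro x hx
  obtain ⟨hM, hlook, hd, hQ, hF⟩ := f12_pgs_check.2 x hx
  have hact := actsBy_permOfList hM.1 hlook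
  refine ⟨hM.1, mem_f12P.mpr ⟨permOfList_mem_qtH hM hlook hd, ?_, ?_⟩⟩
  · rw [(smul_ptSet hact f12_Q_good).1]
    exact ptSet_eq_of_setEqB hQ
  · exact smul_famSet_eq_of_famSubB hact f12_F_good hF

theorem f12_pgens (K : Subgroup (Equiv.Perm GolayPt)) (hK : ∀ x ∈ f12_pgs, permOfList x ∈ K) :
    ∀ t ∈ f12_ptabs, ∃ g ∈ K, ActsBy g t :=
  gens_of_lists f12_pgs f12_ptabs f12_pgs_check.1 (fun x hx => (f12_pgs_mem x hx).1)
    (fun x hx => (f12_pgs_check.2 x hx).2.1) K hK

theorem f12_flag : Nat.card f12P = 64 ∧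
    ∀ n ∈ qtH, (∀ t ∈ f12P, n⁻¹ * t * n ∈ f12P) → n ∈ f12P := by
  have hnd1 : (f12_nodes1.map ptSet).Nodup :=
    f12_omodel1.sem_nodup _ (fun x hx => (f12_nodes1_sound x hx).1) f12_ocheck1.1
  have hnd2 : (f12_nodes2.map famSet).Nodup :=
    f12_omodel2.sem_nodup _ (fun x hx => (f12_nodes2_sound x hx).1) f12_ocheck2.1
  apply flag_sylow qtH (ptSet f12_Q) (famSet f12_F) (f12_nodes1.map ptSet) (f12_nodes2.map famSet)
    64 hnd1 hnd2
  · intro y hy
    obtain ⟨x, hx, rfl⟩ := List.mem_map.mp hy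
    exact (f12_nodes1_sound x hx).2
  · intro y hy
    obtain ⟨x, hx, rfl⟩ := List.mem_map.mp hy
    exact (f12_nodes2_sound x hx).2
  · rw [List.length_map, List.length_map, f12_ocheck1.2, f12_ocheck2.2, qtH_card]
  · have h := le_card_of_nodes 65521 f12P f12_ptabs
      (f12_pgens f12P fun x hx => (f12_pgs_mem x hx).2) f12_pcert f12_pcheck.1
    rw [f12_pcheck.2] at h
    exact h
  · intro y hy hfix
    obtain ⟨x, hx, rfl⟩ := List.mem_map.mp hy
    have hgx := (f12_nodes1_sound x hx).1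
    have hall : ∀ t ∈ f12_ptabs, setEqB (stepSet t x) x = true := by
      intro t ht
      obtain ⟨g, hg, hact⟩ := f12_pgens f12P (fun x hx => (f12_pgs_mem x hx).2) t ht
      obtain ⟨h1, h2⟩ := smul_ptSet hact hgx
      have h3 := hfix g hg
      rw [h1] at h3
      exact (setEqB_iff h2 hgx).mpr h3
    exact (setEqB_iff hgx f12_Q_good).mp (f12_unique_check.1 x hx hall)
  · intro y hy hfix
    obtain ⟨x, hx, rfl⟩ := List.mem_map.mp hy
    have hgx := (f12_nodes2_sound x hx).1
    have hall : ∀ t ∈ f12_ptabs, famEqB (stepFam t x) x = true := by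
      intro t ht
      obtain ⟨g, hg, hact⟩ := f12_pgens f12P (fun x hx => (f12_pgs_mem x hx).2) t ht
      obtain ⟨h1, h2⟩ := smul_famSet hact hgx
      have h3 := hfix g hg
      rw [h1] at h3
      exact (famEqB_iff h2 hgx).mpr h3
    exact (famEqB_iff hgx f12_F_good).mp (f12_unique_check.2 x hx hall)

theorem f12_enum : ∀ g ∈ f12P, ∃ l ∈ f12_nodes, GoodPerm l ∧ g = permOfList l :=
  elems_of_cert 65521 f12P f12_ptabs (f12_pgens f12P fun x hx => (f12_pgs_mem x hx).2) f12_pcert 64
    f12_flag.1 f12_pcheck.1 f12_pcheck.2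

theorem f12_nodes_mem : ∀ l ∈ f12_nodes, GoodPerm l ∧ permOfList l ∈ f12P := by
  intro l hl
  obtain ⟨hgood, g, hg, hgx⟩ := f12_model.nodes_sound f12P f12_ptabs
    (f12_pgens f12P fun x hx => (f12_pgs_mem x hx).2) idList goodPerm_idList f12_pcert l hl
  refine ⟨hgood, ?_⟩
  have h1 : g * permOfList idList = permOfList l := hgx
  rw [permOfList_idList, mul_one] at h1
  rw [← h1]
  exact hg

theorem f12_z_good : GoodPerm f12_z := (f12_nodes_mem f12_z f12_conj_check.1).1

/-! ### the centre and the fusion -/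

theorem f12_center {s : Equiv.Perm GolayPt} (hs : s ∈ f12P) (hc : ∀ t ∈ f12P, s * t = t * s) :
    s = 1 ∨ s = permOfList f12_z := by
  obtain ⟨l, hl, hgood, rfl⟩ := f12_enum s hs
  rcases f12_nodes_check l hl with h | h | ⟨x, hx, hne⟩
  · left
    rw [h, permOfList_idList]
  · right
    rw [h]
  · exfalso
    apply hne
    obtain ⟨hgx, hxm⟩ := f12_pgs_mem x hx
    have h1 := hc (permOfList x) hxm
    rw [permOfList_compL hgood hgx, permOfList_compL hgx hgood] at h1
    exact permOfList_injective (goodPerm_compL hgood hgx) (goodPerm_compL hgx hgood) h1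

theorem f12_gen (T : Subgroup (Equiv.Perm GolayPt)) (hx : ∀ x ∈ f12_pgs, permOfList x ∈ T) :
    f12P ≤ T := by
  have hs := f12_model.nodes_sound T f12_ptabs (f12_pgens T hx) idList goodPerm_idList f12_pcert
  intro g hg
  obtain ⟨l, hl, _, rfl⟩ := f12_enum g hg
  obtain ⟨_, g', hg', hgx⟩ := hs l hl
  have h1 : g' * permOfList idList = permOfList l := hgx
  rw [permOfList_idList, mul_one] at h1
  rw [← h1]
  exact hg'

/-- one step of fusion -/
theorem fusion_step {H S₀ T : Subgroup (Equiv.Perm GolayPt)}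
    (hT : ∀ x ∈ T, ∀ g ∈ H, g * x * g⁻¹ ∈ S₀ → g * x * g⁻¹ ∈ T) {w g x : List ℕ}
    (hw : GoodPerm w) (hg : GoodPerm g) (hx : GoodPerm x) (hwT : permOfList w ∈ T)
    (hgH : permOfList g ∈ H) (hc : compL g w = compL x g) (hxS : permOfList x ∈ S₀) :
    permOfList x ∈ T := by
  have h1 := permOfList_mul_eq hg hw hx hg hc
  have h2 : permOfList g * permOfList w * (permOfList g)⁻¹ = permOfList x := by
    rw [h1]
    group
  rw [← h2]
  apply hT _ hwT _ hgH
  rw [h2]
  exact hxS

theorem f12_fusion (T : Subgroup (Equiv.Perm GolayPt)) (_hTS : T ≤ f12P)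
    (hT : ∀ x ∈ T, ∀ g ∈ qtH, g * x * g⁻¹ ∈ f12P → g * x * g⁻¹ ∈ T)
    (hz : permOfList f12_z ∈ T) : f12P ≤ T := by
  obtain ⟨_, hc3, hgxM, hgxd, hgxl, hgxc, hw⟩ := f12_conj_check
  -- the first three generators
  have h3 : ∀ x ∈ f12_pgs.take 3, permOfList x ∈ T := by
    intro x hx
    have hx' : x ∈ f12_pgs := List.mem_of_mem_take hx
    obtain ⟨g, hp⟩ := exists_mem_zip (f12_pgs.take 3) f12_gs (by decide) hx
    obtain ⟨hM, hd, hl, hc⟩ := hc3 _ hp
    exact fusion_step hT f12_z_good hM.1 (f12_pgs_mem x hx').1 hz (permOfList_mem_qtH hM hl hd) hc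
      (f12_pgs_mem x hx').2
  have hmem : ∀ i, i < 4 → f12_pgs.getD i [] ∈ f12_pgs := by
    intro i hi
    have hlen : f12_pgs.length = 4 := by decide
    rw [List.getD_eq_getElem _ _ (by omega)]
    exact List.getElem_mem _
  have hmem3 : ∀ i, i < 3 → f12_pgs.getD i [] ∈ f12_pgs.take 3 := by
    intro i hi
    interval_cases i <;> decide
  -- the product
  have hwT : permOfList f12_w ∈ T := by
    rw [hw, ← permOfList_compL (f12_pgs_mem _ (hmem 0 (by norm_num))).1
      (f12_pgs_mem _ (hmem 1 (by norm_num))).1]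
    exact T.mul_mem (h3 _ (hmem3 0 (by norm_num))) (h3 _ (hmem3 1 (by norm_num)))
  have hwg : GoodPerm f12_w := by
    rw [hw]
    exact goodPerm_compL (f12_pgs_mem _ (hmem 0 (by norm_num))).1
      (f12_pgs_mem _ (hmem 1 (by norm_num))).1
  -- the last generator
  have h4 : permOfList (f12_pgs.getD 3 []) ∈ T :=
    fusion_step hT hwg hgxM.1 (f12_pgs_mem _ (hmem 3 (by norm_num))).1 hwT
      (permOfList_mem_qtH hgxM hgxl hgxd) hgxc (f12_pgs_mem _ (hmem 3 (by norm_num))).2
  apply f12_gen T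
  intro x hx
  have hsplit : x ∈ f12_pgs.take 3 ∨ x = f12_pgs.getD 3 [] := by
    have : f12_pgs = f12_pgs.take 3 ++ [f12_pgs.getD 3 []] := by decide
    rw [this] at hx
    rcases List.mem_append.mp hx with h | h
    · exact Or.inl h
    · exact Or.inr (List.mem_singleton.mp h)
  rcases hsplit with h | h
  · exact h3 x h
  · rw [h]
    exact h4

theorem f12P_finite : Finite ↥f12P := inferInstance

/-- the data for the stabilizer of the base dodecad -/
theorem f12_ambData : AmbData 2 qtH f12P := by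
  have : Fact (Nat.Prime 2) := ⟨Nat.prime_two⟩
  have hp : IsPGroup 2 f12P := IsPGroup.of_card (n := 6) (by rw [f12_flag.1]; norm_num)
  refine ⟨f12P_le, hp, ?_, ?_, f12_flag.2, ?_⟩
  · intro h
    have h1 := f12_flag.1
    rw [h, Subgroup.card_bot] at h1
    omega
  · rw [relIndex_eq_of_card (m := 1485) f12P_le f12_flag.1 (by rw [qtH_card]) (by norm_num)]
    norm_num
  · exact closed_of_center f12P_le hp (permOfList f12_z) (fun s hs hc => f12_center hs hc)
      f12_fusion

/-! ### transport to the dodecad of squares -/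

/-- the element moving the base dodecad to the dodecad of squares -/
noncomputable def f12c : Equiv.Perm GolayPt := permOfList f12_h

theorem f12c_mem : f12c ∈ M24 := f12_h_check.1.mem

theorem f12c_smul : f12c • ptSet m9_base = Spor.squareDodecad := by
  obtain ⟨hM, _, hl, hs⟩ := f12_h_check
  have hact := actsBy_permOfList hM.1 hl
  unfold f12c
  rw [(smul_ptSet hact m9_base_check.1).1, ptSet_eq_of_setEqB hs, squareDodecad_eq,
    ptSet_eq_maskSet (by decide)]
  congr 1

theorem f12c_0 : f12c (ptN 0) = ptN 0 :=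
  permOfList_apply_ptN f12_h_check.1.1 (by norm_num) f12_h_check.2.1

theorem qtH_map : qtH.map (MulAut.conj f12c).toMonoidHom = Spor.M12 := by
  unfold qtH
  rw [map_conj_inf_stabilizer' (ptSet m9_base) Spor.squareDodecad f12c_smul,
    map_conj_self f12c_mem]
  rfl

theorem f12_ambData_M12 : AmbData 2 Spor.M12 (f12P.map (MulAut.conj f12c).toMonoidHom) := by
  have h := f12_ambData.map (MulAut.conj f12c)
  rw [qtH_map] at h
  exact h

end Cfsg.Agent.Lib.Helper28
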