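import Cfsg.Agent.Lib.Helper28.OutEleven

set_option autoImplicit false

/-!
`M22` is generated by `t ↦ 2t`, `cubeTwist` and an element of order 4; its automorphisms are inner
or inner composed with conjugation by `projInv`; the outer automorphism group has order 2.
-/

namespace Cfsg.Agent.Lib.Helper28

open Cfsg MulAction
open scoped Pointwise

/-! ### conjugation by a normalizing element -/

/-- conjugation by an element normalizing the subgroup `H` -/
def conjAut {P : Type*} [Group P] (H : Subgroup P) (n : P) (hn : ∀ g ∈ H, n * g * n⁻¹ ∈ H)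
    (hn' : ∀ g ∈ H, n⁻¹ * g * n ∈ H) : MulAut ↥H where
  toFun g := ⟨n * g.1 * n⁻¹, hn g.1 g.2⟩
  invFun g := ⟨n⁻¹ * g.1 * n, hn' g.1 g.2⟩
  left_inv g := Subtype.ext (by
    show n⁻¹ * (n * g.1 * n⁻¹) * n = g.1
    group)
  right_inv g := Subtype.ext (by
    show n * (n⁻¹ * g.1 * n) * n⁻¹ = g.1
    group)
  map_mul' g h := Subtype.ext (by
    show n * (g.1 * h.1) * n⁻¹ = n * g.1 * n⁻¹ * (n * h.1 * n⁻¹)
    group)

theorem conjAut_apply {P : Type*} [Group P] (H : Subgroup P) (n : P)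
    (hn : ∀ g ∈ H, n * g * n⁻¹ ∈ H) (hn' : ∀ g ∈ H, n⁻¹ * g * n ∈ H) (g : ↥H) :
    ((conjAut H n hn hn' g : ↥H) : P) = n * g.1 * n⁻¹ := rfl

/-- conjugation by `n ∉ H` is not inner on `H`, if the centralizer (in an ambient subgroup `K`
containing `n`) of some `a ∈ H` lies in `H` -/
theorem conjAut_not_inner {P : Type*} [Group P] (H K : Subgroup P) (hHK : H ≤ K) (n : P)
    (hnK : n ∈ K) (hn : ∀ g ∈ H, n * g * n⁻¹ ∈ H) (hn' : ∀ g ∈ H, n⁻¹ * g * n ∈ H) (a : P)
    (ha : a ∈ H) (hCa : ∀ g ∈ K, g * a = a * g → g ∈ H) (hnH : n ∉ H) :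
    conjAut H n hn hn' ∉ (MulAut.conj : ↥H →* MulAut ↥H).range := by
  rintro ⟨h, hh⟩
  have h1 : h.1 * a * h.1⁻¹ = n * a * n⁻¹ :=
    congrArg (fun f : MulAut ↥H => ((f ⟨a, ha⟩ : ↥H) : P)) hh
  have h2 : (h.1⁻¹ * n) * a = a * (h.1⁻¹ * n) := by
    calc h.1⁻¹ * n * a = h.1⁻¹ * (n * a * n⁻¹) * n := by group
      _ = h.1⁻¹ * (h.1 * a * h.1⁻¹) * n := by rw [h1]
      _ = a * (h.1⁻¹ * n) := by group
  have h3 := hCa _ (K.mul_mem (K.inv_mem (hHK h.2)) hnK) h2
  have h4 : n = h.1 * (h.1⁻¹ * n) := by group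
  rw [h4] at hnH
  exact hnH (H.mul_mem h.2 h3)

/-! ### the element of order 4 -/

def o22_xtab : Fin 24 → Fin 24 :=
  ![0, 4, 2, 15, 18, 12, 1, 13, 5, 21, 8, 11, 10, 7, 19, 3, 20, 14, 6, 22, 9, 16, 17, 23]

def o22_xinvtab : Fin 24 → Fin 24 :=
  ![0, 6, 2, 15, 1, 8, 18, 13, 10, 20, 12, 11, 5, 7, 17, 3, 21, 22, 4, 14, 16, 9, 19, 23]

/-- the six letters -/
def o22_tabs : Fin 6 → Fin 24 → Fin 24 :=
  ![o11_btab, o11_binvtab, cubeTwistTab, cubeTwistInvTab, o22_xtab, o22_xinvtab]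

set_option maxRecDepth 100000 in
theorem o22_tabs_inj : ∀ i, TabInj (o22_tabs i) := by decide +kernel

set_option maxRecDepth 100000 in
set_option maxHeartbeats 4000000 in
theorem o22_tabs_check : ∀ i, TabCheck (o22_tabs i) := by decide +kernel

set_option maxRecDepth 100000 in
theorem o22_tabs_fix : ∀ i : Fin 6, o22_tabs i 23 = 23 ∧ o22_tabs i 0 = 0 := by decide +kernel

/-- the element of order 4 normalizing `⟨cubeTwist⟩` -/
noncomputable def o22_x : Equiv.Perm GolayPt := tabPerm o22_xtab (o22_tabs_inj 4)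

theorem o22_x_acts : TActs o22_x o22_xtab := tabPerm_pt _ _

theorem o22_gen_mem (i : Fin 6) : tabPerm (o22_tabs i) (o22_tabs_inj i) ∈ G22 := by
  rw [mem_G22]
  refine ⟨tabPerm_mem_M24 _ _ (o22_tabs_check i), ?_, ?_⟩
  · rw [tabPerm_pt, (o22_tabs_fix i).1]
  · rw [tabPerm_pt, (o22_tabs_fix i).2]

def o22_tr : Fin 5 → Fin 24 → List (Fin 6) := ![
  ![[],
    [],
    [0],
    [1, 3],
    [4],
    [5, 1],
    [3],
    [2, 4, 1],
    [2, 1],
    [3, 1],
    [4, 1],
    [3, 0, 4, 3, 1],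
    [1],
    [0, 2],
    [1, 5, 1],
    [4, 1, 3],
    [0, 2, 1],
    [0, 5, 3, 1],
    [2],
    [0, 4, 3, 1],
    [5, 3, 1],
    [4, 3, 1],
    [1, 4, 3, 1],
    []],
  ![[],
    [],
    [],
    [1, 2, 4],
    [5, 3, 0],
    [5, 0, 2, 4],
    [2, 5],
    [3, 4, 0, 0],
    [2, 1, 1],
    [1, 4, 0],
    [5, 0, 0],
    [0, 2, 1, 4, 0, 0],
    [1, 5, 0],
    [0, 3, 0, 4],
    [1, 5, 1, 2, 2],
    [5, 0, 0, 4, 3],
    [0, 0, 3],
    [0, 0, 4, 3, 0, 0],
    [4, 3],
    [4, 1, 1, 5, 0, 0],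
    [5, 1, 2, 1],
    [4, 3, 1, 5, 0],
    [1, 5, 2, 0, 0],
    []],
  ![[],
    [],
    [],
    [],
    [4, 2, 0],
    [4, 2, 1, 4, 4, 1, 1],
    [1, 1, 4, 4, 1, 1],
    [5, 0, 5, 0],
    [1, 4, 4, 2, 0, 5, 0],
    [0, 4, 4, 2, 1],
    [3, 5, 1, 4, 1, 4, 1],
    [1, 4, 1, 4],
    [0, 5, 0, 4, 2, 0, 5],
    [0, 0, 4, 3, 4, 1, 4, 0],
    [5, 0, 4, 2, 0, 5, 0],
    [3, 1, 4, 4, 0, 3, 4],
    [5, 0, 5, 0, 4, 2, 0],
    [1, 4, 1, 3, 5, 1, 4],
    [5, 0, 4, 2, 4],
    [1, 3, 5],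
    [4, 2, 0, 4, 2, 0],
    [3, 4, 0, 4, 0, 5, 0, 0],
    [1, 4, 1, 4, 4, 2, 0],
    []],
  ![[],
    [],
    [],
    [],
    [],
    [],
    [],
    [],
    [],
    [],
    [],
    [],
    [],
    [],
    [0, 3, 4, 0, 4, 0, 3, 4, 0],
    [],
    [],
    [4, 1, 1, 1, 5, 0, 4, 1, 1],
    [],
    [],
    [],
    [],
    [],
    []],
  ![[],
    [],
    [],
    [],
    [],
    [],
    [0, 5, 1, 5, 1, 5, 1, 1, 1, 4, 0],
    [1, 4, 3, 1, 5, 0, 5, 1, 2, 5],
    [3, 3, 0, 5, 0, 4, 1, 1, 1, 4, 0],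
    [2, 1, 5, 0, 3, 4, 1, 4, 1, 2, 1],
    [0, 5, 1, 4, 4, 3, 0, 4, 1],
    [5, 1, 4, 2, 1, 4, 1, 5, 0, 0, 4],
    [2, 0, 5, 5, 1, 3],
    [0, 3, 5, 1, 5, 2, 0, 4, 3, 0, 0],
    [],
    [1, 1, 4, 0, 3, 4, 1, 5, 3, 1],
    [0, 3, 5, 1, 4, 1, 5, 0, 0],
    [],
    [2, 5, 1, 5, 5, 0, 4, 3],
    [0, 4, 1, 5, 2, 0, 5, 0, 0, 5],
    [1, 1, 2, 5, 1, 5, 1, 5, 3, 1],
    [4, 3, 1, 3, 5, 1, 5, 0, 5, 3, 0],
    [2, 1, 1, 4, 1, 4, 1, 4, 0, 3],
    []]]

set_option maxRecDepth 1000000 in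
set_option maxHeartbeats 4000000 in
theorem o22_tr_spec : ∀ (k : Fin 5) (p : Fin 24), (m22om k).testBit p.val = true →
    (∀ j : Fin 5, j < k → twordTab o22_tabs (o22_tr k p) (m22b j) = m22b j) ∧
      twordTab o22_tabs (o22_tr k p) (m22b k) = p := by
  decide +kernel

theorem G22_le_closure_o22 :
    G22 ≤ Subgroup.closure (Set.range fun i => tabPerm (o22_tabs i) (o22_tabs_inj i)) := by
  apply le_closure_of_chain G22 o22_tabs o22_tabs_inj o22_gen_mem m22b m22om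
    ![22, 21, 20, 3, 16] G22_upper o22_tr o22_tr_spec m22om_card
    (fun g hg hfix => G22_rigid hg hfix)
  rw [card_G22]; decide

theorem M22_eq_G22 : Spor.M22 = G22 := rfl

set_option maxRecDepth 100000 in
theorem o22_tab_inv : ∀ a, o22_xtab (o22_xinvtab a) = a := by decide +kernel

theorem o22_x_mem_M22 : o22_x ∈ Spor.M22 := by
  rw [M22_eq_G22]
  exact o22_gen_mem 4

theorem o11_b_mem_M22 : o11_b ∈ Spor.M22 := by
  rw [M22_eq_G22, mem_G22]
  exact ⟨o11_b_mem, o11_b_acts 23, o11_b_acts 0⟩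

theorem cubeTwist_mem_M22 : cubeTwist ∈ Spor.M22 := by
  rw [M22_eq_G22, mem_G22]
  exact ⟨cubeTwist_mem_M24, cubeTwist_acts 23, cubeTwist_acts 0⟩

theorem o22_letter (i : Fin 6) : tabPerm (o22_tabs i) (o22_tabs_inj i) ∈
    Subgroup.closure (insert o11_b (insert cubeTwist (Set.range ![o22_x]))) := by
  have h1 : o11_b ∈ Subgroup.closure (insert o11_b (insert cubeTwist (Set.range ![o22_x]))) :=
    Subgroup.subset_closure (Set.mem_insert _ _)
  have h2 : cubeTwist ∈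
      Subgroup.closure (insert o11_b (insert cubeTwist (Set.range ![o22_x]))) :=
    Subgroup.subset_closure (Set.mem_insert_of_mem _ (Set.mem_insert _ _))
  have h3 : o22_x ∈ Subgroup.closure (insert o11_b (insert cubeTwist (Set.range ![o22_x]))) :=
    Subgroup.subset_closure (Set.mem_insert_of_mem _ (Set.mem_insert_of_mem _ ⟨0, rfl⟩))
  have hT := tActs_tabPerm (o22_tabs i) (o22_tabs_inj i)
  fin_cases i
  · rw [TActs.ext hT o11_b_acts (fun _ => rfl)]
    exact h1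
  · rw [TActs.ext hT o11_binv_acts (fun _ => rfl)]
    exact Subgroup.inv_mem _ h1
  · rw [TActs.ext hT cubeTwist_acts (fun _ => rfl)]
    exact h2
  · rw [TActs.ext hT (cubeTwist_acts.inv cubeTwistInvTab o23_tab_inv.2.2) (fun _ => rfl)]
    exact Subgroup.inv_mem _ h2
  · rw [TActs.ext hT o22_x_acts (fun _ => rfl)]
    exact h3
  · rw [TActs.ext hT (o22_x_acts.inv o22_xinvtab o22_tab_inv) (fun _ => rfl)]
    exact Subgroup.inv_mem _ h3

theorem o22_gen :
    Subgroup.closure (insert o11_b (insert cubeTwist (Set.range ![o22_x]))) = Spor.M22 := by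
  apply le_antisymm
  · rw [Subgroup.closure_le]
    intro g hg
    simp only [Set.mem_insert_iff, Set.mem_range] at hg
    rcases hg with rfl | rfl | ⟨k, rfl⟩
    · exact o11_b_mem_M22
    · exact cubeTwist_mem_M22
    · fin_cases k
      exact o22_x_mem_M22
  · rw [M22_eq_G22]
    refine G22_le_closure_o22.trans ?_
    rw [Subgroup.closure_le]
    rintro _ ⟨i, rfl⟩
    exact o22_letter i

/-! ### relations -/

set_option maxRecDepth 100000 in
theorem o22_hxd : o22_x * cubeTwist * o22_x⁻¹ = cubeTwist ^ 2 := by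
  rw [mul_inv_eq_iff_eq_mul]
  exact TActs.ext (o22_x_acts.mul cubeTwist_acts) ((cubeTwist_acts.pow 2).mul o22_x_acts)
    (by decide +kernel)

set_option maxRecDepth 100000 in
theorem projInv_comm_cubeTwist : projInv * cubeTwist * projInv⁻¹ = cubeTwist := by
  rw [mul_inv_eq_iff_eq_mul]
  exact TActs.ext (projInv_acts.mul cubeTwist_acts) (cubeTwist_acts.mul projInv_acts)
    (by decide +kernel)

set_option maxRecDepth 100000 in
theorem projInv_comm_o22_x : projInv * o22_x * projInv⁻¹ = o22_x := by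
  rw [mul_inv_eq_iff_eq_mul]
  exact TActs.ext (projInv_acts.mul o22_x_acts) (o22_x_acts.mul projInv_acts)
    (by decide +kernel)

theorem projInv_inv_o11_b : projInv * o11_b * projInv⁻¹ = o11_b⁻¹ := by
  rw [o11_hcb]
  apply eq_inv_of_mul_eq_one_left
  rw [← pow_succ]
  exact o11_b_pow

theorem projInv_inv : projInv⁻¹ = projInv := by
  rw [inv_eq_iff_mul_eq_one]
  exact TActs.ext (projInv_acts.mul projInv_acts) TActs.one (by decide)

/-- the relation `(a x)⁶ = 1` -/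
def o22_rels : List (List (Fin 2)) := [[0, 1, 0, 1, 0, 1, 0, 1, 0, 1, 0, 1]]

def o22_etab : Fin 1 → Fin 24 → Fin 24 := ![o22_xtab]

def o22_cbtab : Fin 5 → Fin 24 → Fin 24 := fun j => cubeTwistInvTab^[j.val]

set_option maxRecDepth 100000 in
theorem o22_rel_hold : ∀ w ∈ o22_rels, ∀ p : Fin 24,
    w.foldr (fun k y => (Fin.cons o11_btab o22_etab : Fin (1 + 1) → Fin 24 → Fin 24) k y) p = p := by
  decide +kernel

set_option maxRecDepth 1000000 in
set_option maxHeartbeats 4000000 in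
theorem o22_rel_check : ∀ (ε : Bool) (i0 : Fin 5),
    (∀ w ∈ o22_rels, ∀ p : Fin 24,
      w.foldr (fun k y => (Fin.cons (if ε then o11_btab else o11_binvtab)
        (fun k x => o22_etab k (o22_cbtab ((![i0] : Fin 1 → Fin 5) k) x)) :
          Fin (1 + 1) → Fin 24 → Fin 24) k y) p = p) → i0 = 0 := by
  decide +kernel

/-! ### the centralizer of `cubeTwist` in `M22` -/

set_option maxRecDepth 100000 in
theorem o22_cos_fix : ∀ i : Fin 12, o5_cos i 23 = 23 → o5_cos i 0 = 0 → ∀ a, o5_cos i a = a := by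
  decide +kernel

theorem cent_cubeTwist_M22 {g : Equiv.Perm GolayPt} (hg : g ∈ Spor.M22)
    (hc : g * cubeTwist = cubeTwist * g) : ∃ j : Fin 5, g = cubeTwist⁻¹ ^ j.val := by
  have hg' := hg
  rw [M22_eq_G22, mem_G22] at hg'
  obtain ⟨j, i, hji⟩ := cent_cubeTwist hg'.1 hc
  refine ⟨j, ?_⟩
  have h23 : o5_cos i 23 = 23 := by
    apply Helper4.pt_bijective.1
    rw [← hji 23, Equiv.Perm.mul_apply, hg'.2.1]
    exact (cubeTwist_acts.pow j.val 23).trans (by
      have : ∀ j : Fin 5, cubeTwistTab^[j.val] 23 = 23 := by decide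
      rw [this j])
  have h0 : o5_cos i 0 = 0 := by
    apply Helper4.pt_bijective.1
    rw [← hji 0, Equiv.Perm.mul_apply, hg'.2.2]
    exact (cubeTwist_acts.pow j.val 0).trans (by
      have : ∀ j : Fin 5, cubeTwistTab^[j.val] 0 = 0 := by decide
      rw [this j])
  have h1 : cubeTwist ^ j.val * g = 1 := TActs.ext hji TActs.one (o22_cos_fix i h23 h0)
  rw [inv_pow]
  exact eq_inv_of_mul_eq_one_right h1

/-! ### the outer automorphism -/

theorem projInv_norm_M22 : ∀ g ∈ Spor.M22, projInv * g * projInv⁻¹ ∈ Spor.M22 := by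
  intro g hg
  rw [M22_eq_G22, mem_G22] at hg ⊢
  refine ⟨M24.mul_mem (M24.mul_mem projInv_mem_M24 hg.1) (M24.inv_mem projInv_mem_M24), ?_, ?_⟩
  · rw [projInv_inv, Equiv.Perm.mul_apply, Equiv.Perm.mul_apply, projInv_acts 23]
    have : projInvTab 23 = 0 := by decide
    rw [this, hg.2.2, projInv_acts 0]
    have : projInvTab 0 = 23 := by decide
    rw [this]
  · rw [projInv_inv, Equiv.Perm.mul_apply, Equiv.Perm.mul_apply, projInv_acts 0]
    have : projInvTab 0 = 23 := by decide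
    rw [this, hg.2.1, projInv_acts 23]
    have : projInvTab 23 = 0 := by decide
    rw [this]

theorem projInv_norm_M22' : ∀ g ∈ Spor.M22, projInv⁻¹ * g * projInv ∈ Spor.M22 := by
  intro g hg
  have := projInv_norm_M22 g hg
  rw [projInv_inv] at this ⊢
  exact this

/-- conjugation by `projInv` on `M22` -/
noncomputable def o22_tau : MulAut ↥Spor.M22 :=
  conjAut Spor.M22 projInv projInv_norm_M22 projInv_norm_M22'

theorem projInv_not_mem_M22 : projInv ∉ Spor.M22 := by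
  intro h
  rw [M22_eq_G22, mem_G22] at h
  have h1 := h.2.1
  rw [projInv_acts 23] at h1
  exact absurd (Helper4.pt_bijective.1 h1) (by decide)

theorem o22_tau_not_inner :
    o22_tau ∉ (MulAut.conj : ↥Spor.M22 →* MulAut ↥Spor.M22).range := by
  apply conjAut_not_inner Spor.M22 M24 (inf_le_left.trans inf_le_left) projInv projInv_mem_M24
    projInv_norm_M22 projInv_norm_M22' o11_b o11_b_mem_M22 _ projInv_not_mem_M22
  intro g hg hc
  exact Subgroup.zpowers_le.mpr o11_b_mem_M22 (cent_o11_b hg hc)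

/-- the automorphisms of `M22` up to inner automorphisms -/
theorem aut_M22 (φ : MulAut ↥Spor.M22) : ∃ σ ∈ ({1, o22_tau} : Set (MulAut ↥Spor.M22)),
    φ * σ⁻¹ ∈ (MulAut.conj : ↥Spor.M22 →* MulAut ↥Spor.M22).range := by
  refine out_coset_of_data11 Spor.M22 (inf_le_left.trans inf_le_left) o11_b_mem_M22
    cubeTwist_mem_M22 ![o22_x]
    (fun k => by
      fin_cases k
      exact o22_x_mem_M22)
    o22_etab
    (fun k => by
      fin_cases k
      exact o22_x_acts)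
    ![2]
    (fun k => by
      fin_cases k
      exact o22_hxd)
    (fun j : Fin 5 => cubeTwist⁻¹ ^ j.val)
    (fun j => Subgroup.pow_mem _ (Subgroup.inv_mem _ cubeTwist_mem_M22) _)
    o22_cbtab
    (fun j => (cubeTwist_acts.inv cubeTwistInvTab o23_tab_inv.2.2).pow j.val)
    (fun g hg hc => cent_cubeTwist_M22 hg hc)
    (factorization_eq_one_of_card (m := 40320) (by norm_num)
      (by rw [M22_eq_G22, card_G22]) (by norm_num))
    o22_gen o22_rels o22_rel_hold _ ?_ φ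
  intro ε i hw
  have hieq : i = ![i 0] := by
    funext k
    fin_cases k
    rfl
  rw [hieq] at hw
  have h0 := o22_rel_check ε (i 0) hw
  have hi0 : ∀ k, i k = 0 := by
    intro k
    fin_cases k
    exact h0
  cases ε
  · -- the outer automorphism
    refine ⟨o22_tau, Or.inr rfl, ?_, ?_, fun k => ?_⟩
    · apply Subtype.ext
      rw [if_neg (by decide), Subgroup.coe_inv]
      exact projInv_inv_o11_b
    · apply Subtype.ext
      exact projInv_comm_cubeTwist
    · apply Subtype.ext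
      fin_cases k
      rw [Subgroup.coe_mul]
      show projInv * o22_x * projInv⁻¹ = o22_x * cubeTwist⁻¹ ^ (i 0).val
      rw [h0, projInv_comm_o22_x]
      simp
  · refine ⟨1, Or.inl rfl, ?_, rfl, fun k => ?_⟩
    · rw [if_pos rfl]
      rfl
    · apply Subtype.ext
      rw [Subgroup.coe_mul]
      show ![o22_x] k = ![o22_x] k * cubeTwist⁻¹ ^ (i k).val
      rw [hi0 k]
      simp

/-- the outer automorphism group of `M22` has order 2 -/
theorem out_M22 :
    Nat.card (MulAut ↥Spor.M22 ⧸ (MulAut.conj : ↥Spor.M22 →* MulAut ↥Spor.M22).range) = 2 :=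
  card_out_eq_two o22_tau o22_tau_not_inner aut_M22

end Cfsg.Agent.Lib.Helper28
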