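import Cfsg.Agent.Lib.Helper28.FusionM24
import Cfsg.Agent.Lib.Helper28.DataFusM22
import Cfsg.Agent.Lib.Helper28.OutM22

set_option autoImplicit false

/-!
The 2-fusion systems of `M23` and `M22` are simple: the stabilizer of a point in the Sylow
2-subgroup of `M24` fixes a second point, is a Sylow 2-subgroup of the stabilizers of one and of
both points, is self-normalizing there, has centre of order 2 and is generated by conjugates of its
central involution.
-/

namespace Cfsg.Agent.Lib.Helper28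

open Cfsg MulAction
open scoped Pointwise

/-! ### general tools -/

theorem exists_mem_zip {α β : Type*} (xs : List α) (gs : List β) (hlen : xs.length = gs.length)
    {x : α} (hx : x ∈ xs) : ∃ g, (x, g) ∈ xs.zip gs := by
  obtain ⟨n, hn, hxn⟩ := List.getElem_of_mem hx
  have hn' : n < gs.length := hlen ▸ hn
  refine ⟨gs[n], ?_⟩
  rw [← hxn]
  have hlt : n < (xs.zip gs).length := by rw [List.length_zip]; omega
  have hmem := List.getElem_mem hlt
  rw [List.getElem_zip] at hmem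
  exact hmem

/-- packed tables of listed permutations lying in a subgroup -/
theorem gens_of_lists (xs : List (List ℕ)) (tabs : List ℕ) (htabs : tabs = xs.map packL)
    (hgood : ∀ x ∈ xs, GoodPerm x)
    (hlook : ∀ x ∈ xs, ∀ a : Fin 24, look (packL x) a.val = x.getD a.val 0)
    (K : Subgroup (Equiv.Perm GolayPt)) (hK : ∀ x ∈ xs, permOfList x ∈ K) :
    ∀ t ∈ tabs, ∃ g ∈ K, ActsBy g t := by
  intro t ht
  rw [htabs] at ht
  obtain ⟨x, hx, rfl⟩ := List.mem_map.mp ht
  exact ⟨permOfList x, hK x hx, actsBy_permOfList (hgood x hx) (hlook x hx)⟩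

theorem relIndex_eq_of_card {Ω : Type*} [Group Ω] {P K : Subgroup Ω} [Finite K] (hle : P ≤ K)
    {a m : ℕ} (hP : Nat.card P = a) (hK : Nat.card K = a * m) (ha : 0 < a) : P.relIndex K = m := by
  have h1 := Subgroup.card_mul_index (P.subgroupOf K)
  rw [Nat.card_congr (Subgroup.subgroupOfEquivOfLe hle).toEquiv, hP, hK] at h1
  exact Nat.eq_of_mul_eq_mul_left ha h1

theorem permOfList_apply_ptN {l : List ℕ} (hl : GoodPerm l) {a b : ℕ} (ha : a < 24)
    (h : l.getD a 0 = b) : permOfList l (ptN a) = ptN b := by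
  rw [permOfList_ptN hl ha, h]

/-- conjugation of a point stabilizer inside `M24` -/
theorem map_conj_inf_stabilizer {K : Subgroup (Equiv.Perm GolayPt)} {h : Equiv.Perm GolayPt}
    (p q : GolayPt) (hpq : h p = q) :
    (K ⊓ stabilizer (Equiv.Perm GolayPt) p).map (MulAut.conj h).toMonoidHom =
      K.map (MulAut.conj h).toMonoidHom ⊓ stabilizer (Equiv.Perm GolayPt) q := by
  ext x
  rw [Subgroup.mem_map_equiv, Subgroup.mem_inf, Subgroup.mem_inf, Subgroup.mem_map_equiv,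
    mem_stabilizer_iff, mem_stabilizer_iff]
  apply and_congr Iff.rfl
  rw [MulAut.conj_symm_apply, Equiv.Perm.smul_def, Equiv.Perm.smul_def, ← hpq]
  constructor
  · intro hx
    have h1 := congrArg h hx
    simpa [Equiv.Perm.mul_apply] using h1
  · intro hx
    simp only [Equiv.Perm.mul_apply]
    rw [hx]
    simp

theorem map_conj_self {K : Subgroup (Equiv.Perm GolayPt)} {h : Equiv.Perm GolayPt} (hh : h ∈ K) :
    K.map (MulAut.conj h).toMonoidHom = K := by
  ext x
  rw [Subgroup.mem_map_equiv, MulAut.conj_symm_apply]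
  constructor
  · intro hx
    have := K.mul_mem (K.mul_mem hh hx) (K.inv_mem hh)
    simpa [mul_assoc] using this
  · intro hx
    exact K.mul_mem (K.mul_mem (K.inv_mem hh) hx) hh

/-! ### the subgroups -/

/-- the stabilizer of a point in `M24` -/
def fpH5 : Subgroup (Equiv.Perm GolayPt) := M24 ⊓ stabilizer (Equiv.Perm GolayPt) (ptN 5)

/-- the stabilizer of two points in `M24` -/
def fpH : Subgroup (Equiv.Perm GolayPt) := fpH5 ⊓ stabilizer (Equiv.Perm GolayPt) (ptN 19)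

/-- the stabilizer of a point in the Sylow subgroup -/
def fpP : Subgroup (Equiv.Perm GolayPt) := syT ⊓ stabilizer (Equiv.Perm GolayPt) (ptN 5)

theorem mem_fpH5 {g : Equiv.Perm GolayPt} : g ∈ fpH5 ↔ g ∈ M24 ∧ g (ptN 5) = ptN 5 := by
  unfold fpH5
  rw [Subgroup.mem_inf, mem_stabilizer_iff]
  exact Iff.rfl

theorem mem_fpH {g : Equiv.Perm GolayPt} :
    g ∈ fpH ↔ g ∈ M24 ∧ g (ptN 5) = ptN 5 ∧ g (ptN 19) = ptN 19 := by
  unfold fpH
  rw [Subgroup.mem_inf, mem_fpH5, mem_stabilizer_iff, and_assoc]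
  exact Iff.rfl

theorem mem_fpP {g : Equiv.Perm GolayPt} : g ∈ fpP ↔ g ∈ syT ∧ g (ptN 5) = ptN 5 := by
  unfold fpP
  rw [Subgroup.mem_inf, mem_stabilizer_iff]
  exact Iff.rfl

theorem fpH_le : fpH ≤ fpH5 := inf_le_left

theorem fpP_le_syT : fpP ≤ syT := inf_le_left

theorem fpP_le_H5 : fpP ≤ fpH5 := fun _ hg =>
  mem_fpH5.mpr ⟨syT_le (mem_fpP.mp hg).1, (mem_fpP.mp hg).2⟩

theorem fp_pgs_mem : ∀ x ∈ fp_pgs, GoodPerm x ∧ permOfList x ∈ fpP := by
  intro x hx
  obtain ⟨h1, h2, _⟩ := fp_pgs_check.2 x hx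
  obtain ⟨hg, hm⟩ := sy_nodes_mem x h1
  exact ⟨hg, mem_fpP.mpr ⟨hm, permOfList_apply_ptN hg (by norm_num) h2⟩⟩

theorem fp_pgens (K : Subgroup (Equiv.Perm GolayPt)) (hK : ∀ x ∈ fp_pgs, permOfList x ∈ K) :
    ∀ t ∈ fp_ptabs, ∃ g ∈ K, ActsBy g t :=
  gens_of_lists fp_pgs fp_ptabs fp_pgs_check.1 (fun x hx => (fp_pgs_mem x hx).1)
    (fun x hx => (fp_pgs_check.2 x hx).2.2) K hK

/-! ### the conjugating element -/

/-- the element moving the two fixed points to the standard ones -/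
noncomputable def fpc : Equiv.Perm GolayPt := permOfList fp_h

theorem fpc_mem : fpc ∈ M24 := fp_h_check.1.mem

theorem fpc_5 : fpc (ptN 5) = ptN 23 :=
  permOfList_apply_ptN fp_h_check.1.1 (by norm_num) fp_h_check.2.1

theorem fpc_19 : fpc (ptN 19) = ptN 0 :=
  permOfList_apply_ptN fp_h_check.1.1 (by norm_num) fp_h_check.2.2

theorem ptN_23 : ptN 23 = (none : GolayPt) := by decide

theorem ptN_0 : ptN 0 = (some 0 : GolayPt) := by decide

theorem fpH5_map : fpH5.map (MulAut.conj fpc).toMonoidHom = Spor.M23 := by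
  unfold fpH5
  rw [map_conj_inf_stabilizer (ptN 5) (ptN 23) fpc_5, map_conj_self fpc_mem, ptN_23]
  rfl

theorem fpH_map : fpH.map (MulAut.conj fpc).toMonoidHom = Spor.M22 := by
  unfold fpH
  rw [map_conj_inf_stabilizer (ptN 19) (ptN 0) fpc_19, fpH5_map, ptN_0]
  rfl

theorem fpH5_card : Nat.card fpH5 = 10200960 := by
  rw [← Subgroup.card_map_of_injective (K := fpH5) (f := (MulAut.conj fpc).toMonoidHom)
    (MulAut.conj fpc).injective, fpH5_map]
  exact card_G23

theorem fpH_card : Nat.card fpH = 443520 := by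
  rw [← Subgroup.card_map_of_injective (K := fpH) (f := (MulAut.conj fpc).toMonoidHom)
    (MulAut.conj fpc).injective, fpH_map, M22_eq_G22]
  exact card_G22

/-! ### the enumeration -/

theorem fpP_card_le : Nat.card fpP ≤ 128 := by
  have h1 : Nat.card fpP ∣ Nat.card syT := Subgroup.card_dvd_of_le fpP_le_syT
  have h2 : Nat.card fpP ∣ Nat.card fpH5 := Subgroup.card_dvd_of_le fpP_le_H5
  rw [sy_enum.1] at h1
  rw [fpH5_card] at h2
  have h3 := Nat.dvd_gcd h1 h2
  have h4 : Nat.gcd 1024 10200960 = 128 := by norm_num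
  rw [h4] at h3
  exact Nat.le_of_dvd (by norm_num) h3

theorem fp_enum : Nat.card fpP = 128 ∧
    ∀ g ∈ fpP, ∃ l ∈ fp_nodes, GoodPerm l ∧ g = permOfList l :=
  elems_of_cert_le 65519 fpP fp_ptabs (fp_pgens fpP fun x hx => (fp_pgs_mem x hx).2) fp_pcert 128
    fpP_card_le fp_pcheck.1 fp_pcheck.2

theorem fpP_le_H : fpP ≤ fpH := by
  intro g hg
  obtain ⟨l, hl, hgood, rfl⟩ := fp_enum.2 _ hg
  have h5 := mem_fpH5.mp (fpP_le_H5 hg)
  exact mem_fpH.mpr ⟨h5.1, h5.2, permOfList_apply_ptN hgood (by norm_num) (fp_nodes_check l hl).1⟩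

/-! ### uniqueness of the fixed objects -/

theorem fp_octad_unique {o : Finset GolayPt} (ho : o ∈ octads) (h : ∀ t ∈ fpP, t • o = o) :
    o = ptSet sy_O0 := by
  obtain ⟨x, hx, rfl⟩ := (alloct_enum.2.2 o).mp ho
  have hgx := alloct_enum.1 x hx
  have hall : ∀ t ∈ fp_ptabs, setEqB (stepSet t x) x = true := by
    intro t ht
    obtain ⟨g, hg, hact⟩ := fp_pgens fpP (fun x hx => (fp_pgs_mem x hx).2) t ht
    obtain ⟨h1, h2⟩ := smul_ptSet hact hgx
    have h3 := h g hg
    rw [h1] at h3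
    exact (setEqB_iff h2 hgx).mpr h3
  exact (setEqB_iff hgx sy_O0_good).mp (fp_oct_unique_check x hx hall)

theorem fp_sextet_unique {S : Finset (Finset GolayPt)} (hS : S ∈ sextets)
    (h : ∀ t ∈ fpP, t • S = S) : S = famSet c2b_S0 := by
  obtain ⟨x, hx, rfl⟩ := (allsext_enum.2.2 S).mp hS
  have hgx := allsext_enum.1 x hx
  have hall : ∀ t ∈ fp_ptabs, famEqB (stepFam t x) x = true := by
    intro t ht
    obtain ⟨g, hg, hact⟩ := fp_pgens fpP (fun x hx => (fp_pgs_mem x hx).2) t ht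
    obtain ⟨h1, h2⟩ := smul_famSet hact hgx
    have h3 := h g hg
    rw [h1] at h3
    exact (famEqB_iff h2 hgx).mpr h3
  exact (famEqB_iff hgx sy_S0_good).mp (fp_sext_unique_check x hx hall)

theorem fp_F_unique {x : List (List ℕ)} (hx : x ∈ sy_omodel2.nodes sy_btabs sy_F sy_ocert2)
    (h : ∀ t ∈ fpP, t • famSet x = famSet x) : famSet x = famSet sy_F := by
  have hgx := (sy_F_nodes x hx).1
  have hall : ∀ t ∈ fp_ptabs, famEqB (stepFam t x) x = true := by
    intro t ht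
    obtain ⟨g, hg, hact⟩ := fp_pgens fpP (fun x hx => (fp_pgs_mem x hx).2) t ht
    obtain ⟨h1, h2⟩ := smul_famSet hact hgx
    have h3 := h g hg
    rw [h1] at h3
    exact (famEqB_iff h2 hgx).mpr h3
  exact (famEqB_iff hgx sy_F_good).mp (fp_F_unique_check x hx hall)

/-- the normalizer -/
theorem fpP_normalizer {n : Equiv.Perm GolayPt} (hn : n ∈ fpH5)
    (hinv : ∀ t ∈ fpP, n⁻¹ * t * n ∈ fpP) : n ∈ fpP := by
  obtain ⟨hnM, hn5⟩ := mem_fpH5.mp hn
  have hinv' : ∀ t ∈ fpP, n⁻¹ * t * n ∈ syT := fun t ht => fpP_le_syT (hinv t ht)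
  have hO : n • ptSet sy_O0 = ptSet sy_O0 := by
    apply fp_octad_unique (smul_mem_octads hnM sy_base_check.1.mem)
    intro t ht
    exact smul_conj_fixed n t _ (mem_syT.mp (hinv' t ht)).2.2.1
  have hS : n • famSet c2b_S0 = famSet c2b_S0 := by
    apply fp_sextet_unique (smul_mem_sextets hnM sy_S0_mem)
    intro t ht
    exact smul_conj_fixed n t _ (mem_syT.mp (hinv' t ht)).2.1
  have hnB : n ∈ syB := mem_syB.mpr ⟨hnM, hS, hO⟩
  have hmem : n • famSet sy_F ∈ orbit syB (famSet sy_F) := ⟨⟨n, hnB⟩, rfl⟩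
  rw [sy_orbit_eq] at hmem
  obtain ⟨x, hx, hxe⟩ := hmem
  have hfix : ∀ t ∈ fpP, t • famSet x = famSet x := by
    intro t ht
    rw [hxe]
    exact smul_conj_fixed n t _ (mem_syT.mp (hinv' t ht)).2.2.2
  have := fp_F_unique hx hfix
  exact mem_fpP.mpr ⟨mem_syT.mpr ⟨hnM, hS, hO, by rw [← hxe, this]⟩, hn5⟩

/-! ### the centre and the fusion -/

theorem fp_center {s : Equiv.Perm GolayPt} (hs : s ∈ fpP) (hc : ∀ t ∈ fpP, s * t = t * s) :
    s = 1 ∨ s = permOfList fm_z := by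
  obtain ⟨l, hl, hgood, rfl⟩ := fp_enum.2 s hs
  rcases (fp_nodes_check l hl).2 with h | h | ⟨x, hx, hne⟩
  · left
    rw [h, permOfList_idList]
  · right
    rw [h]
  · exfalso
    apply hne
    obtain ⟨hgx, hxm⟩ := fp_pgs_mem x hx
    have h1 := hc (permOfList x) hxm
    rw [permOfList_compL hgood hgx, permOfList_compL hgx hgood] at h1
    exact permOfList_injective (goodPerm_compL hgood hgx) (goodPerm_compL hgx hgood) h1

theorem fp_gen (T : Subgroup (Equiv.Perm GolayPt)) (hx : ∀ x ∈ fp_pgs, permOfList x ∈ T) :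
    fpP ≤ T := by
  have hs := fp_model.nodes_sound T fp_ptabs (fp_pgens T hx) idList goodPerm_idList fp_pcert
  intro g hg
  obtain ⟨l, hl, _, rfl⟩ := fp_enum.2 g hg
  obtain ⟨_, g', hg', hgx⟩ := hs l hl
  have h1 : g' * permOfList idList = permOfList l := hgx
  rw [permOfList_idList, mul_one] at h1
  rw [← h1]
  exact hg'

theorem fp_conj : ∀ x ∈ fp_pgs, ∃ g ∈ fpH, g * permOfList fm_z * g⁻¹ = permOfList x := by
  intro x hx
  obtain ⟨g, hp⟩ := exists_mem_zip fp_pgs fp_gs (by decide) hx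
  obtain ⟨hM, h5, h19, hc⟩ := fp_conj_check _ hp
  refine ⟨permOfList g, mem_fpH.mpr ⟨hM.mem, permOfList_apply_ptN hM.1 (by norm_num) h5,
    permOfList_apply_ptN hM.1 (by norm_num) h19⟩, ?_⟩
  have hgx := (fp_pgs_mem x hx).1
  have h1 := permOfList_mul_eq hM.1 fm_z_good hgx hM.1 hc
  rw [h1]
  group

theorem fpP_finite : Finite ↥fpP := inferInstance

theorem fp_closed (K : Subgroup (Equiv.Perm GolayPt)) (hK : fpH ≤ K) (hPK : fpP ≤ K)
    (T : Subgroup (Equiv.Perm GolayPt)) (hTS : T ≤ fpP)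
    (hT : ∀ x ∈ T, ∀ g ∈ K, g * x * g⁻¹ ∈ fpP → g * x * g⁻¹ ∈ T) : T = ⊥ ∨ T = fpP := by
  have : Fact (Nat.Prime 2) := ⟨Nat.prime_two⟩
  have hp : IsPGroup 2 fpP := IsPGroup.of_card (n := 7) (by rw [fp_enum.1]; norm_num)
  apply closed_of_center hPK hp (permOfList fm_z) (fun s hs hc => fp_center hs hc) _ T hTS hT
  intro T' _ hT' hz
  apply fp_gen T'
  intro x hx
  obtain ⟨g, hg, hgx⟩ := fp_conj x hx
  rw [← hgx]
  apply hT' _ hz g (hK hg)
  rw [hgx]
  exact (fp_pgs_mem x hx).2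

/-- the data for the stabilizers of one and of two points -/
theorem fp_ambData (K : Subgroup (Equiv.Perm GolayPt)) (hK : fpH ≤ K) (hK5 : K ≤ fpH5) (m : ℕ)
    (hcard : Nat.card K = 128 * m) (hm : ¬ 2 ∣ m) : AmbData 2 K fpP := by
  have hp : IsPGroup 2 fpP := IsPGroup.of_card (n := 7) (by rw [fp_enum.1]; norm_num)
  have hPK : fpP ≤ K := fpP_le_H.trans hK
  refine ⟨hPK, hp, ?_, ?_, ?_, fp_closed K hK hPK⟩
  · intro h
    have h1 := fp_enum.1
    rw [h, Subgroup.card_bot] at h1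
    omega
  · rw [relIndex_eq_of_card hPK fp_enum.1 hcard (by norm_num)]
    exact hm
  · intro n hn hinv
    exact fpP_normalizer (hK5 hn) hinv

theorem fp_ambData_M23 : AmbData 2 Spor.M23 (fpP.map (MulAut.conj fpc).toMonoidHom) := by
  have h := (fp_ambData fpH5 fpH_le le_rfl 79695 (by rw [fpH5_card]) (by norm_num)).map
    (MulAut.conj fpc)
  rw [fpH5_map] at h
  exact h

theorem fp_ambData_M22 : AmbData 2 Spor.M22 (fpP.map (MulAut.conj fpc).toMonoidHom) := by
  have h := (fp_ambData fpH le_rfl fpH_le 3465 (by rw [fpH_card]) (by norm_num)).map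
    (MulAut.conj fpc)
  rw [fpH_map] at h
  exact h

end Cfsg.Agent.Lib.Helper28
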