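import Cfsg.Agent.Lib.Helper28.FusionCrit
import Cfsg.Agent.Lib.Helper28.DataFusM24

set_option autoImplicit false

/-!
The 2-fusion system of `M24` is simple: the Sylow 2-subgroup `syT` is self-normalizing, its centre
has order 2, and it is generated by conjugates of its central involution.
-/

namespace Cfsg.Agent.Lib.Helper28

open Cfsg MulAction
open scoped Pointwise

/-- the normalizer of the Sylow subgroup, from one inclusion only -/
theorem syT_normalizer' {n : Equiv.Perm GolayPt} (hn : n ∈ M24)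
    (hinv : ∀ t ∈ syT, n⁻¹ * t * n ∈ syT) : n ∈ syT := by
  have hO : n • ptSet sy_O0 = ptSet sy_O0 := by
    apply sy_octad_unique (smul_mem_octads hn sy_base_check.1.mem)
    intro t ht
    exact smul_conj_fixed n t _ (mem_syT.mp (hinv t ht)).2.2.1
  have hS : n • famSet c2b_S0 = famSet c2b_S0 := by
    apply sy_sextet_unique (smul_mem_sextets hn sy_S0_mem)
    intro t ht
    exact smul_conj_fixed n t _ (mem_syT.mp (hinv t ht)).2.1
  have hnB : n ∈ syB := mem_syB.mpr ⟨hn, hS, hO⟩
  have hmem : n • famSet sy_F ∈ orbit syB (famSet sy_F) := ⟨⟨n, hnB⟩, rfl⟩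
  rw [sy_orbit_eq] at hmem
  obtain ⟨x, hx, hxe⟩ := hmem
  have hfix : ∀ t ∈ syT, t • famSet x = famSet x := by
    intro t ht
    rw [hxe]
    exact smul_conj_fixed n t _ (mem_syT.mp (hinv t ht)).2.2.2
  have := sy_F_unique hx hfix
  exact mem_syT.mpr ⟨hn, hS, hO, by rw [← hxe, this]⟩

/-- the listed elements lie in the Sylow subgroup -/
theorem sy_nodes_mem : ∀ l ∈ sy_nodes, GoodPerm l ∧ permOfList l ∈ syT := by
  intro l hl
  obtain ⟨hgood, g, hg, hgx⟩ := sy_tmodel.nodes_sound syT sy_ttabs sy_tgens idList goodPerm_idList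
    sy_tcert l hl
  refine ⟨hgood, ?_⟩
  have h1 : g * permOfList idList = permOfList l := hgx
  rw [permOfList_idList, mul_one] at h1
  rw [← h1]
  exact hg

/-- products of listed permutations -/
theorem permOfList_mul_eq {a b c d : List ℕ} (ha : GoodPerm a) (hb : GoodPerm b) (hc : GoodPerm c)
    (hd : GoodPerm d) (h : compL a b = compL c d) :
    permOfList a * permOfList b = permOfList c * permOfList d := by
  rw [permOfList_compL ha hb, permOfList_compL hc hd, h]

theorem fm_z_mem : permOfList fm_z ∈ syT := (sy_nodes_mem fm_z fm_mem_check.1).2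

theorem fm_z_good : GoodPerm fm_z := (sy_nodes_mem fm_z fm_mem_check.1).1

theorem fm_xs_mem : ∀ x ∈ fm_xs, GoodPerm x ∧ permOfList x ∈ syT :=
  fun x hx => sy_nodes_mem x (fm_mem_check.2 x hx)

/-- the generators are conjugate to the central involution -/
theorem fm_xs_conj : ∀ x ∈ fm_xs, ∃ g ∈ M24, g * permOfList fm_z * g⁻¹ = permOfList x := by
  intro x hx
  obtain ⟨n, hn, hxn⟩ := List.getElem_of_mem hx
  have hlen : fm_xs.length = fm_gs.length := by decide
  have hn' : n < fm_gs.length := hlen ▸ hn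
  have hp : (x, fm_gs[n]) ∈ fm_xs.zip fm_gs := by
    rw [← hxn]
    have hlt : n < (fm_xs.zip fm_gs).length := by rw [List.length_zip]; omega
    have hmem := List.getElem_mem hlt
    rw [List.getElem_zip] at hmem
    exact hmem
  obtain ⟨hM, hc⟩ := fm_conj_check _ hp
  refine ⟨permOfList fm_gs[n], hM.mem, ?_⟩
  have hgx := (fm_xs_mem x hx).1
  have h1 := permOfList_mul_eq hM.1 fm_z_good hgx hM.1 hc
  rw [h1]
  group

/-- the centre of the Sylow subgroup -/
theorem fm_center {s : Equiv.Perm GolayPt} (hs : s ∈ syT) (hc : ∀ t ∈ syT, s * t = t * s) :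
    s = 1 ∨ s = permOfList fm_z := by
  obtain ⟨l, hl, hgood, rfl⟩ := sy_enum.2 s hs
  rcases fm_center_check l hl with h | h | ⟨x, hx, hne⟩
  · left
    rw [h, permOfList_idList]
  · right
    rw [h]
  · exfalso
    apply hne
    obtain ⟨hgx, hxm⟩ := fm_xs_mem x hx
    have h1 := hc (permOfList x) hxm
    rw [permOfList_compL hgood hgx, permOfList_compL hgx hgood] at h1
    exact permOfList_injective (goodPerm_compL hgood hgx) (goodPerm_compL hgx hgood) h1

/-- the generation of the Sylow subgroup by the conjugates -/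
theorem fm_gen (T : Subgroup (Equiv.Perm GolayPt)) (hx : ∀ x ∈ fm_xs, permOfList x ∈ T) :
    syT ≤ T := by
  have hact : ∀ x ∈ fm_xs, ActsBy (permOfList x) (packL x) := fun x hx' =>
    actsBy_permOfList (fm_xs_mem x hx').1 (fm_xtabs_check.2 x hx')
  have hgens : ∀ (K : Subgroup (Equiv.Perm GolayPt)), (∀ x ∈ fm_xs, permOfList x ∈ K) →
      ∀ t ∈ fm_xtabs, ∃ g ∈ K, ActsBy g t := by
    intro K hK t ht
    rw [fm_xtabs_check.1] at ht
    obtain ⟨x, hx', rfl⟩ := List.mem_map.mp ht
    exact ⟨permOfList x, hK x hx', hact x hx'⟩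
  have henum := elems_of_cert_le 1048573 syT fm_xtabs
    (hgens syT fun x hx' => (fm_xs_mem x hx').2) fm_xcert 1024 (le_of_eq sy_enum.1)
    fm_xcheck.1 fm_xcheck.2
  have hs := fm_model.nodes_sound T fm_xtabs (hgens T hx) idList goodPerm_idList fm_xcert
  intro g hg
  obtain ⟨l, hl, _, rfl⟩ := henum.2 g hg
  obtain ⟨_, g', hg', hgx⟩ := hs l hl
  have h1 : g' * permOfList idList = permOfList l := hgx
  rw [permOfList_idList, mul_one] at h1
  rw [← h1]
  exact hg'

theorem syT_finite : Finite ↥syT := inferInstance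

/-- the data for `M24` -/
theorem fm_ambData : AmbData 2 M24 syT := by
  have : Fact (Nat.Prime 2) := ⟨Nat.prime_two⟩
  have hp : IsPGroup 2 syT := IsPGroup.of_card (n := 10) (by rw [sy_enum.1]; norm_num)
  refine ⟨syT_le, hp, ?_, ?_, ?_, ?_⟩
  · intro h
    have h1 := sy_enum.1
    rw [h, Subgroup.card_bot] at h1
    omega
  · have hidx : syT0.index = 239085 := by
      have h := Subgroup.card_mul_index syT0
      rw [syT0_card, card_M24] at h
      omega
    have : syT.relIndex M24 = 239085 := hidx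
    rw [this]
    norm_num
  · intro n hn hinv
    exact syT_normalizer' hn hinv
  · apply closed_of_center syT_le hp (permOfList fm_z)
    · intro s hs hc
      exact fm_center hs hc
    · intro T hTS hT hz
      apply fm_gen T
      intro x hx
      obtain ⟨g, hg, hgx⟩ := fm_xs_conj x hx
      rw [← hgx]
      apply hT _ hz g hg
      rw [hgx]
      exact (fm_xs_mem x hx).2

end Cfsg.Agent.Lib.Helper28
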