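import Cfsg.Agent.Lib.Helper28.GolayConcrete
import Cfsg.Agent.Lib.Helper4.Leech

set_option autoImplicit false

/-!
A computable membership test for `Cfsg.golayCode` and a criterion for a permutation to lie in
`Cfsg.M24`; `projInv ∈ M24`, `cubeTwist ∈ M24`.
-/

namespace Cfsg.Agent.Lib.Helper28

open Cfsg
open scoped Pointwise

/-- a word is in the code iff it is the combination of the echelon basis read off at the pivots -/
theorem mem_golayCode_iff (w : GolayPt → ZMod 2) :
    w ∈ golayCode ↔ w = ∑ j : Fin 12, w (Helper4.pt (pv j)) • hvec j := by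
  constructor
  · intro hw
    rw [golayCode_eq_span, Submodule.mem_span_range_iff_exists_fun] at hw
    obtain ⟨c, rfl⟩ := hw
    have hc : ∀ k, (∑ j : Fin 12, c j • hvec j) (Helper4.pt (pv k)) = c k := by
      intro k
      rw [Finset.sum_apply]
      simp only [Pi.smul_apply, smul_eq_mul, hvec_apply, hm_pivot]
      simp
    refine Finset.sum_congr rfl fun j _ => ?_
    rw [hc j]
  · intro hw
    rw [hw]
    exact Submodule.sum_mem _ fun j _ => Submodule.smul_mem _ _ (hvec_mem j)

theorem support₂_comp_symm (w : GolayPt → ZMod 2) (σ : Equiv.Perm GolayPt) :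
    support₂ (fun i => w (σ.symm i)) = σ • support₂ w := by
  ext i
  simp only [support₂, Finset.mem_filter, Finset.mem_univ, true_and]
  rw [Finset.mem_smul_finset]
  constructor
  · intro h
    refine ⟨σ.symm i, ?_, ?_⟩
    · simp only [Finset.mem_filter, Finset.mem_univ, true_and]; exact h
    · simp [Equiv.Perm.smul_def]
  · rintro ⟨j, hj, rfl⟩
    simp only [Finset.mem_filter, Finset.mem_univ, true_and] at hj
    simpa [Equiv.Perm.smul_def] using hj

/-- a permutation whose inverse maps the code into itself belongs to `M24` -/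
theorem mem_M24_of_comp_symm (σ : Equiv.Perm GolayPt)
    (h : ∀ w ∈ golayCode, (fun i => w (σ.symm i)) ∈ golayCode) : σ ∈ M24 := by
  rw [MulAction.mem_stabilizer_set_iff_smul_set_subset (Set.toFinite _)]
  rintro _ ⟨b, ⟨w, hw, rfl⟩, rfl⟩
  refine ⟨fun i => w (σ.symm i), h w hw, ?_⟩
  rw [support₂_comp_symm]

/-- it is enough that the generators `qrWord t` composed with `σ` stay in the code -/
theorem mem_M24_of_qrWord_comp (σ : Equiv.Perm GolayPt)
    (h : ∀ t : ZMod 23, (fun i => qrWord t (σ i)) ∈ golayCode) : σ ∈ M24 := by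
  have h1 : σ⁻¹ ∈ M24 := by
    apply mem_M24_of_comp_symm
    intro w hw
    have hsymm : ∀ i, (σ⁻¹).symm i = σ i := fun i => rfl
    simp only [hsymm]
    -- linear map `w ↦ w ∘ σ`
    let L : (GolayPt → ZMod 2) →ₗ[ZMod 2] (GolayPt → ZMod 2) :=
      { toFun := fun w i => w (σ i)
        map_add' := fun _ _ => rfl
        map_smul' := fun _ _ => rfl }
    change L w ∈ golayCode
    have hle : golayCode ≤ golayCode.comap L := by
      unfold golayCode
      rw [Submodule.span_le]
      rintro g (⟨t, rfl⟩ | hg)
      · exact h t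
      · rw [Set.mem_singleton_iff.mp hg]
        change L 1 ∈ Submodule.span (ZMod 2) (Set.range qrWord ∪ {1})
        have : L 1 = 1 := rfl
        rw [this]
        exact Submodule.subset_span (Or.inr rfl)
    exact hle hw
  simpa using Subgroup.inv_mem _ h1

/-- table criterion: `σ` acts on the enumerated points through `tab`, and the bit check holds -/
theorem mem_M24_of_table (σ : Equiv.Perm GolayPt) (tab : Fin 24 → Fin 24)
    (htab : ∀ a, σ (Helper4.pt a) = Helper4.pt (tab a))
    (hcheck : ∀ (t : ZMod 23) (a : Fin 24),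
      (if (Helper4.masks (tab a)).testBit t.val then (1 : ZMod 2) else 0) =
        ∑ j : Fin 12, (if (Helper4.masks (tab (pv j))).testBit t.val then (1 : ZMod 2) else 0) *
          (if (hm j).testBit a.val then 1 else 0)) : σ ∈ M24 := by
  apply mem_M24_of_qrWord_comp
  intro t
  rw [mem_golayCode_iff]
  funext p
  obtain ⟨a, rfl⟩ := Helper4.pt_bijective.2 p
  rw [Finset.sum_apply]
  simp only [Pi.smul_apply, smul_eq_mul, hvec_apply, htab, Helper4.masks_correct]
  exact hcheck t a

/-- the action of `projInv` on the enumerated points -/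
def projInvTab : Fin 24 → Fin 24 :=
  ![23, 22, 11, 15, 17, 9, 19, 13, 20, 5, 16, 2, 21, 7, 18, 3, 10, 4, 14, 6, 8, 12, 1, 0]

/-- the action of `cubeTwist` on the enumerated points -/
def cubeTwistTab : Fin 24 → Fin 24 :=
  ![0, 18, 6, 3, 2, 21, 1, 5, 16, 12, 7, 19, 8, 9, 17, 15, 13, 11, 4, 22, 10, 20, 14, 23]

set_option maxRecDepth 100000 in
theorem projInv_tab : ∀ a, projInv (Helper4.pt a) = Helper4.pt (projInvTab a) := by
  decide

set_option maxRecDepth 100000 in
theorem cubeTwistFun_tab : ∀ a, cubeTwistFun (Helper4.pt a) = Helper4.pt (cubeTwistTab a) := by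
  decide

set_option maxRecDepth 100000 in
set_option maxHeartbeats 4000000 in
theorem projInv_check : ∀ (t : ZMod 23) (a : Fin 24),
    (if (Helper4.masks (projInvTab a)).testBit t.val then (1 : ZMod 2) else 0) =
      ∑ j : Fin 12, (if (Helper4.masks (projInvTab (pv j))).testBit t.val then (1 : ZMod 2) else 0) *
        (if (hm j).testBit a.val then 1 else 0) := by
  decide +kernel

set_option maxRecDepth 100000 in
set_option maxHeartbeats 4000000 in
theorem cubeTwist_check : ∀ (t : ZMod 23) (a : Fin 24),
    (if (Helper4.masks (cubeTwistTab a)).testBit t.val then (1 : ZMod 2) else 0) =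
      ∑ j : Fin 12, (if (Helper4.masks (cubeTwistTab (pv j))).testBit t.val then (1 : ZMod 2) else 0) *
        (if (hm j).testBit a.val then 1 else 0) := by
  decide +kernel

theorem projInv_mem_M24 : projInv ∈ M24 :=
  mem_M24_of_table projInv projInvTab projInv_tab projInv_check

theorem cubeTwist_mem_M24 : cubeTwist ∈ M24 :=
  mem_M24_of_table cubeTwist cubeTwistTab
    (fun a => by
      have : cubeTwist (Helper4.pt a) = cubeTwistFun (Helper4.pt a) := by
        unfold cubeTwist
        rw [Equiv.ofBijective_apply]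
      rw [this]; exact cubeTwistFun_tab a)
    cubeTwist_check

end Cfsg.Agent.Lib.Helper28
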