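import Cfsg.Agent.Lib.Helper28.InvSubspaces
import Cfsg.Agent.Lib.Helper28.M24Mem
import Cfsg.Agent.Lib.Helper28.Octads
import Cfsg.Agent.Lib.Helper3.Steiner
import Cfsg.Agent.Lib.Helper4.S3622

set_option autoImplicit false
set_option linter.unusedSectionVars false
set_option linter.unusedVariables false

/-!
Linear automorphisms of the Golay code that fix the all-ones word and map every code word into
its `M24`-orbit modulo the all-ones word are induced, modulo the all-ones word, by an element of
`M24`.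

The proof goes through the dual space: the functionals on the code killing the all-ones word are
the "pair" and "tetrad" functionals; they are told apart by the number of octads in their kernel
(`407` against `375`), so the pair functionals are permuted, compatibly with the incidence of
pairs; an incidence preserving permutation of the pairs of a 24-set comes from a permutation of
the 24 points.
-/

namespace Cfsg.Agent.Lib.Helper28

open Cfsg Cfsg.Agent.Lib.Helper3.Steiner Cfsg.Agent.Helper4.S3622
open scoped Pointwise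

namespace GolayGL

/-! ### counting octads meeting a small set evenly -/

/-- the octads as a finset -/
noncomputable abbrev octF : Finset (Finset GolayPt) := blocksF octads

theorem mem_octF {O : Finset GolayPt} : O ∈ octF ↔ O ∈ octads := mem_blocksF

theorem card_pt : Fintype.card GolayPt = 24 := by rfl

lemma olam0 (I : Finset GolayPt) (hI : I.card = 0) :
    (octF.filter (I ⊆ ·)).card = 759 := by
  have h : (octF.filter (I ⊆ ·)).card * (8 - I.card).choose (5 - I.card) =
      (Fintype.card GolayPt - I.card).choose (5 - I.card) :=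
    card_blocks_containing octads_isSteinerSystem I (by omega)
  rw [card_pt, hI] at h
  norm_num [Nat.choose] at h
  omega

lemma olam1 (I : Finset GolayPt) (hI : I.card = 1) :
    (octF.filter (I ⊆ ·)).card = 253 := by
  have h : (octF.filter (I ⊆ ·)).card * (8 - I.card).choose (5 - I.card) =
      (Fintype.card GolayPt - I.card).choose (5 - I.card) :=
    card_blocks_containing octads_isSteinerSystem I (by omega)
  rw [card_pt, hI] at h
  norm_num [Nat.choose] at h
  omega

lemma olam2 (I : Finset GolayPt) (hI : I.card = 2) :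
    (octF.filter (I ⊆ ·)).card = 77 := by
  have h : (octF.filter (I ⊆ ·)).card * (8 - I.card).choose (5 - I.card) =
      (Fintype.card GolayPt - I.card).choose (5 - I.card) :=
    card_blocks_containing octads_isSteinerSystem I (by omega)
  rw [card_pt, hI] at h
  norm_num [Nat.choose] at h
  omega

lemma olam3 (I : Finset GolayPt) (hI : I.card = 3) :
    (octF.filter (I ⊆ ·)).card = 21 := by
  have h : (octF.filter (I ⊆ ·)).card * (8 - I.card).choose (5 - I.card) =
      (Fintype.card GolayPt - I.card).choose (5 - I.card) :=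
    card_blocks_containing octads_isSteinerSystem I (by omega)
  rw [card_pt, hI] at h
  norm_num [Nat.choose] at h
  omega

lemma olam4 (I : Finset GolayPt) (hI : I.card = 4) :
    (octF.filter (I ⊆ ·)).card = 5 := by
  have h : (octF.filter (I ⊆ ·)).card * (8 - I.card).choose (5 - I.card) =
      (Fintype.card GolayPt - I.card).choose (5 - I.card) :=
    card_blocks_containing octads_isSteinerSystem I (by omega)
  rw [card_pt, hI] at h
  norm_num [Nat.choose] at h
  omega

theorem card_octF : octF.card = 759 := by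
  have h := olam0 ∅ rfl
  rwa [Finset.filter_true_of_mem (fun O _ => Finset.empty_subset O)] at h

/-- the number of octads meeting `S` in an even number of points -/
noncomputable def evenCount (S : Finset GolayPt) : ℕ :=
  (octF.filter (fun O => Even (O ∩ S).card)).card

theorem evenCount_eq (S : Finset GolayPt) (N : ℕ) (hN : ∀ O ∈ octF, (O ∩ S).card < N) :
    evenCount S = ∑ j ∈ Finset.range N,
      (octF.filter (fun O => (O ∩ S).card = j)).card * (if Even j then 1 else 0) := by
  rw [evenCount, Finset.card_filter]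
  exact sum_fiber octF S (fun j => if Even j then 1 else 0) N hN

theorem evenCount_zero (S : Finset GolayPt) (hS : S.card = 0) : evenCount S = 759 := by
  have hS' : S = ∅ := Finset.card_eq_zero.mp hS
  subst hS'
  rw [evenCount, Finset.filter_true_of_mem, card_octF]
  intro O _
  rw [Finset.inter_empty, Finset.card_empty]
  exact Even.zero

theorem evenCount_two (S : Finset GolayPt) (hS : S.card = 2) : evenCount S = 407 := by
  have hN : ∀ O ∈ octF, (O ∩ S).card < 3 := fun O _ => by
    have := Finset.card_le_card (Finset.inter_subset_right : O ∩ S ⊆ S)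
    omega
  have h0 := sum_choose_inter_gen octF S 0 759 (fun I _ hI => olam0 I hI)
  have h1 := sum_choose_inter_gen octF S 1 253 (fun I _ hI => olam1 I hI)
  have h2 := sum_choose_inter_gen octF S 2 77 (fun I _ hI => olam2 I hI)
  rw [sum_fiber octF S (fun j => j.choose 0) 3 hN] at h0
  rw [sum_fiber octF S (fun j => j.choose 1) 3 hN] at h1
  rw [sum_fiber octF S (fun j => j.choose 2) 3 hN] at h2
  rw [evenCount_eq S 3 hN]
  have c02 : Nat.choose 0 2 = 0 := by decide
  have c12 : Nat.choose 1 2 = 0 := by decide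
  have c22 : Nat.choose 2 2 = 1 := by decide
  have e0 : Even 0 := by decide
  have e1 : ¬ Even 1 := by decide
  have e2 : Even 2 := by decide
  simp only [Finset.sum_range_succ, Finset.sum_range_zero, hS, Nat.choose_zero_right,
    Nat.choose_one_right, c02, c12, c22, if_pos e0, if_neg e1, if_pos e2] at h0 h1 h2 ⊢
  omega

theorem evenCount_four (S : Finset GolayPt) (hS : S.card = 4) : evenCount S = 375 := by
  have hN : ∀ O ∈ octF, (O ∩ S).card < 5 := fun O _ => by
    have := Finset.card_le_card (Finset.inter_subset_right : O ∩ S ⊆ S)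
    omega
  have h0 := sum_choose_inter_gen octF S 0 759 (fun I _ hI => olam0 I hI)
  have h1 := sum_choose_inter_gen octF S 1 253 (fun I _ hI => olam1 I hI)
  have h2 := sum_choose_inter_gen octF S 2 77 (fun I _ hI => olam2 I hI)
  have h3 := sum_choose_inter_gen octF S 3 21 (fun I _ hI => olam3 I hI)
  have h4 := sum_choose_inter_gen octF S 4 5 (fun I _ hI => olam4 I hI)
  rw [sum_fiber octF S (fun j => j.choose 0) 5 hN] at h0
  rw [sum_fiber octF S (fun j => j.choose 1) 5 hN] at h1
  rw [sum_fiber octF S (fun j => j.choose 2) 5 hN] at h2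
  rw [sum_fiber octF S (fun j => j.choose 3) 5 hN] at h3
  rw [sum_fiber octF S (fun j => j.choose 4) 5 hN] at h4
  rw [evenCount_eq S 5 hN]
  have c02 : Nat.choose 0 2 = 0 := by decide
  have c12 : Nat.choose 1 2 = 0 := by decide
  have c22 : Nat.choose 2 2 = 1 := by decide
  have c32 : Nat.choose 3 2 = 3 := by decide
  have c42 : Nat.choose 4 2 = 6 := by decide
  have c03 : Nat.choose 0 3 = 0 := by decide
  have c13 : Nat.choose 1 3 = 0 := by decide
  have c23 : Nat.choose 2 3 = 0 := by decide
  have c33 : Nat.choose 3 3 = 1 := by decide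
  have c43 : Nat.choose 4 3 = 4 := by decide
  have c04 : Nat.choose 0 4 = 0 := by decide
  have c14 : Nat.choose 1 4 = 0 := by decide
  have c24 : Nat.choose 2 4 = 0 := by decide
  have c34 : Nat.choose 3 4 = 0 := by decide
  have c44 : Nat.choose 4 4 = 1 := by decide
  have e0 : Even 0 := by decide
  have e1 : ¬ Even 1 := by decide
  have e2 : Even 2 := by decide
  have e3 : ¬ Even 3 := by decide
  have e4 : Even 4 := by decide
  simp only [Finset.sum_range_succ, Finset.sum_range_zero, hS, Nat.choose_zero_right,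
    Nat.choose_one_right] at h0 h1
  simp only [Finset.sum_range_succ, Finset.sum_range_zero, hS, c02, c12, c22, c32, c42] at h2
  simp only [Finset.sum_range_succ, Finset.sum_range_zero, hS, c03, c13, c23, c33, c43] at h3
  simp only [Finset.sum_range_succ, Finset.sum_range_zero, hS, c04, c14, c24, c34, c44] at h4
  simp only [Finset.sum_range_succ, Finset.sum_range_zero, if_pos e0, if_neg e1, if_pos e2,
    if_neg e3, if_pos e4]
  omega

/-- a set of two or four points meets some octad in an odd number of points -/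
theorem exists_odd_octad (S : Finset GolayPt) (hS : S.card = 2 ∨ S.card = 4) :
    ∃ O ∈ octads, ¬ Even (O ∩ S).card := by
  by_contra h
  have h' : ∀ O ∈ octF, Even (O ∩ S).card := by
    intro O hO
    by_contra hodd
    exact h ⟨O, mem_octF.mp hO, hodd⟩
  have h759 : evenCount S = 759 := by
    rw [evenCount, Finset.filter_true_of_mem h', card_octF]
  rcases hS with h2 | h4
  · rw [evenCount_two S h2] at h759; omega
  · rw [evenCount_four S h4] at h759; omega

/-! ### words as functionals -/

/-- the dot product of two binary words -/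
def dotw (u c : GolayPt → ZMod 2) : ZMod 2 := ∑ i, u i * c i

theorem dotw_add_left (u u' c : GolayPt → ZMod 2) : dotw (u + u') c = dotw u c + dotw u' c := by
  simp only [dotw, Pi.add_apply, add_mul, Finset.sum_add_distrib]

theorem dotw_add_right (u c c' : GolayPt → ZMod 2) : dotw u (c + c') = dotw u c + dotw u c' := by
  simp only [dotw, Pi.add_apply, mul_add, Finset.sum_add_distrib]

theorem dotw_smul_right (u : GolayPt → ZMod 2) (r : ZMod 2) (c : GolayPt → ZMod 2) :
    dotw u (r • c) = r • dotw u c := by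
  simp only [dotw, Pi.smul_apply, smul_eq_mul, Finset.mul_sum]
  refine Finset.sum_congr rfl fun i _ => ?_
  ring

/-- the dot product with `u` as a linear functional -/
def dotwL (u : GolayPt → ZMod 2) : (GolayPt → ZMod 2) →ₗ[ZMod 2] ZMod 2 where
  toFun := dotw u
  map_add' := dotw_add_right u
  map_smul' := fun r c => dotw_smul_right u r c

theorem dotw_one (u : GolayPt → ZMod 2) : dotw u 1 = ((bsupp u).card : ZMod 2) := by
  rw [dotw]
  simp only [Pi.one_apply, mul_one]
  exact sum_eq_card_bsupp u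

theorem dotw_bind (u : GolayPt → ZMod 2) (O : Finset GolayPt) :
    dotw u (bind O) = ((bsupp u ∩ O).card : ZMod 2) := by
  rw [dotw, dot_eq_card_inter, bsupp_bind]

theorem dotw_eq_zero_iff (u : GolayPt → ZMod 2) (O : Finset GolayPt) :
    dotw u (bind O) = 0 ↔ Even (O ∩ bsupp u).card := by
  rw [dotw_bind, ZMod.natCast_eq_zero_iff_even, Finset.inter_comm]

theorem count_eq (u : GolayPt → ZMod 2) :
    (octF.filter (fun O => dotw u (bind O) = 0)).card = evenCount (bsupp u) := by
  rw [evenCount]
  exact congrArg Finset.card (Finset.filter_congr (fun O _ => dotw_eq_zero_iff u O))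

theorem dotw_pair {a b : GolayPt} (hab : a ≠ b) (c : GolayPt → ZMod 2) :
    dotw (bind {a, b}) c = c a + c b := by
  rw [dotw]
  have h : ∀ i, bind ({a, b} : Finset GolayPt) i * c i =
      if i ∈ ({a, b} : Finset GolayPt) then c i else 0 := by
    intro i
    simp only [bind]
    split_ifs <;> simp
  rw [Finset.sum_congr rfl (fun i _ => h i), Finset.sum_ite_mem, Finset.univ_inter,
    Finset.sum_pair hab]

theorem exists_light (w : GolayPt → ZMod 2) :
    ∃ u : GolayPt → ZMod 2, hammingNorm u ≤ 4 ∧ u - w ∈ golayCode := by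
  have hC := golayCode_isGolayLike
  have hne : (lightCoset golayCode w).Nonempty := by
    rcases hC.lightCoset_structure w with ⟨u0, h, _⟩ | ⟨h, _, _⟩
    · rw [h]; exact Finset.singleton_nonempty _
    · rw [← Finset.card_pos, h]; norm_num
  obtain ⟨u, hu⟩ := hne
  exact ⟨u, (mem_lightCoset w u).mp hu⟩

theorem dotw_eq_of_sub_mem {u w : GolayPt → ZMod 2} (h : u - w ∈ golayCode)
    {c : GolayPt → ZMod 2} (hc : c ∈ golayCode) : dotw u c = dotw w c := by
  have hC := golayCode_isGolayLike
  have h2 := hC.orth (u - w) h c hc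
  have h3 : dotw u c - dotw w c = 0 := by
    rw [dotw, dotw, ← Finset.sum_sub_distrib, ← h2]
    refine Finset.sum_congr rfl fun i _ => ?_
    rw [Pi.sub_apply, sub_mul]
  exact sub_eq_zero.mp h3

theorem light_zero_of_orth {u : GolayPt → ZMod 2} (hu : hammingNorm u ≤ 4)
    (h : ∀ c ∈ golayCode, dotw u c = 0) : u = 0 := by
  have hC := golayCode_isGolayLike
  have h1 := h 1 hC.one_mem
  rw [dotw_one, ZMod.natCast_eq_zero_iff_even] at h1
  rw [hammingNorm_eq_card_bsupp] at hu
  have hcases : (bsupp u).card = 0 ∨ ((bsupp u).card = 2 ∨ (bsupp u).card = 4) := by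
    obtain ⟨k, hk⟩ := h1
    omega
  rcases hcases with h0 | h24
  · rw [← bind_bsupp u, Finset.card_eq_zero.mp h0, bind_empty]
  · exfalso
    obtain ⟨O, hO, hodd⟩ := exists_odd_octad (bsupp u) h24
    apply hodd
    rw [← dotw_eq_zero_iff]
    exact h (bind O) ((mem_octads_iff O).mp hO).1

/-- the code contains its orthogonal -/
theorem mem_code_of_orth {v : GolayPt → ZMod 2} (h : ∀ c ∈ golayCode, dotw v c = 0) :
    v ∈ golayCode := by
  obtain ⟨u, hu4, hu⟩ := exists_light v
  have h0 : u = 0 := light_zero_of_orth hu4 (fun c hc => by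
    rw [dotw_eq_of_sub_mem hu hc]; exact h c hc)
  rw [h0, zero_sub] at hu
  exact (Submodule.neg_mem_iff _).mp hu

theorem eq_of_dotw_eq {u u' : GolayPt → ZMod 2} (hw : hammingNorm u + hammingNorm u' < 8)
    (h : ∀ c ∈ golayCode, dotw u c = dotw u' c) : u = u' := by
  have hC := golayCode_isGolayLike
  have hm : u + u' ∈ golayCode := mem_code_of_orth (fun c hc => by
    rw [dotw_add_left, h c hc]; exact CharTwo.add_self_eq_zero _)
  by_contra hne
  have h0 : u + u' ≠ 0 := by
    intro h0
    apply hne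
    rw [← sub_eq_add_zmod2] at h0
    exact sub_eq_zero.mp h0
  have h8 := hC.minw _ hm h0
  have := hammingNorm_add u u'
  omega

/-- every functional on the code is the dot product with a light word -/
theorem exists_light_repr (f : ↥golayCode →ₗ[ZMod 2] ZMod 2) :
    ∃ u : GolayPt → ZMod 2, hammingNorm u ≤ 4 ∧
      ∀ c : ↥golayCode, f c = dotw u (c : GolayPt → ZMod 2) := by
  obtain ⟨g, hg⟩ := LinearMap.exists_extend f
  let w : GolayPt → ZMod 2 := fun i => g (fun j => if i = j then 1 else 0)
  have hgw : ∀ v : GolayPt → ZMod 2, g v = dotw w v := by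
    intro v
    rw [LinearMap.pi_apply_eq_sum_univ g v, dotw]
    refine Finset.sum_congr rfl fun i _ => ?_
    rw [smul_eq_mul, mul_comm]
  obtain ⟨u, hu4, hu⟩ := exists_light w
  refine ⟨u, hu4, fun c => ?_⟩
  have h1 : f c = g (c : GolayPt → ZMod 2) := by
    rw [← hg]; rfl
  rw [h1, hgw, dotw_eq_of_sub_mem hu c.2]

/-! ### the action on octads modulo complements -/

/-- the all-ones word as a code word -/
def oneC : ↥golayCode := ⟨1, golayCode_isGolayLike.one_mem⟩

/-- an octad as a code word -/
def bindC (O : Finset GolayPt) (hO : O ∈ octads) : ↥golayCode :=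
  ⟨bind O, ((mem_octads_iff O).mp hO).1⟩

/-- `y` maps every code word into its `M24`-orbit modulo the all-ones word -/
def OrbHyp (y : ↥golayCode ≃ₗ[ZMod 2] ↥golayCode) : Prop :=
  ∀ c : ↥golayCode, ∃ σ ∈ M24,
    ((y c : ↥golayCode) : GolayPt → ZMod 2) = permWord σ (c : GolayPt → ZMod 2) ∨
    ((y c : ↥golayCode) : GolayPt → ZMod 2) = permWord σ (c : GolayPt → ZMod 2) + 1

theorem exists_octad_image (y : ↥golayCode ≃ₗ[ZMod 2] ↥golayCode) (hy : OrbHyp y)
    (O : Finset GolayPt) (hO : O ∈ octads) :
    ∃ O' : Finset GolayPt, O' ∈ octads ∧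
      (((y (bindC O hO) : ↥golayCode) : GolayPt → ZMod 2) = bind O' ∨
       ((y (bindC O hO) : ↥golayCode) : GolayPt → ZMod 2) = bind O' + 1) := by
  obtain ⟨σ, hσ, h⟩ := hy (bindC O hO)
  refine ⟨σ • O, smul_mem_octads hσ hO, ?_⟩
  have h2 : permWord σ ((bindC O hO : ↥golayCode) : GolayPt → ZMod 2) = bind (σ • O) :=
    permWord_bind σ O
  rw [h2] at h
  exact h

theorem zmod2_cases (t : ZMod 2) : t = 0 ∨ t = 1 := by
  revert t; decide

theorem bind_add_ne_one {O1 O2 : Finset GolayPt} (h1 : O1.card = 8) (h2 : O2.card = 8) :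
    bind O1 + bind O2 ≠ (1 : GolayPt → ZMod 2) := by
  intro h
  have h3 := hammingNorm_add (bind O1) (bind O2)
  rw [h, hammingNorm_bind, hammingNorm_bind, h1, h2] at h3
  have h4 : hammingNorm (1 : GolayPt → ZMod 2) = 24 := by
    rw [← bind_univ, hammingNorm_bind, Finset.card_univ, card_pt]
  omega

theorem count_le (y : ↥golayCode ≃ₗ[ZMod 2] ↥golayCode) (hy1 : y oneC = oneC) (hy : OrbHyp y)
    {u u' : GolayPt → ZMod 2} (hu : dotw u 1 = 0)
    (hrel : ∀ c : ↥golayCode, dotw u ((y c : ↥golayCode) : GolayPt → ZMod 2) =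
      dotw u' (c : GolayPt → ZMod 2)) :
    evenCount (bsupp u') ≤ evenCount (bsupp u) := by
  rw [← count_eq, ← count_eq]
  choose! π hπ using exists_octad_image y hy
  apply Finset.card_le_card_of_injOn π
  · intro O hO
    have hO' := Finset.mem_filter.mp (Finset.mem_coe.mp hO)
    have hOo : O ∈ octads := mem_octF.mp hO'.1
    obtain ⟨hπo, hπ2⟩ := hπ O hOo
    apply Finset.mem_coe.mpr
    apply Finset.mem_filter.mpr
    refine ⟨mem_octF.mpr hπo, ?_⟩
    have hr := hrel (bindC O hOo)
    have hr2 : dotw u' ((bindC O hOo : ↥golayCode) : GolayPt → ZMod 2) = 0 := hO'.2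
    rw [hr2] at hr
    rcases hπ2 with h | h
    · rw [h] at hr; exact hr
    · rw [h, dotw_add_right, hu, add_zero] at hr; exact hr
  · intro O1 hO1 O2 hO2 heq
    have hO1' := Finset.mem_filter.mp (Finset.mem_coe.mp hO1)
    have hO2' := Finset.mem_filter.mp (Finset.mem_coe.mp hO2)
    have hOo1 : O1 ∈ octads := mem_octF.mp hO1'.1
    have hOo2 : O2 ∈ octads := mem_octF.mp hO2'.1
    obtain ⟨_, hπ1⟩ := hπ O1 hOo1
    obtain ⟨_, hπ2⟩ := hπ O2 hOo2
    rw [← heq] at hπ2
    have hb : bind (π O1) + bind (π O1) = (0 : GolayPt → ZMod 2) := add_self_zmod2' _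
    -- the sum of the two images is `0` or `1`
    have hsum : ((y (bindC O1 hOo1 + bindC O2 hOo2) : ↥golayCode) : GolayPt → ZMod 2) = 0 ∨
        ((y (bindC O1 hOo1 + bindC O2 hOo2) : ↥golayCode) : GolayPt → ZMod 2) = 1 := by
      rw [map_add, Submodule.coe_add]
      rcases hπ1 with h1 | h1 <;> rcases hπ2 with h2 | h2
      · left; rw [h1, h2, hb]
      · right; rw [h1, h2, ← add_assoc, hb, zero_add]
      · right; rw [h1, h2, add_right_comm, hb, zero_add]
      · left
        rw [h1, h2, add_add_add_comm, hb, zero_add]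
        exact add_self_zmod2' _
    have hsum2 : bindC O1 hOo1 + bindC O2 hOo2 = 0 ∨ bindC O1 hOo1 + bindC O2 hOo2 = oneC := by
      rcases hsum with h | h
      · left
        have : y (bindC O1 hOo1 + bindC O2 hOo2) = 0 := Subtype.ext h
        exact (LinearEquiv.map_eq_zero_iff y).mp this
      · right
        have : y (bindC O1 hOo1 + bindC O2 hOo2) = y oneC := by
          rw [hy1]; exact Subtype.ext h
        exact y.injective this
    have hc1 : O1.card = 8 := ((mem_octads_iff O1).mp hOo1).2
    have hc2 : O2.card = 8 := ((mem_octads_iff O2).mp hOo2).2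
    rcases hsum2 with h | h
    · have h' : bind O1 + bind O2 = (0 : GolayPt → ZMod 2) :=
        congrArg (fun z : ↥golayCode => (z : GolayPt → ZMod 2)) h
      rw [← sub_eq_add_zmod2] at h'
      exact bind_injective (sub_eq_zero.mp h')
    · exfalso
      have h' : bind O1 + bind O2 = (1 : GolayPt → ZMod 2) :=
        congrArg (fun z : ↥golayCode => (z : GolayPt → ZMod 2)) h
      exact bind_add_ne_one hc1 hc2 h'

/-! ### pair functionals -/

/-- the functional `u` composed with `y` is the functional `u'` -/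
def Rel (y : ↥golayCode ≃ₗ[ZMod 2] ↥golayCode) (u u' : GolayPt → ZMod 2) : Prop :=
  ∀ c : ↥golayCode, dotw u ((y c : ↥golayCode) : GolayPt → ZMod 2) =
    dotw u' (c : GolayPt → ZMod 2)

theorem Rel.add {y : ↥golayCode ≃ₗ[ZMod 2] ↥golayCode} {u1 u1' u2 u2' : GolayPt → ZMod 2}
    (h1 : Rel y u1 u1') (h2 : Rel y u2 u2') : Rel y (u1 + u2) (u1' + u2') := fun c => by
  rw [dotw_add_left, dotw_add_left, h1 c, h2 c]

theorem Rel.unique {y : ↥golayCode ≃ₗ[ZMod 2] ↥golayCode} {u u' u'' : GolayPt → ZMod 2}
    (h1 : Rel y u u') (h2 : Rel y u u'') (hw : hammingNorm u' + hammingNorm u'' < 8) :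
    u' = u'' :=
  eq_of_dotw_eq hw (fun c hc => by rw [← h1 ⟨c, hc⟩, ← h2 ⟨c, hc⟩])

theorem Rel.inj {y : ↥golayCode ≃ₗ[ZMod 2] ↥golayCode} {u1 u2 u' : GolayPt → ZMod 2}
    (h1 : Rel y u1 u') (h2 : Rel y u2 u') (hw : hammingNorm u1 + hammingNorm u2 < 8) :
    u1 = u2 :=
  eq_of_dotw_eq hw (fun c hc => by
    have e1 := h1 (y.symm ⟨c, hc⟩)
    have e2 := h2 (y.symm ⟨c, hc⟩)
    rw [LinearEquiv.apply_symm_apply] at e1 e2
    exact e1.trans e2.symm)

theorem Rel.symm {y : ↥golayCode ≃ₗ[ZMod 2] ↥golayCode} {u u' : GolayPt → ZMod 2}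
    (h : Rel y u u') : Rel y.symm u' u := fun c => by
  have e := h (y.symm c)
  rw [LinearEquiv.apply_symm_apply] at e
  exact e.symm

theorem symm_oneC {y : ↥golayCode ≃ₗ[ZMod 2] ↥golayCode} (hy1 : y oneC = oneC) :
    y.symm oneC = oneC := by
  rw [LinearEquiv.symm_apply_eq, hy1]

/-- a pair functional composed with `y` is a pair functional -/
theorem exists_pair_image (y : ↥golayCode ≃ₗ[ZMod 2] ↥golayCode) (hy1 : y oneC = oneC)
    (hy : OrbHyp y) (hy' : OrbHyp y.symm) (S : Finset GolayPt) (hS : S.card = 2) :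
    ∃ S' : Finset GolayPt, S'.card = 2 ∧ Rel y (bind S) (bind S') := by
  let f : ↥golayCode →ₗ[ZMod 2] ZMod 2 :=
    (dotwL (bind S)).comp (golayCode.subtype.comp y.toLinearMap)
  obtain ⟨u', hu4, hrep⟩ := exists_light_repr f
  have hrel : Rel y (bind S) u' := fun c => hrep c
  have hu : dotw (bind S) 1 = 0 := by
    rw [dotw_one, bsupp_bind, hS]; decide
  have hu' : dotw u' 1 = 0 := by
    have e := hrel oneC
    rw [hy1] at e
    exact e.symm.trans hu
  have c1 := count_le y hy1 hy hu hrel
  have c2 := count_le y.symm (symm_oneC hy1) hy' hu' hrel.symm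
  rw [bsupp_bind, evenCount_two S hS] at c1 c2
  have hev : Even (bsupp u').card := by
    rw [dotw_one, ZMod.natCast_eq_zero_iff_even] at hu'
    exact hu'
  rw [hammingNorm_eq_card_bsupp] at hu4
  have hcases : (bsupp u').card = 0 ∨ (bsupp u').card = 2 ∨ (bsupp u').card = 4 := by
    obtain ⟨k, hk⟩ := hev
    omega
  rcases hcases with h0 | h2 | h4
  · rw [evenCount_zero _ h0] at c1; omega
  · refine ⟨bsupp u', h2, ?_⟩
    rw [bind_bsupp]
    exact hrel
  · rw [evenCount_four _ h4] at c2; omega

/-! ### combinatorics of pairs -/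

lemma inter_card_one {S T : Finset GolayPt} (hS : S.card = 2) (hT : T.card = 2) (hne : S ≠ T)
    {p : GolayPt} (hpS : p ∈ S) (hpT : p ∈ T) : (S ∩ T).card = 1 := by
  have h1 : 1 ≤ (S ∩ T).card := Finset.card_pos.mpr ⟨p, Finset.mem_inter.mpr ⟨hpS, hpT⟩⟩
  have h2 : (S ∩ T).card ≤ 2 := hS ▸ Finset.card_le_card Finset.inter_subset_left
  by_contra h
  have h3 : (S ∩ T).card = 2 := by omega
  have e1 : S ∩ T = S := Finset.eq_of_subset_of_card_le Finset.inter_subset_left (by omega)
  have e2 : S ∩ T = T := Finset.eq_of_subset_of_card_le Finset.inter_subset_right (by omega)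
  exact hne (e1.symm.trans e2)

lemma pair_ne {p q1 q2 : GolayPt} (h1 : q1 ≠ p) (h12 : q1 ≠ q2) :
    ({p, q1} : Finset GolayPt) ≠ {p, q2} := by
  intro h
  have : q1 ∈ ({p, q2} : Finset GolayPt) := by
    rw [← h]; exact Finset.mem_insert_of_mem (Finset.mem_singleton_self q1)
  rw [Finset.mem_insert, Finset.mem_singleton] at this
  rcases this with h | h
  · exact h1 h
  · exact h12 h

lemma symmDiff_pair {p q r : GolayPt} (hpq : p ≠ q) (hpr : p ≠ r) (hqr : q ≠ r) :
    symmDiff ({p, r} : Finset GolayPt) {q, r} = {p, q} := by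
  have hS : ({p, r} : Finset GolayPt).card = 2 := Finset.card_pair hpr
  have hT : ({q, r} : Finset GolayPt).card = 2 := Finset.card_pair hqr
  have hne : ({p, r} : Finset GolayPt) ≠ {q, r} := by
    intro h
    have : p ∈ ({q, r} : Finset GolayPt) := by
      rw [← h]; exact Finset.mem_insert_self p _
    rw [Finset.mem_insert, Finset.mem_singleton] at this
    rcases this with h | h
    · exact hpq h
    · exact hpr h
  have hi := inter_card_one hS hT hne
    (Finset.mem_insert_of_mem (Finset.mem_singleton_self r))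
    (Finset.mem_insert_of_mem (Finset.mem_singleton_self r))
  have hd := card_symmDiff_add ({p, r} : Finset GolayPt) {q, r}
  symm
  apply Finset.eq_of_subset_of_card_le
  · intro z hz
    rw [Finset.mem_insert, Finset.mem_singleton] at hz
    rw [Finset.mem_symmDiff]
    rcases hz with rfl | rfl
    · left
      refine ⟨Finset.mem_insert_self _ _, ?_⟩
      rw [Finset.mem_insert, Finset.mem_singleton]
      rintro (h | h)
      · exact hpq h
      · exact hpr h
    · right
      refine ⟨Finset.mem_insert_self _ _, ?_⟩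
      rw [Finset.mem_insert, Finset.mem_singleton]
      rintro (h | h)
      · exact hpq h.symm
      · exact hqr h
  · rw [Finset.card_pair hpq]; omega

lemma common_point {P1 P2 P3 : Finset GolayPt} (h1 : P1.card = 2) (h2 : P2.card = 2)
    (h3 : P3.card = 2) (h12 : (P1 ∩ P2).card = 1) (h13 : (P1 ∩ P3).card = 1)
    (h23 : (P2 ∩ P3).card = 1) (hne : P3 ≠ symmDiff P1 P2) : P1 ∩ P2 ⊆ P3 := by
  obtain ⟨a, ha⟩ := Finset.card_eq_one.mp h12
  rw [ha, Finset.singleton_subset_iff]
  by_contra haP3
  apply hne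
  have hd : (symmDiff P1 P2).card = 2 := by
    have := card_symmDiff_add P1 P2
    omega
  obtain ⟨b1, hb1⟩ := Finset.card_eq_one.mp h13
  obtain ⟨b2, hb2⟩ := Finset.card_eq_one.mp h23
  have m1 : b1 ∈ P1 ∧ b1 ∈ P3 := by
    have : b1 ∈ P1 ∩ P3 := by rw [hb1]; exact Finset.mem_singleton_self b1
    exact Finset.mem_inter.mp this
  have m2 : b2 ∈ P2 ∧ b2 ∈ P3 := by
    have : b2 ∈ P2 ∩ P3 := by rw [hb2]; exact Finset.mem_singleton_self b2
    exact Finset.mem_inter.mp this
  have n1 : b1 ∉ P2 := by
    intro h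
    have : b1 ∈ P1 ∩ P2 := Finset.mem_inter.mpr ⟨m1.1, h⟩
    rw [ha, Finset.mem_singleton] at this
    exact haP3 (this ▸ m1.2)
  have n2 : b2 ∉ P1 := by
    intro h
    have : b2 ∈ P1 ∩ P2 := Finset.mem_inter.mpr ⟨h, m2.1⟩
    rw [ha, Finset.mem_singleton] at this
    exact haP3 (this ▸ m2.2)
  have hb12 : b1 ≠ b2 := fun h => n1 (h ▸ m2.1)
  have hP3 : ({b1, b2} : Finset GolayPt) = P3 :=
    Finset.eq_of_subset_of_card_le
      (Finset.insert_subset_iff.mpr ⟨m1.2, Finset.singleton_subset_iff.mpr m2.2⟩)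
      (by rw [h3, Finset.card_pair hb12])
  rw [← hP3]
  apply Finset.eq_of_subset_of_card_le
  · intro z hz
    rw [Finset.mem_insert, Finset.mem_singleton] at hz
    rw [Finset.mem_symmDiff]
    rcases hz with rfl | rfl
    · exact Or.inl ⟨m1.1, n1⟩
    · exact Or.inr ⟨m2.1, n2⟩
  · rw [hd, Finset.card_pair hb12]

theorem exists_two_others : ∀ p : GolayPt, ∃ q1 q2 : GolayPt, q1 ≠ p ∧ q2 ≠ p ∧ q1 ≠ q2 := by
  decide +kernel

theorem exists_third : ∀ p q : GolayPt, ∃ r : GolayPt, p ≠ r ∧ q ≠ r := by
  decide +kernel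

/-! ### an incidence preserving map on pairs comes from a map on points -/

section Pairs

variable (y : ↥golayCode ≃ₗ[ZMod 2] ↥golayCode) (Φ : Finset GolayPt → Finset GolayPt)
  (hΦ : ∀ S : Finset GolayPt, S.card = 2 → (Φ S).card = 2 ∧ Rel y (bind S) (bind (Φ S)))

include hΦ

theorem phi_inj {S T : Finset GolayPt} (hS : S.card = 2) (hT : T.card = 2) (h : Φ S = Φ T) :
    S = T := by
  have r1 := (hΦ S hS).2
  have r2 := (hΦ T hT).2
  rw [← h] at r2
  apply bind_injective
  exact Rel.inj r1 r2 (by rw [hammingNorm_bind, hammingNorm_bind, hS, hT]; norm_num)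

theorem phi_symmDiff {S T : Finset GolayPt} (hS : S.card = 2) (hT : T.card = 2)
    (hST : (S ∩ T).card = 1) :
    symmDiff (Φ S) (Φ T) = Φ (symmDiff S T) ∧ (Φ S ∩ Φ T).card = 1 := by
  have hd : (symmDiff S T).card = 2 := by
    have := card_symmDiff_add S T
    omega
  have r1 := (hΦ S hS).2
  have r2 := (hΦ T hT).2
  have r3 := (hΦ _ hd).2
  have r12 := r1.add r2
  rw [← bind_symmDiff, ← bind_symmDiff] at r12
  have hd' := card_symmDiff_add (Φ S) (Φ T)
  rw [(hΦ S hS).1, (hΦ T hT).1] at hd'
  have e : bind (symmDiff (Φ S) (Φ T)) = bind (Φ (symmDiff S T)) :=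
    Rel.unique r12 r3 (by
      rw [hammingNorm_bind, hammingNorm_bind, (hΦ _ hd).1]
      omega)
  have e' := bind_injective e
  refine ⟨e', ?_⟩
  rw [e', (hΦ _ hd).1] at hd'
  omega

theorem star {p q1 q2 q3 : GolayPt} (h1 : q1 ≠ p) (h2 : q2 ≠ p) (h3 : q3 ≠ p) (h12 : q1 ≠ q2)
    (h13 : q1 ≠ q3) (h23 : q2 ≠ q3) : Φ {p, q1} ∩ Φ {p, q2} ⊆ Φ {p, q3} := by
  have c1 : ({p, q1} : Finset GolayPt).card = 2 := Finset.card_pair h1.symm
  have c2 : ({p, q2} : Finset GolayPt).card = 2 := Finset.card_pair h2.symm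
  have c3 : ({p, q3} : Finset GolayPt).card = 2 := Finset.card_pair h3.symm
  have m1 : p ∈ ({p, q1} : Finset GolayPt) := Finset.mem_insert_self _ _
  have m2 : p ∈ ({p, q2} : Finset GolayPt) := Finset.mem_insert_self _ _
  have m3 : p ∈ ({p, q3} : Finset GolayPt) := Finset.mem_insert_self _ _
  have i12 := inter_card_one c1 c2 (pair_ne h1 h12) m1 m2
  have i13 := inter_card_one c1 c3 (pair_ne h1 h13) m1 m3
  have i23 := inter_card_one c2 c3 (pair_ne h2 h23) m2 m3
  have s12 := phi_symmDiff y Φ hΦ c1 c2 i12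
  have s13 := phi_symmDiff y Φ hΦ c1 c3 i13
  have s23 := phi_symmDiff y Φ hΦ c2 c3 i23
  have hd : (symmDiff ({p, q1} : Finset GolayPt) {p, q2}).card = 2 := by
    have := card_symmDiff_add ({p, q1} : Finset GolayPt) {p, q2}
    omega
  apply common_point (hΦ _ c1).1 (hΦ _ c2).1 (hΦ _ c3).1 s12.2 s13.2 s23.2
  rw [s12.1]
  intro h
  have e := phi_inj y Φ hΦ c3 hd h
  have : p ∈ symmDiff ({p, q1} : Finset GolayPt) {p, q2} := by
    rw [← e]; exact m3
  rw [Finset.mem_symmDiff] at this
  rcases this with ⟨_, h⟩ | ⟨_, h⟩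
  · exact h m2
  · exact h m1

theorem exists_center (p : GolayPt) : ∃ a : GolayPt, ∀ q : GolayPt, q ≠ p → a ∈ Φ {p, q} := by
  obtain ⟨q1, q2, h1, h2, h12⟩ := exists_two_others p
  have c1 : ({p, q1} : Finset GolayPt).card = 2 := Finset.card_pair h1.symm
  have c2 : ({p, q2} : Finset GolayPt).card = 2 := Finset.card_pair h2.symm
  have m1 : p ∈ ({p, q1} : Finset GolayPt) := Finset.mem_insert_self _ _
  have m2 : p ∈ ({p, q2} : Finset GolayPt) := Finset.mem_insert_self _ _
  have i12 := inter_card_one c1 c2 (pair_ne h1 h12) m1 m2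
  have s12 := phi_symmDiff y Φ hΦ c1 c2 i12
  obtain ⟨a, ha⟩ := Finset.card_eq_one.mp s12.2
  have ha12 : a ∈ Φ {p, q1} ∩ Φ {p, q2} := by rw [ha]; exact Finset.mem_singleton_self a
  refine ⟨a, fun q hq => ?_⟩
  by_cases e1 : q = q1
  · subst e1; exact (Finset.mem_inter.mp ha12).1
  by_cases e2 : q = q2
  · subst e2; exact (Finset.mem_inter.mp ha12).2
  exact star y Φ hΦ h1 h2 hq h12 (Ne.symm e1) (Ne.symm e2) ha12

theorem exists_point_map :
    ∃ σ : GolayPt → GolayPt, Function.Injective σ ∧
      ∀ p q : GolayPt, p ≠ q → Φ {p, q} = {σ p, σ q} := by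
  choose σ hσ using exists_center y Φ hΦ
  have hinj : Function.Injective σ := by
    intro p q hpq
    by_contra hne
    obtain ⟨r, hpr, hqr⟩ := exists_third p q
    have cS : ({p, r} : Finset GolayPt).card = 2 := Finset.card_pair hpr
    have cT : ({q, r} : Finset GolayPt).card = 2 := Finset.card_pair hqr
    have hST : ({p, r} : Finset GolayPt) ≠ {q, r} := by
      intro h
      have : p ∈ ({q, r} : Finset GolayPt) := by
        rw [← h]; exact Finset.mem_insert_self p _
      rw [Finset.mem_insert, Finset.mem_singleton] at this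
      rcases this with h | h
      · exact hne h
      · exact hpr h
    have hi := inter_card_one cS cT hST
      (Finset.mem_insert_of_mem (Finset.mem_singleton_self r))
      (Finset.mem_insert_of_mem (Finset.mem_singleton_self r))
    have s := (phi_symmDiff y Φ hΦ cS cT hi).1
    rw [symmDiff_pair hne hpr hqr] at s
    have a1 : σ p ∈ Φ {p, r} := hσ p r (Ne.symm hpr)
    have a2 : σ p ∈ Φ {q, r} := by rw [hpq]; exact hσ q r (Ne.symm hqr)
    have a3 : σ p ∈ Φ {p, q} := hσ p q (Ne.symm hne)
    rw [← s, Finset.mem_symmDiff] at a3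
    rcases a3 with ⟨_, h⟩ | ⟨_, h⟩
    · exact h a2
    · exact h a1
  refine ⟨σ, hinj, fun p q hpq => ?_⟩
  have a1 : σ p ∈ Φ {p, q} := hσ p q (Ne.symm hpq)
  have a2 : σ q ∈ Φ {p, q} := by
    rw [Finset.pair_comm]; exact hσ q p hpq
  have hne : σ p ≠ σ q := fun h => hpq (hinj h)
  symm
  apply Finset.eq_of_subset_of_card_le
  · exact Finset.insert_subset_iff.mpr ⟨a1, Finset.singleton_subset_iff.mpr a2⟩
  · rw [(hΦ _ (Finset.card_pair hpq)).1, Finset.card_pair hne]

end Pairs

/-! ### the main theorem -/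

theorem zmod2_swap : ∀ A B C D : ZMod 2, A + B = C + D → A + C = B + D := by
  decide

theorem zmod2_solve : ∀ A B T : ZMod 2, A + B = T → A = B + T := by
  decide

theorem main (y : ↥golayCode ≃ₗ[ZMod 2] ↥golayCode) (hy1 : y oneC = oneC)
    (hy : OrbHyp y) (hy' : OrbHyp y.symm) :
    ∃ τ ∈ M24, ∀ c : ↥golayCode,
      ((y c : ↥golayCode) : GolayPt → ZMod 2) = permWord τ (c : GolayPt → ZMod 2) ∨
      ((y c : ↥golayCode) : GolayPt → ZMod 2) = permWord τ (c : GolayPt → ZMod 2) + 1 := by
  choose! Φ hΦ using exists_pair_image y hy1 hy hy'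
  obtain ⟨σ, hinj, hσ⟩ := exists_point_map y Φ hΦ
  have hbij : Function.Bijective σ := Finite.injective_iff_bijective.mp hinj
  -- the pair identity
  have hpair : ∀ p q : GolayPt, p ≠ q → ∀ c : ↥golayCode,
      ((y c : ↥golayCode) : GolayPt → ZMod 2) p + ((y c : ↥golayCode) : GolayPt → ZMod 2) q =
        (c : GolayPt → ZMod 2) (σ p) + (c : GolayPt → ZMod 2) (σ q) := by
    intro p q hpq c
    have r := (hΦ {p, q} (Finset.card_pair hpq)).2 c
    rw [hσ p q hpq, dotw_pair hpq, dotw_pair (fun h => hpq (hinj h))] at r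
    exact r
  -- the twist
  let θ : ↥golayCode → ZMod 2 := fun c =>
    ((y c : ↥golayCode) : GolayPt → ZMod 2) none + (c : GolayPt → ZMod 2) (σ none)
  have hθ : ∀ (c : ↥golayCode) (p : GolayPt),
      ((y c : ↥golayCode) : GolayPt → ZMod 2) p = (c : GolayPt → ZMod 2) (σ p) + θ c := by
    intro c p
    apply zmod2_solve
    by_cases hp : p = none
    · rw [hp]
    · exact zmod2_swap _ _ _ _ (hpair p none hp c)
  let τ : Equiv.Perm GolayPt := (Equiv.ofBijective σ hbij).symm
  have hτ : ∀ p, τ.symm p = σ p := fun p => rfl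
  have hword : ∀ c : ↥golayCode, ((y c : ↥golayCode) : GolayPt → ZMod 2) =
      permWord τ (c : GolayPt → ZMod 2) + fun _ => θ c := by
    intro c
    funext p
    rw [Pi.add_apply, permWord_apply, hτ]
    exact hθ c p
  have hτM : τ ∈ M24 := by
    apply mem_M24_of_comp_symm
    intro w hw
    have e := hword ⟨w, hw⟩
    have e2 : (fun i => w (τ.symm i)) = permWord τ w := rfl
    rw [e2]
    rcases zmod2_cases (θ ⟨w, hw⟩) with h0 | h1
    · rw [h0] at e
      have e3 : permWord τ w = ((y ⟨w, hw⟩ : ↥golayCode) : GolayPt → ZMod 2) := by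
        rw [e]
        funext p
        simp
      rw [e3]
      exact (y ⟨w, hw⟩).2
    · rw [h1] at e
      have e3 : permWord τ w = ((y ⟨w, hw⟩ : ↥golayCode) : GolayPt → ZMod 2) + 1 := by
        rw [e]
        funext p
        simp only [Pi.add_apply, Pi.one_apply]
        rw [add_assoc]
        have : (1 : ZMod 2) + 1 = 0 := by decide
        rw [this, add_zero]
      rw [e3]
      exact golayCode.add_mem (y ⟨w, hw⟩).2 golayCode_isGolayLike.one_mem
  refine ⟨τ, hτM, fun c => ?_⟩
  rcases zmod2_cases (θ c) with h0 | h1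
  · left
    rw [hword c, h0]
    funext p
    simp
  · right
    rw [hword c, h1]
    rfl

end GolayGL

end Cfsg.Agent.Lib.Helper28
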