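import Cfsg.Agent.Lib.Helper28.HSADefs

/-!
# Certificates for the automorphisms of the Higman–Sims group: the small checks

Generated by a script.
-/

set_option autoImplicit false
set_option Elab.async false

namespace Cfsg.Agent.Lib.Helper28.HSA

open Cfsg.Agent.Lib.Helper28.BSGS Cfsg.Agent.Lib.Helper28.HSAData
open Cfsg.Agent.Lib.Helper28.BSGSMat (Tree sortedB)

set_option maxRecDepth 1000000 in
theorem gens_ok : gensOK 100 7 GENS = true := by
  decide +kernel

set_option maxRecDepth 1000000 in
theorem size_ok : codeSize LEVELS = 44352000 := by
  decide +kernel

set_option maxRecDepth 1000000 in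
theorem slp_ok : slpOK [ta, tai, tb] SLP = true := by
  decide +kernel

set_option maxRecDepth 1000000 in
theorem pair_a : pairOK 100 7 ta tai = true := by
  decide +kernel

set_option maxRecDepth 1000000 in
theorem pair_b : pairOK 100 7 tb tb = true := by
  decide +kernel

set_option maxRecDepth 1000000 in
theorem pair_c : pairOK 100 7 tc tci = true := by
  decide +kernel

set_option maxRecDepth 1000000 in
theorem pair_s : pairOK 100 7 ts ts = true := by
  decide +kernel

set_option maxRecDepth 1000000 in
theorem pair_sbs : pairOK 100 7 tsbs tsbs = true := by
  decide +kernel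

set_option maxRecDepth 1000000 in
theorem aut_a : autOK ta = true := by
  decide +kernel

set_option maxRecDepth 1000000 in
theorem aut_b : autOK tb = true := by
  decide +kernel

set_option maxRecDepth 1000000 in
theorem aut_s : autOK ts = true := by
  decide +kernel

set_option maxRecDepth 1000000 in
theorem adj_symm : ∀ i j : Fin 100, adjB i.val j.val = adjB j.val i.val := by
  decide +kernel

set_option maxRecDepth 1000000 in
theorem adj_irrefl : ∀ i : Fin 100, adjB i.val i.val = false := by
  decide +kernel

set_option maxRecDepth 1000000 in
theorem rels_ok : RELS.all (relHolds ta tb) = true := by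
  decide +kernel

set_option maxRecDepth 1000000 in
theorem good_ok : (List.range 11).all goodOK = true := by
  decide +kernel

set_option maxRecDepth 1000000 in
theorem len_GOODL : GOODL.length = 11 := by
  decide +kernel

set_option maxRecDepth 1000000 in
theorem len_IV : IV.toList.length = 21175 := by
  decide +kernel

set_option maxRecDepth 1000000 in
theorem iv_sorted : sortedB (IV.toList.map fun e => e.1) = true := by
  decide +kernel

set_option maxRecDepth 1000000 in
theorem len_ST : ST.toList.length = 512 := by
  decide +kernel

set_option maxRecDepth 1000000 in
theorem st_sorted : sortedB (ST.toList.map fun e => e.1) = true := by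
  decide +kernel

set_option maxRecDepth 1000000 in
theorem c_conj : wordEq 100 7 [tc, ta, tci] [ta, ta, ta, ta] = true := by
  decide +kernel

set_option maxRecDepth 1000000 in
theorem s_conj : wordEq 100 7 [ts, ta, ts] [tai] = true := by
  decide +kernel

set_option maxRecDepth 1000000 in
theorem s_sq : wordId 100 7 [ts, ts] = true := by
  decide +kernel

set_option maxRecDepth 1000000 in
theorem s_ne : wordId 100 7 [ts] = false := by
  decide +kernel

set_option maxRecDepth 1000000 in
theorem sbs_eq : wordEq 100 7 [ts, tb, ts] [tsbs] = true := by
  decide +kernel

set_option maxRecDepth 1000000 in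
theorem a_pow : wordId 100 7 (List.replicate 11 ta) = true := by
  decide +kernel

set_option maxRecDepth 1000000 in
theorem a_ne : wordId 100 7 [ta] = false := by
  decide +kernel

set_option maxRecDepth 1000000 in
theorem b_sq : wordId 100 7 [tb, tb] = true := by
  decide +kernel

set_option maxRecDepth 1000000 in
theorem b_ne : wordId 100 7 [tb] = false := by
  decide +kernel

set_option maxRecDepth 1000000 in
theorem fix_s : fixCount ts = 6 := by
  decide +kernel

set_option maxRecDepth 1000000 in
theorem fix_a : ((List.range 100).filter fun i => Nat.beq (look 7 ta i) i) = [71] := by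
  decide +kernel

set_option maxRecDepth 1000000 in
theorem gens_slp : GENS.all (fun g => (g.1 == ta && g.2 == tai) || (g.1 == tb && g.2 == tb) || SLP.any (fun e => e.1 == g.1 && e.2.1 == g.2)) = true := by
  decide +kernel

set_option maxRecDepth 1000000 in
theorem gens_ab : (GENS.contains (ta, tai) && GENS.contains (tb, tb)) = true := by
  decide +kernel

set_option maxRecDepth 1000000 in
theorem known_ok : (tc :: tsbs :: SGL).all (fun t => (slpKnown [ta, tai, tb] SLP).contains t) = true := by
  decide +kernel

set_option maxRecDepth 1000000 in
theorem st_one : (ST.toList.any fun e => wordId 100 7 [e.2.1]) = true := by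
  decide +kernel

end Cfsg.Agent.Lib.Helper28.HSA
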