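import Cfsg.Agent.Lib.Helper28.HSACertC

/-!
# Certificates for the automorphisms of the Higman–Sims group: the table of involutions, part 1

Generated by a script.
-/

set_option autoImplicit false
set_option Elab.async false

namespace Cfsg.Agent.Lib.Helper28.HSA

open Cfsg.Agent.Lib.Helper28.BSGS Cfsg.Agent.Lib.Helper28.HSAData
open Cfsg.Agent.Lib.Helper28.BSGSMat (Tree sortedB)

set_option maxRecDepth 1000000 in
theorem hiv0_ok : ((hchunk 64 IV.toList 0).all ivOK) = true := by
  decide +kernel

set_option maxRecDepth 1000000 in
theorem hiv1_ok : ((hchunk 64 IV.toList 1).all ivOK) = true := by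
  decide +kernel

set_option maxRecDepth 1000000 in
theorem hiv2_ok : ((hchunk 64 IV.toList 2).all ivOK) = true := by
  decide +kernel

set_option maxRecDepth 1000000 in
theorem hiv3_ok : ((hchunk 64 IV.toList 3).all ivOK) = true := by
  decide +kernel

set_option maxRecDepth 1000000 in
theorem hiv4_ok : ((hchunk 64 IV.toList 4).all ivOK) = true := by
  decide +kernel

set_option maxRecDepth 1000000 in
theorem hiv5_ok : ((hchunk 64 IV.toList 5).all ivOK) = true := by
  decide +kernel

set_option maxRecDepth 1000000 in
theorem hiv6_ok : ((hchunk 64 IV.toList 6).all ivOK) = true := by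
  decide +kernel

set_option maxRecDepth 1000000 in
theorem hiv7_ok : ((hchunk 64 IV.toList 7).all ivOK) = true := by
  decide +kernel

set_option maxRecDepth 1000000 in
theorem hiv8_ok : ((hchunk 64 IV.toList 8).all ivOK) = true := by
  decide +kernel

set_option maxRecDepth 1000000 in
theorem hiv9_ok : ((hchunk 64 IV.toList 9).all ivOK) = true := by
  decide +kernel

set_option maxRecDepth 1000000 in
theorem hiv10_ok : ((hchunk 64 IV.toList 10).all ivOK) = true := by
  decide +kernel

set_option maxRecDepth 1000000 in
theorem hiv11_ok : ((hchunk 64 IV.toList 11).all ivOK) = true := by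
  decide +kernel

end Cfsg.Agent.Lib.Helper28.HSA
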