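import Cfsg.Agent.Lib.Helper28.HSACert9

/-!
# Certificates for the automorphisms of the Higman–Sims group: the table of involutions, part 10

Generated by a script.
-/

set_option autoImplicit false
set_option Elab.async false

namespace Cfsg.Agent.Lib.Helper28.HSA

open Cfsg.Agent.Lib.Helper28.BSGS Cfsg.Agent.Lib.Helper28.HSAData
open Cfsg.Agent.Lib.Helper28.BSGSMat (Tree sortedB)

set_option maxRecDepth 1000000 in
theorem hiv108_ok : ((hchunk 64 IV.toList 108).all ivOK) = true := by
  decide +kernel

set_option maxRecDepth 1000000 in
theorem hiv109_ok : ((hchunk 64 IV.toList 109).all ivOK) = true := by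
  decide +kernel

set_option maxRecDepth 1000000 in
theorem hiv110_ok : ((hchunk 64 IV.toList 110).all ivOK) = true := by
  decide +kernel

set_option maxRecDepth 1000000 in
theorem hiv111_ok : ((hchunk 64 IV.toList 111).all ivOK) = true := by
  decide +kernel

set_option maxRecDepth 1000000 in
theorem hiv112_ok : ((hchunk 64 IV.toList 112).all ivOK) = true := by
  decide +kernel

set_option maxRecDepth 1000000 in
theorem hiv113_ok : ((hchunk 64 IV.toList 113).all ivOK) = true := by
  decide +kernel

set_option maxRecDepth 1000000 in
theorem hiv114_ok : ((hchunk 64 IV.toList 114).all ivOK) = true := by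
  decide +kernel

set_option maxRecDepth 1000000 in
theorem hiv115_ok : ((hchunk 64 IV.toList 115).all ivOK) = true := by
  decide +kernel

set_option maxRecDepth 1000000 in
theorem hiv116_ok : ((hchunk 64 IV.toList 116).all ivOK) = true := by
  decide +kernel

set_option maxRecDepth 1000000 in
theorem hiv117_ok : ((hchunk 64 IV.toList 117).all ivOK) = true := by
  decide +kernel

set_option maxRecDepth 1000000 in
theorem hiv118_ok : ((hchunk 64 IV.toList 118).all ivOK) = true := by
  decide +kernel

set_option maxRecDepth 1000000 in
theorem hiv119_ok : ((hchunk 64 IV.toList 119).all ivOK) = true := by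
  decide +kernel

end Cfsg.Agent.Lib.Helper28.HSA
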