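import Cfsg.Agent.Lib.Helper28.HSACert12

/-!
# Certificates for the automorphisms of the Higman–Sims group: the table of involutions, part 13

Generated by a script.
-/

set_option autoImplicit false
set_option Elab.async false

namespace Cfsg.Agent.Lib.Helper28.HSA

open Cfsg.Agent.Lib.Helper28.BSGS Cfsg.Agent.Lib.Helper28.HSAData
open Cfsg.Agent.Lib.Helper28.BSGSMat (Tree sortedB)

set_option maxRecDepth 1000000 in
theorem hiv144_ok : ((hchunk 64 IV.toList 144).all ivOK) = true := by
  decide +kernel

set_option maxRecDepth 1000000 in
theorem hiv145_ok : ((hchunk 64 IV.toList 145).all ivOK) = true := by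
  decide +kernel

set_option maxRecDepth 1000000 in
theorem hiv146_ok : ((hchunk 64 IV.toList 146).all ivOK) = true := by
  decide +kernel

set_option maxRecDepth 1000000 in
theorem hiv147_ok : ((hchunk 64 IV.toList 147).all ivOK) = true := by
  decide +kernel

set_option maxRecDepth 1000000 in
theorem hiv148_ok : ((hchunk 64 IV.toList 148).all ivOK) = true := by
  decide +kernel

set_option maxRecDepth 1000000 in
theorem hiv149_ok : ((hchunk 64 IV.toList 149).all ivOK) = true := by
  decide +kernel

set_option maxRecDepth 1000000 in
theorem hiv150_ok : ((hchunk 64 IV.toList 150).all ivOK) = true := by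
  decide +kernel

set_option maxRecDepth 1000000 in
theorem hiv151_ok : ((hchunk 64 IV.toList 151).all ivOK) = true := by
  decide +kernel

set_option maxRecDepth 1000000 in
theorem hiv152_ok : ((hchunk 64 IV.toList 152).all ivOK) = true := by
  decide +kernel

set_option maxRecDepth 1000000 in
theorem hiv153_ok : ((hchunk 64 IV.toList 153).all ivOK) = true := by
  decide +kernel

set_option maxRecDepth 1000000 in
theorem hiv154_ok : ((hchunk 64 IV.toList 154).all ivOK) = true := by
  decide +kernel

set_option maxRecDepth 1000000 in
theorem hiv155_ok : ((hchunk 64 IV.toList 155).all ivOK) = true := by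
  decide +kernel

end Cfsg.Agent.Lib.Helper28.HSA
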