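import Cfsg.Agent.Lib.Helper28.HSACert13

/-!
# Certificates for the automorphisms of the Higman–Sims group: the table of involutions, part 14

Generated by a script.
-/

set_option autoImplicit false
set_option Elab.async false

namespace Cfsg.Agent.Lib.Helper28.HSA

open Cfsg.Agent.Lib.Helper28.BSGS Cfsg.Agent.Lib.Helper28.HSAData
open Cfsg.Agent.Lib.Helper28.BSGSMat (Tree sortedB)

set_option maxRecDepth 1000000 in
theorem hiv156_ok : ((hchunk 64 IV.toList 156).all ivOK) = true := by
  decide +kernel

set_option maxRecDepth 1000000 in
theorem hiv157_ok : ((hchunk 64 IV.toList 157).all ivOK) = true := by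
  decide +kernel

set_option maxRecDepth 1000000 in
theorem hiv158_ok : ((hchunk 64 IV.toList 158).all ivOK) = true := by
  decide +kernel

set_option maxRecDepth 1000000 in
theorem hiv159_ok : ((hchunk 64 IV.toList 159).all ivOK) = true := by
  decide +kernel

set_option maxRecDepth 1000000 in
theorem hiv160_ok : ((hchunk 64 IV.toList 160).all ivOK) = true := by
  decide +kernel

set_option maxRecDepth 1000000 in
theorem hiv161_ok : ((hchunk 64 IV.toList 161).all ivOK) = true := by
  decide +kernel

set_option maxRecDepth 1000000 in
theorem hiv162_ok : ((hchunk 64 IV.toList 162).all ivOK) = true := by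
  decide +kernel

set_option maxRecDepth 1000000 in
theorem hiv163_ok : ((hchunk 64 IV.toList 163).all ivOK) = true := by
  decide +kernel

set_option maxRecDepth 1000000 in
theorem hiv164_ok : ((hchunk 64 IV.toList 164).all ivOK) = true := by
  decide +kernel

set_option maxRecDepth 1000000 in
theorem hiv165_ok : ((hchunk 64 IV.toList 165).all ivOK) = true := by
  decide +kernel

set_option maxRecDepth 1000000 in
theorem hiv166_ok : ((hchunk 64 IV.toList 166).all ivOK) = true := by
  decide +kernel

set_option maxRecDepth 1000000 in
theorem hiv167_ok : ((hchunk 64 IV.toList 167).all ivOK) = true := by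
  decide +kernel

end Cfsg.Agent.Lib.Helper28.HSA
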