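import Cfsg.Agent.Lib.Helper28.HSACert15

/-!
# Certificates for the automorphisms of the Higman–Sims group: the table of involutions, part 16

Generated by a script.
-/

set_option autoImplicit false
set_option Elab.async false

namespace Cfsg.Agent.Lib.Helper28.HSA

open Cfsg.Agent.Lib.Helper28.BSGS Cfsg.Agent.Lib.Helper28.HSAData
open Cfsg.Agent.Lib.Helper28.BSGSMat (Tree sortedB)

set_option maxRecDepth 1000000 in
theorem hiv180_ok : ((hchunk 64 IV.toList 180).all ivOK) = true := by
  decide +kernel

set_option maxRecDepth 1000000 in
theorem hiv181_ok : ((hchunk 64 IV.toList 181).all ivOK) = true := by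
  decide +kernel

set_option maxRecDepth 1000000 in
theorem hiv182_ok : ((hchunk 64 IV.toList 182).all ivOK) = true := by
  decide +kernel

set_option maxRecDepth 1000000 in
theorem hiv183_ok : ((hchunk 64 IV.toList 183).all ivOK) = true := by
  decide +kernel

set_option maxRecDepth 1000000 in
theorem hiv184_ok : ((hchunk 64 IV.toList 184).all ivOK) = true := by
  decide +kernel

set_option maxRecDepth 1000000 in
theorem hiv185_ok : ((hchunk 64 IV.toList 185).all ivOK) = true := by
  decide +kernel

set_option maxRecDepth 1000000 in
theorem hiv186_ok : ((hchunk 64 IV.toList 186).all ivOK) = true := by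
  decide +kernel

set_option maxRecDepth 1000000 in
theorem hiv187_ok : ((hchunk 64 IV.toList 187).all ivOK) = true := by
  decide +kernel

set_option maxRecDepth 1000000 in
theorem hiv188_ok : ((hchunk 64 IV.toList 188).all ivOK) = true := by
  decide +kernel

set_option maxRecDepth 1000000 in
theorem hiv189_ok : ((hchunk 64 IV.toList 189).all ivOK) = true := by
  decide +kernel

set_option maxRecDepth 1000000 in
theorem hiv190_ok : ((hchunk 64 IV.toList 190).all ivOK) = true := by
  decide +kernel

set_option maxRecDepth 1000000 in
theorem hiv191_ok : ((hchunk 64 IV.toList 191).all ivOK) = true := by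
  decide +kernel

end Cfsg.Agent.Lib.Helper28.HSA
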