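import Cfsg.Agent.Lib.Helper28.HSACert18

/-!
# Certificates for the automorphisms of the Higman–Sims group: the table of involutions, part 19

Generated by a script.
-/

set_option autoImplicit false
set_option Elab.async false

namespace Cfsg.Agent.Lib.Helper28.HSA

open Cfsg.Agent.Lib.Helper28.BSGS Cfsg.Agent.Lib.Helper28.HSAData
open Cfsg.Agent.Lib.Helper28.BSGSMat (Tree sortedB)

set_option maxRecDepth 1000000 in
theorem hiv216_ok : ((hchunk 64 IV.toList 216).all ivOK) = true := by
  decide +kernel

set_option maxRecDepth 1000000 in
theorem hiv217_ok : ((hchunk 64 IV.toList 217).all ivOK) = true := by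
  decide +kernel

set_option maxRecDepth 1000000 in
theorem hiv218_ok : ((hchunk 64 IV.toList 218).all ivOK) = true := by
  decide +kernel

set_option maxRecDepth 1000000 in
theorem hiv219_ok : ((hchunk 64 IV.toList 219).all ivOK) = true := by
  decide +kernel

set_option maxRecDepth 1000000 in
theorem hiv220_ok : ((hchunk 64 IV.toList 220).all ivOK) = true := by
  decide +kernel

set_option maxRecDepth 1000000 in
theorem hiv221_ok : ((hchunk 64 IV.toList 221).all ivOK) = true := by
  decide +kernel

set_option maxRecDepth 1000000 in
theorem hiv222_ok : ((hchunk 64 IV.toList 222).all ivOK) = true := by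
  decide +kernel

set_option maxRecDepth 1000000 in
theorem hiv223_ok : ((hchunk 64 IV.toList 223).all ivOK) = true := by
  decide +kernel

set_option maxRecDepth 1000000 in
theorem hiv224_ok : ((hchunk 64 IV.toList 224).all ivOK) = true := by
  decide +kernel

set_option maxRecDepth 1000000 in
theorem hiv225_ok : ((hchunk 64 IV.toList 225).all ivOK) = true := by
  decide +kernel

set_option maxRecDepth 1000000 in
theorem hiv226_ok : ((hchunk 64 IV.toList 226).all ivOK) = true := by
  decide +kernel

set_option maxRecDepth 1000000 in
theorem hiv227_ok : ((hchunk 64 IV.toList 227).all ivOK) = true := by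
  decide +kernel

end Cfsg.Agent.Lib.Helper28.HSA
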