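import Cfsg.Agent.Lib.Helper28.HSACert1

/-!
# Certificates for the automorphisms of the Higman–Sims group: the table of involutions, part 2

Generated by a script.
-/

set_option autoImplicit false
set_option Elab.async false

namespace Cfsg.Agent.Lib.Helper28.HSA

open Cfsg.Agent.Lib.Helper28.BSGS Cfsg.Agent.Lib.Helper28.HSAData
open Cfsg.Agent.Lib.Helper28.BSGSMat (Tree sortedB)

set_option maxRecDepth 1000000 in
theorem hiv12_ok : ((hchunk 64 IV.toList 12).all ivOK) = true := by
  decide +kernel

set_option maxRecDepth 1000000 in
theorem hiv13_ok : ((hchunk 64 IV.toList 13).all ivOK) = true := by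
  decide +kernel

set_option maxRecDepth 1000000 in
theorem hiv14_ok : ((hchunk 64 IV.toList 14).all ivOK) = true := by
  decide +kernel

set_option maxRecDepth 1000000 in
theorem hiv15_ok : ((hchunk 64 IV.toList 15).all ivOK) = true := by
  decide +kernel

set_option maxRecDepth 1000000 in
theorem hiv16_ok : ((hchunk 64 IV.toList 16).all ivOK) = true := by
  decide +kernel

set_option maxRecDepth 1000000 in
theorem hiv17_ok : ((hchunk 64 IV.toList 17).all ivOK) = true := by
  decide +kernel

set_option maxRecDepth 1000000 in
theorem hiv18_ok : ((hchunk 64 IV.toList 18).all ivOK) = true := by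
  decide +kernel

set_option maxRecDepth 1000000 in
theorem hiv19_ok : ((hchunk 64 IV.toList 19).all ivOK) = true := by
  decide +kernel

set_option maxRecDepth 1000000 in
theorem hiv20_ok : ((hchunk 64 IV.toList 20).all ivOK) = true := by
  decide +kernel

set_option maxRecDepth 1000000 in
theorem hiv21_ok : ((hchunk 64 IV.toList 21).all ivOK) = true := by
  decide +kernel

set_option maxRecDepth 1000000 in
theorem hiv22_ok : ((hchunk 64 IV.toList 22).all ivOK) = true := by
  decide +kernel

set_option maxRecDepth 1000000 in
theorem hiv23_ok : ((hchunk 64 IV.toList 23).all ivOK) = true := by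
  decide +kernel

end Cfsg.Agent.Lib.Helper28.HSA
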