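import Cfsg.Agent.Lib.Helper28.HSACert19

/-!
# Certificates for the automorphisms of the Higman–Sims group: the table of involutions, part 20

Generated by a script.
-/

set_option autoImplicit false
set_option Elab.async false

namespace Cfsg.Agent.Lib.Helper28.HSA

open Cfsg.Agent.Lib.Helper28.BSGS Cfsg.Agent.Lib.Helper28.HSAData
open Cfsg.Agent.Lib.Helper28.BSGSMat (Tree sortedB)

set_option maxRecDepth 1000000 in
theorem hiv228_ok : ((hchunk 64 IV.toList 228).all ivOK) = true := by
  decide +kernel

set_option maxRecDepth 1000000 in
theorem hiv229_ok : ((hchunk 64 IV.toList 229).all ivOK) = true := by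
  decide +kernel

set_option maxRecDepth 1000000 in
theorem hiv230_ok : ((hchunk 64 IV.toList 230).all ivOK) = true := by
  decide +kernel

set_option maxRecDepth 1000000 in
theorem hiv231_ok : ((hchunk 64 IV.toList 231).all ivOK) = true := by
  decide +kernel

set_option maxRecDepth 1000000 in
theorem hiv232_ok : ((hchunk 64 IV.toList 232).all ivOK) = true := by
  decide +kernel

set_option maxRecDepth 1000000 in
theorem hiv233_ok : ((hchunk 64 IV.toList 233).all ivOK) = true := by
  decide +kernel

set_option maxRecDepth 1000000 in
theorem hiv234_ok : ((hchunk 64 IV.toList 234).all ivOK) = true := by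
  decide +kernel

set_option maxRecDepth 1000000 in
theorem hiv235_ok : ((hchunk 64 IV.toList 235).all ivOK) = true := by
  decide +kernel

set_option maxRecDepth 1000000 in
theorem hiv236_ok : ((hchunk 64 IV.toList 236).all ivOK) = true := by
  decide +kernel

set_option maxRecDepth 1000000 in
theorem hiv237_ok : ((hchunk 64 IV.toList 237).all ivOK) = true := by
  decide +kernel

set_option maxRecDepth 1000000 in
theorem hiv238_ok : ((hchunk 64 IV.toList 238).all ivOK) = true := by
  decide +kernel

set_option maxRecDepth 1000000 in
theorem hiv239_ok : ((hchunk 64 IV.toList 239).all ivOK) = true := by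
  decide +kernel

end Cfsg.Agent.Lib.Helper28.HSA
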