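import Cfsg.Agent.Lib.Helper28.HSACert21

/-!
# Certificates for the automorphisms of the Higman–Sims group: the table of involutions, part 22

Generated by a script.
-/

set_option autoImplicit false
set_option Elab.async false

namespace Cfsg.Agent.Lib.Helper28.HSA

open Cfsg.Agent.Lib.Helper28.BSGS Cfsg.Agent.Lib.Helper28.HSAData
open Cfsg.Agent.Lib.Helper28.BSGSMat (Tree sortedB)

set_option maxRecDepth 1000000 in
theorem hiv252_ok : ((hchunk 64 IV.toList 252).all ivOK) = true := by
  decide +kernel

set_option maxRecDepth 1000000 in
theorem hiv253_ok : ((hchunk 64 IV.toList 253).all ivOK) = true := by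
  decide +kernel

set_option maxRecDepth 1000000 in
theorem hiv254_ok : ((hchunk 64 IV.toList 254).all ivOK) = true := by
  decide +kernel

set_option maxRecDepth 1000000 in
theorem hiv255_ok : ((hchunk 64 IV.toList 255).all ivOK) = true := by
  decide +kernel

set_option maxRecDepth 1000000 in
theorem hiv256_ok : ((hchunk 64 IV.toList 256).all ivOK) = true := by
  decide +kernel

set_option maxRecDepth 1000000 in
theorem hiv257_ok : ((hchunk 64 IV.toList 257).all ivOK) = true := by
  decide +kernel

set_option maxRecDepth 1000000 in
theorem hiv258_ok : ((hchunk 64 IV.toList 258).all ivOK) = true := by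
  decide +kernel

set_option maxRecDepth 1000000 in
theorem hiv259_ok : ((hchunk 64 IV.toList 259).all ivOK) = true := by
  decide +kernel

set_option maxRecDepth 1000000 in
theorem hiv260_ok : ((hchunk 64 IV.toList 260).all ivOK) = true := by
  decide +kernel

set_option maxRecDepth 1000000 in
theorem hiv261_ok : ((hchunk 64 IV.toList 261).all ivOK) = true := by
  decide +kernel

set_option maxRecDepth 1000000 in
theorem hiv262_ok : ((hchunk 64 IV.toList 262).all ivOK) = true := by
  decide +kernel

set_option maxRecDepth 1000000 in
theorem hiv263_ok : ((hchunk 64 IV.toList 263).all ivOK) = true := by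
  decide +kernel

end Cfsg.Agent.Lib.Helper28.HSA
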