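import Cfsg.Agent.Lib.Helper28.HSACert22

/-!
# Certificates for the automorphisms of the Higman–Sims group: the table of involutions, part 23

Generated by a script.
-/

set_option autoImplicit false
set_option Elab.async false

namespace Cfsg.Agent.Lib.Helper28.HSA

open Cfsg.Agent.Lib.Helper28.BSGS Cfsg.Agent.Lib.Helper28.HSAData
open Cfsg.Agent.Lib.Helper28.BSGSMat (Tree sortedB)

set_option maxRecDepth 1000000 in
theorem hiv264_ok : ((hchunk 64 IV.toList 264).all ivOK) = true := by
  decide +kernel

set_option maxRecDepth 1000000 in
theorem hiv265_ok : ((hchunk 64 IV.toList 265).all ivOK) = true := by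
  decide +kernel

set_option maxRecDepth 1000000 in
theorem hiv266_ok : ((hchunk 64 IV.toList 266).all ivOK) = true := by
  decide +kernel

set_option maxRecDepth 1000000 in
theorem hiv267_ok : ((hchunk 64 IV.toList 267).all ivOK) = true := by
  decide +kernel

set_option maxRecDepth 1000000 in
theorem hiv268_ok : ((hchunk 64 IV.toList 268).all ivOK) = true := by
  decide +kernel

set_option maxRecDepth 1000000 in
theorem hiv269_ok : ((hchunk 64 IV.toList 269).all ivOK) = true := by
  decide +kernel

set_option maxRecDepth 1000000 in
theorem hiv270_ok : ((hchunk 64 IV.toList 270).all ivOK) = true := by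
  decide +kernel

set_option maxRecDepth 1000000 in
theorem hiv271_ok : ((hchunk 64 IV.toList 271).all ivOK) = true := by
  decide +kernel

set_option maxRecDepth 1000000 in
theorem hiv272_ok : ((hchunk 64 IV.toList 272).all ivOK) = true := by
  decide +kernel

set_option maxRecDepth 1000000 in
theorem hiv273_ok : ((hchunk 64 IV.toList 273).all ivOK) = true := by
  decide +kernel

set_option maxRecDepth 1000000 in
theorem hiv274_ok : ((hchunk 64 IV.toList 274).all ivOK) = true := by
  decide +kernel

set_option maxRecDepth 1000000 in
theorem hiv275_ok : ((hchunk 64 IV.toList 275).all ivOK) = true := by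
  decide +kernel

end Cfsg.Agent.Lib.Helper28.HSA
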