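import Cfsg.Agent.Lib.Helper28.HSACert24

/-!
# Certificates for the automorphisms of the Higman–Sims group: the table of involutions, part 25

Generated by a script.
-/

set_option autoImplicit false
set_option Elab.async false

namespace Cfsg.Agent.Lib.Helper28.HSA

open Cfsg.Agent.Lib.Helper28.BSGS Cfsg.Agent.Lib.Helper28.HSAData
open Cfsg.Agent.Lib.Helper28.BSGSMat (Tree sortedB)

set_option maxRecDepth 1000000 in
theorem hiv288_ok : ((hchunk 64 IV.toList 288).all ivOK) = true := by
  decide +kernel

set_option maxRecDepth 1000000 in
theorem hiv289_ok : ((hchunk 64 IV.toList 289).all ivOK) = true := by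
  decide +kernel

set_option maxRecDepth 1000000 in
theorem hiv290_ok : ((hchunk 64 IV.toList 290).all ivOK) = true := by
  decide +kernel

set_option maxRecDepth 1000000 in
theorem hiv291_ok : ((hchunk 64 IV.toList 291).all ivOK) = true := by
  decide +kernel

set_option maxRecDepth 1000000 in
theorem hiv292_ok : ((hchunk 64 IV.toList 292).all ivOK) = true := by
  decide +kernel

set_option maxRecDepth 1000000 in
theorem hiv293_ok : ((hchunk 64 IV.toList 293).all ivOK) = true := by
  decide +kernel

set_option maxRecDepth 1000000 in
theorem hiv294_ok : ((hchunk 64 IV.toList 294).all ivOK) = true := by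
  decide +kernel

set_option maxRecDepth 1000000 in
theorem hiv295_ok : ((hchunk 64 IV.toList 295).all ivOK) = true := by
  decide +kernel

set_option maxRecDepth 1000000 in
theorem hiv296_ok : ((hchunk 64 IV.toList 296).all ivOK) = true := by
  decide +kernel

set_option maxRecDepth 1000000 in
theorem hiv297_ok : ((hchunk 64 IV.toList 297).all ivOK) = true := by
  decide +kernel

set_option maxRecDepth 1000000 in
theorem hiv298_ok : ((hchunk 64 IV.toList 298).all ivOK) = true := by
  decide +kernel

set_option maxRecDepth 1000000 in
theorem hiv299_ok : ((hchunk 64 IV.toList 299).all ivOK) = true := by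
  decide +kernel

end Cfsg.Agent.Lib.Helper28.HSA
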