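import Cfsg.Agent.Lib.Helper28.HSACert26

/-!
# Certificates for the automorphisms of the Higman–Sims group: the table of involutions, part 27

Generated by a script.
-/

set_option autoImplicit false
set_option Elab.async false

namespace Cfsg.Agent.Lib.Helper28.HSA

open Cfsg.Agent.Lib.Helper28.BSGS Cfsg.Agent.Lib.Helper28.HSAData
open Cfsg.Agent.Lib.Helper28.BSGSMat (Tree sortedB)

set_option maxRecDepth 1000000 in
theorem hiv312_ok : ((hchunk 64 IV.toList 312).all ivOK) = true := by
  decide +kernel

set_option maxRecDepth 1000000 in
theorem hiv313_ok : ((hchunk 64 IV.toList 313).all ivOK) = true := by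
  decide +kernel

set_option maxRecDepth 1000000 in
theorem hiv314_ok : ((hchunk 64 IV.toList 314).all ivOK) = true := by
  decide +kernel

set_option maxRecDepth 1000000 in
theorem hiv315_ok : ((hchunk 64 IV.toList 315).all ivOK) = true := by
  decide +kernel

set_option maxRecDepth 1000000 in
theorem hiv316_ok : ((hchunk 64 IV.toList 316).all ivOK) = true := by
  decide +kernel

set_option maxRecDepth 1000000 in
theorem hiv317_ok : ((hchunk 64 IV.toList 317).all ivOK) = true := by
  decide +kernel

set_option maxRecDepth 1000000 in
theorem hiv318_ok : ((hchunk 64 IV.toList 318).all ivOK) = true := by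
  decide +kernel

set_option maxRecDepth 1000000 in
theorem hiv319_ok : ((hchunk 64 IV.toList 319).all ivOK) = true := by
  decide +kernel

set_option maxRecDepth 1000000 in
theorem hiv320_ok : ((hchunk 64 IV.toList 320).all ivOK) = true := by
  decide +kernel

set_option maxRecDepth 1000000 in
theorem hiv321_ok : ((hchunk 64 IV.toList 321).all ivOK) = true := by
  decide +kernel

set_option maxRecDepth 1000000 in
theorem hiv322_ok : ((hchunk 64 IV.toList 322).all ivOK) = true := by
  decide +kernel

set_option maxRecDepth 1000000 in
theorem hiv323_ok : ((hchunk 64 IV.toList 323).all ivOK) = true := by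
  decide +kernel

end Cfsg.Agent.Lib.Helper28.HSA
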