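import Cfsg.Agent.Lib.Helper28.HSACert27

/-!
# Certificates for the automorphisms of the Higman–Sims group: the table of involutions, part 28

Generated by a script.
-/

set_option autoImplicit false
set_option Elab.async false

namespace Cfsg.Agent.Lib.Helper28.HSA

open Cfsg.Agent.Lib.Helper28.BSGS Cfsg.Agent.Lib.Helper28.HSAData
open Cfsg.Agent.Lib.Helper28.BSGSMat (Tree sortedB)

set_option maxRecDepth 1000000 in
theorem hiv324_ok : ((hchunk 64 IV.toList 324).all ivOK) = true := by
  decide +kernel

set_option maxRecDepth 1000000 in
theorem hiv325_ok : ((hchunk 64 IV.toList 325).all ivOK) = true := by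
  decide +kernel

set_option maxRecDepth 1000000 in
theorem hiv326_ok : ((hchunk 64 IV.toList 326).all ivOK) = true := by
  decide +kernel

set_option maxRecDepth 1000000 in
theorem hiv327_ok : ((hchunk 64 IV.toList 327).all ivOK) = true := by
  decide +kernel

set_option maxRecDepth 1000000 in
theorem hiv328_ok : ((hchunk 64 IV.toList 328).all ivOK) = true := by
  decide +kernel

set_option maxRecDepth 1000000 in
theorem hiv329_ok : ((hchunk 64 IV.toList 329).all ivOK) = true := by
  decide +kernel

set_option maxRecDepth 1000000 in
theorem hiv330_ok : ((hchunk 64 IV.toList 330).all ivOK) = true := by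
  decide +kernel

end Cfsg.Agent.Lib.Helper28.HSA
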