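import Cfsg.Agent.Lib.Helper28.HSACert2

/-!
# Certificates for the automorphisms of the Higman–Sims group: the table of involutions, part 3

Generated by a script.
-/

set_option autoImplicit false
set_option Elab.async false

namespace Cfsg.Agent.Lib.Helper28.HSA

open Cfsg.Agent.Lib.Helper28.BSGS Cfsg.Agent.Lib.Helper28.HSAData
open Cfsg.Agent.Lib.Helper28.BSGSMat (Tree sortedB)

set_option maxRecDepth 1000000 in
theorem hiv24_ok : ((hchunk 64 IV.toList 24).all ivOK) = true := by
  decide +kernel

set_option maxRecDepth 1000000 in
theorem hiv25_ok : ((hchunk 64 IV.toList 25).all ivOK) = true := by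
  decide +kernel

set_option maxRecDepth 1000000 in
theorem hiv26_ok : ((hchunk 64 IV.toList 26).all ivOK) = true := by
  decide +kernel

set_option maxRecDepth 1000000 in
theorem hiv27_ok : ((hchunk 64 IV.toList 27).all ivOK) = true := by
  decide +kernel

set_option maxRecDepth 1000000 in
theorem hiv28_ok : ((hchunk 64 IV.toList 28).all ivOK) = true := by
  decide +kernel

set_option maxRecDepth 1000000 in
theorem hiv29_ok : ((hchunk 64 IV.toList 29).all ivOK) = true := by
  decide +kernel

set_option maxRecDepth 1000000 in
theorem hiv30_ok : ((hchunk 64 IV.toList 30).all ivOK) = true := by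
  decide +kernel

set_option maxRecDepth 1000000 in
theorem hiv31_ok : ((hchunk 64 IV.toList 31).all ivOK) = true := by
  decide +kernel

set_option maxRecDepth 1000000 in
theorem hiv32_ok : ((hchunk 64 IV.toList 32).all ivOK) = true := by
  decide +kernel

set_option maxRecDepth 1000000 in
theorem hiv33_ok : ((hchunk 64 IV.toList 33).all ivOK) = true := by
  decide +kernel

set_option maxRecDepth 1000000 in
theorem hiv34_ok : ((hchunk 64 IV.toList 34).all ivOK) = true := by
  decide +kernel

set_option maxRecDepth 1000000 in
theorem hiv35_ok : ((hchunk 64 IV.toList 35).all ivOK) = true := by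
  decide +kernel

end Cfsg.Agent.Lib.Helper28.HSA
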