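import Cfsg.Agent.Lib.Helper28.HSACert3

/-!
# Certificates for the automorphisms of the Higman–Sims group: the table of involutions, part 4

Generated by a script.
-/

set_option autoImplicit false
set_option Elab.async false

namespace Cfsg.Agent.Lib.Helper28.HSA

open Cfsg.Agent.Lib.Helper28.BSGS Cfsg.Agent.Lib.Helper28.HSAData
open Cfsg.Agent.Lib.Helper28.BSGSMat (Tree sortedB)

set_option maxRecDepth 1000000 in
theorem hiv36_ok : ((hchunk 64 IV.toList 36).all ivOK) = true := by
  decide +kernel

set_option maxRecDepth 1000000 in
theorem hiv37_ok : ((hchunk 64 IV.toList 37).all ivOK) = true := by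
  decide +kernel

set_option maxRecDepth 1000000 in
theorem hiv38_ok : ((hchunk 64 IV.toList 38).all ivOK) = true := by
  decide +kernel

set_option maxRecDepth 1000000 in
theorem hiv39_ok : ((hchunk 64 IV.toList 39).all ivOK) = true := by
  decide +kernel

set_option maxRecDepth 1000000 in
theorem hiv40_ok : ((hchunk 64 IV.toList 40).all ivOK) = true := by
  decide +kernel

set_option maxRecDepth 1000000 in
theorem hiv41_ok : ((hchunk 64 IV.toList 41).all ivOK) = true := by
  decide +kernel

set_option maxRecDepth 1000000 in
theorem hiv42_ok : ((hchunk 64 IV.toList 42).all ivOK) = true := by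
  decide +kernel

set_option maxRecDepth 1000000 in
theorem hiv43_ok : ((hchunk 64 IV.toList 43).all ivOK) = true := by
  decide +kernel

set_option maxRecDepth 1000000 in
theorem hiv44_ok : ((hchunk 64 IV.toList 44).all ivOK) = true := by
  decide +kernel

set_option maxRecDepth 1000000 in
theorem hiv45_ok : ((hchunk 64 IV.toList 45).all ivOK) = true := by
  decide +kernel

set_option maxRecDepth 1000000 in
theorem hiv46_ok : ((hchunk 64 IV.toList 46).all ivOK) = true := by
  decide +kernel

set_option maxRecDepth 1000000 in
theorem hiv47_ok : ((hchunk 64 IV.toList 47).all ivOK) = true := by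
  decide +kernel

end Cfsg.Agent.Lib.Helper28.HSA
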