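import Cfsg.Agent.Lib.Helper28.HSACert6

/-!
# Certificates for the automorphisms of the Higman–Sims group: the table of involutions, part 7

Generated by a script.
-/

set_option autoImplicit false
set_option Elab.async false

namespace Cfsg.Agent.Lib.Helper28.HSA

open Cfsg.Agent.Lib.Helper28.BSGS Cfsg.Agent.Lib.Helper28.HSAData
open Cfsg.Agent.Lib.Helper28.BSGSMat (Tree sortedB)

set_option maxRecDepth 1000000 in
theorem hiv72_ok : ((hchunk 64 IV.toList 72).all ivOK) = true := by
  decide +kernel

set_option maxRecDepth 1000000 in
theorem hiv73_ok : ((hchunk 64 IV.toList 73).all ivOK) = true := by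
  decide +kernel

set_option maxRecDepth 1000000 in
theorem hiv74_ok : ((hchunk 64 IV.toList 74).all ivOK) = true := by
  decide +kernel

set_option maxRecDepth 1000000 in
theorem hiv75_ok : ((hchunk 64 IV.toList 75).all ivOK) = true := by
  decide +kernel

set_option maxRecDepth 1000000 in
theorem hiv76_ok : ((hchunk 64 IV.toList 76).all ivOK) = true := by
  decide +kernel

set_option maxRecDepth 1000000 in
theorem hiv77_ok : ((hchunk 64 IV.toList 77).all ivOK) = true := by
  decide +kernel

set_option maxRecDepth 1000000 in
theorem hiv78_ok : ((hchunk 64 IV.toList 78).all ivOK) = true := by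
  decide +kernel

set_option maxRecDepth 1000000 in
theorem hiv79_ok : ((hchunk 64 IV.toList 79).all ivOK) = true := by
  decide +kernel

set_option maxRecDepth 1000000 in
theorem hiv80_ok : ((hchunk 64 IV.toList 80).all ivOK) = true := by
  decide +kernel

set_option maxRecDepth 1000000 in
theorem hiv81_ok : ((hchunk 64 IV.toList 81).all ivOK) = true := by
  decide +kernel

set_option maxRecDepth 1000000 in
theorem hiv82_ok : ((hchunk 64 IV.toList 82).all ivOK) = true := by
  decide +kernel

set_option maxRecDepth 1000000 in
theorem hiv83_ok : ((hchunk 64 IV.toList 83).all ivOK) = true := by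
  decide +kernel

end Cfsg.Agent.Lib.Helper28.HSA
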