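import Cfsg.Agent.Lib.Helper28.HSACert7

/-!
# Certificates for the automorphisms of the Higman–Sims group: the table of involutions, part 8

Generated by a script.
-/

set_option autoImplicit false
set_option Elab.async false

namespace Cfsg.Agent.Lib.Helper28.HSA

open Cfsg.Agent.Lib.Helper28.BSGS Cfsg.Agent.Lib.Helper28.HSAData
open Cfsg.Agent.Lib.Helper28.BSGSMat (Tree sortedB)

set_option maxRecDepth 1000000 in
theorem hiv84_ok : ((hchunk 64 IV.toList 84).all ivOK) = true := by
  decide +kernel

set_option maxRecDepth 1000000 in
theorem hiv85_ok : ((hchunk 64 IV.toList 85).all ivOK) = true := by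
  decide +kernel

set_option maxRecDepth 1000000 in
theorem hiv86_ok : ((hchunk 64 IV.toList 86).all ivOK) = true := by
  decide +kernel

set_option maxRecDepth 1000000 in
theorem hiv87_ok : ((hchunk 64 IV.toList 87).all ivOK) = true := by
  decide +kernel

set_option maxRecDepth 1000000 in
theorem hiv88_ok : ((hchunk 64 IV.toList 88).all ivOK) = true := by
  decide +kernel

set_option maxRecDepth 1000000 in
theorem hiv89_ok : ((hchunk 64 IV.toList 89).all ivOK) = true := by
  decide +kernel

set_option maxRecDepth 1000000 in
theorem hiv90_ok : ((hchunk 64 IV.toList 90).all ivOK) = true := by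
  decide +kernel

set_option maxRecDepth 1000000 in
theorem hiv91_ok : ((hchunk 64 IV.toList 91).all ivOK) = true := by
  decide +kernel

set_option maxRecDepth 1000000 in
theorem hiv92_ok : ((hchunk 64 IV.toList 92).all ivOK) = true := by
  decide +kernel

set_option maxRecDepth 1000000 in
theorem hiv93_ok : ((hchunk 64 IV.toList 93).all ivOK) = true := by
  decide +kernel

set_option maxRecDepth 1000000 in
theorem hiv94_ok : ((hchunk 64 IV.toList 94).all ivOK) = true := by
  decide +kernel

set_option maxRecDepth 1000000 in
theorem hiv95_ok : ((hchunk 64 IV.toList 95).all ivOK) = true := by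
  decide +kernel

end Cfsg.Agent.Lib.Helper28.HSA
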