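import Cfsg.Agent.Lib.Helper28.HSACert8

/-!
# Certificates for the automorphisms of the Higman–Sims group: the table of involutions, part 9

Generated by a script.
-/

set_option autoImplicit false
set_option Elab.async false

namespace Cfsg.Agent.Lib.Helper28.HSA

open Cfsg.Agent.Lib.Helper28.BSGS Cfsg.Agent.Lib.Helper28.HSAData
open Cfsg.Agent.Lib.Helper28.BSGSMat (Tree sortedB)

set_option maxRecDepth 1000000 in
theorem hiv96_ok : ((hchunk 64 IV.toList 96).all ivOK) = true := by
  decide +kernel

set_option maxRecDepth 1000000 in
theorem hiv97_ok : ((hchunk 64 IV.toList 97).all ivOK) = true := by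
  decide +kernel

set_option maxRecDepth 1000000 in
theorem hiv98_ok : ((hchunk 64 IV.toList 98).all ivOK) = true := by
  decide +kernel

set_option maxRecDepth 1000000 in
theorem hiv99_ok : ((hchunk 64 IV.toList 99).all ivOK) = true := by
  decide +kernel

set_option maxRecDepth 1000000 in
theorem hiv100_ok : ((hchunk 64 IV.toList 100).all ivOK) = true := by
  decide +kernel

set_option maxRecDepth 1000000 in
theorem hiv101_ok : ((hchunk 64 IV.toList 101).all ivOK) = true := by
  decide +kernel

set_option maxRecDepth 1000000 in
theorem hiv102_ok : ((hchunk 64 IV.toList 102).all ivOK) = true := by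
  decide +kernel

set_option maxRecDepth 1000000 in
theorem hiv103_ok : ((hchunk 64 IV.toList 103).all ivOK) = true := by
  decide +kernel

set_option maxRecDepth 1000000 in
theorem hiv104_ok : ((hchunk 64 IV.toList 104).all ivOK) = true := by
  decide +kernel

set_option maxRecDepth 1000000 in
theorem hiv105_ok : ((hchunk 64 IV.toList 105).all ivOK) = true := by
  decide +kernel

set_option maxRecDepth 1000000 in
theorem hiv106_ok : ((hchunk 64 IV.toList 106).all ivOK) = true := by
  decide +kernel

set_option maxRecDepth 1000000 in
theorem hiv107_ok : ((hchunk 64 IV.toList 107).all ivOK) = true := by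
  decide +kernel

end Cfsg.Agent.Lib.Helper28.HSA
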