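import Cfsg.Agent.Lib.Helper28.HSACert0

/-!
# Certificates for the automorphisms of the Higman–Sims group: the Schreier–Sims chain

Generated by a script.
-/

set_option autoImplicit false
set_option Elab.async false

namespace Cfsg.Agent.Lib.Helper28.HSA

open Cfsg.Agent.Lib.Helper28.BSGS Cfsg.Agent.Lib.Helper28.HSAData
open Cfsg.Agent.Lib.Helper28.BSGSMat (Tree sortedB)

set_option maxRecDepth 1000000 in
theorem hlen0 : GENS.length = 7 := by
  decide +kernel

set_option maxRecDepth 1000000 in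
theorem hpre0 : levelPre GENS (0, htr0) = true := by
  decide +kernel

set_option maxRecDepth 1000000 in
theorem hsift0_0 : siftGen (0, htr0) [(1, htr1), (2, htr2), (3, htr3), (4, htr4), (5, htr5)] (GENS.getD 0 (0, 0)) = true := by
  decide +kernel

set_option maxRecDepth 1000000 in
theorem hsift0_1 : siftGen (0, htr0) [(1, htr1), (2, htr2), (3, htr3), (4, htr4), (5, htr5)] (GENS.getD 1 (0, 0)) = true := by
  decide +kernel

set_option maxRecDepth 1000000 in
theorem hsift0_2 : siftGen (0, htr0) [(1, htr1), (2, htr2), (3, htr3), (4, htr4), (5, htr5)] (GENS.getD 2 (0, 0)) = true := by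
  decide +kernel

set_option maxRecDepth 1000000 in
theorem hsift0_3 : siftGen (0, htr0) [(1, htr1), (2, htr2), (3, htr3), (4, htr4), (5, htr5)] (GENS.getD 3 (0, 0)) = true := by
  decide +kernel

set_option maxRecDepth 1000000 in
theorem hsift0_4 : siftGen (0, htr0) [(1, htr1), (2, htr2), (3, htr3), (4, htr4), (5, htr5)] (GENS.getD 4 (0, 0)) = true := by
  decide +kernel

set_option maxRecDepth 1000000 in
theorem hsift0_5 : siftGen (0, htr0) [(1, htr1), (2, htr2), (3, htr3), (4, htr4), (5, htr5)] (GENS.getD 5 (0, 0)) = true := by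
  decide +kernel

set_option maxRecDepth 1000000 in
theorem hsift0_6 : siftGen (0, htr0) [(1, htr1), (2, htr2), (3, htr3), (4, htr4), (5, htr5)] (GENS.getD 6 (0, 0)) = true := by
  decide +kernel

set_option maxRecDepth 1000000 in
theorem hlen1 : (nextGens 7 GENS 0).length = 6 := by
  decide +kernel

set_option maxRecDepth 1000000 in
theorem hpre1 : levelPre (nextGens 7 GENS 0) (1, htr1) = true := by
  decide +kernel

set_option maxRecDepth 1000000 in
theorem hsift1 : ∀ i : Fin 6, siftGen (1, htr1) [(2, htr2), (3, htr3), (4, htr4), (5, htr5)] ((nextGens 7 GENS 0).getD i.val (0, 0)) = true := by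
  decide +kernel

set_option maxRecDepth 1000000 in
theorem hlen2 : (nextGens 7 (nextGens 7 GENS 0) 1).length = 5 := by
  decide +kernel

set_option maxRecDepth 1000000 in
theorem hpre2 : levelPre (nextGens 7 (nextGens 7 GENS 0) 1) (2, htr2) = true := by
  decide +kernel

set_option maxRecDepth 1000000 in
theorem hsift2 : ∀ i : Fin 5, siftGen (2, htr2) [(3, htr3), (4, htr4), (5, htr5)] ((nextGens 7 (nextGens 7 GENS 0) 1).getD i.val (0, 0)) = true := by
  decide +kernel

set_option maxRecDepth 1000000 in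
theorem hlen3 : (nextGens 7 (nextGens 7 (nextGens 7 GENS 0) 1) 2).length = 4 := by
  decide +kernel

set_option maxRecDepth 1000000 in
theorem hpre3 : levelPre (nextGens 7 (nextGens 7 (nextGens 7 GENS 0) 1) 2) (3, htr3) = true := by
  decide +kernel

set_option maxRecDepth 1000000 in
theorem hsift3 : ∀ i : Fin 4, siftGen (3, htr3) [(4, htr4), (5, htr5)] ((nextGens 7 (nextGens 7 (nextGens 7 GENS 0) 1) 2).getD i.val (0, 0)) = true := by
  decide +kernel

set_option maxRecDepth 1000000 in
theorem hlen4 : (nextGens 7 (nextGens 7 (nextGens 7 (nextGens 7 GENS 0) 1) 2) 3).length = 3 := by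
  decide +kernel

set_option maxRecDepth 1000000 in
theorem hpre4 : levelPre (nextGens 7 (nextGens 7 (nextGens 7 (nextGens 7 GENS 0) 1) 2) 3) (4, htr4) = true := by
  decide +kernel

set_option maxRecDepth 1000000 in
theorem hsift4 : ∀ i : Fin 3, siftGen (4, htr4) [(5, htr5)] ((nextGens 7 (nextGens 7 (nextGens 7 (nextGens 7 GENS 0) 1) 2) 3).getD i.val (0, 0)) = true := by
  decide +kernel

set_option maxRecDepth 1000000 in
theorem hlen5 : (nextGens 7 (nextGens 7 (nextGens 7 (nextGens 7 (nextGens 7 GENS 0) 1) 2) 3) 4).length = 1 := by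
  decide +kernel

set_option maxRecDepth 1000000 in
theorem hpre5 : levelPre (nextGens 7 (nextGens 7 (nextGens 7 (nextGens 7 (nextGens 7 GENS 0) 1) 2) 3) 4) (5, htr5) = true := by
  decide +kernel

set_option maxRecDepth 1000000 in
theorem hsift5 : ∀ i : Fin 1, siftGen (5, htr5) [] ((nextGens 7 (nextGens 7 (nextGens 7 (nextGens 7 (nextGens 7 GENS 0) 1) 2) 3) 4).getD i.val (0, 0)) = true := by
  decide +kernel

set_option maxRecDepth 1000000 in
theorem hlen6 : (nextGens 7 (nextGens 7 (nextGens 7 (nextGens 7 (nextGens 7 (nextGens 7 GENS 0) 1) 2) 3) 4) 5).isEmpty = true := by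
  decide +kernel

theorem hsift0 : ∀ i, i < 7 → siftGen (0, htr0) [(1, htr1), (2, htr2), (3, htr3), (4, htr4), (5, htr5)] (GENS.getD i (0, 0)) = true := by
  intro i hi
  interval_cases i
  · exact hsift0_0
  · exact hsift0_1
  · exact hsift0_2
  · exact hsift0_3
  · exact hsift0_4
  · exact hsift0_5
  · exact hsift0_6

theorem chain_ok : checkChain 100 7 GENS LEVELS = true := by
  have e : LEVELS = [(0, htr0), (1, htr1), (2, htr2), (3, htr3), (4, htr4), (5, htr5)] := rfl
  rw [e]
  refine checkChain_cons _ _ _ (levelOK_of _ _ _ 7 hlen0 hpre0 hsift0) ?_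
  refine checkChain_cons _ _ _ (levelOK_of _ _ _ 6 hlen1 hpre1 (fun i hi => hsift1 ⟨i, hi⟩)) ?_
  refine checkChain_cons _ _ _ (levelOK_of _ _ _ 5 hlen2 hpre2 (fun i hi => hsift2 ⟨i, hi⟩)) ?_
  refine checkChain_cons _ _ _ (levelOK_of _ _ _ 4 hlen3 hpre3 (fun i hi => hsift3 ⟨i, hi⟩)) ?_
  refine checkChain_cons _ _ _ (levelOK_of _ _ _ 3 hlen4 hpre4 (fun i hi => hsift4 ⟨i, hi⟩)) ?_
  refine checkChain_cons _ _ _ (levelOK_of _ _ _ 1 hlen5 hpre5 (fun i hi => hsift5 ⟨i, hi⟩)) ?_
  unfold checkChain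
  exact hlen6

end Cfsg.Agent.Lib.Helper28.HSA
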