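import Cfsg.Agent.Lib.Helper28.HSACert28

/-!
# Certificates for the automorphisms of the Higman–Sims group: all entries of the table of involutions

Generated by a script.
-/

set_option autoImplicit false
set_option Elab.async false

namespace Cfsg.Agent.Lib.Helper28.HSA

open Cfsg.Agent.Lib.Helper28.BSGS Cfsg.Agent.Lib.Helper28.HSAData
open Cfsg.Agent.Lib.Helper28.BSGSMat (Tree sortedB)

set_option maxRecDepth 1000000 in
theorem st_idx : (ST.toList.all fun e => decide (e.2.2.2 / 1000 < 12)) = true := by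
  decide +kernel

set_option maxRecDepth 1000000 in
theorem len_SGL : SGL.length = 12 := by
  decide +kernel

set_option maxRecDepth 1000000 in
theorem tr0_all : ((List.range 100).all fun x => htr0.any fun e => Nat.beq e.1 x) = true := by
  decide +kernel

theorem hiv_chunks : ∀ i, i < 331 → ((hchunk 64 IV.toList i).all ivOK) = true := by
  intro i hi
  interval_cases i
  · exact hiv0_ok
  · exact hiv1_ok
  · exact hiv2_ok
  · exact hiv3_ok
  · exact hiv4_ok
  · exact hiv5_ok
  · exact hiv6_ok
  · exact hiv7_ok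
  · exact hiv8_ok
  · exact hiv9_ok
  · exact hiv10_ok
  · exact hiv11_ok
  · exact hiv12_ok
  · exact hiv13_ok
  · exact hiv14_ok
  · exact hiv15_ok
  · exact hiv16_ok
  · exact hiv17_ok
  · exact hiv18_ok
  · exact hiv19_ok
  · exact hiv20_ok
  · exact hiv21_ok
  · exact hiv22_ok
  · exact hiv23_ok
  · exact hiv24_ok
  · exact hiv25_ok
  · exact hiv26_ok
  · exact hiv27_ok
  · exact hiv28_ok
  · exact hiv29_ok
  · exact hiv30_ok
  · exact hiv31_ok
  · exact hiv32_ok
  · exact hiv33_ok
  · exact hiv34_ok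
  · exact hiv35_ok
  · exact hiv36_ok
  · exact hiv37_ok
  · exact hiv38_ok
  · exact hiv39_ok
  · exact hiv40_ok
  · exact hiv41_ok
  · exact hiv42_ok
  · exact hiv43_ok
  · exact hiv44_ok
  · exact hiv45_ok
  · exact hiv46_ok
  · exact hiv47_ok
  · exact hiv48_ok
  · exact hiv49_ok
  · exact hiv50_ok
  · exact hiv51_ok
  · exact hiv52_ok
  · exact hiv53_ok
  · exact hiv54_ok
  · exact hiv55_ok
  · exact hiv56_ok
  · exact hiv57_ok
  · exact hiv58_ok
  · exact hiv59_ok
  · exact hiv60_ok
  · exact hiv61_ok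
  · exact hiv62_ok
  · exact hiv63_ok
  · exact hiv64_ok
  · exact hiv65_ok
  · exact hiv66_ok
  · exact hiv67_ok
  · exact hiv68_ok
  · exact hiv69_ok
  · exact hiv70_ok
  · exact hiv71_ok
  · exact hiv72_ok
  · exact hiv73_ok
  · exact hiv74_ok
  · exact hiv75_ok
  · exact hiv76_ok
  · exact hiv77_ok
  · exact hiv78_ok
  · exact hiv79_ok
  · exact hiv80_ok
  · exact hiv81_ok
  · exact hiv82_ok
  · exact hiv83_ok
  · exact hiv84_ok
  · exact hiv85_ok
  · exact hiv86_ok
  · exact hiv87_ok
  · exact hiv88_ok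
  · exact hiv89_ok
  · exact hiv90_ok
  · exact hiv91_ok
  · exact hiv92_ok
  · exact hiv93_ok
  · exact hiv94_ok
  · exact hiv95_ok
  · exact hiv96_ok
  · exact hiv97_ok
  · exact hiv98_ok
  · exact hiv99_ok
  · exact hiv100_ok
  · exact hiv101_ok
  · exact hiv102_ok
  · exact hiv103_ok
  · exact hiv104_ok
  · exact hiv105_ok
  · exact hiv106_ok
  · exact hiv107_ok
  · exact hiv108_ok
  · exact hiv109_ok
  · exact hiv110_ok
  · exact hiv111_ok
  · exact hiv112_ok
  · exact hiv113_ok
  · exact hiv114_ok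
  · exact hiv115_ok
  · exact hiv116_ok
  · exact hiv117_ok
  · exact hiv118_ok
  · exact hiv119_ok
  · exact hiv120_ok
  · exact hiv121_ok
  · exact hiv122_ok
  · exact hiv123_ok
  · exact hiv124_ok
  · exact hiv125_ok
  · exact hiv126_ok
  · exact hiv127_ok
  · exact hiv128_ok
  · exact hiv129_ok
  · exact hiv130_ok
  · exact hiv131_ok
  · exact hiv132_ok
  · exact hiv133_ok
  · exact hiv134_ok
  · exact hiv135_ok
  · exact hiv136_ok
  · exact hiv137_ok
  · exact hiv138_ok
  · exact hiv139_ok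
  · exact hiv140_ok
  · exact hiv141_ok
  · exact hiv142_ok
  · exact hiv143_ok
  · exact hiv144_ok
  · exact hiv145_ok
  · exact hiv146_ok
  · exact hiv147_ok
  · exact hiv148_ok
  · exact hiv149_ok
  · exact hiv150_ok
  · exact hiv151_ok
  · exact hiv152_ok
  · exact hiv153_ok
  · exact hiv154_ok
  · exact hiv155_ok
  · exact hiv156_ok
  · exact hiv157_ok
  · exact hiv158_ok
  · exact hiv159_ok
  · exact hiv160_ok
  · exact hiv161_ok
  · exact hiv162_ok
  · exact hiv163_ok
  · exact hiv164_ok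
  · exact hiv165_ok
  · exact hiv166_ok
  · exact hiv167_ok
  · exact hiv168_ok
  · exact hiv169_ok
  · exact hiv170_ok
  · exact hiv171_ok
  · exact hiv172_ok
  · exact hiv173_ok
  · exact hiv174_ok
  · exact hiv175_ok
  · exact hiv176_ok
  · exact hiv177_ok
  · exact hiv178_ok
  · exact hiv179_ok
  · exact hiv180_ok
  · exact hiv181_ok
  · exact hiv182_ok
  · exact hiv183_ok
  · exact hiv184_ok
  · exact hiv185_ok
  · exact hiv186_ok
  · exact hiv187_ok
  · exact hiv188_ok
  · exact hiv189_ok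
  · exact hiv190_ok
  · exact hiv191_ok
  · exact hiv192_ok
  · exact hiv193_ok
  · exact hiv194_ok
  · exact hiv195_ok
  · exact hiv196_ok
  · exact hiv197_ok
  · exact hiv198_ok
  · exact hiv199_ok
  · exact hiv200_ok
  · exact hiv201_ok
  · exact hiv202_ok
  · exact hiv203_ok
  · exact hiv204_ok
  · exact hiv205_ok
  · exact hiv206_ok
  · exact hiv207_ok
  · exact hiv208_ok
  · exact hiv209_ok
  · exact hiv210_ok
  · exact hiv211_ok
  · exact hiv212_ok
  · exact hiv213_ok
  · exact hiv214_ok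
  · exact hiv215_ok
  · exact hiv216_ok
  · exact hiv217_ok
  · exact hiv218_ok
  · exact hiv219_ok
  · exact hiv220_ok
  · exact hiv221_ok
  · exact hiv222_ok
  · exact hiv223_ok
  · exact hiv224_ok
  · exact hiv225_ok
  · exact hiv226_ok
  · exact hiv227_ok
  · exact hiv228_ok
  · exact hiv229_ok
  · exact hiv230_ok
  · exact hiv231_ok
  · exact hiv232_ok
  · exact hiv233_ok
  · exact hiv234_ok
  · exact hiv235_ok
  · exact hiv236_ok
  · exact hiv237_ok
  · exact hiv238_ok
  · exact hiv239_ok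
  · exact hiv240_ok
  · exact hiv241_ok
  · exact hiv242_ok
  · exact hiv243_ok
  · exact hiv244_ok
  · exact hiv245_ok
  · exact hiv246_ok
  · exact hiv247_ok
  · exact hiv248_ok
  · exact hiv249_ok
  · exact hiv250_ok
  · exact hiv251_ok
  · exact hiv252_ok
  · exact hiv253_ok
  · exact hiv254_ok
  · exact hiv255_ok
  · exact hiv256_ok
  · exact hiv257_ok
  · exact hiv258_ok
  · exact hiv259_ok
  · exact hiv260_ok
  · exact hiv261_ok
  · exact hiv262_ok
  · exact hiv263_ok
  · exact hiv264_ok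
  · exact hiv265_ok
  · exact hiv266_ok
  · exact hiv267_ok
  · exact hiv268_ok
  · exact hiv269_ok
  · exact hiv270_ok
  · exact hiv271_ok
  · exact hiv272_ok
  · exact hiv273_ok
  · exact hiv274_ok
  · exact hiv275_ok
  · exact hiv276_ok
  · exact hiv277_ok
  · exact hiv278_ok
  · exact hiv279_ok
  · exact hiv280_ok
  · exact hiv281_ok
  · exact hiv282_ok
  · exact hiv283_ok
  · exact hiv284_ok
  · exact hiv285_ok
  · exact hiv286_ok
  · exact hiv287_ok
  · exact hiv288_ok
  · exact hiv289_ok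
  · exact hiv290_ok
  · exact hiv291_ok
  · exact hiv292_ok
  · exact hiv293_ok
  · exact hiv294_ok
  · exact hiv295_ok
  · exact hiv296_ok
  · exact hiv297_ok
  · exact hiv298_ok
  · exact hiv299_ok
  · exact hiv300_ok
  · exact hiv301_ok
  · exact hiv302_ok
  · exact hiv303_ok
  · exact hiv304_ok
  · exact hiv305_ok
  · exact hiv306_ok
  · exact hiv307_ok
  · exact hiv308_ok
  · exact hiv309_ok
  · exact hiv310_ok
  · exact hiv311_ok
  · exact hiv312_ok
  · exact hiv313_ok
  · exact hiv314_ok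
  · exact hiv315_ok
  · exact hiv316_ok
  · exact hiv317_ok
  · exact hiv318_ok
  · exact hiv319_ok
  · exact hiv320_ok
  · exact hiv321_ok
  · exact hiv322_ok
  · exact hiv323_ok
  · exact hiv324_ok
  · exact hiv325_ok
  · exact hiv326_ok
  · exact hiv327_ok
  · exact hiv328_ok
  · exact hiv329_ok
  · exact hiv330_ok

theorem hiv_all : ∀ e ∈ IV.toList, ivOK e = true :=
  all_of_hchunks (s := 64) (by norm_num) IV.toList ivOK 331 (by rw [len_IV]; norm_num) hiv_chunks

end Cfsg.Agent.Lib.Helper28.HSA
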