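import Cfsg.Agent.Lib.Helper28.HSACertA

/-!
# Certificates for the automorphisms of the Higman–Sims group: the graph

Generated by a script.
-/

set_option autoImplicit false
set_option Elab.async false

namespace Cfsg.Agent.Lib.Helper28.HSA

open Cfsg.Agent.Lib.Helper28.BSGS Cfsg.Agent.Lib.Helper28.HSAData
open Cfsg.Agent.Lib.Helper28.BSGSMat (Tree sortedB)

set_option maxRecDepth 1000000 in
theorem hcnt0 : ∀ q : Fin 10, cntRow (10 * 0 + q.val) = true := by
  decide +kernel

set_option maxRecDepth 1000000 in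
theorem hcnt1 : ∀ q : Fin 10, cntRow (10 * 1 + q.val) = true := by
  decide +kernel

set_option maxRecDepth 1000000 in
theorem hcnt2 : ∀ q : Fin 10, cntRow (10 * 2 + q.val) = true := by
  decide +kernel

set_option maxRecDepth 1000000 in
theorem hcnt3 : ∀ q : Fin 10, cntRow (10 * 3 + q.val) = true := by
  decide +kernel

set_option maxRecDepth 1000000 in
theorem hcnt4 : ∀ q : Fin 10, cntRow (10 * 4 + q.val) = true := by
  decide +kernel

set_option maxRecDepth 1000000 in
theorem hcnt5 : ∀ q : Fin 10, cntRow (10 * 5 + q.val) = true := by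
  decide +kernel

set_option maxRecDepth 1000000 in
theorem hcnt6 : ∀ q : Fin 10, cntRow (10 * 6 + q.val) = true := by
  decide +kernel

set_option maxRecDepth 1000000 in
theorem hcnt7 : ∀ q : Fin 10, cntRow (10 * 7 + q.val) = true := by
  decide +kernel

set_option maxRecDepth 1000000 in
theorem hcnt8 : ∀ q : Fin 10, cntRow (10 * 8 + q.val) = true := by
  decide +kernel

set_option maxRecDepth 1000000 in
theorem hcnt9 : ∀ q : Fin 10, cntRow (10 * 9 + q.val) = true := by
  decide +kernel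

theorem cnt_rows : ∀ i, i < 100 → cntRow i = true := by
  intro i hi
  have h0 : i = 10 * (i / 10) + i % 10 := (Nat.div_add_mod i 10).symm
  have h1 : i / 10 < 10 := by omega
  have h2 : i % 10 < 10 := Nat.mod_lt _ (by norm_num)
  rw [h0]
  generalize i / 10 = r at h1
  interval_cases r
  · exact hcnt0 ⟨i % 10, h2⟩
  · exact hcnt1 ⟨i % 10, h2⟩
  · exact hcnt2 ⟨i % 10, h2⟩
  · exact hcnt3 ⟨i % 10, h2⟩
  · exact hcnt4 ⟨i % 10, h2⟩
  · exact hcnt5 ⟨i % 10, h2⟩
  · exact hcnt6 ⟨i % 10, h2⟩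
  · exact hcnt7 ⟨i % 10, h2⟩
  · exact hcnt8 ⟨i % 10, h2⟩
  · exact hcnt9 ⟨i % 10, h2⟩

end Cfsg.Agent.Lib.Helper28.HSA
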