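import Cfsg.Agent.Lib.Helper28.HSACertB

/-!
# Certificates for the automorphisms of the Higman–Sims group: the Sylow 2-subgroup

Generated by a script.
-/

set_option autoImplicit false
set_option Elab.async false

namespace Cfsg.Agent.Lib.Helper28.HSA

open Cfsg.Agent.Lib.Helper28.BSGS Cfsg.Agent.Lib.Helper28.HSAData
open Cfsg.Agent.Lib.Helper28.BSGSMat (Tree sortedB)

set_option maxRecDepth 1000000 in
theorem hst0_ok : ((hchunk 32 ST.toList 0).all stOK) = true := by
  decide +kernel

set_option maxRecDepth 1000000 in
theorem hst1_ok : ((hchunk 32 ST.toList 1).all stOK) = true := by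
  decide +kernel

set_option maxRecDepth 1000000 in
theorem hst2_ok : ((hchunk 32 ST.toList 2).all stOK) = true := by
  decide +kernel

set_option maxRecDepth 1000000 in
theorem hst3_ok : ((hchunk 32 ST.toList 3).all stOK) = true := by
  decide +kernel

set_option maxRecDepth 1000000 in
theorem hst4_ok : ((hchunk 32 ST.toList 4).all stOK) = true := by
  decide +kernel

set_option maxRecDepth 1000000 in
theorem hst5_ok : ((hchunk 32 ST.toList 5).all stOK) = true := by
  decide +kernel

set_option maxRecDepth 1000000 in
theorem hst6_ok : ((hchunk 32 ST.toList 6).all stOK) = true := by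
  decide +kernel

set_option maxRecDepth 1000000 in
theorem hst7_ok : ((hchunk 32 ST.toList 7).all stOK) = true := by
  decide +kernel

set_option maxRecDepth 1000000 in
theorem hst8_ok : ((hchunk 32 ST.toList 8).all stOK) = true := by
  decide +kernel

set_option maxRecDepth 1000000 in
theorem hst9_ok : ((hchunk 32 ST.toList 9).all stOK) = true := by
  decide +kernel

set_option maxRecDepth 1000000 in
theorem hst10_ok : ((hchunk 32 ST.toList 10).all stOK) = true := by
  decide +kernel

set_option maxRecDepth 1000000 in
theorem hst11_ok : ((hchunk 32 ST.toList 11).all stOK) = true := by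
  decide +kernel

set_option maxRecDepth 1000000 in
theorem hst12_ok : ((hchunk 32 ST.toList 12).all stOK) = true := by
  decide +kernel

set_option maxRecDepth 1000000 in
theorem hst13_ok : ((hchunk 32 ST.toList 13).all stOK) = true := by
  decide +kernel

set_option maxRecDepth 1000000 in
theorem hst14_ok : ((hchunk 32 ST.toList 14).all stOK) = true := by
  decide +kernel

set_option maxRecDepth 1000000 in
theorem hst15_ok : ((hchunk 32 ST.toList 15).all stOK) = true := by
  decide +kernel

theorem hst_chunks : ∀ i, i < 16 → ((hchunk 32 ST.toList i).all stOK) = true := by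
  intro i hi
  interval_cases i
  · exact hst0_ok
  · exact hst1_ok
  · exact hst2_ok
  · exact hst3_ok
  · exact hst4_ok
  · exact hst5_ok
  · exact hst6_ok
  · exact hst7_ok
  · exact hst8_ok
  · exact hst9_ok
  · exact hst10_ok
  · exact hst11_ok
  · exact hst12_ok
  · exact hst13_ok
  · exact hst14_ok
  · exact hst15_ok

theorem st_all : ∀ e ∈ ST.toList, stOK e = true :=
  all_of_hchunks (s := 32) (by norm_num) ST.toList stOK 16 (by rw [len_ST]) hst_chunks

end Cfsg.Agent.Lib.Helper28.HSA
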