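import Cfsg.Agent.Lib.Helper28.BSGSPerm
import Cfsg.Agent.Lib.Helper28.BSGSMat
import Cfsg.Agent.Lib.Helper28.HSAData

/-!
# The automorphisms of the Higman–Sims group: the Boolean checks

The group `H₀` is generated by two permutations `a` (of order 11) and `b` (an involution) of 100
points.  The checks concern a straight-line program for further elements of `H₀`, the table of a
Sylow 2-subgroup, and the table of all involutions of `H₀`; for every involution `t` other than the
eleven conjugates of `b` under the powers of `a` the table holds a relator of `(a, b)` that fails for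
`(a, t)`, with a point moved by it.
-/

set_option autoImplicit false

namespace Cfsg.Agent.Lib.Helper28.HSA

open Cfsg.Agent.Lib.Helper28.BSGS Cfsg.Agent.Lib.Helper28.HSAData
open Cfsg.Agent.Lib.Helper28.BSGSMat (Tree sortedB)

/-- entries of the tables: key, table and two further numbers -/
abbrev TE : Type := Cfsg.Agent.Lib.Helper28.BSGSMat.Entry

/-- the `i`-th block of `s` entries -/
def hchunk (s : ℕ) (l : List TE) (i : ℕ) : List TE := (l.drop (s * i)).take s

theorem mem_hchunk {s : ℕ} (hs : 0 < s) {l : List TE} {e : TE} (he : e ∈ l) :
    ∃ i, s * i < l.length ∧ e ∈ hchunk s l i := by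
  obtain ⟨k, hk, rfl⟩ := List.mem_iff_getElem.mp he
  have h0 : s * (k / s) + k % s = k := Nat.div_add_mod k s
  have hmod : k % s < s := Nat.mod_lt _ hs
  refine ⟨k / s, by omega, ?_⟩
  unfold hchunk
  rw [List.mem_iff_getElem]
  have h1 : k % s < ((l.drop (s * (k / s))).take s).length := by
    rw [List.length_take, List.length_drop]; omega
  refine ⟨k % s, h1, ?_⟩
  rw [List.getElem_take, List.getElem_drop]
  congr 1

/-- a Boolean condition on all entries, checked block by block -/
theorem all_of_hchunks {s : ℕ} (hs : 0 < s) (l : List TE) (f : TE → Bool) (n : ℕ)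
    (hlen : l.length ≤ s * n) (h : ∀ i, i < n → (hchunk s l i).all f = true) :
    ∀ e ∈ l, f e = true := by
  intro e he
  obtain ⟨i, hi, hmem⟩ := mem_hchunk hs he
  have hin : i < n := by
    by_contra hcon
    have : s * n ≤ s * i := Nat.mul_le_mul_left s (by omega)
    omega
  have := h i hin
  rw [List.all_eq_true] at this
  exact this e hmem

/-! ### the graph -/

/-- adjacency of the graph on 100 points -/
def adjB (i j : ℕ) : Bool := ADJ.testBit (100 * i + j)

/-- the number of common neighbours of two points -/
def cnt (i j : ℕ) : ℕ := ((Finset.range 100).filter fun k => adjB i k && adjB j k).card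

/-- the table is an automorphism of the graph -/
def autOK (t : ℕ) : Bool :=
  (List.range 100).all fun i => (List.range 100).all fun j =>
    adjB (look 7 t i) (look 7 t j) == adjB i j

/-! ### straight-line programs -/

/-- every entry is a valid pair of tables and the product of known tables -/
def slpOK : List ℕ → List (ℕ × ℕ × List ℕ) → Bool
  | _, [] => true
  | known, e :: rest =>
      pairOK 100 7 e.1 e.2.1 && e.2.2.all (fun t => known.contains t) &&
        wordEq 100 7 [e.1] e.2.2 && slpOK (e.1 :: e.2.1 :: known) rest

/-- the tables known after running the program -/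
def slpKnown : List ℕ → List (ℕ × ℕ × List ℕ) → List ℕ
  | known, [] => known
  | known, e :: rest => slpKnown (e.1 :: e.2.1 :: known) rest

/-! ### keys and tables -/

/-- the key of a table: the images of the first six points -/
def keyOf (t : ℕ) : ℕ :=
  look 7 t 0 ||| (look 7 t 1 <<< 7) ||| (look 7 t 2 <<< 14) ||| (look 7 t 3 <<< 21) |||
    (look 7 t 4 <<< 28) ||| (look 7 t 5 <<< 35)

/-- the key of a word of tables -/
def keyW (ws : List ℕ) : ℕ :=
  evalW 7 ws 0 ||| (evalW 7 ws 1 <<< 7) ||| (evalW 7 ws 2 <<< 14) ||| (evalW 7 ws 3 <<< 21) |||
    (evalW 7 ws 4 <<< 28) ||| (evalW 7 ws 5 <<< 35)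

/-- the word of tables is in the table `T` -/
def findT (T : Tree) (ws : List ℕ) : Bool :=
  match T.lookup (keyW ws) with
  | none => false
  | some e => wordEq 100 7 [e.2.1] ws

/-! ### relators -/

/-- the image of a point under a word in two tables (`false` for the first) -/
def evalU (A B : ℕ) (u : List Bool) (p : ℕ) : ℕ :=
  u.foldr (fun l acc => look 7 (cond l B A) acc) p

/-- the relator holds for the two tables -/
def relHolds (A B : ℕ) (r : List Bool × ℕ) : Bool :=
  (List.range 100).all fun p => Nat.beq ((evalU A B r.1)^[r.2] p) p

/-- the number of fixed points of a table -/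
def fixCount (t : ℕ) : ℕ := ((List.range 100).filter fun i => Nat.beq (look 7 t i) i).length

/-- the entry of the table of involutions: the key is right, the table is an involution, its
conjugates under `a` and `b` are in the table, it does not have exactly six fixed points, and
either it is one of the eleven good involutions or some relator fails at the given point -/
def ivOK (e : TE) : Bool :=
  Nat.beq e.1 (keyOf e.2.1) && pairOK 100 7 e.2.1 e.2.1 &&
    findT IV [ta, e.2.1, tai] && findT IV [tb, e.2.1, tb] &&
    !(Nat.beq (fixCount e.2.1) 6) &&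
    (if e.2.2.1 = 0 then GOODL.contains e.1 else
      let c := e.2.2.1 - 1
      let r := RELS.getD (c / 100) ([], 0)
      !(Nat.beq ((evalU ta e.2.1 r.1)^[r.2] (c % 100)) (c % 100)))

/-- the `i`-th good key belongs to the conjugate of `b` under `a ^ i` -/
def goodOK (i : ℕ) : Bool :=
  match IV.lookup (GOODL.getD i 0) with
  | none => false
  | some e => wordEq 100 7 [e.2.1] (List.replicate i ta ++ tb :: List.replicate i tai)

/-- the entry of the table of the Sylow 2-subgroup: the key is right, the entry is the product of
its parent with a generator (or the identity), the products with the generators are in the table,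
and if it is an involution then it is in the table of involutions -/
def stOK (e : TE) : Bool :=
  Nat.beq e.1 (keyOf e.2.1) &&
    (if e.2.2.2 % 1000 = 0 then wordId 100 7 [e.2.1] else
      match ST.lookup e.2.2.1 with
      | none => false
      | some e' => Nat.beq (e'.2.2.2 % 1000 + 1) (e.2.2.2 % 1000) &&
          wordEq 100 7 [e.2.1] [e'.2.1, SGL.getD (e.2.2.2 / 1000) 0]) &&
    SGL.all (fun s => findT ST [e.2.1, s]) &&
    (!(wordId 100 7 [e.2.1, e.2.1]) || wordId 100 7 [e.2.1] || findT IV [e.2.1])

/-! ### splitting the Schreier–Sims certificate -/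

/-- sifting the products of one generator with all transversal elements -/
def siftGen (lv : CLevel) (rest : List CLevel) (g : ℕ × ℕ) : Bool :=
  lv.2.all fun e => siftB 100 7 (lv :: rest) [g.1, e.2.1]

/-- the other conditions at one level -/
def levelPre (gens : List (ℕ × ℕ)) (lv : CLevel) : Bool :=
  decide (lv.1 < 100) && headOK 100 7 lv.1 lv.2 && lv.2.all (entryOK 100 7 lv.1) &&
  nodupB (lv.2.map fun e => e.1) &&
  orbitOK 7 gens [lv.1] ((lv.2.map fun e => e.1).tail)

theorem levelOK_of (gens : List (ℕ × ℕ)) (lv : CLevel) (rest : List CLevel) (m : ℕ)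
    (hm : gens.length = m) (h1 : levelPre gens lv = true)
    (h2 : ∀ i, i < m → siftGen lv rest (gens.getD i (0, 0)) = true) :
    levelOK 100 7 gens lv rest = true := by
  have h3 : gens.all (fun g => lv.2.all fun e => siftB 100 7 (lv :: rest) [g.1, e.2.1]) = true := by
    rw [List.all_eq_true]
    intro g hg
    obtain ⟨i, hi, rfl⟩ := List.mem_iff_getElem.mp hg
    have := h2 i (hm ▸ hi)
    rw [List.getD_eq_getElem _ _ hi] at this
    exact this
  unfold levelOK
  unfold levelPre at h1
  rw [h1, h3]
  rfl

theorem checkChain_cons (gens : List (ℕ × ℕ)) (lv : CLevel) (rest : List CLevel)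
    (h1 : levelOK 100 7 gens lv rest = true)
    (h2 : checkChain 100 7 (nextGens 7 gens lv.1) rest = true) :
    checkChain 100 7 gens (lv :: rest) = true := by
  unfold checkChain
  rw [h1, h2]
  rfl

/-- the counts of common neighbours in one row -/
def cntRow (i : ℕ) : Bool :=
  (List.range 100).all fun j =>
    Nat.beq (cnt i j) (if i = j then 22 else if adjB i j then 0 else 6)

end Cfsg.Agent.Lib.Helper28.HSA
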