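import Mathlib
import Cfsg.Prelude.Def_Sporadic_a
import Cfsg.Agent.S0428

set_option autoImplicit false
set_option linter.unusedSectionVars false
set_option linter.unusedVariables false

/-!
The local structure of a strongly regular graph with parameters `(100, 22, 0, 6)`: the
neighbours of a vertex and the far vertices form a Steiner system `S(3,6,22)`, and the graph is
its point-block graph.
-/

namespace Cfsg.Agent.Lib.Helper28

open Cfsg Finset Classical

namespace SrgLocal

variable {V : Type*} [Fintype V]

/-- combinatorial form of the parameters `(100, 22, 0, 6)` -/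
structure HSLike (G : SimpleGraph V) : Prop where
  card : Fintype.card V = 100
  deg : ∀ a, (univ.filter (fun c => G.Adj a c)).card = 22
  tri : ∀ a b c, G.Adj a b → G.Adj a c → ¬ G.Adj b c
  mu : ∀ a b, a ≠ b → ¬ G.Adj a b → (univ.filter (fun c => G.Adj a c ∧ G.Adj b c)).card = 6

theorem hsLike_of_srg {G : SimpleGraph V} [DecidableRel G.Adj] (h : G.IsSRGWith 100 22 0 6) :
    HSLike G where
  card := h.card
  deg := by
    intro a
    have := h.regular.degree_eq a
    rw [← SimpleGraph.card_neighborFinset_eq_degree, SimpleGraph.neighborFinset_eq_filter] at this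
    convert this
  tri := by
    intro a b c hab hac hbc
    have := h.of_adj b c hbc
    rw [Fintype.card_eq_zero_iff] at this
    exact this.false ⟨a, (SimpleGraph.mem_commonNeighbors G).mpr ⟨hab.symm, hac.symm⟩⟩
  mu := by
    intro a b hne hnadj
    have := h.of_not_adj hne hnadj
    rw [← this]
    symm
    apply Fintype.card_of_subtype
    intro x
    simp [SimpleGraph.mem_commonNeighbors]

variable {G : SimpleGraph V}

/-- points: the neighbours of `v` -/
abbrev Pt (G : SimpleGraph V) (v : V) := {x : V // G.Adj v x}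

/-- far vertices -/
def IsFar (G : SimpleGraph V) (v w : V) : Prop := w ≠ v ∧ ¬ G.Adj v w

/-- the block of a vertex -/
noncomputable def blk (G : SimpleGraph V) (v w : V) : Finset (Pt G v) :=
  univ.filter (fun x => G.Adj w x.1)

theorem mem_blk {v w : V} {x : Pt G v} : x ∈ blk G v w ↔ G.Adj w x.1 := by
  simp [blk]

theorem trichotomy (v a : V) : a = v ∨ G.Adj v a ∨ IsFar G v a := by
  by_cases h1 : a = v
  · exact Or.inl h1
  by_cases h2 : G.Adj v a
  · exact Or.inr (Or.inl h2)
  · exact Or.inr (Or.inr ⟨h1, h2⟩)

section Counting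

variable (hG : HSLike G) (v : V)
include hG

theorem card_pt : Fintype.card (Pt G v) = 22 := by
  rw [Fintype.card_subtype]
  exact hG.deg v

theorem card_blk {w : V} (hw : IsFar G v w) : (blk G v w).card = 6 := by
  have : (blk G v w).map (Function.Embedding.subtype _) =
      univ.filter (fun c => G.Adj v c ∧ G.Adj w c) := by
    ext c
    simp only [mem_map, mem_blk, Function.Embedding.coe_subtype, mem_filter, mem_univ, true_and]
    constructor
    · rintro ⟨x, hx, rfl⟩
      exact ⟨x.2, hx⟩
    · rintro ⟨h1, h2⟩
      exact ⟨⟨c, h1⟩, h2, rfl⟩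
  rw [← card_map, this]
  exact hG.mu v w (Ne.symm hw.1) hw.2

theorem card_far_through (x : Pt G v) :
    (univ.filter (fun w => IsFar G v w ∧ G.Adj w x.1)).card = 21 := by
  have : univ.filter (fun w => IsFar G v w ∧ G.Adj w x.1) =
      (univ.filter (fun c => G.Adj x.1 c)).erase v := by
    ext w
    simp only [mem_filter, mem_univ, true_and, mem_erase]
    constructor
    · rintro ⟨⟨h1, _⟩, h3⟩
      exact ⟨h1, h3.symm⟩
    · rintro ⟨h1, h2⟩
      exact ⟨⟨h1, hG.tri x.1 v w x.2.symm h2⟩, h2.symm⟩
  rw [this, card_erase_of_mem, hG.deg]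
  simp only [mem_filter, mem_univ, true_and]
  exact x.2.symm

theorem card_far_through_two (x y : Pt G v) (hxy : x ≠ y) :
    (univ.filter (fun w => IsFar G v w ∧ G.Adj w x.1 ∧ G.Adj w y.1)).card = 5 := by
  have hxy' : x.1 ≠ y.1 := fun h => hxy (Subtype.ext h)
  have hnadj : ¬ G.Adj x.1 y.1 := hG.tri v x.1 y.1 x.2 y.2
  have : univ.filter (fun w => IsFar G v w ∧ G.Adj w x.1 ∧ G.Adj w y.1) =
      (univ.filter (fun c => G.Adj x.1 c ∧ G.Adj y.1 c)).erase v := by
    ext w
    simp only [mem_filter, mem_univ, true_and, mem_erase]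
    constructor
    · rintro ⟨⟨h1, _⟩, h3, h4⟩
      exact ⟨h1, h3.symm, h4.symm⟩
    · rintro ⟨h1, h2, h3⟩
      exact ⟨⟨h1, hG.tri x.1 v w x.2.symm h2⟩, h2.symm, h3.symm⟩
  rw [this, card_erase_of_mem, hG.mu x.1 y.1 hxy' hnadj]
  simp only [mem_filter, mem_univ, true_and]
  exact ⟨x.2.symm, y.2.symm⟩

theorem card_far_adj {w : V} (hw : IsFar G v w) :
    (univ.filter (fun w' => IsFar G v w' ∧ G.Adj w w')).card = 16 := by
  have h1 := card_filter_add_card_filter_not (s := univ.filter (fun c => G.Adj w c))
    (fun c => G.Adj v c)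
  rw [hG.deg w, filter_filter, filter_filter] at h1
  have h2 : univ.filter (fun c => G.Adj w c ∧ G.Adj v c) =
      univ.filter (fun c => G.Adj v c ∧ G.Adj w c) := by
    ext c
    simp only [mem_filter, mem_univ, true_and]
    tauto
  have h3 : univ.filter (fun c => G.Adj w c ∧ ¬ G.Adj v c) =
      univ.filter (fun w' => IsFar G v w' ∧ G.Adj w w') := by
    ext c
    simp only [mem_filter, mem_univ, true_and]
    constructor
    · rintro ⟨g1, g2⟩
      refine ⟨⟨?_, g2⟩, g1⟩
      intro hcv
      rw [hcv] at g1
      exact hw.2 g1.symm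
    · rintro ⟨⟨_, g2⟩, g3⟩
      exact ⟨g3, g2⟩
  rw [h2, h3, hG.mu v w (Ne.symm hw.1) hw.2] at h1
  omega

theorem card_far : (univ.filter (fun w => IsFar G v w)).card = 77 := by
  have h1 := card_filter_add_card_filter_not (s := (univ : Finset V))
    (fun c => G.Adj v c)
  rw [hG.deg v, card_univ, hG.card] at h1
  have h2 : univ.filter (fun c => ¬ G.Adj v c) = insert v (univ.filter (fun w => IsFar G v w)) := by
    ext c
    simp only [mem_filter, mem_univ, true_and, mem_insert]
    constructor
    · intro h
      by_cases hc : c = v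
      · exact Or.inl hc
      · exact Or.inr ⟨hc, h⟩
    · rintro (rfl | ⟨_, h⟩)
      · exact G.irrefl
      · exact h
  rw [h2, card_insert_of_notMem] at h1
  · omega
  · rw [mem_filter]
    rintro ⟨_, h, _⟩
    exact h rfl

theorem inter_adj {w w' : V} (hadj : G.Adj w w') : blk G v w ∩ blk G v w' = ∅ := by
  ext x
  simp only [mem_inter, mem_blk, notMem_empty, iff_false, not_and]
  intro h1 h2
  exact hG.tri w w' x.1 hadj h1 h2

theorem inter_le {w w' : V} (hw : IsFar G v w) : (blk G v w ∩ blk G v w').card ≤ 6 := by
  rw [← card_blk hG v hw]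
  exact card_le_card inter_subset_left

/-- the variance argument: two nonadjacent far vertices have exactly two common points -/
theorem inter_nonadj {w : V} (hw : IsFar G v w) :
    ∀ w', IsFar G v w' → w' ≠ w → ¬ G.Adj w w' → (blk G v w ∩ blk G v w').card = 2 := by
  set M := univ.filter (fun w' => IsFar G v w' ∧ w' ≠ w) with hM
  have hMcard : M.card = 76 := by
    have : M = (univ.filter (fun w' => IsFar G v w')).erase w := by
      ext c
      simp only [hM, mem_filter, mem_univ, true_and, mem_erase]
      tauto
    rw [this, card_erase_of_mem, card_far hG v]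
    simp only [mem_filter, mem_univ, true_and]
    exact hw
  -- first sum
  have hS1 : ∑ w' ∈ M, (blk G v w ∩ blk G v w').card = 120 := by
    have h1 : ∀ w', (blk G v w ∩ blk G v w').card =
        ∑ p ∈ blk G v w, if G.Adj w' p.1 then 1 else 0 := by
      intro w'
      rw [← card_filter]
      congr 1
      ext x
      simp only [mem_inter, mem_blk, mem_filter]
    rw [Finset.sum_congr rfl (fun w' _ => h1 w'), Finset.sum_comm]
    have h2 : ∀ p ∈ blk G v w, (∑ w' ∈ M, if G.Adj w' p.1 then 1 else 0) = 20 := by
      intro p hp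
      rw [← card_filter]
      have : M.filter (fun w' => G.Adj w' p.1) =
          (univ.filter (fun w' => IsFar G v w' ∧ G.Adj w' p.1)).erase w := by
        ext c
        simp only [hM, mem_filter, mem_univ, true_and, mem_erase]
        tauto
      rw [this, card_erase_of_mem, card_far_through hG v p]
      simp only [mem_filter, mem_univ, true_and]
      exact ⟨hw, mem_blk.mp hp⟩
    rw [Finset.sum_congr rfl h2, sum_const, card_blk hG v hw]
    rfl
  -- second sum
  have hS2 : ∑ w' ∈ M, ((blk G v w ∩ blk G v w').card).choose 2 = 60 := by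
    have h1 : ∀ w', ((blk G v w ∩ blk G v w').card).choose 2 =
        ∑ e ∈ (blk G v w).powersetCard 2, if e ⊆ blk G v w' then 1 else 0 := by
      intro w'
      rw [← card_filter, ← card_powersetCard]
      congr 1
      ext e
      simp only [mem_powersetCard, mem_filter, subset_inter_iff]
      tauto
    rw [Finset.sum_congr rfl (fun w' _ => h1 w'), Finset.sum_comm]
    have h2 : ∀ e ∈ (blk G v w).powersetCard 2,
        (∑ w' ∈ M, if e ⊆ blk G v w' then 1 else 0) = 4 := by
      intro e he
      rw [mem_powersetCard] at he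
      obtain ⟨p, q, hpq, rfl⟩ := card_eq_two.mp he.2
      rw [← card_filter]
      have : M.filter (fun w' => ({p, q} : Finset (Pt G v)) ⊆ blk G v w') =
          (univ.filter (fun w' => IsFar G v w' ∧ G.Adj w' p.1 ∧ G.Adj w' q.1)).erase w := by
        ext c
        simp only [hM, mem_filter, mem_univ, true_and, mem_erase, insert_subset_iff,
          singleton_subset_iff, mem_blk]
        tauto
      rw [this, card_erase_of_mem, card_far_through_two hG v p q hpq]
      simp only [mem_filter, mem_univ, true_and]
      exact ⟨hw, mem_blk.mp (he.1 (by simp)), mem_blk.mp (he.1 (by simp))⟩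
    rw [Finset.sum_congr rfl h2, sum_const, card_powersetCard, card_blk hG v hw]
    rfl
  -- third sum
  have hS3 : ∑ w' ∈ M, (if G.Adj w w' then 0 else 4) = 240 := by
    rw [sum_ite, sum_const_zero, zero_add, sum_const]
    have h1 := card_filter_add_card_filter_not (s := M) (fun w' => G.Adj w w')
    have h2 : M.filter (fun w' => G.Adj w w') =
        univ.filter (fun w' => IsFar G v w' ∧ G.Adj w w') := by
      ext c
      simp only [hM, mem_filter, mem_univ, true_and]
      constructor
      · rintro ⟨⟨h1, _⟩, h3⟩
        exact ⟨h1, h3⟩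
      · rintro ⟨h1, h3⟩
        exact ⟨⟨h1, (G.ne_of_adj h3).symm⟩, h3⟩
    rw [h2, card_far_adj hG v hw, hMcard] at h1
    have : (M.filter (fun w' => ¬ G.Adj w w')).card = 60 := by omega
    rw [this]
    rfl
  -- termwise comparison
  have hterm : ∀ w' ∈ M, 4 * (blk G v w ∩ blk G v w').card =
      2 * ((blk G v w ∩ blk G v w').card).choose 2 + (blk G v w ∩ blk G v w').card +
        (if G.Adj w w' then 0 else 4) := by
    rw [← Finset.sum_eq_sum_iff_of_le]
    · rw [← Finset.mul_sum, Finset.sum_add_distrib, Finset.sum_add_distrib, ← Finset.mul_sum,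
        hS1, hS2, hS3]
      norm_num
    · intro w' hw'
      have hle := inter_le hG v (w' := w') hw
      by_cases hadj : G.Adj w w'
      · rw [inter_adj hG v hadj, if_pos hadj]
        simp
      · rw [if_neg hadj]
        interval_cases (blk G v w ∩ blk G v w').card <;> simp [Nat.choose]
  intro w' hw' hne hnadj
  have hmem : w' ∈ M := by
    simp only [hM, mem_filter, mem_univ, true_and]
    exact ⟨hw', hne⟩
  have h := hterm w' hmem
  rw [if_neg hnadj] at h
  have hle := inter_le hG v (w' := w') hw
  interval_cases hx : (blk G v w ∩ blk G v w').card <;> simp [Nat.choose] at h ⊢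

theorem inter_cases {w w' : V} (hw : IsFar G v w) (hw' : IsFar G v w') (hne : w ≠ w') :
    (blk G v w ∩ blk G v w').card = 0 ∨ (blk G v w ∩ blk G v w').card = 2 := by
  by_cases hadj : G.Adj w w'
  · left
    rw [inter_adj hG v hadj, card_empty]
  · right
    exact inter_nonadj hG v hw w' hw' (Ne.symm hne) hadj

theorem far_unique {T : Finset (Pt G v)} (hT : 3 ≤ T.card) {w w' : V} (hw : IsFar G v w)
    (hw' : IsFar G v w') (h1 : T ⊆ blk G v w) (h2 : T ⊆ blk G v w') : w = w' := by
  by_contra hne
  have hsub : T ⊆ blk G v w ∩ blk G v w' := subset_inter h1 h2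
  have := card_le_card hsub
  rcases inter_cases hG v hw hw' hne with h | h <;> omega

theorem blk_injective {w w' : V} (hw : IsFar G v w) (hw' : IsFar G v w')
    (h : blk G v w = blk G v w') : w = w' := by
  apply far_unique hG v (T := blk G v w) _ hw hw' (subset_refl _) (h ▸ subset_refl _)
  rw [card_blk hG v hw]
  norm_num

end Counting

/-- the family of blocks -/
def blocks (G : SimpleGraph V) (v : V) : Set (Finset (Pt G v)) :=
  {b | ∃ w, IsFar G v w ∧ b = blk G v w}

theorem blocks_steiner (hG : HSLike G) (v : V) : IsSteinerSystem 3 6 (blocks G v) := by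
  refine ⟨?_, ?_⟩
  · rintro b ⟨w, hw, rfl⟩
    exact card_blk hG v hw
  · set F := univ.filter (fun w => IsFar G v w) with hF
    set 𝒯 := (univ : Finset (Pt G v)).powersetCard 3 with h𝒯
    have hcnt : ∀ T ∈ 𝒯, (F.filter (fun w => T ⊆ blk G v w)).card = 1 := by
      rw [← Finset.sum_eq_sum_iff_of_le]
      · rw [sum_const, h𝒯, card_powersetCard, card_univ, card_pt hG v]
        have h1 : ∀ T ∈ 𝒯, (F.filter (fun w => T ⊆ blk G v w)).card =
            ∑ w ∈ F, if T ⊆ blk G v w then 1 else 0 := fun T _ => card_filter _ _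
        rw [Finset.sum_congr rfl h1, Finset.sum_comm]
        have h2 : ∀ w ∈ F, (∑ T ∈ 𝒯, if T ⊆ blk G v w then 1 else 0) = 20 := by
          intro w hw
          rw [hF, mem_filter] at hw
          rw [← card_filter]
          have : 𝒯.filter (fun T => T ⊆ blk G v w) = (blk G v w).powersetCard 3 := by
            ext T
            simp only [h𝒯, mem_filter, mem_powersetCard, subset_univ, true_and]
            tauto
          rw [this, card_powersetCard, card_blk hG v hw.2]
          rfl
        rw [Finset.sum_congr rfl h2, sum_const, hF, card_far hG v]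
        rfl
      · intro T hT
        rw [h𝒯, mem_powersetCard] at hT
        rw [card_le_one]
        intro a ha b hb
        rw [mem_filter, hF, mem_filter] at ha hb
        exact far_unique hG v (by omega) ha.1.2 hb.1.2 ha.2 hb.2
    intro T hT
    have hT𝒯 : T ∈ 𝒯 := by
      rw [h𝒯, mem_powersetCard]
      exact ⟨subset_univ _, hT⟩
    obtain ⟨w, hw⟩ := card_eq_one.mp (hcnt T hT𝒯)
    have hwm : w ∈ F.filter (fun w => T ⊆ blk G v w) := by
      rw [hw]
      exact mem_singleton_self w
    rw [mem_filter, hF, mem_filter] at hwm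
    refine ⟨blk G v w, ⟨⟨w, hwm.1.2, rfl⟩, hwm.2⟩, ?_⟩
    rintro b ⟨⟨w', hw', rfl⟩, hTb⟩
    rw [far_unique hG v (by omega) hw' hwm.1.2 hTb hwm.2]

/-! ### The isomorphism with the point-block graph -/

/-- the vertex map -/
noncomputable def toVertex (G : SimpleGraph V) (v a : V) : Option (Pt G v ⊕ ↥(blocks G v)) :=
  if h1 : a = v then none
  else if h2 : G.Adj v a then some (Sum.inl ⟨a, h2⟩)
  else some (Sum.inr ⟨blk G v a, a, ⟨h1, h2⟩, rfl⟩)

theorem toVertex_self (v : V) : toVertex G v v = none := by
  unfold toVertex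
  rw [dif_pos rfl]

theorem toVertex_pt {v a : V} (h : G.Adj v a) : toVertex G v a = some (Sum.inl ⟨a, h⟩) := by
  unfold toVertex
  rw [dif_neg (G.ne_of_adj h).symm, dif_pos h]

theorem toVertex_far {v a : V} (h : IsFar G v a) :
    toVertex G v a = some (Sum.inr ⟨blk G v a, a, h, rfl⟩) := by
  unfold toVertex
  rw [dif_neg h.1, dif_neg h.2]

theorem toVertex_bijective (hG : HSLike G) (v : V) : Function.Bijective (toVertex G v) := by
  constructor
  · intro a b hab
    rcases trichotomy (G := G) v a with ha | ha | ha <;>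
      rcases trichotomy (G := G) v b with hb | hb | hb
    · rw [ha, hb]
    · rw [ha, toVertex_self, toVertex_pt hb] at hab
      simp at hab
    · rw [ha, toVertex_self, toVertex_far hb] at hab
      simp at hab
    · rw [hb, toVertex_self, toVertex_pt ha] at hab
      simp at hab
    · rw [toVertex_pt ha, toVertex_pt hb] at hab
      simpa using hab
    · rw [toVertex_pt ha, toVertex_far hb] at hab
      simp at hab
    · rw [hb, toVertex_self, toVertex_far ha] at hab
      simp at hab
    · rw [toVertex_far ha, toVertex_pt hb] at hab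
      simp at hab
    · rw [toVertex_far ha, toVertex_far hb] at hab
      have : blk G v a = blk G v b := congrArg Subtype.val (Sum.inr.inj (Option.some.inj hab))
      exact blk_injective hG v ha hb this
  · intro y
    rcases y with _ | x | ⟨b, w, hw, rfl⟩
    · exact ⟨v, toVertex_self v⟩
    · exact ⟨x.1, toVertex_pt x.2⟩
    · exact ⟨w, toVertex_far hw⟩

theorem adj_toVertex (hG : HSLike G) (v a b : V) :
    (pointBlockGraph (blocks G v)).Adj (toVertex G v a) (toVertex G v b) ↔ G.Adj a b := by
  have hne : ∀ c ∈ blocks G v, c ≠ ∅ := by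
    rintro c ⟨w, hw, rfl⟩ h
    have := card_blk hG v hw
    rw [h, card_empty] at this
    omega
  rcases trichotomy (G := G) v a with ha | ha | ha <;>
    rcases trichotomy (G := G) v b with hb | hb | hb
  · rw [ha, hb, toVertex_self, Cfsg.Agent.S0428.adj_nn]
    exact ⟨False.elim, fun h => G.irrefl h⟩
  · rw [ha, toVertex_self, toVertex_pt hb, Cfsg.Agent.S0428.adj_np]
    exact ⟨fun _ => hb, fun _ => trivial⟩
  · rw [ha, toVertex_self, toVertex_far hb, Cfsg.Agent.S0428.adj_nb]
    exact ⟨False.elim, fun h => hb.2 h⟩
  · rw [hb, toVertex_self, toVertex_pt ha, Cfsg.Agent.S0428.adj_pn]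
    exact ⟨fun _ => ha.symm, fun _ => trivial⟩
  · rw [toVertex_pt ha, toVertex_pt hb, Cfsg.Agent.S0428.adj_pp]
    exact ⟨False.elim, fun h => hG.tri v a b ha hb h⟩
  · rw [toVertex_pt ha, toVertex_far hb, Cfsg.Agent.S0428.adj_pb]
    show (⟨a, ha⟩ : Pt G v) ∈ blk G v b ↔ _
    rw [mem_blk]
    exact ⟨fun h => h.symm, fun h => h.symm⟩
  · rw [hb, toVertex_self, toVertex_far ha, Cfsg.Agent.S0428.adj_bn]
    exact ⟨False.elim, fun h => ha.2 h.symm⟩
  · rw [toVertex_far ha, toVertex_pt hb, Cfsg.Agent.S0428.adj_bp]
    show (⟨b, hb⟩ : Pt G v) ∈ blk G v a ↔ _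
    rw [mem_blk]
  · rw [toVertex_far ha, toVertex_far hb, Cfsg.Agent.S0428.adj_bb hne]
    show Disjoint (blk G v a) (blk G v b) ↔ _
    rw [disjoint_iff_inter_eq_empty]
    constructor
    · intro h
      by_contra hadj
      by_cases hab : a = b
      · rw [hab, inter_self] at h
        have := card_blk hG v hb
        rw [h, card_empty] at this
        omega
      · have := inter_nonadj hG v ha b hb (Ne.symm hab) hadj
        rw [h, card_empty] at this
        omega
    · intro hadj
      exact inter_adj hG v hadj

/-- a graph with the parameters `(100,22,0,6)` is the point-block graph of its local design -/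
noncomputable def localIso (hG : HSLike G) (v : V) : G ≃g pointBlockGraph (blocks G v) where
  toEquiv := Equiv.ofBijective (toVertex G v) (toVertex_bijective hG v)
  map_rel_iff' := by
    intro a b
    exact adj_toVertex hG v a b

theorem localIso_apply_self (hG : HSLike G) (v : V) : localIso hG v v = none :=
  toVertex_self v

end SrgLocal

end Cfsg.Agent.Lib.Helper28
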