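import Mathlib
import Cfsg.Prelude.Def_Sporadic_a
import Cfsg.Prelude.Def_Sporadic
import Cfsg.Agent.Lib.Helper28.Witt23

set_option autoImplicit false
set_option linter.unusedSectionVars false
set_option linter.unusedVariables false

/-!
The Steiner systems `S(3,6,22)`: coordinates in the Golay code, uniqueness and the
automorphism group.
-/

namespace Cfsg.Agent.Lib.Helper28

open Cfsg PlaneFour Derived Cfsg.Agent.Lib.Helper4

namespace Witt

/-! ### The word of weight two and the transposition -/

/-- the word of weight two on the points `none`, `some 0` -/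
def e12 : GolayPt → ZMod 2 := bind ({none, some 0} : Finset GolayPt)

theorem bind_apply' (S : Finset GolayPt) (x : GolayPt) : bind S x = if x ∈ S then 1 else 0 := rfl

theorem dot_e12 (f : GolayPt → ZMod 2) : dot₂ f e12 = f none + f (some 0) := by
  unfold dot₂ e12
  have h : ∀ i : GolayPt, f i * bind ({none, some 0} : Finset GolayPt) i =
      if i ∈ ({none, some 0} : Finset GolayPt) then f i else 0 := by
    intro i
    rw [bind_apply']
    split_ifs <;> simp
  rw [Finset.sum_congr rfl (fun i _ => h i), Finset.sum_ite_mem, Finset.univ_inter,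
    Finset.sum_pair (by simp)]

/-- a word orthogonal to the 16 generating octads through both special points lies in the code
or differs from a code word by the word of weight two -/
theorem code_or_of_gens16 (f : GolayPt → ZMod 2)
    (hdot : ∀ j : Fin 17, j.val < 16 → dot₂ (bind (maskSet (gmask1 j))) f = 0) :
    f ∈ golayCode ∨ f + e12 ∈ golayCode := by
  have h16 : ∀ j : Fin 17, ¬ j.val < 16 → j = 16 := by
    intro j hj
    apply Fin.ext
    have := j.2
    show j.val = 16
    omega
  have hz16 : (some 0 : GolayPt) ∉ maskSet (gmask1 16) := by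
    intro h
    have := (zero_mem_gen 16).mp h
    revert this
    decide
  by_cases hlast : dot₂ (bind (maskSet (gmask1 16))) f = 0
  · left
    apply mem_code_of_gens gmask1 coef1 hcoef1
    intro j
    by_cases hj : j.val < 16
    · exact hdot j hj
    · rw [h16 j hj]
      exact hlast
  · right
    have hlast1 : dot₂ (bind (maskSet (gmask1 16))) f = 1 := (zmod2_ne_zero_iff _).mp hlast
    apply mem_code_of_gens gmask1 coef1 hcoef1
    intro j
    rw [dot₂_add_right, dot_e12, bind_apply', bind_apply']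
    by_cases hj : j.val < 16
    · rw [hdot j hj, if_pos (none_mem_gen j), if_pos ((zero_mem_gen j).mpr hj)]
      decide
    · rw [h16 j hj, hlast1, if_pos (none_mem_gen 16), if_neg hz16]
      decide

/-- the transposition of the two special points -/
def sw : Equiv.Perm GolayPt := Equiv.swap none (some 0)

theorem sw_none : sw none = some 0 := Equiv.swap_apply_left _ _

theorem sw_zero : sw (some 0) = none := Equiv.swap_apply_right _ _

theorem sw_of_ne {x : GolayPt} (h1 : x ≠ none) (h2 : x ≠ some 0) : sw x = x :=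
  Equiv.swap_apply_of_ne_of_ne h1 h2

theorem sw_sw (x : GolayPt) : sw (sw x) = x := Equiv.swap_apply_self _ _ _

theorem sw_mul_sw : sw * sw = 1 := Equiv.swap_mul_self _ _

theorem sw_inv : sw⁻¹ = sw := Equiv.swap_inv _ _

theorem mem_image_sw {c : Finset GolayPt} {x : GolayPt} : x ∈ c.image sw ↔ sw x ∈ c := by
  rw [Finset.mem_image]
  constructor
  · rintro ⟨y, hy, rfl⟩
    rw [sw_sw]
    exact hy
  · intro h
    exact ⟨sw x, h, sw_sw x⟩

theorem image_sw_of_mem {c : Finset GolayPt} (h1 : none ∈ c) (h2 : some 0 ∈ c) :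
    c.image sw = c := by
  ext x
  rw [mem_image_sw]
  by_cases x1 : x = none
  · rw [x1, sw_none]
    exact ⟨fun _ => h1, fun _ => h2⟩
  by_cases x2 : x = some 0
  · rw [x2, sw_zero]
    exact ⟨fun _ => h2, fun _ => h1⟩
  rw [sw_of_ne x1 x2]

theorem bind_add_e12 {d : Finset GolayPt} (h1 : none ∈ d) (h2 : some 0 ∉ d) :
    bind d + e12 = bind (d.image sw) := by
  funext x
  rw [Pi.add_apply, e12, bind_apply', bind_apply', bind_apply']
  simp only [mem_image_sw]
  by_cases x1 : x = none
  · rw [x1, sw_none, if_pos h1, if_neg h2, if_pos (by simp)]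
    decide
  by_cases x2 : x = some 0
  · rw [x2, sw_zero, if_neg h2, if_pos h1, if_pos (by simp)]
    decide
  have hx : x ∉ ({none, some 0} : Finset GolayPt) := by simp [x1, x2]
  rw [sw_of_ne x1 x2, if_neg hx, add_zero]

/-! ### Permutations mapping the octads through the two special points to octads -/

theorem image_mem_octads_of_gens (τ : Equiv.Perm GolayPt)
    (h1 : ∀ j, (maskSet (gmask1 j)).image τ.symm ∈ octads) (o : Finset GolayPt)
    (ho : o ∈ octads) : o.image τ ∈ octads := by
  have hdot : ∀ j, dot₂ (bind (maskSet (gmask1 j))) (bind (o.image τ)) = 0 := by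
    intro j
    unfold dot₂
    rw [dot_eq_card_inter, bsupp_bind, bsupp_bind, card_inter_image]
    exact ZMod.natCast_eq_zero_iff_even.mpr (octads_even_inter (h1 j) ho)
  have hmem := mem_code_of_gens gmask1 coef1 hcoef1 _ hdot
  rw [mem_octads_iff]
  exact ⟨hmem, by rw [Finset.card_image_of_injective _ τ.injective]; exact card_of_mem_octads ho⟩

theorem code_or_of_image (τ : Equiv.Perm GolayPt)
    (h1 : ∀ o ∈ octads, none ∈ o → some 0 ∈ o → o.image τ.symm ∈ octads) (o : Finset GolayPt)
    (ho : o ∈ octads) :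
    bind (o.image τ) ∈ golayCode ∨ bind (o.image τ) + e12 ∈ golayCode := by
  apply code_or_of_gens16
  intro j hj
  unfold dot₂
  rw [dot_eq_card_inter, bsupp_bind, bsupp_bind, card_inter_image]
  have hg := h1 _ (gen_mem_octads j) (none_mem_gen j) ((zero_mem_gen j).mpr hj)
  exact ZMod.natCast_eq_zero_iff_even.mpr (octads_even_inter hg ho)

theorem mem_M24_or_sw (τ : Equiv.Perm GolayPt) (hτ0 : τ none = none)
    (hτ1 : τ (some 0) = some 0)
    (h1 : ∀ o ∈ octads, none ∈ o → some 0 ∈ o → o.image τ.symm ∈ octads)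
    (h2 : ∀ o ∈ octads, none ∈ o → some 0 ∈ o → o.image τ ∈ octads) :
    τ ∈ M24 ∨ sw * τ ∈ M24 := by
  have h16 : ∀ j : Fin 17, ¬ j.val < 16 → j = 16 := by
    intro j hj
    apply Fin.ext
    have := j.2
    show j.val = 16
    omega
  have hg16o : maskSet (gmask1 16) ∈ octads := gen_mem_octads 16
  have hg16n : none ∈ maskSet (gmask1 16) := none_mem_gen 16
  have hg16z : (some 0 : GolayPt) ∉ maskSet (gmask1 16) := by
    intro h
    have := (zero_mem_gen 16).mp h
    revert this
    decide
  have hs0 : τ.symm none = none := by rw [Equiv.symm_apply_eq, hτ0]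
  have hs1 : τ.symm (some 0) = some 0 := by rw [Equiv.symm_apply_eq, hτ1]
  have hdn : none ∈ (maskSet (gmask1 16)).image τ.symm :=
    Finset.mem_image.mpr ⟨none, hg16n, hs0⟩
  have hdz : (some 0 : GolayPt) ∉ (maskSet (gmask1 16)).image τ.symm := by
    intro h
    obtain ⟨y, hy, hy2⟩ := Finset.mem_image.mp h
    have hy3 : y = some 0 := by
      apply τ.symm.injective
      rw [hy2, hs1]
    exact hg16z (hy3 ▸ hy)
  have hdcard : ((maskSet (gmask1 16)).image τ.symm).card = 8 := by
    rw [Finset.card_image_of_injective _ τ.symm.injective]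
    exact card_of_mem_octads hg16o
  have hdich := code_or_of_image τ.symm (by
    intro o ho a b
    rw [Equiv.symm_symm]
    exact h2 o ho a b) _ hg16o
  rcases hdich with hA | hB
  · left
    have hdo : (maskSet (gmask1 16)).image τ.symm ∈ octads :=
      (mem_octads_iff _).mpr ⟨hA, hdcard⟩
    apply mem_M24_of_octads
    apply image_mem_octads_of_gens
    intro j
    by_cases hj : j.val < 16
    · exact h1 _ (gen_mem_octads j) (none_mem_gen j) ((zero_mem_gen j).mpr hj)
    · rw [h16 j hj]
      exact hdo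
  · right
    rw [bind_add_e12 hdn hdz] at hB
    have hdo : ((maskSet (gmask1 16)).image τ.symm).image sw ∈ octads :=
      (mem_octads_iff _).mpr ⟨hB, by
        rw [Finset.card_image_of_injective _ sw.injective, hdcard]⟩
    apply mem_M24_of_octads
    apply image_mem_octads_of_gens
    intro j
    have hsymm : ∀ s : Finset GolayPt, s.image (sw * τ).symm = (s.image sw).image τ.symm := by
      intro s
      rw [Finset.image_image]
      congr 1
    rw [hsymm]
    by_cases hj : j.val < 16
    · rw [image_sw_of_mem (none_mem_gen j) ((zero_mem_gen j).mpr hj)]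
      exact h1 _ (gen_mem_octads j) (none_mem_gen j) ((zero_mem_gen j).mpr hj)
    · rw [h16 j hj]
      have hcomm : ((maskSet (gmask1 16)).image sw).image τ.symm =
          ((maskSet (gmask1 16)).image τ.symm).image sw := by
        rw [Finset.image_image, Finset.image_image]
        congr 1
        funext x
        show τ.symm (sw x) = sw (τ.symm x)
        by_cases x1 : x = none
        · rw [x1, sw_none, hs1, hs0, sw_none]
        by_cases x2 : x = some 0
        · rw [x2, sw_zero, hs0, hs1, sw_zero]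
        rw [sw_of_ne x1 x2, sw_of_ne]
        · intro h
          apply x1
          apply τ.symm.injective
          rw [h, hs0]
        · intro h
          apply x2
          apply τ.symm.injective
          rw [h, hs1]
      rw [hcomm]
      exact hdo

theorem sw_not_mem_M24 : sw ∉ M24 := by
  intro h
  have hg16o : maskSet (gmask1 16) ∈ octads := gen_mem_octads 16
  have hn : none ∈ maskSet (gmask1 16) := none_mem_gen 16
  have hz : (some 0 : GolayPt) ∉ maskSet (gmask1 16) := by
    intro h
    have := (zero_mem_gen 16).mp h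
    revert this
    decide
  have himg := image_mem_octads_of_mem_M24 h hg16o
  have hsub : (maskSet (gmask1 16)).erase none ⊆ (maskSet (gmask1 16)).image sw := by
    intro x hx
    rw [Finset.mem_erase] at hx
    have hx2 : x ≠ some 0 := fun e => hz (e ▸ hx.2)
    exact Finset.mem_image.mpr ⟨x, hx.2, sw_of_ne hx.1 hx2⟩
  have hcard : ((maskSet (gmask1 16)).erase none).card = 7 := by
    rw [Finset.card_erase_of_mem hn, card_of_mem_octads hg16o]
  obtain ⟨s, hs, hs5⟩ := Finset.exists_subset_card_eq
    (show 5 ≤ ((maskSet (gmask1 16)).erase none).card by omega)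
  obtain ⟨o, -, huniq⟩ := octads_isSteinerSystem.2 s hs5
  have e1 := huniq _ ⟨hg16o, hs.trans (Finset.erase_subset _ _)⟩
  have e2 := huniq _ ⟨himg, hs.trans hsub⟩
  have : (some 0 : GolayPt) ∈ maskSet (gmask1 16) := by
    rw [e1, ← e2]
    exact Finset.mem_image.mpr ⟨none, hn, sw_none⟩
  exact hz this

/-! ### Coordinates for an `S(3,6,22)` -/

section Coords

variable {α : Type*} [Fintype α] [DecidableEq α]

theorem exists_coords_22 (hα : Fintype.card α = 22) {B : Set (Finset α)}
    (hB : IsSteinerSystem 3 6 B) :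
    ∃ Ψ : Option (Option α) ≃ GolayPt, Ψ none = none ∧ Ψ (some none) = some 0 ∧
      ∀ b ∈ B, (Finset.insertNone (Finset.insertNone b)).image Ψ ∈ octads := by
  classical
  have h3 : 3 ≤ (Finset.univ : Finset α).card := by
    rw [Finset.card_univ, hα]
    norm_num
  obtain ⟨s, -, hs⟩ := Finset.exists_subset_card_eq h3
  obtain ⟨b0, ⟨hb0, -⟩, -⟩ := hB.2 s hs
  have hb06 := hB.1 b0 hb0
  obtain ⟨p3, hp3⟩ : ∃ p3, p3 ∉ b0 := by
    by_contra hcon
    simp only [not_exists, not_not] at hcon
    have : b0 = Finset.univ := Finset.eq_univ_iff_forall.mpr hcon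
    rw [this, Finset.card_univ, hα] at hb06
    norm_num at hb06
  set 𝓑 : Set (Finset (Option (Option α))) :=
    (fun b => Finset.insertNone (Finset.insertNone b)) '' B with h𝓑
  have hint : ∀ b ∈ B, ∀ c ∈ B, b ≠ c → (b ∩ c).card = 0 ∨ (b ∩ c).card = 2 :=
    fun b hb c hc hbc => SteinerSmall.inter_card_3622 hα hB hb hc hbc
  have heven : ∀ b ∈ 𝓑, ∀ c ∈ 𝓑, Even (b ∩ c).card := by
    rintro _ ⟨b, hb, rfl⟩ _ ⟨c, hc, rfl⟩
    show Even (Finset.insertNone (Finset.insertNone b) ∩
      Finset.insertNone (Finset.insertNone c)).card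
    rw [insertNone_inter, insertNone_inter, Finset.card_insertNone, Finset.card_insertNone]
    by_cases hbc : b = c
    · rw [hbc, Finset.inter_self, hB.1 c hc]
      decide
    · rcases hint b hb c hc hbc with h | h <;> rw [h] <;> decide
  have hle4 : ∀ b ∈ 𝓑, ∀ c ∈ 𝓑, b ≠ c → (b ∩ c).card ≤ 4 := by
    rintro _ ⟨b, hb, rfl⟩ _ ⟨c, hc, rfl⟩ hne
    show (Finset.insertNone (Finset.insertNone b) ∩
      Finset.insertNone (Finset.insertNone c)).card ≤ 4
    rw [insertNone_inter, insertNone_inter, Finset.card_insertNone, Finset.card_insertNone]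
    have hbc : b ≠ c := fun e => hne (by rw [e])
    rcases hint b hb c hc hbc with h | h <;> omega
  have hF : OctFam 𝓑 (none : Option (Option α)) (some none) (some (some p3))
      (Finset.insertNone (Finset.insertNone b0)) :=
    { card24 := by rw [Fintype.card_option, Fintype.card_option, hα]
      card8 := by
        rintro _ ⟨b, hb, rfl⟩
        show (Finset.insertNone (Finset.insertNone b)).card = 8
        rw [Finset.card_insertNone, Finset.card_insertNone, hB.1 b hb]
      le4 := hle4
      ne12 := by simp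
      ne13 := by simp
      ne23 := by simp
      plane := by
        intro x y hxy hx hy
        obtain ⟨x1, rfl⟩ : ∃ x1, x = some x1 := Option.ne_none_iff_exists'.mp hx.1
        obtain ⟨y1, rfl⟩ : ∃ y1, y = some y1 := Option.ne_none_iff_exists'.mp hy.1
        have hx1 : x1 ≠ none := fun e => hx.2.1 (by rw [e])
        have hy1 : y1 ≠ none := fun e => hy.2.1 (by rw [e])
        obtain ⟨x', rfl⟩ : ∃ x', x1 = some x' := Option.ne_none_iff_exists'.mp hx1
        obtain ⟨y', rfl⟩ : ∃ y', y1 = some y' := Option.ne_none_iff_exists'.mp hy1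
        have hx3 : x' ≠ p3 := fun e => hx.2.2 (by rw [e])
        have hy3 : y' ≠ p3 := fun e => hy.2.2 (by rw [e])
        have hxy' : x' ≠ y' := fun e => hxy (by rw [e])
        have hc : ({p3, x', y'} : Finset α).card = 3 := by
          rw [Finset.card_insert_of_notMem, Finset.card_pair hxy']
          simp only [Finset.mem_insert, Finset.mem_singleton, not_or]
          exact ⟨hx3.symm, hy3.symm⟩
        obtain ⟨b, ⟨hb, hsb⟩, huniq⟩ := hB.2 _ hc
        refine ⟨Finset.insertNone (Finset.insertNone b), ⟨⟨b, hb, rfl⟩,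
          Finset.none_mem_insertNone,
          Finset.some_mem_insertNone.mpr Finset.none_mem_insertNone,
          Finset.some_mem_insertNone.mpr (Finset.some_mem_insertNone.mpr (hsb (by simp))),
          Finset.some_mem_insertNone.mpr (Finset.some_mem_insertNone.mpr (hsb (by simp))),
          Finset.some_mem_insertNone.mpr (Finset.some_mem_insertNone.mpr (hsb (by simp)))⟩, ?_⟩
        rintro _ ⟨⟨b', hb', rfl⟩, -, -, a3, a4, a5⟩
        show Finset.insertNone (Finset.insertNone b') = Finset.insertNone (Finset.insertNone b)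
        rw [Finset.some_mem_insertNone, Finset.some_mem_insertNone] at a3 a4 a5
        have : b' = b := by
          apply huniq b' ⟨hb', ?_⟩
          intro z hz
          simp only [Finset.mem_insert, Finset.mem_singleton] at hz
          rcases hz with rfl | rfl | rfl <;> assumption
        rw [this]
      hb0 := ⟨b0, hb0, rfl⟩
      h1 := Finset.none_mem_insertNone
      h2 := Finset.some_mem_insertNone.mpr Finset.none_mem_insertNone
      h3 := fun h => hp3 (Finset.some_mem_insertNone.mp (Finset.some_mem_insertNone.mp h)) }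
  obtain ⟨Φ, hΦ0, hΦ1, hΦ2, hlines, hb0', -⟩ := hF.core
  have hs0 : Φ.symm none = Sum.inr 0 := (Equiv.symm_apply_eq Φ).mpr hΦ0.symm
  have hs1 : Φ.symm (some none) = Sum.inr 1 := (Equiv.symm_apply_eq Φ).mpr hΦ1.symm
  have hΨ0 : (Φ.symm.trans (kidx1.trans PlaneFour.ptEquiv)) none = none := by
    rw [Equiv.trans_apply, hs0]
    decide +kernel
  have hΨ1 : (Φ.symm.trans (kidx1.trans PlaneFour.ptEquiv)) (some none) = some 0 := by
    rw [Equiv.trans_apply, hs1]
    decide +kernel
  have hG : ∀ j : Fin 17, j.val < 16 → (gens H1 j).image Φ ∈ 𝓑 := by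
    intro j hj
    unfold gens
    split_ifs with c1 c2
    · exact hlines _ (Or.inl ⟨_, _, pair_ne _, rfl⟩)
    · rw [hb0']
      exact hF.hb0
    · omega
  refine ⟨Φ.symm.trans (kidx1.trans PlaneFour.ptEquiv), hΨ0, hΨ1, ?_⟩
  intro b hb
  have hb𝓑 : Finset.insertNone (Finset.insertNone b) ∈ 𝓑 := ⟨b, hb, rfl⟩
  have hinj : Function.Injective (Φ.symm.trans (kidx1.trans PlaneFour.ptEquiv)) := Equiv.injective _
  have hdot : ∀ j : Fin 17, j.val < 16 → dot₂ (bind (maskSet (gmask1 j)))
      (bind ((Finset.insertNone (Finset.insertNone b)).image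
        (Φ.symm.trans (kidx1.trans PlaneFour.ptEquiv)))) = 0 := by
    intro j hj
    unfold dot₂
    rw [dot_eq_card_inter, bsupp_bind, bsupp_bind,
      ← image_gen_eq Φ kidx1 (gens H1 j) (gmask1 j) (hmask1 j),
      ← Finset.image_inter _ _ hinj, Finset.card_image_of_injective _ hinj]
    exact ZMod.natCast_eq_zero_iff_even.mpr (heven _ (hG j hj) _ hb𝓑)
  have hcn : none ∈ (Finset.insertNone (Finset.insertNone b)).image
      (Φ.symm.trans (kidx1.trans PlaneFour.ptEquiv)) :=
    Finset.mem_image.mpr ⟨none, Finset.none_mem_insertNone, hΨ0⟩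
  have hcz : some 0 ∈ (Finset.insertNone (Finset.insertNone b)).image
      (Φ.symm.trans (kidx1.trans PlaneFour.ptEquiv)) :=
    Finset.mem_image.mpr ⟨some none,
      Finset.some_mem_insertNone.mpr Finset.none_mem_insertNone, hΨ1⟩
  have hc8 : ((Finset.insertNone (Finset.insertNone b)).image
      (Φ.symm.trans (kidx1.trans PlaneFour.ptEquiv))).card = 8 := by
    rw [Finset.card_image_of_injective _ hinj, Finset.card_insertNone, Finset.card_insertNone,
      hB.1 b hb]
  rcases code_or_of_gens16 _ hdot with hA | hBad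
  · exact (mem_octads_iff _).mpr ⟨hA, hc8⟩
  · exfalso
    have hadd := hammingNorm_add (bind ((Finset.insertNone (Finset.insertNone b)).image
      (Φ.symm.trans (kidx1.trans PlaneFour.ptEquiv)))) e12
    have hS : bsupp e12 = ({none, some 0} : Finset GolayPt) := bsupp_bind _
    rw [hammingNorm_eq_card_bsupp (bind _), hammingNorm_eq_card_bsupp e12, bsupp_bind, hS] at hadd
    have hSc : (Finset.insertNone (Finset.insertNone b)).image
        (Φ.symm.trans (kidx1.trans PlaneFour.ptEquiv)) ∩ {none, some 0} = {none, some 0} := by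
      apply Finset.inter_eq_right.mpr
      intro z hz
      simp only [Finset.mem_insert, Finset.mem_singleton] at hz
      rcases hz with rfl | rfl
      · exact hcn
      · exact hcz
    rw [hSc, Finset.card_pair (by simp), hc8] at hadd
    have hne : bind ((Finset.insertNone (Finset.insertNone b)).image
        (Φ.symm.trans (kidx1.trans PlaneFour.ptEquiv))) + e12 ≠ 0 := by
      intro h
      rw [h, hammingNorm_zero] at hadd
      omega
    have hmin := Helper4.golay_min_weight hBad hne
    rw [support₂_eq_bsupp] at hmin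
    rw [hammingNorm_eq_card_bsupp] at hadd
    omega

theorem coords_22_iff {B : Set (Finset α)} (hB : IsSteinerSystem 3 6 B)
    (Ψ : Option (Option α) ≃ GolayPt)
    (hΨ : ∀ b ∈ B, (Finset.insertNone (Finset.insertNone b)).image Ψ ∈ octads) (b : Finset α) :
    b ∈ B ↔ (Finset.insertNone (Finset.insertNone b)).image Ψ ∈ octads := by
  have hS : IsSteinerSystem 3 6 (derived (derived (pull Ψ octads))) :=
    derived_steiner (t := 3) (k := 6)
      (derived_steiner (t := 4) (k := 7) (pull_steiner Ψ octads_isSteinerSystem))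
  have : B = derived (derived (pull Ψ octads)) :=
    steiner_eq_of_subset (by norm_num) hB hS (fun b hb => hΨ b hb)
  rw [this]
  exact Iff.rfl

end Coords

/-! ### Uniqueness -/

section Unique

variable {α β : Type*} [Fintype α] [DecidableEq α] [Fintype β] [DecidableEq β]

theorem steiner_3_6_22_iso (hα : Fintype.card α = 22) (hβ : Fintype.card β = 22)
    {B : Set (Finset α)} {B' : Set (Finset β)} (hB : IsSteinerSystem 3 6 B)
    (hB' : IsSteinerSystem 3 6 B') : SetSystemIso B B' := by
  obtain ⟨Ψ, h0, h1, hΨ⟩ := exists_coords_22 hα hB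
  obtain ⟨Ψ', h0', h1', hΨ'⟩ := exists_coords_22 hβ hB'
  have hiff' := coords_22_iff hB' Ψ' hΨ'
  have hΘ0 : (Ψ.trans Ψ'.symm) none = none := by
    rw [Equiv.trans_apply, h0, Equiv.symm_apply_eq, h0']
  have hΘ1 : (Ψ.trans Ψ'.symm) (some none) = some none := by
    rw [Equiv.trans_apply, h1, Equiv.symm_apply_eq, h1']
  have hθ10 : (Equiv.removeNone (Ψ.trans Ψ'.symm)) none = none := by
    have : some ((Equiv.removeNone (Ψ.trans Ψ'.symm)) none) = (Ψ.trans Ψ'.symm) (some none) :=
      Equiv.removeNone_some _ ⟨none, hΘ1⟩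
    rw [hΘ1] at this
    exact Option.some_injective _ this
  refine ⟨Equiv.removeNone (Equiv.removeNone (Ψ.trans Ψ'.symm)),
    SetSys.steiner_image_eq (by norm_num) hB hB' _ ?_⟩
  intro b hb
  rw [hiff', ← image_insertNone _ hθ10, ← image_insertNone _ hΘ0, Finset.image_image]
  have : (⇑Ψ' ∘ ⇑(Ψ.trans Ψ'.symm)) = ⇑Ψ := by
    funext x
    simp
  rw [this]
  exact hΨ b hb

end Unique

/-! ### The automorphism group -/

section Aut

variable {α : Type*} [Fintype α] [DecidableEq α]

/-- the homomorphism induced by the coordinates -/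
def tauHom2 (Ψ : Option (Option α) ≃ GolayPt) : Equiv.Perm α →* Equiv.Perm GolayPt :=
  Ψ.permCongrHom.toMonoidHom.comp ((optHom (Option α)).comp (optHom α))

theorem tauHom2_apply (Ψ : Option (Option α) ≃ GolayPt) (σ : Equiv.Perm α)
    (x : Option (Option α)) :
    tauHom2 Ψ σ (Ψ x) = Ψ (Equiv.optionCongr (Equiv.optionCongr σ) x) := by
  show Ψ ((Equiv.optionCongr (Equiv.optionCongr σ)) (Ψ.symm (Ψ x))) = _
  rw [Equiv.symm_apply_apply]

theorem tauHom2_injective (Ψ : Option (Option α) ≃ GolayPt) :
    Function.Injective (tauHom2 Ψ) := by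
  intro σ τ h
  apply optHom_injective α
  apply optHom_injective (Option α)
  exact Ψ.permCongrHom.injective h

theorem image_tauHom2 (Ψ : Option (Option α) ≃ GolayPt) (σ : Equiv.Perm α) (b : Finset α) :
    ((Finset.insertNone (Finset.insertNone b)).image Ψ).image (tauHom2 Ψ σ) =
      (Finset.insertNone (Finset.insertNone (b.image σ))).image Ψ := by
  rw [Finset.image_image, ← image_insertNone_optionCongr, ← image_insertNone_optionCongr,
    Finset.image_image]
  congr 1
  funext x
  exact tauHom2_apply Ψ σ x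

variable {B : Set (Finset α)} (Ψ : Option (Option α) ≃ GolayPt) (h0 : Ψ none = none)
  (h1 : Ψ (some none) = some 0)
  (hiff : ∀ b : Finset α, b ∈ B ↔
    (Finset.insertNone (Finset.insertNone b)).image Ψ ∈ octads)
include h0 h1 hiff

omit hiff in
theorem tauHom2_none (σ : Equiv.Perm α) : tauHom2 Ψ σ none = none := by
  have := tauHom2_apply Ψ σ none
  rw [h0] at this
  rw [this]
  show Ψ none = none
  exact h0

omit hiff in
theorem tauHom2_zero (σ : Equiv.Perm α) : tauHom2 Ψ σ (some 0) = some 0 := by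
  have := tauHom2_apply Ψ σ (some none)
  rw [h1] at this
  rw [this]
  show Ψ (some none) = some 0
  exact h1

theorem octad_eq_image2 {o : Finset GolayPt} (ho : o ∈ octads) (hn : none ∈ o)
    (hz : some 0 ∈ o) :
    ∃ b ∈ B, o = (Finset.insertNone (Finset.insertNone b)).image Ψ := by
  have hs0 : Ψ.symm none = none := by rw [Equiv.symm_apply_eq, h0]
  have hs1 : Ψ.symm (some 0) = some none := by rw [Equiv.symm_apply_eq, h1]
  have hn' : none ∈ o.image Ψ.symm := Finset.mem_image.mpr ⟨none, hn, hs0⟩
  have hz' : some none ∈ o.image Ψ.symm := Finset.mem_image.mpr ⟨some 0, hz, hs1⟩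
  have e1 : Finset.insertNone (Finset.eraseNone (o.image Ψ.symm)) = o.image Ψ.symm :=
    insertNone_eraseNone_of_mem hn'
  have hz'' : none ∈ Finset.eraseNone (o.image Ψ.symm) := Finset.mem_eraseNone.mpr hz'
  have e2 : Finset.insertNone (Finset.eraseNone (Finset.eraseNone (o.image Ψ.symm))) =
      Finset.eraseNone (o.image Ψ.symm) := insertNone_eraseNone_of_mem hz''
  have h2 : (Finset.insertNone (Finset.insertNone
      (Finset.eraseNone (Finset.eraseNone (o.image Ψ.symm))))).image Ψ = o := by
    rw [e2, e1, Finset.image_image, Equiv.self_comp_symm, Finset.image_id]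
  refine ⟨_, ?_, h2.symm⟩
  rw [hiff, h2]
  exact ho

theorem exists_of_fix {g : Equiv.Perm GolayPt} (hgn : g none = none)
    (hgz : g (some 0) = some 0)
    (hg : ∀ o ∈ octads, none ∈ o → some 0 ∈ o → o.image g ∈ octads) :
    ∃ σ ∈ setSystemAut B, tauHom2 Ψ σ = g := by
  have hg'0 : (Ψ.symm.permCongr g) none = none := by
    show Ψ.symm (g (Ψ.symm.symm none)) = none
    rw [Equiv.symm_symm, h0, hgn, Equiv.symm_apply_eq, h0]
  have hg'1 : (Ψ.symm.permCongr g) (some none) = some none := by
    show Ψ.symm (g (Ψ.symm.symm (some none))) = some none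
    rw [Equiv.symm_symm, h1, hgz, Equiv.symm_apply_eq, h1]
  have hopt := eq_optionCongr (Ψ.symm.permCongr g) hg'0
  have hg1n : (Equiv.removeNone (Ψ.symm.permCongr g)) none = none := by
    have : some ((Equiv.removeNone (Ψ.symm.permCongr g)) none) =
        (Ψ.symm.permCongr g) (some none) := Equiv.removeNone_some _ ⟨none, hg'1⟩
    rw [hg'1] at this
    exact Option.some_injective _ this
  have hopt1 := eq_optionCongr (Equiv.removeNone (Ψ.symm.permCongr g)) hg1n
  have htau : tauHom2 Ψ (Equiv.removeNone (Equiv.removeNone (Ψ.symm.permCongr g))) = g := by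
    ext1 x
    show Ψ ((Equiv.optionCongr (Equiv.optionCongr
      (Equiv.removeNone (Equiv.removeNone (Ψ.symm.permCongr g))))) (Ψ.symm x)) = g x
    rw [← hopt1, ← hopt]
    show Ψ (Ψ.symm (g (Ψ.symm.symm (Ψ.symm x)))) = g x
    simp
  refine ⟨Equiv.removeNone (Equiv.removeNone (Ψ.symm.permCongr g)), ?_, htau⟩
  rw [SetSys.mem_aut_iff]
  intro b hb
  rw [hiff, ← image_tauHom2, htau]
  have hb' := (hiff b).mp hb
  apply hg _ hb'
  · exact Finset.mem_image.mpr ⟨none, Finset.none_mem_insertNone, h0⟩
  · exact Finset.mem_image.mpr ⟨some none,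
      Finset.some_mem_insertNone.mpr Finset.none_mem_insertNone, h1⟩

theorem tauHom2_dichotomy {σ : Equiv.Perm α} (hσ : σ ∈ setSystemAut B) :
    tauHom2 Ψ σ ∈ M24 ∨ sw * tauHom2 Ψ σ ∈ M24 := by
  have key : ∀ ρ ∈ setSystemAut B, ∀ o ∈ octads, none ∈ o → some 0 ∈ o →
      o.image (tauHom2 Ψ ρ) ∈ octads := by
    intro ρ hρ o ho hn hz
    obtain ⟨b, hb, rfl⟩ := octad_eq_image2 Ψ h0 h1 hiff ho hn hz
    rw [image_tauHom2, ← hiff]
    exact SetSys.mem_aut_iff.mp hρ b hb
  have hinv : (tauHom2 Ψ σ).symm = tauHom2 Ψ σ⁻¹ := by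
    rw [map_inv]
    rfl
  apply mem_M24_or_sw _ (tauHom2_none Ψ h0 h1 σ) (tauHom2_zero Ψ h0 h1 σ)
  · rw [hinv]
    exact key σ⁻¹ ((setSystemAut B).inv_mem hσ)
  · exact key σ hσ

theorem exists_odd : ∃ σ ∈ setSystemAut B, tauHom2 Ψ σ ∉ M24 := by
  obtain ⟨g0, hg0, hg0n, hg0z⟩ := M24_twoTransOn none (Set.mem_univ _) (some 0) (Set.mem_univ _)
    (by simp) (some 0) (Set.mem_univ _) none (Set.mem_univ _) (by simp)
  have h1' : (sw * g0) none = none := by rw [Equiv.Perm.mul_apply, hg0n, sw_zero]
  have h2' : (sw * g0) (some 0) = some 0 := by rw [Equiv.Perm.mul_apply, hg0z, sw_none]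
  have hoct : ∀ o ∈ octads, none ∈ o → some 0 ∈ o → o.image (sw * g0) ∈ octads := by
    intro o ho hn hz
    have : o.image (sw * g0) = (o.image g0).image sw := by
      rw [Finset.image_image, Equiv.Perm.coe_mul]
    rw [this, image_sw_of_mem]
    · exact image_mem_octads_of_mem_M24 hg0 ho
    · exact Finset.mem_image.mpr ⟨some 0, hz, hg0z⟩
    · exact Finset.mem_image.mpr ⟨none, hn, hg0n⟩
  obtain ⟨σ, hσ, hσg⟩ := exists_of_fix Ψ h0 h1 hiff h1' h2' hoct
  refine ⟨σ, hσ, ?_⟩
  rw [hσg]
  intro hmem
  apply sw_not_mem_M24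
  have : sw = (sw * g0) * g0⁻¹ := by group
  rw [this]
  exact M24.mul_mem hmem (M24.inv_mem hg0)

theorem pretransitive_22 : MulAction.IsMultiplyPretransitive (setSystemAut B) α 3 := by
  rw [MulAction.isMultiplyPretransitive_iff]
  intro x y
  have h5 := Cfsg.Agent.S0366.result
  rw [MulAction.isMultiplyPretransitive_iff] at h5
  let ext5 : (Fin 3 ↪ α) → (Fin 5 ↪ GolayPt) := fun x =>
    ((finSuccEquiv 4).toEmbedding.trans
      ((finSuccEquiv 3).toEmbedding.trans x.optionMap).optionMap).trans Ψ.toEmbedding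
  have e0 : ∀ x : Fin 3 ↪ α, ext5 x 0 = none := by
    intro x
    show Ψ (Option.map ((finSuccEquiv 3).toEmbedding.trans x.optionMap) (finSuccEquiv 4 0)) = none
    rw [finSuccEquiv_zero]
    exact h0
  have e1 : ∀ x : Fin 3 ↪ α, ext5 x (Fin.succ 0) = some 0 := by
    intro x
    show Ψ (Option.map ((finSuccEquiv 3).toEmbedding.trans x.optionMap) (finSuccEquiv 4 (Fin.succ 0))) = some 0
    rw [finSuccEquiv_succ, Option.map_some]
    show Ψ (some (Option.map x (finSuccEquiv 3 0))) = some 0
    rw [finSuccEquiv_zero]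
    exact h1
  have es : ∀ (x : Fin 3 ↪ α) (i : Fin 3), ext5 x i.succ.succ = Ψ (some (some (x i))) := by
    intro x i
    show Ψ (Option.map ((finSuccEquiv 3).toEmbedding.trans x.optionMap) (finSuccEquiv 4 i.succ.succ)) = _
    rw [finSuccEquiv_succ, Option.map_some]
    show Ψ (some (Option.map x (finSuccEquiv 3 i.succ))) = _
    rw [finSuccEquiv_succ]
    rfl
  obtain ⟨g, hg⟩ := h5 (ext5 x) (ext5 y)
  have hg0 : g.1 none = none := by
    have h1 := DFunLike.congr_fun hg 0
    have h2 : g.1 (ext5 x 0) = ext5 y 0 := h1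
    rwa [e0, e0] at h2
  have hg1 : g.1 (some 0) = some 0 := by
    have h1 := DFunLike.congr_fun hg (Fin.succ 0)
    have h2 : g.1 (ext5 x (Fin.succ 0)) = ext5 y (Fin.succ 0) := h1
    rwa [e1, e1] at h2
  obtain ⟨σ, hσ, hσg⟩ := exists_of_fix Ψ h0 h1 hiff hg0 hg1
    (fun o ho _ _ => image_mem_octads_of_mem_M24 g.2 ho)
  refine ⟨⟨σ, hσ⟩, ?_⟩
  ext i
  show σ (x i) = y i
  have h1 := DFunLike.congr_fun hg i.succ.succ
  have h2 : g.1 (ext5 x i.succ.succ) = ext5 y i.succ.succ := h1
  rw [es, es, ← hσg, tauHom2_apply] at h2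
  have h3 := Ψ.injective h2
  simpa using h3

theorem aut_22_aux : Nat.card (setSystemAut B) = 887040 ∧
    ∃ H : Subgroup (setSystemAut B), H.index = 2 ∧ IsM22 H := by
  have hp23 : Helper4.pt 23 = none := by decide
  have hp0 : Helper4.pt 0 = some 0 := by decide
  have hfinj : Function.Injective ((tauHom2 Ψ).comp (setSystemAut B).subtype) :=
    (tauHom2_injective Ψ).comp Subtype.coe_injective
  have hmemH : ∀ b : ↥(setSystemAut B),
      b ∈ G22.comap ((tauHom2 Ψ).comp (setSystemAut B).subtype) ↔ tauHom2 Ψ b.1 ∈ M24 := by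
    intro b
    rw [Subgroup.mem_comap, mem_G22, hp23, hp0]
    constructor
    · intro h
      exact h.1
    · intro h
      exact ⟨h, tauHom2_none Ψ h0 h1 b.1, tauHom2_zero Ψ h0 h1 b.1⟩
  have hmap : (G22.comap ((tauHom2 Ψ).comp (setSystemAut B).subtype)).map
      ((tauHom2 Ψ).comp (setSystemAut B).subtype) = G22 := by
    ext g
    rw [Subgroup.mem_map]
    constructor
    · rintro ⟨x, hx, rfl⟩
      exact hx
    · intro hg
      obtain ⟨hgM, hgn, hgz⟩ := mem_G22.mp hg
      rw [hp23] at hgn
      rw [hp0] at hgz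
      obtain ⟨σ, hσ, hσg⟩ := exists_of_fix Ψ h0 h1 hiff hgn hgz
        (fun o ho _ _ => image_mem_octads_of_mem_M24 hgM ho)
      refine ⟨⟨σ, hσ⟩, ?_, hσg⟩
      rw [hmemH]
      show tauHom2 Ψ σ ∈ M24
      rw [hσg]
      exact hgM
  have eH : ↥(G22.comap ((tauHom2 Ψ).comp (setSystemAut B).subtype)) ≃* ↥G22 :=
    (Subgroup.equivMapOfInjective _ _ hfinj).trans (MulEquiv.subgroupCongr hmap)
  have hindex : (G22.comap ((tauHom2 Ψ).comp (setSystemAut B).subtype)).index = 2 := by
    obtain ⟨σ1, hσ1, hodd⟩ := exists_odd Ψ h0 h1 hiff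
    rw [Subgroup.index_eq_two_iff]
    refine ⟨⟨σ1, hσ1⟩, fun b => ?_⟩
    have ha : (⟨σ1, hσ1⟩ : ↥(setSystemAut B)) ∉
        G22.comap ((tauHom2 Ψ).comp (setSystemAut B).subtype) := by
      rw [hmemH]
      exact hodd
    by_cases hb : b ∈ G22.comap ((tauHom2 Ψ).comp (setSystemAut B).subtype)
    · right
      refine ⟨hb, fun hba => ha ?_⟩
      have := Subgroup.mul_mem _ (Subgroup.inv_mem _ hb) hba
      rwa [inv_mul_cancel_left] at this
    · left
      refine ⟨?_, hb⟩
      rw [hmemH] at hb ⊢
      have hb' := (tauHom2_dichotomy Ψ h0 h1 hiff b.2).resolve_left hb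
      have ha' := (tauHom2_dichotomy Ψ h0 h1 hiff hσ1).resolve_left hodd
      have hcomm : tauHom2 Ψ b.1 * sw = sw * tauHom2 Ψ b.1 := by
        unfold sw
        rw [Equiv.mul_swap_eq_swap_mul, tauHom2_none Ψ h0 h1, tauHom2_zero Ψ h0 h1]
      have hprod : tauHom2 Ψ (b * (⟨σ1, hσ1⟩ : ↥(setSystemAut B))).1 =
          (sw * tauHom2 Ψ b.1) * (sw * tauHom2 Ψ σ1) := by
        show tauHom2 Ψ (b.1 * σ1) = _
        rw [map_mul, mul_assoc, ← mul_assoc (tauHom2 Ψ b.1) sw, hcomm, mul_assoc sw,
          ← mul_assoc sw sw, sw_mul_sw, one_mul]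
      rw [hprod]
      exact M24.mul_mem hb' ha'
  have hcardH : Nat.card ↥(G22.comap ((tauHom2 Ψ).comp (setSystemAut B).subtype)) = 443520 := by
    rw [Nat.card_congr eH.toEquiv]
    exact card_G22
  refine ⟨?_, G22.comap ((tauHom2 Ψ).comp (setSystemAut B).subtype), hindex, ?_, hcardH⟩
  · have := Subgroup.index_mul_card (G22.comap ((tauHom2 Ψ).comp (setSystemAut B).subtype))
    rw [hindex, hcardH] at this
    omega
  · haveI : IsSimpleGroup ↥G22 := G22_isSimpleGroup
    exact eH.isSimpleGroup

end Aut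

theorem aut_22 {α : Type*} [Fintype α] [DecidableEq α] (hα : Fintype.card α = 22)
    {B : Set (Finset α)} (hB : IsSteinerSystem 3 6 B) :
    Nat.card (setSystemAut B) = 887040 ∧
      MulAction.IsMultiplyPretransitive (setSystemAut B) α 3 ∧
      ∃ H : Subgroup (setSystemAut B), H.index = 2 ∧ IsM22 H := by
  obtain ⟨Ψ, h0, h1, hΨ⟩ := exists_coords_22 hα hB
  have hiff := coords_22_iff hB Ψ hΨ
  obtain ⟨hc, hH⟩ := aut_22_aux Ψ h0 h1 hiff
  exact ⟨hc, pretransitive_22 Ψ h0 h1 hiff, hH⟩

end Witt

end Cfsg.Agent.Lib.Helper28
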