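import Mathlib
import Cfsg.Prelude.Def_Sporadic_a
import Cfsg.Agent.S0428
import Cfsg.Agent.Lib.Helper28.SrgLocal
import Cfsg.Agent.Lib.Helper28.SetSysIso
import Cfsg.Agent.Lib.Helper28.Witt22

set_option autoImplicit false
set_option linter.unusedSectionVars false
set_option linter.unusedVariables false

/-!
Point-block graphs: isomorphisms induced from isomorphisms of set systems, uniqueness of the
strongly regular graph with parameters `(100, 22, 0, 6)` and the order of its automorphism group.
-/

namespace Cfsg.Agent.Lib.Helper28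

open Cfsg Cfsg.Agent.S0428

namespace PBGraph

section Iso

variable {α β : Type*} [DecidableEq α] [DecidableEq β] {B : Set (Finset α)}
  {B' : Set (Finset β)}

/-- the bijection between the blocks -/
def blockEquiv (e : α ≃ β) (he : (fun b : Finset α => b.image e) '' B = B') : ↥B ≃ ↥B' where
  toFun b := ⟨b.1.image e, by
    have := Set.mem_image_of_mem (fun b : Finset α => b.image e) b.2
    rw [he] at this
    exact this⟩
  invFun b := ⟨b.1.image e.symm, by
    have := Set.mem_image_of_mem (fun b : Finset β => b.image e.symm) b.2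
    rw [SetSys.image_symm he] at this
    exact this⟩
  left_inv b := by
    apply Subtype.ext
    show (b.1.image e).image e.symm = b.1
    rw [Finset.image_image, Equiv.symm_comp_self, Finset.image_id]
  right_inv b := by
    apply Subtype.ext
    show (b.1.image e.symm).image e = b.1
    rw [Finset.image_image, Equiv.self_comp_symm, Finset.image_id]

theorem blockEquiv_coe (e : α ≃ β) (he : (fun b : Finset α => b.image e) '' B = B') (b : ↥B) :
    ((blockEquiv e he b : ↥B') : Finset β) = b.1.image e := rfl

/-- the isomorphism of point-block graphs induced by an isomorphism of set systems -/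
def isoOfIso (e : α ≃ β) (he : (fun b : Finset α => b.image e) '' B = B')
    (hne : ∀ b ∈ B, b ≠ ∅) : pointBlockGraph B ≃g pointBlockGraph B' where
  toEquiv := Equiv.optionCongr (Equiv.sumCongr e (blockEquiv e he))
  map_rel_iff' := by
    have hne' : ∀ b ∈ B', b ≠ ∅ := by
      intro b hb
      rw [← he] at hb
      obtain ⟨c, hc, rfl⟩ := hb
      intro h
      exact hne c hc (Finset.image_eq_empty.mp h)
    intro x y
    rcases x with _ | a | b <;> rcases y with _ | a' | b'
    · show (pointBlockGraph B').Adj none none ↔ (pointBlockGraph B).Adj none none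
      rw [adj_nn, adj_nn]
    · show (pointBlockGraph B').Adj none (some (Sum.inl (e a'))) ↔
        (pointBlockGraph B).Adj none (some (Sum.inl a'))
      rw [adj_np, adj_np]
    · show (pointBlockGraph B').Adj none (some (Sum.inr (blockEquiv e he b'))) ↔
        (pointBlockGraph B).Adj none (some (Sum.inr b'))
      rw [adj_nb, adj_nb]
    · show (pointBlockGraph B').Adj (some (Sum.inl (e a))) none ↔
        (pointBlockGraph B).Adj (some (Sum.inl a)) none
      rw [adj_pn, adj_pn]
    · show (pointBlockGraph B').Adj (some (Sum.inl (e a))) (some (Sum.inl (e a'))) ↔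
        (pointBlockGraph B).Adj (some (Sum.inl a)) (some (Sum.inl a'))
      rw [adj_pp, adj_pp]
    · show (pointBlockGraph B').Adj (some (Sum.inl (e a))) (some (Sum.inr (blockEquiv e he b'))) ↔
        (pointBlockGraph B).Adj (some (Sum.inl a)) (some (Sum.inr b'))
      rw [adj_pb, adj_pb, blockEquiv_coe]
      exact Function.Injective.mem_finset_image e.injective
    · show (pointBlockGraph B').Adj (some (Sum.inr (blockEquiv e he b))) none ↔
        (pointBlockGraph B).Adj (some (Sum.inr b)) none
      rw [adj_bn, adj_bn]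
    · show (pointBlockGraph B').Adj (some (Sum.inr (blockEquiv e he b))) (some (Sum.inl (e a'))) ↔
        (pointBlockGraph B).Adj (some (Sum.inr b)) (some (Sum.inl a'))
      rw [adj_bp, adj_bp, blockEquiv_coe]
      exact Function.Injective.mem_finset_image e.injective
    · show (pointBlockGraph B').Adj (some (Sum.inr (blockEquiv e he b)))
        (some (Sum.inr (blockEquiv e he b'))) ↔
        (pointBlockGraph B).Adj (some (Sum.inr b)) (some (Sum.inr b'))
      rw [adj_bb hne', adj_bb hne, blockEquiv_coe, blockEquiv_coe]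
      exact Finset.disjoint_image e.injective

theorem isoOfIso_none (e : α ≃ β) (he : (fun b : Finset α => b.image e) '' B = B')
    (hne : ∀ b ∈ B, b ≠ ∅) : isoOfIso e he hne none = none := rfl

theorem isoOfIso_pt (e : α ≃ β) (he : (fun b : Finset α => b.image e) '' B = B')
    (hne : ∀ b ∈ B, b ≠ ∅) (a : α) :
    isoOfIso e he hne (some (Sum.inl a)) = some (Sum.inl (e a)) := rfl

theorem isoOfIso_blk (e : α ≃ β) (he : (fun b : Finset α => b.image e) '' B = B')
    (hne : ∀ b ∈ B, b ≠ ∅) (b : ↥B) :
    isoOfIso e he hne (some (Sum.inr b)) = some (Sum.inr (blockEquiv e he b)) := rfl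

end Iso

section Unique

open Classical in
theorem srg_unique_aux {V W : Type*} [Fintype V] [Fintype W] {G : SimpleGraph V}
    {H : SimpleGraph W} (hG' : SrgLocal.HSLike G) (hH' : SrgLocal.HSLike H) :
    Nonempty (G ≃g H) := by
  have hV : Nonempty V := by
    rw [← Fintype.card_pos_iff, hG'.card]
    norm_num
  have hW : Nonempty W := by
    rw [← Fintype.card_pos_iff, hH'.card]
    norm_num
  obtain ⟨v⟩ := hV
  obtain ⟨w⟩ := hW
  have hS := SrgLocal.blocks_steiner hG' v
  have hS' := SrgLocal.blocks_steiner hH' w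
  obtain ⟨e, he⟩ := Witt.steiner_3_6_22_iso (SrgLocal.card_pt hG' v) (SrgLocal.card_pt hH' w)
    hS hS'
  have hne : ∀ b ∈ SrgLocal.blocks G v, b ≠ ∅ := by
    intro b hb h
    have := hS.1 b hb
    rw [h, Finset.card_empty] at this
    omega
  exact ⟨(SrgLocal.localIso hG' v).trans
    ((isoOfIso e he hne).trans (SrgLocal.localIso hH' w).symm)⟩

/-- uniqueness of the strongly regular graph with parameters `(100, 22, 0, 6)` -/
theorem srg_unique {V W : Type*} [Fintype V] [Fintype W] {G : SimpleGraph V}
    {H : SimpleGraph W} [DecidableRel G.Adj] [DecidableRel H.Adj]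
    (hG : G.IsSRGWith 100 22 0 6) (hH : H.IsSRGWith 100 22 0 6) : Nonempty (G ≃g H) :=
  srg_unique_aux (SrgLocal.hsLike_of_srg hG) (SrgLocal.hsLike_of_srg hH)

end Unique

section Aut

variable {α : Type*} [Fintype α] [DecidableEq α] {B : Set (Finset α)}

theorem image_eq_of_mem_aut {σ : Equiv.Perm α} (hσ : σ ∈ setSystemAut B) :
    (fun b : Finset α => b.image σ) '' B = B := by
  have h1 := SetSys.mem_aut_iff.mp hσ
  have h2 := SetSys.mem_aut_iff.mp ((setSystemAut B).inv_mem hσ)
  ext o
  constructor
  · rintro ⟨b, hb, rfl⟩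
    exact h1 b hb
  · intro ho
    refine ⟨o.image ⇑σ⁻¹, h2 o ho, ?_⟩
    show (o.image ⇑σ⁻¹).image σ = o
    rw [Finset.image_image]
    have : (⇑σ ∘ ⇑σ⁻¹) = id := by
      funext x
      simp
    rw [this, Finset.image_id]

/-- the automorphism of the point-block graph induced by an automorphism of the set system -/
def autOfAut (hne : ∀ b ∈ B, b ≠ ∅) (σ : setSystemAut B) :
    pointBlockGraph B ≃g pointBlockGraph B :=
  isoOfIso σ.1 (image_eq_of_mem_aut σ.2) hne

/-- the point part of a graph automorphism -/
def ptPart (g : pointBlockGraph B ≃g pointBlockGraph B) (a : α) : α :=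
  match g (some (Sum.inl a)) with
  | some (Sum.inl a') => a'
  | _ => a

theorem ptPart_spec {g : pointBlockGraph B ≃g pointBlockGraph B} {a a' : α}
    (h : g (some (Sum.inl a)) = some (Sum.inl a')) : ptPart g a = a' := by
  unfold ptPart
  rw [h]

theorem exists_pt {g : pointBlockGraph B ≃g pointBlockGraph B} (hg : g none = none) (a : α) :
    ∃ a', g (some (Sum.inl a)) = some (Sum.inl a') := by
  have h1 : (pointBlockGraph B).Adj none (some (Sum.inl a)) := (adj_np a).mpr trivial
  have h2 := g.map_rel_iff.mpr h1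
  rw [hg] at h2
  rcases hx : g (some (Sum.inl a)) with _ | a' | b
  · rw [hx, adj_nn] at h2
    exact h2.elim
  · exact ⟨a', rfl⟩
  · rw [hx, adj_nb] at h2
    exact h2.elim

theorem exists_blk {g : pointBlockGraph B ≃g pointBlockGraph B} (hg : g none = none) (b : ↥B) :
    ∃ b', g (some (Sum.inr b)) = some (Sum.inr b') := by
  rcases hx : g (some (Sum.inr b)) with _ | a' | b'
  · have := g.injective (hx.trans hg.symm)
    simp at this
  · exfalso
    have h1 : (pointBlockGraph B).Adj none (some (Sum.inl a')) := (adj_np a').mpr trivial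
    rw [← hx, ← hg] at h1
    have h2 := g.map_rel_iff.mp h1
    rw [adj_nb] at h2
    exact h2
  · exact ⟨b', rfl⟩

theorem symm_none {g : pointBlockGraph B ≃g pointBlockGraph B} (hg : g none = none) :
    g.symm none = none := by
  rw [RelIso.symm_apply_eq, hg]

/-- the permutation of the points induced by a graph automorphism fixing the extra vertex -/
def permOf (g : pointBlockGraph B ≃g pointBlockGraph B) (hg : g none = none) : Equiv.Perm α where
  toFun := ptPart g
  invFun := ptPart g.symm
  left_inv a := by
    obtain ⟨a', ha'⟩ := exists_pt hg a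
    rw [ptPart_spec ha']
    apply ptPart_spec
    rw [RelIso.symm_apply_eq, ha']
  right_inv a := by
    obtain ⟨a', ha'⟩ := exists_pt (symm_none hg) a
    rw [ptPart_spec ha']
    apply ptPart_spec
    rw [← ha', RelIso.apply_symm_apply]

theorem apply_pt (g : pointBlockGraph B ≃g pointBlockGraph B) (hg : g none = none) (a : α) :
    g (some (Sum.inl a)) = some (Sum.inl (permOf g hg a)) := by
  obtain ⟨a', ha'⟩ := exists_pt hg a
  rw [ha']
  show _ = some (Sum.inl (ptPart g a))
  rw [ptPart_spec ha']

theorem apply_blk (g : pointBlockGraph B ≃g pointBlockGraph B) (hg : g none = none) (b : ↥B) :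
    ∃ b' : ↥B, g (some (Sum.inr b)) = some (Sum.inr b') ∧
      (b' : Finset α) = b.1.image (permOf g hg) := by
  obtain ⟨b', hb'⟩ := exists_blk hg b
  refine ⟨b', hb', ?_⟩
  ext a'
  rw [Finset.mem_image]
  constructor
  · intro ha'
    refine ⟨(permOf g hg).symm a', ?_, by simp⟩
    have h1 : (pointBlockGraph B).Adj (some (Sum.inl a')) (some (Sum.inr b')) :=
      (adj_pb a' b').mpr ha'
    have h2 : g (some (Sum.inl ((permOf g hg).symm a'))) = some (Sum.inl a') := by
      rw [apply_pt g hg]
      simp
    rw [← h2, ← hb'] at h1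
    exact (adj_pb _ b).mp (g.map_rel_iff.mp h1)
  · rintro ⟨a, ha, rfl⟩
    have h1 : (pointBlockGraph B).Adj (some (Sum.inl a)) (some (Sum.inr b)) :=
      (adj_pb a b).mpr ha
    have h2 := g.map_rel_iff.mpr h1
    rw [apply_pt g hg, hb'] at h2
    exact (adj_pb _ b').mp h2

theorem permOf_mem (g : pointBlockGraph B ≃g pointBlockGraph B) (hg : g none = none) :
    permOf g hg ∈ setSystemAut B := by
  rw [SetSys.mem_aut_iff]
  intro b hb
  obtain ⟨b', -, hb'⟩ := apply_blk g hg ⟨b, hb⟩
  rw [← hb']
  exact b'.2

theorem autOfAut_permOf (hne : ∀ b ∈ B, b ≠ ∅) (g : pointBlockGraph B ≃g pointBlockGraph B)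
    (hg : g none = none) : autOfAut hne ⟨permOf g hg, permOf_mem g hg⟩ = g := by
  apply RelIso.ext
  intro x
  rcases x with _ | a | b
  · rw [hg]
    rfl
  · rw [apply_pt g hg]
    rfl
  · obtain ⟨b', hb', hb''⟩ := apply_blk g hg b
    rw [hb']
    show some (Sum.inr (blockEquiv (permOf g hg) _ b)) = _
    congr 2
    apply Subtype.ext
    rw [hb'']
    rfl

theorem autOfAut_injective (hne : ∀ b ∈ B, b ≠ ∅) : Function.Injective (autOfAut (B := B) hne) := by
  intro σ τ h
  apply Subtype.ext
  ext a
  have h1 := congrArg (fun g : pointBlockGraph B ≃g pointBlockGraph B => g (some (Sum.inl a))) h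
  have h2 : (some (Sum.inl (σ.1 a)) : Option (α ⊕ ↥B)) = some (Sum.inl (τ.1 a)) := h1
  simpa using h2

theorem card_stabilizer_none (hne : ∀ b ∈ B, b ≠ ∅) :
    Nat.card (MulAction.stabilizer (pointBlockGraph B ≃g pointBlockGraph B)
      (none : Option (α ⊕ ↥B))) = Nat.card (setSystemAut B) := by
  symm
  apply Nat.card_congr
  refine Equiv.ofBijective (fun σ => ⟨autOfAut hne σ, ?_⟩) ⟨?_, ?_⟩
  · rw [MulAction.mem_stabilizer_iff]
    rfl
  · intro σ τ h
    exact autOfAut_injective hne (congrArg Subtype.val h)
  · rintro ⟨g, hg⟩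
    rw [MulAction.mem_stabilizer_iff] at hg
    have hg' : g none = none := hg
    exact ⟨⟨permOf g hg', permOf_mem g hg'⟩, Subtype.ext (autOfAut_permOf hne g hg')⟩

theorem exists_aut_to_none (hα : Fintype.card α = 22) (hB : IsSteinerSystem 3 6 B)
    (u : Option (α ⊕ ↥B)) : ∃ g : pointBlockGraph B ≃g pointBlockGraph B, g u = none := by
  classical
  haveI : Fintype ↥B := Fintype.ofFinite ↥B
  have hsrg := Cfsg.Agent.S0428.result hα hB
  have hG' := SrgLocal.hsLike_of_srg hsrg
  have hS := SrgLocal.blocks_steiner hG' u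
  obtain ⟨e, he⟩ := Witt.steiner_3_6_22_iso (SrgLocal.card_pt hG' u) hα hS hB
  have hne : ∀ b ∈ SrgLocal.blocks (pointBlockGraph B) u, b ≠ ∅ := by
    intro b hb h
    have := hS.1 b hb
    rw [h, Finset.card_empty] at this
    omega
  refine ⟨(SrgLocal.localIso hG' u).trans (isoOfIso e he hne), ?_⟩
  show isoOfIso e he hne (SrgLocal.localIso hG' u u) = none
  rw [SrgLocal.localIso_apply_self]
  rfl

theorem card_aut (hα : Fintype.card α = 22) (hB : IsSteinerSystem 3 6 B) :
    Nat.card (pointBlockGraph B ≃g pointBlockGraph B) = 88704000 := by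
  classical
  have hne : ∀ b ∈ B, b ≠ ∅ := by
    intro b hb h
    have := hB.1 b hb
    rw [h, Finset.card_empty] at this
    omega
  haveI : MulAction.IsPretransitive (pointBlockGraph B ≃g pointBlockGraph B)
      (Option (α ⊕ ↥B)) := by
    constructor
    intro x y
    obtain ⟨g, hg⟩ := exists_aut_to_none hα hB x
    obtain ⟨g', hg'⟩ := exists_aut_to_none hα hB y
    refine ⟨g'⁻¹ * g, ?_⟩
    rw [mul_smul]
    have h1 : g • x = none := hg
    have h2 : g' • y = none := hg'
    rw [h1, inv_smul_eq_iff, h2]
  have h1 := Subgroup.index_mul_card (MulAction.stabilizer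
    (pointBlockGraph B ≃g pointBlockGraph B) (none : Option (α ⊕ ↥B)))
  rw [MulAction.index_stabilizer_of_transitive, card_stabilizer_none hne,
    (Witt.aut_22 hα hB).1] at h1
  haveI : Finite ↥B := Subtype.finite
  have hcard : Nat.card (Option (α ⊕ ↥B)) = 100 := by
    rw [Finite.card_option, Nat.card_sum, Nat.card_eq_fintype_card, hα, Nat.card_coe_set_eq,
      ← Cfsg.Agent.Lib.Helper3.Steiner.card_blocksF, Cfsg.Agent.Helper4.S3622.lam0 hα hB]
  rw [hcard] at h1
  omega

end Aut

end PBGraph

end Cfsg.Agent.Lib.Helper28
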