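import Cfsg.Prelude.Def_Spor_Conway
import Cfsg.Prelude.Def_KGroupFacts
import Cfsg.Agent.S1583
import Cfsg.Agent.S1584
import Cfsg.Agent.S0405
import Cfsg.Agent.Lib.Helper28.LeechMod
import Cfsg.Agent.Lib.Helper28.PBGraph
import Cfsg.Agent.Lib.Helper28.HSA

/-!
# The Higman–Sims group of the list and the group on 100 points

The stabilizer of two vectors of the Leech lattice acts on 100 vectors, which carry a strongly
regular graph with the parameters `(100, 22, 0, 6)`.  This graph is unique, and its automorphism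
group has order `88704000`, so the stabilizer and the explicit group generated by two permutations
of 100 points are both subgroups of index two of the same group, and the first one is simple.
Hence they are isomorphic, and the outer automorphism group of the Higman–Sims group has order
two.
-/

set_option autoImplicit false


namespace Cfsg.Agent.Lib.Helper28.HSB

/-! ### abstract lemmas -/

/-- isomorphic groups have outer automorphism groups of the same order -/
theorem out_card_congr {G : Type*} {H : Type*} [Group G] [Group H] (e : G ≃* H) :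
    Nat.card (Cfsg.Out G) = Nat.card (Cfsg.Out H) := by
  show Nat.card (MulAut G ⧸ Cfsg.Inn G) = Nat.card (MulAut H ⧸ Cfsg.Inn H)
  rw [← Subgroup.index_eq_card, ← Subgroup.index_eq_card,
    ← Subgroup.index_map_equiv (Cfsg.Inn G) (MulAut.congr e)]
  congr 1
  ext φ
  constructor
  · rintro ⟨ψ, ⟨g, rfl⟩, rfl⟩
    refine ⟨e g, ?_⟩
    ext x
    simp [MulAut.congr]
  · rintro ⟨h, rfl⟩
    refine ⟨MulAut.conj (e.symm h), ⟨e.symm h, rfl⟩, ?_⟩
    ext x
    simp [MulAut.congr]

/-- a simple group embedded in a group with a subgroup of index two of the same order is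
isomorphic to that subgroup -/
theorem iso_of_index_two {A H K : Type*} [Group A] [Group H] [Group K] [Finite A]
    (f : H →* A) (hf : Function.Injective f) (ι : K →* A) (hι : Function.Injective ι)
    (hH : IsSimpleGroup H) (hcard : Nat.card H = Nat.card K)
    (hA : Nat.card A = 2 * Nat.card K) (h2 : 2 < Nat.card H) : Nonempty (H ≃* K) := by
  have hKc : Nat.card ι.range = Nat.card K :=
    (Nat.card_congr (MonoidHom.ofInjective (f := ι) hι).toEquiv).symm
  have hKpos : 0 < Nat.card K := by omega
  have hidx : ι.range.index = 2 := by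
    have h1 := Subgroup.index_mul_card ι.range
    rw [hKc, hA] at h1
    exact Nat.eq_of_mul_eq_mul_right hKpos h1
  haveI : ι.range.Normal := Subgroup.normal_of_index_eq_two hidx
  haveI : Finite H := Nat.finite_of_card_ne_zero (by omega)
  haveI : Finite K := Nat.finite_of_card_ne_zero (by omega)
  have hker : ((QuotientGroup.mk' ι.range).comp f).ker = ⊤ := by
    rcases hH.eq_bot_or_eq_top_of_normal ((QuotientGroup.mk' ι.range).comp f).ker
        (MonoidHom.normal_ker _) with h | h
    · exfalso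
      have hinj : Function.Injective ((QuotientGroup.mk' ι.range).comp f) :=
        (MonoidHom.ker_eq_bot_iff _).mp h
      have h3 := Nat.card_le_card_of_injective _ hinj
      have h4 : Nat.card (A ⧸ ι.range) = 2 := by rw [← Subgroup.index_eq_card]; exact hidx
      omega
    · exact h
  have hmem : ∀ h : H, f h ∈ ι.range := by
    intro h
    have : h ∈ ((QuotientGroup.mk' ι.range).comp f).ker := by rw [hker]; exact Subgroup.mem_top _
    rw [MonoidHom.mem_ker, MonoidHom.comp_apply, QuotientGroup.mk'_apply,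
      QuotientGroup.eq_one_iff] at this
    exact this
  let g : H →* K := (MonoidHom.ofInjective hι).symm.toMonoidHom.comp (f.codRestrict ι.range hmem)
  have hginj : Function.Injective g := by
    intro x y hxy
    have h1 : f.codRestrict ι.range hmem x = f.codRestrict ι.range hmem y :=
      (MonoidHom.ofInjective hι).symm.injective hxy
    exact hf (congrArg Subtype.val h1)
  have hgbij : Function.Bijective g := by
    rw [Nat.bijective_iff_injective_and_card]
    exact ⟨hginj, hcard⟩
  exact ⟨MulEquiv.ofBijective g hgbij⟩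

/-- the order of the automorphism group of a graph with the parameters `(100, 22, 0, 6)` -/
theorem card_aut_hsLike {V : Type*} [Fintype V] {G : SimpleGraph V} (hG : SrgLocal.HSLike G) :
    Nat.card (G ≃g G) = 88704000 := by
  classical
  have hV : Nonempty V := by
    rw [← Fintype.card_pos_iff, hG.card]
    norm_num
  obtain ⟨v⟩ := hV
  have hS := SrgLocal.blocks_steiner hG v
  rw [← PBGraph.card_aut (SrgLocal.card_pt hG v) hS]
  apply Nat.card_congr
  exact
    { toFun := fun φ => (SrgLocal.localIso hG v).symm.trans (φ.trans (SrgLocal.localIso hG v))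
      invFun := fun φ => (SrgLocal.localIso hG v).trans (φ.trans (SrgLocal.localIso hG v).symm)
      left_inv := by
        intro φ
        ext x
        simp
      right_inv := by
        intro φ
        ext x
        simp }

end Cfsg.Agent.Lib.Helper28.HSB

namespace Cfsg.Agent.Lib.Helper28.HSB

open Cfsg.Agent.Lib.Helper28.HSA Cfsg.Agent.Lib.Helper28.BSGS Cfsg.Agent.Lib.Helper28.HSAData

/-! ### the graph on 100 points -/

/-- the graph on 100 points -/
def Gc : SimpleGraph (Fin 100) where
  Adj i j := adjB i.val j.val = true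
  symm := ⟨fun i j h => (adj_symm j i).trans h⟩
  loopless := ⟨fun i h => by
    rw [adj_irrefl i] at h
    exact Bool.false_ne_true h⟩

instance : DecidableRel Gc.Adj := fun i j => inferInstanceAs (Decidable (adjB i.val j.val = true))

theorem card_filter_fin (p : ℕ → Bool) :
    (Finset.univ.filter (fun c : Fin 100 => p c.val = true)).card =
      ((Finset.range 100).filter (fun k => p k = true)).card := by
  rw [← Finset.card_map Fin.valEmbedding]
  congr 1
  ext k
  simp only [Finset.mem_map, Finset.mem_filter, Finset.mem_univ, true_and,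
    Fin.valEmbedding_apply, Finset.mem_range]
  constructor
  · rintro ⟨c, hc, rfl⟩
    exact ⟨c.isLt, hc⟩
  · rintro ⟨hk, hp⟩
    exact ⟨⟨k, hk⟩, hp, rfl⟩

theorem cnt_spec (i j : Fin 100) :
    cnt i.val j.val = if i.val = j.val then 22 else if adjB i.val j.val then 0 else 6 := by
  have h := cnt_rows i.val i.isLt
  unfold cntRow at h
  rw [List.all_eq_true] at h
  exact Nat.eq_of_beq_eq_true (h j.val (List.mem_range.mpr j.isLt))

theorem card_common (i j : Fin 100) :
    (Finset.univ.filter (fun c : Fin 100 => Gc.Adj i c ∧ Gc.Adj j c)).card = cnt i.val j.val := by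
  unfold cnt
  rw [← card_filter_fin (fun k => adjB i.val k && adjB j.val k)]
  refine congrArg Finset.card (Finset.ext fun c => ?_)
  simp only [Finset.mem_filter, Finset.mem_univ, true_and, Bool.and_eq_true]
  exact Iff.rfl

theorem hsLike_Gc : SrgLocal.HSLike Gc where
  card := by rw [Fintype.card_fin]
  deg := by
    classical
    intro a
    have h := card_common a a
    rw [cnt_spec, if_pos rfl] at h
    rw [← h]
    refine congrArg Finset.card (Finset.ext fun c => ?_)
    simp only [Finset.mem_filter, Finset.mem_univ, true_and, and_self]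
  tri := by
    classical
    intro a b c hab hac hbc
    have h := card_common b c
    have hne : b.val ≠ c.val := by
      intro h1
      have h2 : b = c := Fin.ext h1
      rw [h2] at hbc
      exact Gc.loopless.irrefl c hbc
    have hbc' : adjB b.val c.val = true := hbc
    rw [cnt_spec, if_neg hne, hbc', if_pos rfl, Finset.card_eq_zero] at h
    have : a ∈ Finset.univ.filter (fun x : Fin 100 => Gc.Adj b x ∧ Gc.Adj c x) := by
      rw [Finset.mem_filter]
      exact ⟨Finset.mem_univ _, hab.symm, hac.symm⟩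
    rw [h] at this
    exact Finset.notMem_empty _ this
  mu := by
    classical
    intro a b hne hnadj
    have h := card_common a b
    have hne' : a.val ≠ b.val := fun h1 => hne (Fin.ext h1)
    have hab : adjB a.val b.val = false := by
      cases h2 : adjB a.val b.val
      · rfl
      · exact absurd h2 hnadj
    rw [cnt_spec, if_neg hne', hab] at h
    simp only [Bool.false_eq_true, if_false] at h
    rw [← h]
    refine congrArg Finset.card (Finset.ext fun c => ?_)
    simp only [Finset.mem_filter, Finset.mem_univ, true_and]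

/-- the automorphisms of the graph among the permutations -/
def autSub : Subgroup P100 where
  carrier := {g | ∀ i j, Gc.Adj (g i) (g j) ↔ Gc.Adj i j}
  one_mem' := fun _ _ => Iff.rfl
  mul_mem' := by
    intro g h hg hh i j
    rw [Equiv.Perm.mul_apply, Equiv.Perm.mul_apply, hg, hh]
  inv_mem' := by
    intro g hg i j
    have h := hg (g.symm i) (g.symm j)
    rw [Equiv.apply_symm_apply, Equiv.apply_symm_apply] at h
    exact h.symm

theorem mem_autSub_of_autOK {g : P100} {t : ℕ} (hg : ActsT g t) (h : autOK t = true) :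
    g ∈ autSub := by
  intro i j
  unfold autOK at h
  rw [List.all_eq_true] at h
  have h1 := h i.val (List.mem_range.mpr i.isLt)
  rw [List.all_eq_true] at h1
  have h2 := beq_iff_eq.mp (h1 j.val (List.mem_range.mpr j.isLt))
  show adjB (g i).val (g j).val = true ↔ adjB i.val j.val = true
  rw [hg i, hg j, h2]

theorem Kab_le : Kab ≤ autSub := by
  unfold Kab
  rw [Subgroup.closure_le]
  intro x hx
  rcases hx with rfl | hx
  · exact mem_autSub_of_autOK a_acts aut_a
  · rw [Set.mem_singleton_iff] at hx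
    rw [hx]
    exact mem_autSub_of_autOK b_acts aut_b

/-- the group acts on the graph -/
def iota : Kab →* (Gc ≃g Gc) where
  toFun k := { toEquiv := k.1, map_rel_iff' := fun {i j} => Kab_le k.2 i j }
  map_one' := by
    ext x
    rfl
  map_mul' := by
    intro k k'
    ext x
    rfl

theorem iota_inj : Function.Injective iota := by
  intro k k' h
  apply Subtype.ext
  apply Equiv.ext
  intro x
  exact congrArg (fun φ : Gc ≃g Gc => φ x) h

end Cfsg.Agent.Lib.Helper28.HSB

namespace Cfsg.Agent.Lib.Helper28.HSB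

open Cfsg Cfsg.Spor

/-! ### the two vectors and the hundred vectors -/

/-- the first vector -/
def vv : leechLattice := leechV

/-- the second vector -/
def ww : leechLattice := -(leechV + leechU')

theorem vv_norm : sqNorm (vv : GolayPt → ℤ) = 48 := by
  show sqNorm vecV = 48
  decide +kernel

theorem ww_norm : sqNorm (ww : GolayPt → ℤ) = 48 := by
  show sqNorm (-(vecV + vecU')) = 48
  decide +kernel

theorem vw_dot : dotInt (vv : GolayPt → ℤ) (ww : GolayPt → ℤ) = -32 := by
  show dotInt vecV (-(vecV + vecU')) = -32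
  decide +kernel

/-- the hundred vectors -/
def X : Set leechLattice :=
  {x | sqNorm (x : GolayPt → ℤ) = 32 ∧ dotInt (vv : GolayPt → ℤ) (x : GolayPt → ℤ) = 24 ∧
    dotInt (ww : GolayPt → ℤ) (x : GolayPt → ℤ) = -24}

/-- the stabilizer of the two vectors -/
abbrev HSL : Subgroup ↥Co0 := MulAction.stabilizer ↥Co0 vv ⊓ MulAction.stabilizer ↥Co0 ww

theorem h83 : X.ncard = 100 ∧ ∀ x ∈ X, ∀ x' ∈ X,
    ∃ g : ↥Co0, g • vv = vv ∧ g • ww = ww ∧ g • x = x' :=
  Cfsg.Agent.S1583.result vv ww vv_norm ww_norm vw_dot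

theorem h84 (x : leechLattice) (hx : x ∈ X) :
    {y : leechLattice | y ∈ X ∧ dotInt (x : GolayPt → ℤ) (y : GolayPt → ℤ) = 8}.ncard = 22 ∧
    {y : leechLattice | y ∈ X ∧ y ≠ x ∧
      dotInt (x : GolayPt → ℤ) (y : GolayPt → ℤ) ≠ 8}.ncard = 77 ∧
    ∀ y ∈ X, ∀ y' ∈ X, y ≠ x → y' ≠ x →
      (dotInt (x : GolayPt → ℤ) (y : GolayPt → ℤ) = 8 ↔
        dotInt (x : GolayPt → ℤ) (y' : GolayPt → ℤ) = 8) →
      ∃ g : ↥Co0, g • vv = vv ∧ g • ww = ww ∧ g • x = x ∧ g • y = y' :=
  Cfsg.Agent.S1584.result vv ww x vv_norm ww_norm vw_dot hx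

theorem h05 : Cfsg.IsHS ↥HSL := Cfsg.Agent.S0405.result vv ww vv_norm ww_norm vw_dot


/-! ### inner products -/

theorem dot_comm (x y : GolayPt → ℤ) : dotInt x y = dotInt y x := by
  unfold dotInt
  exact Finset.sum_congr rfl fun i _ => mul_comm _ _

theorem dot_self (x : GolayPt → ℤ) : dotInt x x = sqNorm x := by
  unfold dotInt sqNorm
  exact Finset.sum_congr rfl fun i _ => (sq (x i)).symm

/-- the squared norm of `x + y + z - v + w` -/
theorem norm_five (x y z v w : GolayPt → ℤ) :
    sqNorm (x + y + z - v + w) = sqNorm x + sqNorm y + sqNorm z + sqNorm v + sqNorm w +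
      2 * (dotInt x y + dotInt x z + dotInt y z) - 2 * (dotInt v x + dotInt v y + dotInt v z) +
      2 * (dotInt w x + dotInt w y + dotInt w z) - 2 * dotInt v w := by
  unfold sqNorm dotInt
  simp only [Finset.mul_sum, ← Finset.sum_add_distrib, ← Finset.sum_sub_distrib]
  refine Finset.sum_congr rfl fun i _ => ?_
  simp only [Pi.add_apply, Pi.sub_apply]
  ring

theorem smul_dot (g : ↥Co0) (x y : leechLattice) :
    dotInt ((g • x : leechLattice) : GolayPt → ℤ) ((g • y : leechLattice) : GolayPt → ℤ) =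
      dotInt (x : GolayPt → ℤ) (y : GolayPt → ℤ) := co0_dot g x y

theorem smul_norm (g : ↥Co0) (x : leechLattice) :
    sqNorm ((g • x : leechLattice) : GolayPt → ℤ) = sqNorm (x : GolayPt → ℤ) := g.2.2 x

theorem smul_add' (g : ↥Co0) (x y : leechLattice) : g • (x + y) = g • x + g • y := g.2.1 x y

theorem smul_neg' (g : ↥Co0) (x : leechLattice) : g • (-x) = -(g • x) :=
  map_neg (co0Hom g) x

theorem smul_mem_X (g : ↥Co0) (hv : g • vv = vv) (hw : g • ww = ww) {x : leechLattice}
    (hx : x ∈ X) : g • x ∈ X := by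
  refine ⟨by rw [smul_norm]; exact hx.1, ?_, ?_⟩
  · have h := smul_dot g vv x
    rw [hv] at h
    rw [h]
    exact hx.2.1
  · have h := smul_dot g ww x
    rw [hw] at h
    rw [h]
    exact hx.2.2

theorem stab_v (g : ↥HSL) : g.1 • vv = vv :=
  MulAction.mem_stabilizer_iff.mp (Subgroup.mem_inf.mp g.2).1

theorem stab_w (g : ↥HSL) : g.1 • ww = ww :=
  MulAction.mem_stabilizer_iff.mp (Subgroup.mem_inf.mp g.2).2

theorem stab_v_inv (g : ↥HSL) : g.1⁻¹ • vv = vv := by
  rw [inv_smul_eq_iff, stab_v]

theorem stab_w_inv (g : ↥HSL) : g.1⁻¹ • ww = ww := by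
  rw [inv_smul_eq_iff, stab_w]

/-! ### the graph on the hundred vectors -/

/-- the graph on the hundred vectors -/
def GX : SimpleGraph ↥X where
  Adj x y := dotInt ((x : leechLattice) : GolayPt → ℤ) ((y : leechLattice) : GolayPt → ℤ) = 8
  symm := ⟨fun x y h => (dot_comm _ _).trans h⟩
  loopless := ⟨fun x h => by
    rw [dot_self, x.2.1] at h
    norm_num at h⟩

theorem X_ncard : X.ncard = 100 := h83.1

theorem X_finite : X.Finite := Set.finite_of_ncard_ne_zero (by rw [X_ncard]; norm_num)

noncomputable instance instFintypeX : Fintype ↥X := X_finite.fintype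

theorem card_X : Fintype.card ↥X = 100 := by
  rw [← Nat.card_eq_fintype_card, Nat.card_coe_set_eq, X_ncard]

theorem card_filter_X (P : leechLattice → Prop) [DecidablePred fun c : ↥X => P c.1] :
    (Finset.univ.filter (fun c : ↥X => P c.1)).card = {y | y ∈ X ∧ P y}.ncard := by
  classical
  rw [← Set.ncard_coe_finset, ← Set.ncard_image_of_injective _ Subtype.val_injective]
  congr 1
  ext y
  simp only [Set.mem_image, Finset.coe_filter, Finset.mem_univ, true_and, Set.mem_setOf_eq]
  constructor
  · rintro ⟨c, hc, rfl⟩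
    exact ⟨c.2, hc⟩
  · rintro ⟨hy, hp⟩
    exact ⟨⟨y, hy⟩, hp, rfl⟩

/-- the action on the hundred vectors -/
def actX (g : ↥HSL) : Equiv.Perm ↥X where
  toFun x := ⟨g.1 • x.1, smul_mem_X g.1 (stab_v g) (stab_w g) x.2⟩
  invFun x := ⟨g.1⁻¹ • x.1, smul_mem_X g.1⁻¹ (stab_v_inv g) (stab_w_inv g) x.2⟩
  left_inv x := Subtype.ext (inv_smul_smul _ _)
  right_inv x := Subtype.ext (smul_inv_smul _ _)

theorem actX_coe (g : ↥HSL) (x : ↥X) : ((actX g x : ↥X) : leechLattice) = g.1 • x.1 := rfl

theorem actX_adj (g : ↥HSL) (x y : ↥X) : GX.Adj (actX g x) (actX g y) ↔ GX.Adj x y := by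
  show dotInt (((actX g x : ↥X) : leechLattice) : GolayPt → ℤ)
    (((actX g y : ↥X) : leechLattice) : GolayPt → ℤ) = 8 ↔ _
  rw [actX_coe, actX_coe, smul_dot]
  exact Iff.rfl

/-- the action on the graph -/
def autX (g : ↥HSL) : GX ≃g GX where
  toEquiv := actX g
  map_rel_iff' := fun {x y} => actX_adj g x y

/-- the action on the graph as a homomorphism -/
def fX : ↥HSL →* (GX ≃g GX) where
  toFun := autX
  map_one' := by
    apply RelIso.ext
    intro x
    exact Subtype.ext (one_smul _ x.1)
  map_mul' := by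
    intro g h
    apply RelIso.ext
    intro x
    exact Subtype.ext (mul_smul g.1 h.1 x.1)

theorem fX_inj : Function.Injective fX := by
  have hs : IsSimpleGroup ↥HSL := h05.1
  rw [← MonoidHom.ker_eq_bot_iff]
  rcases hs.eq_bot_or_eq_top_of_normal fX.ker (MonoidHom.normal_ker _) with h | h
  · exact h
  · exfalso
    obtain ⟨x, y, hxy⟩ := Fintype.exists_pair_of_one_lt_card (α := ↥X) (by rw [card_X]; norm_num)
    obtain ⟨g, hgv, hgw, hgx⟩ := h83.2 x.1 x.2 y.1 y.2
    have hg : g ∈ HSL := Subgroup.mem_inf.mpr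
      ⟨MulAction.mem_stabilizer_iff.mpr hgv, MulAction.mem_stabilizer_iff.mpr hgw⟩
    have hk : (⟨g, hg⟩ : ↥HSL) ∈ fX.ker := by
      rw [h]
      exact Subgroup.mem_top _
    rw [MonoidHom.mem_ker] at hk
    have h1 := congrArg (fun φ : GX ≃g GX => ((φ x : ↥X) : leechLattice)) hk
    have h2 : g • x.1 = x.1 := h1
    apply hxy
    apply Subtype.ext
    rw [← hgx, h2]

end Cfsg.Agent.Lib.Helper28.HSB

namespace Cfsg.Agent.Lib.Helper28.HSB

open Cfsg Cfsg.Spor

/-! ### the parameters of the graph on the hundred vectors -/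

theorem GX_deg (a : ↥X) [DecidablePred fun c : ↥X => GX.Adj a c] :
    (Finset.univ.filter (fun c : ↥X => GX.Adj a c)).card = 22 := by
  have h := card_filter_X (fun y : leechLattice =>
    dotInt ((a : leechLattice) : GolayPt → ℤ) (y : GolayPt → ℤ) = 8)
  rw [(h84 a.1 a.2).1] at h
  rw [← h]
  refine congrArg Finset.card (Finset.ext fun c => ?_)
  simp only [Finset.mem_filter, Finset.mem_univ, true_and]
  exact Iff.rfl

theorem GX_far (a : ↥X) [DecidablePred fun c : ↥X => c ≠ a ∧ ¬ GX.Adj a c] :
    (Finset.univ.filter (fun c : ↥X => c ≠ a ∧ ¬ GX.Adj a c)).card = 77 := by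
  classical
  have h := card_filter_X (fun y : leechLattice => y ≠ a.1 ∧
    dotInt ((a : leechLattice) : GolayPt → ℤ) (y : GolayPt → ℤ) ≠ 8)
  rw [(h84 a.1 a.2).2.1] at h
  rw [← h]
  refine congrArg Finset.card (Finset.ext fun c => ?_)
  simp only [Finset.mem_filter, Finset.mem_univ, true_and]
  constructor
  · rintro ⟨h1, h2⟩
    exact ⟨fun h3 => h1 (Subtype.ext h3), h2⟩
  · rintro ⟨h1, h2⟩
    exact ⟨fun h3 => h1 (congrArg Subtype.val h3), h2⟩

theorem GX_tri (a b c : ↥X) (hab : GX.Adj a b) (hac : GX.Adj a c) : ¬ GX.Adj b c := by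
  intro hbc
  have hab' : dotInt ((a : leechLattice) : GolayPt → ℤ) ((b : leechLattice) : GolayPt → ℤ) = 8 :=
    hab
  have hac' : dotInt ((a : leechLattice) : GolayPt → ℤ) ((c : leechLattice) : GolayPt → ℤ) = 8 :=
    hac
  have hbc' : dotInt ((b : leechLattice) : GolayPt → ℤ) ((c : leechLattice) : GolayPt → ℤ) = 8 :=
    hbc
  have hu : ((a.1 + b.1 + c.1 - vv + ww : leechLattice) : GolayPt → ℤ) ∈ leechLattice :=
    (a.1 + b.1 + c.1 - vv + ww).2
  have hcoe : ((a.1 + b.1 + c.1 - vv + ww : leechLattice) : GolayPt → ℤ) =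
      (a.1 : GolayPt → ℤ) + (b.1 : GolayPt → ℤ) + (c.1 : GolayPt → ℤ) - (vv : GolayPt → ℤ) +
        (ww : GolayPt → ℤ) := rfl
  have hn : sqNorm ((a.1 + b.1 + c.1 - vv + ww : leechLattice) : GolayPt → ℤ) = 16 := by
    rw [hcoe, norm_five, a.2.1, b.2.1, c.2.1, vv_norm, ww_norm, hab', hac', hbc', a.2.2.1,
      b.2.2.1, c.2.2.1, a.2.2.2, b.2.2.2, c.2.2.2, vw_dot]
    norm_num
  have h0 : ((a.1 + b.1 + c.1 - vv + ww : leechLattice) : GolayPt → ℤ) ≠ 0 := by
    intro h
    rw [h] at hn
    have : sqNorm (0 : GolayPt → ℤ) = 0 := (sqNorm_eq_zero_iff 0).mpr rfl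
    rw [this] at hn
    norm_num at hn
  have := leech_min_norm hu h0
  rw [hn] at this
  norm_num at this

/-- the number of common neighbours of two far vertices does not depend on the second -/
theorem GX_mu_const (a b b' : ↥X) (hb : b ≠ a ∧ ¬ GX.Adj a b) (hb' : b' ≠ a ∧ ¬ GX.Adj a b')
    [DecidablePred fun c : ↥X => GX.Adj a c ∧ GX.Adj b c]
    [DecidablePred fun c : ↥X => GX.Adj a c ∧ GX.Adj b' c] :
    (Finset.univ.filter (fun c : ↥X => GX.Adj a c ∧ GX.Adj b c)).card =
      (Finset.univ.filter (fun c : ↥X => GX.Adj a c ∧ GX.Adj b' c)).card := by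
  have hiff : dotInt ((a : leechLattice) : GolayPt → ℤ) ((b : leechLattice) : GolayPt → ℤ) = 8 ↔
      dotInt ((a : leechLattice) : GolayPt → ℤ) ((b' : leechLattice) : GolayPt → ℤ) = 8 :=
    ⟨fun h => absurd h hb.2, fun h => absurd h hb'.2⟩
  obtain ⟨g, hgv, hgw, hga, hgb⟩ := (h84 a.1 a.2).2.2 b.1 b.2 b'.1 b'.2
    (fun h => hb.1 (Subtype.ext h)) (fun h => hb'.1 (Subtype.ext h)) hiff
  have hg : g ∈ HSL := Subgroup.mem_inf.mpr
    ⟨MulAction.mem_stabilizer_iff.mpr hgv, MulAction.mem_stabilizer_iff.mpr hgw⟩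
  have ha : actX ⟨g, hg⟩ a = a := Subtype.ext hga
  have hbb : actX ⟨g, hg⟩ b = b' := Subtype.ext hgb
  apply Finset.card_equiv (actX ⟨g, hg⟩)
  intro c
  simp only [Finset.mem_filter, Finset.mem_univ, true_and]
  rw [← actX_adj ⟨g, hg⟩ a c, ← actX_adj ⟨g, hg⟩ b c, ha, hbb]

theorem GX_mu (a b : ↥X) (hne : a ≠ b) (hnadj : ¬ GX.Adj a b)
    [DecidablePred fun c : ↥X => GX.Adj a c ∧ GX.Adj b c] :
    (Finset.univ.filter (fun c : ↥X => GX.Adj a c ∧ GX.Adj b c)).card = 6 := by
  classical
  set N := Finset.univ.filter (fun c : ↥X => GX.Adj a c) with hN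
  set F := Finset.univ.filter (fun c : ↥X => c ≠ a ∧ ¬ GX.Adj a c) with hF
  have hNc : N.card = 22 := GX_deg a
  have hFc : F.card = 77 := GX_far a
  have hbF : b ∈ F := by
    rw [hF, Finset.mem_filter]
    exact ⟨Finset.mem_univ _, hne.symm, hnadj⟩
  -- the double count
  have hdc := Finset.sum_card_bipartiteAbove_eq_sum_card_bipartiteBelow (s := F) (t := N)
    (fun (y : ↥X) (c : ↥X) => GX.Adj y c)
  have hleft : ∀ y ∈ F, (Finset.bipartiteAbove (fun (y : ↥X) (c : ↥X) => GX.Adj y c) N y).card =
      (Finset.univ.filter (fun c : ↥X => GX.Adj a c ∧ GX.Adj b c)).card := by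
    intro y hy
    rw [hF, Finset.mem_filter] at hy
    rw [GX_mu_const a b y ⟨hne.symm, hnadj⟩ hy.2]
    refine congrArg Finset.card (Finset.ext fun c => ?_)
    simp only [Finset.bipartiteAbove, hN, Finset.mem_filter, Finset.mem_univ, true_and]
  have hright : ∀ c ∈ N, (Finset.bipartiteBelow (fun (y : ↥X) (c : ↥X) => GX.Adj y c) F c).card =
      21 := by
    intro c hc
    rw [hN, Finset.mem_filter] at hc
    have hac : GX.Adj a c := hc.2
    have hdeg := GX_deg c
    have hins : Finset.univ.filter (fun y : ↥X => GX.Adj c y) =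
        insert a (Finset.bipartiteBelow (fun (y : ↥X) (c : ↥X) => GX.Adj y c) F c) := by
      ext y
      simp only [Finset.bipartiteBelow, hF, Finset.mem_filter, Finset.mem_univ, true_and,
        Finset.mem_insert]
      constructor
      · intro hcy
        by_cases hya : y = a
        · exact Or.inl hya
        · refine Or.inr ⟨⟨hya, ?_⟩, hcy.symm⟩
          intro hay
          exact GX_tri a c y hac hay hcy
      · rintro (rfl | ⟨_, hyc⟩)
        · exact hac.symm
        · exact hyc.symm
    have hnot : a ∉ Finset.bipartiteBelow (fun (y : ↥X) (c : ↥X) => GX.Adj y c) F c := by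
      simp only [Finset.bipartiteBelow, hF, Finset.mem_filter, Finset.mem_univ, true_and]
      rintro ⟨⟨h1, _⟩, _⟩
      exact h1 rfl
    rw [hins, Finset.card_insert_of_notMem hnot] at hdeg
    omega
  rw [Finset.sum_congr rfl hleft, Finset.sum_congr rfl hright, Finset.sum_const, Finset.sum_const,
    hFc, hNc, smul_eq_mul, smul_eq_mul] at hdc
  omega

open Classical in
theorem hsLike_GX : SrgLocal.HSLike GX where
  card := card_X
  deg := fun a => GX_deg a
  tri := GX_tri
  mu := fun a b hne hnadj => GX_mu a b hne hnadj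

end Cfsg.Agent.Lib.Helper28.HSB

namespace Cfsg.Agent.Lib.Helper28.HSB

open Cfsg Cfsg.Spor Cfsg.Agent.Lib.Helper28.HSA

/-! ### the two groups -/

/-- conjugation of an automorphism by an isomorphism of graphs -/
def conjIso {V W : Type*} {G : SimpleGraph V} {H : SimpleGraph W} (ψ : G ≃g H) :
    (G ≃g G) →* (H ≃g H) where
  toFun φ := ψ.symm.trans (φ.trans ψ)
  map_one' := by
    apply RelIso.ext
    intro x
    show ψ (ψ.symm x) = x
    exact ψ.apply_symm_apply x
  map_mul' := by
    intro φ φ'
    apply RelIso.ext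
    intro x
    show ψ (φ (φ' (ψ.symm x))) = ψ (φ (ψ.symm (ψ (φ' (ψ.symm x)))))
    rw [ψ.symm_apply_apply]

theorem conjIso_inj {V W : Type*} {G : SimpleGraph V} {H : SimpleGraph W} (ψ : G ≃g H) :
    Function.Injective (conjIso ψ) := by
  intro φ φ' h
  apply RelIso.ext
  intro x
  have h1 := congrArg (fun θ : H ≃g H => θ (ψ x)) h
  have h2 : ψ (φ (ψ.symm (ψ x))) = ψ (φ' (ψ.symm (ψ x))) := h1
  rw [ψ.symm_apply_apply] at h2
  exact ψ.injective h2

theorem hsl_iso : Nonempty (↥HSL ≃* ↥Kab) := by
  obtain ⟨ψ⟩ := PBGraph.srg_unique_aux hsLike_GX hsLike_Gc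
  haveI : Finite (Gc ≃g Gc) :=
    Nat.finite_of_card_ne_zero (by rw [card_aut_hsLike hsLike_Gc]; norm_num)
  refine iso_of_index_two ((conjIso ψ).comp fX) ?_ iota iota_inj h05.1 ?_ ?_ ?_
  · exact (conjIso_inj ψ).comp fX_inj
  · rw [h05.2, card_Kab]
  · rw [card_aut_hsLike hsLike_Gc, card_Kab]
  · rw [h05.2]
    norm_num

/-! ### the Higman–Sims group of the list -/

theorem leechU'_eq : leechU' = -(ww + vv) := by
  unfold ww vv
  abel

theorem mem_HS_iff (g : Equiv.Perm leechLattice) :
    g ∈ Spor.HS ↔ g ∈ Co0 ∧ g leechV = leechV ∧ g leechU' = leechU' := by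
  unfold Spor.HS Spor.Co3
  rw [Subgroup.mem_inf, Subgroup.mem_inf, MulAction.mem_stabilizer_iff,
    MulAction.mem_stabilizer_iff, and_assoc]
  exact Iff.rfl

/-- the Higman–Sims group of the list is the stabilizer of the two vectors -/
def hsEquiv : ↥Spor.HS ≃* ↥HSL where
  toFun g := ⟨⟨g.1, ((mem_HS_iff g.1).mp g.2).1⟩, by
    obtain ⟨h0, h1, h2⟩ := (mem_HS_iff g.1).mp g.2
    have hv : (⟨g.1, h0⟩ : ↥Co0) • vv = vv := h1
    have hu : (⟨g.1, h0⟩ : ↥Co0) • leechU' = leechU' := h2
    refine Subgroup.mem_inf.mpr ⟨MulAction.mem_stabilizer_iff.mpr hv,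
      MulAction.mem_stabilizer_iff.mpr ?_⟩
    show (⟨g.1, h0⟩ : ↥Co0) • (-(leechV + leechU')) = -(leechV + leechU')
    rw [smul_neg', smul_add', hu]
    exact congrArg (fun z => -(z + leechU')) hv⟩
  invFun g := ⟨g.1.1, by
    rw [mem_HS_iff]
    refine ⟨g.1.2, stab_v g, ?_⟩
    show g.1 • leechU' = leechU'
    rw [leechU'_eq, smul_neg', smul_add', stab_v, stab_w]⟩
  left_inv g := rfl
  right_inv g := rfl
  map_mul' g h := rfl

/-- the outer automorphism group of the Higman–Sims group has order two -/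
theorem main : Nat.card (Cfsg.Out ↥Cfsg.Spor.HS) = 2 := by
  obtain ⟨e⟩ := hsl_iso
  rw [out_card_congr (hsEquiv.trans e)]
  exact HSA.out_card

end Cfsg.Agent.Lib.Helper28.HSB
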