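import Mathlib
import Cfsg.Agent.Lib.Helper28.M24Mask
import Cfsg.Agent.Lib.Helper28.Octads
import Cfsg.Agent.Lib.Helper3.Steiner

/-!
The 77 octads through the points `∞` and `0`, as bit masks, and the five of them which are
invariant under `x ↦ -1/x`.
-/

set_option autoImplicit false

namespace Cfsg.Agent.Lib.Helper28

open Cfsg Finset Cfsg.Agent.Lib.Helper3.Steiner

namespace HSData

/-- the masks of the 77 octads through `∞` and `0` -/
def L77 : List ℕ := [8391797, 8398155, 8412681, 8421811, 8431757, 8471941, 8499969, 8505411, 8524371, 8536111, 8546577, 8593633, 8619033, 8657159, 8663097, 8675909, 8688833, 8716939, 8783649, 8922769, 8946281, 8966165, 8983587, 9048457, 9112069, 9193633, 9240913, 9347075, 9440193, 9465987, 9471495, 9506893, 9519665, 9607201, 9748745, 9776129, 9830549, 9963547, 9969957, 10110017, 10486557, 10496547, 10506593, 10557585, 10630149, 10666625, 10765331, 10846245, 10881097, 11010247, 11046145, 11100169, 11535529, 11575377, 11731203, 12325377, 12587685, 12599513, 12641313, 12650793, 12656663, 12717187,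 12747077, 12880401, 13062145, 13121601, 13124355, 13370381, 13636881, 13771273, 13893731, 14254209, 14716939, 14747201, 14950785, 15335473, 15747077]

/-- the masks of the octads through `∞` and `0` invariant under `x ↦ -1/x` -/
def L5 : List ℕ := [8431757, 8619033, 8946281, 9748745, 14716939]

/-- the table of `x ↦ -1/x` -/
def tabInv : Fin 24 → Fin 24 :=
  ![23, 22, 11, 15, 17, 9, 19, 13, 20, 5, 16, 2, 21, 7, 18, 3, 10, 4, 14, 6, 8, 12, 1, 0]

theorem projInv_pt : ∀ a : Fin 24, projInv (Helper4.pt a) = Helper4.pt (tabInv a) := by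
  decide +kernel

set_option maxRecDepth 100000 in
theorem L77_spec : ∀ m ∈ L77, IsCodeMask m ∧
    (Finset.univ.filter fun a : Fin 24 => m.testBit a.val = true).card = 8 ∧
    m.testBit 23 = true ∧ m.testBit 0 = true ∧ m < 2 ^ 24 := by
  decide +kernel

set_option maxRecDepth 100000 in
theorem L77_nodup : L77.Nodup := by decide +kernel

theorem L77_length : L77.length = 77 := by decide +kernel

set_option maxRecDepth 100000 in
theorem L77_fixed : ∀ m ∈ L77,
    ((∀ a : Fin 24, m.testBit (tabInv a).val = m.testBit a.val) ↔ m ∈ L5) := by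
  decide +kernel

set_option maxRecDepth 100000 in
theorem L5_sub : ∀ m ∈ L5, m ∈ L77 := by decide +kernel

theorem L5_nodup : L5.Nodup := by decide +kernel

theorem L5_length : L5.length = 5 := by decide +kernel

theorem maskSet_inj {m m' : ℕ} (hm : m < 2 ^ 24) (hm' : m' < 2 ^ 24)
    (h : maskSet m = maskSet m') : m = m' := by
  apply Nat.eq_of_testBit_eq
  intro i
  by_cases hi : i < 24
  · have h1 := pt_mem_maskSet m ⟨i, hi⟩
    have h2 := pt_mem_maskSet m' ⟨i, hi⟩
    rw [h] at h1
    exact Bool.eq_iff_iff.mpr (h1.symm.trans h2)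
  · have hi' : 24 ≤ i := by omega
    have hp : (2 : ℕ) ^ 24 ≤ 2 ^ i := Nat.pow_le_pow_right (by norm_num) hi'
    rw [Nat.testBit_lt_two_pow (lt_of_lt_of_le hm hp),
      Nat.testBit_lt_two_pow (lt_of_lt_of_le hm' hp)]

theorem card_golayPt' : Fintype.card GolayPt = 24 := by decide +kernel

theorem card_through :
    ((blocksF octads).filter (({none, some 0} : Finset GolayPt) ⊆ ·)).card = 77 := by
  have h := card_blocks_containing octads_isSteinerSystem ({none, some 0} : Finset GolayPt)
    (by decide)
  have hc : ({none, some 0} : Finset GolayPt).card = 2 := by decide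
  rw [hc, card_golayPt'] at h
  norm_num [Nat.choose] at h
  omega

theorem none_eq_pt : (none : GolayPt) = Helper4.pt 23 := by decide

theorem zero_eq_pt : (some 0 : GolayPt) = Helper4.pt 0 := by decide

theorem maskSet_mem_through {m : ℕ} (hm : m ∈ L77) :
    maskSet m ∈ octads ∧ none ∈ maskSet m ∧ some 0 ∈ maskSet m := by
  obtain ⟨h1, h2, h3, h4, -⟩ := L77_spec m hm
  refine ⟨maskSet_mem_octads m h1 h2, ?_, ?_⟩
  · rw [none_eq_pt, pt_mem_maskSet]
    exact h3
  · rw [zero_eq_pt, pt_mem_maskSet]
    exact h4

/-- every octad through `∞` and `0` is in the list -/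
theorem octads_through {o : Finset GolayPt} (ho : o ∈ octads) (hn : none ∈ o)
    (hz : some 0 ∈ o) : ∃ m ∈ L77, o = maskSet m := by
  have hsub : L77.toFinset.image maskSet ⊆
      (blocksF octads).filter (({none, some 0} : Finset GolayPt) ⊆ ·) := by
    intro x hx
    rw [mem_image] at hx
    obtain ⟨m, hm, rfl⟩ := hx
    rw [List.mem_toFinset] at hm
    obtain ⟨h1, h2, h3⟩ := maskSet_mem_through hm
    rw [mem_filter, mem_blocksF]
    refine ⟨h1, ?_⟩
    intro y hy
    rw [mem_insert, mem_singleton] at hy
    rcases hy with rfl | rfl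
    · exact h2
    · exact h3
  have hcard : (L77.toFinset.image maskSet).card = 77 := by
    rw [card_image_of_injOn, List.toFinset_card_of_nodup L77_nodup, L77_length]
    intro m hm m' hm' h
    rw [mem_coe, List.mem_toFinset] at hm hm'
    exact maskSet_inj (L77_spec m hm).2.2.2.2 (L77_spec m' hm').2.2.2.2 h
  have heq := eq_of_subset_of_card_le hsub (by rw [hcard, card_through])
  have ho' : o ∈ (blocksF octads).filter (({none, some 0} : Finset GolayPt) ⊆ ·) := by
    rw [mem_filter, mem_blocksF]
    refine ⟨ho, ?_⟩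
    intro y hy
    rw [mem_insert, mem_singleton] at hy
    rcases hy with rfl | rfl
    · exact hn
    · exact hz
  rw [← heq, mem_image] at ho'
  obtain ⟨m, hm, rfl⟩ := ho'
  exact ⟨m, List.mem_toFinset.mp hm, rfl⟩

theorem projInv_projInv (x : GolayPt) : projInv (projInv x) = x :=
  projInv.symm_apply_apply x

theorem image_projInv_eq_iff (m : ℕ) : (maskSet m).image projInv = maskSet m ↔
    ∀ a : Fin 24, m.testBit (tabInv a).val = m.testBit a.val := by
  constructor
  · intro h a
    have h1 : Helper4.pt a ∈ maskSet m ↔ projInv (Helper4.pt a) ∈ maskSet m := by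
      conv_rhs => rw [← h]
      rw [mem_image]
      constructor
      · intro hx
        exact ⟨_, hx, rfl⟩
      · rintro ⟨y, hy, hyx⟩
        rw [← projInv.injective hyx]
        exact hy
    rw [projInv_pt, pt_mem_maskSet, pt_mem_maskSet] at h1
    exact Bool.eq_iff_iff.mpr h1.symm
  · intro h
    ext x
    obtain ⟨a, rfl⟩ := Helper4.pt_bijective.2 x
    rw [mem_image]
    constructor
    · rintro ⟨y, hy, hyx⟩
      obtain ⟨c, rfl⟩ := Helper4.pt_bijective.2 y
      rw [projInv_pt] at hyx
      have hca : tabInv c = a := Helper4.pt_bijective.1 hyx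
      rw [pt_mem_maskSet] at hy ⊢
      rw [← hca, h c]
      exact hy
    · intro hx
      refine ⟨projInv (Helper4.pt a), ?_, projInv_projInv _⟩
      rw [projInv_pt, pt_mem_maskSet, h a]
      exact (pt_mem_maskSet m a).mp hx

/-- the octads through `∞` and `0` invariant under `x ↦ -1/x` -/
theorem fixed_iff {m : ℕ} (hm : m ∈ L77) : (maskSet m).image projInv = maskSet m ↔ m ∈ L5 := by
  rw [image_projInv_eq_iff]
  exact L77_fixed m hm

theorem card_L5_image : (L5.toFinset.image maskSet).card = 5 := by
  rw [card_image_of_injOn, List.toFinset_card_of_nodup L5_nodup, L5_length]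
  intro m hm m' hm' h
  rw [mem_coe, List.mem_toFinset] at hm hm'
  exact maskSet_inj (L77_spec m (L5_sub m hm)).2.2.2.2 (L77_spec m' (L5_sub m' hm')).2.2.2.2 h

end HSData

end Cfsg.Agent.Lib.Helper28
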