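import Cfsg.Agent.Lib.Helper28.M24Mask

set_option autoImplicit false

/-!
The order of `Cfsg.M24` is `244823040`, and `M24` is generated by the three standard generators.
The stabilizer chain of the base `∞, 0, 1, 2, 3, 5, 4` has basic orbits of sizes
`24, 23, 22, 21, 20, 3, 16` and ends in the trivial group.
-/

namespace Cfsg.Agent.Lib.Helper28

open Cfsg MulAction
open scoped Pointwise

/-- the pointwise stabilizer in `K` of the first `k` base points -/
def baseStab (K : Subgroup (Equiv.Perm GolayPt)) (k : ℕ) : Subgroup (Equiv.Perm GolayPt) where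
  carrier := {g | g ∈ K ∧ ∀ j : Fin 7, j.val < k → g (Helper4.pt (m24base j)) = Helper4.pt (m24base j)}
  one_mem' := ⟨K.one_mem, fun _ _ => rfl⟩
  mul_mem' := by
    rintro g h ⟨hg, hg'⟩ ⟨hh, hh'⟩
    refine ⟨K.mul_mem hg hh, fun j hj => ?_⟩
    rw [Equiv.Perm.mul_apply, hh' j hj, hg' j hj]
  inv_mem' := by
    rintro g ⟨hg, hg'⟩
    refine ⟨K.inv_mem hg, fun j hj => ?_⟩
    rw [Equiv.Perm.inv_eq_iff_eq, hg' j hj]

theorem mem_baseStab {K : Subgroup (Equiv.Perm GolayPt)} {k : ℕ} {g : Equiv.Perm GolayPt} :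
    g ∈ baseStab K k ↔ g ∈ K ∧
      ∀ j : Fin 7, j.val < k → g (Helper4.pt (m24base j)) = Helper4.pt (m24base j) := Iff.rfl

theorem baseStab_zero (K : Subgroup (Equiv.Perm GolayPt)) : baseStab K 0 = K := by
  ext g
  rw [mem_baseStab]
  exact ⟨fun h => h.1, fun h => ⟨h, fun j hj => absurd hj (Nat.not_lt_zero _)⟩⟩

theorem baseStab_succ (K : Subgroup (Equiv.Perm GolayPt)) (k : Fin 7) :
    baseStab K (k.val + 1) =
      baseStab K k.val ⊓ stabilizer (Equiv.Perm GolayPt) (Helper4.pt (m24base k)) := by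
  ext g
  rw [Subgroup.mem_inf, mem_baseStab, mem_baseStab, MulAction.mem_stabilizer_iff]
  constructor
  · rintro ⟨hg, h⟩
    exact ⟨⟨hg, fun j hj => h j (Nat.lt_succ_of_lt hj)⟩, h k (Nat.lt_succ_self _)⟩
  · rintro ⟨⟨hg, h⟩, hk⟩
    refine ⟨hg, fun j hj => ?_⟩
    rcases Nat.lt_succ_iff_lt_or_eq.mp hj with hlt | heq
    · exact h j hlt
    · have : j = k := Fin.ext heq
      rw [this]; exact hk

/-! ### Rigidity -/

def rigidMasks1 : List ℕ :=
  [12656663, 8536111, 5275709, 8683614, 2162811, 8978620, 8421811, 786999, 10486557, 12584506,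
    9963547, 10558, 8391797, 11538486, 8663097, 5279]

def rigidMasks2 : List ℕ := 10305542 :: rigidMasks1

set_option maxRecDepth 100000 in
set_option maxHeartbeats 4000000 in
theorem rigidMasks2_octads : ∀ m ∈ rigidMasks2, IsCodeMask m ∧
    (Finset.univ.filter fun a : Fin 24 => m.testBit a.val = true).card = 8 := by
  decide +kernel

set_option maxRecDepth 100000 in
theorem rigidMasks1_five : ∀ m ∈ rigidMasks1, 5 ≤ (Finset.univ.filter fun a : Fin 24 =>
    m.testBit a.val = true ∧ (8388671 : ℕ).testBit a.val = true).card := by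
  decide +kernel

set_option maxRecDepth 100000 in
theorem rigidMasks2_five : ∀ m ∈ rigidMasks2, 5 ≤ (Finset.univ.filter fun a : Fin 24 =>
    m.testBit a.val = true ∧ (16629759 : ℕ).testBit a.val = true).card := by
  decide +kernel

set_option maxRecDepth 100000 in
theorem base_mask : ∀ a : Fin 24, (8388671 : ℕ).testBit a.val = true → ∃ j : Fin 7, m24base j = a := by
  decide +kernel

set_option maxRecDepth 100000 in
theorem rigid_sig1 : ∀ a : Fin 24, (16629759 : ℕ).testBit a.val = true → ∀ c : Fin 24,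
    (∀ m ∈ rigidMasks1, m.testBit c.val = m.testBit a.val) → c = a := by
  decide +kernel

set_option maxRecDepth 100000 in
theorem rigid_sig2 : ∀ a : Fin 24, ∀ c : Fin 24,
    (∀ m ∈ rigidMasks2, m.testBit c.val = m.testBit a.val) → c = a := by
  decide +kernel

/-- an element of `M24` fixing the seven base points is the identity -/
theorem eq_one_of_fix_base {g : Equiv.Perm GolayPt} (hg : g ∈ M24)
    (hfix : ∀ j : Fin 7, g (Helper4.pt (m24base j)) = Helper4.pt (m24base j)) : g = 1 := by
  have hoct : ∀ m ∈ rigidMasks2, maskSet m ∈ octads := fun m hm =>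
    maskSet_mem_octads m (rigidMasks2_octads m hm).1 (rigidMasks2_octads m hm).2
  have hfix0 : ∀ a : Fin 24, (8388671 : ℕ).testBit a.val = true →
      g (Helper4.pt a) = Helper4.pt a := by
    intro a ha
    obtain ⟨j, rfl⟩ := base_mask a ha
    exact hfix j
  have hinv1 : ∀ m ∈ rigidMasks1, g • maskSet m = maskSet m := fun m hm =>
    maskSet_invariant hg m _ (hoct m (List.mem_cons_of_mem _ hm)) hfix0 (rigidMasks1_five m hm)
  have hfix1 : ∀ a : Fin 24, (16629759 : ℕ).testBit a.val = true →
      g (Helper4.pt a) = Helper4.pt a := fun a ha =>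
    fix_of_signature g rigidMasks1 hinv1 a (rigid_sig1 a ha)
  have hinv2 : ∀ m ∈ rigidMasks2, g • maskSet m = maskSet m := fun m hm =>
    maskSet_invariant hg m _ (hoct m hm) hfix1 (rigidMasks2_five m hm)
  apply Equiv.ext
  intro x
  obtain ⟨a, rfl⟩ := Helper4.pt_bijective.2 x
  exact fix_of_signature g rigidMasks2 hinv2 a (rigid_sig2 a)

theorem baseStab_seven {K : Subgroup (Equiv.Perm GolayPt)} (hK : K ≤ M24) : baseStab K 7 = ⊥ := by
  rw [Subgroup.eq_bot_iff_forall]
  intro g hg
  exact eq_one_of_fix_base (hK hg.1) (fun j => hg.2 j j.2)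

/-! ### The basic orbits -/

set_option maxRecDepth 100000 in
theorem m24omega_upper : ∀ (k : Fin 7) (c : Fin 24),
    (∀ j : Fin 7, j < k → c ≠ m24base j) →
    (5 ≤ k.val → ((8536111 : ℕ).testBit c.val = (8536111 : ℕ).testBit (m24base k).val)) →
      (m24omega k).testBit c.val = true := by
  decide +kernel

set_option maxRecDepth 100000 in
theorem m24omega_card : ∀ k : Fin 7,
    (Finset.univ.filter fun a : Fin 24 => (m24omega k).testBit a.val = true).card =
      (![24, 23, 22, 21, 20, 3, 16] : Fin 7 → ℕ) k := by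
  decide +kernel

set_option maxRecDepth 100000 in
theorem baseOctad_facts : IsCodeMask 8536111 ∧
    (Finset.univ.filter fun a : Fin 24 => (8536111 : ℕ).testBit a.val = true).card = 8 ∧
    5 ≤ (Finset.univ.filter fun a : Fin 24 =>
      (8536111 : ℕ).testBit a.val = true ∧ (8388623 : ℕ).testBit a.val = true).card ∧
    ∀ a : Fin 24, (8388623 : ℕ).testBit a.val = true → ∃ j : Fin 7, j.val < 5 ∧ m24base j = a := by
  decide +kernel

/-- the base octad `{∞, 0, 1, 2, 3, 5, 14, 17}` -/
def baseOctad : Finset GolayPt := maskSet 8536111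

theorem baseOctad_mem : baseOctad ∈ octads :=
  maskSet_mem_octads _ baseOctad_facts.1 baseOctad_facts.2.1

theorem baseOctad_invariant {g : Equiv.Perm GolayPt} (hg : g ∈ M24)
    (hfix : ∀ j : Fin 7, j.val < 5 → g (Helper4.pt (m24base j)) = Helper4.pt (m24base j)) :
    g • baseOctad = baseOctad := by
  apply maskSet_invariant hg _ 8388623 baseOctad_mem _ baseOctad_facts.2.2.1
  intro a ha
  obtain ⟨j, hj, rfl⟩ := baseOctad_facts.2.2.2 a ha
  exact hfix j hj

theorem orbit_baseStab {K : Subgroup (Equiv.Perm GolayPt)} (hK1 : Subgroup.closure m24gens ≤ K)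
    (hK2 : K ≤ M24) (k : Fin 7) :
    orbit (baseStab K k.val) (Helper4.pt (m24base k)) =
      (fun a : Fin 24 => Helper4.pt a) '' {a : Fin 24 | (m24omega k).testBit a.val = true} := by
  ext x
  constructor
  · rintro ⟨⟨g, hg⟩, rfl⟩
    show g (Helper4.pt (m24base k)) ∈ _
    refine ⟨ptInv (g (Helper4.pt (m24base k))), ?_, pt_ptInv _⟩
    rw [Set.mem_setOf_eq]
    apply m24omega_upper
    · intro j hj hcon
      have h1 : g (Helper4.pt (m24base j)) = Helper4.pt (m24base j) := hg.2 j hj
      have h2 : g (Helper4.pt (m24base k)) = Helper4.pt (m24base j) := by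
        rw [← hcon, pt_ptInv]
      have h3 := g.injective (h2.trans h1.symm)
      have h4 := Helper4.pt_bijective.1 h3
      have hinj : ∀ i j : Fin 7, m24base i = m24base j → i = j := by decide
      have := hinj _ _ h4
      rw [this] at hj
      exact lt_irrefl _ hj
    · intro h5
      have hinv := baseOctad_invariant (hK2 hg.1) (fun j hj => hg.2 j (lt_of_lt_of_le hj h5))
      have h1 := apply_mem_of_smul_eq hinv (Helper4.pt (m24base k))
      unfold baseOctad at h1
      rw [mem_maskSet, pt_mem_maskSet] at h1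
      cases h : (8536111 : ℕ).testBit (m24base k).val
      · cases h' : (8536111 : ℕ).testBit (ptInv (g (Helper4.pt (m24base k)))).val
        · rfl
        · rw [h, h'] at h1
          exact absurd (h1.mp rfl) (by simp)
      · rw [h] at h1
        exact h1.mpr rfl
  · rintro ⟨a, ha, rfl⟩
    rw [Set.mem_setOf_eq] at ha
    obtain ⟨g, hg, hfix, hmap⟩ := m24_level k a ha
    have hgm : g ∈ baseStab K k.val := ⟨hK1 hg, fun j hj => hfix j hj⟩
    exact ⟨⟨g, hgm⟩, hmap⟩

theorem ncard_orbit_baseStab {K : Subgroup (Equiv.Perm GolayPt)}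
    (hK1 : Subgroup.closure m24gens ≤ K) (hK2 : K ≤ M24) (k : Fin 7) :
    (orbit (baseStab K k.val) (Helper4.pt (m24base k))).ncard =
      (![24, 23, 22, 21, 20, 3, 16] : Fin 7 → ℕ) k := by
  rw [orbit_baseStab hK1 hK2 k, Set.ncard_image_of_injective _ Helper4.pt_bijective.1,
    ← m24omega_card k, Set.ncard_eq_toFinset_card']
  congr 1
  ext a
  simp

theorem card_baseStab_step {K : Subgroup (Equiv.Perm GolayPt)}
    (hK1 : Subgroup.closure m24gens ≤ K) (hK2 : K ≤ M24) (k : Fin 7) :
    Nat.card (baseStab K k.val) =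
      (![24, 23, 22, 21, 20, 3, 16] : Fin 7 → ℕ) k * Nat.card (baseStab K (k.val + 1)) := by
  rw [card_eq_orbit_mul_card_inf_stabilizer (baseStab K k.val) (Helper4.pt (m24base k)),
    ncard_orbit_baseStab hK1 hK2 k, baseStab_succ]

/-- the orders of the groups in the stabilizer chain -/
theorem card_baseStab {K : Subgroup (Equiv.Perm GolayPt)}
    (hK1 : Subgroup.closure m24gens ≤ K) (hK2 : K ≤ M24) :
    Nat.card (baseStab K 0) = 244823040 ∧ Nat.card (baseStab K 1) = 10200960 ∧
    Nat.card (baseStab K 2) = 443520 ∧ Nat.card (baseStab K 3) = 20160 ∧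
    Nat.card (baseStab K 4) = 960 ∧ Nat.card (baseStab K 5) = 48 ∧
    Nat.card (baseStab K 6) = 16 ∧ Nat.card (baseStab K 7) = 1 := by
  have h7 : Nat.card (baseStab K 7) = 1 := by
    rw [baseStab_seven hK2]; exact Subgroup.card_bot
  have h6 := card_baseStab_step hK1 hK2 6
  have h5 := card_baseStab_step hK1 hK2 5
  have h4 := card_baseStab_step hK1 hK2 4
  have h3 := card_baseStab_step hK1 hK2 3
  have h2 := card_baseStab_step hK1 hK2 2
  have h1 := card_baseStab_step hK1 hK2 1
  have h0 := card_baseStab_step hK1 hK2 0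
  simp only [Fin.val_zero, Fin.val_one] at h0 h1
  have e2 : ((2 : Fin 7) : ℕ) = 2 := rfl
  have e3 : ((3 : Fin 7) : ℕ) = 3 := rfl
  have e4 : ((4 : Fin 7) : ℕ) = 4 := rfl
  have e5 : ((5 : Fin 7) : ℕ) = 5 := rfl
  have e6 : ((6 : Fin 7) : ℕ) = 6 := rfl
  rw [e2] at h2; rw [e3] at h3; rw [e4] at h4; rw [e5] at h5; rw [e6] at h6
  norm_num at h0 h1 h2 h3 h4 h5 h6
  rw [h7] at h6
  rw [h6] at h5
  rw [h5] at h4
  rw [h4] at h3
  rw [h3] at h2
  rw [h2] at h1
  rw [h1] at h0
  exact ⟨h0, h1, h2, h3, h4, h5, h6, h7⟩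

theorem card_M24 : Nat.card M24 = 244823040 := by
  have := (card_baseStab m24gens_closure_le le_rfl).1
  rwa [baseStab_zero] at this

theorem card_closure_m24gens : Nat.card (Subgroup.closure m24gens) = 244823040 := by
  have := (card_baseStab (K := Subgroup.closure m24gens) le_rfl m24gens_closure_le).1
  rwa [baseStab_zero] at this

/-- `M24` is generated by the three standard generators -/
theorem closure_m24gens_eq : Subgroup.closure m24gens = M24 := by
  apply Subgroup.eq_of_le_of_card_ge m24gens_closure_le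
  rw [card_M24, card_closure_m24gens]

end Cfsg.Agent.Lib.Helper28
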