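import Mathlib
import Cfsg.Agent.Lib.Helper28.Witt22
import Cfsg.Agent.Lib.Helper28.HSData
import Cfsg.Agent.Lib.Helper28.PBGraph
import Cfsg.Agent.Lib.Helper28.M24Simple
import Cfsg.Agent.Lib.Helper28.M24Mem
import Cfsg.Agent.Lib.Helper28.M24Order

/-!
# An odd automorphism of the point-block graph of an `S(3,6,22)`

In coordinates adapted to the length-24 code, the map `x ↦ -1/x` induces an automorphism of the
`S(3,6,22)` which is an odd permutation of the 22 points and an even permutation of the 77 blocks.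
-/

set_option autoImplicit false
set_option linter.unusedSectionVars false
set_option linter.unusedVariables false

namespace Cfsg.Agent.Lib.Helper28

open Cfsg Finset Witt Derived

namespace HS

/-- homomorphisms from a simple group of order more than 2 to the units of `ℤ` are trivial -/
theorem hom_units_trivial {G : Type*} [Group G] [IsSimpleGroup G] (hc : 2 < Nat.card G)
    (f : G →* ℤˣ) (g : G) : f g = 1 := by
  rcases f.normal_ker.eq_bot_or_eq_top with h | h
  · exfalso
    have hinj : Function.Injective f := (MonoidHom.ker_eq_bot_iff f).mp h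
    have h1 := Nat.card_le_card_of_injective f hinj
    have h2 : Nat.card ℤˣ = 2 := by
      rw [Nat.card_eq_fintype_card]
      rfl
    omega
  · have hg : g ∈ f.ker := by
      rw [h]
      exact Subgroup.mem_top g
    exact MonoidHom.mem_ker.mp hg

/-- the sign of an involution -/
theorem sign_involution {X : Type*} [Fintype X] [DecidableEq X] (π : Equiv.Perm X)
    (hπ : π * π = 1) (k : ℕ)
    (hk : Fintype.card X = (Finset.univ.filter (fun x => π x = x)).card + 2 * k) :
    Equiv.Perm.sign π = (-1) ^ k := by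
  have h2 : ∀ n ∈ π.cycleType, n = 2 := by
    intro n hn
    have h1 := Equiv.Perm.dvd_of_mem_cycleType hn
    have h3 : orderOf π ∣ 2 := orderOf_dvd_of_pow_eq_one (by rw [pow_two]; exact hπ)
    have h4 := Equiv.Perm.two_le_of_mem_cycleType hn
    have h5 : n ∣ 2 := h1.trans h3
    have h6 := Nat.le_of_dvd (by norm_num) h5
    omega
  have hrep : π.cycleType = Multiset.replicate (Multiset.card π.cycleType) 2 :=
    Multiset.eq_replicate_card.mpr h2
  have hsum : π.cycleType.sum = 2 * Multiset.card π.cycleType := by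
    conv_lhs => rw [hrep]
    rw [Multiset.sum_replicate, smul_eq_mul, mul_comm]
  have hsupp : π.cycleType.sum = π.support.card := Equiv.Perm.sum_cycleType π
  have hfix : (Finset.univ.filter (fun x => π x = x)).card + π.support.card = Fintype.card X := by
    have h1 : π.support = Finset.univ.filter (fun x => ¬ π x = x) := by
      ext x
      rw [Equiv.Perm.mem_support, Finset.mem_filter]
      exact ⟨fun h => ⟨Finset.mem_univ _, h⟩, fun h => h.2⟩
    rw [h1, Finset.card_filter_add_card_filter_not, Finset.card_univ]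
  have hck : Multiset.card π.cycleType = k := by omega
  rw [Equiv.Perm.sign_of_cycleType, hsum, hck, pow_add, pow_mul]
  simp

theorem sign_projInv : Equiv.Perm.sign projInv = 1 := by
  haveI := M24_isSimpleGroup
  exact hom_units_trivial (G := M24) (by rw [card_M24]; norm_num)
    (Equiv.Perm.sign.comp M24.subtype) ⟨projInv, projInv_mem_M24⟩

theorem sw_projInv_sq : (sw * projInv) * (sw * projInv) = 1 := by
  ext1 x
  revert x
  decide +kernel

theorem sign_sw_projInv : Equiv.Perm.sign (sw * projInv) = -1 := by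
  rw [map_mul, sign_projInv, mul_one]
  exact Equiv.Perm.sign_swap (by decide)

section Coord

variable {α : Type*} [Fintype α] [DecidableEq α]

theorem sign_tauHom2 (Ψ : Option (Option α) ≃ GolayPt) (σ : Equiv.Perm α) :
    Equiv.Perm.sign (tauHom2 Ψ σ) = Equiv.Perm.sign σ := by
  show Equiv.Perm.sign (Ψ.permCongr (Equiv.optionCongr (Equiv.optionCongr σ))) = _
  rw [Equiv.Perm.sign_permCongr, Equiv.optionCongr_sign, Equiv.optionCongr_sign]

/-- the octad of a block -/
def toOct (Ψ : Option (Option α) ≃ GolayPt) (b : Finset α) : Finset GolayPt :=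
  (Finset.insertNone (Finset.insertNone b)).image Ψ

theorem toOct_injective (Ψ : Option (Option α) ≃ GolayPt) : Function.Injective (toOct Ψ) := by
  intro b c h
  have h1 := Finset.image_injective Ψ.injective h
  exact insertNone_inj (insertNone_inj h1)

theorem toOct_image (Ψ : Option (Option α) ≃ GolayPt) (σ : Equiv.Perm α) (b : Finset α) :
    toOct Ψ (b.image σ) = (toOct Ψ b).image (tauHom2 Ψ σ) := (image_tauHom2 Ψ σ b).symm

variable {B : Set (Finset α)} (Ψ : Option (Option α) ≃ GolayPt) (h0 : Ψ none = none)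
  (h1 : Ψ (some none) = some 0)
  (hiff : ∀ b : Finset α, b ∈ B ↔
    (Finset.insertNone (Finset.insertNone b)).image Ψ ∈ octads)
include h0 h1 hiff

theorem none_mem_toOct (b : Finset α) : none ∈ toOct Ψ b :=
  Finset.mem_image.mpr ⟨none, Finset.none_mem_insertNone, h0⟩

theorem zero_mem_toOct (b : Finset α) : some 0 ∈ toOct Ψ b :=
  Finset.mem_image.mpr ⟨some none, Finset.some_mem_insertNone.mpr Finset.none_mem_insertNone, h1⟩

/-- 3-transitivity of the even part -/
theorem exists_even_map3 (x y : Fin 3 ↪ α) :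
    ∃ σ ∈ setSystemAut B, tauHom2 Ψ σ ∈ M24 ∧ ∀ i, σ (x i) = y i := by
  have h5 := Cfsg.Agent.S0366.result
  rw [MulAction.isMultiplyPretransitive_iff] at h5
  let ext5 : (Fin 3 ↪ α) → (Fin 5 ↪ GolayPt) := fun x =>
    ((finSuccEquiv 4).toEmbedding.trans
      ((finSuccEquiv 3).toEmbedding.trans x.optionMap).optionMap).trans Ψ.toEmbedding
  have e0 : ∀ x : Fin 3 ↪ α, ext5 x 0 = none := by
    intro x
    show Ψ (Option.map ((finSuccEquiv 3).toEmbedding.trans x.optionMap) (finSuccEquiv 4 0)) = none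
    rw [finSuccEquiv_zero]
    exact h0
  have e1 : ∀ x : Fin 3 ↪ α, ext5 x (Fin.succ 0) = some 0 := by
    intro x
    show Ψ (Option.map ((finSuccEquiv 3).toEmbedding.trans x.optionMap)
      (finSuccEquiv 4 (Fin.succ 0))) = some 0
    rw [finSuccEquiv_succ, Option.map_some]
    show Ψ (some (Option.map x (finSuccEquiv 3 0))) = some 0
    rw [finSuccEquiv_zero]
    exact h1
  have es : ∀ (x : Fin 3 ↪ α) (i : Fin 3), ext5 x i.succ.succ = Ψ (some (some (x i))) := by
    intro x i
    show Ψ (Option.map ((finSuccEquiv 3).toEmbedding.trans x.optionMap)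
      (finSuccEquiv 4 i.succ.succ)) = _
    rw [finSuccEquiv_succ, Option.map_some]
    show Ψ (some (Option.map x (finSuccEquiv 3 i.succ))) = _
    rw [finSuccEquiv_succ]
    rfl
  obtain ⟨g, hg⟩ := h5 (ext5 x) (ext5 y)
  have hg0 : g.1 none = none := by
    have k1 := DFunLike.congr_fun hg 0
    have k2 : g.1 (ext5 x 0) = ext5 y 0 := k1
    rwa [e0, e0] at k2
  have hg1 : g.1 (some 0) = some 0 := by
    have k1 := DFunLike.congr_fun hg (Fin.succ 0)
    have k2 : g.1 (ext5 x (Fin.succ 0)) = ext5 y (Fin.succ 0) := k1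
    rwa [e1, e1] at k2
  obtain ⟨σ, hσ, hσg⟩ := exists_of_fix Ψ h0 h1 hiff hg0 hg1
    (fun o ho _ _ => image_mem_octads_of_mem_M24 g.2 ho)
  refine ⟨σ, hσ, ?_, fun i => ?_⟩
  · rw [hσg]
    exact g.2
  · have k1 := DFunLike.congr_fun hg i.succ.succ
    have k2 : g.1 (ext5 x i.succ.succ) = ext5 y i.succ.succ := k1
    rw [es, es, ← hσg, tauHom2_apply] at k2
    have k3 := Ψ.injective k2
    simpa using k3

/-- the automorphism induced by `x ↦ -1/x` -/
theorem exists_sigma0 : ∃ σ ∈ setSystemAut B, tauHom2 Ψ σ = sw * projInv := by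
  have hg0n : projInv none = some 0 := rfl
  have hg0z : projInv (some 0) = none := by decide
  have h1' : (sw * projInv) none = none := by rw [Equiv.Perm.mul_apply, hg0n, sw_zero]
  have h2' : (sw * projInv) (some 0) = some 0 := by rw [Equiv.Perm.mul_apply, hg0z, sw_none]
  have hoct : ∀ o ∈ octads, none ∈ o → some 0 ∈ o → o.image (sw * projInv) ∈ octads := by
    intro o ho hn hz
    have : o.image (sw * projInv) = (o.image projInv).image sw := by
      rw [Finset.image_image, Equiv.Perm.coe_mul]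
    rw [this, image_sw_of_mem]
    · exact image_mem_octads_of_mem_M24 projInv_mem_M24 ho
    · exact Finset.mem_image.mpr ⟨some 0, hz, hg0z⟩
    · exact Finset.mem_image.mpr ⟨none, hn, hg0n⟩
  exact exists_of_fix Ψ h0 h1 hiff h1' h2' hoct

theorem image_eq_iff {σ0 : Equiv.Perm α} (hτ : tauHom2 Ψ σ0 = sw * projInv) (b : Finset α) :
    b.image σ0 = b ↔ (toOct Ψ b).image projInv = toOct Ψ b := by
  have key : toOct Ψ (b.image σ0) = (toOct Ψ b).image projInv := by
    rw [toOct_image, hτ]
    have : (toOct Ψ b).image (sw * projInv) = ((toOct Ψ b).image projInv).image sw := by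
      rw [Finset.image_image, Equiv.Perm.coe_mul]
    rw [this, image_sw_of_mem]
    · exact Finset.mem_image.mpr ⟨some 0, zero_mem_toOct Ψ h0 h1 hiff b, by decide⟩
    · exact Finset.mem_image.mpr ⟨none, none_mem_toOct Ψ h0 h1 hiff b, rfl⟩
  constructor
  · intro h
    rw [← key, h]
  · intro h
    apply toOct_injective Ψ
    rw [key, h]

theorem card_fixed_blocks [Fintype ↥B] {σ0 : Equiv.Perm α}
    (hτ : tauHom2 Ψ σ0 = sw * projInv) :
    (Finset.univ.filter (fun b : ↥B => (b : Finset α).image σ0 = b)).card = 5 := by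
  have hinj : Function.Injective (fun b : ↥B => toOct Ψ b.1) :=
    fun b c h => Subtype.ext (toOct_injective Ψ h)
  have himg : (Finset.univ.filter (fun b : ↥B => (b : Finset α).image σ0 = b)).image
      (fun b : ↥B => toOct Ψ b.1) = HSData.L5.toFinset.image maskSet := by
    ext o
    rw [Finset.mem_image, Finset.mem_image]
    constructor
    · rintro ⟨b, hb, rfl⟩
      rw [Finset.mem_filter] at hb
      have hfix := (image_eq_iff Ψ h0 h1 hiff hτ b.1).mp hb.2
      obtain ⟨m, hm, hmo⟩ := HSData.octads_through ((hiff b.1).mp b.2)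
        (none_mem_toOct Ψ h0 h1 hiff b.1) (zero_mem_toOct Ψ h0 h1 hiff b.1)
      refine ⟨m, ?_, hmo.symm⟩
      have hmo' : toOct Ψ b.1 = maskSet m := hmo
      rw [hmo'] at hfix
      rw [List.mem_toFinset]
      exact (HSData.fixed_iff hm).mp hfix
    · rintro ⟨m, hm, rfl⟩
      rw [List.mem_toFinset] at hm
      have hm77 := HSData.L5_sub m hm
      obtain ⟨ho, hn, hz⟩ := HSData.maskSet_mem_through hm77
      obtain ⟨b, hb, hbo⟩ := octad_eq_image2 Ψ h0 h1 hiff ho hn hz
      have hbo' : toOct Ψ b = maskSet m := hbo.symm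
      refine ⟨⟨b, hb⟩, ?_, hbo'⟩
      rw [Finset.mem_filter]
      refine ⟨Finset.mem_univ _, ?_⟩
      show b.image σ0 = b
      rw [image_eq_iff Ψ h0 h1 hiff hτ, hbo']
      exact (HSData.fixed_iff hm77).mpr hm
  rw [← Finset.card_image_of_injective _ hinj, himg, HSData.card_L5_image]

theorem sign_blockEquiv [Fintype ↥B] {σ0 : Equiv.Perm α} (hσ0 : σ0 ∈ setSystemAut B)
    (hτ : tauHom2 Ψ σ0 = sw * projInv) (hcB : Fintype.card ↥B = 77) :
    Equiv.Perm.sign (PBGraph.blockEquiv σ0 (PBGraph.image_eq_of_mem_aut hσ0) :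
      Equiv.Perm ↥B) = 1 := by
  have hσsq : σ0 * σ0 = 1 := by
    apply tauHom2_injective Ψ
    rw [map_mul, hτ, map_one]
    exact sw_projInv_sq
  have hcomp : (⇑σ0 ∘ ⇑σ0) = id := by
    funext x
    have := DFunLike.congr_fun hσsq x
    exact this
  have hsq : (PBGraph.blockEquiv σ0 (PBGraph.image_eq_of_mem_aut hσ0) : Equiv.Perm ↥B) *
      (PBGraph.blockEquiv σ0 (PBGraph.image_eq_of_mem_aut hσ0) : Equiv.Perm ↥B) = 1 := by
    ext1 b
    apply Subtype.ext
    show (b.1.image σ0).image σ0 = b.1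
    rw [Finset.image_image, hcomp, Finset.image_id]
  have hfilter : (Finset.univ.filter (fun b : ↥B =>
      (PBGraph.blockEquiv σ0 (PBGraph.image_eq_of_mem_aut hσ0) : Equiv.Perm ↥B) b = b)) =
      Finset.univ.filter (fun b : ↥B => (b : Finset α).image σ0 = b) := by
    apply Finset.filter_congr
    intro b _
    rw [Subtype.ext_iff]
    rfl
  have h := sign_involution _ hsq 36 (by
    rw [hcB, hfilter, card_fixed_blocks Ψ h0 h1 hiff hτ])
  rw [h]
  norm_num

/-- the sign of the induced graph automorphism on the vertices -/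
theorem sign_autOfAut [Fintype ↥B] (hne : ∀ b ∈ B, b ≠ ∅) (σ : setSystemAut B) :
    Equiv.Perm.sign ((PBGraph.autOfAut hne σ).toEquiv) =
      Equiv.Perm.sign σ.1 * Equiv.Perm.sign (PBGraph.blockEquiv σ.1
        (PBGraph.image_eq_of_mem_aut σ.2) : Equiv.Perm ↥B) := by
  show Equiv.Perm.sign (Equiv.optionCongr (Equiv.sumCongr σ.1
    (PBGraph.blockEquiv σ.1 (PBGraph.image_eq_of_mem_aut σ.2)))) = _
  rw [Equiv.optionCongr_sign]
  exact Equiv.Perm.sign_sumCongr _ _

/-- an odd automorphism -/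
theorem exists_odd_aut [Fintype ↥B] (hne : ∀ b ∈ B, b ≠ ∅) (hcB : Fintype.card ↥B = 77) :
    ∃ σ : setSystemAut B, Equiv.Perm.sign ((PBGraph.autOfAut hne σ).toEquiv) = -1 := by
  obtain ⟨σ0, hσ0, hτ⟩ := exists_sigma0 Ψ h0 h1 hiff
  refine ⟨⟨σ0, hσ0⟩, ?_⟩
  rw [sign_autOfAut Ψ h0 h1 hiff hne, sign_blockEquiv Ψ h0 h1 hiff hσ0 hτ hcB, mul_one,
    ← sign_tauHom2 Ψ, hτ, sign_sw_projInv]

/-- the even part of the automorphism group -/
theorem exists_even_part : ∃ M : Subgroup (setSystemAut B),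
    (∀ σ : setSystemAut B, σ ∈ M ↔ tauHom2 Ψ σ.1 ∈ M24) ∧ Nonempty (↥M ≃* ↥G22) := by
  have hp23 : Helper4.pt 23 = none := by decide
  have hp0 : Helper4.pt 0 = some 0 := by decide
  have hfinj : Function.Injective ((tauHom2 Ψ).comp (setSystemAut B).subtype) :=
    (tauHom2_injective Ψ).comp Subtype.coe_injective
  have hmemH : ∀ b : ↥(setSystemAut B),
      b ∈ G22.comap ((tauHom2 Ψ).comp (setSystemAut B).subtype) ↔ tauHom2 Ψ b.1 ∈ M24 := by
    intro b
    rw [Subgroup.mem_comap, mem_G22, hp23, hp0]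
    constructor
    · intro h
      exact h.1
    · intro h
      exact ⟨h, tauHom2_none Ψ h0 h1 b.1, tauHom2_zero Ψ h0 h1 b.1⟩
  have hmap : (G22.comap ((tauHom2 Ψ).comp (setSystemAut B).subtype)).map
      ((tauHom2 Ψ).comp (setSystemAut B).subtype) = G22 := by
    ext g
    rw [Subgroup.mem_map]
    constructor
    · rintro ⟨x, hx, rfl⟩
      exact hx
    · intro hg
      obtain ⟨hgM, hgn, hgz⟩ := mem_G22.mp hg
      rw [hp23] at hgn
      rw [hp0] at hgz
      obtain ⟨σ, hσ, hσg⟩ := exists_of_fix Ψ h0 h1 hiff hgn hgz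
        (fun o ho _ _ => image_mem_octads_of_mem_M24 hgM ho)
      refine ⟨⟨σ, hσ⟩, ?_, hσg⟩
      rw [hmemH]
      show tauHom2 Ψ σ ∈ M24
      rw [hσg]
      exact hgM
  exact ⟨G22.comap ((tauHom2 Ψ).comp (setSystemAut B).subtype), hmemH,
    ⟨(Subgroup.equivMapOfInjective _ _ hfinj).trans (MulEquiv.subgroupCongr hmap)⟩⟩

omit h0 h1 hiff in
theorem exists_emb3_zero (hα3 : 3 ≤ Fintype.card α) (a : α) : ∃ x : Fin 3 ↪ α, x 0 = a := by
  obtain ⟨z⟩ : Nonempty (Fin 3 ↪ α) := Function.Embedding.nonempty_of_card_le (by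
    rw [Fintype.card_fin]
    exact hα3)
  refine ⟨z.trans (Equiv.swap (z 0) a).toEmbedding, ?_⟩
  show Equiv.swap (z 0) a (z 0) = a
  exact Equiv.swap_apply_left _ _

/-- the even part is transitive on points -/
theorem exists_even_pt (hα3 : 3 ≤ Fintype.card α) (a a' : α) :
    ∃ σ ∈ setSystemAut B, tauHom2 Ψ σ ∈ M24 ∧ σ a = a' := by
  obtain ⟨x, hx⟩ := exists_emb3_zero hα3 a
  obtain ⟨y, hy⟩ := exists_emb3_zero hα3 a'
  obtain ⟨σ, hσ, hσM, hσx⟩ := exists_even_map3 Ψ h0 h1 hiff x y
  refine ⟨σ, hσ, hσM, ?_⟩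
  rw [← hx, ← hy]
  exact hσx 0

/-- the even part is transitive on blocks -/
theorem exists_even_blk (hB : IsSteinerSystem 3 6 B) {b b' : Finset α} (hb : b ∈ B)
    (hb' : b' ∈ B) : ∃ σ ∈ setSystemAut B, tauHom2 Ψ σ ∈ M24 ∧ b.image σ = b' := by
  obtain ⟨x, hx⟩ : ∃ x : Fin 3 ↪ α, Set.range x ⊆ b :=
    Function.Embedding.exists_of_card_le_finset (by
      rw [Fintype.card_fin, hB.1 b hb]
      norm_num)
  obtain ⟨y, hy⟩ : ∃ y : Fin 3 ↪ α, Set.range y ⊆ b' :=
    Function.Embedding.exists_of_card_le_finset (by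
      rw [Fintype.card_fin, hB.1 b' hb']
      norm_num)
  obtain ⟨σ, hσ, hσM, hσx⟩ := exists_even_map3 Ψ h0 h1 hiff x y
  refine ⟨σ, hσ, hσM, ?_⟩
  have hs : (Finset.univ.map y).card = 3 := by
    rw [Finset.card_map, Finset.card_univ, Fintype.card_fin]
  obtain ⟨c, -, huniq⟩ := hB.2 _ hs
  have k1 : b.image σ = c := huniq _ ⟨SetSys.mem_aut_iff.mp hσ b hb, fun t ht => by
    rw [Finset.mem_map] at ht
    obtain ⟨i, -, rfl⟩ := ht
    have k0 : y i = σ (x i) := (hσx i).symm
    rw [k0]
    exact Finset.mem_image_of_mem σ (hx (Set.mem_range_self i))⟩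
  have k2 : b' = c := huniq _ ⟨hb', fun t ht => by
    rw [Finset.mem_map] at ht
    obtain ⟨i, -, rfl⟩ := ht
    exact hy (Set.mem_range_self i)⟩
  rw [k1, k2]

end Coord

end HS

end Cfsg.Agent.Lib.Helper28
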