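import Cfsg.Agent.Lib.Helper28.HSBridge
import Cfsg.Agent.Lib.Helper28.OutM22
import Cfsg.Agent.Lib.Helper3.Rank3Srg
import Cfsg.Agent.Lib.Helper13.Srg100

/-!
# The Higman–Sims group from its action of rank three on 100 points

A transitive group on 100 points whose point stabilizer is isomorphic to `M₂₂` and has orbits of
lengths 22 and 77 preserves a strongly regular graph with the parameters `(100, 22, 0, 6)`
(the orbital graph, by a lemma of helper3, and the integrality of the multiplicities, by a lemma
of helper13).  That graph is unique and its automorphism group has a single subgroup of index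
two, which is the Higman–Sims group.
-/

set_option autoImplicit false

namespace Cfsg.Agent.Lib.Helper28.HSR

open Cfsg Cfsg.Spor Cfsg.Agent.Lib.Helper28.HSA Cfsg.Agent.Lib.Helper28.HSB

/-- the explicit group on 100 points is simple -/
theorem Kab_simple : IsSimpleGroup ↥Kab := by
  obtain ⟨e⟩ := hsl_iso
  haveI : IsSimpleGroup ↥HSL := h05.1
  exact e.isSimpleGroup_congr.mp inferInstance

/-- a group of automorphisms of order `44352000` of a graph with the parameters `(100, 22, 0, 6)`
is isomorphic to the Higman–Sims group -/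
theorem iso_of_graph {Ω : Type*} [Fintype Ω] [DecidableEq Ω] (G : Subgroup (Equiv.Perm Ω))
    (Γ : SimpleGraph Ω) (hΓ : SrgLocal.HSLike Γ)
    (hG : ∀ g ∈ G, ∀ x y, Γ.Adj (g x) (g y) ↔ Γ.Adj x y)
    (hcard : Nat.card G = 44352000) : Spor.IsoHS G := by
  obtain ⟨ψ⟩ := PBGraph.srg_unique_aux hsLike_Gc hΓ
  let ι : G →* (Γ ≃g Γ) :=
    { toFun := fun g => { toEquiv := g.1, map_rel_iff' := fun {x y} => hG g.1 g.2 x y }
      map_one' := by
        apply RelIso.ext
        intro x
        rfl
      map_mul' := by
        intro g h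
        apply RelIso.ext
        intro x
        rfl }
  have hι : Function.Injective ι := by
    intro g h hgh
    apply Subtype.ext
    apply Equiv.ext
    intro x
    exact congrArg (fun φ : Γ ≃g Γ => φ x) hgh
  haveI : Finite (Γ ≃g Γ) :=
    Nat.finite_of_card_ne_zero (by rw [card_aut_hsLike hΓ]; norm_num)
  obtain ⟨e1⟩ := iso_of_index_two ((conjIso ψ).comp iota) ((conjIso_inj ψ).comp iota_inj) ι hι
    Kab_simple (by rw [card_Kab, hcard]) (by rw [card_aut_hsLike hΓ, hcard])
    (by rw [card_Kab]; norm_num)
  obtain ⟨e2⟩ := hsl_iso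
  exact ⟨e1.symm.trans (e2.symm.trans hsEquiv.symm)⟩

theorem card_M22 : Nat.card ↥Spor.M22 = 443520 := by
  rw [M22_eq_G22]
  exact card_G22

/-- a transitive group on 100 points with point stabilizer `M₂₂` and suborbits of lengths 22 and
77 is isomorphic to the Higman–Sims group -/
theorem main {Ω : Type*} [Fintype Ω] [DecidableEq Ω] (hΩ : Fintype.card Ω = 100)
    (G : Subgroup (Equiv.Perm Ω)) [MulAction.IsPretransitive G Ω] (a : Ω)
    (e : MulAction.stabilizer G a ≃* Spor.M22) (b c : Ω)
    (hb : (MulAction.orbit (MulAction.stabilizer G a) b).ncard = 22)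
    (hc : (MulAction.orbit (MulAction.stabilizer G a) c).ncard = 77) : Spor.IsoHS G := by
  obtain ⟨Γ, hdec, l, m, hsrg, hinv⟩ :=
    Cfsg.Agent.Lib.Helper3.Rank3Srg.rank3_srg hΩ G a b c hb hc
  obtain ⟨rfl, rfl⟩ := Cfsg.Agent.Lib.Helper13.Srg100.srg_100_22_params Γ l m hsrg
  have hcard : Nat.card G = 44352000 := by
    rw [← Nat.card_congr (MulAction.orbitProdStabilizerEquivGroup G a), Nat.card_prod,
      Nat.card_congr e.toEquiv, card_M22, MulAction.orbit_eq_univ,
      Nat.card_congr (Equiv.Set.univ Ω), Nat.card_eq_fintype_card, hΩ]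
  exact iso_of_graph G Γ (SrgLocal.hsLike_of_srg hsrg) hinv hcard

end Cfsg.Agent.Lib.Helper28.HSR
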