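import Mathlib
import Cfsg.Agent.Lib.Helper28.HSOdd
import Cfsg.Agent.Lib.Helper28.Rank3Simple
import Cfsg.Agent.Lib.Helper28.PBGraph

/-!
# The Higman–Sims group

The even automorphisms of the point-block graph of an `S(3,6,22)` form a simple group of order
`44352000`.
-/

set_option autoImplicit false
set_option linter.unusedSectionVars false
set_option linter.unusedVariables false

namespace Cfsg.Agent.Lib.Helper28

open Cfsg Finset

namespace HS

theorem two_mul_card_ker {G : Type*} [Group G] (f : G →* ℤˣ) (g0 : G) (h : f g0 = -1) :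
    2 * Nat.card f.ker = Nat.card G := by
  have hr : f.range = ⊤ := by
    rw [eq_top_iff]
    intro u _
    rcases Int.units_eq_one_or u with rfl | rfl
    · exact ⟨1, map_one f⟩
    · exact ⟨g0, h⟩
  have h1 := Subgroup.index_ker f
  rw [hr, Subgroup.card_top, Nat.card_eq_fintype_card, Fintype.card_units_int] at h1
  rw [← Subgroup.index_mul_card f.ker, h1]

section Main

variable {α : Type*} [Fintype α] [DecidableEq α] {B : Set (Finset α)} [Fintype ↥B]

/-- graph automorphisms as permutations of the vertices -/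
def toPermHom (B : Set (Finset α)) :
    (pointBlockGraph B ≃g pointBlockGraph B) →* Equiv.Perm (Option (α ⊕ ↥B)) where
  toFun g := g.toEquiv
  map_one' := rfl
  map_mul' _ _ := rfl

/-- the sign of a graph automorphism -/
def sgn (B : Set (Finset α)) [Fintype ↥B] : (pointBlockGraph B ≃g pointBlockGraph B) →* ℤˣ :=
  Equiv.Perm.sign.comp (toPermHom B)

theorem sgn_apply (g : pointBlockGraph B ≃g pointBlockGraph B) :
    sgn B g = Equiv.Perm.sign g.toEquiv := rfl

theorem autOfAut_mul (hne : ∀ b ∈ B, b ≠ ∅) (σ τ : setSystemAut B) :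
    PBGraph.autOfAut hne (σ * τ) = PBGraph.autOfAut hne σ * PBGraph.autOfAut hne τ := by
  apply RelIso.ext
  intro x
  rcases x with _ | a | b
  · rfl
  · rfl
  · have k1 : PBGraph.autOfAut hne (σ * τ) (some (Sum.inr b)) =
        some (Sum.inr (PBGraph.blockEquiv (σ * τ).1
          (PBGraph.image_eq_of_mem_aut (σ * τ).2) b)) := rfl
    have k2 : (PBGraph.autOfAut hne σ * PBGraph.autOfAut hne τ) (some (Sum.inr b)) =
        some (Sum.inr (PBGraph.blockEquiv σ.1 (PBGraph.image_eq_of_mem_aut σ.2)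
          (PBGraph.blockEquiv τ.1 (PBGraph.image_eq_of_mem_aut τ.2) b))) := rfl
    rw [k1, k2]
    congr 2
    apply Subtype.ext
    show b.1.image (σ.1 * τ.1) = (b.1.image τ.1).image σ.1
    rw [Finset.image_image]
    rfl

/-- the induced automorphism as a homomorphism -/
def autHom (hne : ∀ b ∈ B, b ≠ ∅) :
    setSystemAut B →* (pointBlockGraph B ≃g pointBlockGraph B) :=
  MonoidHom.mk' (PBGraph.autOfAut hne) (autOfAut_mul hne)

/-- the sign character of the automorphism group of the set system -/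
def chi (hne : ∀ b ∈ B, b ≠ ∅) : setSystemAut B →* ℤˣ := (sgn B).comp (autHom hne)

theorem chi_apply (hne : ∀ b ∈ B, b ≠ ∅) (σ : setSystemAut B) :
    chi hne σ = Equiv.Perm.sign (PBGraph.autOfAut hne σ).toEquiv := rfl

/-- the even automorphisms fixing the extra vertex -/
noncomputable def stabilizerEquiv (hne : ∀ b ∈ B, b ≠ ∅) :
    ↥(chi hne).ker ≃* ↥(MulAction.stabilizer ↥(sgn B).ker (none : Option (α ⊕ ↥B))) := by
  refine MulEquiv.ofBijective (MonoidHom.mk' (fun σ => ⟨⟨PBGraph.autOfAut hne σ.1,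
    MonoidHom.mem_ker.mpr (MonoidHom.mem_ker.mp σ.2)⟩, MulAction.mem_stabilizer_iff.mpr rfl⟩)
    (fun σ τ => Subtype.ext (Subtype.ext (autOfAut_mul hne σ.1 τ.1)))) ⟨?_, ?_⟩
  · intro σ τ h
    have k1 := congrArg (fun z : ↥(MulAction.stabilizer ↥(sgn B).ker
      (none : Option (α ⊕ ↥B))) => (z.1.1 : pointBlockGraph B ≃g pointBlockGraph B)) h
    exact Subtype.ext (PBGraph.autOfAut_injective hne k1)
  · rintro ⟨⟨g, hgH⟩, hfix⟩
    have hg0 : g none = none := MulAction.mem_stabilizer_iff.mp hfix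
    have hσ := PBGraph.autOfAut_permOf hne g hg0
    refine ⟨⟨⟨PBGraph.permOf g hg0, PBGraph.permOf_mem g hg0⟩, ?_⟩, ?_⟩
    · rw [MonoidHom.mem_ker, chi_apply, hσ]
      exact MonoidHom.mem_ker.mp hgH
    · exact Subtype.ext (Subtype.ext hσ)

theorem ncard_invariant (hα : Fintype.card α = 22) (hcB : Fintype.card ↥B = 77)
    (Δ : Set (Option (α ⊕ ↥B))) (hnone : none ∈ Δ)
    (hp : ∀ a a' : α, some (Sum.inl a) ∈ Δ → some (Sum.inl a') ∈ Δ)
    (hb : ∀ b b' : ↥B, some (Sum.inr b) ∈ Δ → some (Sum.inr b') ∈ Δ) :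
    Δ.ncard = 1 ∨ Δ.ncard = 23 ∨ Δ.ncard = 78 ∨ Δ.ncard = 100 := by
  have hPinj : Function.Injective (fun a : α => (some (Sum.inl a) : Option (α ⊕ ↥B))) :=
    fun a a' h => Sum.inl_injective (Option.some_injective _ h)
  have hQinj : Function.Injective (fun b : ↥B => (some (Sum.inr b) : Option (α ⊕ ↥B))) :=
    fun b b' h => Sum.inr_injective (Option.some_injective _ h)
  have hP : (Set.range (fun a : α => (some (Sum.inl a) : Option (α ⊕ ↥B)))).ncard = 22 := by
    rw [← Set.image_univ, Set.ncard_image_of_injective _ hPinj, Set.ncard_univ,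
      Nat.card_eq_fintype_card, hα]
  have hQ : (Set.range (fun b : ↥B => (some (Sum.inr b) : Option (α ⊕ ↥B)))).ncard = 77 := by
    rw [← Set.image_univ, Set.ncard_image_of_injective _ hQinj, Set.ncard_univ,
      Nat.card_eq_fintype_card, hcB]
  by_cases hPm : ∃ a : α, (some (Sum.inl a) : Option (α ⊕ ↥B)) ∈ Δ
  · obtain ⟨a0, ha0⟩ := hPm
    by_cases hQm : ∃ b : ↥B, (some (Sum.inr b) : Option (α ⊕ ↥B)) ∈ Δ
    · obtain ⟨b0, hb0⟩ := hQm
      right; right; right
      have : Δ = Set.univ := by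
        ext v
        simp only [Set.mem_univ, iff_true]
        rcases v with _ | a | b
        · exact hnone
        · exact hp a0 a ha0
        · exact hb b0 b hb0
      rw [this, Set.ncard_univ, Nat.card_eq_fintype_card, Fintype.card_option, Fintype.card_sum,
        hα, hcB]
    · right; left
      have : Δ = insert none (Set.range (fun a : α => (some (Sum.inl a) : Option (α ⊕ ↥B)))) := by
        ext v
        rw [Set.mem_insert_iff, Set.mem_range]
        rcases v with _ | a | b
        · exact ⟨fun _ => Or.inl rfl, fun _ => hnone⟩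
        · exact ⟨fun _ => Or.inr ⟨a, rfl⟩, fun _ => hp a0 a ha0⟩
        · constructor
          · intro h
            exact absurd ⟨b, h⟩ hQm
          · rintro (h | ⟨a, h⟩)
            · exact absurd h (by simp)
            · exact absurd h (by simp)
      rw [this, Set.ncard_insert_of_notMem (by simp) (Set.toFinite _), hP]
  · by_cases hQm : ∃ b : ↥B, (some (Sum.inr b) : Option (α ⊕ ↥B)) ∈ Δ
    · obtain ⟨b0, hb0⟩ := hQm
      right; right; left
      have : Δ = insert none (Set.range (fun b : ↥B => (some (Sum.inr b) : Option (α ⊕ ↥B)))) := by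
        ext v
        rw [Set.mem_insert_iff, Set.mem_range]
        rcases v with _ | a | b
        · exact ⟨fun _ => Or.inl rfl, fun _ => hnone⟩
        · constructor
          · intro h
            exact absurd ⟨a, h⟩ hPm
          · rintro (h | ⟨b, h⟩)
            · exact absurd h (by simp)
            · exact absurd h (by simp)
        · exact ⟨fun _ => Or.inr ⟨b, rfl⟩, fun _ => hb b0 b hb0⟩
      rw [this, Set.ncard_insert_of_notMem (by simp) (Set.toFinite _), hQ]
    · left
      have : Δ = {none} := by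
        ext v
        rw [Set.mem_singleton_iff]
        rcases v with _ | a | b
        · exact ⟨fun _ => rfl, fun _ => hnone⟩
        · constructor
          · intro h
            exact absurd ⟨a, h⟩ hPm
          · intro h
            exact absurd h (by simp)
        · constructor
          · intro h
            exact absurd ⟨b, h⟩ hQm
          · intro h
            exact absurd h (by simp)
      rw [this, Set.ncard_singleton]

variable (hα : Fintype.card α = 22) (hB : IsSteinerSystem 3 6 B)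
include hα hB

theorem card_blocks : Fintype.card ↥B = 77 := by
  rw [← Nat.card_eq_fintype_card, Nat.card_coe_set_eq,
    ← Cfsg.Agent.Lib.Helper3.Steiner.card_blocksF, Cfsg.Agent.Helper4.S3622.lam0 hα hB]

/-- the Higman–Sims group inside the automorphism group of the point-block graph -/
theorem exists_HS : ∃ H : Subgroup (pointBlockGraph B ≃g pointBlockGraph B), IsHS H := by
  have hne : ∀ b ∈ B, b ≠ ∅ := by
    intro b hb h
    have := hB.1 b hb
    rw [h, Finset.card_empty] at this
    omega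
  obtain ⟨Ψ, h0, h1, hΨ⟩ := Witt.exists_coords_22 hα hB
  have hiff := Witt.coords_22_iff hB Ψ hΨ
  have hcB : Fintype.card ↥B = 77 := card_blocks hα hB
  obtain ⟨σ0, hσ0⟩ := exists_odd_aut Ψ h0 h1 hiff hne hcB
  obtain ⟨M, hM, ⟨eM⟩⟩ := exists_even_part Ψ h0 h1 hiff
  haveI hG22 : IsSimpleGroup ↥G22 := G22_isSimpleGroup
  haveI hMs : IsSimpleGroup ↥M := eM.isSimpleGroup
  have hMc : Nat.card ↥M = 443520 := by
    rw [Nat.card_congr eM.toEquiv]
    exact card_G22
  have hcS : Nat.card (setSystemAut B) = 887040 := (Witt.aut_22 hα hB).1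
  have hcA : Nat.card (pointBlockGraph B ≃g pointBlockGraph B) = 88704000 :=
    PBGraph.card_aut hα hB
  have hχ0 : chi hne σ0 = -1 := hσ0
  have hχM : ∀ σ ∈ M, chi hne σ = 1 := fun σ hσ =>
    hom_units_trivial (G := ↥M) (by rw [hMc]; norm_num) ((chi hne).comp M.subtype) ⟨σ, hσ⟩
  have hker : (chi hne).ker = M := by
    symm
    apply Subgroup.eq_of_le_of_card_ge
    · intro σ hσ
      exact MonoidHom.mem_ker.mpr (hχM σ hσ)
    · have := two_mul_card_ker (chi hne) σ0 hχ0
      rw [hcS] at this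
      rw [hMc]
      omega
  haveI : Finite (pointBlockGraph B ≃g pointBlockGraph B) :=
    Nat.finite_of_card_ne_zero (by rw [hcA]; norm_num)
  have hcH : Nat.card ↥(sgn B).ker = 44352000 := by
    have := two_mul_card_ker (sgn B) (PBGraph.autOfAut hne σ0) hχ0
    rw [hcA] at this
    omega
  -- the action of the even automorphisms on the vertices
  haveI : FaithfulSMul ↥(sgn B).ker (Option (α ⊕ ↥B)) :=
    ⟨fun {g g'} h => Subtype.ext (RelIso.ext (fun v => h v))⟩
  have hev : ∀ v : Option (α ⊕ ↥B), ∃ g : pointBlockGraph B ≃g pointBlockGraph B,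
      sgn B g = 1 ∧ g v = none := by
    intro v
    obtain ⟨g, hg⟩ := PBGraph.exists_aut_to_none hα hB v
    rcases Int.units_eq_one_or (sgn B g) with h | h
    · exact ⟨g, h, hg⟩
    · refine ⟨PBGraph.autOfAut hne σ0 * g, ?_, ?_⟩
      · rw [map_mul, h]
        have : sgn B (PBGraph.autOfAut hne σ0) = -1 := hχ0
        rw [this]
        norm_num
      · show PBGraph.autOfAut hne σ0 (g v) = none
        rw [hg]
        rfl
  haveI : MulAction.IsPretransitive ↥(sgn B).ker (Option (α ⊕ ↥B)) := by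
    constructor
    intro x y
    obtain ⟨g, hg1, hg⟩ := hev x
    obtain ⟨g', hg1', hg'⟩ := hev y
    refine ⟨⟨g'⁻¹ * g, (sgn B).ker.mul_mem ((sgn B).ker.inv_mem (MonoidHom.mem_ker.mpr hg1'))
      (MonoidHom.mem_ker.mpr hg1)⟩, ?_⟩
    show (g'⁻¹ * g) • x = y
    rw [mul_smul]
    have k1 : g • x = none := hg
    have k2 : g' • y = none := hg'
    rw [k1, inv_smul_eq_iff, k2]
  -- the stabilizer of the extra vertex
  have hks : IsSimpleGroup ↥(chi hne).ker := hker.symm ▸ hMs
  have hs : IsSimpleGroup ↥(MulAction.stabilizer ↥(sgn B).ker (none : Option (α ⊕ ↥B))) :=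
    (stabilizerEquiv hne).symm.isSimpleGroup
  have hc0 : Nat.card ↥(MulAction.stabilizer ↥(sgn B).ker (none : Option (α ⊕ ↥B))) = 443520 := by
    rw [← Nat.card_congr (stabilizerEquiv hne).toEquiv, hker, hMc]
  -- elements of the stabilizer from even automorphisms of the set system
  have hstab : ∀ σ : setSystemAut B, σ ∈ M → ∃ h : ↥(sgn B).ker,
      h ∈ MulAction.stabilizer ↥(sgn B).ker (none : Option (α ⊕ ↥B)) ∧
      ∀ v : Option (α ⊕ ↥B), h • v = PBGraph.autOfAut hne σ v := by
    intro σ hσ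
    refine ⟨⟨PBGraph.autOfAut hne σ, MonoidHom.mem_ker.mpr (hχM σ hσ)⟩,
      MulAction.mem_stabilizer_iff.mpr rfl, fun v => rfl⟩
  have hα3 : 3 ≤ Fintype.card α := by
    rw [hα]
    norm_num
  refine ⟨(sgn B).ker, ?_, hcH⟩
  apply Rank3.simple_of_rank3 (none : Option (α ⊕ ↥B)) hs hcH hc0
  intro Δ hnone hinv
  apply ncard_invariant hα hcB Δ hnone
  · intro a a' ha
    obtain ⟨σ, hσ, hσM, hσa⟩ := exists_even_pt Ψ h0 h1 hiff hα3 a a'
    obtain ⟨h, hh, hv⟩ := hstab ⟨σ, hσ⟩ ((hM ⟨σ, hσ⟩).mpr hσM)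
    have k1 := hinv h hh _ ha
    rw [hv] at k1
    have k2 : PBGraph.autOfAut hne ⟨σ, hσ⟩ (some (Sum.inl a)) = some (Sum.inl (σ a)) := rfl
    rw [k2, hσa] at k1
    exact k1
  · intro b b' hbΔ
    obtain ⟨σ, hσ, hσM, hσb⟩ := exists_even_blk Ψ h0 h1 hiff hB b.2 b'.2
    obtain ⟨h, hh, hv⟩ := hstab ⟨σ, hσ⟩ ((hM ⟨σ, hσ⟩).mpr hσM)
    have k1 := hinv h hh _ hbΔ
    rw [hv] at k1
    have k2 : PBGraph.autOfAut hne ⟨σ, hσ⟩ (some (Sum.inr b)) = some (Sum.inr b') := by
      show some (Sum.inr (PBGraph.blockEquiv σ (PBGraph.image_eq_of_mem_aut hσ) b)) = _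
      congr 2
      exact Subtype.ext hσb
    rw [k2] at k1
    exact k1

end Main

end HS

end Cfsg.Agent.Lib.Helper28
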