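import Mathlib
import Cfsg.Prelude.Def_GeometricClasses
import Cfsg.Agent.Lib.Helper28.Hes64Defs

/-! # S5781 FO-HB: group-theoretic facts on `R64 F` -/

set_option autoImplicit false

namespace Cfsg.Agent.Lib.Helper28.Hes64

open Cfsg Cfsg.Geo
open scoped MatrixGroups Matrix

variable {F : Type*} [Field F]

theorem neg_one_ne_one_of_two (h2 : (2 : F) ≠ 0) : (-1 : F) ≠ 1 := by
  intro h
  apply h2
  have : (2 : F) = 1 - (-1) := by ring
  rw [this, h, sub_self]

theorem sgF_eq_neg_one_of (j a : Fin 4) (h : sg j a = -1) : sgF F j a = -1 := by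
  unfold sgF; rw [h]; simp

/-- if `sgF j` is identically one then `j = 0` -/
theorem eq_zero_of_sgF_left (h2 : (2 : F) ≠ 0) (j : Fin 4) (h : ∀ a, sgF F j a = 1) : j = 0 := by
  by_contra hj
  obtain ⟨a, ha⟩ := exists_sg_neg j hj
  have h1 := h a
  rw [sgF_symm, sgF_eq_neg_one_of a j ha] at h1
  exact neg_one_ne_one_of_two h2 h1

theorem eq_zero_of_sgF_right (h2 : (2 : F) ≠ 0) (k : Fin 4) (h : ∀ j, sgF F j k = 1) : k = 0 := by
  apply eq_zero_of_sgF_left h2 k
  intro a
  rw [sgF_symm]; exact h a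

/-- FO-HB (a) -/
theorem hm_injective (h2 : (2 : F) ≠ 0) (c c' : F) (hc : c ≠ 0) (j j' k k' : Fin 4)
    (h : hm c j k = hm c' j' k') : c = c' ∧ j = j' ∧ k = k' := by
  have hk : k = k' := by
    have h1 := congrFun (congrFun h (xr 0 k)) 0
    rw [hm_apply, hm_apply, if_pos rfl] at h1
    by_contra hne
    rw [if_neg] at h1
    · exact (mul_ne_zero hc (sgF_ne_zero _ _)) h1
    · rw [zero_xr, zero_xr]; exact hne
  subst hk
  have hent : ∀ b, c * sgF F j b = c' * sgF F j' b := by
    intro b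
    have h1 := congrFun (congrFun h b) (xr b k)
    rw [hm_apply, hm_apply, if_pos (xr_xr_cancel b k).symm, if_pos (xr_xr_cancel b k).symm] at h1
    exact h1
  have hcc : c = c' := by
    have := hent 0
    rwa [sgF_zero_right, sgF_zero_right, mul_one, mul_one] at this
  subst hcc
  refine ⟨rfl, ?_, rfl⟩
  have hs : ∀ b, sgF F j b = sgF F j' b := fun b => mul_left_cancel₀ hc (hent b)
  have hx : xr j j' = 0 := by
    apply eq_zero_of_sgF_left h2
    intro a
    rw [← sgF_mul_left, hs a, sgF_sq]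
  exact (xr_eq_zero_iff j j').mp hx

theorem hg_injective (h2 : (2 : F) ≠ 0) (c c' : Fˣ) (j j' k k' : Fin 4)
    (h : (hg c j k : GL (Fin 4) F) = hg c' j' k') : c = c' ∧ j = j' ∧ k = k' := by
  have h1 := congrArg (fun g : GL (Fin 4) F => (g : Matrix (Fin 4) (Fin 4) F)) h
  simp only [hg_val] at h1
  obtain ⟨hc, hj, hk⟩ := hm_injective h2 _ _ c.ne_zero j j' k k' h1
  exact ⟨Units.ext hc, hj, hk⟩

/-- the parametrisation of `R64 F` -/
noncomputable def paramEquiv (h2 : (2 : F) ≠ 0) : (Fˣ × Fin 4 × Fin 4) ≃ R64 F :=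
  Equiv.ofBijective (fun x => (⟨hg x.1 x.2.1 x.2.2, hg_mem _ _ _⟩ : R64 F)) (by
    constructor
    · rintro ⟨c, j, k⟩ ⟨c', j', k'⟩ h
      have h1 : hg c j k = hg c' j' k' := congrArg Subtype.val h
      obtain ⟨rfl, rfl, rfl⟩ := hg_injective h2 c c' j j' k k' h1
      rfl
    · rintro ⟨g, c, j, k, rfl⟩
      exact ⟨⟨c, j, k⟩, rfl⟩)

section five
variable [Fintype F]

theorem two_ne_zero_of_card (hq : Fintype.card F = 5) : (2 : F) ≠ 0 := by
  intro h
  obtain ⟨p, hp⟩ := CharP.exists F
  obtain ⟨n, hpr, hn⟩ := FiniteField.card F p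
  rw [hq] at hn
  have h5 : (5 : ℕ).Prime := by norm_num
  have hdvd : p ∣ 5 := by rw [hn]; exact dvd_pow_self p n.ne_zero
  have hp5 : p = 5 := (Nat.prime_dvd_prime_iff_eq hpr h5).mp hdvd
  subst hp5
  have h2 : ((2 : ℕ) : F) = 0 := by exact_mod_cast h
  rw [CharP.cast_eq_zero_iff F 5] at h2
  omega

theorem card_units_five (hq : Fintype.card F = 5) : Nat.card Fˣ = 4 := by
  classical
  rw [Nat.card_eq_fintype_card, Fintype.card_units, hq]

theorem pow_four_eq_one (hq : Fintype.card F = 5) (c : F) (hc : c ≠ 0) : c ^ 4 = 1 := by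
  have := FiniteField.pow_card_sub_one_eq_one c hc
  rwa [hq] at this

theorem units_pow_four (hq : Fintype.card F = 5) (c : Fˣ) : c ^ 4 = 1 := by
  apply Units.ext
  rw [Units.val_pow_eq_pow_val, Units.val_one]
  exact pow_four_eq_one hq _ c.ne_zero

theorem sq_eq_one_or (hq : Fintype.card F = 5) (c : F) (hc : c ≠ 0) : c ^ 2 = 1 ∨ c ^ 2 = -1 := by
  have h4 := pow_four_eq_one hq c hc
  have : (c ^ 2 - 1) * (c ^ 2 + 1) = 0 := by ring_nf; rw [h4]; ring
  rcases mul_eq_zero.mp this with h | h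
  · left; exact sub_eq_zero.mp h
  · right; exact eq_neg_of_add_eq_zero_left h

/-- FO-HB (b) -/
theorem card_R64 (hq : Fintype.card F = 5) : Nat.card (R64 F) = 64 := by
  rw [← Nat.card_congr (paramEquiv (two_ne_zero_of_card hq)), Nat.card_prod, Nat.card_prod, card_units_five hq]
  simp

end five

theorem su_zero_right (j : Fin 4) : su F j 0 = 1 := by
  apply Units.ext; rw [su_val, sgF_zero_right, Units.val_one]

theorem su_zero_left (a : Fin 4) : su F 0 a = 1 := by
  apply Units.ext; rw [su_val, sgF_zero_left, Units.val_one]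

theorem su_eq_one_iff (h2 : (2 : F) ≠ 0) (j a : Fin 4) : su F j a = 1 ↔ sgF F j a = 1 := by
  rw [← su_val]
  constructor
  · intro h; rw [h, Units.val_one]
  · intro h; exact Units.ext (by rw [h, Units.val_one])

/-- the scalar elements are central -/
theorem hg_scalar_comm (c c' : Fˣ) (j k : Fin 4) : hg c 0 0 * hg c' j k = hg c' j k * hg c 0 0 := by
  rw [hg_mul, hg_mul, su_zero_right, su_zero_left, zero_xr, zero_xr, xr_zero, xr_zero, mul_comm c c']

/-- central elements are scalar -/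
theorem central_imp (h2 : (2 : F) ≠ 0) (c : Fˣ) (j k : Fin 4)
    (h : ∀ (c' : Fˣ) (j' k' : Fin 4), hg c j k * hg c' j' k' = hg c' j' k' * hg c j k) : j = 0 ∧ k = 0 := by
  constructor
  · apply eq_zero_of_sgF_left h2
    intro k'
    have h1 := h 1 0 k'
    rw [hg_mul, hg_mul] at h1
    obtain ⟨hc, -, -⟩ := hg_injective h2 _ _ _ _ _ _ h1
    rw [su_zero_left, mul_one, mul_one, one_mul] at hc
    have h3 : su F j k' = 1 := by
      have := mul_left_cancel (a := c) (b := 1) (c := su F j k') (by rw [mul_one]; exact hc)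
      exact this.symm
    exact (su_eq_one_iff h2 j k').mp h3
  · apply eq_zero_of_sgF_right h2
    intro j'
    have h1 := h 1 j' 0
    rw [hg_mul, hg_mul] at h1
    obtain ⟨hc, -, -⟩ := hg_injective h2 _ _ _ _ _ _ h1
    rw [su_zero_right, mul_one, mul_one, one_mul] at hc
    have h3 : su F j' k = 1 := by
      have := mul_left_cancel (a := c) (b := su F j' k) (c := 1) (by rw [mul_one]; exact hc)
      exact this
    exact (su_eq_one_iff h2 j' k).mp h3

/-- the centre of `R64 F` is the group of scalars -/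
noncomputable def centerEquiv (h2 : (2 : F) ≠ 0) : Fˣ ≃ Subgroup.center (R64 F) :=
  Equiv.ofBijective (fun c => (⟨⟨hg c 0 0, hg_mem _ _ _⟩, by
      rw [Subgroup.mem_center_iff]
      rintro ⟨g, c', j, k, rfl⟩
      apply Subtype.ext
      exact (hg_scalar_comm c c' j k).symm⟩ : Subgroup.center (R64 F))) (by
    constructor
    · intro c c' h
      have h1 : hg c 0 0 = hg c' 0 0 := congrArg (fun z : Subgroup.center (R64 F) => ((z : R64 F) : GL (Fin 4) F)) h
      exact (hg_injective h2 c c' 0 0 0 0 h1).1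
    · rintro ⟨⟨g, c, j, k, rfl⟩, hz⟩
      rw [Subgroup.mem_center_iff] at hz
      have hcomm : ∀ (c' : Fˣ) (j' k' : Fin 4), hg c j k * hg c' j' k' = hg c' j' k' * hg c j k := by
        intro c' j' k'
        have := hz ⟨hg c' j' k', hg_mem _ _ _⟩
        exact (congrArg Subtype.val this).symm
      obtain ⟨rfl, rfl⟩ := central_imp h2 c j k hcomm
      exact ⟨c, rfl⟩)

/-- FO-HB (c) -/
theorem card_center_R64 [Fintype F] (hq : Fintype.card F = 5) : Nat.card (Subgroup.center (R64 F)) = 4 := by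
  rw [← Nat.card_congr (centerEquiv (two_ne_zero_of_card hq)), card_units_five hq]

/-- squares are scalar -/
theorem hg_sq (c : Fˣ) (j k : Fin 4) : hg c j k * hg c j k = hg (c * c * su F j k) 0 0 := by
  rw [hg_mul, xr_self, xr_self]

theorem hg_pow_four [Fintype F] (hq : Fintype.card F = 5) (c : Fˣ) (j k : Fin 4) : (hg c j k) ^ 4 = 1 := by
  have h4 : (hg c j k) ^ 4 = (hg c j k * hg c j k) * (hg c j k * hg c j k) := by
    rw [pow_succ, pow_succ, pow_succ, pow_one, mul_assoc]
  rw [h4, hg_sq, hg_mul, xr_self, su_zero_right, mul_one, ← hg_one]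
  congr 1
  have hs : su F j k * su F j k = 1 := by
    apply Units.ext
    rw [Units.val_mul, su_val, sgF_sq, Units.val_one]
  calc c * c * su F j k * (c * c * su F j k) = c ^ 4 * (su F j k * su F j k) := by
        rw [pow_succ, pow_succ, pow_succ, pow_one]; 
        simp only [mul_comm, mul_left_comm, mul_assoc]
    _ = 1 := by rw [units_pow_four hq, hs, one_mul]

theorem R64_pow_four [Fintype F] (hq : Fintype.card F = 5) (x : R64 F) : x ^ 4 = 1 := by
  obtain ⟨g, c, j, k, rfl⟩ := x
  apply Subtype.ext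
  exact hg_pow_four hq c j k

/-- FO-HB (e) -/
theorem isPGroup_R64 [Fintype F] (hq : Fintype.card F = 5) : IsPGroup 2 (R64 F) := by
  intro x
  exact ⟨2, by norm_num; exact R64_pow_four hq x⟩

/-- FO-HB (d) -/
theorem exponent_R64 [Fintype F] (hq : Fintype.card F = 5) : Monoid.exponent (R64 F) = 4 := by
  have h2 := two_ne_zero_of_card hq
  apply Nat.dvd_antisymm
  · exact Monoid.exponent_dvd_of_forall_pow_eq_one (R64_pow_four hq)
  · -- the scalar `2` has order four
    let z : R64 F := ⟨hg (Units.mk0 2 h2) 0 0, hg_mem _ _ _⟩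
    have hz : orderOf z = 2 ^ 2 := by
      refine orderOf_eq_prime_pow ?_ ?_
      · intro h
        have h1 : (hg (Units.mk0 2 h2) 0 0 : GL (Fin 4) F) ^ 2 = 1 := by
          have := congrArg Subtype.val h
          simpa [z] using this
        rw [pow_two, hg_sq, ← hg_one] at h1
        obtain ⟨hc, -, -⟩ := hg_injective h2 _ _ _ _ _ _ h1
        rw [su_zero_right, mul_one] at hc
        have h3 := congrArg Units.val hc
        rw [Units.val_mul, Units.val_mk0, Units.val_one] at h3
        -- 2 * 2 = 1 means 3 = 0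
        have h5 : ((5 : ℕ) : F) = 0 := by
          have := Nat.cast_card_eq_zero F
          rwa [hq] at this
        have h30 : (3 : F) = 0 := by
          have : (3 : F) = 2 * 2 - 1 := by ring
          rw [this, h3, sub_self]
        have : (2 : F) = 0 := by
          have e : (2 : F) = ((5 : ℕ) : F) - 3 := by norm_num
          rw [e, h5, h30, sub_self]
        exact h2 this
      · have := R64_pow_four hq z
        simpa using this
    have hdvd := Monoid.order_dvd_exponent z
    rw [hz] at hdvd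
    exact Nat.dvd_trans (by norm_num) hdvd

/-- FO-HB (f): commutators are `±1` -/
theorem comm_R64 (x y : GL (Fin 4) F) (hx : x ∈ R64 F) (hy : y ∈ R64 F) :
    (x : Matrix (Fin 4) (Fin 4) F) * (y : Matrix (Fin 4) (Fin 4) F) = (y : Matrix (Fin 4) (Fin 4) F) * (x : Matrix (Fin 4) (Fin 4) F) ∨
    (x : Matrix (Fin 4) (Fin 4) F) * (y : Matrix (Fin 4) (Fin 4) F) = - ((y : Matrix (Fin 4) (Fin 4) F) * (x : Matrix (Fin 4) (Fin 4) F)) := by
  obtain ⟨c, j, k, rfl⟩ := hx
  obtain ⟨c', j', k', rfl⟩ := hy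
  rw [hg_val, hg_val, hm_mul, hm_mul, xr_comm j' j, xr_comm k' k]
  have hneg : ∀ (d : F) (a b : Fin 4), - hm d a b = hm (-d) a b := by
    intro d a b
    ext u v
    rw [Matrix.neg_apply, hm_apply, hm_apply]
    split_ifs <;> simp
  rcases sgF_eq_one_or (F := F) j' k with h1 | h1 <;> rcases sgF_eq_one_or (F := F) j k' with h2 | h2 <;>
    rw [h1, h2]
  · left; rw [mul_comm (c' : F) (c : F)]
  · right; rw [hneg]; congr 1; ring
  · right; rw [hneg]; congr 1; ring
  · left; rw [mul_comm (c' : F) (c : F)]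

/-- FO-HB (g) -/
theorem sq_R64 [Fintype F] (hq : Fintype.card F = 5) (x : GL (Fin 4) F) (hx : x ∈ R64 F) :
    (x : Matrix (Fin 4) (Fin 4) F) * (x : Matrix (Fin 4) (Fin 4) F) = 1 ∨
    (x : Matrix (Fin 4) (Fin 4) F) * (x : Matrix (Fin 4) (Fin 4) F) = -1 := by
  obtain ⟨c, j, k, rfl⟩ := hx
  rw [hg_val, hm_mul, xr_self, xr_self, hm_scalar]
  have hc2 := sq_eq_one_or hq (c : F) c.ne_zero
  have hcc : (c : F) * (c : F) = (c : F) ^ 2 := (pow_two _).symm
  rw [hcc]
  rcases hc2 with h | h <;> rcases sgF_eq_one_or (F := F) j k with h1 | h1 <;> rw [h, h1]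
  · left; simp
  · right; simp
  · right; simp
  · left; simp

end Cfsg.Agent.Lib.Helper28.Hes64
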