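import Mathlib
import Cfsg.Prelude.Def_GeometricClasses
import Cfsg.Agent.Lib.Helper13.DecompCoords
import Cfsg.Agent.Lib.Helper28.Hes64Defs
import Cfsg.Agent.Lib.Helper28.Hes64HB
import Cfsg.Agent.Lib.Helper12.S5781CYC
import Cfsg.Agent.Lib.Helper12.S5781TR
import Cfsg.Agent.Lib.Helper10.S5781HD
import Cfsg.Agent.H5.S5781HE

/-!
# S5781 (Q5): over the field with five elements the stabiliser in `SL_4` of a decomposition into four lines
normalises the class-6 group `R64 F` (transported to adapted coordinates)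

Pieces: FO-CYC, FO-TR (helper12; spare FO-CYC by helper22), FO-HD (helper10), FO-HE (helper5), FO-HB + assembly (helper28).
-/

set_option autoImplicit false
set_option linter.style.haveILetI false

namespace Cfsg.Agent.Lib.Helper28.Hes64Main

open Cfsg Cfsg.Geo
open Cfsg.Agent.Lib.Helper28.Hes64
open Cfsg.Agent.Lib.Helper12.S5781CYC Cfsg.Agent.Lib.Helper12.S5781TR
open Cfsg.Agent.Lib.Helper10.S5781HD (absIrred_R64)
open Cfsg.H5.S5781HE (mono_mem_normalizer)
open scoped MatrixGroups Matrix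

variable {F : Type*} [Field F]

/-! ### assembly (helper28) -/

theorem two_ne_zero_of_card_five [Fintype F] (hq : Fintype.card F = 5) : (2 : F) ≠ 0 := by
  intro h
  haveI : Fact (Nat.Prime 5) := ⟨by norm_num⟩
  haveI : CharP F 5 := by
    obtain ⟨p, hp⟩ := CharP.exists F
    haveI := hp
    obtain ⟨n, hpr, hn⟩ := FiniteField.card F p
    rw [hq] at hn
    have : p = 5 := by
      have h5 : (5 : ℕ).Prime := by norm_num
      have hdvd : p ∣ 5 := by
        rw [hn]; exact dvd_pow_self p n.ne_zero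
      exact ((Nat.prime_dvd_prime_iff_eq hpr h5).mp hdvd)
    subst this; exact hp
  have h2 : ((2 : ℕ) : F) = 0 := by exact_mod_cast h
  rw [CharP.cast_eq_zero_iff F 5] at h2
  omega

theorem charP_five [Fintype F] (hq : Fintype.card F = 5) : CharP F 5 := by
  obtain ⟨p, hp⟩ := CharP.exists F
  haveI := hp
  obtain ⟨n, hpr, hn⟩ := FiniteField.card F p
  rw [hq] at hn
  have : p = 5 := by
    have h5 : (5 : ℕ).Prime := by norm_num
    have hdvd : p ∣ 5 := by
      rw [hn]; exact dvd_pow_self p n.ne_zero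
    exact ((Nat.prime_dvd_prime_iff_eq hpr h5).mp hdvd)
  subst this; exact hp

/-- the class-6 data of `R64 F` over the field with five elements -/
theorem symplecticTypeData_R64 [Fintype F] (hq : Fintype.card F = 5) :
    IsLinearSymplecticTypeData 2 (R64 F) := by
  have h2 := two_ne_zero_of_card_five hq
  haveI := charP_five hq
  have habs := absIrred_R64 (F := F) h2
  have h5 : ((5 : ℕ) : F) = 0 := CharP.cast_eq_zero F 5
  have hi : (2 : F) ^ 2 = -1 := by
    have : (2 : F) ^ 2 + 1 = ((5 : ℕ) : F) := by norm_num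
    rw [h5] at this
    exact eq_neg_of_add_eq_zero_left this
  refine ⟨⟨Nat.prime_two, isPGroup_R64 hq, ?_, ?_⟩, habs, 5, 1, by norm_num, ?_, ?_⟩
  · intro A hA hAc
    refine isCyclic_of_le_center (R64 F) habs.2 A ?_
    refine characteristic_le_center (R64 F) h2 2 hi ?_ (fun x hx y hy => comm_R64 x y hx hy)
      (fun x hx => sq_R64 hq x hx) A hA hAc
    refine ⟨hg (Units.mk0 2 h2) 0 0, hg_mem _ _ _, ?_⟩
    rw [hg_val, hm_scalar, Units.val_mk0]
  · rw [exponent_R64 hq]; rfl
  · refine ⟨by norm_num, inferInstance, by rw [hq, pow_one], ?_, ?_⟩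
    · rw [card_center_R64 hq]; norm_num
    · intro d hd hd1; omega
  · right; left
    refine ⟨rfl, rfl, card_center_R64 hq, by simp, 2, ?_⟩
    rw [card_R64 hq]; norm_num

/-- adapted coordinates for a decomposition into lines, index type `Fin n` on both sides -/
theorem exists_coords_lines {n : ℕ} (D : Fin n → Submodule F (Fin n → F)) (hD : IsMDecomposition 1 D) :
    ∃ (e : Fin n ≃ Fin n) (P : GL (Fin n) F),
      ∀ i x, Cfsg.Agent.Lib.Helper13.TNM.TT e P x ∈ D i ↔
        x ∈ Cfsg.Agent.Lib.Helper13.TNM.blk (F := F) (id : Fin n → Fin n) i := by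
  obtain ⟨e, P, h⟩ := Cfsg.Agent.Lib.Helper13.TNM.exists_coords_of_decomposition D hD
  refine ⟨e.trans (Equiv.prodUnique (Fin n) (Fin 1)), P, fun i x => ?_⟩
  have h1 : Cfsg.Agent.Lib.Helper13.TNM.TT (e.trans (Equiv.prodUnique (Fin n) (Fin 1))) P x =
      Cfsg.Agent.Lib.Helper13.TNM.TT e P (x ∘ Prod.fst) := by
    unfold Cfsg.Agent.Lib.Helper13.TNM.TT
    rfl
  rw [h1, h, Cfsg.Agent.Lib.Helper13.TNM.mem_blk, Cfsg.Agent.Lib.Helper13.TNM.mem_blk]
  constructor
  · intro hx a ha
    exact hx (a, 0) ha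
  · intro hx a ha
    exact hx a.1 ha

/-- (Q5) over the field with five elements the stabiliser in `SL_4` of a decomposition into four lines
normalises a class-6 group -/
theorem decomp_four_lines_card_five [Fintype F] (hq : Fintype.card F = 5)
    (D : Fin 4 → Submodule F (Fin 4 → F)) (hD : IsMDecomposition 1 D) :
    ∃ R : Subgroup (GL (Fin 4) F), IsLinearSymplecticTypeData 2 R ∧
      decompositionStabilizer D ⊓ specialLinear (Fin 4) F ≤ subgroupNormalizer R := by
  obtain ⟨e, P, h⟩ := exists_coords_lines D hD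
  refine ⟨(R64 F).map (Cfsg.Agent.Lib.Helper13.TNM.psi e P),
    symplecticTypeData_map e P 2 (R64 F) (symplecticTypeData_R64 hq), ?_⟩
  rintro g ⟨hgD, hgS⟩
  obtain ⟨M, rfl⟩ := Cfsg.Agent.Lib.Helper13.TNM.psi_surjective e P g
  have hM := (Cfsg.Agent.Lib.Helper13.TNM.psi_mem_decStab_iff e P D id h M).mp hgD
  obtain ⟨π, h1, h2⟩ := Cfsg.Agent.Lib.Helper13.TNM.exists_perm_inv_of_mem_decStab id M hM
  apply psi_mem_subgroupNormalizer
  refine mono_mem_normalizer hq M π (fun a a' ha => h1 a a' ha) (fun a a' ha => h2 a a' ha) ?_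
  have hd : ((Cfsg.Agent.Lib.Helper13.TNM.psi e P M : GL (Fin 4) F) : Matrix (Fin 4) (Fin 4) F).det = 1 := by
    have h0 : Matrix.GeneralLinearGroup.det (Cfsg.Agent.Lib.Helper13.TNM.psi e P M) = 1 := hgS
    have h3 := congrArg Units.val h0
    simpa using h3
  rw [Cfsg.Agent.Lib.Helper13.TNM.psi_val] at hd
  rw [← hd]
  rw [Matrix.det_mul, Matrix.det_mul, Matrix.det_submatrix_equiv_self]
  have hP : (P : Matrix (Fin 4) (Fin 4) F).det * ((P⁻¹ : GL (Fin 4) F) : Matrix (Fin 4) (Fin 4) F).det = 1 := by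
    rw [← Matrix.det_mul, ← Units.val_mul, mul_inv_cancel, Units.val_one, Matrix.det_one]
  calc (M : Matrix (Fin 4) (Fin 4) F).det
      = (M : Matrix (Fin 4) (Fin 4) F).det * ((P : Matrix (Fin 4) (Fin 4) F).det * ((P⁻¹ : GL (Fin 4) F) : Matrix (Fin 4) (Fin 4) F).det) := by rw [hP, mul_one]
    _ = _ := by ring

end Cfsg.Agent.Lib.Helper28.Hes64Main
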