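import Mathlib
import Cfsg.Prelude.Def_GeometricClasses
import Cfsg.Agent.H5.HubCorRed
import Cfsg.Agent.Lib.Helper17.HubCorArith89

/-!
# S5781: the `n = 4` corollary of the hub S5630, in hypothesis form

`final4` derives the conclusion of S5781 from: the hub statement at `n = 4`, the power-of-`r` fact for class 6,
and the two small-field containments (Q3) [two planes, `q = 3`] and (Q5) [four lines, `q = 5`].
-/

set_option autoImplicit false

namespace Cfsg.Agent.Lib.Helper28.HubCor4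

open Cfsg Cfsg.Geo
open Cfsg.H5.HubCor Cfsg.Agent.Lib.Helper29.AschCor Cfsg.Agent.Lib.Helper9.HubCor Cfsg.Agent.Lib.Helper24.HubCor
open Cfsg.Agent.Lib.Helper17.HubCorArith89 Cfsg.Agent.Lib.Helper17.S5775PRSIM
open scoped MatrixGroups Matrix

variable {F : Type*} [Field F] [Fintype F]

theorem card_ne_six : Fintype.card F ≠ 6 := by
  intro h
  obtain ⟨p, -, n, hp, hn⟩ := FiniteField.card' F
  rw [h] at hn
  have h2 : 2 ∣ p ^ (n : ℕ) := by rw [← hn]; norm_num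
  have h3 : 3 ∣ p ^ (n : ℕ) := by rw [← hn]; norm_num
  have e2 := (Nat.prime_dvd_prime_iff_eq Nat.prime_two hp).mp (Nat.Prime.dvd_of_dvd_pow Nat.prime_two h2)
  have e3 := (Nat.prime_dvd_prime_iff_eq Nat.prime_three hp).mp (Nat.Prime.dvd_of_dvd_pow Nat.prime_three h3)
  omega

theorem tm_eq_four {t m : ℕ} (h : t * m = 4) (ht : 2 ≤ t) (hm : 0 < m) :
    (t = 4 ∧ m = 1) ∨ (t = 2 ∧ m = 2) := by
  have ht4 : t ≤ 4 := by nlinarith
  interval_cases t <;> omega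

theorem prime_dvd_four {r : ℕ} (hr : r.Prime) (h : r ∣ 4) : r = 2 := by
  have h4 : (4 : ℕ) = 2 ^ 2 := by norm_num
  rw [h4] at h
  exact (Nat.prime_dvd_prime_iff_eq hr Nat.prime_two).mp (hr.dvd_of_dvd_pow h)

theorem four_eq_pow_prime {r k : ℕ} (hr : r.Prime) (h : 4 = r ^ k) : r = 2 := by
  have hk : k ≠ 0 := by
    rintro rfl
    norm_num at h
  exact prime_dvd_four hr (h ▸ dvd_pow_self r hk)

theorem mul_ne_four {n1 n2 : ℕ} (h1 : 2 ≤ n1) (h12 : n1 < n2) (h : n1 * n2 = 4) : False := by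
  have : n1 ≤ 4 := by nlinarith
  interval_cases n1 <;> omega

theorem pow_ne_four {m t : ℕ} (hm : 3 ≤ m) (ht : 2 ≤ t) (h : m ^ t = 4) : False := by
  have h1 : m ^ 2 ≤ m ^ t := Nat.pow_le_pow_right (by omega) ht
  have h2 : 3 ^ 2 ≤ m ^ 2 := Nat.pow_le_pow_left hm 2
  omega

theorem final4
    (hC6 : ∀ (r : ℕ) (R : Subgroup (GL (Fin 4) F)), IsLinearSymplecticTypeData r R → ∃ k : ℕ, 4 = r ^ k)
    (hQ3 : Fintype.card F = 3 → ∀ D : Fin 2 → Submodule F (Fin 4 → F), IsMDecomposition 2 D →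
      ∃ f : (Fin 4 → F) → (Fin 4 → F) → F, IsSymplecticForm f ∧
        decompositionStabilizer D ⊓ specialLinear (Fin 4) F ≤ similarityGroup f)
    (hQ5 : Fintype.card F = 5 → ∀ D : Fin 4 → Submodule F (Fin 4 → F), IsMDecomposition 1 D →
      ∃ R : Subgroup (GL (Fin 4) F), IsLinearSymplecticTypeData 2 R ∧
        decompositionStabilizer D ⊓ specialLinear (Fin 4) F ≤ subgroupNormalizer R)
    (hub : ∀ H : Subgroup (GL (Fin 4) F), H ≤ specialLinear (Fin 4) F →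
      H ⊔ (scalars (Fin 4) F ⊓ specialLinear (Fin 4) F) ≠ specialLinear (Fin 4) F →
      (∃ M : Subgroup (GL (Fin 4) F), InLinearClass 4 F M ∧ H ≤ M) ∨ InLinearResidualClass H)
    (H : Subgroup (Matrix.GeneralLinearGroup (Fin 4) F)) (hH : Cfsg.Geo.IsMaximalIn (Cfsg.Geo.specialLinear (Fin 4) F) H) :
    (∃ W : Submodule F (Fin 4 → F), W ≠ ⊥ ∧ W ≠ ⊤ ∧ H = Cfsg.Geo.subspaceStabilizer W ⊓ Cfsg.Geo.specialLinear (Fin 4) F) ∨
    (7 ≤ Fintype.card F ∧ ∃ D : Fin 4 → Submodule F (Fin 4 → F), Cfsg.Geo.IsMDecomposition 1 D ∧ H = Cfsg.Geo.decompositionStabilizer D ⊓ Cfsg.Geo.specialLinear (Fin 4) F) ∨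
    (4 ≤ Fintype.card F ∧ ∃ D : Fin 2 → Submodule F (Fin 4 → F), Cfsg.Geo.IsMDecomposition 2 D ∧ H = Cfsg.Geo.decompositionStabilizer D ⊓ Cfsg.Geo.specialLinear (Fin 4) F) ∨
    (∃ K : Subalgebra F (Matrix (Fin 4) (Fin 4) F), Cfsg.Geo.IsFieldSubalgebra 2 K ∧ H = Cfsg.Geo.subalgebraNormalizer K ⊓ Cfsg.Geo.specialLinear (Fin 4) F) ∨
    (∃ (F₀ : Subfield F) (r : ℕ) (P : Matrix.GeneralLinearGroup (Fin 4) F), r.Prime ∧ Fintype.card F = Nat.card F₀ ^ r ∧ H = Cfsg.Geo.subfieldSubgroup F₀ P ⊓ Cfsg.Geo.specialLinear (Fin 4) F) ∨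
    (∃ (p : ℕ) (R : Subgroup (Matrix.GeneralLinearGroup (Fin 4) F)), p.Prime ∧ Fintype.card F = p ∧ p % 4 = 1 ∧ Cfsg.Geo.IsLinearSymplecticTypeData 2 R ∧ H = Cfsg.Geo.subgroupNormalizer R ⊓ Cfsg.Geo.specialLinear (Fin 4) F) ∨
    (Odd (Fintype.card F) ∧ ∃ Q : (Fin 4 → F) → F, Cfsg.Geo.IsNondegenerateQuadraticForm Q ∧ H = Cfsg.Geo.quadSimilarityGroup Q ⊓ Cfsg.Geo.specialLinear (Fin 4) F) ∨
    (∃ f : (Fin 4 → F) → (Fin 4 → F) → F, Cfsg.Geo.IsSymplecticForm f ∧ H = Cfsg.Geo.similarityGroup f ⊓ Cfsg.Geo.specialLinear (Fin 4) F) ∨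
    (∃ (σ : F ≃+* F) (f : (Fin 4 → F) → (Fin 4 → F) → F), Cfsg.Geo.IsUnitaryForm σ f ∧ H = Cfsg.Geo.similarityGroup f ⊓ Cfsg.Geo.specialLinear (Fin 4) F) ∨
    Cfsg.Geo.InLinearResidualClass H := by
  rcases reduceAll (by norm_num) hub H hH with h | ⟨t, m, D, hD, hm1, hm2, hE⟩ |
      ⟨r, K, hr, hK, hE⟩ | ⟨n₁, n₂, e, P, h1, h12, h2, hE⟩ | h | ⟨r, R, hR, hE⟩ |
      ⟨m, t, e, P, hm, ht, hE⟩ | h | ⟨-, h⟩ | h | h
  · exact Or.inl h
  · -- class 2
    have htm := mul_eq_of_isMDecomposition D hD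
    rcases tm_eq_four htm hD.two_le hD.pos with ⟨rfl, rfl⟩ | ⟨rfl, rfl⟩
    · have h5 := hm1 rfl
      by_cases h7 : 7 ≤ Fintype.card F
      · exact Or.inr (Or.inl ⟨h7, D, hD, hE⟩)
      · have hq : Fintype.card F = 5 := by
          have := card_ne_six (F := F)
          omega
        obtain ⟨R, hR, hle⟩ := hQ5 hq D hD
        have hHR : H ≤ subgroupNormalizer R := by rw [hE]; exact hle
        refine Or.inr (Or.inr (Or.inr (Or.inr (Or.inr (Or.inl ⟨5, R, by norm_num, hq, by norm_num, hR,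
          eq_of_le_member H _ hH hHR (not_sl_le_sympNormalizer (by norm_num) 2 R hR)⟩)))))
    · have h3 := hm2 rfl
      by_cases h4 : 4 ≤ Fintype.card F
      · exact Or.inr (Or.inr (Or.inl ⟨h4, D, hD, hE⟩))
      · have hq : Fintype.card F = 3 := by omega
        obtain ⟨f, hf, hle⟩ := hQ3 hq D hD
        have hHf : H ≤ similarityGroup f := by rw [hE]; exact hle
        exact Or.inr (Or.inr (Or.inr (Or.inr (Or.inr (Or.inr (Or.inr (Or.inl ⟨f, hf,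
          eq_of_le_member H _ hH hHf (not_sl_le_similarityGroup_symplectic (by norm_num) f hf)⟩)))))))
  · -- class 3
    have hd := dvd_of_isFieldSubalgebra K hK (by norm_num)
    obtain rfl := prime_dvd_four hr hd
    exact Or.inr (Or.inr (Or.inr (Or.inl ⟨K, hK, hE⟩)))
  · -- class 4: impossible
    exact (mul_ne_four h1 h12 (n_eq_mul e).symm).elim
  · exact Or.inr (Or.inr (Or.inr (Or.inr (Or.inl h))))
  · -- class 6
    obtain ⟨k, hk⟩ := hC6 r R hR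
    obtain rfl := four_eq_pow_prime hR.symplecticType.prime hk
    obtain ⟨p, hp, hq, hp4⟩ := symp_two_general (by simp) R hR
    exact Or.inr (Or.inr (Or.inr (Or.inr (Or.inr (Or.inl ⟨p, R, hp, hq, hp4, hR, hE⟩)))))
  · -- class 7: impossible
    exact (pow_ne_four hm ht (n_eq_pow e).symm).elim
  · exact Or.inr (Or.inr (Or.inr (Or.inr (Or.inr (Or.inr (Or.inl h))))))
  · exact Or.inr (Or.inr (Or.inr (Or.inr (Or.inr (Or.inr (Or.inr (Or.inl h)))))))
  · exact Or.inr (Or.inr (Or.inr (Or.inr (Or.inr (Or.inr (Or.inr (Or.inr (Or.inl h))))))))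
  · exact Or.inr (Or.inr (Or.inr (Or.inr (Or.inr (Or.inr (Or.inr (Or.inr (Or.inr h))))))))

end Cfsg.Agent.Lib.Helper28.HubCor4
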