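import Cfsg.Agent.Lib.Helper28.CodeIrred
import Cfsg.Agent.Lib.Helper28.CosetFix

set_option autoImplicit false

/-!
The `M24`-invariant subspaces of the space of binary words of length 24.
-/

namespace Cfsg.Agent.Lib.Helper28

open Cfsg MulAction
open scoped Pointwise

theorem add_self_zmod2' (x : GolayPt → ZMod 2) : x + x = 0 := by
  ext p
  exact CharTwo.add_self_eq_zero (x p)

theorem bsupp_one_add (c : GolayPt → ZMod 2) : bsupp (1 + c) = (bsupp c)ᶜ := by
  rw [← bsupp_bind (bsupp c)ᶜ, bind_compl, bind_bsupp]

theorem sum_eq_card_bsupp (w : GolayPt → ZMod 2) : ∑ p, w p = ((bsupp w).card : ZMod 2) := by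
  have h1 : ∀ i, w i = if i ∈ bsupp w then 1 else 0 := by
    intro i
    simp only [mem_bsupp]
    generalize w i = x
    revert x; decide
  rw [Finset.sum_congr rfl (fun i _ => h1 i), Finset.sum_ite_mem, Finset.univ_inter,
    Finset.sum_const, nsmul_eq_mul, mul_one]

theorem fix_of_map_toList {σ : Equiv.Perm GolayPt} {A : Finset GolayPt}
    (h : A.toList.map σ = A.toList) : ∀ x ∈ A, σ x = x := by
  intro x hx
  exact (List.map_inj_left (f := σ) (g := id)).mp (by rw [h, List.map_id]) x
    (Finset.mem_toList.mpr hx)

/-- a non-zero word of weight at most five and a suitable image of it differ by a word of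
weight two -/
theorem exists_pair_word {v : GolayPt → ZMod 2} (h0 : v ≠ 0) (h5 : hammingNorm v ≤ 5) :
    ∃ σ ∈ M24, ∃ a b : GolayPt, a ≠ b ∧ permWord σ v + v = bind {a, b} := by
  have hne : (bsupp v).Nonempty := by
    rw [Finset.nonempty_iff_ne_empty]
    intro he
    apply h0
    rw [← bind_bsupp v, he, bind_empty]
  obtain ⟨a, ha⟩ := hne
  have hcard : (bsupp v).card ≤ 5 := h5
  obtain ⟨b, hb⟩ : ∃ b, b ∉ bsupp v := by
    by_contra hall
    push Not at hall
    have : bsupp v = Finset.univ := Finset.eq_univ_iff_forall.mpr hall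
    rw [this, Finset.card_univ, fintype_card_golayPt] at hcard
    omega
  have hab : a ≠ b := fun h => hb (h ▸ ha)
  obtain ⟨t, hat, hst⟩ : ∃ t : Finset GolayPt, a ∉ t ∧ bsupp v = insert a t :=
    ⟨(bsupp v).erase a, Finset.notMem_erase a _, (Finset.insert_erase ha).symm⟩
  have hbt : b ∉ t := fun h => hb (by rw [hst]; exact Finset.mem_insert_of_mem h)
  have htc : t.card + 1 = (bsupp v).card := by rw [hst, Finset.card_insert_of_notMem hat]
  obtain ⟨σ, hσ, hmap⟩ := M24_exists_map_list (a :: t.toList) (b :: t.toList)
    (List.nodup_cons.mpr ⟨by rw [Finset.mem_toList]; exact hat, Finset.nodup_toList _⟩)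
    (List.nodup_cons.mpr ⟨by rw [Finset.mem_toList]; exact hbt, Finset.nodup_toList _⟩)
    (by simp) (by simp only [List.length_cons, Finset.length_toList]; omega)
  rw [List.map_cons, List.cons.injEq] at hmap
  obtain ⟨hσa, hσt⟩ := hmap
  have hfix := fix_of_map_toList hσt
  have hσs : σ • bsupp v = insert b t := by
    rw [hst, Finset.smul_finset_insert, smul_eq_self_of_fix hfix, Equiv.Perm.smul_def, hσa]
  refine ⟨σ, hσ, a, b, hab, ?_⟩
  have e1 : permWord σ v + v = bind (symmDiff (σ • bsupp v) (bsupp v)) := by
    rw [bind_symmDiff, ← permWord_bind, bind_bsupp]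
  rw [e1, hσs, hst]
  congr 1
  ext x
  simp only [Finset.mem_symmDiff, Finset.mem_insert, Finset.mem_singleton]
  have h1 : x = a → x ∉ t := by rintro rfl; exact hat
  have h2 : x = b → x ∉ t := by rintro rfl; exact hbt
  have h3 : x = a → x ≠ b := by rintro rfl; exact hab
  tauto

/-- some element of `M24` fixing four given points moves a set of between 8 and 16 points to
neither itself nor its complement -/
theorem exists_fix_move {t A : Finset GolayPt} (ht8 : 8 ≤ t.card) (ht16 : t.card ≤ 16)
    (hA : A.card ≤ 4) :
    ∃ σ ∈ M24, (∀ p ∈ A, σ p = p) ∧ σ • t ≠ t ∧ σ • t ≠ tᶜ := by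
  by_contra hcon
  push Not at hcon
  obtain ⟨A', hAA', hA'4⟩ := Finset.exists_superset_card_eq hA
    (by rw [fintype_card_golayPt]; norm_num)
  have hcon' : ∀ σ ∈ M24, (∀ p ∈ A', σ p = p) → σ • t = t ∨ σ • t = tᶜ := by
    intro σ hσ hfix
    by_cases h : σ • t = t
    · left; exact h
    · right; exact hcon σ hσ (fun p hp => hfix p (hAA' hp)) h
  obtain ⟨p, hp⟩ : (t \ A').Nonempty := by
    rw [← Finset.card_pos]
    have := Finset.le_card_sdiff A' t
    omega
  rw [Finset.mem_sdiff] at hp
  have hF5 : (insert p A').card = 5 := by rw [Finset.card_insert_of_notMem hp.2, hA'4]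
  obtain ⟨O, hO, hFO⟩ := exists_octad_of_card_five hF5
  have hpO : p ∈ O := hFO (Finset.mem_insert_self _ _)
  have hA'O : A' ⊆ O := fun x hx => hFO (Finset.mem_insert_of_mem hx)
  have hker : ∀ k ∈ octadKer O, k • t = t := by
    intro k hk
    rw [mem_octadKer] at hk
    rcases hcon' k hk.1 (fun x hx => hk.2 x (hA'O hx)) with h | h
    · exact h
    · exfalso
      have : p ∈ k • t := by
        have h' := Finset.smul_mem_smul_finset (a := k) hp.1
        rwa [Equiv.Perm.smul_def, hk.2 p hpO] at h'
      rw [h, Finset.mem_compl] at this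
      exact this hp.1
  by_cases hex : ∃ q, q ∉ O ∧ q ∈ t
  · obtain ⟨q, hqO, hqt⟩ := hex
    have hsub : insert p Oᶜ ⊆ t := by
      intro x hx
      rw [Finset.mem_insert] at hx
      rcases hx with rfl | hx
      · exact hp.1
      · rw [Finset.mem_compl] at hx
        obtain ⟨k, hk, hkq⟩ := octadKer_transitive hO hqO hx
        have h' := Finset.smul_mem_smul_finset (a := k) hqt
        rwa [Equiv.Perm.smul_def, hkq, hker k hk] at h'
    have h17 : (insert p Oᶜ).card = 17 := by
      rw [Finset.card_insert_of_notMem (by rw [Finset.mem_compl, not_not]; exact hpO),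
        Finset.card_compl, octad_card hO, fintype_card_golayPt]
    have := Finset.card_le_card hsub
    omega
  · push Not at hex
    have htO : t ⊆ O := by
      intro x hx
      by_contra hxO
      exact hex x hxO hx
    have hteq : t = O := Finset.eq_of_subset_of_card_le htO (by rw [octad_card hO]; exact ht8)
    obtain ⟨q, hq⟩ : ∃ q, q ∉ t := by
      by_contra hall
      push Not at hall
      have : t = Finset.univ := Finset.eq_univ_iff_forall.mpr hall
      rw [this, Finset.card_univ, fintype_card_golayPt] at ht16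
      omega
    have hA't : A' ⊆ t := by rw [hteq]; exact hA'O
    have hqA' : q ∉ A' := fun h => hq (hA't h)
    obtain ⟨σ, hσ, hmap⟩ := M24_exists_map_list (p :: A'.toList) (q :: A'.toList)
      (List.nodup_cons.mpr ⟨by rw [Finset.mem_toList]; exact hp.2, Finset.nodup_toList A'⟩)
      (List.nodup_cons.mpr ⟨by rw [Finset.mem_toList]; exact hqA', Finset.nodup_toList A'⟩)
      (by simp) (by simp only [List.length_cons, Finset.length_toList]; omega)
    rw [List.map_cons, List.cons.injEq] at hmap
    obtain ⟨hσp, hσA⟩ := hmap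
    have hfix := fix_of_map_toList hσA
    have hqσ : q ∈ σ • t := by
      have h' := Finset.smul_mem_smul_finset (a := σ) hp.1
      rwa [Equiv.Perm.smul_def, hσp] at h'
    rcases hcon' σ hσ hfix with h | h
    · rw [h] at hqσ; exact hq hqσ
    · obtain ⟨a, ha⟩ : A'.Nonempty := Finset.card_pos.mp (by omega)
      have hat : a ∈ t := hA't ha
      have haσ : a ∈ σ • t := by
        have h' := Finset.smul_mem_smul_finset (a := σ) hat
        rwa [Equiv.Perm.smul_def, hfix a ha] at h'
      rw [h, Finset.mem_compl] at haσ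
      exact haσ hat

section

variable {W : Submodule (ZMod 2) (GolayPt → ZMod 2)}

/-- an invariant subspace not inside the code contains a word of weight two -/
theorem exists_pair_mem (hinv : ∀ σ ∈ M24, ∀ w ∈ W, permWord σ w ∈ W) {w : GolayPt → ZMod 2}
    (hwW : w ∈ W) (hwC : w ∉ golayCode) : ∃ a b : GolayPt, a ≠ b ∧ bind {a, b} ∈ W := by
  have hC := golayCode_isGolayLike
  obtain ⟨v, hv⟩ : (lightCoset golayCode w).Nonempty := by
    rcases hC.lightCoset_structure w with ⟨u0, hL, _⟩ | ⟨h6, _, _⟩
    · rw [hL]; exact Finset.singleton_nonempty _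
    · rw [← Finset.card_pos, h6]; norm_num
  rw [mem_lightCoset] at hv
  obtain ⟨hv4, hvw⟩ := hv
  have hwvc : w = v + (v - w) := by
    rw [sub_eq_add_zmod2, ← add_assoc, add_self_zmod2', zero_add]
  have hv0 : v ≠ 0 := by
    intro h0
    apply hwC
    rw [hwvc, h0, zero_add, zero_sub]
    rw [h0, zero_sub] at hvw
    exact hvw
  have key : ∀ σ ∈ M24, permWord σ v + v ∈ W := by
    by_cases hc0 : v - w = 0
    · intro σ hσ
      have hvW : v ∈ W := by rw [hwvc, hc0, add_zero] at hwW; exact hwW
      exact W.add_mem (hinv σ hσ v hvW) hvW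
    by_cases hc1 : v - w = 1
    · intro σ hσ
      have hw1 : w = v + 1 := by rw [hwvc, hc1]
      have : permWord σ v + v = permWord σ w + w := by
        rw [hw1, permWord_add, permWord_one_word]
        have h11 := add_self_zmod2' (1 : GolayPt → ZMod 2)
        calc permWord σ v + v = permWord σ v + v + ((1 : GolayPt → ZMod 2) + 1) := by
              rw [h11, add_zero]
          _ = permWord σ v + 1 + (v + 1) := by abel
      rw [this]
      exact W.add_mem (hinv σ hσ w hwW) hwW
    · have hcard : 8 ≤ (bsupp (v - w)).card ∧ (bsupp (v - w)).card ≤ 16 := by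
        rcases golay_weight hvw with h | h | h | h | h
        · exact absurd (hammingNorm_eq_zero.mp h) hc0
        · rw [hammingNorm_eq_card_bsupp] at h; omega
        · rw [hammingNorm_eq_card_bsupp] at h; omega
        · rw [hammingNorm_eq_card_bsupp] at h; omega
        · exfalso
          apply hc1
          have hs : bsupp (v - w) = Finset.univ := by
            apply Finset.eq_univ_of_card
            rw [← hammingNorm_eq_card_bsupp, h, fintype_card_golayPt]
          rw [← bind_bsupp (v - w), hs, bind_univ]
      obtain ⟨τ, hτ, hτfix, hτ1, hτ2⟩ := exists_fix_move hcard.1 hcard.2 (A := bsupp v) hv4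
      have hτv : permWord τ v = v := permWord_eq_self_of_smul (smul_eq_self_of_fix hτfix)
      have hc' : permWord τ w + w = permWord τ (v - w) + (v - w) := by
        conv_lhs => rw [hwvc, permWord_add, hτv]
        calc v + permWord τ (v - w) + (v + (v - w))
            = (v + v) + (permWord τ (v - w) + (v - w)) := by abel
          _ = permWord τ (v - w) + (v - w) := by rw [add_self_zmod2', zero_add]
      have hc'W : permWord τ (v - w) + (v - w) ∈ W := by
        rw [← hc']; exact W.add_mem (hinv τ hτ w hwW) hwW
      have hc'C : permWord τ (v - w) + (v - w) ∈ golayCode :=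
        golayCode.add_mem (permWord_mem hτ hvw) hvw
      have hcan : ∀ x y : GolayPt → ZMod 2, x = (x + y) + y := by
        intro x y
        rw [add_assoc, add_self_zmod2', add_zero]
      have hne0 : permWord τ (v - w) + (v - w) ≠ 0 := by
        intro h
        apply hτ1
        rw [← permWord_eq_self_iff]
        rw [hcan (permWord τ (v - w)) (v - w), h, zero_add]
      have hne1 : permWord τ (v - w) + (v - w) ≠ 1 := by
        intro h
        apply hτ2
        have h1 : permWord τ (v - w) = 1 + (v - w) := by
          rw [hcan (permWord τ (v - w)) (v - w), h]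
        rw [← bsupp_permWord, h1, bsupp_one_add]
      have hCW := code_le_of_mem hinv hc'W hc'C hne0 hne1
      have hvW : v ∈ W := by
        have : v = w + (v - w) := by abel
        rw [this]; exact W.add_mem hwW (hCW hvw)
      intro σ hσ
      exact W.add_mem (hinv σ hσ v hvW) hvW
  obtain ⟨σ, hσ, a, b, hab, heq⟩ := exists_pair_word hv0 (by omega : hammingNorm v ≤ 5)
  exact ⟨a, b, hab, heq ▸ key σ hσ⟩

theorem pair_mem_all (hinv : ∀ σ ∈ M24, ∀ w ∈ W, permWord σ w ∈ W) {a b : GolayPt} (hab : a ≠ b)
    (h : bind {a, b} ∈ W) {a' b' : GolayPt} (hab' : a' ≠ b') : bind {a', b'} ∈ W := by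
  obtain ⟨σ, hσ, hmap⟩ := M24_exists_map_list [a, b] [a', b'] (nodup_pair' hab)
    (nodup_pair' hab') rfl (by norm_num)
  simp only [List.map_cons, List.map_nil, List.cons.injEq, and_true] at hmap
  have := hinv σ hσ _ h
  rw [permWord_bind, Finset.smul_finset_insert, Finset.smul_finset_singleton,
    Equiv.Perm.smul_def, Equiv.Perm.smul_def, hmap.1, hmap.2] at this
  exact this

/-- an invariant subspace containing a word of weight two contains all even words -/
theorem even_mem (hinv : ∀ σ ∈ M24, ∀ w ∈ W, permWord σ w ∈ W)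
    (hpair : ∃ a b : GolayPt, a ≠ b ∧ bind {a, b} ∈ W) :
    ∀ u : GolayPt → ZMod 2, ∑ p, u p = 0 → u ∈ W := by
  obtain ⟨a₀, b₀, hab₀, h₀⟩ := hpair
  have hall : ∀ a b : GolayPt, a ≠ b → bind {a, b} ∈ W :=
    fun a b hab => pair_mem_all hinv hab₀ h₀ hab
  have main : ∀ n : ℕ, ∀ u : GolayPt → ZMod 2, (bsupp u).card = n → Even n → u ∈ W := by
    intro n
    induction n using Nat.strong_induction_on with
    | _ n ih =>
      intro u hn hev
      by_cases h0 : n = 0
      · have : bsupp u = ∅ := Finset.card_eq_zero.mp (hn.trans h0)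
        rw [← bind_bsupp u, this, bind_empty]
        exact W.zero_mem
      · have h2 : 2 ≤ n := by
          rcases hev with ⟨k, hk⟩
          omega
        obtain ⟨a, ha⟩ : (bsupp u).Nonempty := Finset.card_pos.mp (by omega)
        obtain ⟨b, hb⟩ : ((bsupp u).erase a).Nonempty := by
          rw [← Finset.card_pos, Finset.card_erase_of_mem ha]
          omega
        rw [Finset.mem_erase] at hb
        have hsub : ({a, b} : Finset GolayPt) ⊆ bsupp u := by
          intro x hx
          rw [Finset.mem_insert, Finset.mem_singleton] at hx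
          rcases hx with rfl | rfl
          · exact ha
          · exact hb.2
        have hcard : (bsupp (u + bind {a, b})).card = n - 2 := by
          rw [bsupp_add, bsupp_bind]
          have := card_symmDiff_add (bsupp u) {a, b}
          rw [Finset.inter_eq_right.mpr hsub, Finset.card_pair hb.1.symm, hn] at this
          omega
        have hu' := ih (n - 2) (by omega) (u + bind {a, b}) hcard (by
          rcases hev with ⟨k, hk⟩
          exact ⟨k - 1, by omega⟩)
        have := W.add_mem hu' (hall a b hb.1.symm)
        rwa [add_assoc, add_self_zmod2', add_zero] at this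
  intro u hu
  apply main _ u rfl
  rw [sum_eq_card_bsupp] at hu
  exact ZMod.natCast_eq_zero_iff_even.mp hu

/-- the invariant subspaces of the space of all binary words -/
theorem invariant_subspaces (W : Submodule (ZMod 2) (GolayPt → ZMod 2))
    (hinv : ∀ σ ∈ M24, ∀ w ∈ W, permWord σ w ∈ W) :
    W = ⊥ ∨ W = Submodule.span (ZMod 2) {(1 : GolayPt → ZMod 2)} ∨ W = golayCode ∨
      (W : Set (GolayPt → ZMod 2)) = {w | ∑ p, w p = 0} ∨ W = ⊤ := by
  by_cases hWC : W ≤ golayCode
  · rcases invariant_le_code hWC hinv with h | h | h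
    · exact Or.inl h
    · exact Or.inr (Or.inl h)
    · exact Or.inr (Or.inr (Or.inl h))
  · right; right; right
    rw [SetLike.not_le_iff_exists] at hWC
    obtain ⟨w, hwW, hwC⟩ := hWC
    have hpair := exists_pair_mem hinv hwW hwC
    have hE := even_mem hinv hpair
    by_cases hsub : ∀ u ∈ W, ∑ p, u p = 0
    · left
      ext u
      exact ⟨fun hu => hsub u hu, fun hu => hE u hu⟩
    · right
      push Not at hsub
      obtain ⟨w₀, hw₀W, hw₀⟩ := hsub
      rw [eq_top_iff]
      intro u _
      by_cases hu : ∑ p, u p = 0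
      · exact hE u hu
      · have h1 : ∑ p, (u + w₀) p = 0 := by
          simp only [Pi.add_apply, Finset.sum_add_distrib]
          have hu1 : ∑ p, u p = 1 := (zmod2_ne_zero_iff _).mp hu
          have hw1 : ∑ p, w₀ p = 1 := (zmod2_ne_zero_iff _).mp hw₀
          rw [hu1, hw1]
          decide
        have h2 := W.add_mem (hE _ h1) hw₀W
        rwa [add_assoc, add_self_zmod2', add_zero] at h2

end

end Cfsg.Agent.Lib.Helper28
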