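import Mathlib

/-!
# A simplicity criterion for groups of order 175560

A group of order `175560 = 2³·3·5·7·11·19` with trivial centre whose generators are, for each
`r ∈ {5, 7, 11, 19}`, products of two elements `p`, `q` with `p ^ r = q ^ r = 1`, is simple.
-/

set_option autoImplicit false

namespace Cfsg.Agent.Lib.Helper28.PGenSimple

/-- if `r` does not divide the index of the normal subgroup `N`, then `N` contains all `x` with
`x ^ r = 1` -/
theorem mem_of_pow_eq_one {G : Type*} [Group G] [Finite G] (N : Subgroup G) [N.Normal] (r : ℕ)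
    (hr : r.Prime) (hidx : ¬ r ∣ N.index) (x : G) (hx : x ^ r = 1) : x ∈ N := by
  rw [← QuotientGroup.eq_one_iff]
  have k1 : ((x : G) : G ⧸ N) ^ r = 1 := by
    rw [← QuotientGroup.mk_pow, hx]; rfl
  have k2 : orderOf ((x : G) : G ⧸ N) ∣ r := orderOf_dvd_of_pow_eq_one k1
  have k3 : orderOf ((x : G) : G ⧸ N) ∣ N.index := by
    rw [Subgroup.index_eq_card]
    exact orderOf_dvd_natCard _
  rcases (Nat.dvd_prime hr).mp k2 with h | h
  · exact orderOf_eq_one_iff.mp h
  · rw [h] at k3; exact absurd k3 hidx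

theorem arith19 (m c : ℕ) (hm : m ≤ 24) (hcm : c ≤ m) (h1 : c ∣ m) (h2 : m ∣ 24)
    (h3 : c % 19 = m % 19) (h0 : 0 < c) : c = m := by
  have h : m = c ∨ m = c + 19 := by omega
  rcases h with h | h
  · exact h.symm
  · subst h
    have hc5 : c ≤ 5 := by omega
    interval_cases c <;> omega

/-- an element `g` with `g ^ 19 = 1` centralizes every normal subgroup of order dividing 24 -/
theorem commute_of_small_normal {G : Type*} [Group G] [Finite G] (N : Subgroup G)
    [hN : N.Normal] (hc : Nat.card N ∣ 24) (g : G) (hg : g ^ 19 = 1) :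
    ∀ n ∈ N, g * n = n * g := by
  classical
  haveI : Fintype N := Fintype.ofFinite N
  haveI : Fact (Nat.Prime 19) := ⟨by norm_num⟩
  let σ : Equiv.Perm N :=
    { toFun := fun n => ⟨g * n * g⁻¹, hN.conj_mem n.1 n.2 g⟩
      invFun := fun n => ⟨g⁻¹ * n * g, by
        have := hN.conj_mem n.1 n.2 g⁻¹
        rwa [inv_inv] at this⟩
      left_inv := fun n => Subtype.ext (by
        show g⁻¹ * (g * (n : G) * g⁻¹) * g = n
        group)
      right_inv := fun n => Subtype.ext (by
        show g * (g⁻¹ * (n : G) * g) * g⁻¹ = n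
        group) }
  have hσ : ∀ n : N, ((σ n : N) : G) = g * n * g⁻¹ := fun n => rfl
  have hpow : ∀ k : ℕ, ∀ n : N, (((σ ^ k) n : N) : G) = g ^ k * n * (g ^ k)⁻¹ := by
    intro k
    induction k with
    | zero => intro n; simp
    | succ k ih =>
      intro n
      rw [pow_succ', Equiv.Perm.mul_apply, hσ, ih, pow_succ']
      group
  have hσ19 : σ ^ 19 ^ 1 = 1 := by
    apply Equiv.ext
    intro n
    apply Subtype.ext
    rw [pow_one, hpow, hg]
    simp
  have hmod := Equiv.Perm.card_compl_support_modEq hσ19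
  -- the subgroup of fixed points
  let C : Subgroup N := (Subgroup.centralizer ({g} : Set G)).subgroupOf N
  have hC : ∀ n : N, n ∈ C ↔ σ n = n := by
    intro n
    show (n : G) ∈ Subgroup.centralizer ({g} : Set G) ↔ σ n = n
    rw [Subgroup.mem_centralizer_iff]
    constructor
    · intro h
      apply Subtype.ext
      rw [hσ, h g (Set.mem_singleton g)]
      group
    · intro h m hm
      rw [Set.mem_singleton_iff] at hm
      subst hm
      have h1 := congrArg Subtype.val h
      rw [hσ] at h1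
      calc m * (n : G) = (m * n * m⁻¹) * m := by group
        _ = n * m := by rw [h1]
  have hcardC : Nat.card C = σ.supportᶜ.card := by
    have : σ.supportᶜ = Finset.univ.filter (fun n => n ∈ C) := by
      ext n
      rw [Finset.mem_compl, Equiv.Perm.mem_support, not_not, Finset.mem_filter, hC]
      simp
    rw [this, Nat.card_eq_fintype_card, Fintype.card_subtype]
  have hdvd : Nat.card C ∣ Nat.card N := Subgroup.card_subgroup_dvd_card C
  have hNpos : 0 < Nat.card N := Nat.card_pos
  have hCpos : 0 < Nat.card C := Nat.card_pos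
  have hN24 : Nat.card N ≤ 24 := Nat.le_of_dvd (by norm_num) hc
  have hCN : Nat.card C ≤ Nat.card N := Nat.le_of_dvd hNpos hdvd
  have hmod' : Nat.card C % 19 = Nat.card N % 19 := by
    rw [hcardC, Nat.card_eq_fintype_card (α := N)]
    exact hmod
  have heq : Nat.card C = Nat.card N :=
    arith19 (Nat.card N) (Nat.card C) hN24 hCN hdvd hc hmod' hCpos
  have htop : C = ⊤ := Subgroup.eq_top_of_card_eq C heq
  intro n hn
  have hmem : (⟨n, hn⟩ : N) ∈ C := by rw [htop]; exact Subgroup.mem_top _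
  have h1 := congrArg Subtype.val ((hC ⟨n, hn⟩).mp hmem)
  rw [hσ] at h1
  calc g * n = (g * n * g⁻¹) * g := by group
    _ = n * g := by rw [h1]

/-- the simplicity criterion -/
theorem simple_175560 {G : Type*} [Group G] [Finite G] (S : Set G)
    (hS : Subgroup.closure S = ⊤) (hcard : Nat.card G = 175560)
    (hprod : ∀ r : ℕ, (r = 5 ∨ r = 7 ∨ r = 11 ∨ r = 19) → ∀ t ∈ S,
      ∃ p q : G, p ^ r = 1 ∧ q ^ r = 1 ∧ t = p * q)
    (hcenter : ∀ z : G, (∀ t ∈ S, z * t = t * z) → z = 1) : IsSimpleGroup G := by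
  haveI : Nontrivial G := by
    apply (Finite.one_lt_card_iff_nontrivial).mp
    rw [hcard]; norm_num
  refine ⟨fun N hN => ?_⟩
  haveI := hN
  by_cases htop : N = ⊤
  · exact Or.inr htop
  left
  have hcardN : Nat.card N * N.index = 175560 := by rw [Subgroup.card_mul_index, hcard]
  have hnot : ∀ r : ℕ, (r = 5 ∨ r = 7 ∨ r = 11 ∨ r = 19) → r.Prime → ¬ r ∣ Nat.card N := by
    intro r hr hrp hdvd
    apply htop
    have hidx : ¬ r ∣ N.index := by
      intro h
      have h2 : r * r ∣ 175560 := by rw [← hcardN]; exact mul_dvd_mul hdvd h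
      rcases hr with rfl | rfl | rfl | rfl
      · exact absurd h2 (by norm_num)
      · exact absurd h2 (by norm_num)
      · exact absurd h2 (by norm_num)
      · exact absurd h2 (by norm_num)
    rw [eq_top_iff, ← hS, Subgroup.closure_le]
    intro t ht
    obtain ⟨p, q, hp, hq, rfl⟩ := hprod r hr t ht
    exact N.mul_mem (mem_of_pow_eq_one N r hrp hidx p hp) (mem_of_pow_eq_one N r hrp hidx q hq)
  have h24 : Nat.card N ∣ 24 := by
    have h1 : Nat.card N ∣ 175560 := Dvd.intro _ hcardN
    have hc5 : Nat.Coprime (Nat.card N) 5 :=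
      ((Nat.Prime.coprime_iff_not_dvd (by norm_num)).mpr
        (hnot 5 (Or.inl rfl) (by norm_num))).symm
    have hc7 : Nat.Coprime (Nat.card N) 7 :=
      ((Nat.Prime.coprime_iff_not_dvd (by norm_num)).mpr
        (hnot 7 (Or.inr (Or.inl rfl)) (by norm_num))).symm
    have hc11 : Nat.Coprime (Nat.card N) 11 :=
      ((Nat.Prime.coprime_iff_not_dvd (by norm_num)).mpr
        (hnot 11 (Or.inr (Or.inr (Or.inl rfl))) (by norm_num))).symm
    have hc19 : Nat.Coprime (Nat.card N) 19 :=
      ((Nat.Prime.coprime_iff_not_dvd (by norm_num)).mpr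
        (hnot 19 (Or.inr (Or.inr (Or.inr rfl))) (by norm_num))).symm
    have hc : Nat.Coprime (Nat.card N) (5 * (7 * (11 * 19))) :=
      Nat.Coprime.mul_right hc5 (Nat.Coprime.mul_right hc7 (Nat.Coprime.mul_right hc11 hc19))
    have h2 : (175560 : ℕ) = 24 * (5 * (7 * (11 * 19))) := by norm_num
    rw [h2] at h1
    exact hc.dvd_of_dvd_mul_right h1
  rw [eq_bot_iff]
  intro n hn
  rw [Subgroup.mem_bot]
  apply hcenter
  intro t ht
  obtain ⟨p, q, hp, hq, rfl⟩ := hprod 19 (Or.inr (Or.inr (Or.inr rfl))) t ht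
  have h1 := commute_of_small_normal N h24 p hp n hn
  have h2 := commute_of_small_normal N h24 q hq n hn
  calc n * (p * q) = (n * p) * q := by rw [mul_assoc]
    _ = (p * n) * q := by rw [h1]
    _ = p * (n * q) := by rw [mul_assoc]
    _ = p * (q * n) := by rw [h2]
    _ = p * q * n := by rw [mul_assoc]

/-- the criterion for a generated subgroup -/
theorem simple_closure_175560 {G₀ : Type*} [Group G₀] [Finite G₀] (S₀ : Set G₀)
    (hcard : Nat.card (Subgroup.closure S₀) = 175560)
    (hprod : ∀ r : ℕ, (r = 5 ∨ r = 7 ∨ r = 11 ∨ r = 19) → ∀ t ∈ S₀,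
      ∃ p ∈ Subgroup.closure S₀, ∃ q ∈ Subgroup.closure S₀, p ^ r = 1 ∧ q ^ r = 1 ∧ t = p * q)
    (hcenter : ∀ z ∈ Subgroup.closure S₀, (∀ t ∈ S₀, z * t = t * z) → z = 1) :
    IsSimpleGroup (Subgroup.closure S₀) := by
  apply simple_175560 (((↑) : Subgroup.closure S₀ → G₀) ⁻¹' S₀)
    Subgroup.closure_closure_coe_preimage hcard
  · intro r hr t ht
    obtain ⟨p, hp, q, hq, hpr, hqr, hpq⟩ := hprod r hr t.1 ht
    refine ⟨⟨p, hp⟩, ⟨q, hq⟩, Subtype.ext ?_, Subtype.ext ?_, Subtype.ext hpq⟩
    · rw [Subgroup.coe_pow]; exact hpr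
    · rw [Subgroup.coe_pow]; exact hqr
  · intro z hz
    apply Subtype.ext
    apply hcenter z.1 z.2
    intro t ht
    have := hz ⟨t, Subgroup.subset_closure ht⟩ ht
    exact congrArg Subtype.val this

end Cfsg.Agent.Lib.Helper28.PGenSimple
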