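import Cfsg.Agent.Lib.Helper28.J1Cert2
import Cfsg.Agent.Lib.Helper28.PGenSimple
import Cfsg.Prelude.Def_Spor_J1
import Cfsg.Prelude.Def_Sporadic

/-!
# The Janko group `J₁` as a subgroup of `GL₇(11)`

The subgroup generated by the two Janko matrices has order 175560 and is simple.
-/

set_option autoImplicit false

namespace Cfsg.Agent.Lib.Helper28.J1

open Cfsg.Agent.Lib.Helper28.BSGSMat Cfsg.Agent.Lib.Helper28.J1Data
  Cfsg.Agent.Lib.Helper28.J1Cert Cfsg.Agent.Lib.Helper28.PGenSimple

attribute [local irreducible] checkChain siftB prodsOK centOK codeSize wordEqB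

theorem x_mat : matOf (decM xc) = Cfsg.jankoMatrixX := by decide +kernel

theorem y_mat : matOf (decM yc) = Cfsg.jankoMatrixY := by decide +kernel

theorem xc_mem : xc ∈ gens := List.mem_cons_self

theorem yc_mem : yc ∈ gens := List.mem_cons_of_mem _ List.mem_cons_self

theorem ac_mem : ac ∈ gens := List.mem_cons_of_mem _ (List.mem_cons_of_mem _ List.mem_cons_self)

theorem cc_mem : cc ∈ gens :=
  List.mem_cons_of_mem _ (List.mem_cons_of_mem _ (List.mem_cons_of_mem _ List.mem_cons_self))

theorem hxc : invOK xc = true := gensOK_spec gens_ok xc xc_mem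

theorem hyc : invOK yc = true := gensOK_spec gens_ok yc yc_mem

theorem hac : invOK ac = true := gensOK_spec gens_ok ac ac_mem

theorem hcc : invOK cc = true := gensOK_spec gens_ok cc cc_mem

/-- the first generator -/
def x : GL (Fin 7) (ZMod 11) := glOf xc

/-- the second generator -/
def y : GL (Fin 7) (ZMod 11) := glOf yc

theorem x_val : (x : Matrix (Fin 7) (Fin 7) (ZMod 11)) = Cfsg.jankoMatrixX := by
  rw [x, glOf_val hxc]; exact x_mat

theorem y_val : (y : Matrix (Fin 7) (Fin 7) (ZMod 11)) = Cfsg.jankoMatrixY := by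
  rw [y, glOf_val hyc]; exact y_mat

theorem levels_eq : levels = [(b1, T1), (b2, T2)] := rfl

theorem card_gen : Nat.card (genGroup gens) = 175560 := by
  rw [(mat_main gens levels gens_ok chain_ok).1, size_ok]

theorem closure_eq :
    Subgroup.closure ({x, y} : Set (GL (Fin 7) (ZMod 11))) = genGroup gens := by
  apply le_antisymm
  · rw [Subgroup.closure_le]
    intro t ht
    rcases ht with rfl | ht
    · exact glOf_mem_genGroup xc_mem
    · rw [Set.mem_singleton_iff] at ht
      rw [ht]
      exact glOf_mem_genGroup yc_mem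
  · unfold genGroup
    rw [Subgroup.closure_le]
    intro s hs
    have hs' : s ∈ [glOf xc, glOf yc, glOf ac, glOf cc] := hs
    simp only [List.mem_cons, List.not_mem_nil, or_false] at hs'
    rcases hs' with rfl | rfl | rfl | rfl
    · exact Subgroup.subset_closure (Set.mem_insert _ _)
    · exact Subgroup.subset_closure (Set.mem_insert_of_mem _ (Set.mem_singleton _))
    · have h : glOf ac = wordG (glOf xc) (glOf yc) wa :=
        eq_of_wordEqB (actsBy_single (glOf_acts hac)) (actsBy_word hxc hyc wa) wa_ok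
      rw [h]
      exact wordG_mem _ _ _
    · have h : glOf cc = wordG (glOf xc) (glOf yc) wc :=
        eq_of_wordEqB (actsBy_single (glOf_acts hcc)) (actsBy_word hxc hyc wc) wc_ok
      rw [h]
      exact wordG_mem _ _ _

theorem card_closure :
    Nat.card (Subgroup.closure ({x, y} : Set (GL (Fin 7) (ZMod 11)))) = 175560 := by
  rw [closure_eq]; exact card_gen

theorem prods (r : ℕ) (fs : List (ℕ × ℕ)) (h : prodsOK levels r [xc, yc] fs = true) :
    ∀ t ∈ ({x, y} : Set (GL (Fin 7) (ZMod 11))),
      ∃ p ∈ Subgroup.closure ({x, y} : Set (GL (Fin 7) (ZMod 11))),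
      ∃ q ∈ Subgroup.closure ({x, y} : Set (GL (Fin 7) (ZMod 11))),
        p ^ r = 1 ∧ q ^ r = 1 ∧ t = p * q := by
  have hts : ∀ t ∈ [xc, yc], invOK t = true := by
    intro t ht
    simp only [List.mem_cons, List.not_mem_nil, or_false] at ht
    rcases ht with rfl | rfl
    · exact hxc
    · exact hyc
  have hmain := prodsOK_sound gens levels gens_ok chain_ok r [xc, yc] hts fs h
  rw [closure_eq]
  intro t ht
  rcases ht with rfl | ht
  · exact hmain xc List.mem_cons_self
  · rw [Set.mem_singleton_iff] at ht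
    rw [ht]
    exact hmain yc (List.mem_cons_of_mem _ List.mem_cons_self)

theorem center (z : GL (Fin 7) (ZMod 11))
    (hz : z ∈ Subgroup.closure ({x, y} : Set (GL (Fin 7) (ZMod 11))))
    (hcomm : ∀ t ∈ ({x, y} : Set (GL (Fin 7) (ZMod 11))), z * t = t * z) : z = 1 := by
  have hcz : Subgroup.closure ({x, y} : Set (GL (Fin 7) (ZMod 11))) ≤
      Subgroup.centralizer {z} := by
    rw [Subgroup.closure_le]
    intro t ht
    rw [SetLike.mem_coe, Subgroup.mem_centralizer_iff]
    intro h hh
    rw [Set.mem_singleton_iff] at hh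
    subst hh
    exact hcomm t ht
  have ha_mem : glOf ac ∈ Subgroup.closure ({x, y} : Set (GL (Fin 7) (ZMod 11))) := by
    rw [closure_eq]; exact glOf_mem_genGroup ac_mem
  have hza : z * glOf ac = glOf ac * z :=
    (Subgroup.mem_centralizer_iff.mp (hcz ha_mem)) z (Set.mem_singleton z)
  have hzx : z * glOf xc = glOf xc * z := hcomm x (Set.mem_insert _ _)
  have hzy : z * glOf yc = glOf yc * z :=
    hcomm y (Set.mem_insert_of_mem _ (Set.mem_singleton _))
  have hc : checkChain gens [(b1, T1), (b2, T2)] = true := by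
    rw [← levels_eq]; exact chain_ok
  rw [closure_eq] at hz
  exact center_trivial gens b1 T1 b2 T2 gens_ok hc ac xc yc hac hxc hyc fix_ok cent_ok z hz
    hza hzx hzy

theorem simple_closure :
    IsSimpleGroup (Subgroup.closure ({x, y} : Set (GL (Fin 7) (ZMod 11)))) := by
  apply simple_closure_175560 ({x, y} : Set (GL (Fin 7) (ZMod 11))) card_closure
  · intro r hr
    rcases hr with rfl | rfl | rfl | rfl
    · exact prods 5 fs5 prods5_ok
    · exact prods 7 fs7 prods7_ok
    · exact prods 11 fs11 prods11_ok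
    · exact prods 19 fs19 prods19_ok
  · exact center

/-- the Janko matrices generate a simple group of order 175560 -/
theorem exists_J1 : ∃ x y : GL (Fin 7) (ZMod 11),
    (x : Matrix (Fin 7) (Fin 7) (ZMod 11)) = Cfsg.jankoMatrixX ∧
    (y : Matrix (Fin 7) (Fin 7) (ZMod 11)) = Cfsg.jankoMatrixY ∧
    Cfsg.IsJ1 (Subgroup.closure ({x, y} : Set (GL (Fin 7) (ZMod 11)))) :=
  ⟨x, y, x_val, y_val, simple_closure, card_closure⟩

end Cfsg.Agent.Lib.Helper28.J1
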