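import Cfsg.Agent.Lib.Helper28.J1AutData

/-!
# Kernel-checked enumeration of the images of `y` under automorphisms of `J₁` fixing `x`, part 4
-/

set_option autoImplicit false

namespace Cfsg.Agent.Lib.Helper28.J1AutCert

open Cfsg.Agent.Lib.Helper28.BSGSMat Cfsg.Agent.Lib.Helper28.J1Data
  Cfsg.Agent.Lib.Helper28.J1AutData

theorem c21_ok : autListOK xc rels surv (chunk T1.toList 21) T2 = true := by decide +kernel

theorem c22_ok : autListOK xc rels surv (chunk T1.toList 22) T2 = true := by decide +kernel

theorem c23_ok : autListOK xc rels surv (chunk T1.toList 23) T2 = true := by decide +kernel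

theorem c24_ok : autListOK xc rels surv (chunk T1.toList 24) T2 = true := by decide +kernel

theorem c25_ok : autListOK xc rels surv (chunk T1.toList 25) T2 = true := by decide +kernel

theorem c26_ok : autListOK xc rels surv (chunk T1.toList 26) T2 = true := by decide +kernel

theorem c27_ok : autListOK xc rels surv (chunk T1.toList 27) T2 = true := by decide +kernel

end Cfsg.Agent.Lib.Helper28.J1AutCert
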