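import Cfsg.Agent.Lib.Helper28.J1AutCert0
import Cfsg.Agent.Lib.Helper28.J1AutCert1
import Cfsg.Agent.Lib.Helper28.J1AutCert2
import Cfsg.Agent.Lib.Helper28.J1AutCert3
import Cfsg.Agent.Lib.Helper28.J1AutCert4
import Cfsg.Agent.Lib.Helper28.J1AutCert5
import Cfsg.Agent.Lib.Helper28.J1AutCert6
import Cfsg.Agent.Lib.Helper28.J1AutCert7

/-!
# Kernel-checked enumeration of the images of `y` under automorphisms of `J₁` fixing `x`
-/

set_option autoImplicit false

namespace Cfsg.Agent.Lib.Helper28.J1AutCert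

open Cfsg.Agent.Lib.Helper28.BSGSMat Cfsg.Agent.Lib.Helper28.J1Data
  Cfsg.Agent.Lib.Helper28.J1AutData

attribute [local irreducible] autListOK chunk

theorem chunks_ok : ∀ i, i < 49 → autListOK xc rels surv (chunk T1.toList i) T2 = true := by
  intro i hi
  interval_cases i
  · exact c0_ok
  · exact c1_ok
  · exact c2_ok
  · exact c3_ok
  · exact c4_ok
  · exact c5_ok
  · exact c6_ok
  · exact c7_ok
  · exact c8_ok
  · exact c9_ok
  · exact c10_ok
  · exact c11_ok
  · exact c12_ok
  · exact c13_ok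
  · exact c14_ok
  · exact c15_ok
  · exact c16_ok
  · exact c17_ok
  · exact c18_ok
  · exact c19_ok
  · exact c20_ok
  · exact c21_ok
  · exact c22_ok
  · exact c23_ok
  · exact c24_ok
  · exact c25_ok
  · exact c26_ok
  · exact c27_ok
  · exact c28_ok
  · exact c29_ok
  · exact c30_ok
  · exact c31_ok
  · exact c32_ok
  · exact c33_ok
  · exact c34_ok
  · exact c35_ok
  · exact c36_ok
  · exact c37_ok
  · exact c38_ok
  · exact c39_ok
  · exact c40_ok
  · exact c41_ok
  · exact c42_ok
  · exact c43_ok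
  · exact c44_ok
  · exact c45_ok
  · exact c46_ok
  · exact c47_ok
  · exact c48_ok

end Cfsg.Agent.Lib.Helper28.J1AutCert
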