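import Cfsg.Agent.Lib.Helper28.J1
import Cfsg.Agent.Lib.Helper28.J1AutCertAll
import Cfsg.Prelude.Def_KGroupFacts

/-!
# The automorphisms of `J₁` are inner

An automorphism of `J₁ = ⟨x, y⟩` maps the Sylow 7-subgroup `⟨x⟩` to a conjugate, and the powers
`x ^ j` (`1 ≤ j ≤ 6`) are conjugate to `x`, so up to inner automorphisms it fixes `x`.  The image
of `y` then satisfies four relations with `x`; a kernel-checked enumeration shows that only the
seven conjugates of `y` under `⟨x⟩` do so.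
-/

set_option autoImplicit false

namespace Cfsg.Agent.Lib.Helper28.J1Aut

open Cfsg.Agent.Lib.Helper28.BSGSMat Cfsg.Agent.Lib.Helper28.J1Data
  Cfsg.Agent.Lib.Helper28.J1Cert Cfsg.Agent.Lib.Helper28.J1AutData
  Cfsg.Agent.Lib.Helper28.J1AutCert

attribute [local irreducible] checkChain siftB codeSize wordEqB autListOK relsTrue survOK normsOK
  chunk

theorem x_eq' : J1.x = Cfsg.Spor.jankoX := Units.ext (J1.x_val.trans rfl)

theorem y_eq' : J1.y = Cfsg.Spor.jankoY := Units.ext (J1.y_val.trans rfl)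

theorem J1_eq' : Cfsg.Spor.J1 = genGroup gens := by
  unfold Cfsg.Spor.J1
  rw [← x_eq', ← y_eq']
  exact J1.closure_eq

theorem chain_ok'' : checkChain gens [(b1, T1), (b2, T2)] = true := by
  rw [← J1.levels_eq]; exact chain_ok

/-- words in two elements of a monoid -/
def gword {M : Type*} [Monoid M] (a b : M) : List Bool → M
  | [] => 1
  | c :: w => cond c b a * gword a b w

theorem map_gword {M N F : Type*} [Monoid M] [Monoid N] [FunLike F M N] [MonoidHomClass F M N]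
    (f : F) (a b : M) : ∀ w : List Bool, f (gword a b w) = gword (f a) (f b) w := by
  intro w
  induction w with
  | nil => exact map_one f
  | cons c w ih =>
    show f (cond c b a * gword a b w) = cond c (f b) (f a) * gword (f a) (f b) w
    rw [map_mul, ih]
    cases c <;> rfl

theorem gword_eq_wordG (a b : GL (Fin 7) (ZMod 11)) :
    ∀ w : List Bool, gword a b w = wordG a b w := by
  intro w
  induction w with
  | nil => rfl
  | cons c w ih =>
    show cond c b a * gword a b w = cond c b a * wordG a b w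
    rw [ih]

theorem x_mem : J1.x ∈ Cfsg.Spor.J1 := by
  rw [J1_eq']; exact glOf_mem_genGroup J1.xc_mem

theorem y_mem : J1.y ∈ Cfsg.Spor.J1 := by
  rw [J1_eq']; exact glOf_mem_genGroup J1.yc_mem

/-- the first generator as an element of `J₁` -/
def xJ : ↥Cfsg.Spor.J1 := ⟨J1.x, x_mem⟩

/-- the second generator as an element of `J₁` -/
def yJ : ↥Cfsg.Spor.J1 := ⟨J1.y, y_mem⟩

theorem coe_gword (a b : ↥Cfsg.Spor.J1) (w : List Bool) :
    ((gword a b w : ↥Cfsg.Spor.J1) : GL (Fin 7) (ZMod 11)) =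
      wordG (a : GL (Fin 7) (ZMod 11)) (b : GL (Fin 7) (ZMod 11)) w := by
  rw [← gword_eq_wordG]
  exact map_gword (Cfsg.Spor.J1.subtype) a b w

theorem closure_xy : Subgroup.closure ({xJ, yJ} : Set ↥Cfsg.Spor.J1) = ⊤ := by
  have h : Subgroup.closure (((↑) : ↥Cfsg.Spor.J1 → GL (Fin 7) (ZMod 11)) ⁻¹'
      {Cfsg.Spor.jankoX, Cfsg.Spor.jankoY}) = ⊤ :=
    Subgroup.closure_closure_coe_preimage
  have hset : (((↑) : ↥Cfsg.Spor.J1 → GL (Fin 7) (ZMod 11)) ⁻¹'
      {Cfsg.Spor.jankoX, Cfsg.Spor.jankoY}) = {xJ, yJ} := by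
    ext z
    simp only [Set.mem_preimage, Set.mem_insert_iff, Set.mem_singleton_iff]
    constructor
    · rintro (h | h)
      · left; apply Subtype.ext; rw [h]; exact x_eq'.symm
      · right; apply Subtype.ext; rw [h]; exact y_eq'.symm
    · rintro (h | h)
      · left; rw [h]; exact x_eq'
      · right; rw [h]; exact y_eq'
  rw [← hset]; exact h

theorem card_J1 : Nat.card ↥Cfsg.Spor.J1 = 175560 := by
  show Nat.card ↥(Subgroup.closure ({Cfsg.Spor.jankoX, Cfsg.Spor.jankoY} :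
    Set (GL (Fin 7) (ZMod 11)))) = 175560
  rw [← x_eq', ← y_eq']
  exact J1.card_closure

theorem x_pow7' : J1.x ^ 7 = 1 := eq_one_of_idB (actsBy_pow (glOf_acts J1.hxc) 7) x_pow7

theorem x_ne' : J1.x ≠ 1 :=
  ne_of_wordEqB_false (actsBy_single (glOf_acts J1.hxc)) actsBy_one x_ne

theorem orderOf_xJ : orderOf xJ = 7 := by
  haveI : Fact (Nat.Prime 7) := ⟨by norm_num⟩
  apply orderOf_eq_prime
  · apply Subtype.ext
    rw [Subgroup.coe_pow]
    exact x_pow7'
  · intro h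
    exact x_ne' (congrArg Subtype.val h)

theorem rels_true : ∀ r ∈ rels, wordG J1.x J1.y r.1 ^ r.2 = 1 :=
  relsTrue_spec J1.hxc J1.hyc rels rels_ok

/-- an automorphism fixing `x` is inner -/
theorem inner_of_fix (φ : MulAut ↥Cfsg.Spor.J1) (hφ : φ xJ = xJ) :
    ∃ g : ↥Cfsg.Spor.J1, φ = MulAut.conj g := by
  have hrel : ∀ r ∈ rels,
      wordG (glOf xc) ((φ yJ : ↥Cfsg.Spor.J1) : GL (Fin 7) (ZMod 11)) r.1 ^ r.2 = 1 := by
    intro r hr
    have h0 : gword xJ yJ r.1 ^ r.2 = 1 := by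
      apply Subtype.ext
      rw [Subgroup.coe_pow, coe_gword]
      exact rels_true r hr
    have h1 : gword (φ xJ) (φ yJ) r.1 ^ r.2 = 1 := by
      rw [← map_gword φ, ← map_pow, h0, map_one]
    rw [hφ] at h1
    have h2 := congrArg Subtype.val h1
    rw [Subgroup.coe_pow, coe_gword] at h2
    exact h2
  have hmem : ((φ yJ : ↥Cfsg.Spor.J1) : GL (Fin 7) (ZMod 11)) ∈ genGroup gens := by
    rw [← J1_eq']; exact (φ yJ).2
  have hsurv := aut_enum gens b1 T1 b2 T2 gens_ok chain_ok'' xc J1.hxc rels surv 49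
    (by rw [len_T1]; norm_num) chunks_ok _ hmem hrel
  obtain ⟨c, hc, hcy⟩ := List.mem_map.mp hsurv
  obtain ⟨i, hi⟩ := survOK_spec J1.hxc J1.hyc surv surv_ok c hc
  refine ⟨xJ ^ i, ?_⟩
  apply MulEquiv.toMonoidHom_injective
  apply MonoidHom.eq_of_eqOn_dense closure_xy
  intro t ht
  rcases ht with rfl | ht
  · show φ xJ = MulAut.conj (xJ ^ i) xJ
    rw [hφ, MulAut.conj_apply, ← pow_succ, pow_succ', mul_assoc, mul_inv_cancel, mul_one]
  · rw [Set.mem_singleton_iff] at ht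
    rw [ht]
    show φ yJ = MulAut.conj (xJ ^ i) yJ
    apply Subtype.ext
    rw [MulAut.conj_apply]
    simp only [Subgroup.coe_mul, Subgroup.coe_pow, Subgroup.coe_inv]
    rw [← hcy]
    exact hi

theorem fact7 : (Nat.card ↥Cfsg.Spor.J1).factorization 7 = 1 := by
  rw [card_J1]
  have h : (175560 : ℕ) = 7 * 25080 := by norm_num
  rw [h, Nat.factorization_mul (by norm_num) (by norm_num), Finsupp.add_apply,
    Nat.Prime.factorization_self (by norm_num),
    Nat.factorization_eq_zero_of_not_dvd (by norm_num)]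

/-- every automorphism of `J₁` is inner -/
theorem all_inner (φ : MulAut ↥Cfsg.Spor.J1) : φ ∈ Cfsg.Inn ↥Cfsg.Spor.J1 := by
  haveI : Fact (Nat.Prime 7) := ⟨by norm_num⟩
  have hP : Nat.card (Subgroup.zpowers xJ) =
      7 ^ (Nat.card ↥Cfsg.Spor.J1).factorization 7 := by
    rw [fact7, pow_one, Nat.card_zpowers, orderOf_xJ]
  have hQ : Nat.card ((Subgroup.zpowers xJ).map φ.toMonoidHom) =
      7 ^ (Nat.card ↥Cfsg.Spor.J1).factorization 7 := by
    rw [Subgroup.card_map_of_injective φ.injective]; exact hP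
  obtain ⟨g, hg⟩ := MulAction.exists_smul_eq ↥Cfsg.Spor.J1 (Sylow.ofCard _ hP)
    (Sylow.ofCard _ hQ)
  have h1 : φ xJ ∈ ((Sylow.ofCard _ hQ : Sylow 7 ↥Cfsg.Spor.J1) :
      Subgroup ↥Cfsg.Spor.J1) := by
    rw [Sylow.coe_ofCard]
    exact Subgroup.mem_map_of_mem _ (Subgroup.mem_zpowers xJ)
  rw [← hg, Sylow.coe_subgroup_smul, Subgroup.mem_smul_pointwise_iff_exists] at h1
  obtain ⟨s, hs, hsx⟩ := h1
  rw [Sylow.coe_ofCard] at hs
  rw [MulAut.smul_def, MulAut.conj_apply] at hsx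
  obtain ⟨k, hk⟩ := Subgroup.mem_zpowers_iff.mp hs
  have hk7 : xJ ^ (k % 7) = s := by
    have := zpow_mod_orderOf xJ k
    rw [orderOf_xJ] at this
    rw [← hk]
    exact this
  have hjk : (((k % 7).toNat : ℕ) : ℤ) = k % 7 :=
    Int.toNat_of_nonneg (Int.emod_nonneg _ (by norm_num))
  have hj7 : (k % 7).toNat < 7 := by
    have := Int.emod_lt_of_pos k (by norm_num : (0 : ℤ) < 7)
    omega
  have hsj : xJ ^ (k % 7).toNat = s := by
    rw [← zpow_natCast, hjk]; exact hk7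
  have hj1 : 1 ≤ (k % 7).toNat := by
    rcases Nat.eq_zero_or_pos (k % 7).toNat with h0 | h0
    · exfalso
      rw [h0, pow_zero] at hsj
      rw [← hsj, mul_one, mul_inv_cancel] at hsx
      have hx1 : xJ = 1 := φ.injective (by rw [← hsx, map_one])
      exact x_ne' (congrArg Subtype.val hx1)
    · exact h0
  obtain ⟨m₀, hm₀, hmx⟩ := normsOK_spec gens levels gens_ok chain_ok J1.hxc norms norms_ok
    (k % 7).toNat hj1 hj7
  have hm₀J : m₀ ∈ Cfsg.Spor.J1 := by rw [J1_eq']; exact hm₀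
  have hm : (⟨m₀, hm₀J⟩ : ↥Cfsg.Spor.J1) * xJ ^ (k % 7).toNat = xJ * ⟨m₀, hm₀J⟩ := by
    apply Subtype.ext
    simp only [Subgroup.coe_mul, Subgroup.coe_pow]
    exact hmx
  have hψ : (MulAut.conj (⟨m₀, hm₀J⟩ : ↥Cfsg.Spor.J1) * MulAut.conj g⁻¹ * φ) xJ = xJ := by
    rw [MulAut.mul_apply, MulAut.mul_apply, MulAut.conj_apply, MulAut.conj_apply, ← hsx, ← hsj]
    have h2 : g⁻¹ * (g * xJ ^ (k % 7).toNat * g⁻¹) * g⁻¹⁻¹ = xJ ^ (k % 7).toNat := by group
    rw [h2, hm, mul_assoc, mul_inv_cancel, mul_one]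
  obtain ⟨h, hh⟩ := inner_of_fix _ hψ
  rw [MonoidHom.mem_range]
  refine ⟨g * (⟨m₀, hm₀J⟩ : ↥Cfsg.Spor.J1)⁻¹ * h, ?_⟩
  rw [map_mul, map_mul, map_inv, ← hh, map_inv]
  group

/-- the outer automorphism group of `J₁` is trivial -/
theorem out_card : Nat.card (Cfsg.Out ↥Cfsg.Spor.J1) = 1 := by
  have htop : Cfsg.Inn ↥Cfsg.Spor.J1 = ⊤ := by
    rw [eq_top_iff]
    intro φ _
    exact all_inner φ
  show Nat.card (MulAut ↥Cfsg.Spor.J1 ⧸ Cfsg.Inn ↥Cfsg.Spor.J1) = 1
  rw [← Subgroup.index_eq_card, htop, Subgroup.index_top]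

end Cfsg.Agent.Lib.Helper28.J1Aut
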