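import Cfsg.Agent.Lib.Helper28.J1AutData

/-!
# Kernel-checked certificates for the automorphisms of `J₁`
-/

set_option autoImplicit false

namespace Cfsg.Agent.Lib.Helper28.J1AutCert

open Cfsg.Agent.Lib.Helper28.BSGSMat Cfsg.Agent.Lib.Helper28.J1Data
  Cfsg.Agent.Lib.Helper28.J1AutData

theorem len_T1 : T1.toList.length = 3080 := by decide +kernel

theorem rels_ok : relsTrue xc yc rels = true := by decide +kernel

theorem surv_ok : survOK xc yc surv = true := by decide +kernel

theorem norms_ok : normsOK levels xc norms = true := by decide +kernel

theorem x_pow7 : idB (List.replicate 7 (decM xc)) = true := by decide +kernel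

theorem x_ne : wordEqB [decM xc] [] = false := by decide +kernel

end Cfsg.Agent.Lib.Helper28.J1AutCert
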