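import Cfsg.Agent.Lib.Helper28.BSGSMat4
import Cfsg.Agent.Lib.Helper28.J1Data

/-!
# Data for the automorphisms of `J₁`

Relations satisfied by the generators, the seven elements `z` of `J₁` such that `(x, z)` satisfies
them, and elements conjugating the powers of `x` to `x`.  Generated by a script.
-/

set_option autoImplicit false

namespace Cfsg.Agent.Lib.Helper28.J1AutData

open Cfsg.Agent.Lib.Helper28.BSGSMat Cfsg.Agent.Lib.Helper28.J1Data

/-- relations `w ^ k = 1` satisfied by the generators -/
def rels : List (List Bool × ℕ) := [([true], 5), ([false, true, false, true, true], 5), ([false, true, true], 11), ([false, false, true, true, true], 6)]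

/-- the products satisfying the relations -/
def surv : List (ℕ × ℕ) := [(0x1933131288a8aa33131193131193a8aa2888aa288aaa288a8, 0x1000000010000000100000001000000010000000100000001),
  (0x28313a133a8a12318aa98a8119838a19381aa933a31988a3a, 0x510189415819040372338aa26037323073890888437787886),
  (0x8aa288a1193313a288a8a933131133131198a8aa28a8aa288, 0x1000000010000000100000001000000010000000100000001),
  (0x88a8aa2313119313119338aa288aaa288a8a288a8a9331311, 0x1000000010000000100000001000000010000000100000001),
  (0x1000000010000000100000001100000001000000010000, 0x1933131933131188a8aa28a8aa28a8aa2883119331aa288a8),
  (0xa3639548779131776795876a83952430263193910286260a5, 0x227700725a147941219454a1777a07970940774209425a42a),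
  (0x13119333119331aa288a8a288a8a288a8aa33131198a8aa28, 0x1000000010000000100000001000000010000000100000001)]

/-- elements conjugating `x ^ j` to `x` -/
def norms : List ℕ := [0x1000000010000000100000001000000010000000100000001,
  0x1010000000010000000010100000000100000000100,
  0x3131193193313113119339331311311933133131191193313,
  0x100010000000000100010000000000100010001000000,
  0x3119331193313133131191311933119331393313113131193,
  0x1193313193313193313113313119313119313119333119331]

end Cfsg.Agent.Lib.Helper28.J1AutData
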