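import Cfsg.Agent.Lib.Helper28.J1CentData
import Cfsg.Agent.Lib.Helper28.J1Data
import Cfsg.Agent.Lib.Helper28.BSGSMat3

/-!
# Kernel-checked certificates for the centralizer of an involution of `J₁`
-/

set_option autoImplicit false

namespace Cfsg.Agent.Lib.Helper28.J1CentCert

open Cfsg.Agent.Lib.Helper28.BSGSMat Cfsg.Agent.Lib.Helper28.J1Data
  Cfsg.Agent.Lib.Helper28.J1CentData

theorem t_inv : invOK tc = true := by decide +kernel

theorem t_sift : siftB levels [decM tc] = true := by decide +kernel

theorem t_sq : idB (List.replicate 2 (decM tc)) = true := by decide +kernel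

theorem t_ne : wordEqB [decM tc] [] = false := by decide +kernel

theorem k1_sift : siftB levels [decM k1c] = true := by decide +kernel

theorem k2_sift : siftB levels [decM k2c] = true := by decide +kernel

theorem k1_comm : wordEqB [decM k1c, decM tc] [decM tc, decM k1c] = true := by decide +kernel

theorem k2_comm : wordEqB [decM k2c, decM tc] [decM tc, decM k2c] = true := by decide +kernel

theorem gensK_ok : gensOK gensK = true := by decide +kernel

theorem chainK_ok : checkChain gensK levelsK = true := by decide +kernel

theorem sizeK_ok : codeSize levelsK = 60 := by decide +kernel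

theorem prodsK3_ok : prodsOK levelsK 3 gensK fsK3 = true := by decide +kernel

theorem prodsK5_ok : prodsOK levelsK 5 gensK fsK5 = true := by decide +kernel

theorem fixK_ok : Nat.beq (key (mv (decM k1c) (unkey bK1))) bK1 = true := by decide +kernel

theorem centK_ok : centOK k1c k1c k2c TK1 TK2 = true := by decide +kernel

theorem cents_len : cents.length = 120 := by decide +kernel

end Cfsg.Agent.Lib.Helper28.J1CentCert
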