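import Cfsg.Agent.Lib.Helper28.J1CentData
import Cfsg.Agent.Lib.Helper28.J1Data
import Cfsg.Agent.Lib.Helper28.BSGSMat3

/-!
# Kernel-checked enumeration of the centralizer of an involution of `J₁`
-/

set_option autoImplicit false

namespace Cfsg.Agent.Lib.Helper28.J1CentCert

open Cfsg.Agent.Lib.Helper28.BSGSMat Cfsg.Agent.Lib.Helper28.J1Data
  Cfsg.Agent.Lib.Helper28.J1CentData

theorem cents_ok : centListOK tc T1 T2 cents = true := by decide +kernel

end Cfsg.Agent.Lib.Helper28.J1CentCert
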