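import Cfsg.Agent.Lib.Helper28.PGenSimple

/-!
# A simplicity criterion: generation by products of elements of prime order

Let `|G| = m * ∏ R` for a list `R` of primes whose squares do not divide `|G|`, with some `p ∈ R`
greater than `m`.  If every generator is, for each `r ∈ R`, a product of two elements `a`, `b` with
`a ^ r = b ^ r = 1`, and only the identity commutes with all generators, then `G` is simple.
-/

set_option autoImplicit false

namespace Cfsg.Agent.Lib.Helper28.PGenSimple

/-- an element `g` with `g ^ p = 1` centralizes every normal subgroup of order less than `p` -/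
theorem commute_of_card_lt {G : Type*} [Group G] [Finite G] (N : Subgroup G)
    [hN : N.Normal] (p : ℕ) (hp : p.Prime) (hc : Nat.card N < p) (g : G) (hg : g ^ p = 1) :
    ∀ n ∈ N, g * n = n * g := by
  classical
  haveI : Fintype N := Fintype.ofFinite N
  haveI : Fact (Nat.Prime p) := ⟨hp⟩
  let σ : Equiv.Perm N :=
    { toFun := fun n => ⟨g * n * g⁻¹, hN.conj_mem n.1 n.2 g⟩
      invFun := fun n => ⟨g⁻¹ * n * g, by
        have := hN.conj_mem n.1 n.2 g⁻¹
        rwa [inv_inv] at this⟩
      left_inv := fun n => Subtype.ext (by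
        show g⁻¹ * (g * (n : G) * g⁻¹) * g = n
        group)
      right_inv := fun n => Subtype.ext (by
        show g * (g⁻¹ * (n : G) * g) * g⁻¹ = n
        group) }
  have hσ : ∀ n : N, ((σ n : N) : G) = g * n * g⁻¹ := fun n => rfl
  have hpow : ∀ k : ℕ, ∀ n : N, (((σ ^ k) n : N) : G) = g ^ k * n * (g ^ k)⁻¹ := by
    intro k
    induction k with
    | zero => intro n; simp
    | succ k ih =>
      intro n
      rw [pow_succ', Equiv.Perm.mul_apply, hσ, ih, pow_succ']
      group
  have hσp : σ ^ p ^ 1 = 1 := by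
    apply Equiv.ext
    intro n
    apply Subtype.ext
    rw [pow_one, hpow, hg]
    simp
  have hmod := Equiv.Perm.card_compl_support_modEq hσp
  have hle : σ.supportᶜ.card ≤ Fintype.card N := Finset.card_le_univ _
  have hlt : Fintype.card N < p := by rwa [← Nat.card_eq_fintype_card]
  have heq : σ.supportᶜ.card = Fintype.card N := by
    have h1 : σ.supportᶜ.card % p = Fintype.card N % p := hmod
    rwa [Nat.mod_eq_of_lt (lt_of_le_of_lt hle hlt), Nat.mod_eq_of_lt hlt] at h1
  have huniv : σ.supportᶜ = Finset.univ := Finset.eq_univ_of_card _ heq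
  intro n hn
  have hmem : (⟨n, hn⟩ : N) ∈ σ.supportᶜ := by rw [huniv]; exact Finset.mem_univ _
  rw [Finset.mem_compl, Equiv.Perm.mem_support, not_not] at hmem
  have h1 := congrArg Subtype.val hmem
  rw [hσ] at h1
  calc g * n = (g * n * g⁻¹) * g := by group
    _ = n * g := by rw [h1]

/-- the simplicity criterion -/
theorem simple_of_pgens {G : Type*} [Group G] [Finite G] (S : Set G)
    (hS : Subgroup.closure S = ⊤) (m p : ℕ) (R : List ℕ)
    (hcard : Nat.card G = m * R.prod) (h1 : 1 < Nat.card G)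
    (hR : ∀ r ∈ R, r.Prime ∧ ¬ r * r ∣ Nat.card G) (hp : p ∈ R) (hmp : m < p)
    (hprod : ∀ r ∈ R, ∀ t ∈ S, ∃ a b : G, a ^ r = 1 ∧ b ^ r = 1 ∧ t = a * b)
    (hcenter : ∀ z : G, (∀ t ∈ S, z * t = t * z) → z = 1) : IsSimpleGroup G := by
  haveI : Nontrivial G := Finite.one_lt_card_iff_nontrivial.mp h1
  refine ⟨fun N hN => ?_⟩
  haveI := hN
  by_cases htop : N = ⊤
  · exact Or.inr htop
  left
  have hcardN : Nat.card N * N.index = Nat.card G := Subgroup.card_mul_index N
  have hnot : ∀ r ∈ R, ¬ r ∣ Nat.card N := by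
    intro r hr hdvd
    apply htop
    have hidx : ¬ r ∣ N.index := by
      intro h
      apply (hR r hr).2
      rw [← hcardN]; exact mul_dvd_mul hdvd h
    rw [eq_top_iff, ← hS, Subgroup.closure_le]
    intro t ht
    obtain ⟨a, b, ha, hb, rfl⟩ := hprod r hr t ht
    exact N.mul_mem (mem_of_pow_eq_one N r (hR r hr).1 hidx a ha)
      (mem_of_pow_eq_one N r (hR r hr).1 hidx b hb)
  have hcop : Nat.Coprime (Nat.card N) R.prod := by
    rw [Nat.coprime_list_prod_right_iff]
    intro r hr
    exact ((Nat.Prime.coprime_iff_not_dvd (hR r hr).1).mpr (hnot r hr)).symm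
  have hdm : Nat.card N ∣ m := by
    have h2 : Nat.card N ∣ m * R.prod := by rw [← hcard]; exact Dvd.intro _ hcardN
    exact hcop.dvd_of_dvd_mul_right h2
  have hmpos : 0 < m := by
    rcases Nat.eq_zero_or_pos m with h | h
    · rw [h, zero_mul] at hcard; omega
    · exact h
  have hlt : Nat.card N < p := lt_of_le_of_lt (Nat.le_of_dvd hmpos hdm) hmp
  rw [eq_bot_iff]
  intro n hn
  rw [Subgroup.mem_bot]
  apply hcenter
  intro t ht
  obtain ⟨a, b, ha, hb, rfl⟩ := hprod p hp t ht
  have k1 := commute_of_card_lt N p (hR p hp).1 hlt a ha n hn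
  have k2 := commute_of_card_lt N p (hR p hp).1 hlt b hb n hn
  calc n * (a * b) = (n * a) * b := by rw [mul_assoc]
    _ = (a * n) * b := by rw [k1]
    _ = a * (n * b) := by rw [mul_assoc]
    _ = a * (b * n) := by rw [k2]
    _ = a * b * n := by rw [mul_assoc]

/-- the criterion for a generated subgroup -/
theorem simple_closure_of_pgens {G₀ : Type*} [Group G₀] [Finite G₀] (S₀ : Set G₀)
    (m p : ℕ) (R : List ℕ)
    (hcard : Nat.card (Subgroup.closure S₀) = m * R.prod)
    (h1 : 1 < Nat.card (Subgroup.closure S₀))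
    (hR : ∀ r ∈ R, r.Prime ∧ ¬ r * r ∣ Nat.card (Subgroup.closure S₀)) (hp : p ∈ R)
    (hmp : m < p)
    (hprod : ∀ r ∈ R, ∀ t ∈ S₀,
      ∃ a ∈ Subgroup.closure S₀, ∃ b ∈ Subgroup.closure S₀, a ^ r = 1 ∧ b ^ r = 1 ∧ t = a * b)
    (hcenter : ∀ z ∈ Subgroup.closure S₀, (∀ t ∈ S₀, z * t = t * z) → z = 1) :
    IsSimpleGroup (Subgroup.closure S₀) := by
  apply simple_of_pgens (((↑) : Subgroup.closure S₀ → G₀) ⁻¹' S₀)
    Subgroup.closure_closure_coe_preimage m p R hcard h1 hR hp hmp
  · intro r hr t ht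
    obtain ⟨a, ha, b, hb, har, hbr, hab⟩ := hprod r hr t.1 ht
    refine ⟨⟨a, ha⟩, ⟨b, hb⟩, Subtype.ext ?_, Subtype.ext ?_, Subtype.ext hab⟩
    · rw [Subgroup.coe_pow]; exact har
    · rw [Subgroup.coe_pow]; exact hbr
  · intro z hz
    apply Subtype.ext
    apply hcenter z.1 z.2
    intro t ht
    have := hz ⟨t, Subgroup.subset_closure ht⟩ ht
    exact congrArg Subtype.val this

end Cfsg.Agent.Lib.Helper28.PGenSimple
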