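import Cfsg.Agent.Lib.Helper28.J1
import Cfsg.Agent.Lib.Helper28.J1CentCert
import Cfsg.Agent.Lib.Helper28.J1CentCert2
import Cfsg.Agent.Lib.Helper28.PGenSimple2
import Cfsg.Agent.S0494

/-!
# The centralizer of an involution of `J₁`

The centralizer of the involution `t = (xy)⁵` of `J₁ = ⟨x, y⟩ ≤ GL₇(11)` is the direct product of
`⟨t⟩` and a simple group `K` of order 60, hence isomorphic to `Z₂ × A₅`.
-/

set_option autoImplicit false

namespace Cfsg.Agent.Lib.Helper28.J1Cent

open Cfsg.Agent.Lib.Helper28.BSGSMat Cfsg.Agent.Lib.Helper28.J1Data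
  Cfsg.Agent.Lib.Helper28.J1Cert Cfsg.Agent.Lib.Helper28.J1CentData
  Cfsg.Agent.Lib.Helper28.J1CentCert Cfsg.Agent.Lib.Helper28.PGenSimple
  Cfsg.Agent.Lib.Helper28.CentTools

attribute [local irreducible] checkChain siftB prodsOK centOK codeSize wordEqB centListOK

theorem x_eq : J1.x = Cfsg.Spor.jankoX := Units.ext (J1.x_val.trans rfl)

theorem y_eq : J1.y = Cfsg.Spor.jankoY := Units.ext (J1.y_val.trans rfl)

theorem J1_eq : Cfsg.Spor.J1 = genGroup gens := by
  unfold Cfsg.Spor.J1
  rw [← x_eq, ← y_eq]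
  exact J1.closure_eq

theorem chain_ok' : checkChain gens [(b1, T1), (b2, T2)] = true := by
  rw [← J1.levels_eq]; exact chain_ok

/-- the subgroup of order 60 -/
def K : Subgroup (GL (Fin 7) (ZMod 11)) := genGroup gensK

theorem hk1 : invOK k1c = true := gensOK_spec gensK_ok k1c List.mem_cons_self

theorem hk2 : invOK k2c = true :=
  gensOK_spec gensK_ok k2c (List.mem_cons_of_mem _ List.mem_cons_self)

theorem levelsK_eq : levelsK = [(bK1, TK1), (bK2, TK2)] := rfl

theorem card_K : Nat.card K = 60 := by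
  unfold K
  rw [(mat_main gensK levelsK gensK_ok chainK_ok).1, sizeK_ok]

theorem k1_mem : glOf k1c ∈ K := glOf_mem_genGroup List.mem_cons_self

theorem k2_mem : glOf k2c ∈ K :=
  glOf_mem_genGroup (List.mem_cons_of_mem _ List.mem_cons_self)

theorem center_K (z : GL (Fin 7) (ZMod 11)) (hz : z ∈ K)
    (h1 : z * glOf k1c = glOf k1c * z) (h2 : z * glOf k2c = glOf k2c * z) : z = 1 :=
  center_trivial gensK bK1 TK1 bK2 TK2 gensK_ok (by rw [← levelsK_eq]; exact chainK_ok)
    k1c k1c k2c hk1 hk1 hk2 fixK_ok centK_ok z hz h1 h1 h2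

theorem mem_semGens_K {s : GL (Fin 7) (ZMod 11)} (hs : s ∈ semGens gensK) :
    s = glOf k1c ∨ s = glOf k2c := by
  have hs' : s ∈ [glOf k1c, glOf k2c] := hs
  simpa only [List.mem_cons, List.not_mem_nil, or_false] using hs'

theorem simple_K : IsSimpleGroup K := by
  have hc : Nat.card (Subgroup.closure {s | s ∈ semGens gensK}) = 60 := card_K
  have hmain : IsSimpleGroup (Subgroup.closure {s | s ∈ semGens gensK}) := by
    apply simple_closure_of_pgens {s | s ∈ semGens gensK} 4 5 [3, 5]
    · rw [hc]; rfl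
    · rw [hc]; norm_num
    · intro r hr
      rw [hc]
      simp only [List.mem_cons, List.not_mem_nil, or_false] at hr
      rcases hr with rfl | rfl
      · exact ⟨by norm_num, by norm_num⟩
      · exact ⟨by norm_num, by norm_num⟩
    · exact List.mem_cons_of_mem _ List.mem_cons_self
    · norm_num
    · intro r hr t ht
      obtain ⟨k, hk, rfl⟩ := List.mem_map.mp ht
      simp only [List.mem_cons, List.not_mem_nil, or_false] at hr
      rcases hr with rfl | rfl
      · exact prodsOK_sound gensK levelsK gensK_ok chainK_ok 3 gensK (gensOK_spec gensK_ok)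
          fsK3 prodsK3_ok k hk
      · exact prodsOK_sound gensK levelsK gensK_ok chainK_ok 5 gensK (gensOK_spec gensK_ok)
          fsK5 prodsK5_ok k hk
    · intro z hz hcomm
      exact center_K z hz (hcomm _ (mem_semGens List.mem_cons_self))
        (hcomm _ (mem_semGens (List.mem_cons_of_mem _ List.mem_cons_self)))
  exact hmain

theorem t_mem : glOf tc ∈ genGroup gens :=
  (mat_main gens levels gens_ok chain_ok).2 _ _ (actsBy_single (glOf_acts t_inv)) t_sift

theorem t_sq' : glOf tc ^ 2 = 1 := eq_one_of_idB (actsBy_pow (glOf_acts t_inv) 2) t_sq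

theorem t_ne' : glOf tc ≠ 1 :=
  ne_of_wordEqB_false (actsBy_single (glOf_acts t_inv)) actsBy_one t_ne

theorem t_order : orderOf (glOf tc) = 2 := orderOf_eq_prime t_sq' t_ne'

theorem t_mem_J1 : glOf tc ∈ Cfsg.Spor.J1 := by rw [J1_eq]; exact t_mem

theorem K_le : K ≤ Subgroup.centralizer {glOf tc} ⊓ Cfsg.Spor.J1 := by
  unfold K genGroup
  rw [Subgroup.closure_le]
  intro s hs
  rw [SetLike.mem_coe, Subgroup.mem_inf, Subgroup.mem_centralizer_iff, J1_eq]
  rcases mem_semGens_K hs with rfl | rfl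
  · refine ⟨?_, ?_⟩
    · intro h hh
      rw [Set.mem_singleton_iff] at hh
      subst hh
      exact (eq_of_wordEqB (actsBy_cons (glOf_acts hk1) (actsBy_single (glOf_acts t_inv)))
        (actsBy_cons (glOf_acts t_inv) (actsBy_single (glOf_acts hk1))) k1_comm).symm
    · exact (mat_main gens levels gens_ok chain_ok).2 _ _ (actsBy_single (glOf_acts hk1))
        k1_sift
  · refine ⟨?_, ?_⟩
    · intro h hh
      rw [Set.mem_singleton_iff] at hh
      subst hh
      exact (eq_of_wordEqB (actsBy_cons (glOf_acts hk2) (actsBy_single (glOf_acts t_inv)))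
        (actsBy_cons (glOf_acts t_inv) (actsBy_single (glOf_acts hk2))) k2_comm).symm
    · exact (mat_main gens levels gens_ok chain_ok).2 _ _ (actsBy_single (glOf_acts hk2))
        k2_sift

theorem comm_K : ∀ k ∈ K, glOf tc * k = k * glOf tc := by
  intro k hk
  have h := (Subgroup.mem_inf.mp (K_le hk)).1
  exact (Subgroup.mem_centralizer_iff.mp h) (glOf tc) (Set.mem_singleton _)

theorem t_notin_K : glOf tc ∉ K := by
  intro h
  apply t_ne'
  exact center_K (glOf tc) h (comm_K _ k1_mem) (comm_K _ k2_mem)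

theorem card_C_le :
    Nat.card ↥(Subgroup.centralizer {glOf tc} ⊓ Cfsg.Spor.J1) ≤ 120 := by
  have h := card_le_of_forall_mem_list (Subgroup.centralizer {glOf tc} ⊓ Cfsg.Spor.J1)
    (cents.map fun c => glOf c.1 * glOf c.2) (by
      intro z hz
      obtain ⟨h1, h2⟩ := Subgroup.mem_inf.mp hz
      rw [J1_eq] at h2
      have hzt : z * glOf tc = glOf tc * z :=
        ((Subgroup.mem_centralizer_iff.mp h1) (glOf tc) (Set.mem_singleton _)).symm
      exact cent_enum gens b1 T1 b2 T2 gens_ok chain_ok' tc t_inv cents cents_ok z h2 hzt)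
  rwa [List.length_map, cents_len] at h

/-- the centralizer of an involution of `J₁` is `Z₂ × A₅` -/
theorem main : ∃ t : ↥Cfsg.Spor.J1, orderOf t = 2 ∧
    Nonempty (↥(Subgroup.centralizer ({t} : Set ↥Cfsg.Spor.J1)) ≃*
      Multiplicative (ZMod 2) × ↥(alternatingGroup (Fin 5))) := by
  refine ⟨⟨glOf tc, t_mem_J1⟩, ?_, ?_⟩
  · rw [← Subgroup.orderOf_coe]
    exact t_order
  · obtain ⟨e0⟩ := cent_equiv Cfsg.Spor.J1 ⟨glOf tc, t_mem_J1⟩
    haveI : IsSimpleGroup K := simple_K
    obtain ⟨e3⟩ := Cfsg.Agent.S0494.result (G := K) card_K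
    have htC : glOf tc ∈ Subgroup.centralizer {glOf tc} ⊓ Cfsg.Spor.J1 := by
      rw [Subgroup.mem_inf, Subgroup.mem_centralizer_iff]
      refine ⟨?_, t_mem_J1⟩
      intro h hh
      rw [Set.mem_singleton_iff] at hh
      rw [hh]
    obtain ⟨e1⟩ := prod_iso (Subgroup.centralizer {glOf tc} ⊓ Cfsg.Spor.J1) K (glOf tc)
      t_order htC K_le comm_K t_notin_K (by rw [card_K]; exact card_C_le)
    exact ⟨e0.trans (e1.trans (MulEquiv.prodCongr (MulEquiv.refl _) e3))⟩

end Cfsg.Agent.Lib.Helper28.J1Cent
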