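import Cfsg.Agent.Lib.Helper28.J1Data

/-!
# Kernel-checked certificates for `J₁ ≤ GL₇(11)`
-/

set_option autoImplicit false

namespace Cfsg.Agent.Lib.Helper28.J1Cert

open Cfsg.Agent.Lib.Helper28.BSGSMat Cfsg.Agent.Lib.Helper28.J1Data

theorem gens_ok : gensOK gens = true := by decide +kernel

theorem chain_ok : checkChain gens levels = true := by decide +kernel

theorem size_ok : codeSize levels = 175560 := by decide +kernel

end Cfsg.Agent.Lib.Helper28.J1Cert
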