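import Cfsg.Agent.Lib.Helper28.J1Cert

/-!
# Kernel-checked certificates for `J₁ ≤ GL₇(11)`, second part

Factorizations of the generators, words for the strong generators, and the centre.
-/

set_option autoImplicit false

namespace Cfsg.Agent.Lib.Helper28.J1Cert

open Cfsg.Agent.Lib.Helper28.BSGSMat Cfsg.Agent.Lib.Helper28.J1Data

theorem prods5_ok : prodsOK levels 5 [xc, yc] fs5 = true := by decide +kernel

theorem prods7_ok : prodsOK levels 7 [xc, yc] fs7 = true := by decide +kernel

theorem prods11_ok : prodsOK levels 11 [xc, yc] fs11 = true := by decide +kernel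

theorem prods19_ok : prodsOK levels 19 [xc, yc] fs19 = true := by decide +kernel

theorem wa_ok : wordEqB [decM ac] (wordM xc yc wa) = true := by decide +kernel

theorem wc_ok : wordEqB [decM cc] (wordM xc yc wc) = true := by decide +kernel

theorem fix_ok : Nat.beq (key (mv (decM ac) (unkey b1))) b1 = true := by decide +kernel

theorem cent_ok : centOK ac xc yc T1 T2 = true := by decide +kernel

end Cfsg.Agent.Lib.Helper28.J1Cert
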