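import Cfsg.Agent.Lib.Helper28.J2Cert
import Cfsg.Agent.Lib.Helper28.Rank3Gen
import Cfsg.Prelude.Def_Sporadic

/-!
# The Hall–Janko group

The group generated by six explicit permutations of 100 points has order `604800`
(verified Schreier–Sims certificate) and is simple (rank 3 criterion).
-/

set_option autoImplicit false

namespace Cfsg.Agent.Lib.Helper28.J2

open BSGS J2Data

attribute [local irreducible] checkChain prodsOK orbitOK codeSize gensOK siftB levelOK

/-- the Hall–Janko group -/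
def G : Subgroup (Equiv.Perm (Fin 100)) := genGroup 100 7 gens

theorem card_G : Nat.card G = 604800 := by
  rw [← size_ok]
  exact (perm_main 100 7 gens _ gens_ok chain_ok).1

/-- a subgroup of the stabilizer of the first point -/
def H : Subgroup (Equiv.Perm (Fin 100)) := genGroup 100 7 (nextGens 7 gens 0)

theorem mem_A {x : Fin 100} : x ∈ A ↔ ∃ e ∈ tr1, e.1 = x.val := by
  unfold A
  rw [Finset.mem_filter, List.any_eq_true]
  simp only [Finset.mem_univ, true_and, beq_iff_eq]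

theorem mem_B {x : Fin 100} : x ∈ B ↔ x.val ∈ (37 :: orb63) := by
  unfold B
  rw [Finset.mem_filter, List.contains_iff_mem]
  simp only [Finset.mem_univ, true_and]

theorem pt_zero : pt 100 0 = (⟨0, by norm_num⟩ : Fin 100) :=
  Fin.ext (pt_val 100 (by norm_num))

theorem trans_G : ∀ x : Fin 100, ∃ g ∈ G, g (pt 100 0) = x := by
  intro x
  have h1 := tr0_all x
  rw [List.any_eq_true] at h1
  obtain ⟨e, he, h2⟩ := h1
  have hex : e.1 = x.val := beq_iff_eq.mp h2
  obtain ⟨g, hg, hgb⟩ := perm_reach 100 7 gens (0, tr0) rest1 gens_ok chain_ok e he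
  refine ⟨g, hg, ?_⟩
  have hgb' : g (pt 100 0) = pt 100 e.1 := hgb
  rw [hgb', hex, pt_of_val]

theorem H_le : H ≤ G ∧ ∀ h ∈ H, h (pt 100 0) = pt 100 0 :=
  nextGens_le 100 7 gens 0 (by norm_num) gens_ok

theorem chain_ok1 : checkChain 100 7 (nextGens 7 gens 0) ((1, tr1) :: rest2) = true := by
  have h := checkChain_tail 100 7 0 tr0 rest1 chain_ok
  have hr : rest1 = (1, tr1) :: rest2 := rfl
  rw [hr] at h
  exact h

theorem H_A : ∀ e ∈ tr1, ∃ g ∈ H, g (pt 100 1) = pt 100 e.1 := by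
  intro e he
  obtain ⟨g, hg, hgb⟩ := perm_reach 100 7 (nextGens 7 gens 0) (1, tr1) rest2
    (gensOK_next 100 7 gens_ok 0) chain_ok1 e he
  exact ⟨g, hg, hgb⟩

theorem H_B : ∀ x ∈ orb63, x < 100 ∧ ∃ g ∈ H, g (pt 100 37) = pt 100 x :=
  perm_orbit 100 7 (nextGens 7 gens 0) (gensOK_next 100 7 gens_ok 0) 37 (by norm_num) orb63
    orb63_ok

theorem trans_of_reach {K : Subgroup (Equiv.Perm (Fin 100))} {c : Fin 100}
    {S : Finset (Fin 100)} (h : ∀ x ∈ S, ∃ g ∈ K, g c = x) :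
    ∀ x ∈ S, ∀ y ∈ S, ∃ k ∈ K, k x = y := by
  intro x hx y hy
  obtain ⟨g1, hg1, h1⟩ := h x hx
  obtain ⟨g2, hg2, h2⟩ := h y hy
  refine ⟨g2 * g1⁻¹, K.mul_mem hg2 (K.inv_mem hg1), ?_⟩
  have hinv1 : g1⁻¹ (g1 c) = c := g1.symm_apply_apply c
  rw [Equiv.Perm.mul_apply, ← h1, hinv1, h2]

theorem reach_A : ∀ x ∈ A, ∃ g ∈ H, g (pt 100 1) = x := by
  intro x hx
  obtain ⟨e, he, hex⟩ := mem_A.mp hx
  obtain ⟨g, hg, hgb⟩ := H_A e he
  exact ⟨g, hg, by rw [hgb, hex, pt_of_val]⟩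

theorem reach_B : ∀ x ∈ B, ∃ g ∈ H, g (pt 100 37) = x := by
  intro x hx
  have hx' := mem_B.mp hx
  rcases List.mem_cons.mp hx' with h37 | hmem
  · refine ⟨1, H.one_mem, ?_⟩
    rw [Equiv.Perm.one_apply, ← h37, pt_of_val]
  · obtain ⟨_, g, hg, hgb⟩ := H_B x.val hmem
    exact ⟨g, hg, by rw [hgb, pt_of_val]⟩

theorem cover : ∀ x : Fin 100, x = pt 100 0 ∨ x ∈ A ∨ x ∈ B := by
  intro x
  have h := cover_all x
  simp only [Bool.or_eq_true, beq_iff_eq] at h
  rcases h with (h | h) | h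
  · left
    apply Fin.ext
    rw [h, pt_val 100 (by norm_num)]
  · right; left
    unfold A
    rw [Finset.mem_filter]
    exact ⟨Finset.mem_univ _, h⟩
  · right; right
    unfold B
    rw [Finset.mem_filter]
    exact ⟨Finset.mem_univ _, h⟩

theorem G_simple : IsSimpleGroup G := by
  have hnt : Nontrivial G := by
    rw [← Finite.one_lt_card_iff_nontrivial, card_G]
    norm_num
  refine Rank3.simple_of_rank3_pgens G (pt 100 0) A B 5 2 (by norm_num) ?_ ?_ hnt trans_G H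
    H_le.1 H_le.2 (trans_of_reach reach_A) (trans_of_reach reach_B) cover ?_ ?_ ?_ ?_
    {s | s ∈ semGens 100 7 gens} (le_refl _) ?_
  · rw [Fintype.card_fin]; norm_num
  · rw [card_G]; norm_num
  · rw [pt_zero]; exact zero_notMem_A
  · rw [pt_zero]; exact zero_notMem_B
  · rw [card_A, Fintype.card_fin]; norm_num
  · rw [card_B, Fintype.card_fin]; norm_num
  · intro t ht
    exact prodsOK_sound 100 7 gens _ gens_ok chain_ok 5 fives prods_ok t ht

theorem exists_J2 : ∃ G : Subgroup (Equiv.Perm (Fin 100)), Cfsg.IsJ2 G :=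
  ⟨G, G_simple, card_G⟩

end Cfsg.Agent.Lib.Helper28.J2
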