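import Cfsg.Agent.Lib.Helper28.J2Data

/-!
# Kernel-checked certificates for the Hall–Janko group
-/

set_option autoImplicit false
set_option maxRecDepth 100000

namespace Cfsg.Agent.Lib.Helper28.J2

open BSGS J2Data

theorem gens_ok : gensOK 100 7 gens = true := by decide +kernel

theorem chain_ok : checkChain 100 7 gens ((0, tr0) :: rest1) = true := by decide +kernel

theorem prods_ok : prodsOK 100 7 ((0, tr0) :: rest1) 5 gens fives = true := by decide +kernel

theorem orb63_ok : orbitOK 7 (nextGens 7 gens 0) [37] orb63 = true := by decide +kernel

theorem size_ok : codeSize ((0, tr0) :: rest1) = 604800 := by decide +kernel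

theorem tr0_all : ∀ y : Fin 100, (tr0.any fun e => e.1 == y.val) = true := by decide +kernel

theorem cover_all : ∀ x : Fin 100, (x.val == 0 || (tr1.any fun e => e.1 == x.val) ||
    (37 :: orb63).contains x.val) = true := by decide +kernel

/-- the first suborbit -/
def A : Finset (Fin 100) :=
  Finset.univ.filter fun x : Fin 100 => (tr1.any fun e => e.1 == x.val) = true

/-- the second suborbit -/
def B : Finset (Fin 100) :=
  Finset.univ.filter fun x : Fin 100 => ((37 :: orb63).contains x.val) = true

theorem card_A : A.card = 36 := by decide +kernel

theorem card_B : B.card = 63 := by decide +kernel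

theorem zero_notMem_A : (⟨0, by norm_num⟩ : Fin 100) ∉ A := by decide +kernel

theorem zero_notMem_B : (⟨0, by norm_num⟩ : Fin 100) ∉ B := by decide +kernel

end Cfsg.Agent.Lib.Helper28.J2
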