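import Cfsg.Agent.Lib.Helper28.J3Gen
import Cfsg.Agent.Lib.Helper28.J3Data

/-!
# Certificates for the generators of the triple cover of `J₃`

Generated by a script.
-/

set_option autoImplicit false

namespace Cfsg.Agent.Lib.Helper28.J3Cert

open Cfsg.Spor Cfsg.Agent.Lib.Helper28.F4 Cfsg.Agent.Lib.Helper28.J3Data

/-- the code is valid and sifts through the chain -/
def genOK (c : ℕ) : Bool := invOK c && siftP levels [c] [] []

theorem certA : ∀ Z : F9, (symOK (symA Z) (codeA Z) && genOK (codeA Z)) = true := by decide +kernel

theorem certE : ∀ Z : F9, (symOK (symE Z) (codeE Z) && genOK (codeE Z)) = true := by decide +kernel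

theorem certD : ∀ Z : F9, (symOK (symD Z) (codeD Z) && genOK (codeD Z)) = true := by decide +kernel

theorem certB : ∀ Z : F9, Z ≠ 0 → (symOK (symB Z) (codeB Z) && genOK (codeB Z)) = true := by
  decide +kernel

theorem certC : ∀ Z : F9, Z ≠ 0 → (symOK (symC Z) (codeC Z) && genOK (codeC Z)) = true := by
  decide +kernel

theorem certS : (symOK symS sc && genOK sc) = true := by decide +kernel

theorem xw_ok : wordEqB [xc] xwc = true := by decide +kernel

theorem yw_ok : wordEqB [yc] ywc = true := by decide +kernel

theorem prods5_ok : prodsOK levels 5 gens fs5 = true := by decide +kernel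

theorem prods17_ok : prodsOK levels 17 gens fs17 = true := by decide +kernel

theorem prods19_ok : prodsOK levels 19 gens fs19 = true := by decide +kernel

theorem sc_cube : wordEqB [sc, sc, sc] [] = true := by decide +kernel

end Cfsg.Agent.Lib.Helper28.J3Cert
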