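import Cfsg.Agent.Lib.Helper28.PGenSimple3

/-!
# Simplicity of the central quotient of a group generated by elements of prime order

The criterion of `PGenSimple3` for a generated subgroup, and the passage to the quotient by the
centre.
-/

set_option autoImplicit false

namespace Cfsg.Agent.Lib.Helper28.PGenSimple

/-- every normal subgroup of the generated subgroup is the whole group or central -/
theorem normal_top_or_central_closure {G₀ : Type*} [Group G₀] [Finite G₀] (S₀ : Set G₀)
    (m p : ℕ) (R : List ℕ)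
    (hcard : Nat.card (Subgroup.closure S₀) = m * R.prod)
    (hR : ∀ r ∈ R, r.Prime ∧ ¬ r * r ∣ Nat.card (Subgroup.closure S₀)) (hp : p ∈ R)
    (hord : ∀ q k : ℕ, q.Prime → 1 ≤ k → q ^ k ∣ m → ¬ p ∣ q ^ k - 1)
    (hprod : ∀ r ∈ R, ∀ t ∈ S₀,
      ∃ a ∈ Subgroup.closure S₀, ∃ b ∈ Subgroup.closure S₀, a ^ r = 1 ∧ b ^ r = 1 ∧ t = a * b)
    (N : Subgroup (Subgroup.closure S₀)) [N.Normal] :
    N = ⊤ ∨ N ≤ Subgroup.center (Subgroup.closure S₀) := by
  apply normal_top_or_central (((↑) : Subgroup.closure S₀ → G₀) ⁻¹' S₀)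
    Subgroup.closure_closure_coe_preimage m p R hcard hR hp hord
  intro r hr t ht
  obtain ⟨a, ha, b, hb, har, hbr, hab⟩ := hprod r hr t.1 ht
  refine ⟨⟨a, ha⟩, ⟨b, hb⟩, Subtype.ext ?_, Subtype.ext ?_, Subtype.ext hab⟩
  · rw [Subgroup.coe_pow]; exact har
  · rw [Subgroup.coe_pow]; exact hbr

/-- the quotient by the centre is simple if every normal subgroup is the whole group or central -/
theorem simple_quotient_center {G : Type*} [Group G] (h1 : Subgroup.center G ≠ ⊤)
    (h : ∀ N : Subgroup G, N.Normal → N = ⊤ ∨ N ≤ Subgroup.center G) :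
    IsSimpleGroup (G ⧸ Subgroup.center G) := by
  haveI : Nontrivial (G ⧸ Subgroup.center G) := by
    rw [← not_subsingleton_iff_nontrivial, QuotientGroup.subsingleton_iff]
    exact h1
  refine ⟨fun N hN => ?_⟩
  have hsurj : Function.Surjective (QuotientGroup.mk' (Subgroup.center G)) :=
    QuotientGroup.mk'_surjective _
  have hNmap : (N.comap (QuotientGroup.mk' (Subgroup.center G))).map
      (QuotientGroup.mk' (Subgroup.center G)) = N :=
    Subgroup.map_comap_eq_self_of_surjective hsurj N
  rcases h (N.comap (QuotientGroup.mk' (Subgroup.center G))) (hN.comap _) with h2 | h2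
  · right
    rw [← hNmap, h2, ← MonoidHom.range_eq_map, MonoidHom.range_eq_top]
    exact hsurj
  · left
    rw [eq_bot_iff, ← hNmap]
    calc (N.comap (QuotientGroup.mk' (Subgroup.center G))).map
          (QuotientGroup.mk' (Subgroup.center G))
        ≤ (Subgroup.center G).map (QuotientGroup.mk' (Subgroup.center G)) := Subgroup.map_mono h2
      _ = ⊥ := QuotientGroup.map_mk'_self _

end Cfsg.Agent.Lib.Helper28.PGenSimple
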