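import Cfsg.Agent.Lib.Helper28.J3CertAll
import Cfsg.Agent.Lib.Helper28.J3GenCert
import Cfsg.Agent.Lib.Helper28.PGenSimple4

/-!
# The triple cover of the Janko group `J₃`

The group `Cfsg.Spor.threeJ3 F ω` generated by the 43 matrices of the definitions is generated by
two elements of orders 19 and 17; a verified stabilizer chain gives its order 150698880, its centre
consists of the scalar matrices, and the central quotient is simple.
-/

set_option autoImplicit false

namespace Cfsg.Agent.Lib.Helper28.J3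

open Cfsg.Spor Cfsg.Agent.Lib.Helper28.F4 Cfsg.Agent.Lib.Helper28.J3Data
open Cfsg.Agent.Lib.Helper28.J3Cert Cfsg.Agent.Lib.Helper28.PGenSimple
open scoped MatrixGroups

section
variable {F : Type*} [Field F] {ω : F} [hd : Data F ω]

/-- the field element of a code -/
def ofC (ω : F) (n : ℕ) : F := bitF F (n.testBit 0) + bitF F (n.testBit 1) * ω

omit hd in
theorem ofC_zero : ofC ω 0 = 0 := by simp [ofC, bitF]

omit hd in
theorem ofC_one : ofC ω 1 = 1 := by
  have h0 : Nat.testBit 1 0 = true := by decide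
  have h1 : Nat.testBit 1 1 = false := by decide
  simp [ofC, bitF, h0, h1]

omit hd in
theorem ofC_two : ofC ω 2 = ω := by
  have h0 : Nat.testBit 2 0 = false := by decide
  have h1 : Nat.testBit 2 1 = true := by decide
  simp [ofC, bitF, h0, h1]

theorem ofC_three : ofC ω 3 = ω ^ 2 := by
  have h0 : Nat.testBit 3 0 = true := by decide
  have h1 : Nat.testBit 3 1 = true := by decide
  rw [om_sq]
  simp [ofC, bitF, h0, h1]
  ring

theorem testBit_col (c k m : ℕ) (hm : m < 18) : (col c k).testBit m = c.testBit (18 * k + m) := by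
  show ((c >>> (18 * k)) &&& 262143).testBit m = _
  rw [Nat.testBit_and, Nat.testBit_shiftRight, testBit_262143]
  simp [hm]

theorem toNat_pair_bits (a b : Bool) :
    (a.toNat + 2 * b.toNat).testBit 0 = a ∧ (a.toNat + 2 * b.toNat).testBit 1 = b := by
  cases a <;> cases b <;> decide

omit hd in
theorem matOf_entry (c : ℕ) (i j : F9) : matOf ω c i j = ofC ω (entC c i j) := by
  have hi := idx_lt i
  show bitF F ((col c (idx j)).testBit (idx i)) +
    bitF F ((col c (idx j)).testBit (9 + idx i)) * ω = ofC ω (entC c i j)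
  rw [testBit_col _ _ _ (by omega), testBit_col _ _ _ (by omega)]
  unfold ofC entC
  rw [(toNat_pair_bits _ _).1, (toNat_pair_bits _ _).2, ← Nat.add_assoc]

omit hd in
theorem gen_eq {f : F9 → F9 → ℕ} {c : ℕ} (h : symOK f c = true) {P : Matrix F9 F9 F}
    (hP : ∀ i j, P i j = ofC ω (f i j)) : matOf ω c = P := by
  unfold symOK at h
  ext i j
  rw [matOf_entry, of_decide_eq_true h i j, hP]

theorem ofC_pw (n : ZMod 3) : ofC ω (pw n) = omegaPow F ω n := by
  have h : ∀ n : ZMod 3, n = 0 ∨ n = 1 ∨ n = 2 := by decide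
  rcases h n with rfl | rfl | rfl
  · show ofC ω 1 = ω ^ 0
    rw [ofC_one, pow_zero]
  · show ofC ω 2 = ω ^ 1
    rw [ofC_two, pow_one]
  · show ofC ω 3 = ω ^ 2
    exact ofC_three

theorem j3A_entry (Z i j : F9) : j3A F ω Z i j = ofC ω (symA Z i j) := by
  unfold j3A symA
  rw [Matrix.diagonal_apply]
  split_ifs with h
  · exact (ofC_pw _).symm
  · exact ofC_zero.symm

theorem j3E_entry (Z i j : F9) : j3E F ω Z i j = ofC ω (symE Z i j) := by
  unfold j3E symE
  rw [Matrix.diagonal_apply]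
  split_ifs with h
  · exact (ofC_pw _).symm
  · exact ofC_zero.symm

theorem ofC_lamC (Z z : F9) : ofC ω (lamC Z z) = j3Lam F ω Z z := by
  unfold lamC j3Lam
  split_ifs
  · exact ofC_one
  · exact ofC_two
  · exact ofC_three
  · exact ofC_one

theorem j3D_entry (Z w z : F9) : j3D F ω Z w z = ofC ω (symD Z w z) := by
  unfold j3D symD
  rw [Matrix.of_apply]
  split_ifs
  · exact (ofC_lamC Z z).symm
  · exact ofC_zero.symm

omit hd in
theorem j3B_entry (Z w z : F9) : j3B F Z w z = ofC ω (symB Z w z) := by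
  unfold j3B symB
  rw [Matrix.of_apply]
  split_ifs
  · exact ofC_one.symm
  · exact ofC_zero.symm

omit hd in
theorem j3C_entry (Z w z : F9) : j3C F Z w z = ofC ω (symC Z w z) := by
  unfold j3C symC
  rw [Matrix.of_apply]
  split_ifs
  · exact ofC_one.symm
  · exact ofC_zero.symm
  · exact ofC_one.symm
  · exact ofC_zero.symm

omit hd in
theorem scal_entry (i j : F9) : (ω • (1 : Matrix F9 F9 F)) i j = ofC ω (symS i j) := by
  unfold symS
  rw [Matrix.smul_apply, Matrix.one_apply]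
  split_ifs
  · rw [ofC_two, smul_eq_mul, mul_one]
  · rw [ofC_zero, smul_zero]

/-! ### the generators lie in both groups -/

theorem cert_split {f : F9 → F9 → ℕ} {c : ℕ} (h : (symOK f c && genOK c) = true) :
    symOK f c = true ∧ invOK c = true ∧ siftP levels [c] [] [] = true := by
  unfold genOK at h
  simp only [Bool.and_eq_true] at h
  exact ⟨h.1, h.2.1, h.2.2⟩

theorem glOf_eq_of_val {c : ℕ} (hinv : invOK c = true) {g : GL F9 F}
    (h : (g : Matrix F9 F9 F) = matOf ω c) : g = glOf ω c := by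
  apply Units.ext
  rw [h, glOf_val hinv]

variable [Fintype F]

theorem sift_mem {c : ℕ} (hinv : invOK c = true) (hs : siftP levels [c] [] [] = true) :
    glOf ω c ∈ genGroup ω gens :=
  (mat_main (ω := ω) gens levels gens_valid chain_ok).2.1 _ _ (glOf_acts hinv) hs

theorem gen_mem_three {c : ℕ} (hinv : invOK c = true)
    (h : matOf ω c ∈ j3Gens F ω) : glOf ω c ∈ threeJ3 F ω := by
  apply Subgroup.subset_closure
  show ((glOf ω c : GL F9 F) : Matrix F9 F9 F) ∈ j3Gens F ω
  rw [glOf_val hinv]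
  exact h

theorem memA (Z : F9) : invOK (codeA Z) = true ∧ glOf ω (codeA Z) ∈ threeJ3 F ω := by
  obtain ⟨h1, h2, _⟩ := cert_split (certA Z)
  refine ⟨h2, gen_mem_three h2 ?_⟩
  rw [gen_eq h1 (j3A_entry (ω := ω) Z)]
  exact Or.inl (Or.inl (Or.inl (Or.inl ⟨Z, rfl⟩)))

theorem memE (Z : F9) : invOK (codeE Z) = true ∧ glOf ω (codeE Z) ∈ threeJ3 F ω := by
  obtain ⟨h1, h2, _⟩ := cert_split (certE Z)
  refine ⟨h2, gen_mem_three h2 ?_⟩
  rw [gen_eq h1 (j3E_entry (ω := ω) Z)]
  exact Or.inl (Or.inl (Or.inl (Or.inr ⟨Z, rfl⟩)))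

theorem memD (Z : F9) : invOK (codeD Z) = true ∧ glOf ω (codeD Z) ∈ threeJ3 F ω := by
  obtain ⟨h1, h2, _⟩ := cert_split (certD Z)
  refine ⟨h2, gen_mem_three h2 ?_⟩
  rw [gen_eq h1 (j3D_entry (ω := ω) Z)]
  exact Or.inl (Or.inl (Or.inr ⟨Z, rfl⟩))

theorem memB (Z : F9) (hZ : Z ≠ 0) :
    invOK (codeB Z) = true ∧ glOf ω (codeB Z) ∈ threeJ3 F ω := by
  obtain ⟨h1, h2, _⟩ := cert_split (certB Z hZ)
  refine ⟨h2, gen_mem_three h2 ?_⟩
  rw [gen_eq h1 (j3B_entry (ω := ω) Z)]
  exact Or.inl (Or.inr ⟨Z, hZ, rfl⟩)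

theorem memC (Z : F9) (hZ : Z ≠ 0) :
    invOK (codeC Z) = true ∧ glOf ω (codeC Z) ∈ threeJ3 F ω := by
  obtain ⟨h1, h2, _⟩ := cert_split (certC Z hZ)
  refine ⟨h2, gen_mem_three h2 ?_⟩
  rw [gen_eq h1 (j3C_entry (ω := ω) Z)]
  exact Or.inr ⟨Z, hZ, rfl⟩

theorem three_le : threeJ3 F ω ≤ genGroup ω gens := by
  unfold threeJ3
  rw [Subgroup.closure_le]
  intro g hg
  have hg' : (g : Matrix F9 F9 F) ∈ j3Gens F ω := hg
  rcases hg' with (((⟨Z, hZ⟩ | ⟨Z, hZ⟩) | ⟨Z, hZ⟩) | ⟨Z, hZ0, hZ⟩) | ⟨Z, hZ0, hZ⟩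
  · obtain ⟨h1, h2, h3⟩ := cert_split (certA Z)
    rw [glOf_eq_of_val h2 (hZ.symm.trans (gen_eq h1 (j3A_entry (ω := ω) Z)).symm)]
    exact sift_mem h2 h3
  · obtain ⟨h1, h2, h3⟩ := cert_split (certE Z)
    rw [glOf_eq_of_val h2 (hZ.symm.trans (gen_eq h1 (j3E_entry (ω := ω) Z)).symm)]
    exact sift_mem h2 h3
  · obtain ⟨h1, h2, h3⟩ := cert_split (certD Z)
    rw [glOf_eq_of_val h2 (hZ.symm.trans (gen_eq h1 (j3D_entry (ω := ω) Z)).symm)]
    exact sift_mem h2 h3
  · obtain ⟨h1, h2, h3⟩ := cert_split (certB Z hZ0)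
    rw [glOf_eq_of_val h2 (hZ.trans (gen_eq h1 (j3B_entry (ω := ω) Z)).symm)]
    exact sift_mem h2 h3
  · obtain ⟨h1, h2, h3⟩ := cert_split (certC Z hZ0)
    rw [glOf_eq_of_val h2 (hZ.trans (gen_eq h1 (j3C_entry (ω := ω) Z)).symm)]
    exact sift_mem h2 h3

omit [Fintype F] in
theorem word_mem (H : Subgroup (GL F9 F)) : ∀ ws : List ℕ,
    (∀ c ∈ ws, invOK c = true ∧ glOf ω c ∈ H) → ∃ g ∈ H, ActsBy ω g ws := by
  intro ws
  induction ws with
  | nil => intro _; exact ⟨1, H.one_mem, actsBy_one⟩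
  | cons c ws ih =>
    intro h
    obtain ⟨g, hg, hact⟩ := ih fun c' hc' => h c' (List.mem_cons_of_mem _ hc')
    obtain ⟨h1, h2⟩ := h c List.mem_cons_self
    exact ⟨glOf ω c * g, H.mul_mem h2 hg, actsBy_cons (glOf_acts h1) hact⟩

theorem xwc_mem : ∀ c ∈ xwc, invOK c = true ∧ glOf ω c ∈ threeJ3 F ω := by
  intro c hc
  simp only [xwc, List.mem_cons, List.not_mem_nil, or_false] at hc
  rcases hc with rfl | rfl | rfl | rfl | rfl | rfl | rfl | rfl | rfl | rfl | rfl | rfl | rfl | rfl | rfl | rfl | rfl | rfl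
  · exact memC (0, 2) (by decide)
  · exact memB (1, 1) (by decide)
  · exact memD (1, 1)
  · exact memE (0, 0)
  · exact memE (2, 0)
  · exact memB (1, 1) (by decide)
  · exact memC (0, 2) (by decide)
  · exact memB (1, 1) (by decide)
  · exact memD (1, 1)
  · exact memE (0, 0)
  · exact memE (2, 0)
  · exact memB (1, 1) (by decide)
  · exact memC (0, 2) (by decide)
  · exact memB (1, 1) (by decide)
  · exact memD (1, 1)
  · exact memE (0, 0)
  · exact memE (2, 0)
  · exact memB (1, 1) (by decide)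

theorem ywc_mem : ∀ c ∈ ywc, invOK c = true ∧ glOf ω c ∈ threeJ3 F ω := by
  intro c hc
  simp only [ywc, List.mem_cons, List.not_mem_nil, or_false] at hc
  rcases hc with rfl | rfl | rfl | rfl | rfl | rfl | rfl | rfl | rfl | rfl | rfl | rfl | rfl | rfl | rfl | rfl | rfl | rfl | rfl | rfl | rfl | rfl | rfl | rfl | rfl | rfl | rfl
  · exact memD (2, 0)
  · exact memA (0, 1)
  · exact memB (1, 0) (by decide)
  · exact memA (2, 0)
  · exact memE (0, 0)
  · exact memE (1, 0)
  · exact memC (1, 1) (by decide)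
  · exact memA (0, 2)
  · exact memA (0, 0)
  · exact memD (2, 0)
  · exact memA (0, 1)
  · exact memB (1, 0) (by decide)
  · exact memA (2, 0)
  · exact memE (0, 0)
  · exact memE (1, 0)
  · exact memC (1, 1) (by decide)
  · exact memA (0, 2)
  · exact memA (0, 0)
  · exact memD (2, 0)
  · exact memA (0, 1)
  · exact memB (1, 0) (by decide)
  · exact memA (2, 0)
  · exact memE (0, 0)
  · exact memE (1, 0)
  · exact memC (1, 1) (by decide)
  · exact memA (0, 2)
  · exact memA (0, 0)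

theorem xc_valid : invOK xc = true := gens_valid xc (by simp [gens])

theorem yc_valid : invOK yc = true := gens_valid yc (by simp [gens])

theorem le_three : genGroup ω gens ≤ threeJ3 F ω := by
  unfold genGroup
  rw [Subgroup.closure_le]
  intro s hs
  have hs' : s ∈ semGens ω gens := hs
  unfold semGens at hs'
  simp only [gens, List.map_cons, List.map_nil, List.mem_cons, List.not_mem_nil, or_false] at hs'
  rcases hs' with rfl | rfl
  · obtain ⟨g, hg, hact⟩ := word_mem (threeJ3 F ω) xwc xwc_mem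
    rw [eq_of_wordEqB (glOf_acts xc_valid) hact xw_ok]
    exact hg
  · obtain ⟨g, hg, hact⟩ := word_mem (threeJ3 F ω) ywc ywc_mem
    rw [eq_of_wordEqB (glOf_acts yc_valid) hact yw_ok]
    exact hg

theorem three_eq : threeJ3 F ω = genGroup ω gens := le_antisymm three_le le_three

theorem card_gen : Nat.card (genGroup ω gens) = 150698880 := by
  rw [(mat_main (ω := ω) gens levels gens_valid chain_ok).1, size_ok]

theorem card_three : Nat.card (threeJ3 F ω) = 150698880 := by
  rw [three_eq, card_gen]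

end

end Cfsg.Agent.Lib.Helper28.J3
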