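import Cfsg.Agent.Lib.Helper28.J3AutDefs

/-!
# Certificates for the automorphisms of `J₃`: the table of involutions, part 1

Generated by a script.
-/

set_option autoImplicit false

namespace Cfsg.Agent.Lib.Helper28.J3AutCert

open Cfsg.Agent.Lib.Helper28.F4 Cfsg.Agent.Lib.Helper28.J3Data Cfsg.Agent.Lib.Helper28.J3AutData
open Cfsg.Agent.Lib.Helper28.BSGSMat (Tree Entry sortedB)

set_option maxRecDepth 1000000 in
theorem iv0_ok : ((chunkN 1024 IV.toList 0).all ivOK) = true := by
  decide +kernel

set_option maxRecDepth 1000000 in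
theorem iv1_ok : ((chunkN 1024 IV.toList 1).all ivOK) = true := by
  decide +kernel

set_option maxRecDepth 1000000 in
theorem iv2_ok : ((chunkN 1024 IV.toList 2).all ivOK) = true := by
  decide +kernel

set_option maxRecDepth 1000000 in
theorem iv3_ok : ((chunkN 1024 IV.toList 3).all ivOK) = true := by
  decide +kernel

end Cfsg.Agent.Lib.Helper28.J3AutCert
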