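import Cfsg.Agent.Lib.Helper28.J3AutCert0
import Cfsg.Agent.Lib.Helper28.J3AutCert1
import Cfsg.Agent.Lib.Helper28.J3AutCert2
import Cfsg.Agent.Lib.Helper28.J3AutCert3
import Cfsg.Agent.Lib.Helper28.J3AutCert4
import Cfsg.Agent.Lib.Helper28.J3AutCert5
import Cfsg.Agent.Lib.Helper28.J3AutCert6
import Cfsg.Agent.Lib.Helper28.J3AutCert7

/-!
# Certificates for the automorphisms of `J₃`: all entries of the table of involutions

Generated by a script.
-/

set_option autoImplicit false

namespace Cfsg.Agent.Lib.Helper28.J3AutCert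

open Cfsg.Agent.Lib.Helper28.F4 Cfsg.Agent.Lib.Helper28.J3Data Cfsg.Agent.Lib.Helper28.J3AutData
open Cfsg.Agent.Lib.Helper28.BSGSMat (Tree Entry sortedB)

theorem iv_chunks : ∀ i, i < 26 → ((chunkN 1024 IV.toList i).all ivOK) = true := by
  intro i hi
  interval_cases i
  · exact iv0_ok
  · exact iv1_ok
  · exact iv2_ok
  · exact iv3_ok
  · exact iv4_ok
  · exact iv5_ok
  · exact iv6_ok
  · exact iv7_ok
  · exact iv8_ok
  · exact iv9_ok
  · exact iv10_ok
  · exact iv11_ok
  · exact iv12_ok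
  · exact iv13_ok
  · exact iv14_ok
  · exact iv15_ok
  · exact iv16_ok
  · exact iv17_ok
  · exact iv18_ok
  · exact iv19_ok
  · exact iv20_ok
  · exact iv21_ok
  · exact iv22_ok
  · exact iv23_ok
  · exact iv24_ok
  · exact iv25_ok

theorem iv_all : ∀ e ∈ IV.toList, ivOK e = true :=
  all_of_chunks (s := 1024) (by norm_num) IV.toList ivOK 26 (by rw [len_IV]; norm_num) iv_chunks

end Cfsg.Agent.Lib.Helper28.J3AutCert
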