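import Cfsg.Agent.Lib.Helper28.J3b
import Cfsg.Agent.Lib.Helper28.J3AutCertAll
import Cfsg.Agent.Lib.Helper28.OutTwo
import Cfsg.Prelude.Def_KGroupFacts

/-!
# The outer automorphism group of `J₃` has order two

`J₃ = ⟨a, b⟩` with `a` of order 19 (so `⟨a⟩` is a Sylow 19-subgroup) and `b` an involution.
Modulo inner automorphisms, an automorphism maps `a` to `a` or `a⁻¹`.  If it fixes `a`, then the
image of `b` is an involution, which lifts to an involution `t` of the triple cover; all
involutions of the triple cover are listed in a table (closed under conjugation, and containing the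
involutions of a Sylow 2-subgroup), and a kernel-checked enumeration shows that only the 19
conjugates of `b` under `⟨a⟩` satisfy the same relations with `a` as `b` does.  Hence the
automorphism is inner.  The field automorphism followed by a suitable conjugation normalizes the
triple cover, inverts `a` and inverts the centre; hence it induces an automorphism of `J₃` that is
not inner.
-/

set_option autoImplicit false

namespace Cfsg.Agent.Lib.Helper28.J3Aut

open Cfsg.Spor Cfsg.Agent.Lib.Helper28.F4 Cfsg.Agent.Lib.Helper28.J3Data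
open Cfsg.Agent.Lib.Helper28.J3Cert Cfsg.Agent.Lib.Helper28.J3AutData
open Cfsg.Agent.Lib.Helper28.J3AutCert Cfsg.Agent.Lib.Helper28.J3
open Cfsg.Agent.Lib.Helper28.OutTwo
open Cfsg.Agent.Lib.Helper28.BSGSMat (Tree Entry sortedB)
open scoped MatrixGroups

/-- the power of the relator is a scalar matrix -/
def relOK' (r : List Bool × ℕ) : Bool :=
  wordEqB (powW (cw xc tc r.1) r.2) [] || wordEqB (powW (cw xc tc r.1) r.2) [sc]

theorem rels_ok' : rels.all relOK' = true := by decide +kernel

section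
variable {F : Type*} [Field F] {ω : F} [hd : Data F ω]

theorem om_cube' : ω ^ 3 = 1 := by
  have h2 := add_self' hd.two ω
  calc ω ^ 3 = ω * ω ^ 2 := by ring
    _ = ω * (ω + 1) := by rw [om_sq]
    _ = ω ^ 2 + ω := by ring
    _ = (ω + 1) + ω := by rw [om_sq]
    _ = 1 + (ω + ω) := by ring
    _ = 1 := by rw [h2, add_zero]

/-- the elements of multiplicative order dividing three -/
theorem cube_cases {c : F} (h : c ^ 3 = 1) : c = 1 ∨ c = ω ∨ c = ω ^ 2 := by
  have h1 : (c - 1) * (c ^ 2 + c + 1) = 0 := by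
    calc (c - 1) * (c ^ 2 + c + 1) = c ^ 3 - 1 := by ring
      _ = 0 := by rw [h, sub_self]
  rcases mul_eq_zero.mp h1 with h2 | h2
  · left; exact sub_eq_zero.mp h2
  · right
    have h3 : (c - ω) * (c + ω + 1) = 0 := by
      calc (c - ω) * (c + ω + 1) = (c ^ 2 + c + 1) - (ω ^ 2 + ω + 1) := by ring
        _ = 0 := by rw [h2, hd.om, sub_self]
    rcases mul_eq_zero.mp h3 with h4 | h4
    · left; exact sub_eq_zero.mp h4
    · right
      rw [om_sq]
      have h5 := add_self' hd.two (ω + 1)
      linear_combination h4 - h5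

end

section
variable {F : Type*} [Field F] [Fintype F] {ω : F} [hd : Data F ω]

/-! ### central elements -/

theorem central_cases (hF : Fintype.card F = 4) (z : threeJ3 F ω)
    (hz : z ∈ Subgroup.center (threeJ3 F ω)) :
    ∃ c : F, (c = 1 ∨ c = ω ∨ c = ω ^ 2) ∧
      ((z : GL F9 F) : Matrix F9 F9 F) = c • (1 : Matrix F9 F9 F) := by
  refine ⟨((z : GL F9 F) : Matrix F9 F9 F) 0 0, ?_, central_scalar z hz⟩
  apply cube_cases
  have := FiniteField.pow_card_sub_one_eq_one _ (central_ne_zero z hz)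
  rwa [hF] at this

theorem central_cube (hF : Fintype.card F = 4) (z : threeJ3 F ω)
    (hz : z ∈ Subgroup.center (threeJ3 F ω)) : z ^ 3 = 1 := by
  have h := pow_card_eq_one' (G := Subgroup.center (threeJ3 F ω)) (x := ⟨z, hz⟩)
  rw [center_card hF] at h
  have := congrArg Subtype.val h
  rwa [Subgroup.coe_pow] at this

theorem not_central (hF : Fintype.card F = 4) {c : ℕ} (hinv : invOK c = true)
    (hmem : glOf ω c ∈ threeJ3 F ω) (h : scalB [c] = false) :
    (⟨glOf ω c, hmem⟩ : threeJ3 F ω) ∉ Subgroup.center (threeJ3 F ω) := by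
  intro hz
  obtain ⟨k, hk, hs⟩ := central_cases hF _ hz
  have h1 := scalB_of_scalar (glOf_acts hinv) hk hs
  rw [h] at h1
  exact Bool.false_ne_true h1

/-! ### the elements `x`, `y`, `t`, `n` of the triple cover -/

theorem tc_split : invOK tc = true ∧ siftP levels [tc] [] [] = true := by
  have h := tc_ok
  unfold memOK at h
  rwa [Bool.and_eq_true] at h

theorem nc_split : invOK nc = true ∧ siftP levels [nc] [] [] = true := by
  have h := nc_ok
  unfold memOK at h
  rwa [Bool.and_eq_true] at h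

theorem x_mem : glOf ω xc ∈ threeJ3 F ω := by
  rw [three_eq]; exact glOf_mem_genGroup (by simp [gens])

theorem y_mem : glOf ω yc ∈ threeJ3 F ω := by
  rw [three_eq]; exact glOf_mem_genGroup (by simp [gens])

theorem t_mem : glOf ω tc ∈ threeJ3 F ω := by
  rw [three_eq]; exact sift_mem tc_split.1 tc_split.2

theorem n_mem : glOf ω nc ∈ threeJ3 F ω := by
  rw [three_eq]; exact sift_mem nc_split.1 nc_split.2

/-- the element of order 19 -/
noncomputable def xT (F : Type*) [Field F] [Fintype F] (ω : F) [Data F ω] : threeJ3 F ω :=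
  ⟨glOf ω xc, x_mem⟩

/-- the element of order 17 -/
noncomputable def yT (F : Type*) [Field F] [Fintype F] (ω : F) [Data F ω] : threeJ3 F ω :=
  ⟨glOf ω yc, y_mem⟩

/-- the involution -/
noncomputable def tT (F : Type*) [Field F] [Fintype F] (ω : F) [Data F ω] : threeJ3 F ω :=
  ⟨glOf ω tc, t_mem⟩

/-- the element normalizing `⟨x⟩` -/
noncomputable def nT (F : Type*) [Field F] [Fintype F] (ω : F) [Data F ω] : threeJ3 F ω :=
  ⟨glOf ω nc, n_mem⟩

theorem xT_pow : xT F ω ^ 19 = 1 := by
  apply Subtype.ext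
  rw [Subgroup.coe_pow]
  exact eq_one_of_wordEqB (actsBy_pow (glOf_acts xc_valid) 19) x19

theorem yT_pow : yT F ω ^ 17 = 1 := by
  apply Subtype.ext
  rw [Subgroup.coe_pow]
  exact eq_one_of_wordEqB (actsBy_pow (glOf_acts yc_valid) 17) y17

theorem tT_sq : tT F ω * tT F ω = 1 := by
  apply Subtype.ext
  rw [Subgroup.coe_mul]
  exact eq_one_of_wordEqB (actsBy_cons (glOf_acts tc_split.1) (glOf_acts tc_split.1)) tc_sq

theorem nT_conj : nT F ω * xT F ω * (nT F ω)⁻¹ = xT F ω ^ 4 := by
  apply Subtype.ext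
  rw [Subgroup.coe_mul, Subgroup.coe_mul, Subgroup.coe_inv, Subgroup.coe_pow]
  exact eq_of_wordEqB (actsBy_conj nc_split.1 xc_valid) (actsBy_pow (glOf_acts xc_valid) 4) nc_conj

theorem yT_eq : yT F ω = gw (xT F ω) (tT F ω) yword := by
  apply Subtype.ext
  have h := map_gw (threeJ3 F ω).subtype (xT F ω) (tT F ω) yword
  rw [Subgroup.coe_subtype] at h
  rw [h]
  exact eq_of_wordEqB (glOf_acts yc_valid) (actsBy_gw xc_valid tc_split.1 yword) yword_ok

theorem closure_xy : Subgroup.closure ({xT F ω, yT F ω} : Set (threeJ3 F ω)) = ⊤ := by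
  have key : ∀ (H : Subgroup (GL F9 F)) (hx : glOf ω xc ∈ H) (hy : glOf ω yc ∈ H),
      H = genGroup ω gens →
      Subgroup.closure ({⟨glOf ω xc, hx⟩, ⟨glOf ω yc, hy⟩} : Set H) = ⊤ := by
    rintro _ hx hy rfl
    have h : Subgroup.closure (((↑) : genGroup ω gens → GL F9 F) ⁻¹' {s | s ∈ semGens ω gens}) =
        ⊤ := Subgroup.closure_closure_coe_preimage
    rw [← h]
    congr 1
    ext z
    simp only [Set.mem_preimage, Set.mem_insert_iff, Set.mem_singleton_iff, Set.mem_setOf_eq,
      semGens, gens, List.map_cons, List.map_nil, List.mem_cons, List.not_mem_nil, or_false]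
    constructor
    · rintro (h | h)
      · left; rw [h]
      · right; rw [h]
    · rintro (h | h)
      · left; exact Subtype.ext h
      · right; exact Subtype.ext h
  exact key (threeJ3 F ω) x_mem y_mem three_eq

theorem closure_xt : Subgroup.closure ({xT F ω, tT F ω} : Set (threeJ3 F ω)) = ⊤ := by
  rw [eq_top_iff, ← closure_xy, Subgroup.closure_le]
  intro z hz
  rcases hz with rfl | hz
  · exact Subgroup.subset_closure (Set.mem_insert _ _)
  · rw [Set.mem_singleton_iff] at hz
    have h1 : xT F ω ∈ Subgroup.closure ({xT F ω, tT F ω} : Set (threeJ3 F ω)) :=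
      Subgroup.subset_closure (Set.mem_insert _ _)
    have h2 : tT F ω ∈ Subgroup.closure ({xT F ω, tT F ω} : Set (threeJ3 F ω)) :=
      Subgroup.subset_closure (Set.mem_insert_of_mem _ rfl)
    have h3 := gw_mem (Subgroup.closure ({xT F ω, tT F ω} : Set (threeJ3 F ω))) h1 h2 yword
    rw [hz, yT_eq]
    exact h3

end

section
variable {F : Type*} [Field F] [Fintype F] {ω : F} [hd : Data F ω]

/-! ### the quotient -/

/-- the projection onto `J₃` -/
noncomputable def pr (F : Type*) [Field F] [Fintype F] (ω : F) [Data F ω] :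
    threeJ3 F ω →* J3 F ω :=
  QuotientGroup.mk' (Subgroup.center (threeJ3 F ω))

theorem pr_surj : Function.Surjective (pr F ω) := QuotientGroup.mk'_surjective _

theorem pr_eq_one {g : threeJ3 F ω} : pr F ω g = 1 ↔ g ∈ Subgroup.center (threeJ3 F ω) :=
  QuotientGroup.eq_one_iff g

theorem finite_three : Finite (threeJ3 F ω) :=
  Nat.finite_of_card_ne_zero (by rw [card_three]; norm_num)

theorem closure_ab :
    Subgroup.closure ({pr F ω (xT F ω), pr F ω (tT F ω)} : Set (J3 F ω)) = ⊤ := by
  have h := Subgroup.map_top_of_surjective (pr F ω) pr_surj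
  rw [← closure_xt, MonoidHom.map_closure, Set.image_pair] at h
  exact h

theorem orderOf_a (hF : Fintype.card F = 4) : orderOf (pr F ω (xT F ω)) = 19 := by
  haveI : Fact (Nat.Prime 19) := ⟨by norm_num⟩
  apply orderOf_eq_prime
  · rw [← map_pow, xT_pow, map_one]
  · intro h
    exact not_central hF xc_valid x_mem xc_ns (pr_eq_one.mp h)

theorem fact19 (hF : Fintype.card F = 4) : (Nat.card (J3 F ω)).factorization 19 = 1 := by
  rw [card_J3 hF]
  have h : (50232960 : ℕ) = 19 * 2643840 := by norm_num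
  rw [h, Nat.factorization_mul (by norm_num) (by norm_num), Finsupp.add_apply,
    Nat.Prime.factorization_self (by norm_num),
    Nat.factorization_eq_zero_of_not_dvd (by norm_num)]

theorem n_conj : pr F ω (nT F ω) * pr F ω (xT F ω) * (pr F ω (nT F ω))⁻¹ =
    pr F ω (xT F ω) ^ 4 := by
  rw [← map_inv, ← map_mul, ← map_mul, nT_conj, map_pow]

theorem arith19_four : ∀ k : ℕ, 1 ≤ k → k < 19 →
    ∃ i : ℕ, k * 4 ^ i % 19 = 1 ∨ k * 4 ^ i % 19 = 19 - 1 := by
  have h : ∀ k < 19, 1 ≤ k → ∃ i < 9, k * 4 ^ i % 19 = 1 ∨ k * 4 ^ i % 19 = 19 - 1 := by decide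
  intro k h1 h2
  obtain ⟨i, _, hi⟩ := h k h2 h1
  exact ⟨i, hi⟩

end

section
variable {F : Type*} [Field F] [Fintype F] {ω : F} [hd : Data F ω]

/-! ### the involutions of the triple cover -/

theorem iv_valid : TableValid IV := by
  intro e he
  have h := iv_all e he
  unfold ivOK at h
  simp only [Bool.and_eq_true] at h
  exact h.1.1.1

theorem iv_conj : ∀ g ∈ gens, ∀ e ∈ IV.toList, conjOK IV g e = true := by
  intro g hg e he
  have h := iv_all e he
  unfold ivOK at h
  simp only [Bool.and_eq_true] at h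
  simp only [gens, List.mem_cons, List.not_mem_nil, or_false] at hg
  rcases hg with rfl | rfl
  · exact h.1.1.2
  · exact h.1.2

theorem st_all : ∀ e ∈ STAB.toList, stOK e = true := by
  have h := stab_ok
  rw [List.all_eq_true] at h
  exact h

theorem st_valid : TableValid STAB := by
  intro e he
  have h := st_all e he
  unfold stOK at h
  simp only [Bool.and_eq_true] at h
  exact h.1.1.1.1

theorem sgens_all : ∀ g ∈ sgens, invOK g = true ∧ siftP levels [g] [] [] = true := by
  intro g hg
  have h := sgens_ok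
  rw [List.all_eq_true] at h
  have h1 := h g hg
  unfold memOK at h1
  rwa [Bool.and_eq_true] at h1

theorem syl_le : genGroup ω sgens ≤ threeJ3 F ω := by
  unfold genGroup
  rw [Subgroup.closure_le]
  intro s hs
  have hs' : s ∈ semGens ω sgens := hs
  unfold semGens at hs'
  obtain ⟨g, hg, rfl⟩ := List.mem_map.mp hs'
  rw [three_eq]
  exact sift_mem (sgens_all g hg).1 (sgens_all g hg).2

theorem syl_card : Nat.card (genGroup ω sgens) = 128 := by
  rw [tab_card st_valid sgens (fun g hg => (sgens_all g hg).1) stab_one ?_ ?_ ?_ stab_sorted,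
    len_STAB]
  · intro e he
    have h := st_all e he
    unfold stOK at h
    simp only [Bool.and_eq_true] at h
    exact h.1.2
  · intro e he
    have h := st_all e he
    unfold stOK at h
    simp only [Bool.and_eq_true] at h
    exact h.1.1.2
  · intro e he
    have h := st_all e he
    unfold stOK at h
    simp only [Bool.and_eq_true] at h
    exact h.1.1.1.2

theorem syl_mem (z : GL F9 F) (hz : z ∈ genGroup ω sgens) : z ∈ codeSet ω STAB := by
  refine tab_le st_valid sgens (fun g hg => (sgens_all g hg).1) stab_one ?_ z hz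
  intro e he
  have h := st_all e he
  unfold stOK at h
  simp only [Bool.and_eq_true] at h
  exact h.1.2

/-- an involution of the Sylow 2-subgroup is in the table of involutions -/
theorem syl_invol (z : GL F9 F) (hz : z ∈ genGroup ω sgens) (h2 : z * z = 1) (h1 : z ≠ 1) :
    z ∈ codeSet ω IV := by
  obtain ⟨e, he, rfl⟩ := syl_mem z hz
  have hv := st_valid e he
  have h := st_all e he
  unfold stOK at h
  simp only [Bool.and_eq_true, Bool.or_eq_true, Bool.not_eq_true'] at h
  have hact : ActsBy ω (glOf ω e.2.1 * glOf ω e.2.1) [e.2.1, e.2.1] :=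
    actsBy_cons (glOf_acts hv) (glOf_acts hv)
  rcases h.2 with (h3 | h3) | h3
  · exfalso
    rw [h2] at hact
    have := wordEqB_of_acts hact actsBy_one
    rw [h3] at this
    exact Bool.false_ne_true this
  · exact absurd (eq_one_of_wordEqB (glOf_acts hv) h3) h1
  · exact findW_spec iv_valid (glOf_acts hv) h3

theorem fact2 : (Nat.card (threeJ3 F ω)).factorization 2 = 7 := by
  rw [card_three]
  have h : (150698880 : ℕ) = 2 ^ 7 * 1177335 := by norm_num
  rw [h, Nat.factorization_mul (by norm_num) (by norm_num), Finsupp.add_apply,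
    Nat.Prime.factorization_pow Nat.prime_two, Finsupp.single_eq_same,
    Nat.factorization_eq_zero_of_not_dvd (by norm_num)]

/-- every involution of the triple cover is in the table of involutions -/
theorem invol_mem (t : threeJ3 F ω) (h2 : t * t = 1) (h1 : t ≠ 1) :
    (t : GL F9 F) ∈ codeSet ω IV := by
  haveI : Fact (Nat.Prime 2) := ⟨Nat.prime_two⟩
  haveI := finite_three (F := F) (ω := ω)
  have hP : Nat.card ((genGroup ω sgens).subgroupOf (threeJ3 F ω)) =
      2 ^ (Nat.card (threeJ3 F ω)).factorization 2 := by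
    rw [fact2, Nat.card_congr (Subgroup.subgroupOfEquivOfLe syl_le).toEquiv, syl_card]
    norm_num
  have hord : orderOf t = 2 := orderOf_eq_prime (by rw [pow_two]; exact h2) h1
  have hpg : IsPGroup 2 (Subgroup.zpowers t) := by
    apply IsPGroup.of_card (n := 1)
    rw [Nat.card_zpowers, hord, pow_one]
  obtain ⟨Q, hQ⟩ := hpg.exists_le_sylow
  obtain ⟨g, hg⟩ := MulAction.exists_smul_eq (threeJ3 F ω) Q (Sylow.ofCard _ hP)
  have htQ : t ∈ (Q : Subgroup (threeJ3 F ω)) := hQ (Subgroup.mem_zpowers t)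
  have hgt : g * t * g⁻¹ ∈ ((Sylow.ofCard _ hP : Sylow 2 (threeJ3 F ω)) :
      Subgroup (threeJ3 F ω)) := by
    rw [← hg, Sylow.coe_subgroup_smul, Subgroup.mem_smul_pointwise_iff_exists]
    exact ⟨t, htQ, by rw [MulAut.smul_def, MulAut.conj_apply]⟩
  rw [Sylow.coe_ofCard, Subgroup.mem_subgroupOf] at hgt
  have h3 : ((g * t * g⁻¹ : threeJ3 F ω) : GL F9 F) ∈ codeSet ω IV := by
    apply syl_invol _ hgt
    · rw [← Subgroup.coe_mul]
      have : g * t * g⁻¹ * (g * t * g⁻¹) = 1 := by
        calc g * t * g⁻¹ * (g * t * g⁻¹) = g * (t * t) * g⁻¹ := by group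
          _ = 1 := by rw [h2, mul_one, mul_inv_cancel]
      rw [this]; rfl
    · intro h
      apply h1
      have h4 : g * t * g⁻¹ = 1 := Subtype.ext h
      calc t = g⁻¹ * (g * t * g⁻¹) * g := by group
        _ = 1 := by rw [h4, mul_one, inv_mul_cancel]
  have hginv : ((g⁻¹ : threeJ3 F ω) : GL F9 F) ∈ genGroup ω gens := by
    rw [← three_eq]; exact (g⁻¹).2
  have h5 := conj_mem_closure iv_valid gens gens_valid iv_conj _ hginv _ h3
  have h6 : ((g⁻¹ : threeJ3 F ω) : GL F9 F) * ((g * t * g⁻¹ : threeJ3 F ω) : GL F9 F) *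
      ((g⁻¹ : threeJ3 F ω) : GL F9 F)⁻¹ = (t : GL F9 F) := by
    rw [← Subgroup.coe_inv, ← Subgroup.coe_mul, ← Subgroup.coe_mul]
    congr 1
    group
  rwa [h6] at h5

end

section
variable {F : Type*} [Field F] [Fintype F] {ω : F} [hd : Data F ω]

/-! ### automorphisms fixing `a` are inner -/

theorem coe_gw (x t : threeJ3 F ω) (w : List Bool) :
    ((gw x t w : threeJ3 F ω) : GL F9 F) = gw (x : GL F9 F) (t : GL F9 F) w :=
  map_gw (threeJ3 F ω).subtype x t w

theorem rel_central (r : List Bool × ℕ) (hr : r ∈ rels) :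
    gw (xT F ω) (tT F ω) r.1 ^ r.2 ∈ Subgroup.center (threeJ3 F ω) := by
  have h := rels_ok'
  rw [List.all_eq_true] at h
  have h1 := h r hr
  unfold relOK' at h1
  rw [Bool.or_eq_true] at h1
  have hact : ActsBy ω (gw (glOf ω xc) (glOf ω tc) r.1 ^ r.2) (powW (cw xc tc r.1) r.2) :=
    actsBy_powW (actsBy_gw xc_valid tc_split.1 r.1) r.2
  have hcoe : ((gw (xT F ω) (tT F ω) r.1 ^ r.2 : threeJ3 F ω) : GL F9 F) =
      gw (glOf ω xc) (glOf ω tc) r.1 ^ r.2 := by
    rw [Subgroup.coe_pow, coe_gw]; rfl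
  rcases h1 with h1 | h1
  · have h2 : gw (xT F ω) (tT F ω) r.1 ^ r.2 = 1 := by
      apply Subtype.ext
      rw [hcoe]
      exact eq_one_of_wordEqB hact h1
    rw [h2]
    exact Subgroup.one_mem _
  · have h2 : gw (xT F ω) (tT F ω) r.1 ^ r.2 = sThree F ω := by
      apply Subtype.ext
      rw [hcoe]
      exact eq_of_wordEqB hact (glOf_acts sc_split.2.1) h1
    rw [h2]
    exact sThree_central

theorem rel_one (r : List Bool × ℕ) (hr : r ∈ rels) :
    gw (pr F ω (xT F ω)) (pr F ω (tT F ω)) r.1 ^ r.2 = 1 := by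
  rw [← map_gw (pr F ω), ← map_pow]
  exact pr_eq_one.mpr (rel_central r hr)

/-- an automorphism fixing `a` is inner -/
theorem inner_of_fix (hF : Fintype.card F = 4) (φ : MulAut (J3 F ω))
    (hφ : φ (pr F ω (xT F ω)) = pr F ω (xT F ω)) : φ ∈ Cfsg.Inn (J3 F ω) := by
  obtain ⟨g, hg⟩ := pr_surj (φ (pr F ω (tT F ω)))
  have hbb : pr F ω (tT F ω) * pr F ω (tT F ω) = 1 := by rw [← map_mul, tT_sq, map_one]
  have huu : φ (pr F ω (tT F ω)) * φ (pr F ω (tT F ω)) = 1 := by rw [← map_mul, hbb, map_one]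
  have hg2 : g * g ∈ Subgroup.center (threeJ3 F ω) :=
    pr_eq_one.mp (by rw [map_mul, hg, huu])
  have ht2 : g ^ 3 * g ^ 3 = 1 := by
    have h : g ^ 3 * g ^ 3 = (g * g) ^ 3 := by rw [← pow_add, ← pow_two, ← pow_mul]
    rw [h]
    exact central_cube hF _ hg2
  have hpt : pr F ω (g ^ 3) = φ (pr F ω (tT F ω)) := by
    rw [map_pow, hg, pow_succ, pow_two, huu, one_mul]
  have hb1 : pr F ω (tT F ω) ≠ 1 := fun h =>
    not_central hF tc_split.1 t_mem tc_ns (pr_eq_one.mp h)
  have ht1 : g ^ 3 ≠ 1 := by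
    intro h
    rw [h, map_one] at hpt
    exact hb1 (φ.injective (by rw [← hpt, map_one]))
  obtain ⟨e, he, hte⟩ := invol_mem (g ^ 3) ht2 ht1
  have hiv := iv_all e he
  unfold ivOK at hiv
  simp only [Bool.and_eq_true, Bool.or_eq_true, Bool.not_eq_true'] at hiv
  have hv : invOK e.2.1 = true := hiv.1.1.1
  have hfp : fpB xc e.2.1 rels = true := by
    apply fpB_of_rels (ω := ω) xc_valid hv rels
    intro r hr
    have h1 := rel_one (F := F) (ω := ω) r hr
    have h2 : gw (φ (pr F ω (xT F ω))) (φ (pr F ω (tT F ω))) r.1 ^ r.2 = 1 := by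
      have h3 : φ (gw (pr F ω (xT F ω)) (pr F ω (tT F ω)) r.1) =
          gw (φ (pr F ω (xT F ω))) (φ (pr F ω (tT F ω))) r.1 :=
        map_gw φ.toMonoidHom _ _ r.1
      rw [← h3, ← map_pow, h1, map_one]
    rw [hφ, ← hpt, ← map_gw (pr F ω), ← map_pow] at h2
    obtain ⟨c, hc, hcs⟩ := central_cases hF _ (pr_eq_one.mp h2)
    refine ⟨c, hc, ?_⟩
    rw [← hcs, Subgroup.coe_pow, coe_gw, hte]
    rfl
  rcases hiv.2 with h | h
  · rw [hfp] at h
    exact absurd h (by decide)
  · unfold inL at h
    rw [List.any_eq_true] at h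
    obtain ⟨c, hc, hceq⟩ := h
    have hce : e.2.1 = c := Nat.eq_of_beq_eq_true hceq
    obtain ⟨i, hi, hci⟩ := List.mem_iff_getElem.mp hc
    have hi19 : i < 19 := by rw [← len_lc]; exact hi
    have hl := lc_ok
    rw [List.all_eq_true] at hl
    have hli := hl i (List.mem_range.mpr hi19)
    unfold lcOK at hli
    rw [List.getD_eq_getElem _ _ hi, hci, ← hce] at hli
    have hteq : ((g ^ 3 : threeJ3 F ω) : GL F9 F) =
        glOf ω xc ^ i * (glOf ω tc * (glOf ω xc)⁻¹ ^ i) := by
      rw [hte]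
      exact eq_of_wordEqB (glOf_acts hv) (actsBy_append (actsBy_pow (glOf_acts xc_valid) i)
        (actsBy_cons (glOf_acts tc_split.1) (actsBy_pow (glOf_inv_acts xc_valid) i))) hli
    have htT : g ^ 3 = xT F ω ^ i * (tT F ω * (xT F ω)⁻¹ ^ i) := by
      apply Subtype.ext
      rw [hteq]
      simp only [Subgroup.coe_mul, Subgroup.coe_pow, Subgroup.coe_inv]
      rfl
    have hub : φ (pr F ω (tT F ω)) =
        pr F ω (xT F ω) ^ i * (pr F ω (tT F ω) * (pr F ω (xT F ω))⁻¹ ^ i) := by
      rw [← hpt, htT, map_mul, map_mul, map_pow, map_pow, map_inv]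
    refine ⟨pr F ω (xT F ω) ^ i, ?_⟩
    symm
    apply MulEquiv.toMonoidHom_injective
    apply MonoidHom.eq_of_eqOn_dense (closure_ab (F := F) (ω := ω))
    intro z hz
    rcases hz with rfl | hz
    · show φ (pr F ω (xT F ω)) = MulAut.conj (pr F ω (xT F ω) ^ i) (pr F ω (xT F ω))
      rw [hφ, MulAut.conj_apply, ← pow_succ, pow_succ', mul_assoc, mul_inv_cancel, mul_one]
    · rw [Set.mem_singleton_iff] at hz
      rw [hz]
      show φ (pr F ω (tT F ω)) = MulAut.conj (pr F ω (xT F ω) ^ i) (pr F ω (tT F ω))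
      rw [hub, MulAut.conj_apply, inv_pow, mul_assoc]

end

section
variable {F : Type*} [Field F] [Fintype F] {ω : F} [hd : Data F ω] [CharP F 2]

/-! ### the automorphism induced by the field automorphism -/

/-- the field automorphism on `GL₉(F)` -/
noncomputable def frobGL (F : Type*) [Field F] [CharP F 2] : GL F9 F →* GL F9 F :=
  Matrix.GeneralLinearGroup.map (frobenius F 2)

omit [Fintype F] in
theorem frobGL_apply (g : GL F9 F) (i j : F9) :
    ((frobGL F g : GL F9 F) : Matrix F9 F9 F) i j = (((g : GL F9 F) : Matrix F9 F9 F) i j) ^ 2 :=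
  rfl

omit [Fintype F] in
theorem frobGL_inj : Function.Injective (frobGL F) := by
  intro g h hgh
  apply Units.ext
  ext i j
  have h1 : ((frobGL F g : GL F9 F) : Matrix F9 F9 F) i j =
      ((frobGL F h : GL F9 F) : Matrix F9 F9 F) i j := by rw [hgh]
  rw [frobGL_apply, frobGL_apply] at h1
  exact frobenius_inj F 2 h1

omit [Fintype F] [CharP F 2] in
theorem ofC_bar (a b : Bool) :
    ofC ω (if a.toNat + 2 * b.toNat = 2 then 3 else
      if a.toNat + 2 * b.toNat = 3 then 2 else a.toNat + 2 * b.toNat) =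
      (ofC ω (a.toNat + 2 * b.toNat)) ^ 2 := by
  cases a <;> cases b
  · show ofC ω 0 = (ofC ω 0) ^ 2
    rw [ofC_zero]; ring
  · show ofC ω 3 = (ofC ω 2) ^ 2
    rw [ofC_three, ofC_two]
  · show ofC ω 1 = (ofC ω 1) ^ 2
    rw [ofC_one]; ring
  · show ofC ω 2 = (ofC ω 3) ^ 2
    rw [ofC_two, ofC_three]
    calc ω = ω ^ 3 * ω := by rw [om_cube', one_mul]
      _ = (ω ^ 2) ^ 2 := by ring

omit [Fintype F] in
theorem frob_glOf {c c' : ℕ} (hc : invOK c = true) (hc' : invOK c' = true)
    (h : barOK c c' = true) : frobGL F (glOf ω c) = glOf ω c' := by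
  apply Units.ext
  ext i j
  rw [frobGL_apply, glOf_val hc, glOf_val hc', matOf_entry, matOf_entry]
  unfold barOK at h
  rw [of_decide_eq_true h i j]
  unfold entC
  exact (ofC_bar _ _).symm

theorem xbar_split : invOK xbar = true ∧ barOK xc xbar = true := by
  have h := xbar_ok
  rwa [Bool.and_eq_true] at h

theorem ybar_split : invOK ybar = true ∧ barOK yc ybar = true := by
  have h := ybar_ok
  rwa [Bool.and_eq_true] at h

/-- the field automorphism followed by a conjugation -/
noncomputable def tau0 (F : Type*) [Field F] (ω : F) [Data F ω] [CharP F 2] :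
    GL F9 F →* GL F9 F :=
  (MulAut.conj (glOf ω Nc)⁻¹).toMonoidHom.comp (frobGL F)

omit [Fintype F] in
theorem tau0_apply (g : GL F9 F) :
    tau0 F ω g = (glOf ω Nc)⁻¹ * frobGL F g * glOf ω Nc := by
  show MulAut.conj (glOf ω Nc)⁻¹ (frobGL F g) = _
  rw [MulAut.conj_apply, inv_inv]

omit [Fintype F] in
theorem tau0_inj : Function.Injective (tau0 F ω) := by
  intro g h hgh
  apply frobGL_inj
  exact (MulAut.conj (glOf ω Nc)⁻¹).injective hgh

omit [Fintype F] in
theorem tau0_x : tau0 F ω (glOf ω xc) = (glOf ω xc)⁻¹ := by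
  rw [tau0_apply, frob_glOf xc_valid xbar_split.1 xbar_split.2, mul_assoc]
  exact eq_of_wordEqB (actsBy_cons (glOf_inv_acts Nc_ok)
    (actsBy_cons (glOf_acts xbar_split.1) (glOf_acts Nc_ok))) (glOf_inv_acts xc_valid) tau_x

theorem tau0_y : tau0 F ω (glOf ω yc) ∈ threeJ3 F ω := by
  rw [tau0_apply, frob_glOf yc_valid ybar_split.1 ybar_split.2, mul_assoc, three_eq]
  exact (mat_main (ω := ω) gens levels gens_valid chain_ok).2.1 _ _ (actsBy_cons
    (glOf_inv_acts Nc_ok) (actsBy_cons (glOf_acts ybar_split.1) (glOf_acts Nc_ok))) tau_y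

theorem tau0_mem (g : GL F9 F) (hg : g ∈ threeJ3 F ω) : tau0 F ω g ∈ threeJ3 F ω := by
  have h : genGroup ω gens ≤ (threeJ3 F ω).comap (tau0 F ω) := by
    unfold genGroup
    rw [Subgroup.closure_le]
    intro s hs
    have hs' : s ∈ semGens ω gens := hs
    unfold semGens at hs'
    simp only [gens, List.map_cons, List.map_nil, List.mem_cons, List.not_mem_nil, or_false]
      at hs'
    rcases hs' with rfl | rfl
    · show tau0 F ω (glOf ω xc) ∈ threeJ3 F ω
      rw [tau0_x]
      exact (threeJ3 F ω).inv_mem x_mem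
    · exact tau0_y
  rw [three_eq] at hg
  exact h hg

/-- the restriction to the triple cover -/
noncomputable def tauHom (F : Type*) [Field F] [Fintype F] (ω : F) [Data F ω] [CharP F 2] :
    threeJ3 F ω →* threeJ3 F ω where
  toFun g := ⟨tau0 F ω (g : GL F9 F), tau0_mem (g : GL F9 F) g.2⟩
  map_one' := by
    apply Subtype.ext
    show tau0 F ω ((1 : threeJ3 F ω) : GL F9 F) = ((1 : threeJ3 F ω) : GL F9 F)
    rw [Subgroup.coe_one, map_one]
  map_mul' a b := by
    apply Subtype.ext
    show tau0 F ω ((a * b : threeJ3 F ω) : GL F9 F) =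
      tau0 F ω (a : GL F9 F) * tau0 F ω (b : GL F9 F)
    rw [Subgroup.coe_mul, map_mul]

theorem tauHom_coe (g : threeJ3 F ω) :
    ((tauHom F ω g : threeJ3 F ω) : GL F9 F) = tau0 F ω (g : GL F9 F) := rfl

theorem tauHom_bij : Function.Bijective (tauHom F ω) := by
  haveI := finite_three (F := F) (ω := ω)
  have hinj : Function.Injective (tauHom F ω) := by
    intro g h hgh
    apply Subtype.ext
    apply tau0_inj (ω := ω)
    rw [← tauHom_coe, ← tauHom_coe, hgh]
  exact ⟨hinj, Finite.injective_iff_surjective.mp hinj⟩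

/-- the automorphism of the triple cover -/
noncomputable def tauE (F : Type*) [Field F] [Fintype F] (ω : F) [Data F ω] [CharP F 2] :
    threeJ3 F ω ≃* threeJ3 F ω :=
  MulEquiv.ofBijective (tauHom F ω) tauHom_bij

theorem tauE_coe (g : threeJ3 F ω) :
    ((tauE F ω g : threeJ3 F ω) : GL F9 F) = tau0 F ω (g : GL F9 F) := rfl

theorem tauE_x : tauE F ω (xT F ω) = (xT F ω)⁻¹ := by
  apply Subtype.ext
  rw [tauE_coe, Subgroup.coe_inv]
  exact tau0_x

theorem frob_scalar : ((frobGL F (glOf ω sc) : GL F9 F) : Matrix F9 F9 F) =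
    ω ^ 2 • (1 : Matrix F9 F9 F) := by
  ext i j
  rw [frobGL_apply, valS, Matrix.smul_apply, Matrix.smul_apply, smul_eq_mul, smul_eq_mul, mul_pow]
  by_cases hij : i = j
  · subst hij
    rw [Matrix.one_apply_eq, one_pow]
  · rw [Matrix.one_apply_ne hij]
    ring

theorem tauE_s : tauE F ω (sThree F ω) ≠ sThree F ω := by
  intro h
  have h1 : tau0 F ω (glOf ω sc) = glOf ω sc := by
    have h0 := congrArg (fun g : threeJ3 F ω => (g : GL F9 F)) h
    simp only [tauE_coe] at h0
    exact h0
  have h2 := congrArg (fun g : GL F9 F => (g : Matrix F9 F9 F)) h1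
  simp only [tau0_apply, Units.val_mul] at h2
  rw [frob_scalar, valS, Matrix.mul_smul, Matrix.smul_mul, Matrix.mul_one, Units.inv_mul] at h2
  have h3 := congrFun (congrFun h2 0) 0
  rw [Matrix.smul_apply, Matrix.smul_apply, Matrix.one_apply_eq, smul_eq_mul, smul_eq_mul,
    mul_one, mul_one] at h3
  have h4 : ω * (ω - 1) = 0 := by
    calc ω * (ω - 1) = ω ^ 2 - ω := by ring
      _ = 0 := by rw [h3, sub_self]
  rcases mul_eq_zero.mp h4 with h5 | h5
  · exact om_ne_zero h5
  · exact om_ne_one (sub_eq_zero.mp h5)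

/-- the outer automorphism of `J₃` -/
noncomputable def tau (F : Type*) [Field F] [Fintype F] (ω : F) [Data F ω] [CharP F 2] :
    MulAut (J3 F ω) :=
  centerQuot (tauE F ω)

theorem tau_a : tau F ω (pr F ω (xT F ω)) = (pr F ω (xT F ω))⁻¹ := by
  show centerQuot (tauE F ω) ((xT F ω : threeJ3 F ω) : J3 F ω) = _
  rw [centerQuot_mk, tauE_x]
  rfl

theorem tau_not_inner (hF : Fintype.card F = 4) : tau F ω ∉ Cfsg.Inn (J3 F ω) :=
  congr_not_inner (tauE F ω) closure_xy xT_pow yT_pow (central_cube hF) (by norm_num)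
    (by norm_num) sThree_central tauE_s

/-- the outer automorphism group of `J₃` has order two -/
theorem out_card (hF : Fintype.card F = 4) : Nat.card (Cfsg.Out (J3 F ω)) = 2 := by
  haveI : Fact (Nat.Prime 19) := ⟨by norm_num⟩
  haveI := finite_three (F := F) (ω := ω)
  exact out_card_two (orderOf_a hF) (fact19 hF) n_conj arith19_four
    (fun φ hφ => inner_of_fix hF φ hφ) (tau F ω) tau_a (tau_not_inner hF)

end

theorem main_out {F : Type*} [Field F] [Fintype F] (hF : Fintype.card F = 4) (ω : F)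
    (hω : ω ^ 2 + ω + 1 = 0) : Nat.card (Cfsg.Out (Cfsg.Spor.J3 F ω)) = 2 := by
  haveI := data_of_card F hF ω hω
  haveI : CharP F 2 := CharTwo.of_one_ne_zero_of_two_eq_zero one_ne_zero (Data.two ω)
  exact out_card hF

end Cfsg.Agent.Lib.Helper28.J3Aut
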