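import Cfsg.Agent.Lib.Helper28.J3AutDefs

/-!
# Certificates for the automorphisms of `J₃`: the small checks

Generated by a script.
-/

set_option autoImplicit false

namespace Cfsg.Agent.Lib.Helper28.J3AutCert

open Cfsg.Agent.Lib.Helper28.F4 Cfsg.Agent.Lib.Helper28.J3Data Cfsg.Agent.Lib.Helper28.J3AutData
open Cfsg.Agent.Lib.Helper28.BSGSMat (Tree Entry sortedB)

set_option maxRecDepth 1000000 in
theorem len_IV : IV.toList.length = 26163 := by decide +kernel

theorem len_STAB : STAB.toList.length = 128 := by decide +kernel

theorem stab_ok : STAB.toList.all stOK = true := by decide +kernel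

theorem stab_one : findW STAB [] = true := by decide +kernel

theorem stab_sorted : sortedB (STAB.toList.map fun e => e.1) = true := by decide +kernel

theorem sgens_ok : sgens.all memOK = true := by decide +kernel

theorem nc_ok : memOK nc = true := by decide +kernel

theorem nc_conj : wordEqB [nc, xc, inv nc] [xc, xc, xc, xc] = true := by decide +kernel

theorem tc_ok : memOK tc = true := by decide +kernel

theorem tc_sq : wordEqB [tc, tc] [] = true := by decide +kernel

theorem tc_ns : scalB [tc] = false := by decide +kernel

theorem xc_ns : scalB [xc] = false := by decide +kernel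

theorem x19 : wordEqB (List.replicate 19 xc) [] = true := by decide +kernel

theorem y17 : wordEqB (List.replicate 17 yc) [] = true := by decide +kernel

theorem rels_ok : (rels.zip relIdx).all relOK = true := by decide +kernel

theorem lc_ok : (List.range 19).all lcOK = true := by decide +kernel

theorem len_lc : lc.length = 19 := by decide +kernel

theorem yword_ok : wordEqB [yc] (cw xc tc yword) = true := by decide +kernel

theorem Nc_ok : invOK Nc = true := by decide +kernel

theorem xbar_ok : (invOK xbar && barOK xc xbar) = true := by decide +kernel

theorem ybar_ok : (invOK ybar && barOK yc ybar) = true := by decide +kernel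

theorem tau_x : wordEqB [inv Nc, xbar, Nc] [inv xc] = true := by decide +kernel

theorem tau_y : siftP levels [inv Nc, ybar, Nc] [] [] = true := by decide +kernel

end Cfsg.Agent.Lib.Helper28.J3AutCert
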