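import Cfsg.Agent.Lib.Helper28.J3AutData0
import Cfsg.Agent.Lib.Helper28.J3AutData1
import Cfsg.Agent.Lib.Helper28.J3AutData2
import Cfsg.Agent.Lib.Helper28.J3AutData3

/-!
# Data for the automorphisms of `J₃`

The table of the 26163 involutions of the triple cover of `J₃` (each entry holds a hash of the
matrix, its code, and the depth and the hash of the parent in a spanning tree for conjugation by `x`
and `y`, rooted at `t`), the table of the 128 elements of a Sylow 2-subgroup (hash, code, depth and
hash of the parent in a spanning tree of the Cayley graph), an involution `t` that generates the
group together with the element `x` of order 19, relators, an element normalizing `⟨x⟩` and the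
matrix of a semilinear map that normalizes the group.  Generated by a script.
-/

set_option autoImplicit false

namespace Cfsg.Agent.Lib.Helper28.J3AutData

open Cfsg.Agent.Lib.Helper28.BSGSMat (Tree)

/-- the table of involutions -/
def IV : Tree := (.node (.node ivr_0 (1067957790332945535409, 0x427b6a6d855c6c997d441cce793910019894646c509eda9b61571b265f5107339e4e44006625191b1, 14, 4637902417893280482760) ivr_1) (2278494116115796499527, 0x2240098ced4cb8982a05049ee11d4da832ec2711c89002633b532e260a814127b847536a0cbb09c47, 13, 3899993767228018092203) (.node ivr_2 (3566258172017911770394, 0x3dfd09329c9aa628e6b39db054f18c26b362eb468f7f424ca726a98a39ace76c153c6309acd8bad1a, 5, 2968570263771075697960) ivr_3))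

/-- part of the table of involutions -/
def stp_1 : Tree := (.node (.node (.node (.node (.node (.node .leaf (144115462954287105, 0x4000080001000020000400008000100002000040100002000040000800010000200004000080001, 0, 144115462954287105) .leaf) (5492773128422824426, 0x8b1364c25732d440299b1b2862091847c8b5c12033f9f21800955a7b0322156004c3a400eef7419ea, 3, 2370212985887801655743) .leaf) (37519788129892197376, 0x20c02c0400100030940e040822c442102891900008300b010004000c2503810208b110840a246400, 3, 277571376499958134018) (.node .leaf (135492961941623148875, 0x1823f8906d90e44d78a20899eac277b1b14bfb67da27665f193eb9b0c768722075857b3036ff8114b, 4, 1600555905934939151131) .leaf)) (160969635015930265997, 0x3255d83f8d8a352f69c62f8ac472106f05dca5454a7f0790831a27a07c0d1ff08b9e706317ccdc18d, 4, 3974879790555024565985) (.node (.node .leaf (277571376499958134018, 0x19cc988b449b0c21681e8947fcd2f02232884a418052b6082d08ec8c2a2feff0f0c13a04a6036b502, 2, 4583923163281098575555) .leaf) (278994922737399360777, 0xa1656ee57d8a364f4f448c698f714f8d772149267d0ce29c7b1124733e1875a0f1fd5140d1c3ded09, 3, 3565798945060099341872) (.node .leaf (306124920618193631367, 0x7855a8b46c196e190482944426158c5881856e21de156a2d1b065b864120a5110985631620615b887, 3, 4258549295215544484810) .leaf))) (325870022961911473891, 0x41b8e09edd28585547e3d4f20d86b7c03e0cc7f01b26caeb4029a9307901c5211aa5ae359b91ea6e3,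 4, 938417665970915079642) (.node (.node (.node .leaf (364955225832634737698, 0xf84e92586011187f2480a060ca4852397ea4667d238bdc1c7203409102744a313c8c56c4774a86422, 3, 3710779172246323899995) .leaf) (482488728260819887791, 0x6a218867e8859010ad5594e40cb6578ece6e88c28960e8a0e30d580d3f283d11a27e04e04b42526af, 4, 3150046759036366525837) (.node .leaf (488764613609333487367, 0x3b7e5ecfada63b36f78dac5e6493f6ae624cb28e0e737744731a27e79ebfc4f1a7ef8ba7de5607707, 3, 1958854335613586588465) .leaf)) (522073972921557552238, 0xa3d6ece715b918b031064999c9f00b7b4b046074b04912591b526c611c8c1cd1c4d3b584e42578c6e, 4, 306124920618193631367) (.node (.node .leaf (540126508452987290617, 0xb127f0051b87d7965af7547d0852b63219c058f3bf5ad5cfdaf98facc648bb51d47c2d5b9a05443f9, 2, 2829885802739476021478) .leaf) (573677511525045545865, 0xb0a520935fba7d39646ecee791f2ffcd592c92e3b9376394dea970a5ff4f9a01f195ff1422066ab89, 3, 2233959459179602920781) (.node .leaf (589380383953205143814, 0x14ad820b423b230a8bfbfc3c304e812980dad4086732622d126c3085a07a251ff34bc088ca212906, 4, 306124920618193631367) .leaf)))) (613393072215474960676, 0x3143c2251c6ba742d241f94eea59a8831906b2450cf743902a13f996dc5182d214089f548c0e9f924, 4, 5492773128422824426) (.node (.node (.node (.node .leaf (645802147599485413828, 0xa8c5261a717b2069e273f0e412e15f23518c0022b14340939621647f15b40a023024e1fa2a3b6a9c4, 4, 1938745155582210227141)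 .leaf) (700584384367853081150, 0x117b2402ebffd7696f524855b10b3715b56516c6dc99b1d5f88d20fe83cc42b25fa8fb9ba379c923e, 3, 1647760775944537008383) (.node .leaf (703866405719122585142, 0x809c46a9bee06a44af939535dea2736c6bd4e9b86f37324b988b5a5d64d871526281bcec1eb472636, 3, 1683041185008006998140) .leaf)) (736696209615162732695, 0x1a2208d1f25568eb493a8e9f203765cfd4955e0ec04e607c35fc9a9fcaa73ee27efb6b376107c7097, 4, 4332732792115721695643) (.node (.node .leaf (788473086403231838469, 0x48a1ac21d5535986ed86f54aaf90c7a4c120dc4152286b087554d661bb61bd52abe431e9304837105, 2, 4503404522091892007886) .leaf) (794491341539600667925, 0x29fc1e420c689e81f0347fc22e79c18c5f3370634c95760fe3628d4bda718be2b11c841bc17729515, 4, 2334267898977116297017) (.node .leaf (938417665970915079642, 0x72736e292d634f93c740930cb7ca51d00ae45d769c9cdb8a4b58d3e4f1d024c32df2947402b9175da, 3, 3503725844239794331633) .leaf))) (954300467252459685158, 0x11bd06fef54342bf1229389e0ae9c5959f0674638488325e4877efe694579dc33bb9452dd94274526, 4, 3974879790555024565985) (.node (.node (.node .leaf (1094446459044344049642, 0xbb736e24df10ddc4bff8cf24a59fb26df0cab96dbedd7c7d067567b1bbbacc3b547ee7dffe3b2fea, 3, 540126508452987290617) .leaf) (1099760245769325122686, 0x73d1ecd66df10fbd753410cee78f512fda3a851f9cf47b359b7c43ef5d4d0433b9e3d44bf68ea147e, 5, 2216754796270592840078) (.node .leaf (1100564522363000637716,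 0x33dd0e40a84fe65b71460b4850227d52303a7e490c50f089471ae9d0b4907e53ba966a20c641ac914, 4, 3211993204375865481146) .leaf)) (1119586622926684995574, 0xb338f6149d5f59d0a9669aaf7bfdaef3432417fc79d017b66e70e9f7b4118c13cb162b5ba4844bff6, 3, 1191509278823838325839) (.node (.node .leaf (1172617355120589254011, 0x8045d4a455cbd2f9db9cc79fd2b2fb5cd36e371c6600a642b05ec87dac0f9093f9155b7b06ccdad7b, 4, 2790142593640457551545) .leaf) (1191509278823838325839, 0x90c9fd62b482e601d23a032ab0eb8d6b8e48a56375e826128d3eb9ca150b83840978350341cbf1c4f, 2, 2829885802739476021478) (.node .leaf (1205323201526171060386, 0x1aaecddf94b1f30272a02b9055ce0e6d91ff922886abb377e52c7cc09ca80ae41573839b647fe48a2, 3, 540126508452987290617) .leaf)))))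

/-- part of the table of involutions -/
def stp_2 : Tree := (.node (.node (.node (.node (.node .leaf (1220812636937771311194, 0x1259835e0732d5ab6fd9931edbfb747bcc21013c82dba3d2ccdddfaf2d570f5422e2dc126ffc8605a, 4, 2628379248301456597786) .leaf) (1413265971206443576031, 0x60452323ed90e6c04a54892b87d70c60ac07d5ee9d3ecaad525d063aab195074c9d0159021b812adf, 3, 1647760775944537008383) (.node .leaf (1538888824580745201883, 0x3852058a58311739369347d4db17d824b86f0236ce148162960c45ce4da4d1f536c5f6092e1bc08db, 4, 1912339266392653032863) .leaf)) (1600555905934939151131, 0x7266c757e23483fa0f310ac97ea3ee6e8de7248f845ec900bafff5da5bd492156c42cdc56d5945b1b, 3, 2126016339802676003307) (.node (.node .leaf (1601984308881562949510, 0xaa8e2f9ffda6397aed5a2a2fec5de70c6318ddec79b0a3aa2311247fd3bfe7c56d7ff91404b365786, 4, 2252368767383005627564) .leaf) (1647760775944537008383, 0x28d7cf0ddc91fd1ac8e7829654d18fe0b1099a3fca35f3c377247f46b239e0a5953463f82c42668ff, 2, 3245443041869332079412) (.node .leaf (1676865652964972832324, 0x5a3f93414e20d4382a47fde2cc86718f43c7bcdb49658eb3308b5a819db52795ae72f8af4e6a82644, 2, 4583923163281098575555) .leaf))) (1683041185008006998140, 0x22300d1f2c81e5147126a996cf38dc2858b00a1f088c0347cb2079451c49aa65b3ce370a162c0287c, 2, 4503404522091892007886) (.node (.node (.node .leaf (1696430872651591129323, 0x6b732fa70c81e51c5be54c96fdad4aa67101463adadccbe9c320794716f95325bf6b52a99c40518eb,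 3, 2370212985887801655743) .leaf) (1860933026223247030247, 0xacebb742e413e63c44ad0ef7ff285ae038cffbe9d75568be99a3014c937ab464e1a237b44d5377e7, 3, 2920743904491785512030) (.node .leaf (1869488962104757564189, 0xd9ca3feddbffd729ca8bf539b6cf954f312870f2bfc81d7d799a30e2a3fed2265585f020ea7c7b31d, 4, 938417665970915079642) .leaf)) (1891816465840913179435, 0x1b80b981ac6ba603da93cfe70e1f56ba64954fab9fcca62aa908ec8f50e17b9668e3a3c68ba8ae32b, 4, 3023328168554570192282) (.node (.node .leaf (1902878979451761295826, 0xc12449646d49b18472307347134ed6139095e31ba8f5bb39c56e462c0c419266727c02ded2c1181d2, 4, 306124920618193631367) .leaf) (1912339266392653032863, 0x689d997c64fae6c31da1c881d615ecc0dbfe0452c608fe241b6439135e2882267ab09dec6c52fed9f, 3, 4257392422786689034690) (.node .leaf (1938745155582210227141, 0xaa1abd59474852d5a5eee6a271d0ee8d8aceab211a793ad8916220b123730569197e6f1707123bc5, 3, 1191509278823838325839) .leaf)))) (1958854335613586588465, 0x29dd2ba654425ae67444137c1d6567e2c50ac0ac157a52e84354161762f40cd6a309097c915a34331, 2, 4503404522091892007886) (.node (.node (.node (.node .leaf (2076834421524331761735, 0x18508fcca4748719eac2671c257783b5816b0411c61423f3291d21c67ab099c7095de0ed605ac1047, 3, 1958854335613586588465) .leaf) (2108029935362306633587, 0x28aeb143cbe63c736afacea411afef2c6b88488a1b8a24af4ea9703f73eeeef7246cac96407f26f73, 4, 2419487203838326315508)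 (.node .leaf (2126016339802676003307, 0x231e414699d3bc99bf23599cd019d53bb9ab007ac8c79051a674ef266fc8d6673406754eee6ac01eb, 2, 3141671980806516801898) .leaf)) (2148259006354003612714, 0xa832038c054342bb3c2112b9b2cc12f922109a70a5b042762e70e9209b747c57475152850a004542a, 3, 2233959459179602920781) (.node (.node .leaf (2168367967841645048393, 0xeb39b964f1572e3cb01a9fe137ad2253d13c6ca7b5de4c3b8b065b2b5b2630e758c268a3f00e53249, 2, 4037326501153990594905) .leaf) (2180966419637155023539, 0x92e85fd13974195fd2b169f5846ccaf6243fdbbf2beaf56e6120b9fcbb90e20763afd3b6798264ab3, 4, 700584384367853081150) (.node .leaf (2216754796270592840078, 0x1220c97921dfbf9a515e770ceee514b76509d149846f41bfbd50d0afc48a4e2782ba716567c19d18e, 4, 2252368767383005627564) .leaf))) (2225160177265979239209, 0x482d49387ee0689ca9bdfb705359ac07a8768f8c0bec3a53e9e4e00a4beae1c78a04cffd1cbed2b29, 2, 4583923163281098575555) (.node (.node (.node .leaf (2233959459179602920781, 0x3b304b1bad634eb7d1d6539e469a95065bff11534ecc12c6eb58d3adf47594e791a6a54196ffc454d, 2, 3141671980806516801898) .leaf) (2242598918661958978104, 0x39cddd11cc689f9e7aff13c69fbe2e9f79581dc1cedf97b3eb698ecdbde36b179924fdab98932ca38, 3, 4195722316141973672147) (.node .leaf (2252368767383005627564, 0x3b708b77ad505a9df7c55e1e86795517ea1f412b0edc22ddeb5416a77df15787a19e5545fa87d04ac, 3, 3503725844239794331633) .leaf)) (2277014854399206622450,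 0xb6e8f4b33777ebcb55c3d508b8b7049bff21816849660d781ccb56adbf664c7b6fedd1ef308404f2, 3, 1191509278823838325839) (.node (.node .leaf (2296682009444912298043, 0x13981f0d7f26a7f2a9cfb89fbedacdd841f1c25c68882347c955a3ad24ea3a7c80dd973f5255783b, 4, 3150046759036366525837) .leaf) (2334267898977116297017, 0x425c67b797f269b5f7cc52efe802d46baa130fb11352eb946cdddf645a1ff197e8a797ea3686d1739, 3, 2370212985887801655743) (.node .leaf (2348126159819672968305, 0x9802990ac17b21f6b03e424fe4556dec1b336b5ee01175291572f4be76e731e7f4acbed734db8dc71, 2, 4037326501153990594905) .leaf)))))

/-- part of the table of involutions -/
def stp_3 : Tree := (.node (.node (.node (.node (.node .leaf (2400567606841918423425, 0x5d2be2a3a0111a04a6c145a088a457eae8884060574af8a8e804468129b05168222915faba2210181, 3, 1191509278823838325839) .leaf) (2419487203838326315508, 0x8e2f7071c80d024409d128c4f2315b11dd2a1908be13a4961804461fc92028183292148e5fa9199f4, 3, 1683041185008006998140) (.node .leaf (2451017820075440845470, 0xd77930ee2c196cad6c98c39d6309a28fc0394c927ace6e593c55cb8f2c06a7f84deb4894f44f1b29e, 2, 3141671980806516801898) .leaf)) (2463075924089464904869, 0x3c966e6c2234812206d22a2bb959ab9216d98d3653ed7182bf904fca7035aa685860b8706198f5ca5, 4, 2334267898977116297017) (.node (.node .leaf (2514005876484401156402, 0x6cd50e8f4793830ffec633f6fb3f969a448d595e87d13bee0f88356788b9a648848d710e3794a5132,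 3, 3503725844239794331633) .leaf) (2537800366987823961097, 0x4dc7685d24b1f02a61b72aa264c384fbb34d95025371da17492c7c0a986dcaa89930e13eecd365409, 3, 4258549295215544484810) (.node .leaf (2543874648521035208178, 0x65b0aeefed2859a67457116279d690b37a7ef57c996c2bbbfb4a16699d15c4589e75a42cde9fbd5f2, 2, 2829885802739476021478) .leaf))) (2567707560787490829165, 0x25963accc22d6a0676d49e56b9cbe2bd39aa0991168fe4d05388350e0a91ff78b3219c63d0f1ef36d, 3, 4257392422786689034690) (.node (.node (.node .leaf (2628379248301456597786, 0x643868e6b48de529ce3fe1b514d561b2a8978a98d16f3b617b247f0e764e6318e7c16e894808da31a, 3, 2126016339802676003307) .leaf) (2636963822152442692905, 0xf68032bddfba7fa720ed03b3817dd34b0f85cf3b7ff5dffce2e1f5a2595fa318ef3397103b8afc529, 4, 938417665970915079642) (.node .leaf (2659995209994482623242, 0x2583a2838c356034fca0f44689f813812d0949abda886219fa2164042b556539032d95e3b39ba230a, 3, 2680333734674378507761) .leaf)) (2661429147388698763816, 0x6e2892bd3aa5c0fdcfbbbbdc91b2b25901fc9bdcca2bac50f2f98f1cdabeb3a9046bfbcb1ae212228, 4, 2252368767383005627564) (.node (.node .leaf (2661773039285132329098, 0xc50d024e588591fc56d02808c09387e8a8edaa712a3149869c5ec81a789cfc3904b857c8d4630008a, 3, 4258549295215544484810) .leaf) (2680333734674378507761, 0x45c5aab765b918b6d67257e4534694aada9bf17c51716aadd96e462db59c95f914d1a52ab6a6fc5f1, 2, 2829885802739476021478)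 (.node .leaf (2688766126556223626350, 0x37a0403a380d02338e110ca470880c9a33acf71b8de8100e8e03408ce38443291c2203268ceb3dc6e, 3, 1191509278823838325839) .leaf)))) (2706553915196258309586, 0x4fc6acd295ba21b661b21864ae3ec77bc2ecb57493f1ab34a56e886d986c86192b8fb1def0bb2d5d2, 3, 1676865652964972832324) (.node (.node (.node (.node .leaf (2750788462219580047868, 0xdcf63ac835ba20d141327b67955db497bc145917b1cb2e385d658bbeda79ec4951edbcc16391a81fc, 4, 5492773128422824426) .leaf) (2790142593640457551545, 0x3dc4f037249b0e156dc0b42bfbe478df1a2f78cd175136ba3e13f980eba92d4974101c21b628bbeb9, 3, 2126016339802676003307) (.node .leaf (2809500852256794076593, 0x7e38622068a99e3656f4f5a6136a06f042db796c5f8e18881a2a678d95bd3d6984da81bc10b6de5b1, 5, 1601984308881562949510) .leaf)) (2829885802739476021478, 0x243480788831141a260747a65a23800db1e75039890d201e220c45068981d1e99688e0036c79d40e6, 1, 144115462954287105) (.node (.node .leaf (2881762585096131788462, 0x7f3298aaa423b23d4385ee59a38e8f1a2ea2b8cac6e02e606b1ae980f6a4f3f9c387d5ae992553eae, 3, 2451017820075440845470) .leaf) (2919759072847862057870, 0xe4dd8e537aa5c297fd3e6807c657fc508819aae26c294824d7ee9f4e591bb3b9e47cbff3564b24b8e, 3, 2920743904491785512030) (.node .leaf (2920743904491785512030, 0xc72cb8e175962efb69e7b12547b6f3058e46a07f373d8eb20d6e8834504c9ed9e5576d25ef051645e, 2, 3245443041869332079412) .leaf))) (2952502687352674633604,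 0x7f4bdec811dfbecae94877be1fada195a7b323b0c5976cf59757d6f620bbdc4a00e34af1e1a60c784, 3, 788473086403231838469) (.node (.node (.node .leaf (2971176222962312563034, 0x5c526c9025e7df87b3a24de844569a3458dd125697149b240979f7e1ece8937a1115a68d16374495a, 5, 3693247488364610002880) .leaf) (2979735868541913990272, 0xcfe7c860025569ec0c885580130e9003bbdd067aa2c4d93095ccb5100a66c6ca18824611f22d70480, 3, 2348126159819672968305) (.node .leaf (3006005052540056458393, 0x57a56aabe4425a0793435f68bd2cd1326bdfd52655e95aaaf9109681e4d0d7da2f4b344c9af7f5499, 5, 482488728260819887791) .leaf)) (3023328168554570192282, 0x4c65e6ccd1e3a9a486f23ee8f946d5c15bde0566931979b33478ea6921bc8fba3e51b57056f78159a, 3, 2543874648521035208178) (.node (.node .leaf (3066610548443565073561, 0xf4338a71ec4491ccf861d683c7f54503470f7b4268595bb95f628d93d3d1231a63dc53e35dc852499, 3, 2451017820075440845470) .leaf) (3110326705723341515464, 0x469e4eb62458882c48dcc15a465f9bc5c1c48ef142a86af5651d214b5697bb9a89c743ba362b3aac8, 4, 2514005876484401156402) (.node .leaf (3125957646728040770990, 0x1fc80e29c5535b82c2c4d1ea5d581f6a9b38db6b87f2038a7154d6e0b0b1347a975607daa6ce36dae, 4, 1119586622926684995574) .leaf)))))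

/-- part of the table of involutions -/
def stp_4 : Tree := (.node (.node (.node (.node (.node .leaf (3150046759036366525837, 0xd7a0984a34fae728542e0e1025e0d40d072fc713e4327f58ad20b980748e80caac3ae35ae3922958d, 3, 3503725844239794331633) .leaf) (3211993204375865481146, 0x74fb2ab5497418eaac6541d32740564086e04ab7d81148c8fb6439b01295224ae1f5c3182b01f57ba, 3, 2126016339802676003307) (.node .leaf (3226263559933566268633, 0x4fb5c60afe413f29c0d6a9a16182e1c18663d7294f259b9b088d204881b48a8aee566ae485b6634d9, 4, 2790142593640457551545) .leaf)) (3245443041869332079412, 0x5d44dae8f84fe603aea4b525d0407086d8a2efae4f713c0dc926c3855b702d0afef91e37c68bde334, 1, 144115462954287105) (.node (.node .leaf (3380219413760307090381, 0x66a6befd85cbd31e239a7a33aea6e59d95d4c38b1722ff78d70d58682b5b91eb73df7bfa51e3fd3cd, 3, 277571376499958134018) .leaf) (3503725844239794331633, 0xe7405ed9b9c3a7ded046304f2c58ad6e92112ffdacce3d852757d6742a59a6abdeff6bbcd0c905ff1, 2, 3245443041869332079412) (.node .leaf (3504866199335840513786, 0x75d55a2fa668c05324dead1938688ded1354ddf9c2b3aedd0b904f98f112b43bdffca16b80e33fefa, 4, 1205323201526171060386) .leaf))) (3534860519159926374084, 0x4d4bae51b3777d91687fc65fa29e5fa8da1b45ce509719ede5fc9a6d7df314bbfa00b51aea84c3ec4, 3, 1683041185008006998140) (.node (.node (.node .leaf (3536115979482088830897, 0xe6c28ea88c4491ff4eff9f15b5ffe45012cd95e1aaa38be7ff698e5ebb568a8bfb1779c318c6377b1,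 4, 2514005876484401156402) .leaf) (3565798945060099341872, 0x2fb0e94fa79380292fab871e28133ff472fb4aca520b524e1fb81a272a6f7edc14d66b01ea1da3e30, 2, 3141671980806516801898) (.node .leaf (3693247488364610002880, 0x6c9b2bad00a6a4c1e40714846a96b8d66e47a9b8d06e3827b74a161551f8f53c8361adf00f8331fc0, 4, 3974879790555024565985) .leaf)) (3710779172246323899995, 0x6fb75f1f419d59ec6eeeb30ed51fb9f7ff8ecbfa82edcdb8937c437712ffe33c92967ec9b7c32ae5b, 2, 4037326501153990594905) (.node (.node .leaf (3800459176326020414701, 0xffd77ff38b87d689657e8c63bcce5c40ee2bf14a7da00caf77ee9fe9c83b40ece05f74d2c3e173ced, 4, 2514005876484401156402) .leaf) (3813475785731627748908, 0x5c8bfde35c3561a0ad6e47adcf7defe9478ff4f359a9afbf6172f4c788e69e8ceba9b967657530e2c, 3, 2920743904491785512030) (.node .leaf (3892002699684104584309, 0x56dce97175962eb07532f7b4bf18cea98317cf1d55b73a5c5d658bac1d4cbded2fc633aa60c5f3c75, 4, 1094446459044344049642) .leaf)))) (3916714597509458963043, 0x45bced85ec91fc39d9398c639f05ba25202368c6990e1a39ad23794a738ff86d4535586caa25e2a63, 3, 2225160177265979239209) (.node (.node (.node (.node .leaf (3948878643102465617660, 0xafabd5b98482e7f2ee43881d8ebf4ed9e60992ace4ba17f44e5d0657f4ac5a7d611b32bd890ff6efc, 4, 2076834421524331761735) .leaf) (3974879790555024565985, 0xbcdcc92e622d69759361c5498a06f3b07ad1c98da02711aa6fb81a912be4e54d77a89cdb1af53a6e1, 3, 3503725844239794331633)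 (.node .leaf (4001749263700704224427, 0x7302f3348a99cfa94a5ad78dcd604290f62c434db25707cd979f7501c9c051d8ef6d5928d575e4ab, 3, 540126508452987290617) .leaf)) (4037326501153990594905, 0x4658633db0a6a43375751476b74a458820945456519618cf6c29a90cdd5d451dadd29162082515159, 1, 144115462954287105) (.node (.node .leaf (4056914138386750858618, 0x1f44efb83e20d59e22e699221235c438de52944c9b3543a3d1e4e0c3ffb18cfdbecfe5a691235657a, 4, 1119586622926684995574) .leaf) (4188132334506625884355, 0xddac14ed1572c83db83c978c280c223b0b99830c376b053b455cb20f6e0f25e30a03088ec2e660c3, 4, 2277014854399206622450) (.node .leaf (4195722316141973672147, 0x6c95c1f365e7dd40727014763bdb564a355d792ac1cc0bccd22a673ea5296b5e3735810a43d8b10d3, 2, 4503404522091892007886) .leaf))) (4257392422786689034690, 0x96c109d8b9c3a4826dd1f15d1d454a142801150aaa0c80e30150d0aecf0844ae6cb304be4884269c2, 2, 2829885802739476021478) (.node (.node (.node .leaf (4258549295215544484810, 0xff2075f5e668c38a8ffb48995617c083a9f1ecc776728ffb76fff5ca72a2fd4e6db3e553cc4a1c3ca, 2, 3245443041869332079412) .leaf) (4332732792115721695643, 0x4e29e38e31e3a88b93e7ff3ab82fc3a821ff1c66d38a78e38c78ea22e4f9ffceae0bf0ea087fc719b, 3, 1647760775944537008383) (.node .leaf (4435691431383947477680, 0x55e94ba10d50585d8bd0335a8c2425f24568d0cc4a774ae9951096b99d1104df075959f8b142b02b0, 3, 2680333734674378507761) .leaf)) (4469562403435969858006,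 0x3f78c33ee9d3be9693e27c7c92e8df4ac88952758fde30cfba74efa5a4f89f1f24ba37d2b222549d6, 3, 277571376499958134018) (.node (.node .leaf (4503404522091892007886, 0xfd6b573f6be63eb31922ed4751f0b56e681510fe6c49fc0146e1f5e596bdd51f4214ad8c8670163ce, 1, 144115462954287105) .leaf) (4583923163281098575555, 0x165db3d65d5f5bd882ef7128038d2bc7869831e11fd2f7b20477efb2ba521def87eb686569ecc8ec3, 1, 144115462954287105) (.node .leaf (4613983244992106958159, 0x56afad25b4588b34c4156dbe87f858d8ebaae353d5abeb496d1622cd31055b6fa1fe16363aeab8d4f, 3, 3565798945060099341872) .leaf)))))

/-- part of the table of involutions -/
def stp_5 : Tree := (.node stp_1 (1208680604386478780628, 0x50d563ba819d5a87f160eb1061740774d020fc35143558eea06756a1fc583ac4185d01dd34083f0d4, 3, 2126016339802676003307) stp_2)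

/-- part of the table of involutions -/
def stp_6 : Tree := (.node stp_3 (3141671980806516801898, 0x7e196e9f6d49b3a80dd54d2a93dd41502091205a9f865ba7db526cea0375534aa4f7505408244816a, 1, 144115462954287105) stp_4)

/-- the table of a Sylow 2-subgroup -/
def STAB : Tree := (.node stp_5 (2370212985887801655743, 0x15b90adeb48de606da602ee01f54062f4117b06fc56e42b7ad237981b6980bb807d5018bd045ec1bf, 2, 3245443041869332079412) stp_6)

/-- generators of the Sylow 2-subgroup -/
def sgens : List ℕ := [0x243480788831141a260747a65a23800db1e75039890d201e220c45068981d1e99688e0036c79d40e6, 0x5d44dae8f84fe603aea4b525d0407086d8a2efae4f713c0dc926c3855b702d0afef91e37c68bde334, 0x7e196e9f6d49b3a80dd54d2a93dd41502091205a9f865ba7db526cea0375534aa4f7505408244816a, 0xfd6b573f6be63eb31922ed4751f0b56e681510fe6c49fc0146e1f5e596bdd51f4214ad8c8670163ce, 0x4658633db0a6a43375751476b74a458820945456519618cf6c29a90cdd5d451dadd29162082515159, 0x165db3d65d5f5bd882ef7128038d2bc7869831e11fd2f7b20477efb2ba521def87eb686569ecc8ec3]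

/-- code of the involution `t` -/
def tc : ℕ := 0x243480788831141a260747a65a23800db1e75039890d201e220c45068981d1e99688e0036c79d40e6

/-- codes of the conjugates of `t` under the powers of `x` -/
def lc : List ℕ := [0x243480788831141a260747a65a23800db1e75039890d201e220c45068981d1e99688e0036c79d40e6, 0x12b3cddbb4eed3216f36a99a378e8a890137ae3fc4acf376ed3bb4c85bcdaa668de3a2a2404deb8ff, 0x4eb2a5e8a1e4918081a5d7bac43e56713b07c96e53aca97a28792460206975eeb10f959c4ec1f25b9, 0x7fd5aa7dbcf802173ce31aacfdead1c7fa66f55b9ff56a9f6f3e0085cf38c6ab3f7ab471fe99bd56e, 0x517da507e0bfeb1276256a5686724f8ea2be331ed45f6941f82ffac49d895a95a19c93e3a8af8cc7b, 0x56516859957e1283540128287cca18b1bade377b95945a16655f84a0d5004a0a1f32862c6eb78ddee, 0xc24001221188c908081802432100010a0902c040309000488462324202060090c84000428240b010, 0x3ee78c5d6c6d6715bc81396c802a4be1613ba2458fb9e3175b1b59c56f204e5b200a92f8584ee8916, 0x431422dc11e7dcb8117565cec79f5efb3bc9033f10c508b70479f72e045d5973b1e7d7becef240cfc, 0x4c3064ed906ef506f7807da8b8f642d540997441930c193b641bbd41bde01f6a2e3d90b550265d106, 0x1dee4e3de491972cd3f59762681113caf9dbcc38877b938f792465cb34fd65d89a0444f2be76f30e2, 0x7f05a25c08de122120f43baa14a8115388dd2010dfc1689702378488483d0eea852a0454e23748043, 0x196ac6bbc130afba2ad2cac43df791ee883a5c79065ab1aef04c2bee8ab4b2b10f7de47ba20e971e4, 0x4c92635ed1b63082f6e5ff32247212f9aaf99d2c532498d7b46d8c20bdb97fcc891c84be6abe674b1,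 0x280808021c2610058082418000828004423101210a02020087098401602090600020a001108c40484, 0x4b5c2f57b594edb315f082d4a7985caf8b121f3092d70bd5ed653b6cc57c20b529e6172be2c487cc2, 0x226fc9d06d4688a321104b581d8c085501431244889bf2741b51a228c84412d6076302154050c4912, 0x39c28c6acc4727110382414c5ac0822312a9c17c4e70a31ab311c9c440e0905316b02088c4aa705f1, 0x6630a2ef88c250029a600c681e8c071503a3512d198c28bbe2309400a698031a07a301c540e8d44b4]

/-- relators: words in `x` and `t` with exponents whose powers are scalar matrices -/
def rels : List (List Bool × ℕ) := [([false, true], 19), ([false, false, true], 17), ([false, false, false, true], 9), ([false, false, false, false, true], 17), ([false, true, false, false, true, false, false, false, true], 9)]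

/-- code of an element that conjugates `x` to its fourth power -/
def nc : ℕ := 0x1c729368ac3d5819fc1649743469b6b8cc7481ed49b30645b405688f4a709e7d8050ec0963c2d92d8

/-- code of the matrix of the semilinear map -/
def Nc : ℕ := 0x42cde703c1590da182596558a8987654af60a55750bb29c4105668685496527629321c9b2bcde9417

/-- code of the conjugate of `x` under the field automorphism -/
def xbar : ℕ := 0xe8e969641daccf0a709e5a6248a0e4fd508d3805bf0acb11a3033129c9ebb384b220e97344317c036

/-- code of the conjugate of `y` under the field automorphism -/
def ybar : ℕ := 0x39e43b1b1162997db49df34eae99f88be986960092f25515631592bfe4f7c1e7abb4de1d9a5ce3984

/-- the element `y` as a word in `x` and `t` -/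
def yword : List Bool := [true, false, false, false, false, false, false, false, false, false, false, false, true, false, false, false, true, false, true, false, false, false, true, false, false, false, false, false, false, false, false, false, false, false, false, false, false, false, false, false, false, true, false, false, false, false, false, false, false, false, false, false, false, false, false, false, false, false, false, false, true, false, false, false, false, false, false, false, false, false, false, false, false, false, false, false, false, false, false, false, false, false, false, false, false, false, false, false, false, false, false, false, false, false, false, false, false, false, false, false, false, false, false, false, false, false, false, false, false, false, false, false, false, false, false, true, false, false, false, false, false, false, false, false, false, false, false, false, false, false, false, false, false, false, false, false, false, false, false, false, false, false, false, false, false, false, false, false, false, false, false, false, false, false, false, false, false, false, false, false, false, false, false, false, false, false, false, false, false, false, false, false, false, false, false, false, false, false, false, false, false, false, false, false, false, false, false, false, false, false, false, false,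 false, false, false, false, false, false, false, false, false, false, false, false, false, false, true, false, false, false, false, false, false, false, false, false, false, false, false, false, false, false, false, false, false, false, false, false, false, false, false, false, false, false, false, false, false, false, false, false, false, false, false, false, false, false, false, false, false, false, false, false, false, false, false, false, false, false, false, false, false, false, false, false, false, false, false, false, false, false, false, false, false, false, false, false, false, false, false, false, false, false, false, false, false, false, false, false, false, false, false, false, false, false, false, false, false, true, false, false, true, false, false, false, false, true, false, false, false, false, true, false, true, false, true, false, true, false, false, false, false, true, false, false, false, false, false, false, false, false, false, false, false, false, false, false, false, false, false, false, true, false, false, false, false, false, false, false, false, false, false, false, false, false, false, false, false, false, false, true, false, false, false, false, false, false, false, false, false, false, false, false, false, false, false, false, false, false, false, false, false, false, false, false, false, false, false, false,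 false, false, false, false, false, false, false, false, false, false, false, false, false, false, false, false, false, false, false, false, false, false, false, false, false, false, true, false, false, false, false, false, false, false, false, false, false, false, false, false, false, false, false, false, false, false, false, false, false, false, false, false, false, false, false, false, false, false, false, false, false, false, false, false, false, false, false, false, false, false, false, false, false, false, false, false, false, false, false, false, false, false, false, false, false, false, false, false, false, false, false, false, false, false, false, false, false, false, false, false, false, false, false, false, false, false, false, false, false, false, false, false, false, false, false, false, false, true, false, false, false, false, false, false, false, false, false, false, false, false, false, false, false, false, false, false, false, false, false, false, false, false, false, false, false, false, false, false, false, false, false, false, false, false, false, false, false, false, false, false, false, false, false, false, false, false, false, false, false, false, false, false, false, false, false, false, false, false, false, false, false, false, false, false, false, false, false, false, false, false, false, false, false, false, false,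 false, false, false, false, false, false, false, false, false, false, false, false, false, true, false, false, true, false, false, false, false, true, false, false, false, false, true, false, true, false, true, false, true, false, false, false, false, true, false, false, false, false, false, false, false, false, false, false, false, false, false, false, false, false, false, false, true, false, false, false, false, false, false, false, false, false, false, false, false, false, false, false, false, false, false, true, false, false, false, false, false, false, false, false, false, false, false, false, false, false, false, false, false, false, false, false, false, false, false, false, false, false, false, false, false, false, false, false, false, false, false, false, false, false, false, false, false, false, false, false, false, false, false, false, false, false, false, false, false, false, true, false, false, false, false, false, false, false, false, false, false, false, false, false, false, false, false, false, false, false, false, false, false, false, false, false, false, false, false, false, false, false, false, false, false, false, false, false, false, false, false, false, false, false, false, false, false, false, false, false, false, false, false, false, false, false, false, false, false, false, false, false, false, false, false, false,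 false, false, false, false, false, false, false, false, false, false, false, false, false, false, false, false, false, false, false, false, false, false, false, false, false, true, false, false, false, false, false, false, false, false, false, false, false, false, false, false, false, false, false, false, false, false, false, false, false, false, false, false, false, false, false, false, false, false, false, false, false, false, false, false, false, false, false, false, false, false, false, false, false, false, false, false, false, false, false, false, false, false, false, false, false, false, false, false, false, false, false, false, false, false, false, false, false, false, false, false, false, false, false, false, false, false, false, false, false, false, false, false, false, false, false, false, true, false, false, true, false, false, false, false, true, false, false, false, false, true, false, true, false, true, false, true, false, false, false, false, true, false, false, false, false, false, false, false, false, false, false, false, false, false, false, false, false, false, false, true, false, false, false, false, false, false, false, false, false, false, false, false, false, false, false, false, false, false, true, false, false, false, false, false, false, false, false, false, false, false, false, false, false, false, false, false,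 false, false, false, false, false, false, false, false, false, false, false, false, false, false, false, false, false, false, false, false, false, false, false, false, false, false, false, false, false, false, false, false, false, false, false, false, false, true, false, false, false, false, false, false, false, false, false, false, false, false, false, false, false, false, false, false, false, false, false, false, false, false, false, false, false, false, false, false, false, false, false, false, false, false, false, false, false, false, false, false, false, false, false, false, false, false, false, false, false, false, false, false, false, false, false, false, false, false, false, false, false, false, false, false, false, false, false, false, false, false, false, false, false, false, false, false, false, false, false, false, false, false, false, false, false, false, false, false, true, false, false, false, false, false, false, false, false, false, false, false, false, false, false, false, false, false, false, false, false, false, false, false, false, false, false, false, false, false, false, false, false, false, false, false, false, false, false, false, false, false, false, false, false, false, false, false, false, false, false, false, false, false, false, false, false, false, false, false, false, false, false, false, false, false, false,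 false, false, false, false, false, false, false, false, false, false, false, false, false, false, false, false, false, false, false, false, false, false, false, false, true, false, false, true, false, false, false, false, true, false, false, false, false, true, false, true, false, true, false, true, false, false, false, false, true, false, false, false, false, false, false, false, false, false, false, false, false, false, false, false, false, false, false, true, false, false, false, false, false, false, false, false, false, false, false, false, false, false, false, false, false, false, true, false, false, false, false, false, false, false, false, false, false, false, false, false, false, false, false, false, false, false, false, false, false, false, false, false, false, false, false, false, false, false, false, false, false, false, false, false, false, false, false, false, false, false, false, false, false, false, false, false, false, false, false, false, false, true, false, false, false, false, false, false, false, false, false, false, false, false, false, false, false, false, false, false, false, false, false, false, false, false, false, false, false, false, false, false, false, false, false, false, false, false, false, false, false, false, false, false, false, false, false, false, false, false, false, false, false, false, false, false,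 false, false, false, false, false, false, false, false, false, false, false, false, false, false, false, false, false, false, false, false, false, false, false, false, false, false, false, false, false, false, false, false, false, false, false, false, true, false, false, false, false, false, false, false, false, false, false, false, false, false, false, false, false, false, false, false, false, false, false, false, false, false, false, false, false, false, false, false, false, false, false, false, false, false, false, false, false, false, false, false, false, false, false, false, false, false, false, false, false, false, false, false, false, false, false, false, false, false, false, false, false, false, false, false, false, false, false, false, false, false, false, false, false, false, false, false, false, false, false, false, false, false, false, false, false, false, false, true, false, false, true, false, false, false, false, true, false, false, false, false, true, false, true, false, true, false, true, false, false, false, false, true, false, false, false, false, false, false, false, false, false, false, false, false, false, false, false, false, false, false, true, false, false, false, false, false, false, false, false, false, false, false, false, false, false, false, false, false, false, true, false, false, false, false, false, false,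 false, false, false, false, false, false, false, false, false, false, false, false, false, false, false, false, false, false, false, false, false, false, false, false, false, false, false, false, false, false, false, false, false, false, false, false, false, false, false, false, false, false, false, false, false, false, false, false, true, false, false, false, false, false, false, false, false, false, false, false, false, false, false, false, false, false, false, false, false, false, false, false, false, false, false, false, false, false, false, false, false, false, false, false, false, false, false, false, false, false, false, false, false, false, false, false, false, false, false, false, false, false, false, false, false, false, false, false, false, false, false, false, false, false, false, false, false, false, false, false, false, false, false, false, false, false, false, false, false, false, false, false, false, false, false, false, false, false, false, true, false, false, false, false, false, false, false, false, false, false, false, false, false, false, false, false, false, false, false, false, false, false, false, false, false, false, false, false, false, false, false, false, false, false, false, false, false, false, false, false, false, false, false, false, false, false, false, false, false, false, false, false, false, false, false,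 false, false, false, false, false, false, false, false, false, false, false, false, false, false, false, false, false, false, false, false, false, false, false, false, false, false, false, false, false, false, false, false, false, false, false, true, false, false, true, false, false, false, false, true, false, false, false, false, true, false, true, false, true, false, true, false, false, false, false, false, false, false, false, false, false, false, false, false, false, false, false, false, false, false, false, false, false, true, false, false, false, false, false, false, false, false, false, false, false, false, false, false, false, false, false, false, true, false, false, false, false, false, false, false, false, false, false, false, false, false, false, false, false, false, false, true, false, false, false, false, false, false, false, false, false, false, false, false, false, false, false, false, false, false, false, false, false, false, false, false, false, false, false, false, false, false, false, false, false, false, false, false, false, false, false, false, false, false, false, false, false, false, false, false, false, false, false, false, false, false, true, false, false, false, false, false, false, false, false, false, false, false, false, false, false, false, false, false, false, false, false, false, false, false, false, false,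 false, false, false, false, false, false, false, false, false, false, false, true, false, false, false, false, false, false, false, false, false, false, false, false, false, false, false, false, false, false, false, false, false, false, false, false, false, false, false, false, false, false, false, false, false, false, false, false, false, false, false, false, false, false, false, false, false, false, false, false, false, false, false, false, false, false, true, false, false, false, false, false, false, false, false, false, false, false, false, false, false, false, false, false, false, false, false, false, false, false, false, false, false, false, false, false, false, false, false, false, false, false, false, true, false, false, false, true, false, false, true, false, false, true, false, true, false, false, false, false, true, false, false, false, false, true, true, false, false, false, false, false, false, false, false, false, false, false, false, false, false, false, false, false, false, true, false, false, false, false, false, false, false, false, false, false, false, false, false, false, false, false, false, false, true, false, false, false, false, false, false, false, false, false, false, false, false, false, false, false, false, false, false, false, false, false, false, false, false, false, false, false, false, false, false, false, false,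 false, false, false, false, false, false, false, false, false, false, false, false, false, false, false, false, false, false, false, false, false, false, true, false, false, false, false, false, false, false, false, false, false, false, false, false, false, false, false, false, false, false, false, false, false, false, false, false, false, false, false, false, false, false, false, false, false, false, false, false, false, false, false, false, false, false, false, false, false, false, false, false, false, false, false, false, false, false, false, false, false, false, false, false, false, false, false, false, false, false, false, false, false, false, false, false, false, false, false, false, false, false, false, false, false, false, false, false, false, false, false, false, false, true, false, false, false, false, false, false, false, false, false, false, false, false, false, false, false, false, false, false, false, false, false, false, false, false, false, false, false, false, false, false, false, false, false, false, false, false, false, false, false, false, false, false, false, false, false, false, false, false, false, false, false, false, false, false, false, false, false, false, false, false, false, false, false, false, false, false, false, false, false, false, false, false, false, false, false, false, false, false, false, false, false,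 false, false, false, false, false, false, false, false, false, true, false, false, true, false, false, false, false, true, false, false, false, false, true, false, true, false, true, false, true, false, false, false, false, false, false, false, false, false, false, false, false, false, false, false, false, false, false, false, false, false, false, true, false, false, false, false, false, false, false, false, false, false, false, false, false, false, false, false, false, false, true, false, false, false, false, false, false, false, false, false, false, false, false, false, false, false, false, false, false, true, false, false, false, false, false, false, false, false, false, false, false, false, false, false, false, false, false, false, false, false, false, false, false, false, false, false, false, false, false, false, false, false, false, false, false, false, false, false, false, false, false, false, false, false, false, false, false, false, false, false, false, false, false, false, true, false, false, false, false, false, false, false, false, false, false, false, false, false, false, false, false, false, false, false, false, false, false, false, false, false, false, false, false, false, false, false, false, false, false, false, false, true, false, false, false, false, false, false, false, false, false, false, false, false, false, false, false,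 false, false, false, false, false, false, false, false, false, false, false, false, false, false, false, false, false, false, false, false, false, false, false, false, false, false, false, false, false, false, false, false, false, false, false, false, false, false, false, true, false, false, false, false, false, false, false, false, false, false, false, false, false, false, false, false, false, false, false, false, false, false, false, false, false, false, false, false, false, false, false, false, false, false, false, false, true, false, false, false, true, false, false, true, false, false, true, false, true, false, false, false, false, true, false, false, false, false, true, false, false, false, false, false, false, false, false, false, false, false, false, false, false, false, false, false, false, true, false, false, false, false, false, false, false, false, false, false, false, false, false, false, false, false, false, false, true, false, false, false, false, false, false, false, false, false, false, false, false, false, false, false, false, false, false, true, false, false, false, false, false, false, false, false, false, false, false, false, false, false, false, false, false, false, false, false, false, false, false, false, false, false, false, false, false, false, false, false, false, false, false, false, false, false, false, false,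 false, false, false, false, false, false, false, false, false, false, false, false, false, false, true, false, false, false, false, false, false, false, false, false, false, false, false, false, false, false, false, false, false, false, false, false, false, false, false, false, false, false, false, false, false, false, false, false, false, false, false, true, false, false, false, false, false, false, false, false, false, false, false, false, false, false, false, false, false, false, false, false, false, false, false, false, false, false, false, false, false, false, false, false, false, false, false, false, false, false, false, false, false, false, false, false, false, false, false, false, false, false, false, false, false, false, true, false, false, false, false, false, false, false, false, false, false, false, false, false, false, false, false, false, false, false, false, false, false, false, false, false, false, false, false, false, false, false, false, false, false, false, false, true, false, false, false, true, false, false, true, false, false, true, false, true, false, false, false, false, true, false, false, false, false, true]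

end Cfsg.Agent.Lib.Helper28.J3AutData
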