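import Cfsg.Agent.Lib.Helper28.J3AutData
import Cfsg.Agent.Lib.Helper28.J3Data
import Cfsg.Agent.Lib.Helper28.J3Gen
import Cfsg.Agent.Lib.Helper28.BSGSF4c

/-!
# The automorphisms of `J₃`: the Boolean checks

The checks on the entries of the table of involutions and of the table of a Sylow 2-subgroup of
the triple cover of `J₃`.
-/

set_option autoImplicit false

namespace Cfsg.Agent.Lib.Helper28.J3AutCert

open Cfsg.Agent.Lib.Helper28.F4 Cfsg.Agent.Lib.Helper28.J3Data Cfsg.Agent.Lib.Helper28.J3AutData
open Cfsg.Agent.Lib.Helper28.BSGSMat (Tree Entry sortedB)

/-- the code is one of the codes of the conjugates of `t` under the powers of `x` -/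
def inL (c : ℕ) : Bool := lc.any (Nat.beq c)

/-- the entry is invertible, its conjugates under `x` and `y` are in the table, and if it satisfies
the relators together with `x` then it is a conjugate of `t` under a power of `x` -/
def ivOK (e : Entry) : Bool :=
  invOK e.2.1 && conjOK IV xc e && conjOK IV yc e && (!(fpB xc e.2.1 rels) || inL e.2.1)

/-- the entry of the table of the Sylow 2-subgroup is valid, and if it is an involution then it is
in the table of involutions -/
def stOK (e : Entry) : Bool :=
  invOK e.2.1 && tabKey e && tabReach STAB sgens e && tabClosed STAB sgens e &&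
    (!(wordEqB [e.2.1, e.2.1] []) || wordEqB [e.2.1] [] || findW IV [e.2.1])

/-- the code is invertible and its matrix is in the group -/
def memOK (c : ℕ) : Bool := invOK c && siftP levels [c] [] []

/-- the power of the relator is the given power of the scalar `ω` -/
def relOK (r : (List Bool × ℕ) × ℕ) : Bool :=
  wordEqB (powW (cw xc tc r.1.1) r.1.2) (List.replicate r.2 sc)

/-- the exponents of `ω` for the relators -/
def relIdx : List ℕ := [0, 1, 0, 0, 0]

/-- the `i`-th code of the list is the conjugate of `t` under `x ^ i` -/
def lcOK (i : ℕ) : Bool :=
  wordEqB [lc.getD i 0] (List.replicate i xc ++ tc :: List.replicate i (inv xc))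

/-- the entries of the code `c'` are the conjugates of the entries of `c` -/
def barOK (c c' : ℕ) : Bool :=
  decide (∀ i j : Cfsg.Spor.F9, entC c' i j = (if entC c i j = 2 then 3 else
    if entC c i j = 3 then 2 else entC c i j))

end Cfsg.Agent.Lib.Helper28.J3AutCert
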