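import Cfsg.Agent.Lib.Helper28.J3CentDefs

/-!
# Certificates for the centralizer of an involution of `J₃`: the table of involutions, part 1

Generated by a script.
-/

set_option autoImplicit false

namespace Cfsg.Agent.Lib.Helper28.J3CentCert

open Cfsg.Agent.Lib.Helper28.F4 Cfsg.Agent.Lib.Helper28.J3Data Cfsg.Agent.Lib.Helper28.J3AutData
open Cfsg.Agent.Lib.Helper28.J3CentData Cfsg.Agent.Lib.Helper28.J3AutCert
open Cfsg.Agent.Lib.Helper28.BSGSMat (Tree Entry sortedB)

set_option maxRecDepth 1000000 in
theorem jv0_ok : ((chunkN 1024 IV.toList 0).all iv2OK) = true := by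
  decide +kernel

set_option maxRecDepth 1000000 in
theorem jv1_ok : ((chunkN 1024 IV.toList 1).all iv2OK) = true := by
  decide +kernel

set_option maxRecDepth 1000000 in
theorem jv2_ok : ((chunkN 1024 IV.toList 2).all iv2OK) = true := by
  decide +kernel

set_option maxRecDepth 1000000 in
theorem jv3_ok : ((chunkN 1024 IV.toList 3).all iv2OK) = true := by
  decide +kernel

set_option maxRecDepth 1000000 in
theorem jv4_ok : ((chunkN 1024 IV.toList 4).all iv2OK) = true := by
  decide +kernel

set_option maxRecDepth 1000000 in
theorem jv5_ok : ((chunkN 1024 IV.toList 5).all iv2OK) = true := by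
  decide +kernel

set_option maxRecDepth 1000000 in
theorem jv6_ok : ((chunkN 1024 IV.toList 6).all iv2OK) = true := by
  decide +kernel

set_option maxRecDepth 1000000 in
theorem jv7_ok : ((chunkN 1024 IV.toList 7).all iv2OK) = true := by
  decide +kernel

set_option maxRecDepth 1000000 in
theorem jv8_ok : ((chunkN 1024 IV.toList 8).all iv2OK) = true := by
  decide +kernel

set_option maxRecDepth 1000000 in
theorem jv9_ok : ((chunkN 1024 IV.toList 9).all iv2OK) = true := by
  decide +kernel

set_option maxRecDepth 1000000 in
theorem jv10_ok : ((chunkN 1024 IV.toList 10).all iv2OK) = true := by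
  decide +kernel

set_option maxRecDepth 1000000 in
theorem jv11_ok : ((chunkN 1024 IV.toList 11).all iv2OK) = true := by
  decide +kernel

set_option maxRecDepth 1000000 in
theorem jv12_ok : ((chunkN 1024 IV.toList 12).all iv2OK) = true := by
  decide +kernel

end Cfsg.Agent.Lib.Helper28.J3CentCert
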