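import Cfsg.Agent.Lib.Helper28.J3CentDefs

/-!
# Certificates for the centralizer of an involution of `J₃`: the table of involutions, part 2

Generated by a script.
-/

set_option autoImplicit false

namespace Cfsg.Agent.Lib.Helper28.J3CentCert

open Cfsg.Agent.Lib.Helper28.F4 Cfsg.Agent.Lib.Helper28.J3Data Cfsg.Agent.Lib.Helper28.J3AutData
open Cfsg.Agent.Lib.Helper28.J3CentData Cfsg.Agent.Lib.Helper28.J3AutCert
open Cfsg.Agent.Lib.Helper28.BSGSMat (Tree Entry sortedB)

set_option maxRecDepth 1000000 in
theorem jv13_ok : ((chunkN 1024 IV.toList 13).all iv2OK) = true := by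
  decide +kernel

set_option maxRecDepth 1000000 in
theorem jv14_ok : ((chunkN 1024 IV.toList 14).all iv2OK) = true := by
  decide +kernel

set_option maxRecDepth 1000000 in
theorem jv15_ok : ((chunkN 1024 IV.toList 15).all iv2OK) = true := by
  decide +kernel

set_option maxRecDepth 1000000 in
theorem jv16_ok : ((chunkN 1024 IV.toList 16).all iv2OK) = true := by
  decide +kernel

set_option maxRecDepth 1000000 in
theorem jv17_ok : ((chunkN 1024 IV.toList 17).all iv2OK) = true := by
  decide +kernel

set_option maxRecDepth 1000000 in
theorem jv18_ok : ((chunkN 1024 IV.toList 18).all iv2OK) = true := by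
  decide +kernel

set_option maxRecDepth 1000000 in
theorem jv19_ok : ((chunkN 1024 IV.toList 19).all iv2OK) = true := by
  decide +kernel

set_option maxRecDepth 1000000 in
theorem jv20_ok : ((chunkN 1024 IV.toList 20).all iv2OK) = true := by
  decide +kernel

set_option maxRecDepth 1000000 in
theorem jv21_ok : ((chunkN 1024 IV.toList 21).all iv2OK) = true := by
  decide +kernel

set_option maxRecDepth 1000000 in
theorem jv22_ok : ((chunkN 1024 IV.toList 22).all iv2OK) = true := by
  decide +kernel

set_option maxRecDepth 1000000 in
theorem jv23_ok : ((chunkN 1024 IV.toList 23).all iv2OK) = true := by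
  decide +kernel

set_option maxRecDepth 1000000 in
theorem jv24_ok : ((chunkN 1024 IV.toList 24).all iv2OK) = true := by
  decide +kernel

set_option maxRecDepth 1000000 in
theorem jv25_ok : ((chunkN 1024 IV.toList 25).all iv2OK) = true := by
  decide +kernel

end Cfsg.Agent.Lib.Helper28.J3CentCert
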