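import Cfsg.Agent.Lib.Helper28.J3CentCert0
import Cfsg.Agent.Lib.Helper28.J3CentCert1
import Cfsg.Agent.Lib.Helper28.J3CentCert2
import Cfsg.Agent.Lib.Helper28.J3AutCert0

/-!
# Certificates for the centralizer of an involution of `J₃`: all entries of the table of involutions

Generated by a script.
-/

set_option autoImplicit false

namespace Cfsg.Agent.Lib.Helper28.J3CentCert

open Cfsg.Agent.Lib.Helper28.F4 Cfsg.Agent.Lib.Helper28.J3Data Cfsg.Agent.Lib.Helper28.J3AutData
open Cfsg.Agent.Lib.Helper28.J3CentData Cfsg.Agent.Lib.Helper28.J3AutCert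
open Cfsg.Agent.Lib.Helper28.BSGSMat (Tree Entry sortedB)

theorem iv2_chunks : ∀ i, i < 26 → ((chunkN 1024 IV.toList i).all iv2OK) = true := by
  intro i hi
  interval_cases i
  · exact jv0_ok
  · exact jv1_ok
  · exact jv2_ok
  · exact jv3_ok
  · exact jv4_ok
  · exact jv5_ok
  · exact jv6_ok
  · exact jv7_ok
  · exact jv8_ok
  · exact jv9_ok
  · exact jv10_ok
  · exact jv11_ok
  · exact jv12_ok
  · exact jv13_ok
  · exact jv14_ok
  · exact jv15_ok
  · exact jv16_ok
  · exact jv17_ok
  · exact jv18_ok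
  · exact jv19_ok
  · exact jv20_ok
  · exact jv21_ok
  · exact jv22_ok
  · exact jv23_ok
  · exact jv24_ok
  · exact jv25_ok

theorem iv2_all : ∀ e ∈ IV.toList, iv2OK e = true :=
  all_of_chunks (s := 1024) (by norm_num) IV.toList iv2OK 26 (by rw [len_IV]; norm_num) iv2_chunks

end Cfsg.Agent.Lib.Helper28.J3CentCert
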