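import Cfsg.Agent.Lib.Helper28.J3Aut
import Cfsg.Agent.Lib.Helper28.J3CentCertAll
import Cfsg.Agent.Lib.Helper28.CentShape

/-!
# The involutions of `J₃` and their centralizers

All involutions of `J₃` are conjugate (the table of involutions of the triple cover is connected
under conjugation by the generators), so the centralizer of the involution `t` has order
`50232960 / 26163 = 1920`.  A subgroup of order 1920 of the triple cover that centralizes a lift of
`t` and contains no scalar matrix other than the identity maps isomorphically onto this centralizer;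
its structure `2^{1+4}_- : A₅` is read off from a complete table of its elements.
-/

set_option autoImplicit false

namespace Cfsg.Agent.Lib.Helper28.J3Cent

open Cfsg.Spor Cfsg.Agent.Lib.Helper28.F4 Cfsg.Agent.Lib.Helper28.J3Data
open Cfsg.Agent.Lib.Helper28.J3Cert Cfsg.Agent.Lib.Helper28.J3AutData
open Cfsg.Agent.Lib.Helper28.J3AutCert Cfsg.Agent.Lib.Helper28.J3
open Cfsg.Agent.Lib.Helper28.J3Aut Cfsg.Agent.Lib.Helper28.J3CentData
open Cfsg.Agent.Lib.Helper28.J3CentCert Cfsg.Agent.Lib.Helper28.CentShape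
open Cfsg.Agent.Lib.Helper28.BSGSMat (Tree Entry sortedB sortedB_nodup)
open scoped MatrixGroups

section
variable {F : Type*} [Field F] [Fintype F] {ω : F} [hd : Data F ω]

/-! ### all involutions are conjugate -/

theorem iv2_split {e : Entry} (he : e ∈ IV.toList) : tabKey e = true ∧ ivReach e = true := by
  have h := iv2_all e he
  unfold iv2OK at h
  rwa [Bool.and_eq_true] at h

/-- every entry of the table of involutions is conjugate to `t` -/
theorem iv_conj_t : ∀ (d : ℕ) (e : Entry), e ∈ IV.toList → e.2.2.1 = d →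
    ∃ g ∈ genGroup ω gens, g * glOf ω tc * g⁻¹ = glOf ω e.2.1 := by
  intro d
  induction d with
  | zero =>
    intro e he hd
    have h1 := (iv2_split he).2
    unfold ivReach at h1
    rw [Bool.or_eq_true] at h1
    rcases h1 with h1 | h1
    · rw [Bool.and_eq_true] at h1
      have h2 : e.2.1 = tc := Nat.eq_of_beq_eq_true h1.2
      refine ⟨1, Subgroup.one_mem _, ?_⟩
      rw [h2, one_mul, inv_one, mul_one]
    · cases hf : IV.lookup e.2.2.2 with
      | none => rw [hf] at h1; simp at h1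
      | some e' =>
        rw [hf] at h1
        simp only [Bool.and_eq_true] at h1
        have h2 : Nat.succ e'.2.2.1 = e.2.2.1 := Nat.eq_of_beq_eq_true h1.1
        rw [hd] at h2
        exact absurd h2 (Nat.succ_ne_zero _)
  | succ d ih =>
    intro e he hd
    have h1 := (iv2_split he).2
    unfold ivReach at h1
    rw [Bool.or_eq_true] at h1
    rcases h1 with h1 | h1
    · rw [Bool.and_eq_true] at h1
      have h2 : e.2.1 = tc := Nat.eq_of_beq_eq_true h1.2
      refine ⟨1, Subgroup.one_mem _, ?_⟩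
      rw [h2, one_mul, inv_one, mul_one]
    · cases hf : IV.lookup e.2.2.2 with
      | none => rw [hf] at h1; simp at h1
      | some e' =>
        rw [hf] at h1
        simp only [Bool.and_eq_true, Bool.or_eq_true] at h1
        obtain ⟨h2, h3⟩ := h1
        have h2' : Nat.succ e'.2.2.1 = e.2.2.1 := Nat.eq_of_beq_eq_true h2
        have he' := (Tree.lookup_some _ hf).1
        obtain ⟨g', hg', hgt⟩ := ih e' he' (Nat.succ.inj (h2'.trans hd))
        rcases h3 with h3 | h3
        · refine ⟨glOf ω xc * g', Subgroup.mul_mem _ (glOf_mem_genGroup (by simp [gens])) hg', ?_⟩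
          have h4 : glOf ω xc * g' * glOf ω tc * (glOf ω xc * g')⁻¹ =
              glOf ω xc * (g' * glOf ω tc * g'⁻¹) * (glOf ω xc)⁻¹ := by group
          rw [h4, hgt]
          exact eq_of_wordEqB (actsBy_conj xc_valid (iv_valid e' he'))
            (glOf_acts (iv_valid e he)) h3
        · refine ⟨glOf ω yc * g', Subgroup.mul_mem _ (glOf_mem_genGroup (by simp [gens])) hg', ?_⟩
          have h4 : glOf ω yc * g' * glOf ω tc * (glOf ω yc * g')⁻¹ =
              glOf ω yc * (g' * glOf ω tc * g'⁻¹) * (glOf ω yc)⁻¹ := by group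
          rw [h4, hgt]
          exact eq_of_wordEqB (actsBy_conj yc_valid (iv_valid e' he'))
            (glOf_acts (iv_valid e he)) h3

/-- every entry of the table of involutions, as an element of the triple cover -/
theorem iv_mem {e : Entry} (he : e ∈ IV.toList) : glOf ω e.2.1 ∈ threeJ3 F ω := by
  obtain ⟨g, hg, hgt⟩ := iv_conj_t (ω := ω) _ e he rfl
  rw [← three_eq] at hg
  rw [← hgt]
  exact Subgroup.mul_mem _ (Subgroup.mul_mem _ hg t_mem) (Subgroup.inv_mem _ hg)

theorem iv_conj_pr {e : Entry} (he : e ∈ IV.toList) :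
    IsConj (pr F ω (tT F ω)) (pr F ω ⟨glOf ω e.2.1, iv_mem he⟩) := by
  obtain ⟨g, hg, hgt⟩ := iv_conj_t (ω := ω) _ e he rfl
  have hgE : g ∈ threeJ3 F ω := by rw [three_eq]; exact hg
  rw [isConj_iff]
  refine ⟨pr F ω ⟨g, hgE⟩, ?_⟩
  rw [← map_inv, ← map_mul, ← map_mul]
  congr 1
  apply Subtype.ext
  simp only [Subgroup.coe_mul, Subgroup.coe_inv]
  exact hgt

/-- an involution of `J₃` lifts to an involution of the triple cover -/
theorem lift_invol (hF : Fintype.card F = 4) (u : J3 F ω) (huu : u * u = 1) (hu1 : u ≠ 1) :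
    ∃ t : threeJ3 F ω, t * t = 1 ∧ t ≠ 1 ∧ pr F ω t = u := by
  obtain ⟨g, hg⟩ := pr_surj u
  have hg2 : g * g ∈ Subgroup.center (threeJ3 F ω) :=
    pr_eq_one.mp (by rw [map_mul, hg, huu])
  have ht2 : g ^ 3 * g ^ 3 = 1 := by
    have h : g ^ 3 * g ^ 3 = (g * g) ^ 3 := by rw [← pow_add, ← pow_two, ← pow_mul]
    rw [h]
    exact central_cube hF _ hg2
  have hpt : pr F ω (g ^ 3) = u := by
    rw [map_pow, hg, pow_succ, pow_two, huu, one_mul]
  refine ⟨g ^ 3, ht2, ?_, hpt⟩
  intro h
  rw [h, map_one] at hpt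
  exact hu1 hpt.symm

theorem t_sq : pr F ω (tT F ω) * pr F ω (tT F ω) = 1 := by rw [← map_mul, tT_sq, map_one]

theorem t_ne (hF : Fintype.card F = 4) : pr F ω (tT F ω) ≠ 1 := fun h =>
  not_central hF tc_split.1 t_mem tc_ns (pr_eq_one.mp h)

theorem orderOf_t (hF : Fintype.card F = 4) : orderOf (pr F ω (tT F ω)) = 2 :=
  orderOf_eq_prime (by rw [pow_two]; exact t_sq) (t_ne hF)

theorem conj_t (hF : Fintype.card F = 4) (u : J3 F ω) (hu : orderOf u = 2) :
    IsConj (pr F ω (tT F ω)) u := by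
  have huu : u * u = 1 := by
    rw [← pow_two, ← hu]; exact pow_orderOf_eq_one u
  have hu1 : u ≠ 1 := by
    intro h
    rw [h, orderOf_one] at hu
    norm_num at hu
  obtain ⟨t, ht2, ht1, hpt⟩ := lift_invol hF u huu hu1
  obtain ⟨e, he, hte⟩ := invol_mem t ht2 ht1
  have h := iv_conj_pr (F := F) (ω := ω) he
  have h2 : (⟨glOf ω e.2.1, iv_mem he⟩ : threeJ3 F ω) = t := Subtype.ext hte.symm
  rw [h2, hpt] at h
  exact h

/-- all involutions of `J₃` are conjugate -/
theorem all_conj (hF : Fintype.card F = 4) (x y : J3 F ω) (hx : orderOf x = 2)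
    (hy : orderOf y = 2) : IsConj x y :=
  (conj_t hF x hx).symm.trans (conj_t hF y hy)

end

section
variable {F : Type*} [Field F] [Fintype F] {ω : F} [hd : Data F ω]

/-! ### the order of the centralizer -/

/-- the element of `J₃` of an entry of the table of involutions -/
noncomputable def ivElt (F : Type*) [Field F] [Fintype F] (ω : F) [Data F ω] (e : Entry) :
    J3 F ω := by
  classical
  exact if h : glOf ω e.2.1 ∈ threeJ3 F ω then pr F ω ⟨glOf ω e.2.1, h⟩ else 1

theorem ivElt_eq {e : Entry} (he : e ∈ IV.toList) :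
    ivElt F ω e = pr F ω ⟨glOf ω e.2.1, iv_mem he⟩ := by
  unfold ivElt
  rw [dif_pos (iv_mem he)]

theorem iv_sq {e : Entry} (he : e ∈ IV.toList) : glOf ω e.2.1 * glOf ω e.2.1 = 1 := by
  obtain ⟨g, _, hgt⟩ := iv_conj_t (ω := ω) _ e he rfl
  have h1 : glOf ω tc * glOf ω tc = 1 := congrArg Subtype.val (tT_sq (F := F) (ω := ω))
  rw [← hgt]
  calc g * glOf ω tc * g⁻¹ * (g * glOf ω tc * g⁻¹) = g * (glOf ω tc * glOf ω tc) * g⁻¹ := by group
    _ = 1 := by rw [h1, mul_one, mul_inv_cancel]

theorem ivElt_inj (hF : Fintype.card F = 4) {e e' : Entry} (he : e ∈ IV.toList)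
    (he' : e' ∈ IV.toList) (h : ivElt F ω e = ivElt F ω e') : e = e' := by
  rw [ivElt_eq he, ivElt_eq he'] at h
  have h1 : (⟨glOf ω e.2.1, iv_mem he⟩ : threeJ3 F ω)⁻¹ * ⟨glOf ω e'.2.1, iv_mem he'⟩ ∈
      Subgroup.center (threeJ3 F ω) := QuotientGroup.eq.mp h
  set a : threeJ3 F ω := ⟨glOf ω e.2.1, iv_mem he⟩ with ha
  set b : threeJ3 F ω := ⟨glOf ω e'.2.1, iv_mem he'⟩ with hb
  have haa : a * a = 1 := Subtype.ext (iv_sq he)
  have hbb : b * b = 1 := Subtype.ext (iv_sq he')
  have hz3 := central_cube hF _ h1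
  have hcomm : a⁻¹ * b * b = b * (a⁻¹ * b) := (Subgroup.mem_center_iff.mp h1 b).symm
  have hz2 : (a⁻¹ * b) ^ 2 = 1 := by
    have hainv : a⁻¹ = a := inv_eq_of_mul_eq_one_left haa
    rw [pow_two]
    calc a⁻¹ * b * (a⁻¹ * b) = a⁻¹ * (b * (a⁻¹ * b)) := by group
      _ = a⁻¹ * (a⁻¹ * b * b) := by rw [hcomm]
      _ = a⁻¹ * a⁻¹ * (b * b) := by group
      _ = 1 := by rw [hbb, hainv, haa, mul_one]
  have hz1 : a⁻¹ * b = 1 :=
    Cfsg.Agent.Lib.Helper28.OutTwo.eq_one_of_pow_coprime hz2 hz3 (by norm_num)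
  have hab : a = b := by
    calc a = a * (a⁻¹ * b) := by rw [hz1, mul_one]
      _ = b := by group
  have hgl : glOf ω e.2.1 = glOf ω e'.2.1 := congrArg Subtype.val hab
  have h2 : wprod ω [e.2.1] = wprod ω [e'.2.1] := by
    have a1 := glOf_acts (ω := ω) (iv_valid e he)
    have a2 := glOf_acts (ω := ω) (iv_valid e' he')
    unfold ActsBy at a1 a2
    rw [← a1, ← a2, hgl]
  have h3 := hashW_eq_of_wprod h2
  have k1 : e.1 = hashW [e.2.1] := Nat.eq_of_beq_eq_true (iv2_split he).1
  have k2 : e'.1 = hashW [e'.2.1] := Nat.eq_of_beq_eq_true (iv2_split he').1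
  have h4 : e.1 = e'.1 := by rw [k1, k2, h3]
  exact List.inj_on_of_nodup_map (sortedB_nodup _ iv_sorted) he he' h4

/-- the conjugacy class of `t` has at least 26163 elements -/
theorem class_ge (hF : Fintype.card F = 4) :
    26163 ≤ (MulAction.orbit (ConjAct (J3 F ω)) (pr F ω (tT F ω))).ncard := by
  classical
  haveI := finite_three (F := F) (ω := ω)
  have hnd : (IV.toList.map fun e => e.1).Nodup := sortedB_nodup _ iv_sorted
  have hnd' : IV.toList.Nodup := List.Nodup.of_map _ hnd
  have hnd2 : (IV.toList.map (ivElt F ω)).Nodup :=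
    List.Nodup.map_on (fun e he e' he' h => ivElt_inj hF he he' h) hnd'
  have hsub : (↑((IV.toList.map (ivElt F ω)).toFinset) : Set (J3 F ω)) ⊆
      MulAction.orbit (ConjAct (J3 F ω)) (pr F ω (tT F ω)) := by
    intro u hu
    rw [Finset.mem_coe, List.mem_toFinset, List.mem_map] at hu
    obtain ⟨e, he, rfl⟩ := hu
    rw [ConjAct.mem_orbit_conjAct, ivElt_eq he]
    exact (iv_conj_pr he).symm
  have h1 := Set.ncard_le_ncard hsub (Set.toFinite _)
  rw [Set.ncard_coe_finset, List.toFinset_card_of_nodup hnd2, List.length_map, len_IV] at h1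
  exact h1

theorem card_cent_le (hF : Fintype.card F = 4) :
    Nat.card (Subgroup.centralizer ({pr F ω (tT F ω)} : Set (J3 F ω))) ≤ 1920 := by
  rw [Subgroup.nat_card_centralizer_nat_card_stabilizer]
  have h1 := MulAction.index_stabilizer (ConjAct (J3 F ω)) (pr F ω (tT F ω))
  have h2 := Subgroup.index_mul_card
    (MulAction.stabilizer (ConjAct (J3 F ω)) (pr F ω (tT F ω)))
  have hc : Nat.card (ConjAct (J3 F ω)) = 50232960 := by
    rw [← card_J3 (F := F) (ω := ω) hF]
    exact Nat.card_congr ConjAct.ofConjAct.toEquiv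
  rw [hc, h1] at h2
  have h3 := class_ge (F := F) (ω := ω) hF
  by_contra hcon
  push Not at hcon
  have h4 : 26163 * 1921 ≤ (MulAction.orbit (ConjAct (J3 F ω)) (pr F ω (tT F ω))).ncard *
      Nat.card (MulAction.stabilizer (ConjAct (J3 F ω)) (pr F ω (tT F ω))) :=
    Nat.mul_le_mul h3 hcon
  rw [h2] at h4
  norm_num at h4

end

section
variable {F : Type*} [Field F] [Fintype F] {ω : F} [hd : Data F ω]

/-! ### the tables -/

theorem ct_all : ∀ e ∈ CTAB.toList, ctOK e = true := by
  have h := ctab_ok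
  rw [List.all_eq_true] at h
  exact h

theorem qt_all : ∀ e ∈ QTAB.toList, qtOK e = true := by
  have h := qtab_ok
  rw [List.all_eq_true] at h
  exact h

theorem ht_all : ∀ e ∈ HTAB.toList, htOK e = true := by
  have h := htab_ok
  rw [List.all_eq_true] at h
  exact h

theorem ct_split {e : Entry} (he : e ∈ CTAB.toList) :
    invOK e.2.1 = true ∧ tabKey e = true ∧ tabReach CTAB cgens e = true ∧
      tabClosed CTAB cgens e = true ∧ (scalB [e.2.1] = false ∨ wordEqB [e.2.1] [] = true) := by
  have h := ct_all e he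
  unfold ctOK at h
  simp only [Bool.and_eq_true, Bool.or_eq_true, Bool.not_eq_true'] at h
  exact ⟨h.1.1.1.1, h.1.1.1.2, h.1.1.2, h.1.2, h.2⟩

theorem qt_split {e : Entry} (he : e ∈ QTAB.toList) :
    invOK e.2.1 = true ∧ tabKey e = true ∧ tabReach QTAB qgens e = true ∧
      tabClosed QTAB qgens e = true ∧ ∀ g ∈ cgens, conjOK QTAB g e = true := by
  have h := qt_all e he
  unfold qtOK at h
  simp only [Bool.and_eq_true, List.all_eq_true] at h
  exact ⟨h.1.1.1.1, h.1.1.1.2, h.1.1.2, h.1.2, h.2⟩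

theorem ht_split {e : Entry} (he : e ∈ HTAB.toList) :
    invOK e.2.1 = true ∧ tabKey e = true ∧ tabReach HTAB hgens e = true ∧
      tabClosed HTAB hgens e = true := by
  have h := ht_all e he
  unfold htOK at h
  simp only [Bool.and_eq_true] at h
  exact ⟨h.1.1.1, h.1.1.2, h.1.2, h.2⟩

theorem ct_valid : TableValid CTAB := fun e he => (ct_split he).1

theorem qt_valid : TableValid QTAB := fun e he => (qt_split he).1

theorem ht_valid : TableValid HTAB := fun e he => (ht_split he).1

theorem cg_split {g : ℕ} (hg : g ∈ cgens) :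
    invOK g = true ∧ siftP levels [g] [] [] = true ∧ wordEqB [g, tc] [tc, g] = true := by
  have h := cgens_ok
  rw [List.all_eq_true] at h
  have h1 := h g hg
  unfold cgOK memOK at h1
  simp only [Bool.and_eq_true] at h1
  exact ⟨h1.1.1, h1.1.2, h1.2⟩

theorem cg_valid : ∀ g ∈ cgens, invOK g = true := fun g hg => (cg_split hg).1

theorem hg_valid : ∀ g ∈ hgens, invOK g = true := by
  intro g hg
  apply cg_valid
  simp only [hgens, List.mem_cons, List.not_mem_nil, or_false] at hg
  simp only [cgens, List.mem_cons, List.not_mem_nil, or_false]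
  rcases hg with rfl | rfl
  · left; rfl
  · right; left; rfl

theorem qg_split {g : ℕ} (hg : g ∈ qgens) : invOK g = true ∧ findW CTAB [g] = true := by
  have h := qgens_ok
  rw [List.all_eq_true] at h
  have h1 := h g hg
  unfold qgOK at h1
  rwa [Bool.and_eq_true] at h1

theorem qg_valid : ∀ g ∈ qgens, invOK g = true := fun g hg => (qg_split hg).1

/-- the group of order 1920 -/
noncomputable def C0 (F : Type*) [Field F] (ω : F) [Data F ω] : Subgroup (GL F9 F) :=
  genGroup ω cgens

/-- the subgroup of order 32 -/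
noncomputable def Q0 (F : Type*) [Field F] (ω : F) [Data F ω] : Subgroup (GL F9 F) :=
  genGroup ω qgens

/-- the subgroup of order 60 -/
noncomputable def H0 (F : Type*) [Field F] (ω : F) [Data F ω] : Subgroup (GL F9 F) :=
  genGroup ω hgens

theorem mem_C0 (z : GL F9 F) : z ∈ C0 F ω ↔ z ∈ codeSet ω CTAB :=
  ⟨fun hz => tab_le ct_valid cgens cg_valid ctab_one (fun e he => (ct_split he).2.2.2.1) z hz,
    fun hz => tab_ge ct_valid cgens cg_valid (fun e he => (ct_split he).2.2.1) z hz⟩

theorem mem_Q0 (z : GL F9 F) : z ∈ Q0 F ω ↔ z ∈ codeSet ω QTAB :=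
  ⟨fun hz => tab_le qt_valid qgens qg_valid qtab_one (fun e he => (qt_split he).2.2.2.1) z hz,
    fun hz => tab_ge qt_valid qgens qg_valid (fun e he => (qt_split he).2.2.1) z hz⟩

theorem mem_H0 (z : GL F9 F) : z ∈ H0 F ω ↔ z ∈ codeSet ω HTAB :=
  ⟨fun hz => tab_le ht_valid hgens hg_valid htab_one (fun e he => (ht_split he).2.2.2) z hz,
    fun hz => tab_ge ht_valid hgens hg_valid (fun e he => (ht_split he).2.2.1) z hz⟩

theorem card_C0 : Nat.card (C0 F ω) = 1920 := by
  unfold C0
  rw [tab_card ct_valid cgens cg_valid ctab_one (fun e he => (ct_split he).2.2.2.1)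
    (fun e he => (ct_split he).2.2.1) (fun e he => (ct_split he).2.1) ctab_sorted, len_CTAB]

theorem card_Q0 : Nat.card (Q0 F ω) = 32 := by
  unfold Q0
  rw [tab_card qt_valid qgens qg_valid qtab_one (fun e he => (qt_split he).2.2.2.1)
    (fun e he => (qt_split he).2.2.1) (fun e he => (qt_split he).2.1) qtab_sorted, len_QTAB]

theorem card_H0 : Nat.card (H0 F ω) = 60 := by
  unfold H0
  rw [tab_card ht_valid hgens hg_valid htab_one (fun e he => (ht_split he).2.2.2)
    (fun e he => (ht_split he).2.2.1) (fun e he => (ht_split he).2.1) htab_sorted, len_HTAB]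

theorem C0_le : C0 F ω ≤ threeJ3 F ω := by
  unfold C0 genGroup
  rw [Subgroup.closure_le]
  intro s hs
  have hs' : s ∈ semGens ω cgens := hs
  unfold semGens at hs'
  obtain ⟨g, hg, rfl⟩ := List.mem_map.mp hs'
  rw [three_eq]
  exact sift_mem (cg_split hg).1 (cg_split hg).2.1

theorem C0_comm (z : GL F9 F) (hz : z ∈ C0 F ω) : z * glOf ω tc = glOf ω tc * z := by
  have h : C0 F ω ≤ Subgroup.centralizer ({glOf ω tc} : Set (GL F9 F)) := by
    unfold C0 genGroup
    rw [Subgroup.closure_le]
    intro s hs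
    have hs' : s ∈ semGens ω cgens := hs
    unfold semGens at hs'
    obtain ⟨g, hg, rfl⟩ := List.mem_map.mp hs'
    rw [SetLike.mem_coe, Subgroup.mem_centralizer_iff]
    intro k hk
    rw [Set.mem_singleton_iff] at hk
    rw [hk]
    exact (eq_of_wordEqB (actsBy_cons (glOf_acts (cg_split hg).1) (glOf_acts tc_split.1))
      (actsBy_cons (glOf_acts tc_split.1) (glOf_acts (cg_split hg).1)) (cg_split hg).2.2).symm
  have h1 := Subgroup.mem_centralizer_iff.mp (h hz) (glOf ω tc) (Set.mem_singleton _)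
  exact h1.symm

theorem Q0_le : Q0 F ω ≤ C0 F ω := by
  unfold Q0 genGroup
  rw [Subgroup.closure_le]
  intro s hs
  have hs' : s ∈ semGens ω qgens := hs
  unfold semGens at hs'
  obtain ⟨g, hg, rfl⟩ := List.mem_map.mp hs'
  rw [SetLike.mem_coe, mem_C0]
  exact findW_spec ct_valid (glOf_acts (qg_split hg).1) (qg_split hg).2

theorem H0_le : H0 F ω ≤ C0 F ω := by
  unfold H0 C0 genGroup
  apply Subgroup.closure_mono
  intro s hs
  have hs' : s ∈ semGens ω hgens := hs
  unfold semGens at hs'
  obtain ⟨g, hg, rfl⟩ := List.mem_map.mp hs'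
  show glOf ω g ∈ semGens ω cgens
  apply mem_semGens
  simp only [hgens, List.mem_cons, List.not_mem_nil, or_false] at hg
  simp only [cgens, List.mem_cons, List.not_mem_nil, or_false]
  rcases hg with rfl | rfl
  · left; rfl
  · right; left; rfl

/-- the only scalar matrix in the group of order 1920 is the identity -/
theorem C0_central (hF : Fintype.card F = 4) (z : threeJ3 F ω)
    (hz : z ∈ Subgroup.center (threeJ3 F ω)) (hzC : (z : GL F9 F) ∈ C0 F ω) : z = 1 := by
  obtain ⟨e, he, hze⟩ := (mem_C0 _).mp hzC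
  obtain ⟨c, hc, hcs⟩ := central_cases hF z hz
  rw [hze] at hcs
  have h1 := scalB_of_scalar (glOf_acts (ct_split he).1) hc hcs
  rcases (ct_split he).2.2.2.2 with h2 | h2
  · rw [h2] at h1
    exact absurd h1 Bool.false_ne_true
  · apply Subtype.ext
    rw [hze]
    exact eq_one_of_wordEqB (glOf_acts (ct_split he).1) h2

/-! ### the isomorphism with the centralizer -/

/-- the map from the group of order 1920 to the centralizer of `t` -/
noncomputable def centHom (F : Type*) [Field F] [Fintype F] (ω : F) [Data F ω] :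
    C0 F ω →* Subgroup.centralizer ({pr F ω (tT F ω)} : Set (J3 F ω)) where
  toFun g := ⟨pr F ω ⟨(g : GL F9 F), C0_le g.2⟩, by
    rw [Subgroup.mem_centralizer_iff]
    intro k hk
    rw [Set.mem_singleton_iff] at hk
    rw [hk, ← map_mul, ← map_mul]
    congr 1
    apply Subtype.ext
    show glOf ω tc * (g : GL F9 F) = (g : GL F9 F) * glOf ω tc
    exact (C0_comm _ g.2).symm⟩
  map_one' := by
    apply Subtype.ext
    show pr F ω ⟨((1 : C0 F ω) : GL F9 F), _⟩ = 1
    have : (⟨((1 : C0 F ω) : GL F9 F), C0_le (1 : C0 F ω).2⟩ : threeJ3 F ω) = 1 :=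
      Subtype.ext rfl
    rw [this, map_one]
  map_mul' a b := by
    apply Subtype.ext
    show pr F ω ⟨((a * b : C0 F ω) : GL F9 F), _⟩ =
      pr F ω ⟨(a : GL F9 F), C0_le a.2⟩ * pr F ω ⟨(b : GL F9 F), C0_le b.2⟩
    rw [← map_mul]
    congr 1

theorem centHom_coe (g : C0 F ω) :
    ((centHom F ω g : Subgroup.centralizer ({pr F ω (tT F ω)} : Set (J3 F ω))) : J3 F ω) =
      pr F ω ⟨(g : GL F9 F), C0_le g.2⟩ := rfl

theorem centHom_inj (hF : Fintype.card F = 4) : Function.Injective (centHom F ω) := by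
  intro a b hab
  have h1 : pr F ω ⟨(a : GL F9 F), C0_le a.2⟩ = pr F ω ⟨(b : GL F9 F), C0_le b.2⟩ := by
    rw [← centHom_coe, ← centHom_coe, hab]
  have h2 : (⟨(a : GL F9 F), C0_le a.2⟩ : threeJ3 F ω)⁻¹ * ⟨(b : GL F9 F), C0_le b.2⟩ ∈
      Subgroup.center (threeJ3 F ω) := QuotientGroup.eq.mp h1
  have h3 := C0_central hF _ h2 (by
    show (a : GL F9 F)⁻¹ * (b : GL F9 F) ∈ C0 F ω
    exact (C0 F ω).mul_mem ((C0 F ω).inv_mem a.2) b.2)
  have h4 : (a : GL F9 F)⁻¹ * (b : GL F9 F) = 1 := congrArg Subtype.val h3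
  apply Subtype.ext
  calc (a : GL F9 F) = (a : GL F9 F) * ((a : GL F9 F)⁻¹ * (b : GL F9 F)) := by rw [h4, mul_one]
    _ = (b : GL F9 F) := by group

/-- the group of order 1920 is isomorphic to the centralizer of `t` -/
noncomputable def centEquiv (hF : Fintype.card F = 4) :
    C0 F ω ≃* Subgroup.centralizer ({pr F ω (tT F ω)} : Set (J3 F ω)) :=
  haveI := finite_three (F := F) (ω := ω)
  MulEquiv.ofBijective (centHom F ω)
    ((centHom_inj hF).bijective_of_nat_card_le (by rw [card_C0]; exact card_cent_le hF))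

end

section
variable {F : Type*} [Field F] [Fintype F] {ω : F} [hd : Data F ω]

/-! ### the structure of the group of order 1920 -/

theorem t_in_Q0 : glOf ω tc ∈ Q0 F ω :=
  (mem_Q0 _).mpr (findW_spec qt_valid (glOf_acts tc_split.1) tc_in_Q)

theorem t_gl_ne (hF : Fintype.card F = 4) : glOf ω tc ≠ 1 := by
  intro h
  apply t_ne (F := F) (ω := ω) hF
  have : tT F ω = 1 := Subtype.ext h
  rw [this, map_one]

theorem Q0_normal (g : GL F9 F) (hg : g ∈ C0 F ω) (a : GL F9 F) (ha : a ∈ Q0 F ω) :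
    g * a * g⁻¹ ∈ Q0 F ω :=
  (mem_Q0 _).mpr (conj_mem_closure qt_valid cgens cg_valid
    (fun g hg e he => (qt_split he).2.2.2.2 g hg) g hg a ((mem_Q0 _).mp ha))

theorem q_sq_gl (a : GL F9 F) (ha : a ∈ Q0 F ω) : a * a = 1 ∨ a * a = glOf ω tc := by
  obtain ⟨e, he, rfl⟩ := (mem_Q0 _).mp ha
  have hv := qt_valid e he
  have h := q_sq
  rw [List.all_eq_true] at h
  have h1 := h e he
  unfold sqOK at h1
  rw [Bool.or_eq_true] at h1
  have hact : ActsBy ω (glOf ω e.2.1 * glOf ω e.2.1) [e.2.1, e.2.1] :=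
    actsBy_cons (glOf_acts hv) (glOf_acts hv)
  rcases h1 with h1 | h1
  · left; exact eq_one_of_wordEqB hact h1
  · right; exact eq_of_wordEqB hact (glOf_acts tc_split.1) h1

theorem q_pair_gl (a : GL F9 F) (ha : a ∈ Q0 F ω) (b : GL F9 F) (hb : b ∈ Q0 F ω) :
    (a * b = b * a ∨ a * b = glOf ω tc * (b * a)) ∧
    (a * a = 1 → b * b = 1 → a * b = b * a →
      a = 1 ∨ b = 1 ∨ a = b ∨ a = glOf ω tc ∨ b = glOf ω tc ∨ a * b = glOf ω tc) := by
  obtain ⟨e, he, rfl⟩ := (mem_Q0 _).mp ha
  obtain ⟨e', he', rfl⟩ := (mem_Q0 _).mp hb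
  have hv := qt_valid e he
  have hv' := qt_valid e' he'
  have h := q_pair
  rw [List.all_eq_true] at h
  have h1 := h e he
  rw [List.all_eq_true] at h1
  have h2 := h1 e' he'
  unfold pairOK at h2
  rw [Bool.and_eq_true] at h2
  obtain ⟨h3, h4⟩ := h2
  have hab : ActsBy ω (glOf ω e.2.1 * glOf ω e'.2.1) [e.2.1, e'.2.1] :=
    actsBy_cons (glOf_acts hv) (glOf_acts hv')
  have hba : ActsBy ω (glOf ω e'.2.1 * glOf ω e.2.1) [e'.2.1, e.2.1] :=
    actsBy_cons (glOf_acts hv') (glOf_acts hv)
  constructor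
  · unfold commOK commB at h3
    rw [Bool.or_eq_true] at h3
    rcases h3 with h3 | h3
    · left; exact eq_of_wordEqB hab hba h3
    · right; exact eq_of_wordEqB hab (actsBy_cons (glOf_acts tc_split.1) hba) h3
  · intro haa hbb hcomm
    have k1 : wordEqB [e.2.1, e.2.1] [] = true :=
      wordEqB_of_acts (actsBy_cons (glOf_acts hv) (glOf_acts hv)) (haa ▸ actsBy_one)
    have k2 : wordEqB [e'.2.1, e'.2.1] [] = true :=
      wordEqB_of_acts (actsBy_cons (glOf_acts hv') (glOf_acts hv')) (hbb ▸ actsBy_one)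
    have k3 : commB e.2.1 e'.2.1 = true := by
      unfold commB
      have hba' : ActsBy ω (glOf ω e.2.1 * glOf ω e'.2.1) [e'.2.1, e.2.1] := by
        rw [hcomm]; exact hba
      exact wordEqB_of_acts hab hba'
    unfold eaOK at h4
    rw [k1, k2, k3] at h4
    simp only [Bool.not_true, Bool.false_or, Bool.or_eq_true] at h4
    rcases h4 with ((((h4 | h4) | h4) | h4) | h4) | h4
    · left; exact eq_one_of_wordEqB (glOf_acts hv) h4
    · right; left; exact eq_one_of_wordEqB (glOf_acts hv') h4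
    · right; right; left; exact eq_of_wordEqB (glOf_acts hv) (glOf_acts hv') h4
    · right; right; right; left; exact eq_of_wordEqB (glOf_acts hv) (glOf_acts tc_split.1) h4
    · right; right; right; right; left
      exact eq_of_wordEqB (glOf_acts hv') (glOf_acts tc_split.1) h4
    · right; right; right; right; right; exact eq_of_wordEqB hab (glOf_acts tc_split.1) h4

theorem q_cent_gl (b : GL F9 F) (hb : b ∈ Q0 F ω)
    (hc : ∀ a ∈ Q0 F ω, a * b = b * a) : b = 1 ∨ b = glOf ω tc := by
  obtain ⟨e, he, rfl⟩ := (mem_Q0 _).mp hb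
  have hv := qt_valid e he
  have h := q_cent
  rw [List.all_eq_true] at h
  have h1 := h e he
  unfold centOK at h1
  simp only [Bool.or_eq_true, List.any_eq_true, Bool.not_eq_true'] at h1
  rcases h1 with (h1 | h1) | h1
  · left; exact eq_one_of_wordEqB (glOf_acts hv) h1
  · right; exact eq_of_wordEqB (glOf_acts hv) (glOf_acts tc_split.1) h1
  · exfalso
    obtain ⟨e', he', h2⟩ := h1
    have hv' := qt_valid e' he'
    have h3 := hc (glOf ω e'.2.1) ((mem_Q0 _).mpr ⟨e', he', rfl⟩)
    have h4 : commB e'.2.1 e.2.1 = true := by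
      unfold commB
      have hba' : ActsBy ω (glOf ω e'.2.1 * glOf ω e.2.1) [e.2.1, e'.2.1] := by
        rw [h3]; exact actsBy_cons (glOf_acts hv) (glOf_acts hv')
      exact wordEqB_of_acts (actsBy_cons (glOf_acts hv') (glOf_acts hv)) hba'
    rw [h4] at h2
    exact Bool.noConfusion h2

theorem q_ex_gl : ∃ a ∈ Q0 F ω, ∃ b ∈ Q0 F ω, a * b = glOf ω tc * (b * a) := by
  have h := q_ex
  simp only [List.any_eq_true, Bool.not_eq_true'] at h
  obtain ⟨e, he, e', he', h1⟩ := h
  have hv := qt_valid e he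
  have hv' := qt_valid e' he'
  have ha : glOf ω e.2.1 ∈ Q0 F ω := (mem_Q0 _).mpr ⟨e, he, rfl⟩
  have hb : glOf ω e'.2.1 ∈ Q0 F ω := (mem_Q0 _).mpr ⟨e', he', rfl⟩
  refine ⟨_, ha, _, hb, ?_⟩
  rcases (q_pair_gl _ ha _ hb).1 with h2 | h2
  · exfalso
    have h4 : commB e.2.1 e'.2.1 = true := by
      unfold commB
      have hba' : ActsBy ω (glOf ω e.2.1 * glOf ω e'.2.1) [e'.2.1, e.2.1] := by
        rw [h2]; exact actsBy_cons (glOf_acts hv') (glOf_acts hv)
      exact wordEqB_of_acts (actsBy_cons (glOf_acts hv) (glOf_acts hv')) hba'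
    rw [h4] at h1
    exact Bool.noConfusion h1
  · exact h2

theorem qh_disj_gl (g : GL F9 F) (hq : g ∈ Q0 F ω) (hh : g ∈ H0 F ω) : g = 1 := by
  obtain ⟨e, he, rfl⟩ := (mem_Q0 _).mp hq
  obtain ⟨e', he', hee⟩ := (mem_H0 _).mp hh
  have hv := qt_valid e he
  have hv' := ht_valid e' he'
  have h := qh_disj
  rw [List.all_eq_true] at h
  have h1 := h e he
  rw [List.all_eq_true] at h1
  have h2 := h1 e' he'
  unfold disjOK at h2
  simp only [Bool.or_eq_true, Bool.not_eq_true'] at h2
  rcases h2 with h2 | h2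
  · exfalso
    have hba' : ActsBy ω (glOf ω e.2.1) [e'.2.1] := by
      rw [hee]; exact glOf_acts hv'
    have h3 : wordEqB [e.2.1] [e'.2.1] = true :=
      wordEqB_of_acts (glOf_acts hv) hba'
    rw [h3] at h2
    exact Bool.noConfusion h2
  · exact eq_one_of_wordEqB (glOf_acts hv) h2

theorem uc_valid : invOK uc = true := cg_valid uc (by simp [cgens])

theorem vc_valid : invOK vc = true := cg_valid vc (by simp [cgens])

theorem H0_alt : Nonempty (H0 F ω ≃* alternatingGroup (Fin 5)) := by
  haveI : Finite (H0 F ω) := Nat.finite_of_card_ne_zero (by rw [card_H0]; norm_num)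
  have hu : glOf ω uc ∈ H0 F ω := glOf_mem_genGroup (by simp [hgens])
  have hv : glOf ω vc ∈ H0 F ω := glOf_mem_genGroup (by simp [hgens])
  apply a5_of_gens card_H0 (⟨glOf ω uc, hu⟩ : H0 F ω) ⟨glOf ω vc, hv⟩
  · apply Subtype.ext
    rw [Subgroup.coe_pow]
    exact eq_one_of_wordEqB (actsBy_pow (glOf_acts uc_valid) 3) u_cube
  · apply Subtype.ext
    rw [Subgroup.coe_pow]
    exact eq_one_of_wordEqB (actsBy_pow (glOf_acts vc_valid) 5) v_five
  · apply Subtype.ext
    rw [Subgroup.coe_pow, Subgroup.coe_mul, pow_two]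
    exact eq_one_of_wordEqB (actsBy_append (actsBy_cons (glOf_acts uc_valid) (glOf_acts vc_valid))
      (actsBy_cons (glOf_acts uc_valid) (glOf_acts vc_valid))) uv_sq
  · intro h
    have h1 : glOf ω uc = 1 := congrArg Subtype.val h
    have h2 := wordEqB_of_acts (glOf_acts (ω := ω) uc_valid) (h1 ▸ actsBy_one)
    rw [u_ne] at h2
    exact Bool.noConfusion h2

/-- the data of the group of order 1920 -/
theorem data_C0 (hF : Fintype.card F = 4) :
    CentShape.Data (C0 F ω) ((Q0 F ω).subgroupOf (C0 F ω)) ((H0 F ω).subgroupOf (C0 F ω))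
      ⟨glOf ω tc, Q0_le t_in_Q0⟩ where
  normal := by
    intro g a ha
    rw [Subgroup.mem_subgroupOf] at ha ⊢
    simp only [Subgroup.coe_mul, Subgroup.coe_inv]
    exact Q0_normal _ g.2 _ ha
  z_mem := by
    rw [Subgroup.mem_subgroupOf]
    exact t_in_Q0
  z_ne := fun h => t_gl_ne hF (congrArg Subtype.val h)
  z_cent := by
    intro a _
    apply Subtype.ext
    simp only [Subgroup.coe_mul]
    exact C0_comm _ a.2
  sq := by
    intro a ha
    rw [Subgroup.mem_subgroupOf] at ha
    rcases q_sq_gl _ ha with h | h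
    · left
      apply Subtype.ext
      simp only [Subgroup.coe_mul, Subgroup.coe_one]
      exact h
    · right
      apply Subtype.ext
      simp only [Subgroup.coe_mul]
      exact h
  comm := by
    intro a ha b hb
    rw [Subgroup.mem_subgroupOf] at ha hb
    rcases (q_pair_gl _ ha _ hb).1 with h | h
    · left
      apply Subtype.ext
      simp only [Subgroup.coe_mul]
      exact h
    · right
      apply Subtype.ext
      simp only [Subgroup.coe_mul]
      exact h
  cent := by
    intro b hb hc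
    rw [Subgroup.mem_subgroupOf] at hb
    have h1 : ∀ a ∈ Q0 F ω, a * (b : GL F9 F) = (b : GL F9 F) * a := by
      intro a ha
      have h2 := hc ⟨a, Q0_le ha⟩ (by rw [Subgroup.mem_subgroupOf]; exact ha)
      have h3 := congrArg Subtype.val h2
      simp only [Subgroup.coe_mul] at h3
      exact h3
    rcases q_cent_gl _ hb h1 with h | h
    · left
      apply Subtype.ext
      rw [Subgroup.coe_one]
      exact h
    · right
      apply Subtype.ext
      exact h
  ex := by
    obtain ⟨a, ha, b, hb, hab⟩ := q_ex_gl (F := F) (ω := ω)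
    refine ⟨⟨a, Q0_le ha⟩, by rw [Subgroup.mem_subgroupOf]; exact ha,
      ⟨b, Q0_le hb⟩, by rw [Subgroup.mem_subgroupOf]; exact hb, ?_⟩
    apply Subtype.ext
    simp only [Subgroup.coe_mul]
    exact hab
  ea := by
    intro a ha b hb haa hbb hab
    rw [Subgroup.mem_subgroupOf] at ha hb
    have h1 : (a : GL F9 F) * a = 1 := by
      have := congrArg Subtype.val haa
      simpa only [Subgroup.coe_mul, Subgroup.coe_one] using this
    have h2 : (b : GL F9 F) * b = 1 := by
      have := congrArg Subtype.val hbb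
      simpa only [Subgroup.coe_mul, Subgroup.coe_one] using this
    have h3 : (a : GL F9 F) * b = b * a := by
      have := congrArg Subtype.val hab
      simpa only [Subgroup.coe_mul] using this
    rcases (q_pair_gl _ ha _ hb).2 h1 h2 h3 with h | h | h | h | h | h
    · left; apply Subtype.ext; rw [Subgroup.coe_one]; exact h
    · right; left; apply Subtype.ext; rw [Subgroup.coe_one]; exact h
    · right; right; left; exact Subtype.ext h
    · right; right; right; left; exact Subtype.ext h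
    · right; right; right; right; left; exact Subtype.ext h
    · right; right; right; right; right
      apply Subtype.ext
      simp only [Subgroup.coe_mul]
      exact h
  cardQ := by
    rw [Nat.card_congr (Subgroup.subgroupOfEquivOfLe Q0_le).toEquiv, card_Q0]
  cardH := by
    rw [Nat.card_congr (Subgroup.subgroupOfEquivOfLe H0_le).toEquiv, card_H0]
  cardG := card_C0
  disj := by
    intro g hq hh
    rw [Subgroup.mem_subgroupOf] at hq hh
    apply Subtype.ext
    rw [Subgroup.coe_one]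
    exact qh_disj_gl _ hq hh
  alt := by
    obtain ⟨f⟩ := H0_alt (F := F) (ω := ω)
    exact ⟨(Subgroup.subgroupOfEquivOfLe H0_le).trans f⟩

/-- the centralizer of the involution `t` of `J₃` has shape `2^{1+4}_- : A₅` -/
theorem shape_cent (hF : Fintype.card F = 4) :
    Shape (Subgroup.centralizer ({pr F ω (tT F ω)} : Set (J3 F ω))) := by
  haveI := finite_three (F := F) (ω := ω)
  exact ((data_C0 hF).map (centEquiv hF)).shape

end

theorem main_cent {F : Type*} [Field F] [Fintype F] (hF : Fintype.card F = 4) (ω : F)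
    (hω : ω ^ 2 + ω + 1 = 0) :
    (∀ x y : Cfsg.Spor.J3 F ω, orderOf x = 2 → orderOf y = 2 → IsConj x y) ∧
    ∃ t : Cfsg.Spor.J3 F ω, orderOf t = 2 ∧
      ∃ (Q : Subgroup ↥(Subgroup.centralizer ({t} : Set (Cfsg.Spor.J3 F ω)))) (_ : Q.Normal),
        Cfsg.IsExtraspecial 2 Q ∧ Nat.card Q = 32 ∧
        (∀ E : Subgroup Q, Cfsg.IsElementaryAbelian 2 E → Nat.card E ≤ 2 ^ 2) ∧
        (∃ H : Subgroup ↥(Subgroup.centralizer ({t} : Set (Cfsg.Spor.J3 F ω))),
          Q.IsComplement' H) ∧
        Nonempty (↥(Subgroup.centralizer ({t} : Set (Cfsg.Spor.J3 F ω))) ⧸ Q ≃*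
          ↥(alternatingGroup (Fin 5))) := by
  haveI := data_of_card F hF ω hω
  exact ⟨all_conj hF, pr F ω (tT F ω), orderOf_t hF, shape_cent hF⟩

end Cfsg.Agent.Lib.Helper28.J3Cent
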