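import Cfsg.Agent.Lib.Helper28.J3CentDefs

/-!
# Certificates for the centralizer of an involution of `J₃`: the tables

Generated by a script.
-/

set_option autoImplicit false

namespace Cfsg.Agent.Lib.Helper28.J3CentCert

open Cfsg.Agent.Lib.Helper28.F4 Cfsg.Agent.Lib.Helper28.J3Data Cfsg.Agent.Lib.Helper28.J3AutData
open Cfsg.Agent.Lib.Helper28.J3CentData Cfsg.Agent.Lib.Helper28.J3AutCert
open Cfsg.Agent.Lib.Helper28.BSGSMat (Tree Entry sortedB)

theorem len_CTAB : CTAB.toList.length = 1920 := by decide +kernel

theorem len_QTAB : QTAB.toList.length = 32 := by decide +kernel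

theorem len_HTAB : HTAB.toList.length = 60 := by decide +kernel

set_option maxRecDepth 1000000 in
theorem ctab_ok : CTAB.toList.all ctOK = true := by decide +kernel

theorem qtab_ok : QTAB.toList.all qtOK = true := by decide +kernel

theorem htab_ok : HTAB.toList.all htOK = true := by decide +kernel

theorem ctab_one : findW CTAB [] = true := by decide +kernel

theorem qtab_one : findW QTAB [] = true := by decide +kernel

theorem htab_one : findW HTAB [] = true := by decide +kernel

set_option maxRecDepth 1000000 in
theorem ctab_sorted : sortedB (CTAB.toList.map fun e => e.1) = true := by decide +kernel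

theorem qtab_sorted : sortedB (QTAB.toList.map fun e => e.1) = true := by decide +kernel

theorem htab_sorted : sortedB (HTAB.toList.map fun e => e.1) = true := by decide +kernel

theorem cgens_ok : cgens.all cgOK = true := by decide +kernel

theorem qgens_ok : qgens.all qgOK = true := by decide +kernel

theorem tc_in_Q : findW QTAB [tc] = true := by decide +kernel

theorem u_cube : wordEqB [uc, uc, uc] [] = true := by decide +kernel

theorem v_five : wordEqB [vc, vc, vc, vc, vc] [] = true := by decide +kernel

theorem uv_sq : wordEqB [uc, vc, uc, vc] [] = true := by decide +kernel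

theorem u_ne : wordEqB [uc] [] = false := by decide +kernel

theorem q_sq : QTAB.toList.all sqOK = true := by decide +kernel

theorem q_cent : QTAB.toList.all centOK = true := by decide +kernel

theorem q_pair : (QTAB.toList.all fun e => QTAB.toList.all fun e' => pairOK e e') = true := by
  decide +kernel

theorem q_ex : (QTAB.toList.any fun e => QTAB.toList.any fun e' => !(commB e.2.1 e'.2.1)) = true := by
  decide +kernel

theorem qh_disj : (QTAB.toList.all fun e => HTAB.toList.all fun e' => disjOK e e') = true := by
  decide +kernel

set_option maxRecDepth 1000000 in
theorem iv_sorted : sortedB (IV.toList.map fun e => e.1) = true := by decide +kernel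

end Cfsg.Agent.Lib.Helper28.J3CentCert
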