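import Cfsg.Agent.Lib.Helper28.J3CentData
import Cfsg.Agent.Lib.Helper28.J3AutDefs

/-!
# The centralizer of an involution of `J₃`: the Boolean checks
-/

set_option autoImplicit false

namespace Cfsg.Agent.Lib.Helper28.J3CentCert

open Cfsg.Agent.Lib.Helper28.F4 Cfsg.Agent.Lib.Helper28.J3Data Cfsg.Agent.Lib.Helper28.J3AutData
open Cfsg.Agent.Lib.Helper28.J3CentData Cfsg.Agent.Lib.Helper28.J3AutCert
open Cfsg.Agent.Lib.Helper28.BSGSMat (Tree Entry sortedB)

/-- an entry of the table of the group of order 1920: the table is a group table, and the only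
scalar matrix in it is the identity -/
def ctOK (e : Entry) : Bool :=
  invOK e.2.1 && tabKey e && tabReach CTAB cgens e && tabClosed CTAB cgens e &&
    (!(scalB [e.2.1]) || wordEqB [e.2.1] [])

/-- an entry of the table of the subgroup of order 32, which is normalized by the generators of the
group of order 1920 -/
def qtOK (e : Entry) : Bool :=
  invOK e.2.1 && tabKey e && tabReach QTAB qgens e && tabClosed QTAB qgens e &&
    cgens.all (fun g => conjOK QTAB g e)

/-- an entry of the table of the subgroup of order 60 -/
def htOK (e : Entry) : Bool :=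
  invOK e.2.1 && tabKey e && tabReach HTAB hgens e && tabClosed HTAB hgens e

/-- the generator lies in the triple cover and commutes with `t` -/
def cgOK (g : ℕ) : Bool := memOK g && wordEqB [g, tc] [tc, g]

/-- the generator lies in the group of order 1920 -/
def qgOK (g : ℕ) : Bool := invOK g && findW CTAB [g]

/-- the square is `1` or `t` -/
def sqOK (e : Entry) : Bool := wordEqB [e.2.1, e.2.1] [] || wordEqB [e.2.1, e.2.1] [tc]

/-- the two matrices commute -/
def commB (c c' : ℕ) : Bool := wordEqB [c, c'] [c', c]

/-- the commutator is `1` or `t` -/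
def commOK (e e' : Entry) : Bool :=
  commB e.2.1 e'.2.1 || wordEqB [e.2.1, e'.2.1] [tc, e'.2.1, e.2.1]

/-- the entry is `1` or `t`, or it does not commute with some entry -/
def centOK (e : Entry) : Bool :=
  wordEqB [e.2.1] [] || wordEqB [e.2.1] [tc] ||
    QTAB.toList.any (fun e' => !(commB e'.2.1 e.2.1))

/-- two commuting involutions are equal, or one of them is `t`, or their product is `t` -/
def eaOK (e e' : Entry) : Bool :=
  !(wordEqB [e.2.1, e.2.1] []) || !(wordEqB [e'.2.1, e'.2.1] []) || !(commB e.2.1 e'.2.1) ||
    wordEqB [e.2.1] [] || wordEqB [e'.2.1] [] || wordEqB [e.2.1] [e'.2.1] ||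
    wordEqB [e.2.1] [tc] || wordEqB [e'.2.1] [tc] || wordEqB [e.2.1, e'.2.1] [tc]

/-- the checks on a pair of entries -/
def pairOK (e e' : Entry) : Bool := commOK e e' && eaOK e e'

/-- equal matrices are the identity -/
def disjOK (e e' : Entry) : Bool := !(wordEqB [e.2.1] [e'.2.1]) || wordEqB [e.2.1] []

/-- the entry is `t`, or it is the conjugate by `x` or `y` of its parent, one level higher -/
def ivReach (e : Entry) : Bool :=
  (Nat.beq e.2.2.1 0 && Nat.beq e.2.1 tc) ||
  (match IV.lookup e.2.2.2 with
    | none => false
    | some e' => Nat.beq (Nat.succ e'.2.2.1) e.2.2.1 &&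
        (wordEqB [xc, e'.2.1, inv xc] [e.2.1] || wordEqB [yc, e'.2.1, inv yc] [e.2.1]))

/-- the further checks on the entries of the table of involutions -/
def iv2OK (e : Entry) : Bool := tabKey e && ivReach e

end Cfsg.Agent.Lib.Helper28.J3CentCert
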