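import Cfsg.Agent.Lib.Helper28.J3Data
import Cfsg.Agent.Lib.Helper28.BSGSF4b

/-!
# Certificates for the triple cover of `J₃`: the small checks

Generated by a script.
-/

set_option autoImplicit false

namespace Cfsg.Agent.Lib.Helper28.J3Cert

open Cfsg.Agent.Lib.Helper28.F4 Cfsg.Agent.Lib.Helper28.J3Data
open Cfsg.Agent.Lib.Helper28.BSGSMat (Tree Entry sortedB)

theorem gens_ok : gens.all invOK = true := by decide +kernel

set_option maxRecDepth 1000000 in
theorem len_T0 : T0.toList.length = 69768 := by decide +kernel

theorem len_T1 : T1.toList.length = 2160 := by decide +kernel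

theorem head0_ok : headOK b0 T0 = true := by decide +kernel

theorem head1_ok : headOK b1 T1 = true := by decide +kernel

set_option maxRecDepth 1000000 in
theorem sorted0_ok : sortedB (T0.toList.map fun e => e.1) = true := by decide +kernel

theorem sorted1_ok : sortedB (T1.toList.map fun e => e.1) = true := by decide +kernel

theorem next_ok : next.all (nextOK gens b0) = true := by decide +kernel

theorem t1_ok : (T1.toList.all fun e => entryAll [cc, dc] lv1 [] e) = true := by decide +kernel

end Cfsg.Agent.Lib.Helper28.J3Cert
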