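import Cfsg.Agent.Lib.Helper28.J3Data
import Cfsg.Agent.Lib.Helper28.BSGSF4b

/-!
# Certificates for the triple cover of `J₃`: Schreier generators, part 2

Generated by a script.
-/

set_option autoImplicit false

namespace Cfsg.Agent.Lib.Helper28.J3Cert

open Cfsg.Agent.Lib.Helper28.F4 Cfsg.Agent.Lib.Helper28.J3Data
open Cfsg.Agent.Lib.Helper28.BSGSMat (Tree Entry sortedB)

set_option maxRecDepth 1000000 in
theorem c6_ok : ((chunkN 1024 T0.toList 6).all fun e => entryAll gens lv0 [lv1] e) = true := by
  decide +kernel

set_option maxRecDepth 1000000 in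
theorem c7_ok : ((chunkN 1024 T0.toList 7).all fun e => entryAll gens lv0 [lv1] e) = true := by
  decide +kernel

set_option maxRecDepth 1000000 in
theorem c8_ok : ((chunkN 1024 T0.toList 8).all fun e => entryAll gens lv0 [lv1] e) = true := by
  decide +kernel

set_option maxRecDepth 1000000 in
theorem c9_ok : ((chunkN 1024 T0.toList 9).all fun e => entryAll gens lv0 [lv1] e) = true := by
  decide +kernel

set_option maxRecDepth 1000000 in
theorem c10_ok : ((chunkN 1024 T0.toList 10).all fun e => entryAll gens lv0 [lv1] e) = true := by
  decide +kernel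

set_option maxRecDepth 1000000 in
theorem c11_ok : ((chunkN 1024 T0.toList 11).all fun e => entryAll gens lv0 [lv1] e) = true := by
  decide +kernel

end Cfsg.Agent.Lib.Helper28.J3Cert
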