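import Cfsg.Agent.Lib.Helper28.J3Cert0
import Cfsg.Agent.Lib.Helper28.J3Cert1
import Cfsg.Agent.Lib.Helper28.J3Cert2
import Cfsg.Agent.Lib.Helper28.J3Cert3
import Cfsg.Agent.Lib.Helper28.J3Cert4
import Cfsg.Agent.Lib.Helper28.J3Cert5
import Cfsg.Agent.Lib.Helper28.J3Cert6
import Cfsg.Agent.Lib.Helper28.J3Cert7
import Cfsg.Agent.Lib.Helper28.J3Cert8
import Cfsg.Agent.Lib.Helper28.J3Cert9
import Cfsg.Agent.Lib.Helper28.J3Cert10
import Cfsg.Agent.Lib.Helper28.J3Cert11
import Cfsg.Agent.Lib.Helper28.J3Cert12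

/-!
# Certificates for the triple cover of `J₃`: the chain

Generated by a script.
-/

set_option autoImplicit false

namespace Cfsg.Agent.Lib.Helper28.J3Cert

open Cfsg.Agent.Lib.Helper28.F4 Cfsg.Agent.Lib.Helper28.J3Data
open Cfsg.Agent.Lib.Helper28.BSGSMat (Tree Entry sortedB)

theorem chunks_ok : ∀ i, i < 69 →
    ((chunkN 1024 T0.toList i).all fun e => entryAll gens lv0 [lv1] e) = true := by
  intro i hi
  interval_cases i
  · exact c0_ok
  · exact c1_ok
  · exact c2_ok
  · exact c3_ok
  · exact c4_ok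
  · exact c5_ok
  · exact c6_ok
  · exact c7_ok
  · exact c8_ok
  · exact c9_ok
  · exact c10_ok
  · exact c11_ok
  · exact c12_ok
  · exact c13_ok
  · exact c14_ok
  · exact c15_ok
  · exact c16_ok
  · exact c17_ok
  · exact c18_ok
  · exact c19_ok
  · exact c20_ok
  · exact c21_ok
  · exact c22_ok
  · exact c23_ok
  · exact c24_ok
  · exact c25_ok
  · exact c26_ok
  · exact c27_ok
  · exact c28_ok
  · exact c29_ok
  · exact c30_ok
  · exact c31_ok
  · exact c32_ok
  · exact c33_ok
  · exact c34_ok
  · exact c35_ok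
  · exact c36_ok
  · exact c37_ok
  · exact c38_ok
  · exact c39_ok
  · exact c40_ok
  · exact c41_ok
  · exact c42_ok
  · exact c43_ok
  · exact c44_ok
  · exact c45_ok
  · exact c46_ok
  · exact c47_ok
  · exact c48_ok
  · exact c49_ok
  · exact c50_ok
  · exact c51_ok
  · exact c52_ok
  · exact c53_ok
  · exact c54_ok
  · exact c55_ok
  · exact c56_ok
  · exact c57_ok
  · exact c58_ok
  · exact c59_ok
  · exact c60_ok
  · exact c61_ok
  · exact c62_ok
  · exact c63_ok
  · exact c64_ok
  · exact c65_ok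
  · exact c66_ok
  · exact c67_ok
  · exact c68_ok

theorem gens_valid : ∀ g ∈ gens, invOK g = true := by
  have := gens_ok
  rw [List.all_eq_true] at this
  exact this

theorem chain_ok : ChainOK gens levels := by
  refine ⟨⟨by decide, head0_ok, sorted0_ok, ?_, ?_⟩, ⟨by decide, head1_ok, sorted1_ok, ?_, ?_⟩, rfl⟩
  · exact all_of_chunks (s := 1024) (by norm_num) T0.toList (fun e => entryAll gens lv0 [lv1] e) 69
      (by rw [len_T0]; norm_num) chunks_ok
  · have := next_ok
    rw [List.all_eq_true] at this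
    exact this
  · have := t1_ok
    rw [List.all_eq_true] at this
    exact this
  · intro ng hng
    exact absurd hng List.not_mem_nil

theorem size_ok : codeSize levels = 150698880 := by
  have h : codeSize levels = T0.toList.length * (T1.toList.length * 1) := by
    simp only [codeSize, levels, lv0, lv1]
  rw [h, len_T0, len_T1]

end Cfsg.Agent.Lib.Helper28.J3Cert
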