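import Cfsg.Agent.Lib.Helper28.BSGSF4b

/-!
# Isotropic vectors of `F₄⁹` in packed form

The Hermitian norm `Σ v_z³` of a packed vector is the parity of the number of its nonzero
coordinates.  Also: checking a Boolean condition on an initial segment of the natural numbers, and
surjectivity of the unpacking map for the field with four elements.
-/

set_option autoImplicit false

namespace Cfsg.Agent.Lib.Helper28.J3Iso

open Cfsg.Spor Cfsg.Agent.Lib.Helper28.F4
open Cfsg.Agent.Lib.Helper28.BSGSMat (Tree Entry)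

/-- the coordinate `j` of the packed vector `k` is nonzero -/
def nzb (k j : ℕ) : Bool := k.testBit j || k.testBit (9 + j)

/-- parity of the number of nonzero coordinates -/
def parB (k : ℕ) : Bool :=
  xor (xor (xor (xor (xor (xor (xor (xor (nzb k 0) (nzb k 1)) (nzb k 2)) (nzb k 3)) (nzb k 4))
    (nzb k 5)) (nzb k 6)) (nzb k 7)) (nzb k 8)

/-- the packed vector is nonzero and isotropic -/
def isoB (k : ℕ) : Bool := !parB k && !Nat.beq k 0

/-- an isotropic key is found in the tree -/
def covB (T : Tree) (k : ℕ) : Bool := !isoB k || (T.lookup k).isSome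

/-- a Boolean condition on all numbers below `n` -/
def allBelow (p : ℕ → Bool) : ℕ → Bool
  | 0 => true
  | n + 1 => p n && allBelow p n

theorem allBelow_spec (p : ℕ → Bool) : ∀ n, allBelow p n = true → ∀ k, k < n → p k = true := by
  intro n
  induction n with
  | zero => intro _ k hk; omega
  | succ n ih =>
    intro h k hk
    rw [allBelow, Bool.and_eq_true] at h
    rcases Nat.eq_or_lt_of_le (Nat.le_of_lt_succ hk) with rfl | hlt
    · exact h.1
    · exact ih h.2 k hlt

section sem
variable {F : Type*} [Field F] {ω : F} [hd : Data F ω]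

theorem om_cubed : ω ^ 3 = 1 := by
  have h2 := add_self' hd.two ω
  calc ω ^ 3 = ω * ω ^ 2 := by ring
    _ = ω * (ω + 1) := by rw [om_sq]
    _ = ω ^ 2 + ω := by ring
    _ = (ω + 1) + ω := by rw [om_sq]
    _ = 1 + (ω + ω) := by ring
    _ = 1 := by rw [h2, add_zero]

theorem cube_coef (a b : Bool) : (bitF F a + bitF F b * ω) ^ 3 = bitF F (a || b) := by
  cases a <;> cases b
  · simp [bitF]
  · simp only [bitF, cond_false, cond_true, zero_add, one_mul, Bool.false_or]
    exact om_cubed
  · simp [bitF]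
  · simp only [bitF, cond_true, one_mul, Bool.true_or]
    have h : (1 : F) + ω = ω ^ 2 := by rw [om_sq]; ring
    rw [h]
    calc (ω ^ 2) ^ 3 = (ω ^ 3) ^ 2 := by ring
      _ = 1 := by rw [om_cubed]; ring

theorem coef_cube (k j : ℕ) : (coef ω k j) ^ 3 = bitF F (nzb k j) := cube_coef _ _

theorem idx_vals : idx ((0 : ZMod 3), (0 : ZMod 3)) = 0 ∧ idx ((0 : ZMod 3), (1 : ZMod 3)) = 1 ∧
    idx ((0 : ZMod 3), (2 : ZMod 3)) = 2 ∧ idx ((1 : ZMod 3), (0 : ZMod 3)) = 3 ∧
    idx ((1 : ZMod 3), (1 : ZMod 3)) = 4 ∧ idx ((1 : ZMod 3), (2 : ZMod 3)) = 5 ∧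
    idx ((2 : ZMod 3), (0 : ZMod 3)) = 6 ∧ idx ((2 : ZMod 3), (1 : ZMod 3)) = 7 ∧
    idx ((2 : ZMod 3), (2 : ZMod 3)) = 8 := by
  decide

/-- the Hermitian norm of a packed vector -/
theorem sum_cube (k : ℕ) : ∑ z : F9, (ofV ω k z) ^ 3 = bitF F (parB k) := by
  rw [sum_F9]
  simp only [ofV_apply]
  obtain ⟨h0, h1, h2, h3, h4, h5, h6, h7, h8⟩ := idx_vals
  rw [h0, h1, h2, h3, h4, h5, h6, h7, h8]
  simp only [coef_cube]
  unfold parB
  simp only [bitF_xor hd.two]

omit hd in
theorem bitF_eq_zero {b : Bool} (h : bitF F b = 0) : b = false := by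
  cases b
  · rfl
  · exact absurd h one_ne_zero

/-- a nonzero isotropic vector has an isotropic key -/
theorem isoB_of_sum {k : ℕ} (h0 : ofV ω k ≠ 0) (hs : ∑ z : F9, (ofV ω k z) ^ 3 = 0) :
    isoB k = true := by
  rw [sum_cube] at hs
  have hp := bitF_eq_zero hs
  have hk : k ≠ 0 := by
    rintro rfl
    exact h0 ofV_zero
  unfold isoB
  rw [hp]
  have : Nat.beq k 0 = false := by
    cases hb : Nat.beq k 0
    · rfl
    · exact absurd (Nat.eq_of_beq_eq_true hb) hk
  rw [this]
  rfl

end sem

section card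
variable {F : Type*} [Field F] [Fintype F] {ω : F} [hd : Data F ω]

/-- every vector over the field with four elements is the unpacking of a key -/
theorem ofV_surj (hF : Fintype.card F = 4) (v : F9 → F) : ∃ k, k < 262144 ∧ ofV ω k = v := by
  classical
  let φ : Fin 262144 → (F9 → F) := fun k => ofV ω k.val
  have hinj : Function.Injective φ := by
    intro a b hab
    exact Fin.ext (ofV_inj (ω := ω) a.isLt b.isLt hab)
  have hcard : Fintype.card (Fin 262144) = Fintype.card (F9 → F) := by
    rw [Fintype.card_fin, Fintype.card_fun, hF]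
    have h9 : Fintype.card F9 = 9 := by
      show Fintype.card (ZMod 3 × ZMod 3) = 9
      rw [Fintype.card_prod, ZMod.card]
    rw [h9]
    norm_num
  obtain ⟨k, hk⟩ := ((Fintype.bijective_iff_injective_and_card φ).mpr ⟨hinj, hcard⟩).2 v
  exact ⟨k.val, k.isLt, hk⟩

/-- the elements of the field with four elements -/
theorem elts_four (hF : Fintype.card F = 4) (c : F) : c = 0 ∨ c = 1 ∨ c = ω ∨ c = ω ^ 2 := by
  obtain ⟨k, _, hk⟩ := ofV_surj (ω := ω) hF (fun _ => c)
  have h := congrFun hk ((0 : ZMod 3), (0 : ZMod 3))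
  have h' : bitF F (k.testBit (idx ((0 : ZMod 3), (0 : ZMod 3)))) +
      bitF F (k.testBit (9 + idx ((0 : ZMod 3), (0 : ZMod 3)))) * ω = c := h
  rw [← h']
  cases k.testBit (idx ((0 : ZMod 3), (0 : ZMod 3))) <;>
    cases k.testBit (9 + idx ((0 : ZMod 3), (0 : ZMod 3)))
  · left; simp [bitF]
  · right; right; left; simp [bitF]
  · right; left; simp [bitF]
  · right; right; right
    simp only [bitF, cond_true, one_mul]
    rw [om_sq]; ring

end card

end Cfsg.Agent.Lib.Helper28.J3Iso
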