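import Cfsg.Agent.Lib.Helper28.J3IsoData
import Cfsg.Agent.Lib.Helper28.J3IsoDefs

/-!
# Certificates for the isotropic orbit of `3.J₃`: every isotropic key is in the tree

Generated by a script.
-/

set_option autoImplicit false

namespace Cfsg.Agent.Lib.Helper28.J3IsoCert

open Cfsg.Agent.Lib.Helper28.F4 Cfsg.Agent.Lib.Helper28.J3IsoData
open Cfsg.Agent.Lib.Helper28.J3Iso
open Cfsg.Agent.Lib.Helper28.BSGSMat (Tree Entry)

set_option maxRecDepth 1000000 in
theorem len_IT : IT.toList.length = 130815 := by decide +kernel

set_option maxRecDepth 1000000 in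
theorem cov_0 : allBelow (fun k => covB IT (32768 * 0 + k)) 32768 = true := by
  decide +kernel

set_option maxRecDepth 1000000 in
theorem cov_1 : allBelow (fun k => covB IT (32768 * 1 + k)) 32768 = true := by
  decide +kernel

set_option maxRecDepth 1000000 in
theorem cov_2 : allBelow (fun k => covB IT (32768 * 2 + k)) 32768 = true := by
  decide +kernel

set_option maxRecDepth 1000000 in
theorem cov_3 : allBelow (fun k => covB IT (32768 * 3 + k)) 32768 = true := by
  decide +kernel

set_option maxRecDepth 1000000 in
theorem cov_4 : allBelow (fun k => covB IT (32768 * 4 + k)) 32768 = true := by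
  decide +kernel

set_option maxRecDepth 1000000 in
theorem cov_5 : allBelow (fun k => covB IT (32768 * 5 + k)) 32768 = true := by
  decide +kernel

set_option maxRecDepth 1000000 in
theorem cov_6 : allBelow (fun k => covB IT (32768 * 6 + k)) 32768 = true := by
  decide +kernel

set_option maxRecDepth 1000000 in
theorem cov_7 : allBelow (fun k => covB IT (32768 * 7 + k)) 32768 = true := by
  decide +kernel

theorem cov_all : ∀ k, k < 262144 → covB IT k = true := by
  intro k hk
  have h0 : 32768 * (k / 32768) + k % 32768 = k := Nat.div_add_mod k 32768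
  have hm : k % 32768 < 32768 := Nat.mod_lt _ (by norm_num)
  have hi : k / 32768 < 8 := by omega
  rw [← h0]
  generalize k / 32768 = i at hi
  generalize k % 32768 = r at hm
  interval_cases i
  · exact allBelow_spec _ _ cov_0 r hm
  · exact allBelow_spec _ _ cov_1 r hm
  · exact allBelow_spec _ _ cov_2 r hm
  · exact allBelow_spec _ _ cov_3 r hm
  · exact allBelow_spec _ _ cov_4 r hm
  · exact allBelow_spec _ _ cov_5 r hm
  · exact allBelow_spec _ _ cov_6 r hm
  · exact allBelow_spec _ _ cov_7 r hm

end Cfsg.Agent.Lib.Helper28.J3IsoCert
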