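import Cfsg.Agent.Lib.Helper28.J3IsoData
import Cfsg.Agent.Lib.Helper28.J3Data
import Cfsg.Agent.Lib.Helper28.J3IsoDefs

/-!
# Certificates for the isotropic orbit of `3.J₃`: the Schreier tree, part 2

Generated by a script.
-/

set_option autoImplicit false

namespace Cfsg.Agent.Lib.Helper28.J3IsoCert

open Cfsg.Agent.Lib.Helper28.F4 Cfsg.Agent.Lib.Helper28.J3Data Cfsg.Agent.Lib.Helper28.J3IsoData
open Cfsg.Agent.Lib.Helper28.J3Iso
open Cfsg.Agent.Lib.Helper28.BSGSMat (Tree Entry)

set_option maxRecDepth 1000000 in
theorem r8_ok : ((chunkN 8192 IT.toList 8).all fun e => reachOK gens ib IT e) = true := by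
  decide +kernel

set_option maxRecDepth 1000000 in
theorem r9_ok : ((chunkN 8192 IT.toList 9).all fun e => reachOK gens ib IT e) = true := by
  decide +kernel

set_option maxRecDepth 1000000 in
theorem r10_ok : ((chunkN 8192 IT.toList 10).all fun e => reachOK gens ib IT e) = true := by
  decide +kernel

set_option maxRecDepth 1000000 in
theorem r11_ok : ((chunkN 8192 IT.toList 11).all fun e => reachOK gens ib IT e) = true := by
  decide +kernel

set_option maxRecDepth 1000000 in
theorem r12_ok : ((chunkN 8192 IT.toList 12).all fun e => reachOK gens ib IT e) = true := by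
  decide +kernel

set_option maxRecDepth 1000000 in
theorem r13_ok : ((chunkN 8192 IT.toList 13).all fun e => reachOK gens ib IT e) = true := by
  decide +kernel

set_option maxRecDepth 1000000 in
theorem r14_ok : ((chunkN 8192 IT.toList 14).all fun e => reachOK gens ib IT e) = true := by
  decide +kernel

set_option maxRecDepth 1000000 in
theorem r15_ok : ((chunkN 8192 IT.toList 15).all fun e => reachOK gens ib IT e) = true := by
  decide +kernel

end Cfsg.Agent.Lib.Helper28.J3IsoCert
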