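import Cfsg.Agent.Lib.Helper28.J3IsoCert0
import Cfsg.Agent.Lib.Helper28.J3IsoCert1
import Cfsg.Agent.Lib.Helper28.J3IsoCert2

/-!
# Certificates for the isotropic orbit of `3.J₃`: summary

Generated by a script.
-/

set_option autoImplicit false

namespace Cfsg.Agent.Lib.Helper28.J3IsoCert

open Cfsg.Agent.Lib.Helper28.F4 Cfsg.Agent.Lib.Helper28.J3Data Cfsg.Agent.Lib.Helper28.J3IsoData
open Cfsg.Agent.Lib.Helper28.J3Iso
open Cfsg.Agent.Lib.Helper28.BSGSMat (Tree Entry)

theorem reach_all : ∀ e ∈ IT.toList, reachOK gens ib IT e = true := by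
  apply all_of_chunks (s := 8192) (by norm_num) IT.toList (fun e => reachOK gens ib IT e) 16
    (by rw [len_IT]; norm_num)
  intro i hi
  interval_cases i
  · exact r0_ok
  · exact r1_ok
  · exact r2_ok
  · exact r3_ok
  · exact r4_ok
  · exact r5_ok
  · exact r6_ok
  · exact r7_ok
  · exact r8_ok
  · exact r9_ok
  · exact r10_ok
  · exact r11_ok
  · exact r12_ok
  · exact r13_ok
  · exact r14_ok
  · exact r15_ok

end Cfsg.Agent.Lib.Helper28.J3IsoCert
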