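import Cfsg.Agent.Lib.Helper28.BSGSF4

/-!
# The orbit of the triple cover of `J₃` on isotropic vectors: part 1 of the orbit tree

Generated by a script.
-/

set_option autoImplicit false

namespace Cfsg.Agent.Lib.Helper28.J3IsoData

open Cfsg.Agent.Lib.Helper28.BSGSMat (Tree)

/-- part of the orbit tree -/
def itp1_1 : Tree := (.node (.node (.node (.node (.node (.node .leaf (32673, 0, 17, 176514) .leaf) (32674, 0, 17, 241381) (.node .leaf (32675, 0, 17, 254375) .leaf)) (32676, 0, 13, 145802) (.node (.node .leaf (32677, 0, 16, 24740) .leaf) (32678, 0, 16, 119288) (.node .leaf (32679, 0, 15, 231638) .leaf))) (32680, 0, 15, 44043) (.node (.node (.node .leaf (32681, 0, 16, 193829) .leaf) (32682, 0, 17, 214137) (.node .leaf (32683, 0, 16, 115775) .leaf)) (32684, 0, 18, 185110) (.node (.node .leaf (32685, 0, 15, 44345) .leaf) (32686, 0, 14, 73082) (.node .leaf (32687, 0, 17, 221770) .leaf)))) (32688, 0, 15, 143457) (.node (.node (.node (.node .leaf (32689, 0, 15, 26959) .leaf) (32690, 0, 12, 96660) (.node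 .leaf (32691, 0, 18, 229693) .leaf)) (32692, 0, 17, 20348) (.node (.node .leaf (32693, 0, 16, 136786) .leaf) (32694, 0, 15, 239374) (.node .leaf (32695, 0, 18, 130592) .leaf))) (32696, 0, 13, 134185) (.node (.node (.node .leaf (32697, 0, 16, 33747) .leaf) (32698, 0, 12, 78479) (.node .leaf (32699, 0, 12, 244842) .leaf)) (32700, 0, 18, 42464) (.node (.node .leaf (32701, 0, 16, 195790) .leaf) (32702, 0, 17, 216466) (.node .leaf (32703, 0, 16, 70844) .leaf))))) (32769, 0, 17, 165843) (.node (.node (.node (.node (.node .leaf (32770, 0, 15, 173150) .leaf) (32772, 0, 18, 209713) (.node .leaf (32775, 0, 12, 257749) .leaf)) (32776, 0, 17, 108208) (.node (.node .leaf (32779, 0, 19, 6124) .leaf) (32781, 0, 17, 39784) (.node .leaf (32782, 0, 17, 12767) .leaf))) (32784, 0, 16, 211674) (.node (.node (.node .leaf (32787, 0, 16, 110499) .leaf) (32789, 0, 14, 204009) (.node .leaf (32790, 0, 10, 175541) .leaf)) (32793, 0, 18, 186910) (.node (.node .leaf (32794, 0, 15, 14388) .leaf) (32796, 0, 14, 110427) (.node .leaf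 (32799, 0, 14, 242456) .leaf)))) (32800, 0, 16, 93248) (.node (.node (.node (.node .leaf (32803, 0, 16, 56323) .leaf) (32805, 0, 13, 5909) (.node .leaf (32806, 0, 14, 108105) .leaf)) (32809, 0, 16, 164500) (.node (.node .leaf (32810, 0, 18, 137725) .leaf) (32812, 0, 16, 173223) (.node .leaf (32815, 0, 15, 180408) .leaf))) (32817, 0, 15, 7934) (.node (.node (.node .leaf (32818, 0, 16, 148528) .leaf) (32820, 0, 12, 208182) (.node .leaf (32823, 0, 14, 100753) .leaf)) (32824, 0, 16, 175436) (.node (.node .leaf (32827, 0, 17, 203792) .leaf) (32829, 0, 16, 125128) (.node .leaf (32830, 0, 16, 22667) .leaf))))))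

/-- part of the orbit tree -/
def itp1_2 : Tree := (.node (.node (.node (.node (.node (.node .leaf (32834, 0, 17, 23830) .leaf) (32836, 0, 15, 224187) (.node .leaf (32839, 0, 16, 187111) .leaf)) (32840, 0, 15, 207019) (.node (.node .leaf (32843, 0, 15, 170216) .leaf) (32845, 0, 16, 258542) (.node .leaf (32846, 0, 16, 26965) .leaf))) (32848, 0, 17, 226662) (.node (.node (.node .leaf (32851, 0, 15, 181541) .leaf) (32853, 0, 16, 240675) (.node .leaf (32854, 0, 14, 193855) .leaf)) (32857, 0, 12, 110744) (.node (.node .leaf (32858, 0, 17, 24766) .leaf) (32860, 0, 19, 128977) (.node .leaf (32863, 0, 14, 18061) .leaf)))) (32864, 0, 12, 132806) (.node (.node (.node (.node .leaf (32867, 0, 14, 243333) .leaf) (32869, 0, 17, 20383) (.node .leaf (32870, 0, 17, 225216) .leaf)) (32873, 0, 17, 49976) (.node (.node .leaf (32874, 0, 17, 224066) .leaf) (32876, 0, 17, 195629) (.node .leaf (32879, 0, 14, 109118) .leaf))) (32881, 0, 14, 40693) (.node (.node (.node .leaf (32882, 0, 17, 128808) .leaf) (32884, 0, 18, 24647)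 (.node .leaf (32887, 0, 15, 129011) .leaf)) (32888, 0, 13, 193990) (.node (.node .leaf (32891, 0, 17, 214170) .leaf) (32893, 0, 15, 164430) (.node .leaf (32894, 0, 16, 209421) .leaf))))) (32896, 0, 15, 195653) (.node (.node (.node (.node (.node .leaf (32899, 0, 16, 82172) .leaf) (32901, 0, 17, 10746) (.node .leaf (32902, 0, 17, 224042) .leaf)) (32905, 0, 15, 144705) (.node (.node .leaf (32906, 0, 13, 230658) .leaf) (32908, 0, 15, 27076) (.node .leaf (32911, 0, 17, 220231) .leaf))) (32913, 0, 16, 157836) (.node (.node (.node .leaf (32914, 0, 18, 252111) .leaf) (32916, 0, 18, 193966) (.node .leaf (32919, 0, 18, 214258) .leaf)) (32920, 0, 10, 44402) (.node (.node .leaf (32923, 0, 18, 73009) .leaf) (32925, 0, 16, 17948) (.node .leaf (32926, 0, 16, 115828) .leaf)))) (32929, 0, 17, 203564) (.node (.node (.node (.node .leaf (32930, 0, 16, 26941) .leaf) (32932, 0, 16, 130642) (.node .leaf (32935, 0, 17, 20238) .leaf)) (32936, 0, 16, 224211) (.node (.node .leaf (32939, 0, 14, 28305) .leaf) (32941, 0, 18, 67479)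 (.node .leaf (32942, 0, 15, 195772) .leaf))) (32944, 0, 15, 99103) (.node (.node (.node .leaf (32947, 0, 17, 13148) .leaf) (32949, 0, 19, 119178) (.node .leaf (32950, 0, 17, 59929) .leaf)) (32953, 0, 18, 214753) (.node (.node .leaf (32954, 0, 16, 194210) .leaf) (32956, 0, 15, 237476) (.node .leaf (32959, 0, 16, 185188) .leaf))))))

/-- part of the orbit tree -/
def itp1_3 : Tree := (.node (.node (.node (.node (.node (.node .leaf (32963, 0, 15, 141946) .leaf) (32965, 0, 17, 213884) (.node .leaf (32966, 0, 11, 209824) .leaf)) (32969, 0, 16, 6013) (.node (.node .leaf (32970, 0, 18, 108065) .leaf) (32972, 0, 18, 12622) (.node .leaf (32975, 0, 16, 14017) .leaf))) (32977, 0, 15, 166679) (.node (.node (.node .leaf (32978, 0, 14, 211531) .leaf) (32980, 0, 16, 121679) (.node .leaf (32983, 0, 17, 203896) .leaf)) (32984, 0, 13, 14501) (.node (.node .leaf (32987, 0, 16, 100857) .leaf) (32989, 0, 16, 204465) (.node .leaf (32990, 0, 17, 110538) .leaf)))) (32993, 0, 16, 98539) (.node (.node (.node (.node .leaf (32994,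 0, 17, 115177) .leaf) (32996, 0, 17, 108248) (.node .leaf (32999, 0, 15, 6020) .leaf)) (33000, 0, 16, 177236) (.node (.node .leaf (33003, 0, 14, 197655) .leaf) (33005, 0, 16, 158993) (.node .leaf (33006, 0, 17, 253266) .leaf))) (33008, 0, 18, 110387) (.node (.node (.node .leaf (33011, 0, 14, 7791) .leaf) (33013, 0, 18, 143580) (.node .leaf (33014, 0, 18, 229535) .leaf)) (33017, 0, 16, 11367) (.node (.node .leaf (33018, 0, 15, 105508) .leaf) (33020, 0, 17, 211634) (.node .leaf (33023, 0, 14, 166894) .leaf))))) (33024, 0, 18, 116161) (.node (.node (.node (.node (.node .leaf (33027, 0, 15, 30082) .leaf) (33029, 0, 16, 101884) (.node .leaf (33030, 0, 16, 44231) .leaf)) (33033, 0, 16, 202877) (.node (.node .leaf (33034, 0, 14, 176252) .leaf) (33036, 0, 15, 212558) (.node .leaf (33039, 0, 15, 167698) .leaf))) (33041, 0, 17, 99351) (.node (.node (.node .leaf (33042, 0, 16, 191921) .leaf) (33044, 0, 12, 230583) (.node .leaf (33047, 0, 17, 4984) .leaf)) (33048, 0, 18, 104460) (.node (.node .leaf (33051, 0,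 17, 165625) .leaf) (33053, 0, 16, 82249) (.node .leaf (33054, 0, 16, 172234) .leaf)))) (33057, 0, 17, 142930) (.node (.node (.node (.node .leaf (33058, 0, 15, 212663) .leaf) (33060, 0, 17, 174552) (.node .leaf (33063, 0, 10, 202884) .leaf)) (33064, 0, 14, 15449) (.node (.node .leaf (33067, 0, 16, 89071) .leaf) (33069, 0, 17, 6762) (.node .leaf (33070, 0, 17, 98986) .leaf))) (33072, 0, 16, 172083) (.node (.node (.node .leaf (33075, 0, 17, 201071) .leaf) (33077, 0, 14, 165376) (.node .leaf (33078, 0, 16, 210780) .leaf)) (33081, 0, 16, 160671) (.node (.node .leaf (33082, 0, 18, 107229) .leaf) (33084, 0, 17, 13746) (.node .leaf (33087, 0, 16, 99566) .leaf))))))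

/-- part of the orbit tree -/
def itp1_4 : Tree := (.node (.node (.node (.node (.node (.node .leaf (33091, 0, 16, 16921) .leaf) (33093, 0, 12, 120182) (.node .leaf (33094, 0, 15, 25642) .leaf)) (33097, 0, 17, 213239) (.node (.node .leaf (33098, 0, 15, 192939) .leaf) (33100, 0, 17, 222916) (.node .leaf (33103, 0, 13, 186264) .leaf))) (33105, 0, 16, 14196) (.node (.node (.node .leaf (33106, 0, 16, 28097) .leaf) (33108, 0, 15, 129710) (.node .leaf (33111, 0, 14, 19442) .leaf)) (33112, 0, 18, 193162) (.node (.node .leaf (33115, 0, 18, 188019) .leaf) (33117, 0, 15, 215324) (.node .leaf (33118, 0, 14, 236428) .leaf)))) (33121, 0, 18, 83156) (.node (.node (.node (.node .leaf (33122, 0, 14, 222781) .leaf) (33124, 0, 17, 105873) (.node .leaf (33127, 0, 13, 11730) .leaf)) (33128, 0, 16, 229674) (.node (.node .leaf (33131, 0, 14, 120207) .leaf) (33133, 0, 18, 219247) (.node .leaf (33134, 0, 17, 190508) .leaf))) (33136, 0, 17, 253159) (.node (.node (.node .leaf (33139, 0, 11, 158884) .leaf) (33141, 0, 15, 188042)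 (.node .leaf (33142, 0, 15, 225238) .leaf)) (33145, 0, 14, 71961) (.node (.node .leaf (33146, 0, 16, 43354) .leaf) (33148, 0, 17, 27960) (.node .leaf (33151, 0, 15, 28703) .leaf))))) (33153, 0, 18, 242349) (.node (.node (.node (.node (.node .leaf (33154, 0, 15, 131822) .leaf) (33156, 0, 18, 25787) (.node .leaf (33159, 0, 16, 187307) .leaf)) (33160, 0, 18, 192826) (.node (.node .leaf (33163, 0, 17, 50960) .leaf) (33165, 0, 14, 110102) (.node .leaf (33166, 0, 13, 7765) .leaf))) (33168, 0, 17, 76446) (.node (.node (.node .leaf (33171, 0, 19, 39645) .leaf) (33173, 0, 19, 127963) (.node .leaf (33174, 0, 14, 129599) .leaf)) (33177, 0, 15, 188130) (.node (.node .leaf (33178, 0, 16, 155427) .leaf) (33180, 0, 17, 194769) (.node .leaf (33183, 0, 18, 215437) .leaf)))) (33184, 0, 17, 22846) (.node (.node (.node (.node .leaf (33187, 0, 14, 186352) .leaf) (33189, 0, 15, 213151) (.node .leaf (33190, 0, 18, 77880) .leaf)) (33193, 0, 19, 120094) (.node (.node .leaf (33194, 0, 16, 25666) .leaf) (33196, 0, 16, 148869)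 (.node .leaf (33199, 0, 15, 259526) .leaf))) (33201, 0, 15, 180493) (.node (.node (.node .leaf (33202, 0, 17, 225614) .leaf) (33204, 0, 13, 137288) (.node .leaf (33207, 0, 17, 239627) .leaf)) (33208, 0, 18, 1267) (.node (.node .leaf (33211, 0, 17, 111792) .leaf) (33213, 0, 16, 56758) (.node .leaf (33214, 0, 18, 93685) .leaf))))))

/-- part of the orbit tree -/
def itp1_5 : Tree := (.node itp1_1 (32833, 0, 14, 216456) itp1_2)

/-- part of the orbit tree -/
def itp1_6 : Tree := (.node itp1_3 (33088, 0, 15, 127813) itp1_4)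

/-- part of the orbit tree -/
def itp1_7 : Tree := (.node (.node (.node (.node (.node (.node .leaf (33218, 0, 17, 109406) .leaf) (33220, 0, 17, 15409) (.node .leaf (33223, 0, 17, 101741) .leaf)) (33224, 0, 17, 138709) (.node (.node .leaf (33227, 0, 16, 202988) .leaf) (33229, 0, 18, 167811) (.node .leaf (33230, 0, 17, 226515) .leaf))) (33232, 0, 18, 13786) (.node (.node (.node .leaf (33235, 0, 17, 99462) .leaf) (33237, 0, 17, 170333) (.node .leaf (33238, 0, 14, 107189) .leaf)) (33241, 0, 15, 34278) (.node (.node .leaf (33242, 0, 17, 210740) .leaf) (33244, 0, 16, 23715) (.node .leaf (33247, 0, 13, 126176) .leaf)))) (33248, 0, 16, 212518) (.node (.node (.node (.node .leaf (33251, 0, 18, 167802) .leaf) (33253, 0, 16, 256765) (.node .leaf (33254, 0, 15, 154302) .leaf)) (33257, 0, 16, 128582) (.node (.node .leaf (33258, 0, 15, 15560) .leaf) (33260, 0, 17, 77571) (.node .leaf (33263, 0, 13, 6907) .leaf))) (33265, 0, 18, 201214) (.node (.node (.node .leaf (33266, 0, 19, 172194) .leaf) (33268, 0, 17, 94926)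 (.node .leaf (33271, 0, 16, 165521) .leaf)) (33272, 0, 16, 107084) (.node (.node .leaf (33275, 0, 17, 4880) .leaf) (33277, 0, 15, 243504) (.node .leaf (33278, 0, 16, 13603) .leaf))))) (33280, 0, 17, 84224) (.node (.node (.node (.node (.node .leaf (33281, 0, 15, 175011) .leaf) (33286, 0, 17, 205507) (.node .leaf (33287, 0, 15, 165697) .leaf)) (33290, 0, 14, 150510) (.node (.node .leaf (33291, 0, 18, 4800) .leaf) (33292, 0, 16, 253057) (.node .leaf (33293, 0, 17, 46872) .leaf))) (33298, 0, 17, 55172) (.node (.node (.node .leaf (33299, 0, 15, 99283) .leaf) (33300, 0, 15, 82155) (.node .leaf (33301, 0, 15, 203205) .leaf)) (33304, 0, 16, 136712) (.node (.node .leaf (33305, 0, 16, 194158) .leaf) (33310, 0, 17, 229134) (.node .leaf (33311, 0, 16, 237416) .leaf)))) (33314, 0, 16, 253048) (.node (.node (.node (.node .leaf (33315, 0, 16, 61555) .leaf) (33316, 0, 17, 96531) (.node .leaf (33317, 0, 16, 4665) .leaf)) (33320, 0, 14, 56982) (.node (.node .leaf (33321, 0, 10, 165816) .leaf) (33326, 0, 16, 84473)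 (.node .leaf (33327, 0, 16, 191688) .leaf))) (33328, 0, 17, 211045) (.node (.node (.node .leaf (33329, 0, 10, 251907) .leaf) (33334, 0, 15, 251283) (.node .leaf (33335, 0, 18, 176389) .leaf)) (33338, 0, 16, 81938) (.node (.node .leaf (33339, 0, 17, 203068) .leaf) (33340, 0, 15, 74974) (.node .leaf (33341, 0, 18, 115896) .leaf))))))

/-- part of the orbit tree -/
def itp1_8 : Tree := (.node (.node (.node (.node (.node (.node .leaf (33345, 0, 16, 215204) .leaf) (33350, 0, 17, 18501) (.node .leaf (33351, 0, 14, 188363) .leaf)) (33354, 0, 16, 152830) (.node (.node .leaf (33355, 0, 16, 19018) .leaf) (33356, 0, 17, 212472) (.node .leaf (33357, 0, 17, 122149) .leaf))) (33362, 0, 15, 133427) (.node (.node (.node .leaf (33363, 0, 17, 190805) .leaf) (33364, 0, 17, 221237) (.node .leaf (33365, 0, 14, 229459) .leaf)) (33368, 0, 16, 232928) (.node (.node .leaf (33369, 0, 13, 105704) .leaf) (33374, 0, 16, 137871) (.node .leaf (33375, 0, 17, 17313) .leaf)))) (33378, 0, 16, 227987) (.node (.node (.node (.node .leaf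 (33379, 0, 17, 122332) .leaf) (33380, 0, 12, 136093) (.node .leaf (33381, 0, 18, 19123) .leaf)) (33384, 0, 18, 34332) (.node (.node .leaf (33385, 0, 17, 188210) .leaf) (33390, 0, 11, 70003) (.node .leaf (33391, 0, 13, 215133) .leaf))) (33392, 0, 17, 137846) (.node (.node (.node .leaf (33393, 0, 18, 17240) .leaf) (33398, 0, 16, 232729) (.node .leaf (33399, 0, 15, 119863) .leaf)) (33402, 0, 17, 71832) (.node (.node .leaf (33403, 0, 17, 213430) .leaf) (33404, 0, 12, 151128) (.node .leaf (33405, 0, 17, 175678) .leaf))))) (33410, 0, 18, 69915) (.node (.node (.node (.node (.node .leaf (33411, 0, 16, 93324) .leaf) (33412, 0, 17, 34420) (.node .leaf (33413, 0, 16, 188250) .leaf)) (33416, 0, 15, 194903) (.node (.node .leaf (33417, 0, 17, 137521) .leaf) (33422, 0, 13, 230554) (.node .leaf (33423, 0, 10, 225335) .leaf))) (33424, 0, 16, 173210) (.node (.node (.node .leaf (33425, 0, 17, 186033) .leaf) (33430, 0, 18, 249244) (.node .leaf (33431, 0, 16, 208378) .leaf)) (33434, 0, 13, 232817) (.node (.node .leaf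 (33435, 0, 16, 119903) .leaf) (33436, 0, 17, 47137) (.node .leaf (33437, 0, 15, 17200) .leaf)))) (33440, 0, 17, 230499) (.node (.node (.node (.node .leaf (33441, 0, 16, 210780) .leaf) (33446, 0, 16, 179772) (.node .leaf (33447, 0, 17, 155226) .leaf)) (33450, 0, 17, 34445) (.node (.node .leaf (33451, 0, 16, 188323) .leaf) (33452, 0, 18, 70114) (.node .leaf (33453, 0, 17, 76775) .leaf))) (33458, 0, 15, 137959) (.node (.node (.node .leaf (33459, 0, 18, 17353) .leaf) (33460, 0, 16, 232840) (.node .leaf (33461, 0, 15, 95786) .leaf)) (33464, 0, 16, 71689) (.node (.node .leaf (33465, 0, 16, 223889) .leaf) (33470, 0, 16, 189425) (.node .leaf (33471, 0, 15, 131991) .leaf))))))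

/-- part of the orbit tree -/
def itp1_9 : Tree := (.node (.node (.node (.node (.node (.node .leaf (33475, 0, 19, 200895) .leaf) (33476, 0, 17, 233322) (.node .leaf (33477, 0, 16, 225036) .leaf)) (33480, 0, 16, 150399) (.node (.node .leaf (33481, 0, 11, 4689) .leaf) (33486, 0, 10, 252944) (.node .leaf (33487, 0, 17, 99646) .leaf))) (33488, 0, 17, 118300) (.node (.node (.node .leaf (33489, 0, 17, 167483) .leaf) (33494, 0, 17, 82042) (.node .leaf (33495, 0, 16, 18300) .leaf)) (33498, 0, 16, 251387) (.node (.node .leaf (33499, 0, 15, 101589) .leaf) (33500, 0, 16, 250535) (.node .leaf (33501, 0, 18, 7098) .leaf)))) (33504, 0, 17, 253161) (.node (.node (.node (.node .leaf (33505, 0, 15, 99783) .leaf) (33510, 0, 16, 150406) (.node .leaf (33511, 0, 16, 4776) .leaf)) (33514, 0, 17, 247809) (.node (.node .leaf (33515, 0, 15, 206951) .leaf) (33516, 0, 15, 84328) (.node .leaf (33517, 0, 15, 200774) .leaf))) (33522, 0, 17, 234956) (.node (.node (.node .leaf (33523, 0, 17, 226730) .leaf) (33524, 0, 17, 195786)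 (.node .leaf (33525, 0, 15, 101420) .leaf)) (33528, 0, 16, 82051) (.node (.node .leaf (33529, 0, 17, 23) .leaf) (33534, 0, 17, 100727) (.node .leaf (33535, 0, 17, 92433) .leaf))))) (33538, 0, 18, 47508) (.node (.node (.node (.node (.node .leaf (33539, 0, 18, 23026) .leaf) (33540, 0, 18, 118930) (.node .leaf (33541, 0, 15, 78068) .leaf)) (33544, 0, 18, 83071) (.node (.node .leaf (33545, 0, 18, 207951) .leaf) (33550, 0, 17, 173359) (.node .leaf (33551, 0, 13, 166462) .leaf))) (33552, 0, 17, 233956) (.node (.node (.node .leaf (33553, 0, 16, 98619) .leaf) (33558, 0, 14, 194786) (.node .leaf (33559, 0, 17, 137348) .leaf)) (33562, 0, 12, 56059) (.node (.node .leaf (33563, 0, 15, 1087) .leaf) (33564, 0, 16, 101727) (.node .leaf (33565, 0, 14, 93497) .leaf)))) (33568, 0, 16, 188996) (.node (.node (.node (.node .leaf (33569, 0, 19, 131618) .leaf) (33574, 0, 17, 232258) (.node .leaf (33575, 0, 16, 204200) .leaf)) (33578, 0, 17, 250119) (.node (.node .leaf (33579, 0, 16, 100393) .leaf) (33580, 0, 16, 149096)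 (.node .leaf (33581, 0, 16, 7833) .leaf))) (33586, 0, 14, 117300) (.node (.node (.node .leaf (33587, 0, 16, 201795) .leaf) (33588, 0, 14, 55810) (.node .leaf (33589, 0, 16, 17236) .leaf)) (33592, 0, 17, 151427) (.node (.node .leaf (33593, 0, 14, 5805) .leaf) (33598, 0, 16, 251535) (.node .leaf (33599, 0, 16, 210665) .leaf))))))

/-- part of the orbit tree -/
def itp1_10 : Tree := (.node (.node (.node (.node (.node (.node .leaf (33603, 0, 14, 209780) .leaf) (33604, 0, 17, 178708) (.node .leaf (33605, 0, 16, 118874) .leaf)) (33608, 0, 17, 42671) (.node (.node .leaf (33609, 0, 16, 18121) .leaf) (33614, 0, 17, 35738) (.node .leaf (33615, 0, 13, 77775) .leaf))) (33616, 0, 17, 64354) (.node (.node (.node .leaf (33617, 0, 14, 6916) .leaf) (33622, 0, 18, 103012) (.node .leaf (33623, 0, 17, 94722) .leaf)) (33626, 0, 19, 33393) (.node (.node .leaf (33627, 0, 17, 187231) .leaf) (33628, 0, 15, 190425) (.node .leaf (33629, 0, 17, 133055) .leaf)))) (33632, 0, 16, 35683) (.node (.node (.node (.node .leaf (33633,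 0, 16, 92324) .leaf) (33638, 0, 14, 72716) (.node .leaf (33639, 0, 13, 418) .leaf)) (33642, 0, 18, 231821) (.node (.node .leaf (33643, 0, 14, 118947) .leaf) (33644, 0, 17, 234617) (.node .leaf (33645, 0, 18, 226335) .leaf))) (33650, 0, 14, 71143) (.node (.node (.node .leaf (33651, 0, 16, 216265) .leaf) (33652, 0, 16, 33416) (.node .leaf (33653, 0, 14, 207314) .leaf)) (33656, 0, 12, 120079) (.node (.node .leaf (33657, 0, 15, 20007) .leaf) (33662, 0, 13, 48137) (.node .leaf (33663, 0, 17, 23663) .leaf))))) (33664, 0, 18, 138890) (.node (.node (.node (.node (.node .leaf (33665, 0, 17, 237277) .leaf) (33670, 0, 16, 137149) (.node .leaf (33671, 0, 16, 194523) .leaf)) (33674, 0, 16, 72804) (.node (.node .leaf (33675, 0, 17, 60256) .leaf) (33676, 0, 16, 90624) (.node .leaf (33677, 0, 19, 98918) .leaf))) (33682, 0, 16, 229390) (.node (.node (.node .leaf (33683, 0, 16, 46765) .leaf) (33684, 0, 12, 137057) (.node .leaf (33685, 0, 15, 122795) .leaf)) (33688, 0, 18, 33504) (.node (.node .leaf (33689, 0, 17, 187342)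 .leaf) (33694, 0, 15, 71055) (.node .leaf (33695, 0, 17, 174614) .leaf)))) (33698, 0, 18, 35826) (.node (.node (.node (.node .leaf (33699, 0, 16, 115981) .leaf) (33700, 0, 14, 72861) (.node .leaf (33701, 0, 14, 214451) .leaf)) (33704, 0, 15, 231708) (.node (.node .leaf (33705, 0, 16, 118834) .leaf) (33710, 0, 15, 138867) (.node .leaf (33711, 0, 17, 252342) .leaf))) (33712, 0, 16, 71030) (.node (.node (.node .leaf (33713, 0, 13, 216152) .leaf) (33718, 0, 17, 33305) (.node .leaf (33719, 0, 16, 187191) .leaf)) (33722, 0, 17, 137112) (.node (.node .leaf (33723, 0, 18, 104640) .leaf) (33724, 0, 12, 4512) .leaf)))))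

/-- part of the orbit tree -/
def itp1_11 : Tree := (.node itp1_7 (33344, 0, 7, 70026) itp1_8)

/-- part of the orbit tree -/
def itp1_12 : Tree := (.node itp1_9 (33602, 0, 16, 138779) itp1_10)

/-- part of the orbit tree -/
def itp1_13 : Tree := (.node itp1_5 (32960, 0, 16, 173263) itp1_6)

/-- part of the orbit tree -/
def itp1_14 : Tree := (.node itp1_11 (33474, 0, 17, 84369) itp1_12)

/-- part of the orbit tree -/
def itp1_15 : Tree := (.node (.node (.node (.node (.node (.node .leaf (33728, 0, 18, 5181) .leaf) (33729, 0, 12, 62555) (.node .leaf (33734, 0, 15, 97595) .leaf)) (33735, 0, 14, 100417) (.node (.node .leaf (33738, 0, 15, 83182) .leaf) (33739, 0, 10, 204224) (.node .leaf (33740, 0, 15, 133254) .leaf))) (33741, 0, 16, 166575) (.node (.node (.node .leaf (33746, 0, 18, 212045) .leaf) (33747, 0, 15, 98730) (.node .leaf (33748, 0, 14, 151531) .leaf)) (33749, 0, 11, 5829) (.node (.node .leaf (33752, 0, 16, 55914) .leaf) (33753, 0, 15, 43414) (.node .leaf (33758, 0, 13, 73974) .leaf)))) (33759,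 0, 17, 114832) (.node (.node (.node (.node .leaf (33762, 0, 15, 151533) .leaf) (33763, 0, 16, 166486) (.node .leaf (33764, 0, 15, 82967) .leaf)) (33765, 0, 15, 247437) (.node (.node .leaf (33768, 0, 17, 80464) .leaf) (33769, 0, 13, 121398) (.node .leaf (33774, 0, 17, 21334) .leaf))) (33775, 0, 18, 8151) (.node (.node (.node .leaf (33776, 0, 16, 85500) .leaf) (33777, 0, 12, 201938) (.node .leaf (33782, 0, 14, 55955) .leaf)) (33783, 0, 16, 61181) (.node (.node .leaf (33786, 0, 18, 135712) .leaf) (33787, 0, 14, 193094) (.node .leaf (33788, 0, 13, 252029) .leaf))))) (33789, 0, 16, 236352) (.node (.node (.node (.node (.node .leaf (33792, 0, 15, 147928) .leaf) (33794, 0, 18, 108970) (.node .leaf (33797, 0, 16, 238680) .leaf)) (33799, 0, 14, 193661) (.node (.node .leaf (33801, 0, 14, 62058) .leaf) (33803, 0, 15, 203288) (.node .leaf (33804, 0, 16, 54361) .leaf))) (33806, 0, 16, 212011) (.node (.node (.node .leaf (33809, 0, 16, 124206) .leaf) (33811, 0, 16, 46347) (.node .leaf (33812, 0, 15, 81003) .leaf))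 (33814, 0, 16, 27726) (.node (.node .leaf (33816, 0, 14, 205008) .leaf) (33818, 0, 15, 159989) (.node .leaf (33821, 0, 15, 64385) .leaf)))) (33823, 0, 17, 201715) (.node (.node (.node (.node .leaf (33825, 0, 16, 91644) .leaf) (33827, 0, 18, 116395) (.node .leaf (33828, 0, 17, 82895) .leaf)) (33830, 0, 19, 73710) (.node (.node .leaf (33832, 0, 17, 152432) .leaf) (33834, 0, 18, 197461) (.node .leaf (33837, 0, 17, 166453) .leaf))) (33839, 0, 16, 6159) (.node (.node (.node .leaf (33840, 0, 16, 134845) .leaf) (33842, 0, 18, 172630) (.node .leaf (33845, 0, 17, 186360) .leaf)) (33847, 0, 17, 231389) (.node (.node .leaf (33849, 0, 18, 260502) .leaf) (33851, 0, 13, 105318) (.node .leaf (33852, 0, 15, 253861) .leaf))))))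

/-- part of the orbit tree -/
def itp1_16 : Tree := (.node (.node (.node (.node (.node (.node .leaf (33856, 0, 18, 137554) .leaf) (33858, 0, 16, 83902) (.node .leaf (33861, 0, 16, 147297) .leaf)) (33863, 0, 16, 120595) (.node (.node .leaf (33865, 0, 14, 184933) .leaf) (33867, 0, 17, 213650) (.node .leaf (33868, 0, 16, 133920) .leaf))) (33870, 0, 15, 219909) (.node (.node (.node .leaf (33873, 0, 16, 167848) .leaf) (33875, 0, 19, 122616) (.node .leaf (33876, 0, 16, 153325) .leaf)) (33878, 0, 18, 129227) (.node (.node .leaf (33880, 0, 17, 34104) .leaf) (33882, 0, 14, 224586) (.node .leaf (33885, 0, 17, 37651) .leaf)))) (33887, 0, 15, 115510) (.node (.node (.node (.node .leaf (33889, 0, 15, 261128) .leaf) (33891, 0, 16, 185604) (.node .leaf (33892, 0, 16, 206157) .leaf)) (33894, 0, 15, 193335) (.node (.node .leaf (33896, 0, 17, 233156) .leaf) (33898, 0, 18, 27091) (.node .leaf (33901, 0, 16, 123059) .leaf))) (33903, 0, 17, 16517) (.node (.node (.node .leaf (33904, 0, 17, 70318) .leaf) (33906, 0, 16,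 13342) (.node .leaf (33909, 0, 18, 79005) .leaf)) (33911, 0, 18, 60763) (.node (.node .leaf (33913, 0, 15, 237852) .leaf) (33915, 0, 17, 18798) (.node .leaf (33916, 0, 14, 231215) .leaf))))) (33918, 0, 12, 28509) (.node (.node (.node (.node (.node .leaf (33921, 0, 16, 239775) .leaf) (33923, 0, 17, 23124) (.node .leaf (33924, 0, 16, 233132) .leaf)) (33926, 0, 15, 26334) (.node (.node .leaf (33928, 0, 7, 249743) .leaf) (33930, 0, 15, 171946) (.node .leaf (33933, 0, 17, 202442) .leaf))) (33935, 0, 16, 149231) (.node (.node (.node .leaf (33936, 0, 18, 231239) .leaf) (33938, 0, 16, 180839) (.node .leaf (33941, 0, 17, 215815) .leaf)) (33943, 0, 15, 138018) (.node (.node .leaf (33945, 0, 10, 87996) .leaf) (33947, 0, 17, 187527) (.node .leaf (33948, 0, 17, 70342) .leaf)))) (33950, 0, 13, 57052) (.node (.node (.node (.node .leaf (33952, 0, 16, 188898) .leaf) (33954, 0, 13, 242119) (.node .leaf (33957, 0, 17, 145575) .leaf)) (33959, 0, 14, 213754) (.node (.node .leaf (33961, 0, 18, 9244) .leaf) (33963, 0, 17,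 95289) (.node .leaf (33964, 0, 16, 137530) .leaf))) (33966, 0, 15, 109948) (.node (.node (.node .leaf (33969, 0, 14, 31185) .leaf) (33971, 0, 16, 76276) (.node .leaf (33972, 0, 16, 34128) .leaf)) (33974, 0, 16, 224546) (.node (.node .leaf (33976, 0, 15, 135377) .leaf) (33978, 0, 16, 257034) (.node .leaf (33981, 0, 17, 157034) .leaf))))))

/-- part of the orbit tree -/
def itp1_17 : Tree := (.node (.node (.node (.node (.node (.node .leaf (33985, 0, 17, 258069) .leaf) (33987, 0, 17, 6247) (.node .leaf (33988, 0, 16, 178610) .leaf)) (33990, 0, 11, 15956) (.node (.node .leaf (33992, 0, 11, 82855) .leaf) (33994, 0, 17, 128300) (.node .leaf (33997, 0, 15, 91540) .leaf))) (33999, 0, 11, 76905) (.node (.node (.node .leaf (34000, 0, 13, 63684) .leaf) (34002, 0, 12, 14271) (.node .leaf (34005, 0, 15, 8577) .leaf)) (34007, 0, 16, 94628) (.node (.node .leaf (34009, 0, 12, 146746) .leaf) (34011, 0, 15, 164877) (.node .leaf (34012, 0, 16, 84556) .leaf)))) (34014, 0, 11, 172606) (.node (.node (.node (.node .leaf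 (34016, 0, 18, 54321) .leaf) (34018, 0, 17, 56129) (.node .leaf (34021, 0, 18, 86561) .leaf)) (34023, 0, 17, 203376) (.node (.node .leaf (34025, 0, 18, 216730) .leaf) (34027, 0, 18, 138943) (.node .leaf (34028, 0, 16, 235487) .leaf))) (34030, 0, 17, 182266) (.node (.node (.node .leaf (34033, 0, 17, 64489) .leaf) (34035, 0, 17, 148338) (.node .leaf (34036, 0, 14, 56794) .leaf)) (34038, 0, 15, 210344) (.node (.node .leaf (34040, 0, 16, 149595) .leaf) (34042, 0, 18, 106537) (.node .leaf (34045, 0, 15, 159336) .leaf))))) (34047, 0, 12, 24521) (.node (.node (.node (.node (.node .leaf (34049, 0, 14, 65301) .leaf) (34051, 0, 19, 202599) (.node .leaf (34052, 0, 13, 55590) .leaf)) (34054, 0, 18, 112239) (.node (.node .leaf (34056, 0, 15, 150695) .leaf) (34058, 0, 16, 240340) (.node .leaf (34061, 0, 19, 158356) .leaf))) (34063, 0, 15, 226193) (.node (.node (.node .leaf (34064, 0, 15, 173884) .leaf) (34066, 0, 16, 259865) (.node .leaf (34069, 0, 18, 63230) .leaf)) (34071, 0, 17, 204428) (.node (.node .leaf (34073,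 0, 18, 156543) .leaf) (34075, 0, 16, 78567) (.node .leaf (34076, 0, 15, 48007) .leaf)))) (34078, 0, 12, 109886) (.node (.node (.node (.node .leaf (34080, 0, 15, 252721) .leaf) (34082, 0, 13, 165049) (.node .leaf (34085, 0, 17, 200153) .leaf)) (34087, 0, 15, 155132) (.node (.node .leaf (34089, 0, 16, 92291) .leaf) (34091, 0, 14, 16711) (.node .leaf (34092, 0, 18, 116775) .leaf))) (34094, 0, 17, 38914) (.node (.node (.node .leaf (34097, 0, 18, 85167) .leaf) (34099, 0, 18, 7306) (.node .leaf (34100, 0, 15, 103914) .leaf)) (34102, 0, 16, 50639) (.node (.node .leaf (34104, 0, 16, 231761) .leaf) (34106, 0, 16, 175913) (.node .leaf (34109, 0, 15, 90472) .leaf))))))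

/-- part of the orbit tree -/
def itp1_18 : Tree := (.node (.node (.node (.node (.node (.node .leaf (34113, 0, 18, 218505) .leaf) (34115, 0, 16, 132524) (.node .leaf (34116, 0, 17, 33196) .leaf)) (34118, 0, 13, 187625) (.node (.node .leaf (34120, 0, 16, 136237) .leaf) (34122, 0, 17, 130143) (.node .leaf (34125, 0, 16, 143902) .leaf))) (34127, 0, 17, 121452) (.node (.node (.node .leaf (34128, 0, 15, 34887) .leaf) (34130, 0, 17, 221237) (.node .leaf (34133, 0, 14, 70911) .leaf)) (34135, 0, 16, 17626) (.node (.node .leaf (34137, 0, 15, 146421) .leaf) (34139, 0, 14, 153697) (.node .leaf (34140, 0, 14, 250113) .leaf)))) (34142, 0, 14, 128436) (.node (.node (.node (.node .leaf (34144, 0, 14, 48666) .leaf) (34146, 0, 15, 27593) (.node .leaf (34149, 0, 14, 238984) .leaf)) (34151, 0, 14, 19962) (.node (.node .leaf (34153, 0, 15, 77833) .leaf) (34155, 0, 17, 207809) (.node .leaf (34156, 0, 12, 172705) .leaf))) (34158, 0, 17, 196168) (.node (.node (.node .leaf (34161, 0, 9, 140841) .leaf) (34163, 0, 16, 226828)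 (.node .leaf (34164, 0, 17, 196460) .leaf)) (34166, 0, 15, 241481) (.node (.node .leaf (34168, 0, 15, 58327) .leaf) (34170, 0, 15, 194467) (.node .leaf (34173, 0, 12, 14994) .leaf))))) (34175, 0, 14, 184720) (.node (.node (.node (.node (.node .leaf (34176, 0, 17, 71250) .leaf) (34178, 0, 15, 202822) (.node .leaf (34181, 0, 18, 77921) .leaf)) (34183, 0, 14, 246019) (.node (.node .leaf (34185, 0, 18, 36253) .leaf) (34187, 0, 15, 122296) (.node .leaf (34188, 0, 17, 230355) .leaf))) (34190, 0, 17, 66813) (.node (.node (.node .leaf (34193, 0, 14, 80266) .leaf) (34195, 0, 17, 98421) (.node .leaf (34196, 0, 17, 2325) .leaf)) (34198, 0, 14, 88368) (.node (.node .leaf (34200, 0, 12, 231992) .leaf) (34202, 0, 16, 214411) (.node .leaf (34205, 0, 16, 240651) .leaf)))) (34207, 0, 15, 236750) (.node (.node (.node (.node .leaf (34209, 0, 13, 143990) .leaf) (34211, 0, 10, 62421) (.node .leaf (34212, 0, 15, 136261) .leaf)) (34214, 0, 16, 130103) (.node (.node .leaf (34216, 0, 16, 222734) .leaf) (34218, 0, 15, 144939)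 (.node .leaf (34221, 0, 13, 245579) .leaf))) (34223, 0, 13, 192366) (.node (.node (.node .leaf (34224, 0, 15, 211907) .leaf) (34226, 0, 15, 128476) (.node .leaf (34229, 0, 13, 146333) .leaf)) (34231, 0, 15, 176803) (.node (.node .leaf (34233, 0, 16, 44572) .leaf) (34235, 0, 16, 214638) (.node .leaf (34236, 0, 17, 34863) .leaf))))))

/-- part of the orbit tree -/
def itp1_19 : Tree := (.node itp1_15 (33854, 0, 15, 14295) itp1_16)

/-- part of the orbit tree -/
def itp1_20 : Tree := (.node itp1_17 (34111, 0, 18, 131121) itp1_18)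

/-- part of the orbit tree -/
def itp1_21 : Tree := (.node (.node (.node (.node (.node (.node .leaf (34240, 0, 14, 85720) .leaf) (34242, 0, 13, 29376) (.node .leaf (34245, 0, 16, 92395) .leaf)) (34247, 0, 13, 163993) (.node (.node .leaf (34249, 0, 14, 261482) .leaf) (34251, 0, 15, 177982) (.node .leaf (34252, 0, 16, 252761) .leaf))) (34254, 0, 15, 159355) (.node (.node (.node .leaf (34257, 0, 12, 244438) .leaf) (34259, 0, 16, 191219) (.node .leaf (34260, 0, 16, 222099) .leaf)) (34262, 0, 15, 144310) (.node (.node .leaf (34264, 0, 14, 98088) .leaf) (34266, 0, 12, 12045) (.node .leaf (34269, 0, 15, 108141) .leaf)))) (34271, 0, 17, 7411) (.node (.node (.node (.node .leaf (34273, 0, 16, 182646) .leaf) (34275, 0, 9, 235859) (.node .leaf (34276, 0, 17, 135219) .leaf)) (34278, 0, 14, 213014) (.node (.node .leaf (34280, 0, 16, 3208) .leaf) (34282, 0, 15, 89261) (.node .leaf (34285, 0, 17, 65405) .leaf))) (34287, 0, 17, 202511) (.node (.node (.node .leaf (34288, 0, 15, 148772) .leaf) (34290, 0, 16, 109910)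 (.node .leaf (34293, 0, 17, 156439) .leaf)) (34295, 0, 15, 120869) (.node (.node .leaf (34297, 0, 18, 169147) .leaf) (34299, 0, 16, 246942) (.node .leaf (34300, 0, 16, 151038) .leaf))))) (34302, 0, 14, 211159) (.node (.node (.node (.node (.node .leaf (34308, 0, 14, 223310) .leaf) (34309, 0, 18, 231464) (.node .leaf (34310, 0, 18, 145515) .leaf)) (34311, 0, 16, 186381) (.node (.node .leaf (34312, 0, 18, 95477) .leaf) (34313, 0, 15, 63302) (.node .leaf (34314, 0, 17, 9424) .leaf))) (34315, 0, 15, 50358) (.node (.node (.node .leaf (34320, 0, 17, 76088) .leaf) (34321, 0, 18, 117086) (.node .leaf (34322, 0, 15, 31005) .leaf)) (34323, 0, 14, 39291) (.node (.node .leaf (34332, 0, 17, 173955) .leaf) (34333, 0, 18, 65197) (.node .leaf (34334, 0, 17, 157094) .leaf)))) (34335, 0, 14, 202463) (.node (.node (.node (.node .leaf (34336, 0, 16, 211454) .leaf) (34337, 0, 16, 90320) (.node .leaf (34338, 0, 17, 53644) .leaf)) (34339, 0, 16, 166050) (.node (.node .leaf (34348, 0, 18, 149027) .leaf) (34349, 0, 15, 173637)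 (.node .leaf (34350, 0, 17, 202246) .leaf))) (34351, 0, 18, 7459) (.node (.node (.node .leaf (34356, 0, 16, 208917) .leaf) (34357, 0, 17, 195464) (.node .leaf (34358, 0, 15, 216011) .leaf)) (34359, 0, 15, 240557) (.node (.node .leaf (34360, 0, 18, 1877) .leaf) (34361, 0, 16, 59187) (.node .leaf (34362, 0, 17, 151014) .leaf))))))

/-- part of the orbit tree -/
def itp1_22 : Tree := (.node (.node (.node (.node (.node (.node .leaf (34372, 0, 16, 25443) .leaf) (34373, 0, 16, 145997) (.node .leaf (34374, 0, 15, 86765) .leaf)) (34375, 0, 15, 119359) (.node (.node .leaf (34376, 0, 15, 138867) .leaf) (34377, 0, 17, 45004) (.node .leaf (34378, 0, 9, 216662) .leaf))) (34379, 0, 17, 214974) (.node (.node (.node .leaf (34384, 0, 15, 148414) .leaf) (34385, 0, 17, 144294) (.node .leaf (34386, 0, 17, 201627) .leaf)) (34387, 0, 17, 121812) (.node (.node .leaf (34396, 0, 16, 196361) .leaf) (34397, 0, 16, 48995) (.node .leaf (34398, 0, 17, 71547) .leaf)))) (34399, 0, 17, 216661) (.node (.node (.node (.node .leaf (34400,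 0, 16, 208926) .leaf) (34401, 0, 15, 249976) (.node .leaf (34402, 0, 18, 35078) .leaf)) (34403, 0, 18, 184360) (.node (.node .leaf (34412, 0, 17, 128245) .leaf) (34413, 0, 14, 117955) (.node .leaf (34414, 0, 16, 31872) .leaf))) (34415, 0, 14, 40166) (.node (.node (.node .leaf (34420, 0, 16, 223391) .leaf) (34421, 0, 17, 102670) (.node .leaf (34422, 0, 17, 33005) .leaf)) (34423, 0, 17, 49451) (.node (.node .leaf (34424, 0, 17, 130334) .leaf) (34425, 0, 16, 238640) (.node .leaf (34426, 0, 16, 136556) .leaf))))) (34427, 0, 16, 19522) (.node (.node (.node (.node (.node .leaf (34432, 0, 14, 116327) .leaf) (34433, 0, 15, 241075) (.node .leaf (34434, 0, 16, 38466) .leaf)) (34435, 0, 10, 17857) (.node (.node .leaf (34444, 0, 17, 252636) .leaf) (34445, 0, 16, 79922) (.node .leaf (34446, 0, 19, 35182) .leaf))) (34447, 0, 16, 184384) (.node (.node (.node .leaf (34452, 0, 18, 231185) .leaf) (34453, 0, 16, 238680) (.node .leaf (34454, 0, 18, 186164) .leaf)) (34455, 0, 16, 145234) (.node (.node .leaf (34456, 0,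 11, 223479) .leaf) (34457, 0, 17, 97228) (.node .leaf (34458, 0, 15, 52111) .leaf)))) (34459, 0, 15, 186795) (.node (.node (.node (.node .leaf (34468, 0, 16, 194186) .leaf) (34469, 0, 13, 136407) (.node .leaf (34470, 0, 18, 238740) .leaf)) (34471, 0, 16, 214998) (.node (.node .leaf (34472, 0, 13, 25355) .leaf) (34473, 0, 15, 145957) (.node .leaf (34474, 0, 12, 112687) .leaf))) (34475, 0, 15, 88137) (.node (.node (.node .leaf (34480, 0, 15, 196449) .leaf) (34481, 0, 14, 21921) (.node .leaf (34482, 0, 17, 71443) .leaf)) (34483, 0, 14, 216637) (.node (.node .leaf (34492, 0, 16, 174460) .leaf) (34493, 0, 15, 144334) (.node .leaf (34494, 0, 14, 260441) .leaf))))))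

/-- part of the orbit tree -/
def itp1_23 : Tree := (.node (.node (.node (.node (.node (.node .leaf (34496, 0, 18, 175329) .leaf) (34497, 0, 16, 150663) (.node .leaf (34498, 0, 17, 148581) .leaf)) (34499, 0, 18, 7499) (.node (.node .leaf (34508, 0, 18, 211350) .leaf) (34509, 0, 13, 90296) (.node .leaf (34510, 0, 17, 53732) .leaf))) (34511, 0, 16, 166090) (.node (.node (.node .leaf (34516, 0, 17, 60823) .leaf) (34517, 0, 14, 3569) (.node .leaf (34518, 0, 13, 150926) .leaf)) (34519, 0, 18, 5280) (.node (.node .leaf (34520, 0, 17, 192812) .leaf) (34521, 0, 16, 92499) (.node .leaf (34522, 0, 16, 237833) .leaf)))) (34523, 0, 12, 164129) (.node (.node (.node (.node .leaf (34532, 0, 17, 106039) .leaf) (34533, 0, 17, 63278) (.node .leaf (34534, 0, 15, 83570) .leaf)) (34535, 0, 11, 11892) (.node (.node .leaf (34536, 0, 16, 230028) .leaf) (34537, 0, 13, 221930) (.node .leaf (34538, 0, 16, 250867) .leaf))) (34539, 0, 17, 144079) (.node (.node (.node .leaf (34544, 0, 13, 253761) .leaf) (34545, 0, 15, 212775)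 (.node .leaf (34546, 0, 15, 85913) .leaf)) (34547, 0, 16, 159490) (.node (.node .leaf (34556, 0, 15, 115706) .leaf) (34557, 0, 13, 74652) (.node .leaf (34558, 0, 16, 252440) .leaf))))) (34559, 0, 18, 29625) (.node (.node (.node (.node (.node .leaf (34560, 0, 10, 62233) .leaf) (34561, 0, 18, 64057) (.node .leaf (34562, 0, 16, 107324) .leaf)) (34563, 0, 16, 82778) (.node (.node .leaf (34572, 0, 16, 192418) .leaf) (34573, 0, 18, 159672) (.node .leaf (34574, 0, 15, 253668) .leaf))) (34575, 0, 13, 221153) (.node (.node (.node .leaf (34580, 0, 17, 174844) .leaf) (34581, 0, 13, 62418) (.node .leaf (34582, 0, 16, 82574) .leaf)) (34583, 0, 17, 203680) (.node (.node .leaf (34584, 0, 15, 16253) .leaf) (34585, 0, 13, 20146) (.node .leaf (34586, 0, 14, 130801) .leaf)))) (34587, 0, 15, 101921) (.node (.node (.node (.node .leaf (34596, 0, 17, 246223) .leaf) (34597, 0, 15, 205225) (.node .leaf (34598, 0, 14, 168426) .leaf)) (34599, 0, 17, 160140) (.node (.node .leaf (34600, 0, 12, 210049) .leaf) (34601, 0, 16, 93615)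 (.node .leaf (34602, 0, 19, 56563) .leaf))) (34603, 0, 17, 165341) (.node (.node (.node .leaf (34608, 0, 16, 108779) .leaf) (34609, 0, 16, 258501) (.node .leaf (34610, 0, 15, 53404) .leaf)) (34611, 0, 17, 12538) (.node (.node .leaf (34620, 0, 17, 236546) .leaf) (34621, 0, 15, 91204) (.node .leaf (34622, 0, 16, 54552) .leaf))))))

/-- part of the orbit tree -/
def itp1_24 : Tree := (.node (.node (.node (.node (.node (.node .leaf (34624, 0, 19, 195485) .leaf) (34625, 0, 18, 227833) (.node .leaf (34626, 0, 17, 70639) .leaf)) (34627, 0, 14, 215745) (.node (.node .leaf (34636, 0, 14, 99620) .leaf) (34637, 0, 18, 145202) (.node .leaf (34638, 0, 16, 54529) .leaf))) (34639, 0, 17, 122688) (.node (.node (.node .leaf (34644, 0, 17, 193142) .leaf) (34645, 0, 15, 80015) (.node .leaf (34646, 0, 18, 72196) .leaf)) (34647, 0, 18, 213802) (.node (.node .leaf (34648, 0, 17, 26615) .leaf) (34649, 0, 16, 205876) (.node .leaf (34650, 0, 19, 169079) .leaf)))) (34651, 0, 13, 160785) (.node (.node (.node (.node .leaf (34660,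 0, 17, 43849) .leaf) (34661, 0, 17, 237732) (.node .leaf (34662, 0, 17, 129900) .leaf)) (34663, 0, 13, 18646) (.node (.node .leaf (34664, 0, 17, 224267) .leaf) (34665, 0, 18, 79141) (.node .leaf (34666, 0, 16, 33913) .leaf))) (34667, 0, 15, 187735) (.node (.node (.node .leaf (34672, 0, 15, 191039) .leaf) (34673, 0, 16, 239951) (.node .leaf (34674, 0, 15, 137235) .leaf)) (34675, 0, 15, 219772) (.node (.node .leaf (34684, 0, 14, 63108) .leaf) (34685, 0, 17, 81102) (.node .leaf (34686, 0, 9, 108193) .leaf))))) (34687, 0, 15, 83655) (.node (.node (.node (.node (.node .leaf (34692, 0, 17, 224355) .leaf) (34693, 0, 16, 79181) (.node .leaf (34694, 0, 17, 33809) .leaf)) (34695, 0, 13, 257395) (.node (.node .leaf (34696, 0, 16, 129506) .leaf) (34697, 0, 16, 41453) (.node .leaf (34698, 0, 16, 70062) .leaf))) (34699, 0, 15, 127432) (.node (.node (.node .leaf (34704, 0, 16, 222600) .leaf) (34705, 0, 17, 81062) (.node .leaf (34706, 0, 14, 85091) .leaf)) (34707, 0, 14, 109573) (.node (.node .leaf (34716, 0, 14,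 131325) .leaf) (34717, 0, 15, 188571) (.node .leaf (34718, 0, 16, 217304) .leaf)))) (34719, 0, 15, 241854) (.node (.node (.node (.node .leaf (34720, 0, 17, 94182) .leaf) (34721, 0, 16, 145242) (.node .leaf (34722, 0, 14, 16323) .leaf)) (34723, 0, 16, 122664) (.node (.node .leaf (34732, 0, 16, 226141) .leaf) (34733, 0, 16, 234299) (.node .leaf (34734, 0, 18, 70535) .leaf))) (34735, 0, 16, 215721) (.node (.node (.node .leaf (34740, 0, 15, 26527) .leaf) (34741, 0, 14, 249590) (.node .leaf (34742, 0, 15, 163509) .leaf)) (34743, 0, 16, 171731) (.node (.node .leaf (34744, 0, 17, 78379) .leaf) (34745, 0, 13, 43824) .leaf)))))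

/-- part of the orbit tree -/
def itp1_25 : Tree := (.node itp1_21 (34363, 0, 17, 112406) itp1_22)

/-- part of the orbit tree -/
def itp1_26 : Tree := (.node itp1_23 (34623, 0, 15, 142401) itp1_24)

/-- part of the orbit tree -/
def itp1_27 : Tree := (.node itp1_19 (33983, 0, 15, 210255) itp1_20)

/-- part of the orbit tree -/
def itp1_28 : Tree := (.node itp1_25 (34495, 0, 18, 203071) itp1_26)

/-- part of the orbit tree -/
def itp1_29 : Tree := (.node itp1_13 (33217, 0, 18, 6658) itp1_14)

/-- part of the orbit tree -/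
def itp1_30 : Tree := (.node itp1_27 (34238, 0, 17, 221277) itp1_28)

/-- part of the orbit tree -/
def itp1_31 : Tree := (.node (.node (.node (.node (.node (.node .leaf (34747, 0, 19, 213826) .leaf) (34756, 0, 14, 79798) (.node .leaf (34757, 0, 16, 93639) .leaf)) (34758, 0, 14, 56475) (.node (.node .leaf (34759, 0, 14, 34805) .leaf) (34760, 0, 17, 207629) (.node .leaf (34761, 0, 16, 248683) .leaf))) (34762, 0, 16, 162600) (.node (.node (.node .leaf (34763, 0, 17, 4148) .leaf) (34768, 0, 11, 212226) (.node .leaf (34769, 0, 17, 235174) .leaf)) (34770, 0, 17, 141029) (.node (.node .leaf (34771, 0, 17, 167006) .leaf) (34780, 0, 13, 108675) (.node .leaf (34781, 0, 14, 258477) .leaf)))) (34782, 0, 17, 147697) (.node (.node (.node (.node .leaf (34783, 0, 17, 6623) .leaf) (34784, 0, 12, 132448) (.node .leaf (34785, 0, 17, 159696) .leaf)) (34786, 0, 11, 218437) (.node (.node .leaf (34787, 0, 15, 242979) .leaf) (34796, 0, 13, 6619) (.node .leaf (34797, 0, 17, 63933) .leaf))) (34798, 0, 17, 84749) (.node (.node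 (.node .leaf (34799, 0, 17, 201251) .leaf) (34804, 0, 18, 16149) (.node .leaf (34805, 0, 13, 42096) .leaf)) (34806, 0, 14, 70707) (.node (.node .leaf (34807, 0, 17, 101961) .leaf) (34808, 0, 18, 174740) (.node .leaf (34809, 0, 18, 62394) .leaf))))) (34810, 0, 15, 82662) (.node (.node (.node (.node (.node .leaf (34811, 0, 14, 256238) .leaf) (34816, 0, 17, 6569) (.node .leaf (34819, 0, 14, 109034) .leaf)) (34820, 0, 15, 226830) (.node (.node .leaf (34823, 0, 16, 182098) .leaf) (34825, 0, 18, 187479) (.node .leaf (34826, 0, 14, 134141) .leaf))) (34829, 0, 18, 189812) (.node (.node (.node .leaf (34830, 0, 15, 218423) .leaf) (34833, 0, 16, 75467) (.node .leaf (34834, 0, 14, 38807) .leaf)) (34837, 0, 15, 178361) (.node (.node .leaf (34838, 0, 15, 190602) .leaf) (34840, 0, 18, 17508) (.node .leaf (34843, 0, 16, 140325) .leaf)))) (34844, 0, 16, 125540) (.node (.node (.node (.node .leaf (34847, 0, 18, 23352) .leaf) (34849, 0, 11, 142647) (.node .leaf (34850, 0, 15, 236651) .leaf)) (34853, 0, 16, 21034) (.node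 (.node .leaf (34854, 0, 16, 123766) .leaf) (34856, 0, 17, 40581) (.node .leaf (34859, 0, 14, 34695) .leaf))) (34860, 0, 15, 188824) (.node (.node (.node .leaf (34863, 0, 16, 48804) .leaf) (34864, 0, 14, 131823) (.node .leaf (34867, 0, 15, 55882) .leaf)) (34868, 0, 16, 86826) (.node (.node .leaf (34871, 0, 18, 117934) .leaf) (34873, 0, 13, 45405) (.node .leaf (34874, 0, 16, 139188) .leaf))))))

/-- part of the orbit tree -/
def itp1_32 : Tree := (.node (.node (.node (.node (.node (.node .leaf (34878, 0, 14, 140951) .leaf) (34880, 0, 14, 86425) (.node .leaf (34883, 0, 18, 57541) .leaf)) (34884, 0, 14, 215564) (.node (.node .leaf (34887, 0, 14, 195151) .leaf) (34889, 0, 15, 112337) (.node .leaf (34890, 0, 16, 152439) .leaf))) (34893, 0, 16, 102386) (.node (.node (.node .leaf (34894, 0, 18, 16305) .leaf) (34897, 0, 16, 125724) (.node .leaf (34898, 0, 19, 53021) .leaf)) (34901, 0, 15, 119359) (.node (.node .leaf (34902, 0, 15, 25212) .leaf) (34904, 0, 15, 249331) (.node .leaf (34907, 0, 14, 162991) .leaf))))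 (34908, 0, 16, 111342) (.node (.node (.node (.node .leaf (34911, 0, 18, 946) .leaf) (34913, 0, 15, 39100) (.node .leaf (34914, 0, 18, 76031) .leaf)) (34917, 0, 16, 41375) (.node (.node .leaf (34918, 0, 17, 70108) .leaf) (34920, 0, 15, 154946) (.node .leaf (34923, 0, 17, 257281) .leaf))) (34924, 0, 15, 178450) (.node (.node (.node .leaf (34927, 0, 17, 250914) .leaf) (34928, 0, 17, 154213) (.node .leaf (34931, 0, 13, 241868) .leaf)) (34932, 0, 16, 9592) (.node (.node .leaf (34935, 0, 15, 231919) .leaf) (34937, 0, 16, 50545) (.node .leaf (34938, 0, 18, 88203) .leaf))))) (34941, 0, 16, 169674) (.node (.node (.node (.node (.node .leaf (34942, 0, 14, 85009) .leaf) (34945, 0, 19, 57428) (.node .leaf (34946, 0, 17, 86280) .leaf)) (34949, 0, 16, 153574) (.node (.node .leaf (34950, 0, 16, 208405) .leaf) (34952, 0, 15, 43835) (.node .leaf (34955, 0, 12, 254650) .leaf))) (34956, 0, 17, 11515) (.node (.node (.node .leaf (34959, 0, 13, 74331) .leaf) (34960, 0, 17, 53132) (.node .leaf (34963, 0, 14, 98000) .leaf))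 (34964, 0, 15, 176273) (.node (.node .leaf (34967, 0, 17, 197069) .leaf) (34969, 0, 12, 144136) (.node .leaf (34970, 0, 16, 230219) .leaf)))) (34973, 0, 15, 803) (.node (.node (.node (.node .leaf (34974, 0, 18, 111231) .leaf) (34976, 0, 17, 246896) (.node .leaf (34979, 0, 18, 161068) .leaf)) (34980, 0, 18, 113781) (.node (.node .leaf (34983, 0, 16, 2609) .leaf) (34985, 0, 15, 96194) (.node .leaf (34986, 0, 17, 192747) .leaf))) (34989, 0, 17, 198879) (.node (.node (.node .leaf (34990, 0, 17, 182728) .leaf) (34993, 0, 15, 256936) (.node .leaf (34994, 0, 16, 154356) .leaf)) (34997, 0, 16, 103605) (.node (.node .leaf (34998, 0, 17, 9705) .leaf) (35000, 0, 16, 88090) (.node .leaf (35003, 0, 15, 59718) .leaf))))))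

/-- part of the orbit tree -/
def itp1_33 : Tree := (.node (.node (.node (.node (.node (.node .leaf (35007, 0, 13, 169563) .leaf) (35009, 0, 12, 47326) (.node .leaf (35010, 0, 17, 67970) .leaf)) (35013, 0, 16, 81248) (.node (.node .leaf (35014, 0, 14, 226975) .leaf) (35016, 0, 16, 133996) (.node .leaf (35019, 0, 16, 160254) .leaf))) (35020, 0, 17, 29809) (.node (.node (.node .leaf (35023, 0, 12, 149725) .leaf) (35024, 0, 15, 236656) (.node .leaf (35027, 0, 16, 75354) .leaf)) (35028, 0, 17, 190491) (.node (.node .leaf (35031, 0, 16, 219463) .leaf) (35033, 0, 18, 140468) (.node .leaf (35034, 0, 17, 59853) .leaf)))) (35037, 0, 17, 90285) (.node (.node (.node (.node .leaf (35038, 0, 17, 125685) .leaf) (35040, 0, 15, 236794) (.node .leaf (35043, 0, 17, 142758) .leaf)) (35044, 0, 16, 186099) (.node (.node .leaf (35047, 0, 16, 21179) .leaf) (35049, 0, 15, 10798) (.node .leaf (35050, 0, 16, 40468) .leaf))) (35053, 0, 17, 4877) (.node (.node (.node .leaf (35054, 0, 18, 188681) .leaf) (35057, 0, 17, 30691)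 (.node .leaf (35058, 0, 16, 116640) .leaf)) (35061, 0, 16, 117823) (.node (.node .leaf (35062, 0, 15, 130691) .leaf) (35064, 0, 15, 176669) (.node .leaf (35067, 0, 17, 197214) .leaf))))) (35068, 0, 17, 229261) (.node (.node (.node (.node (.node .leaf (35071, 0, 14, 184017) .leaf) (35073, 0, 14, 243678) (.node .leaf (35074, 0, 17, 132738) .leaf)) (35077, 0, 16, 116931) (.node (.node .leaf (35078, 0, 17, 31135) .leaf) (35080, 0, 16, 66668) (.node .leaf (35083, 0, 15, 46384) .leaf))) (35084, 0, 18, 108390) (.node (.node (.node .leaf (35087, 0, 13, 182829) .leaf) (35088, 0, 12, 115592) (.node .leaf (35091, 0, 13, 29643) .leaf)) (35092, 0, 18, 129707) (.node (.node .leaf (35095, 0, 10, 22087) .leaf) (35097, 0, 15, 198262) (.node .leaf (35098, 0, 14, 39656) .leaf)))) (35101, 0, 15, 218281) (.node (.node (.node (.node .leaf (35102, 0, 17, 167702) .leaf) (35104, 0, 14, 37882) (.node .leaf (35107, 0, 15, 65643) .leaf)) (35108, 0, 16, 191719) (.node (.node .leaf (35111, 0, 12, 80200) .leaf) (35113, 0, 13, 139336)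 (.node .leaf (35114, 0, 17, 233748) .leaf))) (35117, 0, 16, 24405) (.node (.node (.node .leaf (35118, 0, 16, 261302) .leaf) (35121, 0, 17, 48162) (.node .leaf (35122, 0, 17, 235608) .leaf)) (35125, 0, 16, 181055) (.node (.node .leaf (35126, 0, 14, 237947) .leaf) (35128, 0, 12, 135056) (.node .leaf (35131, 0, 15, 89510) .leaf))))))

/-- part of the orbit tree -/
def itp1_34 : Tree := (.node (.node (.node (.node (.node (.node .leaf (35135, 0, 17, 115153) .leaf) (35137, 0, 16, 257876) (.node .leaf (35138, 0, 16, 155144) .leaf)) (35141, 0, 17, 102473) (.node (.node .leaf (35142, 0, 17, 8469) .leaf) (35144, 0, 16, 89318) (.node .leaf (35147, 0, 16, 60858) .leaf))) (35148, 0, 16, 183776) (.node (.node (.node .leaf (35151, 0, 16, 168615) .leaf) (35152, 0, 18, 174350) (.node .leaf (35155, 0, 12, 203085) .leaf)) (35156, 0, 10, 167981) (.node (.node .leaf (35159, 0, 16, 3789) .leaf) (35161, 0, 8, 95038) (.node .leaf (35162, 0, 18, 122035) .leaf)))) (35165, 0, 13, 199715) (.node (.node (.node (.node .leaf (35166,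 0, 14, 124304) .leaf) (35168, 0, 14, 52080) (.node .leaf (35171, 0, 18, 96812) .leaf)) (35172, 0, 18, 254861) (.node (.node .leaf (35175, 0, 12, 152526) .leaf) (35177, 0, 14, 161986) (.node .leaf (35178, 0, 16, 44819) .leaf))) (35181, 0, 11, 2015) (.node (.node (.node .leaf (35182, 0, 18, 38448) .leaf) (35185, 0, 17, 58536) (.node .leaf (35186, 0, 18, 87540) .leaf)) (35189, 0, 15, 97214) (.node (.node .leaf (35190, 0, 16, 52221) .leaf) (35192, 0, 19, 231267) (.node .leaf (35195, 0, 17, 255558) .leaf))))) (35196, 0, 17, 10247) (.node (.node (.node (.node (.node .leaf (35199, 0, 16, 104795) .leaf) (35200, 0, 15, 77015) (.node .leaf (35203, 0, 16, 257989) .leaf)) (35204, 0, 12, 8580) (.node (.node .leaf (35207, 0, 17, 102616) .leaf) (35209, 0, 17, 60715) (.node .leaf (35210, 0, 19, 89207) .leaf))) (35213, 0, 17, 249866) (.node (.node (.node .leaf (35214, 0, 18, 205674) .leaf) (35217, 0, 14, 160065) (.node .leaf (35218, 0, 15, 245789) .leaf)) (35221, 0, 15, 3676) (.node (.node .leaf (35222, 0, 16, 114432)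 .leaf) (35224, 0, 15, 49907) (.node .leaf (35227, 0, 14, 49497) .leaf)))) (35228, 0, 14, 179694) (.node (.node (.node (.node .leaf (35231, 0, 17, 199858) .leaf) (35233, 0, 16, 182084) (.node .leaf (35234, 0, 16, 227079) .leaf)) (35237, 0, 16, 196199) (.node (.node .leaf (35238, 0, 16, 216612) .leaf) (35240, 0, 17, 698) (.node .leaf (35243, 0, 17, 111353) .leaf))) (35244, 0, 14, 15257) (.node (.node (.node .leaf (35247, 0, 14, 101338) .leaf) (35248, 0, 14, 24439) (.node .leaf (35251, 0, 18, 58425) .leaf)) (35252, 0, 16, 26196) (.node (.node .leaf (35255, 0, 17, 170788) .leaf) (35257, 0, 16, 255703) (.node .leaf (35258, 0, 13, 153483) .leaf))))))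

/-- part of the orbit tree -/
def itp1_35 : Tree := (.node itp1_31 (34877, 0, 14, 183872) itp1_32)

/-- part of the orbit tree -/
def itp1_36 : Tree := (.node itp1_33 (35132, 0, 16, 28813) itp1_34)

/-- part of the orbit tree -/
def itp1_37 : Tree := (.node (.node (.node (.node (.node (.node .leaf (35262, 0, 11, 10390) .leaf) (35264, 0, 15, 149073) (.node .leaf (35267, 0, 17, 259602) .leaf)) (35268, 0, 15, 30990) (.node (.node .leaf (35271, 0, 17, 249649) .leaf) (35273, 0, 18, 46497) (.node .leaf (35274, 0, 17, 78828) .leaf))) (35277, 0, 15, 182972) (.node (.node (.node .leaf (35278, 0, 17, 68303) .leaf) (35281, 0, 16, 141771) (.node .leaf (35282, 0, 15, 93729) .leaf)) (35285, 0, 14, 22230) (.node (.node .leaf (35286, 0, 14, 124810) .leaf) (35288, 0, 13, 39545) (.node .leaf (35291, 0, 14, 240607) .leaf)))) (35292, 0, 14, 139967) (.node (.node (.node (.node .leaf (35295, 0, 18, 234236) .leaf) (35297, 0, 17, 74295) (.node .leaf (35298, 0, 16, 7553) .leaf)) (35301, 0, 16, 103649) (.node (.node .leaf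 (35302, 0, 18, 9378) .leaf) (35304, 0, 16, 233861) (.node .leaf (35307, 0, 18, 139481) .leaf))) (35308, 0, 14, 126616) (.node (.node (.node .leaf (35311, 0, 18, 24516) .leaf) (35312, 0, 17, 69103) (.node .leaf (35315, 0, 14, 165298) .leaf)) (35316, 0, 11, 226034) (.node (.node .leaf (35319, 0, 16, 179345) .leaf) (35321, 0, 18, 126991) (.node .leaf (35322, 0, 18, 134913) .leaf))))) (35325, 0, 18, 117036) (.node (.node (.node (.node (.node .leaf (35326, 0, 17, 31087) .leaf) (35330, 0, 13, 189517) (.node .leaf (35331, 0, 17, 48483) .leaf)) (35334, 0, 15, 39760) (.node (.node .leaf (35335, 0, 16, 113849) .leaf) (35336, 0, 13, 135233) (.node .leaf (35337, 0, 18, 245645) .leaf))) (35340, 0, 16, 235966) (.node (.node (.node .leaf (35341, 0, 17, 114832) .leaf) (35344, 0, 18, 228041) (.node .leaf (35345, 0, 17, 175594) .leaf)) (35348, 0, 15, 160943) (.node (.node .leaf (35349, 0, 17, 169161) .leaf) (35354, 0, 18, 30759) (.node .leaf (35355, 0, 17, 139529) .leaf)))) (35358, 0, 14, 65810) (.node (.node (.node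 (.node .leaf (35359, 0, 16, 123252) .leaf) (35360, 0, 15, 212524) (.node .leaf (35361, 0, 17, 253514) .leaf)) (35364, 0, 14, 198415) (.node (.node .leaf (35365, 0, 14, 22278) .leaf) (35370, 0, 15, 19345) (.node .leaf (35371, 0, 16, 44023) .leaf))) (35374, 0, 15, 29362) (.node (.node (.node .leaf (35375, 0, 17, 218600) .leaf) (35378, 0, 16, 5724) (.node .leaf (35379, 0, 16, 63034) .leaf)) (35382, 0, 17, 12159) (.node (.node .leaf (35383, 0, 16, 117122) .leaf) (35384, 0, 19, 191839) (.node .leaf (35385, 0, 18, 46193) .leaf))))))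

/-- part of the orbit tree -/
def itp1_38 : Tree := (.node (.node (.node (.node (.node (.node .leaf (35389, 0, 13, 183148) .leaf) (35394, 0, 16, 179399) (.node .leaf (35395, 0, 17, 58857) .leaf)) (35398, 0, 15, 50138) (.node (.node .leaf (35399, 0, 14, 170740) .leaf) (35400, 0, 15, 96967) (.node .leaf (35401, 0, 15, 105121) .leaf))) (35404, 0, 15, 82916) (.node (.node (.node .leaf (35405, 0, 18, 107394) .leaf) (35408, 0, 16, 205379) (.node .leaf (35409, 0, 17, 116588) .leaf)) (35412, 0, 16, 73257) (.node (.node .leaf (35413, 0, 18, 130639) .leaf) (35418, 0, 17, 8365) (.node .leaf (35419, 0, 15, 162179) .leaf)))) (35422, 0, 16, 155568) (.node (.node (.node (.node .leaf (35423, 0, 16, 166898) .leaf) (35424, 0, 15, 21674) (.node .leaf (35425, 0, 17, 46284) .leaf)) (35428, 0, 16, 28041) (.node (.node .leaf (35429, 0, 16, 3980) .leaf) (35434, 0, 18, 205079) (.node .leaf (35435, 0, 17, 246129) .leaf))) (35438, 0, 17, 87116) (.node (.node (.node .leaf (35439, 0, 17, 260178) .leaf) (35442, 0, 15, 112443)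 (.node .leaf (35443, 0, 15, 236732) .leaf)) (35446, 0, 15, 247846) (.node (.node .leaf (35447, 0, 19, 239007) .leaf) (35448, 0, 16, 2407) (.node .leaf (35449, 0, 17, 60667) .leaf))))) (35452, 0, 18, 12356) (.node (.node (.node (.node (.node .leaf (35453, 0, 14, 53282) .leaf) (35456, 0, 16, 172755) (.node .leaf (35457, 0, 17, 148149) .leaf)) (35460, 0, 15, 170992) (.node (.node .leaf (35461, 0, 15, 162710) .leaf) (35466, 0, 18, 120686) (.node .leaf (35467, 0, 16, 255894) .leaf))) (35470, 0, 18, 126541) (.node (.node (.node .leaf (35471, 0, 10, 104587) .leaf) (35474, 0, 17, 101027) (.node .leaf (35475, 0, 17, 97276) .leaf)) (35478, 0, 17, 111488) (.node (.node .leaf (35479, 0, 18, 197857) .leaf) (35480, 0, 15, 8252) (.node .leaf (35481, 0, 15, 139128) .leaf)))) (35484, 0, 15, 181821) (.node (.node (.node (.node .leaf (35485, 0, 16, 1551) .leaf) (35490, 0, 14, 10542) (.node .leaf (35491, 0, 18, 6501) .leaf)) (35494, 0, 16, 153139) (.node (.node .leaf (35495, 0, 18, 8262) .leaf) (35496, 0, 17, 232638)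 (.node .leaf (35497, 0, 11, 94958) .leaf))) (35500, 0, 16, 243101) (.node (.node (.node .leaf (35501, 0, 17, 200179) .leaf) (35504, 0, 17, 112554) (.node .leaf (35505, 0, 17, 257668) .leaf)) (35508, 0, 15, 247991) (.node (.node .leaf (35509, 0, 16, 102809) .leaf) (35514, 0, 14, 42190) (.node .leaf (35515, 0, 16, 60522) .leaf))))))

/-- part of the orbit tree -/
def itp1_39 : Tree := (.node (.node (.node (.node (.node (.node .leaf (35519, 0, 16, 32139) .leaf) (35520, 0, 17, 116821) (.node .leaf (35521, 0, 17, 75827) .leaf)) (35524, 0, 16, 39873) (.node (.node .leaf (35525, 0, 16, 180975) .leaf) (35530, 0, 14, 179688) (.node .leaf (35531, 0, 17, 245532) .leaf))) (35534, 0, 16, 235823) (.node (.node (.node .leaf (35535, 0, 17, 156845) .leaf) (35538, 0, 16, 227928) (.node .leaf (35539, 0, 14, 74614) .leaf)) (35542, 0, 17, 186630) (.node (.node .leaf (35543, 0, 16, 145760) .leaf) (35544, 0, 15, 30902) (.node .leaf (35545, 0, 16, 95742) .leaf)))) (35548, 0, 17, 133035) (.node (.node (.node (.node .leaf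 (35549, 0, 15, 85213) .leaf) (35554, 0, 18, 29092) (.node .leaf (35555, 0, 15, 226275) .leaf)) (35558, 0, 14, 240294) (.node (.node .leaf (35559, 0, 16, 22423) .leaf) (35560, 0, 14, 226122) (.node .leaf (35561, 0, 12, 1630) .leaf))) (35564, 0, 18, 57115) (.node (.node (.node .leaf (35565, 0, 15, 16253) .leaf) (35568, 0, 18, 48117) (.node .leaf (35569, 0, 16, 243214) .leaf)) (35572, 0, 16, 233533) (.node (.node .leaf (35573, 0, 13, 25264) .leaf) (35578, 0, 17, 249416) (.node .leaf (35579, 0, 16, 208430) .leaf))))) (35582, 0, 18, 37587) (.node (.node (.node (.node (.node .leaf (35583, 0, 17, 202509) .leaf) (35584, 0, 16, 125916) (.node .leaf (35585, 0, 14, 227275) .leaf)) (35588, 0, 17, 234689) (.node (.node .leaf (35589, 0, 15, 216808) .leaf) (35594, 0, 18, 57872) (.node .leaf (35595, 0, 17, 45084) .leaf))) (35598, 0, 15, 38447) (.node (.node (.node .leaf (35599, 0, 17, 184065) .leaf) (35602, 0, 12, 30040) (.node .leaf (35603, 0, 17, 142454) .leaf)) (35606, 0, 16, 133701) (.node (.node .leaf (35607,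 0, 17, 21355) .leaf) (35608, 0, 9, 227254) (.node .leaf (35609, 0, 18, 77464) .leaf)))) (35612, 0, 18, 258883) (.node (.node (.node (.node .leaf (35613, 0, 14, 201509) .leaf) (35618, 0, 16, 229028) (.node .leaf (35619, 0, 16, 76827) .leaf)) (35622, 0, 16, 65977) (.node (.node .leaf (35623, 0, 18, 219287) .leaf) (35624, 0, 13, 178624) (.node .leaf (35625, 0, 16, 154022) .leaf))) (35628, 0, 14, 131927) (.node (.node (.node .leaf (35629, 0, 11, 23161) .leaf) (35632, 0, 13, 188448) (.node .leaf (35633, 0, 10, 132203) .leaf)) (35636, 0, 18, 40765) (.node (.node .leaf (35637, 0, 17, 181779) .leaf) (35642, 0, 17, 102832) (.node .leaf (35643, 0, 17, 244704) .leaf))))))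

/-- part of the orbit tree -/
def itp1_40 : Tree := (.node (.node (.node (.node (.node (.node .leaf (35647, 0, 14, 84213) .leaf) (35648, 0, 15, 111446) (.node .leaf (35649, 0, 17, 256632) .leaf)) (35652, 0, 16, 50184) (.node (.node .leaf (35653, 0, 16, 103781) .leaf) (35658, 0, 15, 231574) (.node .leaf (35659, 0, 14, 59542) .leaf))) (35662, 0, 12, 52901) (.node (.node (.node .leaf (35663, 0, 17, 217555) .leaf) (35666, 0, 13, 11730) (.node .leaf (35667, 0, 17, 161020) .leaf)) (35670, 0, 15, 257144) (.node (.node .leaf (35671, 0, 17, 199710) .leaf) (35672, 0, 16, 208700) (.node .leaf (35673, 0, 15, 95762) .leaf)))) (35676, 0, 13, 86049) (.node (.node (.node (.node .leaf (35677, 0, 14, 31139) .leaf) (35682, 0, 16, 206382) (.node .leaf (35683, 0, 15, 98048) .leaf)) (35686, 0, 16, 171992) (.node (.node .leaf (35687, 0, 14, 163774) .leaf) (35688, 0, 16, 9408) (.node .leaf (35689, 0, 18, 78624) .leaf))) (35692, 0, 18, 154589) (.node (.node (.node .leaf (35693, 0, 17, 755) .leaf) (35696, 0, 13, 102027) (.node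 .leaf (35697, 0, 12, 93933) .leaf)) (35700, 0, 17, 51127) (.node (.node .leaf (35701, 0, 12, 88014) .leaf) (35706, 0, 18, 113220) (.node .leaf (35707, 0, 15, 254826) .leaf))))) (35710, 0, 16, 180757) (.node (.node (.node (.node (.node .leaf (35711, 0, 17, 139891) .leaf) (35714, 0, 15, 20610) (.node .leaf (35715, 0, 11, 45284) .leaf)) (35718, 0, 16, 27041) (.node (.node .leaf (35719, 0, 18, 103924) .leaf) (35720, 0, 11, 206143) (.node .leaf (35721, 0, 16, 247129) .leaf))) (35724, 0, 15, 203804) (.node (.node (.node .leaf (35725, 0, 16, 169754) .leaf) (35728, 0, 17, 227570) (.node .leaf (35729, 0, 12, 160877) .leaf)) (35732, 0, 13, 152158) (.node (.node .leaf (35733, 0, 15, 238007) .leaf) (35738, 0, 16, 3407) (.node .leaf (35739, 0, 16, 60713) .leaf)))) (35742, 0, 16, 86192) (.node (.node (.node (.node .leaf (35743, 0, 16, 199070) .leaf) (35744, 0, 17, 133970) (.node .leaf (35745, 0, 13, 98193) .leaf)) (35748, 0, 13, 143985) (.node (.node .leaf (35749, 0, 15, 184855) .leaf) (35754, 0, 16, 98031) (.node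 .leaf (35755, 0, 15, 106121) .leaf))) (35758, 0, 15, 154444) (.node (.node (.node .leaf (35759, 0, 17, 610) .leaf) (35762, 0, 16, 74530) (.node .leaf (35763, 0, 12, 57621) .leaf)) (35766, 0, 14, 72193) (.node (.node .leaf (35767, 0, 15, 171528) .leaf) (35768, 0, 16, 153247) .leaf)))))

/-- part of the orbit tree -/
def itp1_41 : Tree := (.node itp1_37 (35388, 0, 8, 219842) itp1_38)

/-- part of the orbit tree -/
def itp1_42 : Tree := (.node itp1_39 (35646, 0, 16, 237011) itp1_40)

/-- part of the orbit tree -/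
def itp1_43 : Tree := (.node itp1_35 (35004, 0, 18, 123320) itp1_36)

/-- part of the orbit tree -/
def itp1_44 : Tree := (.node itp1_41 (35518, 0, 16, 40429) itp1_42)

/-- part of the orbit tree -/
def itp1_45 : Tree := (.node (.node (.node (.node (.node (.node .leaf (35772, 0, 16, 159676) .leaf) (35773, 0, 17, 167898) (.node .leaf (35778, 0, 15, 211460) .leaf)) (35779, 0, 14, 252514) (.node (.node .leaf (35782, 0, 17, 234576) .leaf) (35783, 0, 16, 118142) (.node .leaf (35784, 0, 14, 190883) .leaf))) (35785, 0, 16, 45023) (.node (.node (.node .leaf (35788, 0, 16, 30362) .leaf) (35789, 0, 15, 184208) (.node .leaf (35792, 0, 16, 4724) .leaf)) (35793, 0, 15, 61970) (.node (.node .leaf (35796, 0, 18, 11095) .leaf) (35797, 0, 17, 21498) (.node .leaf (35802, 0, 17, 227111) .leaf)))) (35803, 0, 17, 77321) (.node (.node (.node (.node .leaf (35806, 0, 17, 220906) .leaf) (35807, 0, 10, 217364) (.node .leaf (35808, 0, 17, 90580) .leaf)) (35809, 0, 17, 75547) (.node (.node .leaf (35812, 0, 17, 88311) .leaf)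 (35813, 0, 13, 219142) (.node .leaf (35818, 0, 14, 31963) .leaf))) (35819, 0, 17, 193551) (.node (.node (.node .leaf (35822, 0, 16, 132038) .leaf) (35823, 0, 15, 183596) (.node .leaf (35826, 0, 17, 188593) .leaf)) (35827, 0, 12, 47519) (.node (.node .leaf (35830, 0, 15, 159879) .leaf) (35831, 0, 12, 168161) (.node .leaf (35832, 0, 16, 123487) .leaf))))) (35833, 0, 18, 121983) (.node (.node (.node (.node (.node .leaf (35836, 0, 18, 236866) .leaf) (35837, 0, 16, 124252) (.node .leaf (35841, 0, 12, 123751) .leaf)) (35843, 0, 15, 243131) (.node (.node .leaf (35845, 0, 19, 121412) .leaf) (35847, 0, 18, 117414) (.node .leaf (35848, 0, 16, 192123) .leaf))) (35850, 0, 17, 67081) (.node (.node (.node .leaf (35852, 0, 14, 37222) .leaf) (35854, 0, 15, 151455) (.node .leaf (35856, 0, 16, 29201) .leaf)) (35858, 0, 17, 236131) (.node (.node .leaf (35860, 0, 9, 213623) .leaf) (35862, 0, 17, 135762) (.node .leaf (35865, 0, 17, 180643) .leaf)))) (35867, 0, 18, 76241) (.node (.node (.node (.node .leaf (35869, 0, 16,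 100233) .leaf) (35871, 0, 14, 55212) (.node .leaf (35872, 0, 14, 227821) .leaf)) (35874, 0, 15, 37279) (.node (.node .leaf (35876, 0, 8, 143831) .leaf) (35878, 0, 16, 221682) (.node .leaf (35881, 0, 17, 52490) .leaf))) (35883, 0, 16, 105775) (.node (.node (.node .leaf (35885, 0, 15, 243010) .leaf) (35887, 0, 14, 107532) (.node .leaf (35889, 0, 18, 37063) .leaf)) (35891, 0, 14, 114914) (.node (.node .leaf (35893, 0, 16, 76072) .leaf) (35895, 0, 15, 129473) (.node .leaf (35896, 0, 16, 124295) .leaf))))))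

/-- part of the orbit tree -/
def itp1_46 : Tree := (.node (.node (.node (.node (.node (.node .leaf (35900, 0, 13, 236186) .leaf) (35902, 0, 16, 29416) (.node .leaf (35905, 0, 16, 1347) .leaf)) (35907, 0, 14, 252356) (.node (.node .leaf (35909, 0, 16, 176322) .leaf) (35911, 0, 15, 102956) (.node .leaf (35912, 0, 17, 177905) .leaf))) (35914, 0, 15, 89731) (.node (.node (.node .leaf (35916, 0, 14, 30012) .leaf) (35918, 0, 8, 75033) (.node .leaf (35920, 0, 18, 4562) .leaf)) (35922, 0, 14, 246505) (.node (.node .leaf (35924, 0, 16, 152966) .leaf) (35926, 0, 16, 114164) (.node .leaf (35929, 0, 17, 170281) .leaf)))) (35931, 0, 11, 94555) (.node (.node (.node (.node .leaf (35933, 0, 12, 191759) .leaf) (35935, 0, 16, 200262) (.node .leaf (35936, 0, 14, 205159) .leaf)) (35938, 0, 16, 12887) (.node (.node .leaf (35940, 0, 15, 88913) .leaf) (35942, 0, 17, 177672) (.node .leaf (35945, 0, 16, 239500) .leaf))) (35947, 0, 17, 194473) (.node (.node (.node .leaf (35949, 0, 15, 237231) .leaf) (35951, 0, 13, 183946)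 (.node .leaf (35953, 0, 14, 260673) .leaf)) (35955, 0, 15, 59085) (.node (.node .leaf (35957, 0, 15, 246626) .leaf) (35959, 0, 17, 168775) (.node .leaf (35960, 0, 17, 113933) .leaf))))) (35962, 0, 17, 28570) (.node (.node (.node (.node (.node .leaf (35964, 0, 18, 67228) .leaf) (35966, 0, 14, 10850) (.node .leaf (35968, 0, 16, 111758) .leaf)) (35970, 0, 18, 154876) (.node (.node .leaf (35972, 0, 13, 248723) .leaf) (35974, 0, 16, 9185) (.node .leaf (35977, 0, 16, 198460) .leaf))) (35979, 0, 14, 464) (.node (.node (.node .leaf (35981, 0, 16, 92374) .leaf) (35983, 0, 16, 168019) (.node .leaf (35985, 0, 13, 68664) .leaf)) (35987, 0, 17, 23581) (.node (.node .leaf (35989, 0, 16, 79131) .leaf) (35991, 0, 15, 3129) (.node .leaf (35992, 0, 17, 248262) .leaf)))) (35994, 0, 16, 49302) (.node (.node (.node (.node .leaf (35996, 0, 14, 88057) .leaf) (35998, 0, 14, 180107) (.node .leaf (36001, 0, 16, 32664) .leaf)) (36003, 0, 17, 77757) (.node (.node .leaf (36005, 0, 16, 18107) .leaf) (36007, 0, 17, 198597) (.node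 .leaf (36008, 0, 12, 178790) .leaf))) (36010, 0, 18, 256579) (.node (.node (.node .leaf (36012, 0, 15, 164677) .leaf) (36014, 0, 18, 250720) (.node .leaf (36016, 0, 16, 190379) .leaf)) (36018, 0, 14, 87808) (.node (.node .leaf (36020, 0, 16, 49263) .leaf) (36022, 0, 18, 233133) (.node .leaf (36025, 0, 17, 3264) .leaf))))))

/-- part of the orbit tree -/
def itp1_47 : Tree := (.node (.node (.node (.node (.node (.node .leaf (36029, 0, 17, 160733) .leaf) (36031, 0, 16, 84819) (.node .leaf (36032, 0, 15, 65165) .leaf)) (36034, 0, 13, 132214) (.node (.node .leaf (36036, 0, 13, 234265) .leaf) (36038, 0, 16, 104331) (.node .leaf (36041, 0, 17, 221110) .leaf))) (36043, 0, 16, 47044) (.node (.node (.node .leaf (36045, 0, 18, 131664) .leaf) (36047, 0, 18, 217717) (.node .leaf (36049, 0, 11, 157374) .leaf)) (36051, 0, 16, 210587) (.node (.node .leaf (36053, 0, 16, 244929) .leaf) (36055, 0, 15, 200632) (.node .leaf (36056, 0, 16, 41792) .leaf)))) (36058, 0, 18, 38940) (.node (.node (.node (.node .leaf (36060,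 0, 17, 69491) .leaf) (36062, 0, 16, 117318) (.node .leaf (36065, 0, 15, 202014) .leaf)) (36067, 0, 16, 73810) (.node (.node .leaf (36069, 0, 17, 46909) .leaf) (36071, 0, 17, 221007) (.node .leaf (36072, 0, 15, 119008) .leaf))) (36074, 0, 17, 234464) (.node (.node (.node .leaf (36076, 0, 13, 132239) .leaf) (36078, 0, 15, 47590) (.node .leaf (36080, 0, 17, 190456) .leaf)) (36082, 0, 18, 69514) (.node (.node .leaf (36084, 0, 17, 111630) .leaf) (36086, 0, 15, 225431) (.node .leaf (36089, 0, 17, 215251) .leaf))))) (36091, 0, 16, 244792) (.node (.node (.node (.node (.node .leaf (36093, 0, 15, 225776) .leaf) (36095, 0, 13, 139733) (.node .leaf (36096, 0, 16, 172405) .leaf)) (36098, 0, 16, 258384) (.node (.node .leaf (36100, 0, 13, 39961) .leaf) (36102, 0, 17, 247923) (.node .leaf (36105, 0, 18, 20662) .leaf))) (36107, 0, 18, 79022) (.node (.node (.node .leaf (36109, 0, 18, 23976) .leaf) (36111, 0, 14, 69005) (.node .leaf (36113, 0, 16, 14662) .leaf)) (36115, 0, 18, 74926) (.node (.node .leaf (36117, 0, 16,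 101) .leaf) (36119, 0, 13, 86080) (.node .leaf (36120, 0, 18, 32622) .leaf)))) (36122, 0, 16, 235292) (.node (.node (.node (.node .leaf (36124, 0, 15, 181659) .leaf) (36126, 0, 17, 124929) (.node .leaf (36129, 0, 8, 116512) .leaf)) (36131, 0, 17, 143186) (.node (.node .leaf (36133, 0, 18, 95173) .leaf) (36135, 0, 17, 9184) (.node .leaf (36136, 0, 18, 233240) .leaf))) (36138, 0, 18, 188221) (.node (.node (.node .leaf (36140, 0, 17, 68495) .leaf) (36142, 0, 15, 189437) (.node .leaf (36144, 0, 15, 250581) .leaf)) (36146, 0, 17, 131210) (.node (.node .leaf (36148, 0, 15, 257014) .leaf) (36150, 0, 13, 179155) (.node .leaf (36153, 0, 16, 219978) .leaf))))))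

/-- part of the orbit tree -/
def itp1_48 : Tree := (.node (.node (.node (.node (.node (.node .leaf (36157, 0, 17, 77320) .leaf) (36159, 0, 16, 183333) (.node .leaf (36160, 0, 15, 179086) .leaf)) (36162, 0, 17, 87036) (.node (.node .leaf (36164, 0, 16, 50323) .leaf) (36166, 0, 17, 208097) (.node .leaf (36169, 0, 18, 2108) .leaf))) (36171, 0, 16, 155176) (.node (.node (.node .leaf (36173, 0, 17, 161569) .leaf) (36175, 0, 18, 106323) (.node .leaf (36177, 0, 19, 169046) .leaf)) (36179, 0, 16, 132069) (.node (.node .leaf (36181, 0, 17, 223971) .leaf) (36183, 0, 16, 197433) (.node .leaf (36184, 0, 15, 10212) .leaf)))) (36186, 0, 18, 249750) (.node (.node (.node (.node .leaf (36188, 0, 17, 110365) .leaf) (36190, 0, 18, 65336) (.node .leaf (36193, 0, 17, 139360) .leaf)) (36195, 0, 14, 161752) (.node (.node .leaf (36197, 0, 15, 137539) .leaf) (36199, 0, 15, 2245) (.node .leaf (36200, 0, 17, 58782) .leaf))) (36202, 0, 17, 112059) (.node (.node (.node .leaf (36204, 0, 17, 86789) .leaf) (36206, 0, 17, 101528)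 (.node .leaf (36208, 0, 15, 47187) .leaf)) (36210, 0, 15, 153600) (.node (.node .leaf (36212, 0, 17, 249711) .leaf) (36214, 0, 16, 119125) (.node .leaf (36217, 0, 16, 163245) .leaf))))) (36219, 0, 17, 60338) (.node (.node (.node (.node (.node .leaf (36221, 0, 15, 97501) .leaf) (36223, 0, 15, 169135) (.node .leaf (36225, 0, 16, 199235) .leaf)) (36227, 0, 10, 57905) (.node (.node .leaf (36229, 0, 17, 95582) .leaf) (36231, 0, 15, 114463) (.node .leaf (36232, 0, 16, 136167) .leaf))) (36234, 0, 17, 151939) (.node (.node (.node .leaf (36236, 0, 14, 247532) .leaf) (36238, 0, 15, 228065) (.node .leaf (36240, 0, 16, 151082) .leaf)) (36242, 0, 16, 52713) (.node (.node .leaf (36244, 0, 13, 88710) .leaf) (36246, 0, 17, 176884) (.node .leaf (36249, 0, 14, 103977) .leaf)))) (36251, 0, 17, 163419) (.node (.node (.node (.node .leaf (36253, 0, 17, 256308) .leaf) (36255, 0, 15, 123602) (.node .leaf (36256, 0, 16, 11879) .leaf)) (36258, 0, 17, 159151) (.node (.node .leaf (36260, 0, 13, 197801) .leaf) (36262, 0, 16,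 152716) (.node .leaf (36265, 0, 17, 171477) .leaf))) (36267, 0, 15, 95655) (.node (.node (.node .leaf (36269, 0, 17, 115031) .leaf) (36271, 0, 18, 37234) (.node .leaf (36273, 0, 18, 107961) .leaf)) (36275, 0, 15, 62876) (.node (.node .leaf (36277, 0, 16, 163490) .leaf) (36279, 0, 18, 104144) (.node .leaf (36280, 0, 16, 176653) .leaf))))))

/-- part of the orbit tree -/
def itp1_49 : Tree := (.node itp1_45 (35898, 0, 14, 134645) itp1_46)

/-- part of the orbit tree -/
def itp1_50 : Tree := (.node itp1_47 (36155, 0, 16, 18190) itp1_48)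

/-- part of the orbit tree -/
def itp1_51 : Tree := (.node (.node (.node (.node (.node (.node .leaf (36284, 0, 14, 52496) .leaf) (36286, 0, 17, 133441) (.node .leaf (36289, 0, 13, 244895) .leaf)) (36291, 0, 15, 191674) (.node (.node .leaf (36293, 0, 14, 230844) .leaf) (36295, 0, 12, 181670) (.node .leaf (36296, 0, 15, 96609) .leaf))) (36298, 0, 13, 133385) (.node (.node (.node .leaf (36300, 0, 18, 237158) .leaf) (36302, 0, 12, 4199) (.node .leaf (36304, 0, 16, 74924) .leaf)) (36306, 0, 16, 29833) (.node (.node .leaf (36308, 0, 18, 73103) .leaf) (36310, 0, 19, 19882) (.node .leaf (36313, 0, 15, 118435) .leaf)))) (36315, 0, 14, 176503) (.node (.node (.node (.node .leaf (36317, 0, 16, 242110) .leaf) (36319, 0, 16, 165972) (.node .leaf (36320, 0, 17, 22284) .leaf)) (36322, 0, 15, 237215) (.node (.node .leaf (36324, 0, 18, 28207) .leaf) (36326, 0, 17, 123266) (.node .leaf (36329, 0, 13, 181599) .leaf))) (36331, 0, 17, 77101) (.node (.node (.node .leaf (36333, 0, 16, 175057) .leaf) (36335, 0, 17, 217648)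 (.node .leaf (36337, 0, 18, 184127) .leaf)) (36339, 0, 15, 237338) (.node (.node .leaf (36341, 0, 14, 194076) .leaf) (36343, 0, 17, 118362) (.node .leaf (36344, 0, 15, 191111) .leaf))))) (36346, 0, 17, 66293) (.node (.node (.node (.node (.node .leaf (36348, 0, 17, 38298) .leaf) (36350, 0, 17, 91079) (.node .leaf (36352, 0, 15, 77681) .leaf)) (36353, 0, 15, 22757) (.node (.node .leaf (36354, 0, 9, 125369) .leaf) (36355, 0, 16, 40754) (.node .leaf (36356, 0, 17, 32470) .leaf))) (36357, 0, 14, 141304) (.node (.node (.node .leaf (36358, 0, 19, 235172) .leaf) (36359, 0, 13, 42513) (.node .leaf (36376, 0, 16, 40353) .leaf)) (36377, 0, 15, 103130) (.node (.node .leaf (36378, 0, 15, 226771) .leaf) (36379, 0, 17, 77053) (.node .leaf (36380, 0, 16, 189116) .leaf)))) (36381, 0, 16, 109561) (.node (.node (.node (.node .leaf (36382, 0, 14, 68302) .leaf) (36383, 0, 12, 218080) (.node .leaf (36392, 0, 15, 235101) .leaf)) (36393, 0, 17, 118643) (.node (.node .leaf (36394, 0, 16, 32303) .leaf) (36395, 0, 16, 141057)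 (.node .leaf (36396, 0, 16, 14399) .leaf))) (36397, 0, 12, 241774) (.node (.node (.node .leaf (36398, 0, 15, 131378) .leaf) (36399, 0, 16, 22556) (.node .leaf (36400, 0, 17, 68151) .leaf)) (36401, 0, 13, 48311) (.node (.node .leaf (36402, 0, 17, 68852) .leaf) (36403, 0, 16, 47979) (.node .leaf (36404, 0, 18, 226602) .leaf))))))

/-- part of the orbit tree -/
def itp1_52 : Tree := (.node (.node (.node (.node (.node (.node .leaf (36406, 0, 17, 79319) .leaf) (36407, 0, 14, 120241) (.node .leaf (36416, 0, 18, 153921) .leaf)) (36417, 0, 16, 173457) (.node (.node .leaf (36418, 0, 13, 110899) .leaf) (36419, 0, 17, 256029) (.node .leaf (36420, 0, 15, 163028) .leaf))) (36421, 0, 15, 163698) (.node (.node (.node .leaf (36422, 0, 17, 208113) .leaf) (36423, 0, 15, 248983) (.node .leaf (36440, 0, 17, 50475) .leaf)) (36441, 0, 14, 194652) (.node (.node .leaf (36442, 0, 17, 215071) .leaf) (36443, 0, 17, 95351) (.node .leaf (36444, 0, 14, 139545) .leaf)))) (36445, 0, 17, 180607) (.node (.node (.node (.node .leaf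 (36446, 0, 18, 86596) .leaf) (36447, 0, 14, 233818) (.node .leaf (36456, 0, 13, 249559) .leaf)) (36457, 0, 17, 232444) (.node (.node .leaf (36458, 0, 16, 146367) .leaf) (36459, 0, 17, 163723) (.node .leaf (36460, 0, 16, 217785) .leaf))) (36461, 0, 17, 242399) (.node (.node (.node .leaf (36462, 0, 15, 131740) .leaf) (36463, 0, 14, 150) (.node .leaf (36464, 0, 18, 210519) .leaf)) (36465, 0, 17, 199571) (.node (.node .leaf (36466, 0, 18, 157298) .leaf) (36467, 0, 18, 165396) (.node .leaf (36468, 0, 14, 200564) .leaf))))) (36469, 0, 17, 257810) (.node (.node (.node (.node (.node .leaf (36470, 0, 17, 155473) .leaf) (36471, 0, 13, 171260) (.node .leaf (36488, 0, 17, 88894) .leaf)) (36489, 0, 17, 197136) (.node (.node .leaf (36490, 0, 17, 52678) .leaf) (36491, 0, 10, 11680) (.node .leaf (36492, 0, 16, 107712) .leaf))) (36493, 0, 16, 97549) (.node (.node (.node .leaf (36494, 0, 17, 62693) .leaf) (36495, 0, 15, 169343) (.node .leaf (36496, 0, 15, 114734) .leaf)) (36497, 0, 13, 106106) (.node (.node .leaf (36498,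 0, 16, 36875) .leaf) (36499, 0, 16, 28781) (.node .leaf (36500, 0, 15, 129293) .leaf)))) (36501, 0, 15, 72043) (.node (.node (.node (.node .leaf (36502, 0, 14, 43304) .leaf) (36503, 0, 17, 2325) (.node .leaf (36512, 0, 17, 45966) .leaf)) (36513, 0, 17, 21480) (.node (.node .leaf (36514, 0, 15, 206042) .leaf) (36515, 0, 16, 66509) (.node .leaf (36516, 0, 17, 177077) .leaf))) (36517, 0, 14, 27339) (.node (.node (.node .leaf (36518, 0, 16, 121480) .leaf) (36519, 0, 13, 80622) (.node .leaf (36536, 0, 14, 151746) .leaf)) (36537, 0, 17, 3621) (.node (.node .leaf (36538, 0, 17, 112816) .leaf) (36539, 0, 14, 254366) (.node .leaf (36540, 0, 15, 55136) .leaf))))))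

/-- part of the orbit tree -/
def itp1_53 : Tree := (.node (.node (.node (.node (.node (.node .leaf (36542, 0, 18, 247725) .leaf) (36543, 0, 16, 91939) (.node .leaf (36552, 0, 13, 66484) .leaf)) (36553, 0, 18, 219802) (.node (.node .leaf (36554, 0, 18, 239424) .leaf) (36555, 0, 17, 45800) (.node .leaf (36556, 0, 15, 183878) .leaf))) (36557, 0, 19, 75143) (.node (.node (.node .leaf (36558, 0, 14, 237155) .leaf) (36559, 0, 17, 228869) (.node .leaf (36560, 0, 13, 174760) .leaf)) (36561, 0, 16, 150222) (.node (.node .leaf (36562, 0, 15, 30636) .leaf) (36563, 0, 10, 142978) (.node .leaf (36564, 0, 14, 168843) .leaf)))) (36565, 0, 12, 160749) (.node (.node (.node (.node .leaf (36566, 0, 16, 246702) .leaf) (36567, 0, 15, 205768) (.node .leaf (36576, 0, 17, 37922) .leaf)) (36577, 0, 13, 183564) (.node (.node .leaf (36578, 0, 13, 166189) .leaf) (36579, 0, 17, 158027) (.node .leaf (36580, 0, 14, 191295) .leaf))) (36581, 0, 12, 45585) (.node (.node (.node .leaf (36582, 0, 17, 66381) .leaf) (36583, 0, 16, 219747)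 (.node .leaf (36600, 0, 16, 133192) .leaf)) (36601, 0, 11, 20838) (.node (.node .leaf (36602, 0, 17, 185568) .leaf) (36603, 0, 15, 243988) (.node .leaf (36604, 0, 16, 245222) .leaf))))) (36605, 0, 17, 220544) (.node (.node (.node (.node (.node .leaf (36606, 0, 16, 237351) .leaf) (36607, 0, 16, 134565) (.node .leaf (36616, 0, 16, 134324) .leaf)) (36617, 0, 8, 18683) (.node (.node .leaf (36618, 0, 16, 129208) .leaf) (36619, 0, 18, 71902) (.node .leaf (36620, 0, 16, 37310) .leaf))) (36621, 0, 15, 29144) (.node (.node (.node .leaf (36622, 0, 17, 115099) .leaf) (36623, 0, 17, 74237) (.node .leaf (36624, 0, 15, 62800) .leaf)) (36625, 0, 18, 5430) (.node (.node .leaf (36626, 0, 17, 107893) .leaf) (36627, 0, 17, 74114) (.node .leaf (36628, 0, 17, 192451) .leaf)))) (36629, 0, 14, 46829) (.node (.node (.node (.node .leaf (36630, 0, 16, 67505) .leaf) (36631, 0, 17, 220831) (.node .leaf (36640, 0, 12, 100080) .leaf)) (36641, 0, 16, 115212) (.node (.node .leaf (36642, 0, 16, 29520) .leaf) (36643, 0, 17, 14003)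 (.node .leaf (36644, 0, 15, 123967) .leaf))) (36645, 0, 17, 90037) (.node (.node (.node .leaf (36646, 0, 15, 61430) .leaf) (36647, 0, 16, 21859) (.node .leaf (36664, 0, 17, 121661) .leaf)) (36665, 0, 14, 80731) (.node (.node .leaf (36666, 0, 10, 35608) .leaf) (36667, 0, 14, 46612) (.node .leaf (36668, 0, 17, 123422) .leaf))))))

/-- part of the orbit tree -/
def itp1_54 : Tree := (.node (.node (.node (.node (.node (.node .leaf (36670, 0, 16, 36903) .leaf) (36671, 0, 16, 21085) (.node .leaf (36680, 0, 14, 152638) .leaf)) (36681, 0, 15, 205437) (.node (.node .leaf (36682, 0, 17, 113740) .leaf) (36683, 0, 16, 160344) (.node .leaf (36684, 0, 16, 260920) .leaf))) (36685, 0, 16, 160269) (.node (.node (.node .leaf (36686, 0, 16, 174877) .leaf) (36687, 0, 19, 105087) (.node .leaf (36688, 0, 16, 237526) .leaf)) (36689, 0, 18, 168314) (.node (.node .leaf (36690, 0, 15, 204838) .leaf) (36691, 0, 18, 96520) (.node .leaf (36692, 0, 16, 177993) .leaf)))) (36693, 0, 17, 61031) (.node (.node (.node (.node .leaf (36694,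 0, 17, 194256) .leaf) (36695, 0, 15, 198165) (.node .leaf (36704, 0, 16, 246696) .leaf)) (36705, 0, 17, 134160) (.node (.node .leaf (36706, 0, 17, 244819) .leaf) (36707, 0, 14, 220213) (.node .leaf (36708, 0, 18, 113845) .leaf))) (36709, 0, 16, 144691) (.node (.node (.node .leaf (36710, 0, 16, 152775) .leaf) (36711, 0, 17, 222486) (.node .leaf (36728, 0, 16, 176571) .leaf)) (36729, 0, 15, 152029) (.node (.node .leaf (36730, 0, 14, 254366) .leaf) (36731, 0, 15, 61086) (.node .leaf (36732, 0, 16, 166040) .leaf))))) (36733, 0, 14, 96753) (.node (.node (.node (.node (.node .leaf (36734, 0, 13, 51373) .leaf) (36735, 0, 16, 168323) (.node .leaf (36736, 0, 13, 6671) .leaf)) (36737, 0, 15, 200559) (.node (.node .leaf (36738, 0, 15, 179763) .leaf) (36739, 0, 13, 109132) (.node .leaf (36740, 0, 16, 9004) .leaf))) (36741, 0, 14, 49994) (.node (.node (.node .leaf (36742, 0, 13, 94985) .leaf) (36743, 0, 18, 103279) (.node .leaf (36760, 0, 18, 18370) .leaf)) (36761, 0, 16, 42916) (.node (.node .leaf (36762, 0,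 14, 71655) .leaf) (36763, 0, 14, 128897) (.node .leaf (36764, 0, 17, 32481) .leaf)))) (36765, 0, 16, 257048) (.node (.node (.node (.node .leaf (36766, 0, 17, 77508) .leaf) (36767, 0, 16, 118434) (.node .leaf (36776, 0, 16, 78946) .leaf)) (36777, 0, 16, 170233) (.node (.node .leaf (36778, 0, 7, 25671) .leaf) (36779, 0, 16, 94347) (.node .leaf (36780, 0, 18, 179914) .leaf))) (36781, 0, 13, 59364) (.node (.node (.node .leaf (36782, 0, 15, 87736) .leaf) (36783, 0, 16, 200598) (.node .leaf (36784, 0, 15, 92591) .leaf)) (36785, 0, 19, 1171) (.node (.node .leaf (36786, 0, 15, 14730) .leaf) (36787, 0, 16, 55788) .leaf)))))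

/-- part of the orbit tree -/
def itp1_55 : Tree := (.node itp1_51 (36405, 0, 17, 76804) itp1_52)

/-- part of the orbit tree -/
def itp1_56 : Tree := (.node itp1_53 (36669, 0, 16, 74107) itp1_54)

/-- part of the orbit tree -/
def itp1_57 : Tree := (.node itp1_49 (36027, 0, 17, 94832) itp1_50)

/-- part of the orbit tree -/
def itp1_58 : Tree := (.node itp1_55 (36541, 0, 17, 161521) itp1_56)

/-- part of the orbit tree -/
def itp1_59 : Tree := (.node itp1_43 (35261, 0, 17, 104906) itp1_44)

/-- part of the orbit tree -/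
def itp1_60 : Tree := (.node itp1_57 (36282, 0, 12, 143458) itp1_58)

/-- part of the orbit tree -/
def itp1_61 : Tree := (.node itp1_29 (33725, 0, 17, 61894) itp1_30)

/-- part of the orbit tree -/
def itp1_62 : Tree := (.node itp1_59 (35769, 0, 15, 177913) itp1_60)

/-- part of the orbit tree -/
def itp1_63 : Tree := (.node (.node (.node (.node (.node (.node .leaf (36789, 0, 17, 162702) .leaf) (36790, 0, 16, 169) (.node .leaf (36791, 0, 11, 103420) .leaf)) (36800, 0, 15, 225417) (.node (.node .leaf (36801, 0, 13, 219109) .leaf) (36802, 0, 18, 190137) (.node .leaf (36803, 0, 16, 180426) .leaf))) (36804, 0, 16, 215466) (.node (.node (.node .leaf (36805, 0, 17, 240076) .leaf) (36806, 0, 17, 137615) (.node .leaf (36807, 0, 14, 180362) .leaf)) (36824, 0, 16, 208196) (.node (.node .leaf (36825, 0, 12, 249122) .leaf) (36826, 0, 15, 163169) (.node .leaf (36827, 0, 14, 171271) .leaf)))) (36828, 0, 17, 201831) (.node (.node (.node (.node .leaf (36829, 0, 16, 259073) .leaf) (36830, 0, 16, 132558) (.node .leaf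 (36831, 0, 16, 23776) .leaf)) (36840, 0, 16, 155364) (.node (.node .leaf (36841, 0, 17, 179842) .leaf) (36842, 0, 14, 200385) (.node .leaf (36843, 0, 14, 257703) .leaf))) (36844, 0, 15, 190016) (.node (.node (.node .leaf (36845, 0, 18, 49006) .leaf) (36846, 0, 15, 69170) (.node .leaf (36847, 0, 18, 251780) .leaf)) (36848, 0, 13, 131881) (.node (.node .leaf (36849, 0, 15, 23577) .leaf) (36850, 0, 16, 217868) (.node .leaf (36851, 0, 16, 242538) .leaf))))) (36852, 0, 17, 145930) (.node (.node (.node (.node (.node .leaf (36853, 0, 17, 186988) .leaf) (36854, 0, 14, 223791) (.node .leaf (36855, 0, 17, 232009) .leaf)) (36864, 0, 17, 40537) (.node (.node .leaf (36867, 0, 16, 180964) .leaf) (36869, 0, 18, 240610) (.node .leaf (36870, 0, 15, 67894) .leaf))) (36872, 0, 17, 29893) (.node (.node (.node .leaf (36875, 0, 15, 116121) .leaf) (36877, 0, 16, 102010) (.node .leaf (36878, 0, 16, 15929) .leaf)) (36881, 0, 15, 125588) (.node (.node .leaf (36882, 0, 13, 65757) .leaf) (36884, 0, 13, 78801) (.node .leaf (36887,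 0, 14, 75502) .leaf)))) (36889, 0, 14, 23325) (.node (.node (.node (.node .leaf (36890, 0, 17, 163663) .leaf) (36892, 0, 13, 32046) (.node .leaf (36895, 0, 18, 173578) .leaf)) (36897, 0, 15, 244349) (.node (.node .leaf (36898, 0, 18, 76151) .leaf) (36900, 0, 18, 236622) (.node .leaf (36903, 0, 15, 127026) .leaf))) (36905, 0, 16, 217313) (.node (.node (.node .leaf (36906, 0, 17, 188861) .leaf) (36908, 0, 17, 227026) (.node .leaf (36911, 0, 16, 251306) .leaf)) (36912, 0, 15, 234917) (.node (.node .leaf (36915, 0, 17, 241988) .leaf) (36917, 0, 14, 242582) (.node .leaf (36918, 0, 14, 223233) .leaf))))))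

/-- part of the orbit tree -/
def itp1_64 : Tree := (.node (.node (.node (.node (.node (.node .leaf (36923, 0, 15, 183909) .leaf) (36925, 0, 16, 219402) (.node .leaf (36926, 0, 9, 85401) .leaf)) (36928, 0, 16, 6177) (.node (.node .leaf (36931, 0, 16, 96143) .leaf) (36933, 0, 18, 49508) (.node .leaf (36934, 0, 18, 94503) .leaf))) (36936, 0, 14, 11343) (.node (.node (.node .leaf (36939, 0, 18, 105747) .leaf) (36941, 0, 18, 2684) (.node .leaf (36942, 0, 15, 113440) .leaf)) (36945, 0, 19, 163858) (.node (.node .leaf (36946, 0, 14, 88151) .leaf) (36948, 0, 16, 53048) (.node .leaf (36951, 0, 17, 97892) .leaf)))) (36953, 0, 17, 919) (.node (.node (.node (.node .leaf (36954, 0, 16, 71113) .leaf) (36956, 0, 15, 31951) (.node .leaf (36959, 0, 17, 103672) .leaf)) (36961, 0, 14, 258994) (.node (.node .leaf (36962, 0, 17, 148465) .leaf) (36964, 0, 17, 246980) (.node .leaf (36967, 0, 14, 161176) .leaf))) (36969, 0, 15, 198763) (.node (.node (.node .leaf (36970, 0, 13, 178487) .leaf) (36972, 0, 15, 69487) (.node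 .leaf (36975, 0, 17, 171780) .leaf)) (36976, 0, 17, 93057) (.node (.node .leaf (36979, 0, 17, 162931) .leaf) (36981, 0, 18, 256796) (.node .leaf (36982, 0, 13, 647) .leaf))))) (36984, 0, 17, 206771) (.node (.node (.node (.node (.node .leaf (36987, 0, 17, 169711) .leaf) (36989, 0, 13, 235356) (.node .leaf (36990, 0, 5, 176348) .leaf)) (36993, 0, 15, 67019) (.node (.node .leaf (36994, 0, 16, 50754) .leaf) (36996, 0, 15, 121998) (.node .leaf (36999, 0, 15, 27853) .leaf))) (37001, 0, 18, 204883) (.node (.node (.node .leaf (37002, 0, 16, 167952) .leaf) (37004, 0, 16, 260374) (.node .leaf (37007, 0, 9, 2797) .leaf)) (37008, 0, 16, 88262) (.node (.node .leaf (37011, 0, 12, 59802) .leaf) (37013, 0, 17, 214205) (.node .leaf (37014, 0, 13, 53161) .leaf)))) (37016, 0, 15, 111194) (.node (.node (.node (.node .leaf (37019, 0, 16, 2083) .leaf) (37021, 0, 19, 103529) (.node .leaf (37022, 0, 12, 53606) .leaf)) (37024, 0, 14, 192088) (.node (.node .leaf (37027, 0, 17, 254566) .leaf) (37029, 0, 14, 161033) (.node .leaf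 (37030, 0, 16, 246869) .leaf))) (37032, 0, 17, 178598) (.node (.node (.node .leaf (37035, 0, 15, 97155) .leaf) (37037, 0, 16, 171925) (.node .leaf (37038, 0, 17, 107206) .leaf)) (37041, 0, 18, 163042) (.node (.node .leaf (37042, 0, 17, 116264) .leaf) (37044, 0, 17, 154321) (.node .leaf (37047, 0, 9, 256909) .leaf))))))

/-- part of the orbit tree -/
def itp1_65 : Tree := (.node (.node (.node (.node (.node (.node .leaf (37050, 0, 16, 206626) .leaf) (37052, 0, 16, 166582) (.node .leaf (37055, 0, 17, 196881) .leaf)) (37057, 0, 16, 159565) (.node (.node .leaf (37058, 0, 14, 253710) .leaf) (37060, 0, 17, 177672) (.node .leaf (37063, 0, 17, 47355) .leaf))) (37065, 0, 15, 19157) (.node (.node (.node .leaf (37066, 0, 15, 29780) .leaf) (37068, 0, 15, 123707) (.node .leaf (37071, 0, 14, 21095) .leaf)) (37072, 0, 18, 65612) (.node (.node .leaf (37075, 0, 18, 83773) .leaf) (37077, 0, 17, 75391) (.node .leaf (37078, 0, 14, 38691) .leaf)))) (37080, 0, 17, 185062) (.node (.node (.node (.node .leaf (37083, 0, 16,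 23436) .leaf) (37085, 0, 15, 117987) (.node .leaf (37086, 0, 16, 32191) .leaf)) (37088, 0, 16, 134064) (.node (.node .leaf (37091, 0, 15, 13469) .leaf) (37093, 0, 17, 89499) (.node .leaf (37094, 0, 11, 236767) .leaf))) (37096, 0, 16, 188716) (.node (.node (.node .leaf (37099, 0, 18, 135429) .leaf) (37101, 0, 16, 182047) (.node .leaf (37102, 0, 16, 182336) .leaf)) (37105, 0, 15, 140392) (.node (.node .leaf (37106, 0, 16, 175278) .leaf) (37108, 0, 15, 247208) (.node .leaf (37111, 0, 18, 242439) .leaf))))) (37113, 0, 16, 80245) (.node (.node (.node (.node (.node .leaf (37114, 0, 15, 35126) .leaf) (37116, 0, 17, 122928) (.node .leaf (37119, 0, 17, 20595) .leaf)) (37121, 0, 18, 139412) (.node (.node .leaf (37122, 0, 16, 233928) .leaf) (37124, 0, 14, 132775) (.node .leaf (37127, 0, 15, 243707) .leaf))) (37129, 0, 7, 136493) (.node (.node (.node .leaf (37130, 0, 15, 238958) .leaf) (37132, 0, 10, 183400) (.node .leaf (37135, 0, 18, 228395) .leaf)) (37136, 0, 15, 134988) (.node (.node .leaf (37139, 0, 14,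 202949) .leaf) (37141, 0, 15, 160195) (.node .leaf (37142, 0, 16, 246144) .leaf)))) (37144, 0, 17, 189904) (.node (.node (.node (.node .leaf (37147, 0, 17, 218252) .leaf) (37149, 0, 15, 181219) (.node .leaf (37150, 0, 18, 225983) .leaf)) (37152, 0, 15, 66736) (.node (.node .leaf (37155, 0, 18, 158565) .leaf) (37157, 0, 17, 74371) (.node .leaf (37158, 0, 18, 176672) .leaf))) (37160, 0, 15, 130750) (.node (.node (.node .leaf (37163, 0, 15, 24432) .leaf) (37165, 0, 18, 75771) (.node .leaf (37166, 0, 15, 38840) .leaf)) (37169, 0, 16, 82709) (.node (.node .leaf (37170, 0, 15, 62294) .leaf) (37172, 0, 17, 68955) (.node .leaf (37175, 0, 17, 48135) .leaf))))))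

/-- part of the orbit tree -/
def itp1_66 : Tree := (.node (.node (.node (.node (.node (.node .leaf (37178, 0, 16, 186062) .leaf) (37180, 0, 14, 245704) (.node .leaf (37183, 0, 15, 22171) .leaf)) (37185, 0, 12, 219699) (.node (.node .leaf (37186, 0, 14, 248130) .leaf) (37188, 0, 18, 230262) (.node .leaf (37191, 0, 17, 257905) .leaf))) (37193, 0, 16, 168578) (.node (.node (.node .leaf (37194, 0, 17, 53224) .leaf) (37196, 0, 15, 108270) (.node .leaf (37199, 0, 14, 198125) .leaf)) (37200, 0, 18, 115200) (.node (.node .leaf (37203, 0, 18, 29251) .leaf) (37205, 0, 16, 160245) (.node .leaf (37206, 0, 15, 245929) .leaf)))) (37208, 0, 16, 179546) (.node (.node (.node (.node .leaf (37211, 0, 18, 153563) .leaf) (37213, 0, 16, 212701) (.node .leaf (37214, 0, 9, 167582) .leaf)) (37216, 0, 13, 89146) (.node (.node .leaf (37219, 0, 13, 66019) .leaf) (37221, 0, 13, 26853) (.node .leaf (37222, 0, 13, 52053) .leaf))) (37224, 0, 16, 112294) (.node (.node (.node .leaf (37227, 0, 12, 205947) .leaf) (37229, 0, 17, 150909)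 (.node .leaf (37230, 0, 16, 8649) .leaf)) (37233, 0, 17, 95202) (.node (.node .leaf (37234, 0, 17, 235984) .leaf) (37236, 0, 18, 87505) (.node .leaf (37239, 0, 17, 58509) .leaf))))) (37241, 0, 15, 104830) (.node (.node (.node (.node (.node .leaf (37242, 0, 17, 10274) .leaf) (37244, 0, 15, 114509) (.node .leaf (37247, 0, 14, 3601) .leaf)) (37248, 0, 18, 248275) (.node (.node .leaf (37251, 0, 15, 161935) .leaf) (37253, 0, 18, 171676) (.node .leaf (37254, 0, 13, 208607) .leaf))) (37256, 0, 18, 25153) (.node (.node (.node .leaf (37259, 0, 15, 168467) .leaf) (37261, 0, 17, 198012) (.node .leaf (37262, 0, 17, 177184) .leaf)) (37265, 0, 16, 255499) (.node (.node .leaf (37266, 0, 13, 153431) .leaf) (37268, 0, 15, 245816) (.node .leaf (37271, 0, 16, 160100) .leaf)))) (37273, 0, 13, 199831) (.node (.node (.node (.node .leaf (37274, 0, 13, 179659) .leaf) (37276, 0, 17, 140087) (.node .leaf (37279, 0, 14, 171000) .leaf)) (37281, 0, 16, 60919) (.node (.node .leaf (37282, 0, 14, 7177) .leaf) (37284, 0, 15, 95503)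 (.node .leaf (37287, 0, 17, 96920) .leaf))) (37289, 0, 16, 1899) (.node (.node (.node .leaf (37290, 0, 15, 112183) .leaf) (37292, 0, 16, 217239) (.node .leaf (37295, 0, 16, 188628) .leaf)) (37296, 0, 16, 49711) (.node (.node .leaf (37299, 0, 12, 95091) .leaf) (37301, 0, 14, 257340) (.node .leaf (37302, 0, 16, 155007) .leaf))))))

/-- part of the orbit tree -/
def itp1_67 : Tree := (.node itp1_63 (36920, 0, 16, 229177) itp1_64)

/-- part of the orbit tree -/
def itp1_68 : Tree := (.node itp1_65 (37177, 0, 11, 115188) itp1_66)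

/-- part of the orbit tree -/
def itp1_69 : Tree := (.node (.node (.node (.node (.node (.node .leaf (37307, 0, 18, 41378) .leaf) (37309, 0, 16, 3712) (.node .leaf (37310, 0, 15, 114652) .leaf)) (37312, 0, 14, 77151) (.node (.node .leaf (37315, 0, 15, 139269) .leaf) (37317, 0, 15, 243562) (.node .leaf (37318, 0, 16, 132662) .leaf))) (37320, 0, 18, 228293) (.node (.node (.node .leaf (37323, 0, 15, 182937) .leaf) (37325, 0, 16, 250242) (.node .leaf (37326, 0, 18, 191658) .leaf)) (37329, 0, 17, 243052) (.node (.node .leaf (37330, 0, 12, 132399) .leaf) (37332, 0, 17, 235698) (.node .leaf (37335, 0, 18, 187498) .leaf)))) (37337, 0, 17, 102644) (.node (.node (.node (.node .leaf (37338, 0, 12, 189761) .leaf) (37340, 0, 18, 84401) (.node .leaf (37343, 0, 14, 181106) .leaf)) (37345, 0, 17, 46461) (.node (.node .leaf (37346, 0, 18, 66593) .leaf) (37348, 0, 13, 139145) (.node .leaf (37351, 0, 16, 74258) .leaf))) (37353, 0, 17, 24545) (.node (.node (.node .leaf (37354, 0, 16, 86807) .leaf) (37356, 0, 17, 31186)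 (.node .leaf (37359, 0, 15, 100946) .leaf)) (37360, 0, 17, 24319) (.node (.node .leaf (37363, 0, 15, 126652) .leaf) (37365, 0, 14, 34746) (.node .leaf (37366, 0, 15, 79865) .leaf))))) (37368, 0, 16, 28729) (.node (.node (.node (.node (.node .leaf (37371, 0, 16, 248612) .leaf) (37373, 0, 16, 172578) (.node .leaf (37374, 0, 17, 201313) .leaf)) (37378, 0, 17, 134898) (.node (.node .leaf (37379, 0, 14, 76329) .leaf) (37380, 0, 16, 189544) (.node .leaf (37381, 0, 16, 48454) .leaf))) (37386, 0, 17, 11114) (.node (.node (.node .leaf (37387, 0, 17, 51980) .leaf) (37388, 0, 15, 134900) (.node .leaf (37389, 0, 16, 107018) .leaf)) (37392, 0, 14, 75394) (.node (.node .leaf (37393, 0, 16, 116452) .leaf) (37398, 0, 16, 228076) (.node .leaf (37399, 0, 18, 45026) .leaf)))) (37400, 0, 17, 132895) (.node (.node (.node (.node .leaf (37401, 0, 16, 24113) .leaf) (37406, 0, 17, 158236) (.node .leaf (37407, 0, 18, 166522) .leaf)) (37408, 0, 15, 21794) (.node (.node .leaf (37409, 0, 16, 46404) .leaf) (37414, 0, 13, 80932)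 (.node .leaf (37415, 0, 15, 121922) .leaf))) (37416, 0, 17, 68835) (.node (.node (.node .leaf (37417, 0, 14, 168156) .leaf) (37422, 0, 17, 39820) (.node .leaf (37423, 0, 19, 260570) .leaf)) (37426, 0, 15, 30971) (.node (.node .leaf (37427, 0, 13, 139733) .leaf) (37428, 0, 17, 126868) (.node .leaf (37429, 0, 16, 243386) .leaf))))))

/-- part of the orbit tree -/
def itp1_70 : Tree := (.node (.node (.node (.node (.node (.node .leaf (37435, 0, 17, 112812) .leaf) (37436, 0, 16, 12748) (.node .leaf (37437, 0, 16, 220198) .leaf)) (37442, 0, 17, 207757) (.node (.node .leaf (37443, 0, 17, 94883) .leaf) (37444, 0, 14, 179426) (.node .leaf (37445, 0, 15, 58828) .leaf))) (37450, 0, 14, 213484) (.node (.node (.node .leaf (37451, 0, 15, 104511) .leaf) (37452, 0, 17, 153214) (.node .leaf (37453, 0, 17, 182412) .leaf)) (37456, 0, 13, 177417) (.node (.node .leaf (37457, 0, 17, 175202) .leaf) (37462, 0, 15, 205414) (.node .leaf (37463, 0, 17, 97096) .leaf)))) (37464, 0, 19, 27036) (.node (.node (.node (.node .leaf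 (37465, 0, 14, 1723) .leaf) (37470, 0, 17, 248058) (.node .leaf (37471, 0, 17, 102868) .leaf)) (37472, 0, 15, 114421) (.node (.node .leaf (37473, 0, 16, 253890) .leaf) (37478, 0, 16, 10650) (.node .leaf (37479, 0, 15, 159924) .leaf))) (37480, 0, 17, 72252) (.node (.node (.node .leaf (37481, 0, 15, 129626) .leaf) (37486, 0, 13, 29498) (.node .leaf (37487, 0, 16, 37724) .leaf)) (37490, 0, 16, 6100) (.node (.node .leaf (37491, 0, 16, 162143) .leaf) (37492, 0, 15, 98002) (.node .leaf (37493, 0, 17, 106164) .leaf))))) (37498, 0, 18, 143948) (.node (.node (.node (.node (.node .leaf (37499, 0, 18, 168899) .leaf) (37500, 0, 16, 219978) (.node .leaf (37501, 0, 15, 244524) .leaf)) (37504, 0, 17, 207644) (.node (.node .leaf (37505, 0, 16, 76219) .leaf) (37510, 0, 17, 41179) (.node .leaf (37511, 0, 17, 58717) .leaf))) (37512, 0, 16, 246144) (.node (.node (.node .leaf (37513, 0, 13, 199715) .leaf) (37518, 0, 17, 165187) (.node .leaf (37519, 0, 17, 4033) .leaf)) (37522, 0, 17, 188845) (.node (.node .leaf (37523,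 0, 16, 131531) .leaf) (37524, 0, 16, 231595) (.node .leaf (37525, 0, 19, 223437) .leaf)))) (37530, 0, 17, 155396) (.node (.node (.node (.node .leaf (37531, 0, 18, 9299) .leaf) (37532, 0, 14, 247915) (.node .leaf (37533, 0, 16, 102725) .leaf)) (37538, 0, 15, 114276) (.node (.node .leaf (37539, 0, 17, 255818) .leaf) (37540, 0, 14, 10507) (.node .leaf (37541, 0, 15, 159781) .leaf))) (37546, 0, 16, 87288) (.node (.node (.node .leaf (37547, 0, 16, 200150) .leaf) (37548, 0, 14, 56979) (.node .leaf (37549, 0, 15, 170681) .leaf)) (37552, 0, 12, 47741) (.node (.node .leaf (37553, 0, 15, 23067) .leaf) (37558, 0, 17, 119675) (.node .leaf (37559, 0, 17, 78621) .leaf))))))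

/-- part of the orbit tree -/
def itp1_71 : Tree := (.node (.node (.node (.node (.node (.node .leaf (37561, 0, 16, 168786) .leaf) (37566, 0, 16, 89363) (.node .leaf (37567, 0, 14, 202373) .leaf)) (37568, 0, 6, 172891) (.node (.node .leaf (37569, 0, 16, 148285) .leaf) (37574, 0, 14, 189689) (.node .leaf (37575, 0, 13, 48599) .leaf))) (37576, 0, 18, 235786) (.node (.node (.node .leaf (37577, 0, 17, 114724) .leaf) (37582, 0, 16, 126917) (.node .leaf (37583, 0, 15, 22347) .leaf)) (37586, 0, 17, 191762) (.node (.node .leaf (37587, 0, 17, 93005) .leaf) (37588, 0, 18, 57901) (.node .leaf (37589, 0, 17, 587) .leaf)))) (37594, 0, 17, 241331) (.node (.node (.node (.node .leaf (37595, 0, 14, 216789) .leaf) (37596, 0, 17, 233697) (.node .leaf (37597, 0, 17, 141267) .leaf)) (37602, 0, 17, 124654) (.node (.node .leaf (37603, 0, 15, 6381) .leaf) (37604, 0, 16, 29057) (.node .leaf (37605, 0, 18, 94699) .leaf))) (37610, 0, 15, 187667) (.node (.node (.node .leaf (37611, 0, 18, 146805) .leaf) (37612, 0, 15, 39709)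 (.node .leaf (37613, 0, 14, 218227) .leaf)) (37616, 0, 13, 30826) (.node (.node .leaf (37617, 0, 17, 209053) .leaf) (37622, 0, 18, 126725) (.node .leaf (37623, 0, 17, 154011) .leaf))))) (37624, 0, 17, 128355) (.node (.node (.node (.node (.node .leaf (37625, 0, 17, 70917) .leaf) (37630, 0, 18, 40037) (.node .leaf (37631, 0, 17, 220343) .leaf)) (37632, 0, 16, 31894) (.node (.node .leaf (37633, 0, 15, 7365) .leaf) (37638, 0, 15, 103845) (.node .leaf (37639, 0, 18, 95683) .leaf))) (37640, 0, 12, 38410) (.node (.node (.node .leaf (37641, 0, 16, 184100) .leaf) (37646, 0, 15, 65893) (.node .leaf (37647, 0, 17, 217179) .leaf)) (37650, 0, 14, 251091) (.node (.node .leaf (37651, 0, 16, 210101) .leaf) (37652, 0, 15, 179669) (.node .leaf (37653, 0, 14, 142419) .leaf)))) (37658, 0, 18, 127307) (.node (.node (.node (.node .leaf (37659, 0, 14, 217504) .leaf) (37660, 0, 13, 40929) (.node .leaf (37661, 0, 16, 30763) .leaf)) (37666, 0, 18, 173939) (.node (.node .leaf (37667, 0, 17, 149269) .leaf) (37668, 0, 17, 228993)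 (.node .leaf (37669, 0, 15, 75695) .leaf))) (37674, 0, 15, 131954) (.node (.node (.node .leaf (37675, 0, 17, 23132) .leaf) (37676, 0, 17, 234525) (.node .leaf (37677, 0, 18, 68491) .leaf)) (37680, 0, 17, 102147) (.node (.node .leaf (37681, 0, 7, 94053) .leaf) (37686, 0, 11, 58885) (.node .leaf (37687, 0, 14, 47403) .leaf))))))

/-- part of the orbit tree -/
def itp1_72 : Tree := (.node (.node (.node (.node (.node (.node .leaf (37689, 0, 18, 115928) .leaf) (37694, 0, 17, 181149) (.node .leaf (37695, 0, 15, 21431) .leaf)) (37696, 0, 18, 235045) (.node (.node .leaf (37697, 0, 14, 163122) .leaf) (37702, 0, 17, 196387) (.node .leaf (37703, 0, 18, 139077) .leaf))) (37704, 0, 15, 52864) (.node (.node (.node .leaf (37705, 0, 15, 169902) .leaf) (37710, 0, 14, 88559) (.node .leaf (37711, 0, 14, 196801) .leaf)) (37714, 0, 16, 113304) (.node (.node .leaf (37715, 0, 16, 254902) .leaf) (37716, 0, 13, 11767) (.node .leaf (37717, 0, 9, 79669) .leaf)))) (37722, 0, 12, 170957) (.node (.node (.node (.node .leaf (37723,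 0, 15, 162731) .leaf) (37724, 0, 15, 51051) (.node .leaf (37725, 0, 17, 201389) .leaf)) (37730, 0, 15, 176484) (.node (.node .leaf (37731, 0, 13, 77203) .leaf) (37732, 0, 17, 42227) (.node .leaf (37733, 0, 18, 98085) .leaf))) (37738, 0, 16, 256109) (.node (.node (.node .leaf (37739, 0, 18, 726) .leaf) (37740, 0, 15, 248983) (.node .leaf (37741, 0, 13, 155917) .leaf)) (37744, 0, 16, 189829) (.node (.node .leaf (37745, 0, 18, 132579) .leaf) (37750, 0, 18, 232579) (.node .leaf (37751, 0, 15, 224485) .leaf))))) (37752, 0, 18, 247164) (.node (.node (.node (.node (.node .leaf (37753, 0, 16, 8315) .leaf) (37758, 0, 16, 108827) (.node .leaf (37759, 0, 17, 84349) .leaf)) (37762, 0, 14, 211852) (.node (.node .leaf (37763, 0, 13, 252906) .leaf) (37764, 0, 16, 152202) (.node .leaf (37765, 0, 17, 256716) .leaf))) (37770, 0, 16, 52753) (.node (.node (.node .leaf (37771, 0, 17, 130674) .leaf) (37772, 0, 13, 88446) (.node .leaf (37773, 0, 17, 196688) .leaf)) (37776, 0, 16, 113161) (.node (.node .leaf (37777, 0, 15,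 254759) .leaf) (37782, 0, 17, 11622) (.node .leaf (37783, 0, 16, 105116) .leaf)))) (37784, 0, 18, 86165) (.node (.node (.node (.node .leaf (37785, 0, 17, 185858) .leaf) (37790, 0, 16, 51194) (.node .leaf (37791, 0, 12, 245508) .leaf)) (37792, 0, 15, 90204) (.node (.node .leaf (37793, 0, 16, 98362) .leaf) (37798, 0, 14, 2394) (.node .leaf (37799, 0, 16, 98228) .leaf))) (37800, 0, 19, 154473) (.node (.node (.node .leaf (37801, 0, 17, 239010) .leaf) (37806, 0, 17, 142530) (.node .leaf (37807, 0, 14, 183460) .leaf)) (37810, 0, 17, 149548) (.node (.node .leaf (37811, 0, 18, 174154) .leaf) (37812, 0, 17, 205098) .leaf)))))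

/-- part of the orbit tree -/
def itp1_73 : Tree := (.node itp1_69 (37434, 0, 16, 37479) itp1_70)

/-- part of the orbit tree -/
def itp1_74 : Tree := (.node itp1_71 (37688, 0, 17, 240283) itp1_72)

/-- part of the orbit tree -/
def itp1_75 : Tree := (.node itp1_67 (37049, 0, 17, 152563) itp1_68)

/-- part of the orbit tree -/
def itp1_76 : Tree := (.node itp1_73 (37560, 0, 16, 51836) itp1_74)

/-- part of the orbit tree -/
def itp1_77 : Tree := (.node (.node (.node (.node (.node (.node .leaf (37818, 0, 18, 28084) .leaf) (37819, 0, 14, 105667) (.node .leaf (37820, 0, 16, 152194) .leaf)) (37821, 0, 12, 124116) (.node (.node .leaf (37826, 0, 17, 20746) .leaf) (37827, 0, 14, 140585) (.node .leaf (37828, 0, 18, 79884) .leaf))) (37829, 0, 18, 120938) (.node (.node (.node .leaf (37834, 0, 16, 160914) .leaf) (37835, 0, 15, 184245) (.node .leaf (37836, 0, 17, 204180) .leaf)) (37837, 0, 16, 219354) (.node (.node .leaf (37840, 0, 15, 227706) .leaf) (37841, 0, 16, 235804) (.node .leaf (37846, 0, 16, 30188)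 .leaf)))) (37847, 0, 17, 142530) (.node (.node (.node (.node .leaf (37848, 0, 12, 89314) .leaf) (37849, 0, 14, 217393) (.node .leaf (37854, 0, 14, 40816) .leaf)) (37855, 0, 18, 181854) (.node (.node .leaf (37856, 0, 14, 133850) .leaf) (37857, 0, 19, 191164) (.node .leaf (37862, 0, 15, 228880) .leaf))) (37863, 0, 17, 230330) (.node (.node (.node .leaf (37864, 0, 16, 12098) .leaf) (37865, 0, 17, 53028) (.node .leaf (37870, 0, 17, 234636) .leaf)) (37871, 0, 18, 118178) (.node (.node .leaf (37874, 0, 14, 227323) .leaf) (37875, 0, 16, 115404) (.node .leaf (37876, 0, 18, 188564) .leaf))))) (37877, 0, 16, 43978) (.node (.node (.node (.node (.node .leaf (37882, 0, 13, 198450) .leaf) (37883, 0, 18, 115785) (.node .leaf (37884, 0, 15, 159284) .leaf)) (37885, 0, 16, 21286) (.node (.node .leaf (37889, 0, 15, 165993) .leaf) (37891, 0, 17, 251980) (.node .leaf (37892, 0, 16, 126128) .leaf))) (37894, 0, 16, 196873) (.node (.node (.node .leaf (37897, 0, 18, 44529) .leaf) (37899, 0, 17, 130516) (.node .leaf (37900,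 0, 17, 67116) .leaf)) (37902, 0, 17, 192094) (.node (.node .leaf (37904, 0, 15, 4186) .leaf) (37906, 0, 16, 82047) (.node .leaf (37909, 0, 17, 51487) .leaf)))) (37911, 0, 16, 142106) (.node (.node (.node (.node .leaf (37912, 0, 15, 69575) .leaf) (37914, 0, 16, 222695) (.node .leaf (37917, 0, 16, 191623) .leaf)) (37919, 0, 14, 244898) (.node (.node .leaf (37920, 0, 15, 91130) .leaf) (37922, 0, 16, 13279) (.node .leaf (37925, 0, 15, 182420) .leaf))) (37927, 0, 17, 60058) (.node (.node (.node .leaf (37928, 0, 16, 132155) .leaf) (37930, 0, 16, 126025) (.node .leaf (37933, 0, 16, 139784) .leaf)) (37935, 0, 18, 117370) (.node (.node .leaf (37937, 0, 17, 180607) .leaf) (37939, 0, 14, 175084) (.node .leaf (37940, 0, 17, 205452) .leaf))))))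

/-- part of the orbit tree -/
def itp1_78 : Tree := (.node (.node (.node (.node (.node (.node .leaf (37945, 0, 16, 122449) .leaf) (37947, 0, 15, 115601) (.node .leaf (37948, 0, 16, 134608) .leaf)) (37950, 0, 16, 22321) (.node (.node .leaf (37953, 0, 16, 123631) .leaf) (37955, 0, 17, 162427) (.node .leaf (37956, 0, 17, 111674) .leaf))) (37958, 0, 17, 154696) (.node (.node (.node .leaf (37961, 0, 14, 247671) .leaf) (37963, 0, 17, 169810) (.node .leaf (37964, 0, 14, 89766) .leaf)) (37966, 0, 15, 151063) (.node (.node .leaf (37968, 0, 18, 114129) .leaf) (37970, 0, 17, 152995) (.node .leaf (37973, 0, 16, 105442) .leaf)))) (37975, 0, 17, 193468) (.node (.node (.node (.node .leaf (37976, 0, 17, 87885) .leaf) (37978, 0, 18, 180031) (.node .leaf (37981, 0, 14, 94590) .leaf)) (37983, 0, 16, 170252) (.node (.node .leaf (37984, 0, 16, 177709) .leaf) (37986, 0, 15, 89695) (.node .leaf (37989, 0, 15, 167966) .leaf))) (37991, 0, 12, 96364) (.node (.node (.node .leaf (37992, 0, 17, 11492) .leaf) (37994, 0, 17, 97473)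 (.node .leaf (37997, 0, 15, 62881) .leaf)) (37999, 0, 17, 107908) (.node (.node .leaf (38001, 0, 15, 37199) .leaf) (38003, 0, 16, 94599) (.node .leaf (38004, 0, 14, 18442) .leaf))))) (38006, 0, 12, 71727) (.node (.node (.node (.node (.node .leaf (38009, 0, 13, 177367) .leaf) (38011, 0, 17, 255218) (.node .leaf (38012, 0, 17, 159122) .leaf)) (38014, 0, 13, 113960) (.node (.node .leaf (38016, 0, 17, 9156) .leaf) (38018, 0, 17, 248758) (.node .leaf (38021, 0, 17, 1527) .leaf))) (38023, 0, 14, 95845) (.node (.node (.node .leaf (38024, 0, 16, 51544) .leaf) (38026, 0, 17, 205098) (.node .leaf (38029, 0, 16, 132056) .leaf)) (38031, 0, 18, 198425) (.node (.node .leaf (38033, 0, 14, 157494) .leaf) (38035, 0, 16, 255086) (.node .leaf (38036, 0, 13, 179827) .leaf)))) (38038, 0, 13, 246365) (.node (.node (.node (.node .leaf (38041, 0, 15, 17070) .leaf) (38043, 0, 17, 70283) (.node .leaf (38044, 0, 16, 49331) .leaf)) (38046, 0, 14, 207041) (.node (.node .leaf (38049, 0, 19, 201878) .leaf) (38051, 0, 18, 61330)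 (.node .leaf (38052, 0, 18, 205267) .leaf))) (38054, 0, 18, 51617) (.node (.node (.node .leaf (38057, 0, 17, 257404) .leaf) (38059, 0, 16, 24875) (.node .leaf (38060, 0, 17, 125003) .leaf)) (38062, 0, 15, 47214) (.node (.node .leaf (38064, 0, 16, 206904) .leaf) (38066, 0, 14, 56448) (.node .leaf (38069, 0, 16, 200203) .leaf))))))

/-- part of the orbit tree -/
def itp1_79 : Tree := (.node (.node (.node (.node (.node (.node .leaf (38072, 0, 17, 239933) .leaf) (38074, 0, 14, 10966) (.node .leaf (38077, 0, 16, 255127) .leaf)) (38079, 0, 18, 3301) (.node (.node .leaf (38080, 0, 16, 234883) .leaf) (38082, 0, 12, 181670) (.node .leaf (38085, 0, 17, 216262) .leaf))) (38087, 0, 15, 242959) (.node (.node (.node .leaf (38088, 0, 13, 37330) .leaf) (38090, 0, 11, 227744) (.node .leaf (38093, 0, 18, 92510) .leaf)) (38095, 0, 18, 221075) (.node (.node .leaf (38097, 0, 13, 21654) .leaf) (38099, 0, 17, 23957) (.node .leaf (38100, 0, 17, 29349) .leaf)))) (38102, 0, 14, 34000) (.node (.node (.node (.node .leaf (38105,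 0, 17, 206888) .leaf) (38107, 0, 15, 218744) (.node .leaf (38108, 0, 12, 38969) .leaf)) (38110, 0, 14, 225355) (.node (.node .leaf (38113, 0, 14, 221034) .leaf) (38115, 0, 16, 77365) (.node .leaf (38116, 0, 18, 227673) .leaf))) (38118, 0, 16, 37163) (.node (.node (.node .leaf (38121, 0, 18, 154504) .leaf) (38123, 0, 15, 199597) (.node .leaf (38124, 0, 15, 164557) .leaf)) (38126, 0, 12, 31671) (.node (.node .leaf (38128, 0, 14, 225458) .leaf) (38130, 0, 15, 243206) (.node .leaf (38133, 0, 14, 147302) .leaf))))) (38135, 0, 17, 48883) (.node (.node (.node (.node (.node .leaf (38136, 0, 17, 236078) .leaf) (38138, 0, 17, 29276) (.node .leaf (38141, 0, 15, 6910) .leaf)) (38143, 0, 16, 21615) (.node (.node .leaf (38144, 0, 18, 117371) .leaf) (38146, 0, 13, 39996) (.node .leaf (38149, 0, 13, 70462) .leaf))) (38151, 0, 16, 47631) (.node (.node (.node .leaf (38152, 0, 13, 258019) .leaf) (38154, 0, 18, 30368) (.node .leaf (38157, 0, 16, 210598) .leaf)) (38159, 0, 16, 157315) (.node (.node .leaf (38161, 0, 15,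 217672) .leaf) (38163, 0, 18, 131693) (.node .leaf (38164, 0, 13, 228773) .leaf)))) (38166, 0, 14, 38359) (.node (.node (.node (.node .leaf (38169, 0, 17, 96208) .leaf) (38171, 0, 18, 22904) (.node .leaf (38172, 0, 16, 110229) .leaf)) (38174, 0, 15, 32587) (.node (.node .leaf (38177, 0, 14, 20586) .leaf) (38179, 0, 15, 243736) (.node .leaf (38180, 0, 17, 194733) .leaf))) (38182, 0, 18, 239752) (.node (.node (.node .leaf (38185, 0, 7, 1136) .leaf) (38187, 0, 15, 87125) (.node .leaf (38188, 0, 17, 56629) .leaf)) (38190, 0, 17, 101648) (.node (.node .leaf (38192, 0, 13, 32690) .leaf) (38194, 0, 16, 125438) (.node .leaf (38197, 0, 16, 22913) .leaf))))))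

/-- part of the orbit tree -/
def itp1_80 : Tree := (.node (.node (.node (.node (.node (.node .leaf (38200, 0, 15, 171075) .leaf) (38202, 0, 16, 248934) (.node .leaf (38205, 0, 16, 148742) .leaf)) (38207, 0, 16, 202019) (.node (.node .leaf (38208, 0, 16, 208068) .leaf) (38210, 0, 15, 50358) (.node .leaf (38213, 0, 17, 199415) .leaf))) (38215, 0, 14, 207261) (.node (.node (.node .leaf (38216, 0, 15, 34149) .leaf) (38218, 0, 18, 120128) (.node .leaf (38221, 0, 18, 254059) .leaf)) (38223, 0, 17, 2073) (.node (.node .leaf (38225, 0, 17, 197404) .leaf) (38227, 0, 16, 92395) (.node .leaf (38228, 0, 13, 206127) .leaf)))) (38230, 0, 15, 52573) (.node (.node (.node (.node .leaf (38233, 0, 18, 256384) .leaf) (38235, 0, 18, 216435) (.node .leaf (38236, 0, 16, 181267) .leaf)) (38238, 0, 12, 10177) (.node (.node .leaf (38241, 0, 14, 2272) .leaf) (38243, 0, 16, 6987) (.node .leaf (38244, 0, 14, 11987) .leaf))) (38246, 0, 16, 49678) (.node (.node (.node .leaf (38249, 0, 13, 225014) .leaf) (38251, 0, 15, 147155)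 (.node .leaf (38252, 0, 15, 50255) .leaf)) (38254, 0, 16, 190358) (.node (.node .leaf (38256, 0, 18, 10040) .leaf) (38258, 0, 15, 164728) (.node .leaf (38261, 0, 15, 199192) .leaf))))) (38263, 0, 15, 256377) (.node (.node (.node (.node (.node .leaf (38264, 0, 17, 52644) .leaf) (38266, 0, 14, 42720) (.node .leaf (38269, 0, 17, 60311) .leaf)) (38271, 0, 16, 197605) (.node (.node .leaf (38273, 0, 17, 245015) .leaf) (38275, 0, 15, 95611) (.node .leaf (38276, 0, 14, 179002) .leaf))) (38278, 0, 18, 144503) (.node (.node (.node .leaf (38281, 0, 16, 161685) .leaf) (38283, 0, 16, 106471) (.node .leaf (38284, 0, 16, 151974) .leaf)) (38286, 0, 15, 4591) (.node (.node .leaf (38288, 0, 18, 75044) .leaf) (38290, 0, 17, 88739) (.node .leaf (38293, 0, 16, 169186) .leaf)))) (38295, 0, 14, 44100) (.node (.node (.node (.node .leaf (38296, 0, 18, 153677) .leaf) (38298, 0, 16, 151705) (.node .leaf (38301, 0, 16, 163454) .leaf)) (38303, 0, 16, 103948) (.node (.node .leaf (38304, 0, 18, 22148) .leaf) (38306, 0, 17, 67233)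 (.node .leaf (38309, 0, 14, 36801) .leaf))) (38311, 0, 14, 161644) (.node (.node (.node .leaf (38312, 0, 15, 86961) .leaf) (38314, 0, 15, 205625) (.node .leaf (38317, 0, 13, 95618) .leaf)) (38319, 0, 18, 260732) (.node (.node .leaf (38321, 0, 16, 104181) .leaf) (38323, 0, 15, 237202) (.node .leaf (38324, 0, 17, 137202) .leaf))))))

/-- part of the orbit tree -/
def itp1_81 : Tree := (.node itp1_77 (37942, 0, 13, 69438) itp1_78)

/-- part of the orbit tree -/
def itp1_82 : Tree := (.node itp1_79 (38199, 0, 14, 242163) itp1_80)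

/-- part of the orbit tree -/
def itp1_83 : Tree := (.node (.node (.node (.node (.node (.node .leaf (38329, 0, 16, 60207) .leaf) (38331, 0, 17, 113418) (.node .leaf (38332, 0, 18, 12906) .leaf)) (38334, 0, 13, 90703) (.node (.node .leaf (38337, 0, 13, 55185) .leaf) (38339, 0, 16, 100276) (.node .leaf (38340, 0, 16, 3796) .leaf))) (38342, 0, 15, 68546) (.node (.node (.node .leaf (38345, 0, 17, 193033) .leaf) (38347, 0, 16, 238124) (.node .leaf (38348, 0, 17, 142156) .leaf)) (38350, 0, 16, 228201) (.node (.node .leaf (38352, 0, 17, 151458) .leaf) (38354, 0, 16, 204679) (.node .leaf (38357, 0, 10, 183400) .leaf)))) (38359, 0, 13, 247490) (.node (.node (.node (.node .leaf (38360, 0, 17, 27194) .leaf) (38362, 0, 17, 80415) (.node .leaf (38365, 0, 18, 45951) .leaf)) (38367, 0, 12, 123738) (.node (.node .leaf (38368, 0, 16, 211970) .leaf) (38370, 0, 14, 133589) (.node .leaf (38373, 0, 13, 255303) .leaf))) (38375, 0, 14, 143334) (.node (.node (.node .leaf (38376, 0, 17, 72090) .leaf) (38378, 0, 13, 189257)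 (.node .leaf (38381, 0, 16, 114911) .leaf)) (38383, 0, 16, 37114) (.node (.node .leaf (38385, 0, 14, 107569) .leaf) (38387, 0, 18, 140813) (.node .leaf (38388, 0, 15, 97652) .leaf))))) (38390, 0, 16, 11601) (.node (.node (.node (.node (.node .leaf (38393, 0, 17, 74979) .leaf) (38395, 0, 15, 184716) (.node .leaf (38396, 0, 16, 66256) .leaf)) (38398, 0, 19, 133321) (.node (.node .leaf (38400, 0, 17, 148607) .leaf) (38401, 0, 18, 173081) (.node .leaf (38402, 0, 19, 201818) .leaf))) (38403, 0, 14, 141277) (.node (.node (.node .leaf (38408, 0, 14, 25063) .leaf) (38409, 0, 17, 75059) (.node .leaf (38410, 0, 11, 78274) .leaf)) (38411, 0, 13, 119204) (.node (.node .leaf (38420, 0, 16, 1289) .leaf) (38421, 0, 16, 58735) (.node .leaf (38422, 0, 15, 30488) .leaf)))) (38423, 0, 18, 111946) (.node (.node (.node (.node .leaf (38428, 0, 16, 139409) .leaf) (38429, 0, 19, 77016) (.node .leaf (38430, 0, 16, 40324) .leaf)) (38431, 0, 18, 233682) (.node (.node .leaf (38436, 0, 14, 38038) .leaf) (38437, 0, 17, 104143)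 (.node .leaf (38438, 0, 15, 9868) .leaf))) (38439, 0, 15, 75210) (.node (.node (.node .leaf (38444, 0, 15, 32266) .leaf) (38445, 0, 11, 242519) (.node .leaf (38446, 0, 16, 131860) .leaf)) (38447, 0, 14, 118614) (.node (.node .leaf (38448, 0, 17, 210911) .leaf) (38449, 0, 15, 181331) (.node .leaf (38450, 0, 16, 157690) .leaf))))))

/-- part of the orbit tree -/
def itp1_84 : Tree := (.node (.node (.node (.node (.node (.node .leaf (38456, 0, 17, 70215) .leaf) (38457, 0, 17, 143055) (.node .leaf (38458, 0, 16, 237459) .leaf)) (38459, 0, 13, 116413) (.node (.node .leaf (38464, 0, 18, 249355) .leaf) (38465, 0, 17, 118431) (.node .leaf (38466, 0, 15, 9849) .leaf))) (38467, 0, 17, 40634) (.node (.node (.node .leaf (38472, 0, 18, 199521) .leaf) (38473, 0, 17, 97721) (.node .leaf (38474, 0, 17, 52453) .leaf)) (38475, 0, 18, 169419) (.node (.node .leaf (38484, 0, 15, 225167) .leaf) (38485, 0, 15, 106190) (.node .leaf (38486, 0, 17, 12178) .leaf)))) (38487, 0, 15, 188364) (.node (.node (.node (.node .leaf (38492,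 0, 13, 208252) .leaf) (38493, 0, 17, 109169) (.node .leaf (38494, 0, 14, 50446) .leaf)) (38495, 0, 18, 64084) (.node (.node .leaf (38500, 0, 16, 138287) .leaf) (38501, 0, 16, 195657) (.node .leaf (38502, 0, 15, 205934) .leaf))) (38503, 0, 17, 240748) (.node (.node (.node .leaf (38508, 0, 12, 9856) .leaf) (38509, 0, 18, 55761) (.node .leaf (38510, 0, 17, 92562) .leaf)) (38511, 0, 18, 100852) (.node (.node .leaf (38512, 0, 16, 50679) .leaf) (38513, 0, 18, 48447) (.node .leaf (38514, 0, 15, 68988) .leaf))))) (38515, 0, 15, 95403) (.node (.node (.node (.node (.node .leaf (38520, 0, 17, 161985) .leaf) (38521, 0, 11, 170151) (.node .leaf (38522, 0, 17, 247577) .leaf)) (38523, 0, 16, 247938) (.node (.node .leaf (38532, 0, 14, 154101) .leaf) (38533, 0, 16, 2608) (.node .leaf (38534, 0, 16, 110983) .leaf))) (38535, 0, 16, 88597) (.node (.node (.node .leaf (38540, 0, 16, 177001) .leaf) (38541, 0, 17, 143272) (.node .leaf (38542, 0, 16, 237547) .leaf)) (38543, 0, 17, 229261) (.node (.node .leaf (38544, 0, 15,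 174880) .leaf) (38545, 0, 15, 2352) (.node .leaf (38546, 0, 18, 112748) .leaf)))) (38547, 0, 12, 254274) (.node (.node (.node (.node .leaf (38552, 0, 15, 36536) .leaf) (38553, 0, 16, 58284) (.node .leaf (38554, 0, 16, 86768) .leaf)) (38555, 0, 18, 199646) (.node (.node .leaf (38560, 0, 17, 252032) .leaf) (38561, 0, 17, 211174) (.node .leaf (38562, 0, 16, 166053) .leaf))) (38563, 0, 17, 60094) (.node (.node (.node .leaf (38568, 0, 16, 130328) .leaf) (38569, 0, 18, 256080) (.node .leaf (38570, 0, 15, 153868) .leaf)) (38571, 0, 17, 19803) (.node (.node .leaf (38580, 0, 14, 104950) .leaf) (38581, 0, 16, 96656) (.node .leaf (38582, 0, 16, 51667) .leaf))))))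

/-- part of the orbit tree -/
def itp1_85 : Tree := (.node (.node (.node (.node (.node (.node .leaf (38588, 0, 14, 112789) .leaf) (38589, 0, 16, 220168) (.node .leaf (38590, 0, 17, 151783) .leaf)) (38591, 0, 16, 134189) (.node (.node .leaf (38596, 0, 15, 229584) .leaf) (38597, 0, 10, 22609) (.node .leaf (38598, 0, 16, 184565) .leaf))) (38599, 0, 15, 241699) (.node (.node (.node .leaf (38604, 0, 16, 107848) .leaf) (38605, 0, 17, 45773) (.node .leaf (38606, 0, 14, 66449) .leaf)) (38607, 0, 12, 5387) (.node (.node .leaf (38608, 0, 16, 115110) .leaf) (38609, 0, 17, 74176) (.node .leaf (38610, 0, 16, 123110) .leaf)))) (38611, 0, 17, 244168) (.node (.node (.node (.node .leaf (38616, 0, 15, 255038) .leaf) (38617, 0, 17, 47910) (.node .leaf (38618, 0, 15, 68218) .leaf)) (38619, 0, 17, 217940) (.node (.node .leaf (38624, 0, 16, 45574) .leaf) (38625, 0, 15, 219718) (.node .leaf (38626, 0, 18, 191258) .leaf))) (38627, 0, 16, 45620) (.node (.node (.node .leaf (38632, 0, 18, 169886) .leaf) (38633, 0, 15, 241882)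 (.node .leaf (38634, 0, 15, 247739) .leaf)) (38635, 0, 14, 206813) (.node (.node .leaf (38644, 0, 15, 193392) .leaf) (38645, 0, 18, 135958) (.node .leaf (38646, 0, 16, 238421) .leaf))))) (38647, 0, 11, 213811) (.node (.node (.node (.node (.node .leaf (38652, 0, 15, 55016) .leaf) (38653, 0, 16, 244017) (.node .leaf (38654, 0, 14, 100045) .leaf)) (38655, 0, 17, 20803) (.node (.node .leaf (38660, 0, 13, 69247) .leaf) (38661, 0, 16, 81742) (.node .leaf (38662, 0, 16, 36621) .leaf))) (38663, 0, 17, 28523) (.node (.node (.node .leaf (38668, 0, 9, 260784) .leaf) (38669, 0, 12, 203478) (.node .leaf (38670, 0, 15, 174741) .leaf)) (38671, 0, 18, 21951) (.node (.node .leaf (38672, 0, 17, 237150) .leaf) (38673, 0, 16, 228920) (.node .leaf (38674, 0, 13, 192486) .leaf)))) (38675, 0, 16, 142877) (.node (.node (.node (.node .leaf (38680, 0, 15, 113606) .leaf) (38681, 0, 16, 88992) (.node .leaf (38682, 0, 15, 60387) .leaf)) (38683, 0, 17, 23636) (.node (.node .leaf (38688, 0, 17, 191998) .leaf) (38689, 0, 16, 21830)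 (.node .leaf (38690, 0, 17, 123930) .leaf))) (38691, 0, 13, 220605) (.node (.node (.node .leaf (38696, 0, 15, 190196) .leaf) (38697, 0, 18, 10240) (.node .leaf (38698, 0, 10, 104515) .leaf)) (38699, 0, 19, 96293) (.node (.node .leaf (38708, 0, 16, 44168) .leaf) (38709, 0, 15, 19694) (.node .leaf (38710, 0, 17, 130221) .leaf))))))

/-- part of the orbit tree -/
def itp1_86 : Tree := (.node (.node (.node (.node (.node (.node .leaf (38716, 0, 17, 166160) .leaf) (38717, 0, 18, 158070) (.node .leaf (38718, 0, 17, 67437) .leaf)) (38719, 0, 16, 211283) (.node (.node .leaf (38724, 0, 12, 177582) .leaf) (38725, 0, 16, 200667) (.node .leaf (38726, 0, 13, 179847) .leaf))) (38727, 0, 14, 198125) (.node (.node (.node .leaf (38732, 0, 15, 36918) .leaf) (38733, 0, 13, 255303) (.node .leaf (38734, 0, 14, 114707) .leaf)) (38735, 0, 15, 73845) (.node (.node .leaf (38736, 0, 15, 62680) .leaf) (38737, 0, 15, 5310) (.node .leaf (38738, 0, 14, 178028) .leaf)))) (38739, 0, 14, 60994) (.node (.node (.node (.node .leaf (38744,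 0, 16, 112002) .leaf) (38745, 0, 17, 257196) (.node .leaf (38746, 0, 11, 229733) .leaf)) (38747, 0, 14, 1246) (.node (.node .leaf (38752, 0, 18, 100216) .leaf) (38753, 0, 17, 3532) (.node .leaf (38754, 0, 15, 55133) .leaf))) (38755, 0, 16, 255422) (.node (.node (.node .leaf (38760, 0, 16, 179838) .leaf) (38761, 0, 17, 59216) (.node .leaf (38762, 0, 16, 87564) .leaf)) (38763, 0, 15, 200482) (.node (.node .leaf (38772, 0, 17, 247310) .leaf) (38773, 0, 17, 1063) (.node .leaf (38774, 0, 11, 169515) .leaf))))) (38775, 0, 15, 257109) (.node (.node (.node (.node (.node .leaf (38780, 0, 16, 123798) .leaf) (38781, 0, 14, 66544) (.node .leaf (38782, 0, 14, 46003) .leaf)) (38783, 0, 18, 21461) (.node (.node .leaf (38784, 0, 17, 225537) .leaf) (38785, 0, 15, 233831) (.node .leaf (38786, 0, 16, 139556) .leaf))) (38787, 0, 18, 94295) (.node (.node (.node .leaf (38792, 0, 12, 87193) .leaf) (38793, 0, 17, 160441) (.node .leaf (38794, 0, 18, 1212) .leaf)) (38795, 0, 16, 105163) (.node (.node .leaf (38804, 0, 14, 51424)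 .leaf) (38805, 0, 18, 168398) (.node .leaf (38806, 0, 15, 24658) .leaf)))) (38807, 0, 13, 32820) (.node (.node (.node (.node .leaf (38812, 0, 15, 202223) .leaf) (38813, 0, 17, 259465) (.node .leaf (38814, 0, 16, 148938) .leaf)) (38815, 0, 19, 103200) (.node (.node .leaf (38820, 0, 14, 246556) .leaf) (38821, 0, 17, 41905) (.node .leaf (38822, 0, 16, 70642) .leaf))) (38823, 0, 14, 160320) (.node (.node (.node .leaf (38828, 0, 16, 207232) .leaf) (38829, 0, 15, 165417) (.node .leaf (38830, 0, 16, 210538) .leaf)) (38831, 0, 16, 170204) (.node (.node .leaf (38832, 0, 13, 131745) .leaf) (38833, 0, 16, 189127) .leaf)))))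

/-- part of the orbit tree -/
def itp1_87 : Tree := (.node itp1_83 (38451, 0, 15, 165788) itp1_84)

/-- part of the orbit tree -/
def itp1_88 : Tree := (.node itp1_85 (38711, 0, 17, 242911) itp1_86)

/-- part of the orbit tree -/
def itp1_89 : Tree := (.node itp1_81 (38071, 0, 16, 59001) itp1_82)

/-- part of the orbit tree -/
def itp1_90 : Tree := (.node itp1_87 (38583, 0, 17, 58197) itp1_88)

/-- part of the orbit tree -/
def itp1_91 : Tree := (.node itp1_75 (37304, 0, 18, 70113) itp1_76)

/-- part of the orbit tree -/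
def itp1_92 : Tree := (.node itp1_89 (38326, 0, 14, 214999) itp1_90)

/-- part of the orbit tree -/
def itp1_93 : Tree := (.node (.node (.node (.node (.node (.node .leaf (38835, 0, 14, 242402) .leaf) (38840, 0, 14, 10041) (.node .leaf (38841, 0, 16, 51039) .leaf)) (38842, 0, 17, 51225) (.node (.node .leaf (38843, 0, 18, 104314) .leaf) (38848, 0, 15, 39297) (.node .leaf (38849, 0, 17, 64481) .leaf))) (38850, 0, 18, 84898) (.node (.node (.node .leaf (38851, 0, 16, 75997) .leaf) (38856, 0, 17, 146975) (.node .leaf (38857, 0, 16, 141875) .leaf)) (38858, 0, 17, 224826) (.node (.node .leaf (38859, 0, 17, 115265) .leaf) (38868, 0, 14, 36970) (.node .leaf (38869, 0, 15, 182596) .leaf)))) (38870, 0, 17, 227352) (.node (.node (.node (.node .leaf (38871, 0, 14, 256690) .leaf) (38876, 0, 16, 31478) (.node .leaf (38877, 0, 11, 40719) .leaf)) (38878, 0, 17, 77644) (.node (.node .leaf (38879, 0, 17, 118570) .leaf) (38884, 0, 17, 207185) (.node .leaf (38885, 0, 16, 115384) .leaf))) (38886, 0, 16, 29668) (.node (.node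 (.node .leaf (38887, 0, 17, 170258) .leaf) (38892, 0, 16, 225546) (.node .leaf (38893, 0, 14, 126127) .leaf)) (38894, 0, 13, 23788) (.node (.node .leaf (38895, 0, 15, 180310) .leaf) (38896, 0, 18, 234109) (.node .leaf (38897, 0, 12, 117587) .leaf))))) (38898, 0, 16, 14338) (.node (.node (.node (.node (.node .leaf (38899, 0, 15, 55396) .leaf) (38904, 0, 15, 227553) (.node .leaf (38905, 0, 14, 241113) .leaf)) (38906, 0, 13, 37011) (.node (.node .leaf (38907, 0, 16, 196092) .leaf) (38913, 0, 17, 126173) (.node .leaf (38914, 0, 16, 23710) .leaf))) (38917, 0, 15, 120318) (.node (.node (.node .leaf (38918, 0, 14, 26045) .leaf) (38921, 0, 17, 248133) (.node .leaf (38922, 0, 17, 252296) .leaf)) (38925, 0, 14, 258150) (.node (.node .leaf (38926, 0, 16, 108181) .leaf) (38928, 0, 16, 175504) (.node .leaf (38931, 0, 15, 181421) .leaf)))) (38932, 0, 17, 53901) (.node (.node (.node (.node .leaf (38935, 0, 16, 91089) .leaf) (38936, 0, 15, 149260) (.node .leaf (38939, 0, 16, 259664) .leaf)) (38940, 0, 17, 14353)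 (.node (.node .leaf (38943, 0, 17, 55318) .leaf) (38944, 0, 13, 132942) (.node .leaf (38947, 0, 18, 243469) .leaf))) (38948, 0, 18, 252273) (.node (.node (.node .leaf (38951, 0, 14, 233006) .leaf) (38952, 0, 17, 85232) (.node .leaf (38955, 0, 15, 64940) .leaf)) (38956, 0, 16, 209901) (.node (.node .leaf (38959, 0, 13, 109494) .leaf) (38961, 0, 15, 100788) (.node .leaf (38962, 0, 16, 14568) .leaf))))))

/-- part of the orbit tree -/
def itp1_94 : Tree := (.node (.node (.node (.node (.node (.node .leaf (38966, 0, 15, 149493) .leaf) (38969, 0, 11, 178917) (.node .leaf (38970, 0, 16, 53876) .leaf)) (38973, 0, 17, 203829) (.node (.node .leaf (38974, 0, 16, 175465) .leaf) (38977, 0, 14, 165467) (.node .leaf (38978, 0, 12, 224158) .leaf))) (38981, 0, 18, 42463) (.node (.node (.node .leaf (38982, 0, 14, 200507) .leaf) (38985, 0, 14, 143454) (.node .leaf (38986, 0, 17, 70528) .leaf)) (38989, 0, 17, 39648) (.node (.node .leaf (38990, 0, 14, 130591) .leaf) (38992, 0, 13, 193818) (.node .leaf (38995, 0, 17, 214086)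 .leaf)))) (38996, 0, 17, 35335) (.node (.node (.node (.node .leaf (38999, 0, 14, 80731) .leaf) (39000, 0, 15, 146416) (.node .leaf (39003, 0, 17, 232371) .leaf)) (39004, 0, 13, 24731) (.node (.node .leaf (39007, 0, 17, 242320) .leaf) (39008, 0, 17, 130790) (.node .leaf (39011, 0, 17, 56715) .leaf))) (39012, 0, 16, 229883) (.node (.node (.node .leaf (39015, 0, 17, 58536) .leaf) (39016, 0, 15, 70778) (.node .leaf (39019, 0, 16, 42278) .leaf)) (39020, 0, 15, 225651) (.node (.node .leaf (39023, 0, 17, 186939) .leaf) (39025, 0, 16, 259579) (.node .leaf (39026, 0, 15, 24674) .leaf))))) (39029, 0, 18, 249048) (.node (.node (.node (.node (.node .leaf (39030, 0, 14, 139135) .leaf) (39033, 0, 9, 80802) (.node .leaf (39034, 0, 16, 24608) .leaf)) (39037, 0, 17, 214207) (.node (.node .leaf (39038, 0, 14, 194019) .leaf) (39040, 0, 16, 236465) (.node .leaf (39043, 0, 15, 186963) .leaf))) (39044, 0, 17, 70674) (.node (.node (.node .leaf (39047, 0, 18, 42318) .leaf) (39048, 0, 17, 229779) (.node .leaf (39051, 0, 16,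 143567) .leaf)) (39052, 0, 17, 130702) (.node (.node .leaf (39055, 0, 18, 14153) .leaf) (39057, 0, 17, 214231) (.node .leaf (39058, 0, 18, 46017) .leaf)))) (39061, 0, 9, 80545) (.node (.node (.node (.node .leaf (39062, 0, 18, 35478) .leaf) (39065, 0, 16, 206362) (.node .leaf (39066, 0, 14, 139031) .leaf)) (39069, 0, 16, 204601) (.node (.node .leaf (39070, 0, 13, 24586) .leaf) (39073, 0, 15, 28706) (.node .leaf (39074, 0, 16, 114785) .leaf))) (39077, 0, 17, 18689) (.node (.node (.node .leaf (39078, 0, 17, 229738) .leaf) (39081, 0, 17, 42423) (.node .leaf (39082, 0, 15, 255481) .leaf)) (39085, 0, 16, 187050) (.node (.node .leaf (39086, 0, 17, 253146) .leaf) (39088, 0, 17, 190481) (.node .leaf (39091, 0, 18, 219218) .leaf))))))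

/-- part of the orbit tree -/
def itp1_95 : Tree := (.node (.node (.node (.node (.node (.node .leaf (39095, 0, 15, 241330) .leaf) (39096, 0, 17, 52617) (.node .leaf (39099, 0, 17, 80691) .leaf)) (39100, 0, 14, 62634) (.node (.node .leaf (39103, 0, 16, 83177) .leaf) (39104, 0, 18, 61751) (.node .leaf (39107, 0, 17, 82292) .leaf))) (39108, 0, 16, 85144) (.node (.node (.node .leaf (39111, 0, 18, 96343) .leaf) (39112, 0, 18, 252185) (.node .leaf (39115, 0, 18, 157765) .leaf)) (39116, 0, 14, 191884) (.node (.node .leaf (39119, 0, 14, 5976) .leaf) (39121, 0, 16, 157956) (.node .leaf (39122, 0, 14, 252231) .leaf)))) (39125, 0, 16, 151591) (.node (.node (.node (.node .leaf (39126, 0, 15, 53788) .leaf) (39129, 0, 13, 19612) (.node .leaf (39130, 0, 18, 130271) .leaf)) (39133, 0, 15, 100828) (.node (.node .leaf (39134, 0, 16, 116220) .leaf) (39137, 0, 15, 203428) (.node .leaf (39138, 0, 17, 108285) .leaf))) (39141, 0, 18, 157884) (.node (.node (.node .leaf (39142, 0, 12, 168900) .leaf) (39145, 0, 13, 64829)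 (.node .leaf (39146, 0, 17, 36735) .leaf)) (39149, 0, 15, 67103) (.node (.node .leaf (39150, 0, 16, 209788) .leaf) (39152, 0, 18, 14457) (.node .leaf (39155, 0, 16, 13012) .leaf))))) (39156, 0, 15, 149348) (.node (.node (.node (.node (.node .leaf (39159, 0, 17, 3063) .leaf) (39160, 0, 13, 53989) (.node .leaf (39163, 0, 16, 137036) .leaf)) (39164, 0, 16, 237100) (.node (.node .leaf (39167, 0, 14, 203940) .leaf) (39168, 0, 15, 175823) (.node .leaf (39171, 0, 17, 101849) .leaf))) (39172, 0, 15, 169964) (.node (.node (.node .leaf (39175, 0, 16, 206767) .leaf) (39176, 0, 18, 35671) (.node .leaf (39179, 0, 14, 80660) .leaf)) (39180, 0, 16, 174340) (.node (.node .leaf (39183, 0, 17, 66103) .leaf) (39185, 0, 17, 14076) (.node .leaf (39186, 0, 17, 107009) .leaf)))) (39189, 0, 16, 4063) (.node (.node (.node (.node .leaf (39190, 0, 17, 114588) .leaf) (39193, 0, 18, 136036) (.node .leaf (39194, 0, 13, 238375) .leaf)) (39197, 0, 17, 165596) (.node (.node .leaf (39198, 0, 16, 236036) .leaf) (39201, 0, 17, 202913)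 (.node .leaf (39202, 0, 17, 62751) .leaf))) (39205, 0, 17, 92092) (.node (.node (.node .leaf (39206, 0, 15, 52284) .leaf) (39209, 0, 17, 258621) (.node .leaf (39210, 0, 16, 148321) .leaf)) (39213, 0, 16, 101664) (.node (.node .leaf (39214, 0, 18, 15484) .leaf) (39216, 0, 17, 253295) (.node .leaf (39219, 0, 17, 159020) .leaf))))))

/-- part of the orbit tree -/
def itp1_96 : Tree := (.node (.node (.node (.node (.node (.node .leaf (39223, 0, 16, 63800) .leaf) (39224, 0, 17, 253413) (.node .leaf (39227, 0, 16, 158905) .leaf)) (39228, 0, 16, 115156) (.node (.node .leaf (39231, 0, 16, 5028) .leaf) (39232, 0, 14, 25615) (.node .leaf (39235, 0, 17, 29706) .leaf))) (39236, 0, 17, 138002) (.node (.node (.node .leaf (39239, 0, 16, 19753) .leaf) (39240, 0, 15, 254417) (.node .leaf (39243, 0, 17, 151954) .leaf)) (39244, 0, 14, 192910) (.node (.node .leaf (39247, 0, 17, 157873) .leaf) (39249, 0, 15, 19415) (.node .leaf (39250, 0, 15, 191545) .leaf)))) (39253, 0, 16, 222553) (.node (.node (.node (.node .leaf (39254,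 0, 16, 230806) .leaf) (39257, 0, 14, 96738) (.node .leaf (39258, 0, 18, 51617) .leaf)) (39261, 0, 17, 82113) (.node (.node .leaf (39262, 0, 18, 61570) .leaf) (39265, 0, 16, 143322) (.node .leaf (39266, 0, 17, 237465) .leaf))) (39269, 0, 16, 136953) (.node (.node (.node .leaf (39270, 0, 17, 36458) .leaf) (39273, 0, 16, 2626) (.node .leaf (39274, 0, 16, 138219) .leaf)) (39277, 0, 16, 13153) (.node (.node .leaf (39278, 0, 17, 25846) .leaf) (39280, 0, 17, 225267) (.node .leaf (39283, 0, 12, 188079) .leaf))))) (39284, 0, 17, 69870) (.node (.node (.node (.node (.node .leaf (39287, 0, 17, 81545) .leaf) (39288, 0, 15, 168561) (.node .leaf (39291, 0, 13, 144435) .leaf)) (39292, 0, 18, 129650) (.node (.node .leaf (39295, 0, 13, 19246) .leaf) (39297, 0, 14, 120258) (.node .leaf (39298, 0, 15, 25758) .leaf))) (39301, 0, 13, 240351) (.node (.node (.node .leaf (39302, 0, 13, 138115) .leaf) (39305, 0, 16, 81758) (.node .leaf (39306, 0, 10, 36354) .leaf)) (39309, 0, 16, 181528) (.node (.node .leaf (39310, 0, 16,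 192799) .leaf) (39312, 0, 17, 147856) (.node .leaf (39315, 0, 18, 258515) .leaf)))) (39316, 0, 16, 161971) (.node (.node (.node (.node .leaf (39319, 0, 19, 144475) .leaf) (39320, 0, 15, 25608) (.node .leaf (39323, 0, 14, 41434) .leaf)) (39324, 0, 15, 225179) (.node (.node .leaf (39327, 0, 17, 188103) .leaf) (39328, 0, 17, 192998) (.node .leaf (39331, 0, 15, 213178) .leaf))) (39332, 0, 16, 36603) (.node (.node (.node .leaf (39335, 0, 12, 179024) .leaf) (39336, 0, 16, 71592) (.node .leaf (39339, 0, 17, 240166) .leaf)) (39340, 0, 18, 25703) (.node (.node .leaf (39343, 0, 17, 120123) .leaf) (39345, 0, 14, 187966) (.node .leaf (39346, 0, 17, 225122) .leaf))))))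

/-- part of the orbit tree -/
def itp1_97 : Tree := (.node itp1_93 (38965, 0, 17, 42590) itp1_94)

/-- part of the orbit tree -/
def itp1_98 : Tree := (.node itp1_95 (39220, 0, 15, 84068) itp1_96)

/-- part of the orbit tree -/
def itp1_99 : Tree := (.node (.node (.node (.node (.node (.node .leaf (39350, 0, 11, 9059) .leaf) (39353, 0, 18, 144546) (.node .leaf (39354, 0, 17, 230910) .leaf)) (39357, 0, 15, 243384) (.node (.node .leaf (39358, 0, 16, 132859) .leaf) (39361, 0, 15, 101704) (.node .leaf (39362, 0, 16, 15380) .leaf))) (39365, 0, 17, 231942) (.node (.node (.node .leaf (39366, 0, 16, 148233) .leaf) (39369, 0, 17, 104125) (.node .leaf (39370, 0, 18, 9982) .leaf)) (39373, 0, 17, 202953) (.node (.node .leaf (39374, 0, 17, 8157) .leaf) (39376, 0, 17, 107152) (.node .leaf (39379, 0, 15, 39765) .leaf)))) (39380, 0, 16, 70197) (.node (.node (.node (.node .leaf (39383, 0, 15, 41590) .leaf) (39384, 0, 18, 200334) (.node .leaf (39387, 0, 18, 63824) .leaf)) (39388, 0, 17, 210705) (.node (.node .leaf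 (39391, 0, 17, 165453) .leaf) (39392, 0, 17, 174444) (.node .leaf (39395, 0, 10, 202800) .leaf))) (39396, 0, 12, 54897) (.node (.node (.node .leaf (39399, 0, 17, 119254) .leaf) (39400, 0, 12, 163118) (.node .leaf (39403, 0, 14, 258732) .leaf)) (39404, 0, 17, 148493) (.node (.node .leaf (39407, 0, 17, 101809) .leaf) (39409, 0, 15, 180357) (.node .leaf (39410, 0, 15, 210920) .leaf))))) (39413, 0, 17, 194982) (.node (.node (.node (.node (.node .leaf (39414, 0, 14, 84213) .leaf) (39417, 0, 15, 58653) (.node .leaf (39418, 0, 17, 253300) .leaf)) (39421, 0, 17, 4917) (.node (.node .leaf (39422, 0, 17, 93309) .leaf) (39424, 0, 14, 73931) (.node .leaf (39425, 0, 16, 165732) .leaf))) (39428, 0, 16, 72168) (.node (.node (.node .leaf (39429, 0, 16, 63609) .leaf) (39432, 0, 13, 13526) (.node .leaf (39433, 0, 12, 159224) .leaf)) (39436, 0, 16, 150475) (.node (.node .leaf (39437, 0, 17, 4837) .leaf) (39442, 0, 17, 133307) (.node .leaf (39443, 0, 15, 190685) .leaf)))) (39446, 0, 17, 143768) (.node (.node (.node (.node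 .leaf (39447, 0, 14, 91901) .leaf) (39450, 0, 16, 11555) (.node .leaf (39451, 0, 14, 52549) .leaf)) (39454, 0, 15, 5120) (.node (.node .leaf (39455, 0, 16, 101473) .leaf) (39458, 0, 16, 228123) (.node .leaf (39459, 0, 16, 236413) .leaf))) (39462, 0, 18, 213560) (.node (.node (.node .leaf (39463, 0, 14, 238174) .leaf) (39466, 0, 15, 89731) (.node .leaf (39467, 0, 17, 114405) .leaf)) (39470, 0, 15, 92064) (.node (.node .leaf (39471, 0, 12, 165789) .leaf) (39472, 0, 12, 251318) (.node .leaf (39473, 0, 12, 45837) .leaf))))))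

/-- part of the orbit tree -/
def itp1_100 : Tree := (.node (.node (.node (.node (.node (.node .leaf (39477, 0, 16, 35374) .leaf) (39480, 0, 17, 212778) (.node .leaf (39481, 0, 16, 91652) .leaf)) (39484, 0, 17, 151504) (.node (.node .leaf (39485, 0, 11, 203033) .leaf) (39488, 0, 18, 150093) (.node .leaf (39489, 0, 17, 174635) .leaf))) (39492, 0, 13, 160622) (.node (.node (.node .leaf (39493, 0, 15, 41203) .leaf) (39496, 0, 17, 27740) (.node .leaf (39497, 0, 17, 36787) .leaf)) (39500, 0, 15, 136001) (.node (.node .leaf (39501, 0, 16, 19055) .leaf) (39506, 0, 15, 90685) (.node .leaf (39507, 0, 16, 213354) .leaf)))) (39510, 0, 11, 223065) (.node (.node (.node (.node .leaf (39511, 0, 17, 81527) .leaf) (39514, 0, 17, 214949) (.node .leaf (39515, 0, 14, 240630) .leaf)) (39518, 0, 16, 228998) (.node (.node .leaf (39519, 0, 16, 237280) .leaf) (39522, 0, 16, 136120) (.node .leaf (39523, 0, 17, 61947) .leaf))) (39526, 0, 18, 10430) (.node (.node (.node .leaf (39527, 0, 17, 51416) .leaf) (39530, 0, 14, 144389)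 (.node .leaf (39531, 0, 18, 185443) .leaf)) (39534, 0, 16, 134438) (.node (.node .leaf (39535, 0, 15, 191808) .leaf) (39536, 0, 16, 211437) (.node .leaf (39537, 0, 16, 252299) .leaf))))) (39540, 0, 17, 196814) (.node (.node (.node (.node (.node .leaf (39541, 0, 17, 240399) .leaf) (39544, 0, 18, 72821) (.node .leaf (39545, 0, 12, 130067) .leaf)) (39548, 0, 16, 75094) (.node (.node .leaf (39549, 0, 10, 116016) .leaf) (39554, 0, 14, 190436) (.node .leaf (39555, 0, 16, 132994) .leaf))) (39558, 0, 17, 188103) (.node (.node (.node .leaf (39559, 0, 15, 41058) .leaf) (39562, 0, 15, 27853) (.node .leaf (39563, 0, 12, 8730) .leaf)) (39566, 0, 9, 136144) (.node (.node .leaf (39567, 0, 12, 19198) .leaf) (39568, 0, 15, 118676) (.node .leaf (39569, 0, 12, 213499) .leaf)))) (39572, 0, 15, 128695) (.node (.node (.node (.node .leaf (39573, 0, 18, 71377) .leaf) (39576, 0, 17, 127561) (.node .leaf (39577, 0, 17, 199274) .leaf)) (39580, 0, 16, 232788) (.node (.node .leaf (39581, 0, 12, 209737) .leaf) (39584, 0, 13, 48180)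 (.node .leaf (39585, 0, 15, 23634) .leaf))) (39588, 0, 16, 27700) (.node (.node (.node .leaf (39589, 0, 19, 25969) .leaf) (39592, 0, 16, 170412) (.node .leaf (39593, 0, 18, 41115) .leaf)) (39596, 0, 14, 34472) (.node (.node .leaf (39597, 0, 17, 147689) .leaf) (39602, 0, 12, 232877) (.node .leaf (39603, 0, 17, 226338) .leaf))))))

/-- part of the orbit tree -/
def itp1_101 : Tree := (.node (.node (.node (.node (.node (.node .leaf (39607, 0, 15, 216321) .leaf) (39610, 0, 16, 111068) (.node .leaf (39611, 0, 17, 86458) .leaf)) (39614, 0, 17, 71724) (.node (.node .leaf (39615, 0, 15, 92313) .leaf) (39618, 0, 15, 101730) (.node .leaf (39619, 0, 16, 165877) .leaf))) (39622, 0, 15, 111681) (.node (.node (.node .leaf (39623, 0, 17, 87079) .leaf) (39626, 0, 18, 239866) (.node .leaf (39627, 0, 16, 159081) .leaf)) (39630, 0, 12, 233945) (.node (.node .leaf (39631, 0, 16, 4724) .leaf) (39632, 0, 18, 82015) (.node .leaf (39633, 0, 10, 203121) .leaf)))) (39636, 0, 17, 171057) (.node (.node (.node (.node .leaf (39637,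 0, 16, 162903) .leaf) (39640, 0, 14, 32906) (.node .leaf (39641, 0, 17, 259053) .leaf)) (39644, 0, 17, 251358) (.node (.node .leaf (39645, 0, 18, 101616) .leaf) (39648, 0, 16, 150435) (.node .leaf (39649, 0, 17, 4749) .leaf))) (39652, 0, 15, 13502) (.node (.node (.node .leaf (39653, 0, 14, 200695) .leaf) (39656, 0, 13, 127786) (.node .leaf (39657, 0, 15, 63505) .leaf)) (39660, 0, 18, 117257) (.node (.node .leaf (39661, 0, 17, 165644) .leaf) (39666, 0, 15, 251175) (.node .leaf (39667, 0, 16, 101385) .leaf))))) (39670, 0, 10, 109114) (.node (.node (.node (.node (.node .leaf (39671, 0, 16, 10119) .leaf) (39674, 0, 17, 212923) (.node .leaf (39675, 0, 16, 146236) .leaf)) (39678, 0, 17, 189049) (.node (.node .leaf (39679, 0, 17, 131615) .leaf) (39682, 0, 17, 250522) (.node .leaf (39683, 0, 17, 100597) .leaf))) (39686, 0, 18, 110278) (.node (.node (.node .leaf (39687, 0, 16, 199647) .leaf) (39690, 0, 15, 211783) (.node .leaf (39691, 0, 15, 90729) .leaf)) (39694, 0, 13, 83034) (.node (.node .leaf (39695,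 0, 17, 77383) .leaf) (39696, 0, 18, 64234) (.node .leaf (39697, 0, 15, 5745) .leaf)))) (39700, 0, 15, 12354) (.node (.node (.node (.node .leaf (39701, 0, 16, 158060) .leaf) (39704, 0, 15, 173507) (.node .leaf (39705, 0, 15, 147220) .leaf)) (39708, 0, 17, 190033) (.node (.node .leaf (39709, 0, 14, 164848) .leaf) (39712, 0, 13, 83107) (.node .leaf (39713, 0, 16, 92460) .leaf))) (39716, 0, 16, 110697) (.node (.node (.node .leaf (39717, 0, 16, 86031) .leaf) (39720, 0, 16, 240850) (.node .leaf (39721, 0, 17, 259857) .leaf)) (39724, 0, 17, 250146) (.node (.node .leaf (39725, 0, 10, 226711) .leaf) (39730, 0, 13, 172346) (.node .leaf (39731, 0, 18, 147804) .leaf))))))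

/-- part of the orbit tree -/
def itp1_102 : Tree := (.node (.node (.node (.node (.node (.node .leaf (39735, 0, 16, 161919) .leaf) (39738, 0, 14, 33954) (.node .leaf (39739, 0, 17, 25796) .leaf)) (39742, 0, 15, 48513) (.node (.node .leaf (39743, 0, 17, 5768) .leaf) (39746, 0, 16, 231761) (.node .leaf (39747, 0, 16, 22650) .leaf))) (39750, 0, 16, 128588) (.node (.node (.node .leaf (39751, 0, 15, 241506) .leaf) (39754, 0, 18, 171396) (.node .leaf (39755, 0, 18, 163298) .leaf)) (39758, 0, 16, 173223) (.node (.node .leaf (39759, 0, 15, 214526) .leaf) (39760, 0, 14, 233580) (.node .leaf (39761, 0, 16, 225290) .leaf)))) (39764, 0, 16, 239951) (.node (.node (.node (.node .leaf (39765, 0, 14, 215337) .leaf) (39768, 0, 17, 112116) (.node .leaf (39769, 0, 17, 87442) .leaf)) (39772, 0, 15, 101591) (.node (.node .leaf (39773, 0, 18, 187258) .leaf) (39776, 0, 17, 189388) (.node .leaf (39777, 0, 17, 132010) .leaf))) (39780, 0, 17, 187119) (.node (.node (.node .leaf (39781, 0, 13, 146057) .leaf) (39784, 0, 16,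 128693) (.node .leaf (39785, 0, 17, 241563) .leaf)) (39788, 0, 15, 65399) (.node (.node .leaf (39789, 0, 13, 118918) .leaf) (39794, 0, 17, 117692) (.node .leaf (39795, 0, 18, 76762) .leaf))))) (39798, 0, 17, 196016) (.node (.node (.node (.node (.node .leaf (39799, 0, 18, 70393) .leaf) (39802, 0, 18, 26673) (.node .leaf (39803, 0, 15, 143647) .leaf)) (39806, 0, 16, 251655) (.node (.node .leaf (39807, 0, 17, 210785) .leaf) (39808, 0, 17, 5557) (.node .leaf (39809, 0, 15, 62931) .leaf))) (39812, 0, 17, 128733) (.node (.node (.node .leaf (39813, 0, 17, 52464) .leaf) (39816, 0, 18, 222044) (.node .leaf (39817, 0, 16, 184395) .leaf)) (39820, 0, 16, 133390) (.node (.node .leaf (39821, 0, 18, 214383) .leaf) (39826, 0, 18, 212421) (.node .leaf (39827, 0, 16, 20074) .leaf)))) (39830, 0, 17, 197862) (.node (.node (.node (.node .leaf (39831, 0, 17, 255104) .leaf) (39834, 0, 16, 71773) (.node .leaf (39835, 0, 17, 129083) .leaf)) (39838, 0, 17, 33477) (.node (.node .leaf (39839, 0, 15, 187371) .leaf) (39842, 0,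 15, 151141) (.node .leaf (39843, 0, 17, 175619) .leaf))) (39846, 0, 11, 222117) (.node (.node (.node .leaf (39847, 0, 17, 169760) .leaf) (39850, 0, 16, 27645) (.node .leaf (39851, 0, 17, 35739) .leaf)) (39854, 0, 13, 21214) (.node (.node .leaf (39855, 0, 18, 118807) .leaf) (39856, 0, 16, 33340) .leaf)))))

/-- part of the orbit tree -/
def itp1_103 : Tree := (.node itp1_99 (39476, 0, 16, 27208) itp1_100)

/-- part of the orbit tree -/
def itp1_104 : Tree := (.node itp1_101 (39734, 0, 16, 170009) itp1_102)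

/-- part of the orbit tree -/
def itp1_105 : Tree := (.node itp1_97 (39092, 0, 18, 139246) itp1_98)

/-- part of the orbit tree -/
def itp1_106 : Tree := (.node itp1_103 (39606, 0, 16, 127664) itp1_104)

/-- part of the orbit tree -/
def itp1_107 : Tree := (.node (.node (.node (.node (.node (.node .leaf (39860, 0, 15, 195873) .leaf) (39861, 0, 17, 114512) (.node .leaf (39864, 0, 16, 26784) .leaf)) (39865, 0, 11, 238571) (.node (.node .leaf (39868, 0, 16, 137149) .leaf) (39869, 0, 18, 236232) (.node .leaf (39872, 0, 8, 250186) .leaf))) (39873, 0, 15, 100452) (.node (.node (.node .leaf (39876, 0, 16, 214544) .leaf) (39877, 0, 15, 239222) (.node .leaf (39880, 0, 15, 211926) .leaf)) (39881, 0, 16, 90872) (.node (.node .leaf (39884, 0, 16, 83147) .leaf) (39885, 0, 15, 99310) (.node .leaf (39890, 0, 18, 22339) .leaf)))) (39891, 0, 15, 5856) (.node (.node (.node (.node .leaf (39894, 0, 17, 28256) .leaf) (39895, 0, 18, 158205) (.node .leaf (39898, 0, 17, 173394) .leaf)) (39899, 0, 15, 64636) (.node (.node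 .leaf (39902, 0, 15, 150520) .leaf) (39903, 0, 19, 164705) (.node .leaf (39906, 0, 17, 74979) .leaf))) (39907, 0, 12, 115845) (.node (.node (.node .leaf (39910, 0, 15, 73152) .leaf) (39911, 0, 17, 130470) (.node .leaf (39914, 0, 18, 110254) .leaf)) (39915, 0, 16, 259968) (.node (.node .leaf (39918, 0, 16, 211032) .leaf) (39919, 0, 17, 100509) (.node .leaf (39920, 0, 16, 134291) .leaf))))) (39921, 0, 13, 191733) (.node (.node (.node (.node (.node .leaf (39924, 0, 18, 173483) .leaf) (39925, 0, 12, 64645) (.node .leaf (39928, 0, 14, 10507) .leaf)) (39929, 0, 16, 157956) (.node (.node .leaf (39932, 0, 17, 151351) .leaf) (39933, 0, 17, 61518) (.node .leaf (39936, 0, 18, 5651) .leaf))) (39938, 0, 17, 83510) (.node (.node (.node .leaf (39940, 0, 17, 12080) .leaf) (39942, 0, 16, 147965) (.node .leaf (39944, 0, 17, 144267) .leaf)) (39946, 0, 14, 222126) (.node (.node .leaf (39948, 0, 13, 82707) .leaf) (39950, 0, 17, 219789) (.node .leaf (39953, 0, 17, 167456) .leaf)))) (39955, 0, 18, 4408) (.node (.node (.node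 (.node .leaf (39957, 0, 17, 177923) .leaf) (39959, 0, 16, 255782) (.node .leaf (39961, 0, 12, 43960) .leaf)) (39963, 0, 16, 64420) (.node (.node .leaf (39965, 0, 18, 93387) .leaf) (39967, 0, 13, 165049) (.node .leaf (39969, 0, 17, 62134) .leaf))) (39971, 0, 17, 175525) (.node (.node (.node .leaf (39973, 0, 16, 246947) .leaf) (39975, 0, 12, 169094) (.node .leaf (39977, 0, 15, 120856) .leaf)) (39979, 0, 15, 34877) (.node (.node .leaf (39981, 0, 18, 123195) .leaf) (39983, 0, 16, 102213) (.node .leaf (39984, 0, 18, 91571) .leaf))))))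

/-- part of the orbit tree -/
def itp1_108 : Tree := (.node (.node (.node (.node (.node (.node .leaf (39988, 0, 11, 89232) .leaf) (39990, 0, 16, 3253) (.node .leaf (39992, 0, 16, 14322) .leaf)) (39994, 0, 17, 253824) (.node (.node .leaf (39996, 0, 12, 227592) .leaf) (39998, 0, 18, 141613) (.node .leaf (40000, 0, 17, 232984) .leaf))) (40002, 0, 17, 142512) (.node (.node (.node .leaf (40004, 0, 17, 214454) .leaf) (40006, 0, 17, 137591) (.node .leaf (40008, 0, 16, 222340) .leaf)) (40010, 0, 16, 36086) (.node (.node .leaf (40012, 0, 18, 72601) .leaf) (40014, 0, 16, 193515) (.node .leaf (40017, 0, 17, 124070) .leaf)))) (40019, 0, 15, 18866) (.node (.node (.node (.node .leaf (40021, 0, 18, 122245) .leaf) (40023, 0, 17, 145071) (.node .leaf (40025, 0, 18, 246078) .leaf)) (40027, 0, 16, 168219) (.node (.node .leaf (40029, 0, 14, 78913) .leaf) (40031, 0, 15, 174136) (.node .leaf (40033, 0, 17, 38662) .leaf))) (40035, 0, 15, 213582) (.node (.node (.node .leaf (40037, 0, 17, 44581) .leaf) (40039, 0, 15, 81235)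 (.node .leaf (40041, 0, 14, 16544) .leaf)) (40043, 0, 15, 239826) (.node (.node .leaf (40045, 0, 15, 166845) .leaf) (40047, 0, 16, 252824) (.node .leaf (40048, 0, 16, 134965) .leaf))))) (40050, 0, 16, 220944) (.node (.node (.node (.node (.node .leaf (40052, 0, 15, 195321) .leaf) (40054, 0, 17, 70283) (.node .leaf (40056, 0, 16, 10925) .leaf)) (40058, 0, 16, 231178) (.node (.node .leaf (40060, 0, 16, 135269) .leaf) (40062, 0, 17, 129047) (.node .leaf (40065, 0, 15, 147413) .leaf))) (40067, 0, 16, 209242) (.node (.node (.node .leaf (40069, 0, 16, 153692) .leaf) (40071, 0, 15, 198777) (.node .leaf (40073, 0, 16, 17639) .leaf)) (40075, 0, 19, 70850) (.node (.node .leaf (40077, 0, 17, 43604) .leaf) (40079, 0, 18, 213542) (.node .leaf (40080, 0, 15, 135181) .leaf)))) (40082, 0, 17, 108905) (.node (.node (.node (.node .leaf (40084, 0, 16, 49263) .leaf) (40086, 0, 13, 231266) (.node .leaf (40088, 0, 18, 195217) .leaf)) (40090, 0, 15, 232689) (.node (.node .leaf (40092, 0, 16, 189943) .leaf) (40094, 0, 12,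 243154) (.node .leaf (40096, 0, 13, 101100) .leaf))) (40098, 0, 17, 193411) (.node (.node (.node .leaf (40100, 0, 18, 111567) .leaf) (40102, 0, 14, 58346) (.node .leaf (40104, 0, 17, 127341) .leaf)) (40106, 0, 14, 196433) (.node (.node .leaf (40108, 0, 13, 233072) .leaf) (40110, 0, 16, 181874) (.node .leaf (40113, 0, 17, 78889) .leaf))))))

/-- part of the orbit tree -/
def itp1_109 : Tree := (.node (.node (.node (.node (.node (.node .leaf (40117, 0, 16, 215860) .leaf) (40119, 0, 15, 162777) (.node .leaf (40121, 0, 16, 79687) .leaf)) (40123, 0, 16, 26466) (.node (.node .leaf (40125, 0, 16, 237992) .leaf) (40127, 0, 17, 18906) (.node .leaf (40129, 0, 17, 157535) .leaf))) (40131, 0, 16, 23516) (.node (.node (.node .leaf (40133, 0, 17, 78554) .leaf) (40135, 0, 11, 258096) (.node .leaf (40137, 0, 17, 167363) .leaf)) (40139, 0, 16, 91569) (.node (.node .leaf (40141, 0, 18, 202562) .leaf) (40143, 0, 18, 149351) (.node .leaf (40144, 0, 16, 234442) .leaf)))) (40146, 0, 16, 106741) (.node (.node (.node (.node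 .leaf (40148, 0, 11, 240361) .leaf) (40150, 0, 17, 253928) (.node .leaf (40152, 0, 14, 112210) .leaf)) (40154, 0, 15, 58999) (.node (.node .leaf (40156, 0, 16, 56582) .leaf) (40158, 0, 15, 210292) (.node .leaf (40160, 0, 18, 82811) .leaf))) (40162, 0, 14, 174857) (.node (.node (.node .leaf (40164, 0, 17, 186697) .leaf) (40166, 0, 13, 231788) (.node .leaf (40168, 0, 15, 109031) .leaf)) (40170, 0, 16, 103895) (.node (.node .leaf (40172, 0, 18, 251642) .leaf) (40174, 0, 15, 16008) (.node .leaf (40177, 0, 16, 30809) .leaf))))) (40179, 0, 16, 165073) (.node (.node (.node (.node (.node .leaf (40181, 0, 14, 16762) .leaf) (40183, 0, 15, 64460) (.node .leaf (40185, 0, 15, 155073) .leaf)) (40187, 0, 17, 200164) (.node (.node .leaf (40189, 0, 13, 156898) .leaf) (40191, 0, 11, 4432) (.node .leaf (40193, 0, 16, 218113) .leaf))) (40195, 0, 17, 132132) (.node (.node (.node .leaf (40197, 0, 16, 224546) .leaf) (40199, 0, 17, 65328) (.node .leaf (40201, 0, 16, 94617) .leaf)) (40203, 0, 10, 8636) (.node (.node .leaf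 (40205, 0, 17, 261598) .leaf) (40207, 0, 18, 5548) (.node .leaf (40208, 0, 15, 117810) .leaf)))) (40210, 0, 15, 176117) (.node (.node (.node (.node .leaf (40212, 0, 15, 128273) .leaf) (40214, 0, 12, 53480) (.node .leaf (40216, 0, 16, 109851) .leaf)) (40218, 0, 15, 178575) (.node (.node .leaf (40220, 0, 16, 250374) .leaf) (40222, 0, 14, 14964) (.node .leaf (40224, 0, 16, 150651) .leaf))) (40226, 0, 14, 107529) (.node (.node (.node .leaf (40228, 0, 15, 34481) .leaf) (40230, 0, 14, 252692) (.node .leaf (40232, 0, 17, 173799) .leaf)) (40234, 0, 13, 248367) (.node (.node .leaf (40236, 0, 13, 172841) .leaf) (40238, 0, 12, 209288) (.node .leaf (40241, 0, 16, 156579) .leaf))))))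

/-- part of the orbit tree -/
def itp1_110 : Tree := (.node (.node (.node (.node (.node (.node .leaf (40245, 0, 15, 7358) .leaf) (40247, 0, 14, 216743) (.node .leaf (40249, 0, 16, 569) .leaf)) (40251, 0, 17, 90445) (.node (.node .leaf (40253, 0, 14, 63010) .leaf) (40255, 0, 17, 92991) (.node .leaf (40257, 0, 13, 16007) .leaf))) (40259, 0, 17, 93858) (.node (.node (.node .leaf (40261, 0, 16, 1956) .leaf) (40263, 0, 13, 87937) (.node .leaf (40265, 0, 16, 121417) .leaf)) (40267, 0, 17, 143931) (.node (.node .leaf (40269, 0, 14, 139836) .leaf) (40271, 0, 15, 19750) (.node .leaf (40272, 0, 17, 73485) .leaf)))) (40274, 0, 15, 194431) (.node (.node (.node (.node .leaf (40276, 0, 17, 171927) .leaf) (40278, 0, 18, 249778) (.node .leaf (40280, 0, 17, 128401) .leaf)) (40282, 0, 16, 138723) (.node (.node .leaf (40284, 0, 16, 47631) .leaf) (40286, 0, 18, 125482) (.node .leaf (40288, 0, 17, 251156) .leaf))) (40290, 0, 15, 165169) (.node (.node (.node .leaf (40292, 0, 14, 27628) .leaf) (40294, 0, 14, 179218) (.node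 .leaf (40296, 0, 16, 196205) .leaf)) (40298, 0, 16, 71199) (.node (.node .leaf (40300, 0, 16, 117167) .leaf) (40302, 0, 11, 39306) (.node .leaf (40305, 0, 14, 146217) .leaf))))) (40307, 0, 16, 119643) (.node (.node (.node (.node (.node .leaf (40309, 0, 14, 95236) .leaf) (40311, 0, 18, 240710) (.node .leaf (40313, 0, 15, 184757) .leaf)) (40315, 0, 17, 80327) (.node (.node .leaf (40317, 0, 16, 44712) .leaf) (40319, 0, 15, 131513) (.node .leaf (40320, 0, 18, 74605) .leaf))) (40322, 0, 18, 223594) (.node (.node (.node .leaf (40324, 0, 15, 72270) .leaf) (40326, 0, 13, 19051) (.node .leaf (40328, 0, 16, 198389) .leaf)) (40330, 0, 16, 230390) (.node (.node .leaf (40332, 0, 16, 212950) .leaf) (40334, 0, 17, 159731) (.node .leaf (40337, 0, 16, 44736) .leaf)))) (40339, 0, 16, 191355) (.node (.node (.node (.node .leaf (40341, 0, 16, 184797) .leaf) (40343, 0, 15, 184920) (.node .leaf (40345, 0, 16, 17500) .leaf)) (40347, 0, 12, 240686) (.node (.node .leaf (40349, 0, 16, 108517) .leaf) (40351, 0, 16, 119603) (.node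 .leaf (40353, 0, 15, 238908) .leaf))) (40355, 0, 15, 235739) (.node (.node (.node .leaf (40357, 0, 12, 192989) .leaf) (40359, 0, 12, 143955) (.node .leaf (40361, 0, 15, 60774) .leaf)) (40363, 0, 14, 42962) (.node (.node .leaf (40365, 0, 16, 78013) .leaf) (40367, 0, 18, 99424) (.node .leaf (40368, 0, 14, 20685) .leaf))))))

/-- part of the orbit tree -/
def itp1_111 : Tree := (.node itp1_107 (39986, 0, 13, 210204) itp1_108)

/-- part of the orbit tree -/
def itp1_112 : Tree := (.node itp1_109 (40243, 0, 14, 227204) itp1_110)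

/-- part of the orbit tree -/
def itp1_113 : Tree := (.node (.node (.node (.node (.node (.node .leaf (40372, 0, 17, 128505) .leaf) (40374, 0, 15, 138635) (.node .leaf (40376, 0, 15, 221304) .leaf)) (40378, 0, 15, 206192) (.node (.node .leaf (40380, 0, 17, 150646) .leaf) (40382, 0, 17, 203859) (.node .leaf (40384, 0, 12, 55698) .leaf))) (40386, 0, 15, 203214) (.node (.node (.node .leaf (40388, 0, 15, 173711) .leaf) (40390, 0, 16, 85757) (.node .leaf (40392, 0, 16, 13070) .leaf)) (40394, 0, 17, 252796) (.node (.node .leaf (40396, 0, 14, 21840) .leaf) (40398, 0, 15, 66933) (.node .leaf (40401, 0, 18, 63050) .leaf)))) (40403, 0, 17, 204344) (.node (.node (.node (.node .leaf (40405, 0, 16, 166231) .leaf) (40407, 0, 15, 112862) (.node .leaf (40409, 0, 13, 7382) .leaf)) (40411, 0, 16, 259236) (.node (.node .leaf (40413, 0, 18, 183651) .leaf) (40415, 0, 15, 236870) (.node .leaf (40417, 0, 18, 107128) .leaf))) (40419, 0, 16, 62045) (.node (.node (.node .leaf (40421, 0, 14, 105307) .leaf) (40423, 0, 17, 158425)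 (.node .leaf (40425, 0, 15, 202538) .leaf)) (40427, 0, 18, 65368) (.node (.node .leaf (40429, 0, 15, 92215) .leaf) (40431, 0, 16, 163909) (.node .leaf (40432, 0, 14, 211531) .leaf))))) (40434, 0, 16, 14876) (.node (.node (.node (.node (.node .leaf (40436, 0, 13, 109939) .leaf) (40438, 0, 14, 152397) (.node .leaf (40440, 0, 14, 73683) .leaf)) (40442, 0, 17, 20470) (.node (.node .leaf (40444, 0, 15, 83951) .leaf) (40446, 0, 15, 30421) (.node .leaf (40464, 0, 14, 148022) .leaf))) (40465, 0, 17, 261222) (.node (.node (.node .leaf (40466, 0, 16, 150842) .leaf) (40467, 0, 18, 5140) (.node .leaf (40468, 0, 15, 252501) .leaf)) (40469, 0, 17, 170867) (.node (.node .leaf (40470, 0, 15, 207664) .leaf) (40471, 0, 18, 248662) (.node .leaf (40472, 0, 16, 26542) .leaf)))) (40473, 0, 17, 202490) (.node (.node (.node (.node .leaf (40474, 0, 12, 79755) .leaf) (40475, 0, 16, 65160) (.node .leaf (40476, 0, 16, 24205) .leaf)) (40477, 0, 14, 48875) (.node (.node .leaf (40478, 0, 17, 69288) .leaf) (40479, 0, 17, 126670)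 (.node .leaf (40480, 0, 9, 175796) .leaf))) (40481, 0, 18, 250352) (.node (.node (.node .leaf (40482, 0, 16, 83654) .leaf) (40483, 0, 17, 164309) (.node .leaf (40484, 0, 15, 198837) .leaf)) (40485, 0, 18, 166023) (.node (.node .leaf (40486, 0, 17, 211419) .leaf) (40487, 0, 18, 90357) (.node .leaf (40488, 0, 15, 148520) .leaf))))))

/-- part of the orbit tree -/
def itp1_114 : Tree := (.node (.node (.node (.node (.node (.node .leaf (40490, 0, 11, 17451) .leaf) (40491, 0, 15, 259444) (.node .leaf (40492, 0, 17, 77101) .leaf)) (40493, 0, 13, 156187) (.node (.node .leaf (40494, 0, 16, 250695) .leaf) (40495, 0, 12, 40302) (.node .leaf (40528, 0, 19, 75952) .leaf))) (40529, 0, 16, 116950) (.node (.node (.node .leaf (40530, 0, 12, 136624) .leaf) (40531, 0, 17, 39155) (.node .leaf (40532, 0, 13, 230111) .leaf)) (40533, 0, 18, 127477) (.node (.node .leaf (40534, 0, 17, 27309) .leaf) (40535, 0, 16, 41424) (.node .leaf (40536, 0, 15, 71518) .leaf)))) (40537, 0, 16, 257358) (.node (.node (.node (.node .leaf (40538,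 0, 16, 154893) .leaf) (40539, 0, 15, 42498) (.node .leaf (40540, 0, 18, 223299) .leaf)) (40541, 0, 17, 250989) (.node (.node .leaf (40542, 0, 16, 32817) .leaf) (40543, 0, 14, 164936) (.node .leaf (40544, 0, 15, 23312) .leaf))) (40545, 0, 18, 44816) (.node (.node (.node .leaf (40546, 0, 15, 73292) .leaf) (40547, 0, 16, 125779) (.node .leaf (40548, 0, 16, 35107) .leaf)) (40549, 0, 15, 33365) (.node (.node .leaf (40550, 0, 13, 221521) .leaf) (40551, 0, 15, 79999) (.node .leaf (40552, 0, 16, 138402) .leaf))))) (40553, 0, 16, 17804) (.node (.node (.node (.node (.node .leaf (40554, 0, 11, 128208) .leaf) (40555, 0, 15, 249547) (.node .leaf (40556, 0, 13, 25535) .leaf)) (40557, 0, 16, 146065) (.node (.node .leaf (40558, 0, 17, 232397) .leaf) (40559, 0, 16, 119523) (.node .leaf (40576, 0, 16, 175465) .leaf))) (40577, 0, 13, 146169) (.node (.node (.node .leaf (40578, 0, 13, 261452) .leaf) (40579, 0, 16, 119435) (.node .leaf (40580, 0, 16, 169034) .leaf)) (40581, 0, 16, 160812) (.node (.node .leaf (40582, 0,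 17, 128184) .leaf) (40583, 0, 17, 241046) (.node .leaf (40584, 0, 17, 35147) .leaf)))) (40585, 0, 18, 184421) (.node (.node (.node (.node .leaf (40586, 0, 19, 121044) .leaf) (40587, 0, 17, 80050) (.node .leaf (40588, 0, 13, 45522) .leaf)) (40589, 0, 16, 44920) (.node (.node .leaf (40590, 0, 13, 123383) .leaf) (40591, 0, 17, 214794) (.node .leaf (40624, 0, 18, 253641) .leaf))) (40625, 0, 12, 78085) (.node (.node (.node .leaf (40626, 0, 13, 32857) .leaf) (40627, 0, 17, 186743) (.node .leaf (40628, 0, 19, 71478) .leaf)) (40629, 0, 15, 198540) (.node (.node .leaf (40630, 0, 17, 196420) .leaf) (40631, 0, 18, 153513) (.node .leaf (40632, 0, 16, 230071) .leaf))))))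

/-- part of the orbit tree -/
def itp1_115 : Tree := (.node (.node (.node (.node (.node (.node .leaf (40634, 0, 16, 27333) .leaf) (40635, 0, 17, 144363) (.node .leaf (40636, 0, 16, 130474) .leaf)) (40637, 0, 15, 238724) (.node (.node .leaf (40638, 0, 18, 136664) .leaf) (40639, 0, 14, 19702) (.node .leaf (40640, 0, 14, 116719) .leaf))) (40641, 0, 16, 75657) (.node (.node (.node .leaf (40642, 0, 17, 250671) .leaf) (40643, 0, 15, 30636) (.node .leaf (40644, 0, 18, 148544) .leaf)) (40645, 0, 17, 7534) (.node (.node .leaf (40646, 0, 13, 109618) .leaf) (40647, 0, 16, 20111) (.node .leaf (40648, 0, 16, 53697) .leaf)))) (40649, 0, 11, 197137) (.node (.node (.node (.node .leaf (40650, 0, 17, 176722) .leaf) (40651, 0, 18, 152116) (.node .leaf (40652, 0, 18, 175836) .leaf)) (40653, 0, 15, 211762) (.node (.node .leaf (40654, 0, 17, 166769) .leaf) (40655, 0, 12, 204672) (.node .leaf (40688, 0, 15, 46159) .leaf))) (40689, 0, 18, 92559) (.node (.node (.node .leaf (40690, 0, 16, 55507) .leaf) (40691, 0, 15, 66572)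 (.node .leaf (40692, 0, 13, 85948) .leaf)) (40693, 0, 13, 27914) (.node (.node .leaf (40694, 0, 18, 122185) .leaf) (40695, 0, 19, 65248) (.node .leaf (40696, 0, 19, 252477) .leaf))))) (40697, 0, 15, 160177) (.node (.node (.node (.node (.node .leaf (40698, 0, 18, 12879) .leaf) (40699, 0, 13, 158561) (.node .leaf (40700, 0, 18, 107808) .leaf)) (40701, 0, 16, 149650) (.node (.node .leaf (40702, 0, 15, 150866) .leaf) (40703, 0, 15, 202935) (.node .leaf (40704, 0, 18, 235543) .leaf))) (40705, 0, 15, 227441) (.node (.node (.node .leaf (40706, 0, 13, 182322) .leaf) (40707, 0, 17, 165121) (.node .leaf (40708, 0, 17, 237876) .leaf)) (40709, 0, 17, 213330) (.node (.node .leaf (40710, 0, 13, 192785) .leaf) (40711, 0, 14, 64028) (.node .leaf (40712, 0, 15, 253633) .leaf)))) (40713, 0, 18, 100335) (.node (.node (.node (.node .leaf (40714, 0, 17, 60842) .leaf) (40715, 0, 17, 3532) (.node .leaf (40716, 0, 14, 99500) .leaf)) (40717, 0, 15, 91338) (.node (.node .leaf (40718, 0, 17, 149934) .leaf) (40719, 0, 10, 13551)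 (.node .leaf (40752, 0, 15, 191415) .leaf))) (40753, 0, 16, 134097) (.node (.node (.node .leaf (40754, 0, 15, 244626) .leaf) (40755, 0, 17, 220148) (.node .leaf (40756, 0, 15, 184980) .leaf)) (40757, 0, 16, 6546) (.node (.node .leaf (40758, 0, 18, 230065) .leaf) (40759, 0, 17, 258528) (.node .leaf (40760, 0, 16, 52783) .leaf))))))

/-- part of the orbit tree -/
def itp1_116 : Tree := (.node (.node (.node (.node (.node (.node .leaf (40762, 0, 15, 105994) .leaf) (40763, 0, 16, 97900) (.node .leaf (40764, 0, 9, 63244) .leaf)) (40765, 0, 17, 5994) (.node (.node .leaf (40766, 0, 15, 82514) .leaf) (40767, 0, 18, 83791) (.node .leaf (40768, 0, 18, 224471) .leaf))) (40769, 0, 15, 4855) (.node (.node (.node .leaf (40770, 0, 16, 107188) .leaf) (40771, 0, 15, 82642) (.node .leaf (40772, 0, 17, 52146) .leaf)) (40773, 0, 19, 11220) (.node (.node .leaf (40774, 0, 16, 195512) .leaf) (40775, 0, 14, 97265) (.node .leaf (40776, 0, 17, 186121) .leaf)))) (40777, 0, 15, 145263) (.node (.node (.node (.node .leaf (40778,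 0, 17, 28217) .leaf) (40779, 0, 16, 145175) (.node .leaf (40780, 0, 15, 192042) .leaf)) (40781, 0, 19, 237688) (.node (.node .leaf (40782, 0, 14, 245263) .leaf) (40783, 0, 14, 18442) (.node .leaf (40816, 0, 13, 98609) .leaf))) (40817, 0, 14, 90455) (.node (.node (.node .leaf (40818, 0, 15, 233305) .leaf) (40819, 0, 17, 120439) (.node .leaf (40820, 0, 17, 137270) .leaf)) (40821, 0, 17, 16664) (.node (.node .leaf (40822, 0, 17, 127044) .leaf) (40823, 0, 15, 2129) (.node .leaf (40824, 0, 17, 238761) .leaf))))) (40825, 0, 17, 185497) (.node (.node (.node (.node (.node .leaf (40826, 0, 16, 193676) .leaf) (40827, 0, 14, 81131) (.node .leaf (40828, 0, 16, 193194) .leaf)) (40829, 0, 15, 228844) (.node (.node .leaf (40830, 0, 10, 183727) .leaf) (40831, 0, 17, 142793) (.node .leaf (40848, 0, 16, 227144) .leaf))) (40849, 0, 19, 44012) (.node (.node (.node .leaf (40850, 0, 13, 72368) .leaf) (40851, 0, 16, 213918) (.node .leaf (40852, 0, 17, 36319) .leaf)) (40853, 0, 18, 185585) (.node (.node .leaf (40854, 0,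 16, 138830) .leaf) (40855, 0, 16, 81027) (.node .leaf (40856, 0, 18, 86736) .leaf)))) (40857, 0, 15, 16752) (.node (.node (.node (.node .leaf (40858, 0, 13, 757) .leaf) (40859, 0, 16, 239874) (.node .leaf (40860, 0, 16, 26435) .leaf)) (40861, 0, 18, 147053) (.node (.node .leaf (40862, 0, 14, 15318) .leaf) (40863, 0, 17, 120351) (.node .leaf (40864, 0, 18, 132328) .leaf))) (40865, 0, 13, 189582) (.node (.node (.node .leaf (40866, 0, 17, 218317) .leaf) (40867, 0, 17, 18530) (.node .leaf (40868, 0, 16, 146891) .leaf)) (40869, 0, 16, 122637) (.node (.node .leaf (40870, 0, 16, 224750) .leaf) (40871, 0, 16, 232840) .leaf)))))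

/-- part of the orbit tree -/
def itp1_117 : Tree := (.node itp1_113 (40489, 0, 15, 7430) itp1_114)

/-- part of the orbit tree -/
def itp1_118 : Tree := (.node itp1_115 (40761, 0, 15, 11849) itp1_116)

/-- part of the orbit tree -/
def itp1_119 : Tree := (.node itp1_111 (40115, 0, 13, 148218) itp1_112)

/-- part of the orbit tree -/
def itp1_120 : Tree := (.node itp1_117 (40633, 0, 17, 72503) itp1_118)

/-- part of the orbit tree -/
def itp1_121 : Tree := (.node itp1_105 (39349, 0, 16, 41251) itp1_106)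

/-- part of the orbit tree -/
def itp1_122 : Tree := (.node itp1_119 (40370, 0, 16, 25238) itp1_120)

/-- part of the orbit tree -/
def itp1_123 : Tree := (.node itp1_91 (37813, 0, 16, 246092) itp1_92)

/-- part of the orbit tree -/
def itp1_124 : Tree := (.node itp1_121 (39857, 0, 15, 99955) itp1_122)

/-- part of the orbit tree -/
def itp1_125 : Tree := (.node itp1_61 (34746, 0, 13, 72300) itp1_62)

/-- part of the orbit tree -/
def itp1_126 : Tree := (.node itp1_123 (38834, 0, 17, 217732) itp1_124)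

/-- part of the orbit tree -/
def itp1_127 : Tree := (.node (.node (.node (.node (.node (.node .leaf (40873, 0, 17, 215692) .leaf) (40874, 0, 13, 94549) (.node .leaf (40875, 0, 17, 41726) .leaf)) (40876, 0, 17, 6227) (.node (.node .leaf (40877, 0, 13, 63541) .leaf) (40878, 0, 13, 84086) (.node .leaf (40879, 0, 17, 187875) .leaf))) (40912, 0, 19, 174664) (.node (.node (.node .leaf (40913, 0, 14, 64936) .leaf) (40914, 0, 15, 85483) (.node .leaf (40915, 0, 15, 109965) .leaf)) (40916, 0, 12, 54613) (.node (.node .leaf (40917, 0, 17, 50315) .leaf) (40918, 0, 13, 212263) (.node .leaf (40919, 0, 17, 103598) .leaf)))) (40920, 0, 18, 145494) (.node (.node (.node (.node .leaf (40921, 0, 18, 6650) .leaf) (40922, 0, 15, 108710) (.node .leaf (40923, 0, 16, 258440) .leaf)) (40924, 0, 17, 16329) (.node (.node .leaf (40925, 0, 16, 157415) .leaf) (40926, 0, 17, 251835) (.node .leaf (40927, 0, 17, 102037) .leaf))) (40928, 0, 16, 106932) (.node (.node (.node .leaf (40929, 0, 12, 260250) .leaf) (40930, 0, 18, 149958)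 (.node .leaf (40931, 0, 17, 4328) .leaf)) (40932, 0, 16, 253609) (.node (.node .leaf (40933, 0, 17, 100231) .leaf) (40934, 0, 17, 1896) (.node .leaf (40935, 0, 12, 159733) .leaf))))) (40936, 0, 5, 84776) (.node (.node (.node (.node (.node .leaf (40937, 0, 17, 240528) .leaf) (40938, 0, 15, 172890) (.node .leaf (40939, 0, 15, 64116) .leaf)) (40940, 0, 16, 209973) (.node (.node .leaf (40941, 0, 16, 93467) .leaf) (40942, 0, 12, 140016) (.node .leaf (40943, 0, 15, 180886) .leaf))) (40960, 0, 17, 186135) (.node (.node (.node .leaf (40963, 0, 16, 66762) .leaf) (40965, 0, 16, 192804) (.node .leaf (40966, 0, 17, 122255) .leaf)) (40969, 0, 14, 160119) (.node (.node .leaf (40970, 0, 17, 246068) .leaf) (40972, 0, 16, 174130) (.node .leaf (40975, 0, 14, 202865) .leaf)))) (40976, 0, 17, 41441) (.node (.node (.node (.node .leaf (40979, 0, 16, 228511) .leaf) (40981, 0, 17, 136601) (.node .leaf (40982, 0, 16, 239066) .leaf)) (40985, 0, 18, 2338) (.node (.node .leaf (40986, 0, 17, 112993) .leaf) (40988, 0, 15, 144480)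 (.node .leaf (40991, 0, 16, 230716) .leaf))) (40993, 0, 13, 127795) (.node (.node (.node .leaf (40994, 0, 17, 17007) .leaf) (40996, 0, 16, 120064) (.node .leaf (40999, 0, 15, 144924) .leaf)) (41000, 0, 15, 105188) (.node (.node .leaf (41003, 0, 12, 192989) .leaf) (41005, 0, 15, 222898) (.node .leaf (41006, 0, 17, 186350) .leaf))))))

/-- part of the orbit tree -/
def itp1_128 : Tree := (.node (.node (.node (.node (.node (.node .leaf (41010, 0, 10, 38668) .leaf) (41012, 0, 13, 130570) (.node .leaf (41015, 0, 15, 135850) .leaf)) (41016, 0, 17, 79479) (.node (.node .leaf (41019, 0, 18, 34603) .leaf) (41021, 0, 15, 211956) (.node .leaf (41022, 0, 15, 41240) .leaf))) (41024, 0, 14, 167837) (.node (.node (.node .leaf (41027, 0, 18, 159308) .leaf) (41029, 0, 15, 198474) (.node .leaf (41030, 0, 18, 202994) .leaf)) (41033, 0, 17, 72689) (.node (.node .leaf (41034, 0, 16, 43954) .leaf) (41036, 0, 14, 115380) (.node .leaf (41039, 0, 13, 109376) .leaf)))) (41040, 0, 16, 108122) (.node (.node (.node (.node .leaf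 (41043, 0, 17, 84023) .leaf) (41045, 0, 16, 98079) (.node .leaf (41046, 0, 16, 93700) .leaf)) (41049, 0, 14, 150233) (.node (.node .leaf (41050, 0, 16, 260997) .leaf) (41052, 0, 16, 158954) (.node .leaf (41055, 0, 17, 133794) .leaf))) (41057, 0, 15, 109497) (.node (.node (.node .leaf (41058, 0, 14, 6885) .leaf) (41060, 0, 16, 101770) (.node .leaf (41063, 0, 12, 15574) .leaf)) (41064, 0, 16, 192610) (.node (.node .leaf (41067, 0, 17, 213025) .leaf) (41069, 0, 16, 141607) (.node .leaf (41070, 0, 17, 167780) .leaf))))) (41073, 0, 16, 253263) (.node (.node (.node (.node (.node .leaf (41074, 0, 17, 158739) .leaf) (41076, 0, 17, 169100) (.node .leaf (41079, 0, 14, 150048) .leaf)) (41080, 0, 17, 93949) (.node (.node .leaf (41083, 0, 18, 57249) .leaf) (41085, 0, 16, 84174) (.node .leaf (41086, 0, 16, 123185) .leaf))) (41089, 0, 10, 212560) (.node (.node (.node .leaf (41090, 0, 18, 226214) .leaf) (41092, 0, 18, 137888) (.node .leaf (41095, 0, 17, 174399) .leaf)) (41096, 0, 16, 101858) (.node (.node .leaf (41099,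 0, 15, 112216) .leaf) (41101, 0, 17, 57182) (.node .leaf (41102, 0, 17, 93981) .leaf)))) (41105, 0, 18, 84134) (.node (.node (.node (.node .leaf (41106, 0, 16, 68595) .leaf) (41108, 0, 17, 25333) (.node .leaf (41111, 0, 17, 119478) .leaf)) (41112, 0, 17, 163406) (.node (.node .leaf (41115, 0, 17, 249357) .leaf) (41117, 0, 14, 253223) (.node .leaf (41118, 0, 15, 202568) .leaf))) (41120, 0, 17, 75894) (.node (.node (.node .leaf (41123, 0, 18, 38965) .leaf) (41125, 0, 16, 127283) (.node .leaf (41126, 0, 15, 16752) .leaf)) (41129, 0, 16, 174534) (.node (.node .leaf (41130, 0, 16, 155083) .leaf) (41132, 0, 18, 210125) (.node .leaf (41135, 0, 15, 212649) .leaf))))))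

/-- part of the orbit tree -/
def itp1_129 : Tree := (.node (.node (.node (.node (.node (.node .leaf (41139, 0, 17, 253406) .leaf) (41141, 0, 16, 231782) (.node .leaf (41142, 0, 19, 261101) .leaf)) (41145, 0, 13, 103901) (.node (.node .leaf (41146, 0, 14, 9630) .leaf) (41148, 0, 16, 85144) (.node .leaf (41151, 0, 17, 84063) .leaf))) (41153, 0, 17, 222938) (.node (.node (.node .leaf (41154, 0, 15, 186246) .leaf) (41156, 0, 19, 94246) (.node .leaf (41159, 0, 14, 49253) .leaf)) (41160, 0, 17, 224413) (.node (.node .leaf (41163, 0, 17, 187614) .leaf) (41165, 0, 18, 243160) (.node .leaf (41166, 0, 18, 16903) .leaf)))) (41169, 0, 16, 250166) (.node (.node (.node (.node .leaf (41170, 0, 11, 41328) .leaf) (41172, 0, 16, 198771) (.node .leaf (41175, 0, 14, 178224) .leaf)) (41176, 0, 18, 70856) (.node (.node .leaf (41179, 0, 16, 42123) .leaf) (41181, 0, 10, 230829) (.node .leaf (41182, 0, 17, 32206) .leaf))) (41184, 0, 12, 17150) (.node (.node (.node .leaf (41187, 0, 16, 127906) .leaf) (41189, 0, 17, 170933)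 (.node .leaf (41190, 0, 17, 207862) .leaf)) (41193, 0, 16, 34574) (.node (.node .leaf (41194, 0, 16, 213008) .leaf) (41196, 0, 15, 186239) (.node .leaf (41199, 0, 18, 126472) .leaf))))) (41200, 0, 15, 144392) (.node (.node (.node (.node (.node .leaf (41203, 0, 14, 230740) .leaf) (41205, 0, 15, 135739) (.node .leaf (41206, 0, 12, 86947) .leaf)) (41209, 0, 14, 34746) (.node (.node .leaf (41210, 0, 17, 216856) .leaf) (41212, 0, 17, 140830) (.node .leaf (41215, 0, 12, 69845) .leaf))) (41217, 0, 19, 259739) (.node (.node (.node .leaf (41218, 0, 18, 120966) .leaf) (41220, 0, 16, 20457) (.node .leaf (41223, 0, 16, 130741) .leaf)) (41224, 0, 16, 78693) (.node (.node .leaf (41227, 0, 17, 224052) .leaf) (41229, 0, 15, 125472) (.node .leaf (41230, 0, 17, 23139) .leaf)))) (41233, 0, 14, 102094) (.node (.node (.node (.node .leaf (41234, 0, 17, 16013) .leaf) (41236, 0, 17, 87947) (.node .leaf (41239, 0, 16, 231491) .leaf)) (41240, 0, 14, 44190) (.node (.node .leaf (41243, 0, 17, 73154) .leaf) (41245, 0, 15, 234101)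 (.node .leaf (41246, 0, 15, 139830) .leaf))) (41248, 0, 17, 7432) (.node (.node (.node .leaf (41251, 0, 15, 195746) .leaf) (41253, 0, 15, 224205) (.node .leaf (41254, 0, 17, 187025) .leaf)) (41257, 0, 10, 186614) (.node (.node .leaf (41258, 0, 13, 223413) .leaf) (41260, 0, 15, 131507) (.node .leaf (41263, 0, 13, 242160) .leaf))))))

/-- part of the orbit tree -/
def itp1_130 : Tree := (.node (.node (.node (.node (.node (.node .leaf (41267, 0, 17, 35412) .leaf) (41269, 0, 16, 179224) (.node .leaf (41270, 0, 18, 199771) .leaf)) (41273, 0, 18, 231610) (.node (.node .leaf (41274, 0, 15, 69856) .leaf) (41276, 0, 14, 31206) (.node .leaf (41279, 0, 17, 117157) .leaf))) (41281, 0, 16, 12624) (.node (.node (.node .leaf (41282, 0, 14, 98316) .leaf) (41284, 0, 14, 5987) (.node .leaf (41287, 0, 17, 128283) .leaf)) (41288, 0, 17, 164578) (.node (.node .leaf (41291, 0, 17, 256416) .leaf) (41293, 0, 14, 173265) (.node .leaf (41294, 0, 18, 202125) .leaf)))) (41297, 0, 14, 189512) (.node (.node (.node (.node .leaf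 (41298, 0, 18, 259834) .leaf) (41300, 0, 17, 156053) (.node .leaf (41303, 0, 16, 232782) .leaf)) (41304, 0, 17, 8630) (.node (.node .leaf (41307, 0, 15, 83272) .leaf) (41309, 0, 15, 63731) (.node .leaf (41310, 0, 16, 91003) .leaf))) (41312, 0, 17, 227214) (.node (.node (.node .leaf (41315, 0, 13, 173096) .leaf) (41317, 0, 15, 241355) (.node .leaf (41318, 0, 17, 138888) .leaf)) (41321, 0, 13, 108230) (.node (.node .leaf (41322, 0, 17, 6042) .leaf) (41324, 0, 16, 98549) (.node .leaf (41327, 0, 15, 56182) .leaf))))) (41328, 0, 10, 69595) (.node (.node (.node (.node (.node .leaf (41331, 0, 17, 49048) .leaf) (41333, 0, 17, 83377) (.node .leaf (41334, 0, 15, 26333) .leaf)) (41337, 0, 16, 248357) (.node (.node .leaf (41338, 0, 16, 162406) .leaf) (41340, 0, 16, 259587) (.node .leaf (41343, 0, 15, 149343) .leaf))) (41344, 0, 12, 98807) (.node (.node (.node .leaf (41347, 0, 14, 12737) .leaf) (41349, 0, 15, 108206) (.node .leaf (41350, 0, 17, 6130) .leaf)) (41353, 0, 16, 209711) (.node (.node .leaf (41354, 0,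 17, 164467) .leaf) (41356, 0, 16, 202012) (.node .leaf (41359, 0, 13, 173120) .leaf)))) (41360, 0, 17, 260514) (.node (.node (.node (.node .leaf (41363, 0, 16, 149985) .leaf) (41365, 0, 16, 249944) (.node .leaf (41366, 0, 14, 168100) .leaf)) (41369, 0, 16, 83417) (.node (.node .leaf (41370, 0, 15, 35871) .leaf) (41372, 0, 17, 91114) (.node .leaf (41375, 0, 15, 21850) .leaf))) (41377, 0, 16, 173241) (.node (.node (.node .leaf (41378, 0, 17, 202213) .leaf) (41380, 0, 14, 164490) (.node .leaf (41383, 0, 15, 209878) .leaf)) (41384, 0, 15, 44954) (.node (.node .leaf (41387, 0, 15, 73689) .leaf) (41389, 0, 16, 30431) (.node .leaf (41390, 0, 16, 116380) .leaf))))))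

/-- part of the orbit tree -/
def itp1_131 : Tree := (.node itp1_127 (41009, 0, 16, 230853) itp1_128)

/-- part of the orbit tree -/
def itp1_132 : Tree := (.node itp1_129 (41264, 0, 16, 80648) itp1_130)

/-- part of the orbit tree -/
def itp1_133 : Tree := (.node (.node (.node (.node (.node (.node .leaf (41394, 0, 17, 90899) .leaf) (41396, 0, 17, 52084) (.node .leaf (41399, 0, 16, 83232) .leaf)) (41400, 0, 18, 186319) (.node (.node .leaf (41403, 0, 17, 250017) .leaf) (41405, 0, 17, 134794) (.node .leaf (41406, 0, 14, 245449) .leaf))) (41408, 0, 15, 120855) (.node (.node (.node .leaf (41411, 0, 16, 219954) .leaf) (41413, 0, 15, 130596) (.node .leaf (41414, 0, 16, 20344) .leaf)) (41417, 0, 18, 224165) (.node (.node .leaf (41418, 0, 12, 187129) .leaf) (41420, 0, 15, 63434) (.node .leaf (41423, 0, 16, 83849) .leaf)))) (41424, 0, 15, 241377) (.node (.node (.node (.node .leaf (41427, 0, 14, 139197) .leaf) (41429, 0, 17, 231634) (.node .leaf (41430, 0, 18, 145806) .leaf)) (41433, 0, 14, 153306) (.node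 (.node .leaf (41434, 0, 13, 255641) .leaf) (41436, 0, 14, 80736) (.node .leaf (41439, 0, 9, 35388) .leaf))) (41441, 0, 16, 195635) (.node (.node (.node .leaf (41442, 0, 16, 45217) .leaf) (41444, 0, 17, 121255) (.node .leaf (41447, 0, 15, 27108) .leaf)) (41448, 0, 14, 247068) (.node (.node .leaf (41451, 0, 8, 130781) .leaf) (41453, 0, 15, 27058) (.node .leaf (41454, 0, 17, 175130) .leaf))))) (41457, 0, 17, 35525) (.node (.node (.node (.node (.node .leaf (41458, 0, 14, 182516) .leaf) (41460, 0, 15, 238066) (.node .leaf (41463, 0, 17, 73130) .leaf)) (41464, 0, 18, 145783) (.node (.node .leaf (41467, 0, 15, 231467) .leaf) (41469, 0, 14, 139076) (.node .leaf (41470, 0, 14, 54351) .leaf))) (41474, 0, 16, 116956) (.node (.node (.node .leaf (41475, 0, 16, 222055) .leaf) (41476, 0, 14, 41434) (.node .leaf (41477, 0, 17, 16828) .leaf)) (41480, 0, 17, 179553) (.node (.node .leaf (41481, 0, 14, 24969) .leaf) (41486, 0, 14, 241608) (.node .leaf (41487, 0, 11, 209921) .leaf)))) (41490, 0, 16, 241801) (.node (.node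 (.node (.node .leaf (41491, 0, 14, 71057) .leaf) (41492, 0, 11, 186767) (.node .leaf (41493, 0, 16, 145897) .leaf)) (41496, 0, 16, 50484) (.node (.node .leaf (41497, 0, 18, 137087) .leaf) (41502, 0, 13, 121150) (.node .leaf (41503, 0, 12, 85076) .leaf))) (41504, 0, 17, 234252) (.node (.node (.node .leaf (41505, 0, 17, 226154) .leaf) (41510, 0, 17, 145502) (.node .leaf (41511, 0, 15, 137836) .leaf)) (41514, 0, 18, 44511) (.node (.node .leaf (41515, 0, 15, 193777) .leaf) (41516, 0, 16, 102327) (.node .leaf (41517, 0, 16, 94161) .leaf))))))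

/-- part of the orbit tree -/
def itp1_134 : Tree := (.node (.node (.node (.node (.node (.node .leaf (41521, 0, 15, 229609) .leaf) (41526, 0, 16, 20136) (.node .leaf (41527, 0, 14, 25145) .leaf)) (41530, 0, 13, 187177) (.node (.node .leaf (41531, 0, 13, 163458) .leaf) (41532, 0, 15, 216134) (.node .leaf (41533, 0, 17, 202628) .leaf))) (41538, 0, 13, 172634) (.node (.node (.node .leaf (41539, 0, 19, 148028) .leaf) (41540, 0, 16, 248668) (.node .leaf (41541, 0, 18, 175234) .leaf)) (41544, 0, 15, 120807) (.node (.node .leaf (41545, 0, 16, 79745) .leaf) (41550, 0, 16, 48865) (.node .leaf (41551, 0, 16, 110188) .leaf)))) (41554, 0, 12, 201781) (.node (.node (.node (.node .leaf (41555, 0, 16, 14953) .leaf) (41556, 0, 15, 164698) (.node .leaf (41557, 0, 16, 55924) .leaf)) (41560, 0, 16, 5851) (.node (.node .leaf (41561, 0, 15, 217044) .leaf) (41566, 0, 17, 181940) (.node .leaf (41567, 0, 14, 141010) .leaf))) (41568, 0, 15, 260027) (.node (.node (.node .leaf (41569, 0, 16, 110229) .leaf) (41574, 0, 16, 155860)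 (.node .leaf (41575, 0, 12, 14842) .leaf)) (41578, 0, 13, 232503) (.node (.node .leaf (41579, 0, 14, 175227) .leaf) (41580, 0, 16, 189745) (.node .leaf (41581, 0, 17, 132439) .leaf))))) (41584, 0, 17, 164319) (.node (.node (.node (.node (.node .leaf (41585, 0, 14, 252003) .leaf) (41590, 0, 14, 5666) (.node .leaf (41591, 0, 15, 151308) .leaf)) (41594, 0, 11, 164771) (.node (.node .leaf (41595, 0, 13, 70660) .leaf) (41596, 0, 15, 40292) (.node .leaf (41597, 0, 17, 32002) .leaf))) (41600, 0, 16, 135155) (.node (.node (.node .leaf (41601, 0, 13, 211836) .leaf) (41606, 0, 15, 62781) (.node .leaf (41607, 0, 17, 231059) .leaf)) (41610, 0, 16, 155836) (.node (.node .leaf (41611, 0, 16, 14738) .leaf) (41612, 0, 13, 260051) (.node .leaf (41613, 0, 16, 62254) .leaf)))) (41616, 0, 13, 201892) (.node (.node (.node (.node .leaf (41617, 0, 16, 38848) .leaf) (41622, 0, 16, 164811) (.node .leaf (41623, 0, 17, 56037) .leaf)) (41626, 0, 16, 5706) (.node (.node .leaf (41627, 0, 15, 151396) .leaf) (41628, 0, 13, 98597)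 (.node .leaf (41629, 0, 16, 166779) .leaf))) (41634, 0, 14, 21539) (.node (.node (.node .leaf (41635, 0, 17, 110084) .leaf) (41636, 0, 13, 81189) (.node .leaf (41637, 0, 17, 14699) .leaf)) (41640, 0, 16, 205214) (.node (.node .leaf (41641, 0, 13, 246264) .leaf) (41646, 0, 16, 149656) (.node .leaf (41647, 0, 16, 174334) .leaf))))))

/-- part of the orbit tree -/
def itp1_135 : Tree := (.node (.node (.node (.node (.node (.node .leaf (41651, 0, 18, 183312) .leaf) (41652, 0, 16, 214384) (.node .leaf (41653, 0, 16, 151453) .leaf)) (41656, 0, 16, 88523) (.node (.node .leaf (41657, 0, 17, 55836) .leaf) (41662, 0, 15, 201821) (.node .leaf (41663, 0, 15, 85363) .leaf))) (41664, 0, 15, 80600) (.node (.node (.node .leaf (41665, 0, 13, 222198) .leaf) (41670, 0, 16, 44471) (.node .leaf (41671, 0, 18, 193689) .leaf)) (41674, 0, 14, 145462) (.node (.node .leaf (41675, 0, 15, 192686) .leaf) (41676, 0, 16, 227790) (.node .leaf (41677, 0, 17, 128631) .leaf)))) (41680, 0, 17, 216110) (.node (.node (.node (.node .leaf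 (41681, 0, 16, 261446) .leaf) (41686, 0, 17, 160806) (.node .leaf (41687, 0, 14, 33391) .leaf)) (41690, 0, 17, 26781) (.node (.node .leaf (41691, 0, 17, 137198) .leaf) (41692, 0, 16, 65947) (.node .leaf (41693, 0, 16, 123389) .leaf))) (41698, 0, 18, 241568) (.node (.node (.node .leaf (41699, 0, 18, 128654) .leaf) (41700, 0, 12, 153507) (.node .leaf (41701, 0, 17, 25057) .leaf)) (41704, 0, 14, 19224) (.node (.node .leaf (41705, 0, 16, 43902) .leaf) (41710, 0, 16, 74270) (.node .leaf (41711, 0, 14, 115320) .leaf))))) (41714, 0, 17, 121174) (.node (.node (.node (.node (.node .leaf (41715, 0, 16, 108182) .leaf) (41716, 0, 16, 12278) (.node .leaf (41717, 0, 17, 53136) .leaf)) (41720, 0, 15, 144205) (.node (.node .leaf (41721, 0, 15, 185131) .leaf) (41726, 0, 16, 219723) (.node .leaf (41727, 0, 16, 71161) .leaf))) (41728, 0, 11, 211597) (.node (.node (.node .leaf (41729, 0, 15, 27894) .leaf) (41734, 0, 17, 152459) (.node .leaf (41735, 0, 15, 129945) .leaf)) (41738, 0, 12, 20272) (.node (.node .leaf (41739,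 0, 16, 224792) .leaf) (41740, 0, 15, 41049) (.node .leaf (41741, 0, 14, 116304) .leaf)))) (41744, 0, 17, 82648) (.node (.node (.node (.node .leaf (41745, 0, 15, 107198) .leaf) (41750, 0, 17, 11230) (.node .leaf (41751, 0, 15, 52152) .leaf)) (41754, 0, 15, 213440) (.node (.node .leaf (41755, 0, 15, 71918) .leaf) (41756, 0, 16, 220771) (.node .leaf (41757, 0, 16, 36737) .leaf))) (41762, 0, 18, 90461) (.node (.node (.node .leaf (41763, 0, 14, 194958) .leaf) (41764, 0, 17, 2139) (.node .leaf (41765, 0, 16, 59453) .leaf)) (41768, 0, 16, 238158) (.node (.node .leaf (41769, 0, 17, 129888) .leaf) (41774, 0, 15, 144673) (.node .leaf (41775, 0, 15, 27663) .leaf))))))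

/-- part of the orbit tree -/
def itp1_136 : Tree := (.node (.node (.node (.node (.node (.node .leaf (41779, 0, 16, 260462) .leaf) (41780, 0, 19, 213305) (.node .leaf (41781, 0, 17, 71703) .leaf)) (41784, 0, 10, 27829) (.node (.node .leaf (41785, 0, 10, 232854) .leaf) (41790, 0, 17, 66995) (.node .leaf (41791, 0, 17, 124373) .leaf))) (41792, 0, 15, 20491) (.node (.node (.node .leaf (41793, 0, 18, 45165) .leaf) (41798, 0, 17, 260669) (.node .leaf (41799, 0, 16, 107283) .leaf)) (41802, 0, 13, 206262) (.node (.node .leaf (41803, 0, 15, 247248) .leaf) (41804, 0, 15, 150704) (.node .leaf (41805, 0, 15, 172541) .leaf)))) (41808, 0, 16, 141406) (.node (.node (.node (.node .leaf (41809, 0, 18, 182328) .leaf) (41814, 0, 17, 101579) (.node .leaf (41815, 0, 17, 237886) .leaf)) (41818, 0, 18, 203082) (.node (.node .leaf (41819, 0, 16, 82020) .leaf) (41820, 0, 12, 167461) (.node .leaf (41821, 0, 15, 55051) .leaf))) (41826, 0, 13, 134107) (.node (.node (.node .leaf (41827, 0, 15, 172292) .leaf) (41828, 0, 15,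 221917) (.node .leaf (41829, 0, 14, 210539) .leaf)) (41832, 0, 15, 260804) (.node (.node .leaf (41833, 0, 17, 107498) .leaf) (41838, 0, 14, 5984) (.node .leaf (41839, 0, 15, 63238) .leaf))))) (41842, 0, 14, 167644) (.node (.node (.node (.node (.node .leaf (41843, 0, 17, 37864) .leaf) (41844, 0, 16, 72328) (.node .leaf (41845, 0, 17, 82077) .leaf)) (41848, 0, 16, 101426) (.node (.node .leaf (41849, 0, 16, 251164) .leaf) (41854, 0, 18, 159541) (.node .leaf (41855, 0, 16, 167763) .leaf))) (41858, 0, 15, 64930) (.node (.node (.node .leaf (41859, 0, 17, 7620) .leaf) (41860, 0, 16, 103588) (.node .leaf (41861, 0, 18, 95426) .leaf)) (41864, 0, 18, 93997) (.node (.node .leaf (41865, 0, 17, 210435) .leaf) (41870, 0, 17, 188697) (.node .leaf (41871, 0, 17, 131455) .leaf)))) (41874, 0, 16, 165367) (.node (.node (.node (.node .leaf (41875, 0, 14, 147995) .leaf) (41876, 0, 18, 101466) (.node .leaf (41877, 0, 13, 199831) .leaf)) (41880, 0, 14, 203227) (.node (.node .leaf (41881, 0, 16, 82165) .leaf) (41886, 0,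 15, 39244) (.node .leaf (41887, 0, 17, 55194) .leaf))) (41888, 0, 8, 63675) (.node (.node (.node .leaf (41889, 0, 14, 149012) .leaf) (41894, 0, 17, 94164) (.node .leaf (41895, 0, 18, 210682) .leaf)) (41898, 0, 12, 119759) (.node (.node .leaf (41899, 0, 18, 78761) .leaf) (41900, 0, 13, 47817) .leaf)))))

/-- part of the orbit tree -/
def itp1_137 : Tree := (.node itp1_133 (41520, 0, 16, 121287) itp1_134)

/-- part of the orbit tree -/
def itp1_138 : Tree := (.node itp1_135 (41778, 0, 18, 203016) itp1_136)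

/-- part of the orbit tree -/
def itp1_139 : Tree := (.node itp1_131 (41136, 0, 17, 217123) itp1_132)

/-- part of the orbit tree -/
def itp1_140 : Tree := (.node itp1_137 (41650, 0, 17, 142454) itp1_138)

/-- part of the orbit tree -/
def itp1_141 : Tree := (.node (.node (.node (.node (.node (.node .leaf (41904, 0, 15, 167501) .leaf) (41905, 0, 16, 15937) (.node .leaf (41910, 0, 15, 203042) .leaf)) (41911, 0, 18, 87879) (.node (.node .leaf (41914, 0, 16, 101539) .leaf) (41915, 0, 15, 216060) (.node .leaf (41916, 0, 17, 7116) .leaf))) (41917, 0, 16, 140026) (.node (.node (.node .leaf (41922, 0, 15, 235300) .leaf) (41923, 0, 14, 227138) (.node .leaf (41924, 0, 17, 238118) .leaf)) (41925, 0, 14, 129800) (.node (.node .leaf (41928, 0, 15, 79783) .leaf) (41929, 0, 15, 767) (.node .leaf (41934, 0, 16, 101279) .leaf)))) (41935, 0, 17, 195046) (.node (.node (.node (.node .leaf (41938, 0, 14, 126833) .leaf) (41939, 0, 16, 69399) (.node .leaf (41940, 0, 18, 34423) .leaf)) (41941, 0, 15, 232958) (.node (.node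 .leaf (41944, 0, 16, 213329) .leaf) (41945, 0, 16, 71807) (.node .leaf (41950, 0, 16, 185918) .leaf))) (41951, 0, 16, 36624) (.node (.node (.node .leaf (41952, 0, 15, 118004) .leaf) (41953, 0, 17, 76946) (.node .leaf (41958, 0, 13, 42482) .leaf)) (41959, 0, 15, 224880) (.node (.node .leaf (41962, 0, 16, 178505) .leaf) (41963, 0, 15, 130033) (.node .leaf (41964, 0, 17, 249935) .leaf))))) (41965, 0, 14, 208937) (.node (.node (.node (.node (.node .leaf (41968, 0, 10, 186055) .leaf) (41969, 0, 16, 218311) (.node .leaf (41974, 0, 17, 213416) .leaf)) (41975, 0, 16, 146881) (.node (.node .leaf (41978, 0, 16, 49436) .leaf) (41979, 0, 16, 232711) (.node .leaf (41980, 0, 15, 17222) .leaf))) (41981, 0, 15, 84092) (.node (.node (.node .leaf (41985, 0, 18, 230349) .leaf) (41987, 0, 18, 7778) (.node .leaf (41988, 0, 16, 104194) .leaf)) (41990, 0, 14, 50983) (.node (.node .leaf (41992, 0, 15, 232377) .leaf) (41994, 0, 16, 186381) (.node .leaf (41997, 0, 16, 71244) .leaf)))) (41999, 0, 16, 131801) (.node (.node (.node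 (.node .leaf (42001, 0, 18, 128315) .leaf) (42003, 0, 16, 138569) (.node .leaf (42004, 0, 18, 119560) .leaf)) (42006, 0, 17, 180082) (.node (.node .leaf (42008, 0, 16, 127980) .leaf) (42010, 0, 16, 44795) (.node .leaf (42013, 0, 16, 76457) .leaf))) (42015, 0, 16, 31372) (.node (.node (.node .leaf (42016, 0, 15, 173524) .leaf) (42018, 0, 15, 216987) (.node .leaf (42021, 0, 18, 33242) .leaf)) (42023, 0, 15, 208052) (.node (.node .leaf (42025, 0, 17, 24618) .leaf) (42027, 0, 18, 77839) (.node .leaf (42028, 0, 16, 143976) .leaf))))))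

/-- part of the orbit tree -/
def itp1_142 : Tree := (.node (.node (.node (.node (.node (.node .leaf (42032, 0, 17, 184607) .leaf) (42034, 0, 18, 80237) (.node .leaf (42037, 0, 18, 194348) .leaf)) (42039, 0, 17, 73566) (.node (.node .leaf (42041, 0, 15, 25261) .leaf) (42043, 0, 15, 215130) (.node .leaf (42044, 0, 12, 180538) .leaf))) (42046, 0, 17, 240876) (.node (.node (.node .leaf (42049, 0, 16, 140481) .leaf) (42051, 0, 15, 13109) (.node .leaf (42052, 0, 15, 261492) .leaf)) (42054, 0, 16, 5382) (.node (.node .leaf (42056, 0, 17, 92405) .leaf) (42058, 0, 14, 163975) (.node .leaf (42061, 0, 15, 14458) .leaf)))) (42063, 0, 17, 173748) (.node (.node (.node (.node .leaf (42065, 0, 17, 110001) .leaf) (42067, 0, 13, 68785) (.node .leaf (42068, 0, 13, 34257) .leaf)) (42070, 0, 17, 156656) (.node (.node .leaf (42072, 0, 15, 170346) .leaf) (42074, 0, 15, 248143) (.node .leaf (42077, 0, 13, 210992) .leaf))) (42079, 0, 16, 53314) (.node (.node (.node .leaf (42080, 0, 16, 118610) .leaf) (42082, 0, 16, 40823)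 (.node .leaf (42085, 0, 17, 71191) .leaf)) (42087, 0, 17, 17970) (.node (.node .leaf (42089, 0, 17, 199340) .leaf) (42091, 0, 19, 107683) (.node .leaf (42092, 0, 16, 158434) .leaf))))) (42094, 0, 18, 98960) (.node (.node (.node (.node (.node .leaf (42096, 0, 12, 166293) .leaf) (42098, 0, 17, 190242) (.node .leaf (42101, 0, 16, 224834) .leaf)) (42103, 0, 16, 83924) (.node (.node .leaf (42105, 0, 12, 14887) .leaf) (42107, 0, 13, 250453) (.node .leaf (42108, 0, 17, 109500) .leaf))) (42110, 0, 12, 64409) (.node (.node (.node .leaf (42112, 0, 15, 211243) .leaf) (42114, 0, 16, 157966) (.node .leaf (42117, 0, 17, 254062) .leaf)) (42119, 0, 17, 176203) (.node (.node .leaf (42121, 0, 15, 130261) .leaf) (42123, 0, 15, 44272) (.node .leaf (42124, 0, 16, 75152) .leaf)))) (42126, 0, 17, 30133) (.node (.node (.node (.node .leaf (42128, 0, 16, 82302) .leaf) (42130, 0, 16, 4443) (.node .leaf (42133, 0, 15, 104507) .leaf)) (42135, 0, 13, 250429) (.node (.node .leaf (42137, 0, 19, 230528) .leaf) (42139, 0, 16, 185509)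 (.node .leaf (42140, 0, 18, 166397) .leaf))) (42142, 0, 18, 90511) (.node (.node (.node .leaf (42145, 0, 15, 85678) .leaf) (42147, 0, 18, 173788) (.node .leaf (42148, 0, 12, 92317) .leaf)) (42150, 0, 18, 89048) (.node (.node .leaf (42152, 0, 15, 261404) .leaf) (42154, 0, 17, 214883) (.node .leaf (42157, 0, 15, 183811) .leaf))))))

/-- part of the orbit tree -/
def itp1_143 : Tree := (.node (.node (.node (.node (.node (.node .leaf (42161, 0, 16, 211032) .leaf) (42163, 0, 15, 53290) (.node .leaf (42164, 0, 15, 204395) .leaf)) (42166, 0, 15, 63001) (.node (.node .leaf (42168, 0, 17, 28435) .leaf) (42170, 0, 17, 81718) (.node .leaf (42173, 0, 14, 110041) .leaf))) (42175, 0, 15, 148907) (.node (.node (.node .leaf (42176, 0, 15, 143872) .leaf) (42178, 0, 15, 66440) (.node .leaf (42181, 0, 13, 136243) .leaf)) (42183, 0, 18, 121549) (.node (.node .leaf (42185, 0, 13, 169555) .leaf) (42187, 0, 13, 223680) (.node .leaf (42188, 0, 14, 42881) .leaf)))) (42190, 0, 13, 217075) (.node (.node (.node (.node .leaf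 (42192, 0, 9, 17654) .leaf) (42194, 0, 15, 240772) (.node .leaf (42197, 0, 18, 25285) .leaf)) (42199, 0, 17, 238232) (.node (.node .leaf (42201, 0, 17, 60934) .leaf) (42203, 0, 14, 114211) (.node .leaf (42204, 0, 15, 14147) .leaf))) (42206, 0, 16, 80133) (.node (.node (.node .leaf (42209, 0, 17, 243774) .leaf) (42211, 0, 17, 190491) (.node .leaf (42212, 0, 16, 221563) .leaf)) (42214, 0, 14, 186469) (.node (.node .leaf (42216, 0, 13, 238998) .leaf) (42218, 0, 17, 19940) (.node .leaf (42221, 0, 16, 230309) .leaf))))) (42223, 0, 18, 27607) (.node (.node (.node (.node (.node .leaf (42225, 0, 16, 221394) .leaf) (42227, 0, 16, 36942) (.node .leaf (42228, 0, 17, 71982) .leaf)) (42230, 0, 16, 18699) (.node (.node .leaf (42232, 0, 16, 119648) .leaf) (42234, 0, 17, 146194) (.node .leaf (42237, 0, 17, 253136) .leaf))) (42239, 0, 17, 138529) (.node (.node (.node .leaf (42240, 0, 17, 81152) .leaf) (42242, 0, 17, 185714) (.node .leaf (42245, 0, 15, 185616) .leaf)) (42247, 0, 11, 193345) (.node (.node .leaf (42249,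 0, 17, 51627) .leaf) (42251, 0, 16, 26304) (.node .leaf (42252, 0, 16, 4334) .leaf)))) (42254, 0, 13, 16627) (.node (.node (.node (.node .leaf (42256, 0, 16, 216054) .leaf) (42258, 0, 17, 74789) (.node .leaf (42261, 0, 12, 44357) .leaf)) (42263, 0, 15, 130400) (.node (.node .leaf (42265, 0, 15, 176638) .leaf) (42267, 0, 15, 254427) (.node .leaf (42268, 0, 12, 122487) .leaf))) (42270, 0, 16, 211102) (.node (.node (.node .leaf (42273, 0, 12, 137508) .leaf) (42275, 0, 13, 47075) (.node .leaf (42276, 0, 15, 81539) .leaf)) (42278, 0, 15, 120677) (.node (.node .leaf (42280, 0, 17, 43670) .leaf) (42282, 0, 18, 213732) (.node .leaf (42285, 0, 17, 36005) .leaf))))))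

/-- part of the orbit tree -/
def itp1_144 : Tree := (.node (.node (.node (.node (.node (.node .leaf (42289, 0, 16, 28626) .leaf) (42291, 0, 18, 184246) (.node .leaf (42292, 0, 16, 214742) .leaf)) (42294, 0, 17, 136947) (.node (.node .leaf (42296, 0, 13, 187488) .leaf) (42298, 0, 16, 2632) (.node .leaf (42301, 0, 16, 195155) .leaf))) (42303, 0, 16, 54029) (.node (.node (.node .leaf (42304, 0, 15, 91530) .leaf) (42306, 0, 16, 14070) (.node .leaf (42309, 0, 14, 114582) .leaf)) (42311, 0, 17, 175051) (.node (.node .leaf (42313, 0, 16, 251448) .leaf) (42315, 0, 17, 15946) (.node .leaf (42316, 0, 15, 258059) .leaf)))) (42318, 0, 17, 141901) (.node (.node (.node (.node .leaf (42320, 0, 16, 201596) .leaf) (42322, 0, 17, 151203) (.node .leaf (42325, 0, 15, 210255) .leaf)) (42327, 0, 17, 169958) (.node (.node .leaf (42329, 0, 17, 106702) .leaf) (42331, 0, 15, 35677) (.node .leaf (42332, 0, 17, 66109) .leaf))) (42334, 0, 17, 159375) (.node (.node (.node .leaf (42337, 0, 17, 167232) .leaf) (42339, 0, 16, 253285)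 (.node .leaf (42340, 0, 13, 152581) .leaf)) (42342, 0, 17, 102383) (.node (.node .leaf (42344, 0, 17, 61980) .leaf) (42346, 0, 17, 71835) (.node .leaf (42349, 0, 17, 37371) .leaf))))) (42351, 0, 17, 115166) (.node (.node (.node (.node (.node .leaf (42353, 0, 16, 14168) .leaf) (42355, 0, 18, 253738) (.node .leaf (42356, 0, 17, 11344) .leaf)) (42358, 0, 19, 97397) (.node (.node .leaf (42360, 0, 16, 143595) .leaf) (42362, 0, 16, 221390) (.node .leaf (42365, 0, 12, 172761) .leaf))) (42367, 0, 17, 244107) (.node (.node (.node .leaf (42369, 0, 17, 31545) .leaf) (42371, 0, 17, 76572) (.node .leaf (42372, 0, 16, 41596) .leaf)) (42374, 0, 16, 127577) (.node (.node .leaf (42376, 0, 18, 157685) .leaf) (42378, 0, 17, 102279) (.node .leaf (42381, 0, 15, 157570) .leaf)))) (42383, 0, 17, 210855) (.node (.node (.node (.node .leaf (42385, 0, 12, 131948) .leaf) (42387, 0, 18, 84675) (.node .leaf (42388, 0, 17, 164994) .leaf)) (42390, 0, 17, 93424) (.node (.node .leaf (42392, 0, 11, 4355) .leaf) (42394, 0, 14, 104119)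 (.node .leaf (42397, 0, 18, 8151) .leaf))) (42399, 0, 17, 86002) (.node (.node (.node .leaf (42400, 0, 15, 233642) .leaf) (42402, 0, 18, 6161) (.node .leaf (42405, 0, 18, 215535) .leaf)) (42407, 0, 17, 137674) (.node (.node .leaf (42409, 0, 16, 87380) .leaf) (42411, 0, 15, 175011) (.node .leaf (42412, 0, 13, 101393) .leaf))))))

/-- part of the orbit tree -/
def itp1_145 : Tree := (.node itp1_141 (42030, 0, 17, 121370) itp1_142)

/-- part of the orbit tree -/
def itp1_146 : Tree := (.node itp1_143 (42287, 0, 17, 174936) itp1_144)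

/-- part of the orbit tree -/
def itp1_147 : Tree := (.node (.node (.node (.node (.node (.node .leaf (42416, 0, 15, 125183) .leaf) (42418, 0, 18, 159463) (.node .leaf (42421, 0, 16, 78266) .leaf)) (42423, 0, 16, 24991) (.node (.node .leaf (42425, 0, 17, 208129) .leaf) (42427, 0, 14, 56661) (.node .leaf (42428, 0, 16, 259140) .leaf))) (42430, 0, 19, 173153) (.node (.node (.node .leaf (42433, 0, 18, 201151) .leaf) (42435, 0, 17, 147866) (.node .leaf (42436, 0, 13, 43774) .leaf)) (42438, 0, 15, 170207) (.node (.node .leaf (42440, 0, 19, 119873) .leaf) (42442, 0, 17, 33892) (.node .leaf (42445, 0, 18, 68868) .leaf)))) (42447, 0, 14, 127294) (.node (.node (.node (.node .leaf (42449, 0, 18, 92650) .leaf) (42451, 0, 16, 14799) (.node .leaf (42452, 0, 14, 187400) .leaf)) (42454, 0, 16, 57482) (.node (.node .leaf (42456, 0, 17, 18825) .leaf) (42458, 0, 15, 238075) (.node .leaf (42461, 0, 16, 226641) .leaf))) (42463, 0, 17, 140660) (.node (.node (.node .leaf (42464, 0, 17, 64044) .leaf) (42466, 0, 17, 109065)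 (.node .leaf (42469, 0, 18, 9065) .leaf)) (42471, 0, 15, 26280) (.node (.node .leaf (42473, 0, 17, 72539) .leaf) (42475, 0, 17, 225271) (.node .leaf (42476, 0, 17, 190103) .leaf))))) (42478, 0, 17, 243378) (.node (.node (.node (.node (.node .leaf (42480, 0, 16, 164473) .leaf) (42482, 0, 12, 250460) (.node .leaf (42485, 0, 17, 129068) .leaf)) (42487, 0, 17, 135262) (.node (.node .leaf (42489, 0, 16, 224685) .leaf) (42491, 0, 17, 71586) (.node .leaf (42492, 0, 13, 215966) .leaf))) (42494, 0, 17, 118503) (.node (.node (.node .leaf (42496, 0, 12, 122831) .leaf) (42497, 0, 15, 231137) (.node .leaf (42498, 0, 14, 145341) .leaf)) (42499, 0, 17, 28307) (.node (.node .leaf (42508, 0, 13, 237290) .leaf) (42509, 0, 16, 70496) (.node .leaf (42510, 0, 16, 41532) .leaf)))) (42511, 0, 16, 143017) (.node (.node (.node (.node .leaf (42512, 0, 15, 239929) .leaf) (42513, 0, 12, 203362) (.node .leaf (42514, 0, 16, 16715) .leaf)) (42515, 0, 15, 137317) (.node (.node .leaf (42524, 0, 15, 81080) .leaf) (42525, 0, 18, 67289)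 (.node .leaf (42526, 0, 17, 46746) .leaf))) (42527, 0, 18, 22268) (.node (.node (.node .leaf (42532, 0, 13, 187864) .leaf) (42533, 0, 16, 34038) (.node .leaf (42534, 0, 18, 79274) .leaf)) (42535, 0, 17, 196804) (.node (.node .leaf (42536, 0, 16, 18521) .leaf) (42537, 0, 15, 19546) (.node .leaf (42538, 0, 16, 237611) .leaf))))))

/-- part of the orbit tree -/
def itp1_148 : Tree := (.node (.node (.node (.node (.node (.node .leaf (42548, 0, 15, 51410) .leaf) (42549, 0, 18, 193024) (.node .leaf (42550, 0, 17, 213852) .leaf)) (42551, 0, 15, 72306) (.node (.node .leaf (42552, 0, 14, 185449) .leaf) (42553, 0, 14, 26497) (.node .leaf (42554, 0, 16, 120541) .leaf))) (42555, 0, 16, 222250) (.node (.node (.node .leaf (42560, 0, 19, 100165) .leaf) (42561, 0, 18, 253547) (.node .leaf (42562, 0, 15, 243954) .leaf)) (42563, 0, 16, 13849) (.node (.node .leaf (42572, 0, 16, 62572) .leaf) (42573, 0, 17, 5130) (.node .leaf (42574, 0, 16, 64182) .leaf)))) (42575, 0, 18, 82991) (.node (.node (.node (.node .leaf (42576,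 0, 16, 258483) .leaf) (42577, 0, 14, 28900) (.node .leaf (42578, 0, 15, 114855) .leaf)) (42579, 0, 15, 73921) (.node (.node .leaf (42588, 0, 17, 166969) .leaf) (42589, 0, 16, 212252) (.node .leaf (42590, 0, 16, 166976) .leaf))) (42591, 0, 17, 212090) (.node (.node (.node .leaf (42596, 0, 17, 121345) .leaf) (42597, 0, 14, 80487) (.node .leaf (42598, 0, 15, 35364) .leaf)) (42599, 0, 15, 27202) (.node (.node .leaf (42600, 0, 14, 4307) .leaf) (42601, 0, 16, 150013) (.node .leaf (42602, 0, 18, 169631) .leaf))))) (42603, 0, 15, 106895) (.node (.node (.node (.node (.node .leaf (42612, 0, 15, 62372) .leaf) (42613, 0, 15, 174730) (.node .leaf (42614, 0, 12, 193137) .leaf)) (42615, 0, 15, 135703) (.node (.node .leaf (42616, 0, 16, 157221) .leaf) (42617, 0, 17, 89737) (.node .leaf (42618, 0, 15, 61130) .leaf))) (42619, 0, 16, 251769) (.node (.node (.node .leaf (42628, 0, 18, 207992) .leaf) (42629, 0, 17, 149909) (.node .leaf (42630, 0, 16, 260297) .leaf)) (42631, 0, 17, 106983) (.node (.node .leaf (42632, 0,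 17, 78019) .leaf) (42633, 0, 13, 56340) (.node .leaf (42634, 0, 12, 93512) .leaf)))) (42635, 0, 16, 32896) (.node (.node (.node (.node .leaf (42644, 0, 15, 87085) .leaf) (42645, 0, 15, 111691) (.node .leaf (42646, 0, 18, 101951) .leaf)) (42647, 0, 16, 251665) (.node (.node .leaf (42648, 0, 14, 62412) .leaf) (42649, 0, 17, 174818) (.node .leaf (42650, 0, 19, 137395) .leaf))) (42651, 0, 18, 82576) (.node (.node (.node .leaf (42656, 0, 13, 201388) .leaf) (42657, 0, 12, 84866) (.node .leaf (42658, 0, 17, 64222) .leaf)) (42659, 0, 16, 173040) (.node (.node .leaf (42668, 0, 15, 131605) .leaf) (42669, 0, 17, 189043) (.node .leaf (42670, 0, 17, 217648) .leaf))))))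

/-- part of the orbit tree -/
def itp1_149 : Tree := (.node (.node (.node (.node (.node (.node .leaf (42672, 0, 10, 157435) .leaf) (42673, 0, 13, 165533) (.node .leaf (42674, 0, 17, 166952) .leaf)) (42675, 0, 15, 251576) (.node (.node .leaf (42684, 0, 15, 258523) .leaf) (42685, 0, 19, 39462) (.node .leaf (42686, 0, 16, 76389) .leaf))) (42687, 0, 15, 117251) (.node (.node (.node .leaf (42692, 0, 17, 18481) .leaf) (42693, 0, 14, 135455) (.node .leaf (42694, 0, 12, 237635) .leaf)) (42695, 0, 17, 128701) (.node (.node .leaf (42696, 0, 15, 187824) .leaf) (42697, 0, 14, 33950) (.node .leaf (42698, 0, 17, 79298) .leaf)))) (42699, 0, 18, 256518) (.node (.node (.node (.node .leaf (42708, 0, 16, 147115) .leaf) (42709, 0, 15, 188109) (.node .leaf (42710, 0, 19, 120501) .leaf)) (42711, 0, 18, 233192) (.node (.node .leaf (42712, 0, 15, 8720) .leaf) (42713, 0, 16, 193128) (.node .leaf (42714, 0, 14, 213812) .leaf))) (42715, 0, 17, 72218) (.node (.node (.node .leaf (42720, 0, 13, 215590) .leaf) (42721, 0, 13, 70408)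 (.node .leaf (42722, 0, 13, 140301) .leaf)) (42723, 0, 9, 181355) (.node (.node .leaf (42732, 0, 18, 92307) .leaf) (42733, 0, 16, 231049) (.node .leaf (42734, 0, 17, 145365) .leaf))))) (42735, 0, 14, 55504) (.node (.node (.node (.node (.node .leaf (42736, 0, 17, 68733) .leaf) (42737, 0, 16, 125979) (.node .leaf (42738, 0, 18, 185506) .leaf)) (42739, 0, 15, 36236) (.node (.node .leaf (42748, 0, 17, 200902) .leaf) (42749, 0, 15, 258208) (.node .leaf (42750, 0, 18, 16675) .leaf))) (42751, 0, 16, 137229) (.node (.node (.node .leaf (42756, 0, 18, 137478) .leaf) (42757, 0, 17, 73247) (.node .leaf (42758, 0, 17, 215331) .leaf)) (42759, 0, 17, 194157) (.node (.node .leaf (42760, 0, 13, 1469) .leaf) (42761, 0, 15, 58843) (.node .leaf (42762, 0, 17, 146114) .leaf)))) (42763, 0, 18, 112126) (.node (.node (.node (.node .leaf (42772, 0, 15, 78279) .leaf) (42773, 0, 15, 33077) (.node .leaf (42774, 0, 17, 78198) .leaf)) (42775, 0, 17, 119056) (.node (.node .leaf (42776, 0, 17, 238662) .leaf) (42777, 0, 12, 171406)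 (.node .leaf (42778, 0, 17, 19508) .leaf))) (42779, 0, 16, 249259) (.node (.node (.node .leaf (42784, 0, 18, 76752) .leaf) (42785, 0, 17, 117686) (.node .leaf (42786, 0, 16, 31733) .leaf)) (42787, 0, 10, 128122) (.node (.node .leaf (42796, 0, 17, 184487) .leaf) (42797, 0, 16, 251661) (.node .leaf (42798, 0, 18, 157518) .leaf))))))

/-- part of the orbit tree -/
def itp1_150 : Tree := (.node (.node (.node (.node (.node (.node .leaf (42800, 0, 17, 217989) .leaf) (42801, 0, 17, 27390) (.node .leaf (42802, 0, 18, 132000) .leaf)) (42803, 0, 15, 189382) (.node (.node .leaf (42812, 0, 15, 42577) .leaf) (42813, 0, 14, 110424) (.node .leaf (42814, 0, 18, 7963) .leaf))) (42815, 0, 17, 65405) (.node (.node (.node .leaf (42820, 0, 14, 204731) .leaf) (42821, 0, 13, 83605) (.node .leaf (42822, 0, 12, 63433) .leaf)) (42823, 0, 17, 50115) (.node (.node .leaf (42824, 0, 17, 225083) .leaf) (42825, 0, 16, 233309) (.node .leaf (42826, 0, 12, 156232) .leaf)))) (42827, 0, 15, 188280) (.node (.node (.node (.node .leaf (42836,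 0, 12, 92493) .leaf) (42837, 0, 17, 256947) (.node .leaf (42838, 0, 15, 164159) .leaf)) (42839, 0, 15, 55313) (.node (.node .leaf (42840, 0, 17, 71534) .leaf) (42841, 0, 15, 128776) (.node .leaf (42842, 0, 15, 5310) .leaf))) (42843, 0, 17, 42797) (.node (.node (.node .leaf (42848, 0, 16, 7596) .leaf) (42849, 0, 14, 148610) (.node .leaf (42850, 0, 18, 259550) .leaf)) (42851, 0, 17, 109808) (.node (.node .leaf (42860, 0, 15, 165933) .leaf) (42861, 0, 17, 48523) (.node .leaf (42862, 0, 15, 69064) .leaf))))) (42863, 0, 18, 211313) (.node (.node (.node (.node (.node .leaf (42864, 0, 18, 158554) .leaf) (42865, 0, 16, 55653) (.node .leaf (42866, 0, 18, 92454) .leaf)) (42867, 0, 16, 252422) (.node (.node .leaf (42876, 0, 16, 65243) .leaf) (42877, 0, 14, 174069) (.node .leaf (42878, 0, 16, 202409) .leaf))) (42879, 0, 19, 85895) (.node (.node (.node .leaf (42880, 0, 15, 46895) .leaf) (42881, 0, 13, 53611) (.node .leaf (42882, 0, 18, 90167) .leaf)) (42883, 0, 15, 211225) (.node (.node .leaf (42892, 0, 15, 174996)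 .leaf) (42893, 0, 18, 148714) (.node .leaf (42894, 0, 13, 259510) .leaf)))) (42895, 0, 15, 109720) (.node (.node (.node (.node .leaf (42896, 0, 16, 65203) .leaf) (42897, 0, 18, 173981) (.node .leaf (42898, 0, 13, 237407) .leaf)) (42899, 0, 16, 229177) (.node (.node .leaf (42908, 0, 17, 54209) .leaf) (42909, 0, 16, 12828) (.node .leaf (42910, 0, 18, 99136) .leaf))) (42911, 0, 19, 91010) (.node (.node (.node .leaf (42916, 0, 15, 100946) .leaf) (42917, 0, 16, 222623) (.node .leaf (42918, 0, 17, 156192) .leaf)) (42919, 0, 16, 15118) (.node (.node .leaf (42920, 0, 14, 204755) .leaf) (42921, 0, 17, 83709) .leaf)))))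

/-- part of the orbit tree -/
def itp1_151 : Tree := (.node itp1_147 (42539, 0, 16, 129285) itp1_148)

/-- part of the orbit tree -/
def itp1_152 : Tree := (.node itp1_149 (42799, 0, 15, 165672) itp1_150)

/-- part of the orbit tree -/
def itp1_153 : Tree := (.node itp1_145 (42159, 0, 16, 237094) itp1_146)

/-- part of the orbit tree -/
def itp1_154 : Tree := (.node itp1_151 (42671, 0, 16, 13937) itp1_152)

/-- part of the orbit tree -/
def itp1_155 : Tree := (.node itp1_139 (41393, 0, 16, 53839) itp1_140)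

/-- part of the orbit tree -/
def itp1_156 : Tree := (.node itp1_153 (42414, 0, 16, 56372) itp1_154)

/-- part of the orbit tree -/
def itp1_157 : Tree := (.node (.node (.node (.node (.node (.node .leaf (42923, 0, 14, 10497) .leaf) (42932, 0, 16, 261284) (.node .leaf (42933, 0, 16, 73162) .leaf)) (42934, 0, 19, 5334) (.node (.node .leaf (42935, 0, 9, 151032) .leaf) (42936, 0, 14, 254231) (.node .leaf (42937, 0, 17, 196977) .leaf))) (42938, 0, 17, 176434) (.node (.node (.node .leaf (42939, 0, 16, 151892) .leaf) (42944, 0, 18, 184527) (.node .leaf (42945, 0, 16, 212431) .leaf)) (42946, 0, 17, 167308) (.node (.node .leaf (42947, 0, 13, 159210) .leaf) (42956, 0, 16, 17742) (.node .leaf (42957, 0, 16, 138336) .leaf)))) (42958, 0, 17, 240956) (.node (.node (.node (.node .leaf (42959, 0, 15, 128018) .leaf) (42960, 0, 15, 42553) (.node .leaf (42961, 0, 17, 83354) .leaf)) (42962, 0, 13, 62937) (.node (.node .leaf (42963, 0, 17, 5567) .leaf) (42972, 0, 16, 244039) (.node .leaf (42973, 0, 11, 219425) .leaf)))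 (42974, 0, 17, 190818) (.node (.node (.node .leaf (42975, 0, 13, 133380) .leaf) (42980, 0, 13, 119512) (.node .leaf (42981, 0, 15, 3865) .leaf)) (42982, 0, 18, 114522) (.node (.node .leaf (42983, 0, 15, 89916) .leaf) (42984, 0, 17, 193476) (.node .leaf (42985, 0, 18, 73335) .leaf))))) (42986, 0, 16, 238561) (.node (.node (.node (.node (.node .leaf (42987, 0, 18, 194053) .leaf) (42996, 0, 16, 169770) (.node .leaf (42997, 0, 15, 161612) .leaf)) (42998, 0, 17, 19548) (.node (.node .leaf (42999, 0, 14, 136562) .leaf) (43000, 0, 13, 35729) (.node .leaf (43001, 0, 17, 223361) .leaf))) (43002, 0, 16, 121780) (.node (.node (.node .leaf (43003, 0, 15, 33011) .leaf) (43009, 0, 12, 51974) (.node .leaf (43010, 0, 18, 96858) .leaf)) (43013, 0, 9, 136144) (.node (.node .leaf (43014, 0, 15, 197959) .leaf) (43016, 0, 14, 161972) (.node .leaf (43019, 0, 17, 89934) .leaf)))) (43020, 0, 16, 1961) (.node (.node (.node (.node .leaf (43023, 0, 16, 112373) .leaf) (43025, 0, 17, 179696) (.node .leaf (43026, 0, 17, 123621)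 .leaf)) (43029, 0, 17, 27525) (.node (.node .leaf (43030, 0, 14, 121798) .leaf) (43032, 0, 16, 3650) (.node .leaf (43035, 0, 19, 114462) .leaf))) (43036, 0, 17, 175739) (.node (.node (.node .leaf (43039, 0, 17, 204344) .leaf) (43040, 0, 15, 115040) (.node .leaf (43043, 0, 15, 155262) .leaf)) (43044, 0, 17, 102463) (.node (.node .leaf (43047, 0, 17, 8547) .leaf) (43049, 0, 11, 89232) (.node .leaf (43050, 0, 17, 60876) .leaf))))))

/-- part of the orbit tree -/
def itp1_158 : Tree := (.node (.node (.node (.node (.node (.node .leaf (43054, 0, 19, 167422) .leaf) (43056, 0, 16, 244021) (.node .leaf (43059, 0, 14, 10376) .leaf)) (43060, 0, 18, 255689) (.node (.node .leaf (43063, 0, 17, 143445) .leaf) (43065, 0, 14, 207462) (.node .leaf (43066, 0, 15, 170810) .leaf))) (43069, 0, 15, 83432) (.node (.node (.node .leaf (43070, 0, 18, 62891) .leaf) (43073, 0, 14, 37772) (.node .leaf (43074, 0, 10, 61494) .leaf)) (43077, 0, 16, 191633) (.node (.node .leaf (43078, 0, 18, 220621) .leaf) (43080, 0, 16, 139326) (.node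 .leaf (43083, 0, 13, 144840) .leaf)))) (43084, 0, 15, 24355) (.node (.node (.node (.node .leaf (43087, 0, 17, 134379) .leaf) (43089, 0, 17, 189818) (.node .leaf (43090, 0, 15, 218150) .leaf)) (43093, 0, 18, 39527) (.node (.node .leaf (43094, 0, 18, 76603) .leaf) (43096, 0, 15, 22216) (.node .leaf (43099, 0, 15, 19869) .leaf))) (43100, 0, 16, 141781) (.node (.node (.node .leaf (43103, 0, 18, 235657) .leaf) (43104, 0, 18, 175078) (.node .leaf (43107, 0, 16, 132852) .leaf)) (43108, 0, 14, 116917) (.node (.node .leaf (43111, 0, 12, 31209) .leaf) (43113, 0, 18, 28184) (.node .leaf (43114, 0, 14, 122459) .leaf))))) (43117, 0, 17, 22331) (.node (.node (.node (.node (.node .leaf (43118, 0, 18, 182875) .leaf) (43120, 0, 16, 115038) (.node .leaf (43123, 0, 15, 91120) .leaf)) (43124, 0, 16, 60048) (.node (.node .leaf (43127, 0, 18, 134943) .leaf) (43129, 0, 12, 136781) (.node .leaf (43130, 0, 18, 181168) .leaf))) (43133, 0, 16, 69105) (.node (.node (.node .leaf (43134, 0, 12, 237357) .leaf) (43136, 0, 17, 23967)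 (.node .leaf (43139, 0, 17, 37661) .leaf)) (43140, 0, 17, 220508) (.node (.node .leaf (43143, 0, 10, 191488) .leaf) (43145, 0, 16, 170081) (.node .leaf (43146, 0, 16, 139439) .leaf)))) (43149, 0, 15, 172354) (.node (.node (.node (.node .leaf (43150, 0, 15, 24498) .leaf) (43152, 0, 17, 140746) (.node .leaf (43155, 0, 15, 234889) .leaf)) (43156, 0, 17, 138473) (.node (.node .leaf (43159, 0, 11, 39670) .leaf) (43161, 0, 18, 57396) (.node .leaf (43162, 0, 17, 86135) .leaf))) (43165, 0, 15, 55575) (.node (.node (.node .leaf (43166, 0, 17, 141636) .leaf) (43169, 0, 16, 132709) (.node .leaf (43170, 0, 18, 243513) .leaf)) (43173, 0, 17, 31096) (.node (.node .leaf (43174, 0, 18, 147308) .leaf) (43176, 0, 15, 46551) (.node .leaf (43179, 0, 15, 66699) .leaf))))))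

/-- part of the orbit tree -/
def itp1_159 : Tree := (.node (.node (.node (.node (.node (.node .leaf (43183, 0, 18, 64146) .leaf) (43185, 0, 19, 118361) (.node .leaf (43186, 0, 17, 32282) .leaf)) (43189, 0, 17, 128890) (.node (.node .leaf (43190, 0, 14, 245458) .leaf) (43192, 0, 15, 181025) (.node .leaf (43195, 0, 16, 225917) .leaf))) (43196, 0, 15, 48188) (.node (.node (.node .leaf (43199, 0, 17, 164551) .leaf) (43200, 0, 14, 96971) (.node .leaf (43203, 0, 15, 165722) .leaf)) (43204, 0, 16, 198102) (.node (.node .leaf (43207, 0, 12, 177290) .leaf) (43209, 0, 14, 248185) (.node .leaf (43210, 0, 17, 161829) .leaf)))) (43213, 0, 17, 112228) (.node (.node (.node (.node .leaf (43214, 0, 15, 1848) .leaf) (43216, 0, 16, 85836) (.node .leaf (43219, 0, 15, 65295) .leaf)) (43220, 0, 15, 95855) (.node (.node .leaf (43223, 0, 16, 49788) .leaf) (43225, 0, 15, 114575) (.node .leaf (43226, 0, 14, 3795) .leaf))) (43229, 0, 17, 242577) (.node (.node (.node .leaf (43230, 0, 14, 132050) .leaf) (43233, 0, 12, 155375)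 (.node .leaf (43234, 0, 15, 257971) .leaf)) (43237, 0, 11, 8690) (.node (.node .leaf (43238, 0, 17, 87530) .leaf) (43240, 0, 18, 60765) (.node .leaf (43243, 0, 16, 89089) .leaf))))) (43244, 0, 16, 139351) (.node (.node (.node (.node (.node .leaf (43247, 0, 16, 205596) .leaf) (43249, 0, 17, 173279) (.node .leaf (43250, 0, 16, 201884) .leaf)) (43253, 0, 16, 171516) (.node (.node .leaf (43254, 0, 16, 255576) .leaf) (43256, 0, 17, 170923) (.node .leaf (43259, 0, 17, 207607) .leaf))) (43260, 0, 18, 58550) (.node (.node (.node .leaf (43263, 0, 17, 87530) .leaf) (43264, 0, 15, 161227) (.node .leaf (43267, 0, 15, 55458) .leaf)) (43268, 0, 14, 86466) (.node (.node .leaf (43271, 0, 16, 113546) .leaf) (43273, 0, 12, 50809) (.node .leaf (43274, 0, 16, 138588) .leaf)))) (43277, 0, 16, 234556) (.node (.node (.node (.node .leaf (43278, 0, 14, 140415) .leaf) (43280, 0, 18, 200884) (.node .leaf (43283, 0, 17, 111201) .leaf)) (43284, 0, 17, 162848) (.node (.node .leaf (43287, 0, 15, 170452) .leaf) (43289, 0, 17, 176271)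 (.node .leaf (43290, 0, 15, 25865) .leaf))) (43293, 0, 17, 53138) (.node (.node (.node .leaf (43294, 0, 16, 97998) .leaf) (43297, 0, 16, 86511) (.node .leaf (43298, 0, 16, 57523) .leaf)) (43301, 0, 19, 178769) (.node (.node .leaf (43302, 0, 15, 171950) .leaf) (43304, 0, 13, 18060) (.node .leaf (43307, 0, 15, 152321) .leaf))))))

/-- part of the orbit tree -/
def itp1_160 : Tree := (.node (.node (.node (.node (.node (.node .leaf (43311, 0, 17, 11292) .leaf) (43313, 0, 11, 206617) (.node .leaf (43314, 0, 16, 169541) .leaf)) (43317, 0, 15, 49668) (.node (.node .leaf (43318, 0, 18, 59736) .leaf) (43320, 0, 14, 103595) (.node .leaf (43323, 0, 16, 233114) .leaf))) (43324, 0, 18, 133114) (.node (.node (.node .leaf (43327, 0, 16, 243641) .leaf) (43328, 0, 16, 131687) (.node .leaf (43331, 0, 12, 242212) .leaf)) (43332, 0, 17, 146244) (.node (.node .leaf (43335, 0, 17, 232199) .leaf) (43337, 0, 16, 40691) (.node .leaf (43338, 0, 16, 96218) .leaf)))) (43341, 0, 16, 65210) (.node (.node (.node (.node .leaf (43342,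 0, 18, 217266) .leaf) (43344, 0, 16, 31282) (.node .leaf (43347, 0, 18, 125675) .leaf)) (43348, 0, 16, 140458) (.node (.node .leaf (43351, 0, 16, 127826) .leaf) (43353, 0, 16, 180172) (.node .leaf (43354, 0, 15, 200591) .leaf))) (43357, 0, 16, 38680) (.node (.node (.node .leaf (43358, 0, 17, 210604) .leaf) (43361, 0, 12, 67941) (.node .leaf (43362, 0, 16, 47161) .leaf)) (43365, 0, 16, 226936) (.node (.node .leaf (43366, 0, 16, 182052) .leaf) (43368, 0, 16, 244439) (.node .leaf (43371, 0, 9, 134027) .leaf))))) (43372, 0, 16, 202025) (.node (.node (.node (.node (.node .leaf (43375, 0, 15, 29846) .leaf) (43377, 0, 17, 233889) (.node .leaf (43378, 0, 17, 139746) .leaf)) (43381, 0, 14, 239746) (.node (.node .leaf (43382, 0, 13, 45522) .leaf) (43384, 0, 10, 117793) (.node .leaf (43387, 0, 16, 32125) .leaf))) (43388, 0, 14, 93564) (.node (.node (.node .leaf (43391, 0, 15, 131680) .leaf) (43393, 0, 14, 204685) (.node .leaf (43394, 0, 14, 142800) .leaf)) (43397, 0, 17, 123793) (.node (.node .leaf (43398, 0,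 16, 21197) .leaf) (43400, 0, 18, 121459) (.node .leaf (43403, 0, 16, 40546) .leaf)))) (43404, 0, 8, 123728) (.node (.node (.node (.node .leaf (43407, 0, 12, 188799) .leaf) (43409, 0, 16, 125562) (.node .leaf (43410, 0, 15, 55195) .leaf)) (43413, 0, 18, 89851) (.node (.node .leaf (43414, 0, 14, 140347) .leaf) (43416, 0, 17, 238118) (.node .leaf (43419, 0, 16, 135781) .leaf))) (43420, 0, 14, 236293) (.node (.node (.node .leaf (43423, 0, 15, 142150) .leaf) (43424, 0, 16, 62494) (.node .leaf (43427, 0, 18, 83037) .leaf)) (43428, 0, 15, 52541) (.node (.node .leaf (43431, 0, 16, 97662) .leaf) (43433, 0, 14, 143840) (.node .leaf (43434, 0, 12, 229795) .leaf))))))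

/-- part of the orbit tree -/
def itp1_161 : Tree := (.node itp1_157 (43053, 0, 16, 205709) itp1_158)

/-- part of the orbit tree -/
def itp1_162 : Tree := (.node itp1_159 (43308, 0, 18, 32687) itp1_160)

/-- part of the orbit tree -/
def itp1_163 : Tree := (.node (.node (.node (.node (.node (.node .leaf (43438, 0, 15, 116059) .leaf) (43440, 0, 18, 183902) (.node .leaf (43443, 0, 15, 229122) .leaf)) (43444, 0, 13, 177512) (.node (.node .leaf (43447, 0, 13, 197931) .leaf) (43449, 0, 14, 18869) (.node .leaf (43450, 0, 16, 117936) .leaf))) (43453, 0, 16, 131825) (.node (.node (.node .leaf (43454, 0, 16, 242605) .leaf) (43457, 0, 16, 246790) (.node .leaf (43458, 0, 16, 161114) .leaf)) (43461, 0, 17, 19496) (.node (.node .leaf (43462, 0, 19, 130155) .leaf) (43464, 0, 16, 96180) (.node .leaf (43467, 0, 15, 196790) .leaf)))) (43468, 0, 17, 166358) (.node (.node (.node (.node .leaf (43471, 0, 11, 211349) .leaf) (43473, 0, 14, 134494) (.node .leaf (43474, 0, 16, 940) .leaf)) (43477, 0, 17, 249325) (.node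 (.node .leaf (43478, 0, 16, 162993) .leaf) (43480, 0, 16, 51360) (.node .leaf (43483, 0, 18, 176158) .leaf))) (43484, 0, 15, 61827) (.node (.node (.node .leaf (43487, 0, 18, 52995) .leaf) (43488, 0, 17, 237208) (.node .leaf (43491, 0, 16, 86398) .leaf)) (43492, 0, 16, 171839) (.node (.node .leaf (43495, 0, 19, 137208) .leaf) (43497, 0, 14, 88934) (.node .leaf (43498, 0, 18, 254668) .leaf))))) (43501, 0, 17, 90693) (.node (.node (.node (.node (.node .leaf (43502, 0, 14, 53766) .leaf) (43504, 0, 16, 124621) (.node .leaf (43507, 0, 15, 206728) .leaf)) (43508, 0, 13, 59849) (.node (.node .leaf (43511, 0, 17, 88213) .leaf) (43513, 0, 18, 9574) (.node .leaf (43514, 0, 18, 103482) .leaf))) (43517, 0, 14, 154235) (.node (.node (.node .leaf (43518, 0, 16, 174675) .leaf) (43520, 0, 17, 190181) (.node .leaf (43521, 0, 16, 52778) .leaf)) (43524, 0, 16, 188358) (.node (.node .leaf (43525, 0, 16, 176439) .leaf) (43530, 0, 15, 103914) (.node .leaf (43531, 0, 8, 95038) .leaf)))) (43534, 0, 16, 256759) (.node (.node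 (.node (.node .leaf (43535, 0, 15, 111577) .leaf) (43536, 0, 14, 57842) (.node .leaf (43537, 0, 17, 178396) .leaf)) (43540, 0, 17, 42899) (.node (.node .leaf (43541, 0, 16, 51137) .leaf) (43546, 0, 19, 254748) (.node .leaf (43547, 0, 16, 113202) .leaf))) (43550, 0, 17, 105473) (.node (.node (.node .leaf (43551, 0, 16, 209480) .leaf) (43554, 0, 16, 636) (.node .leaf (43555, 0, 14, 23891) .leaf)) (43558, 0, 15, 163169) (.node (.node .leaf (43559, 0, 16, 9295) .leaf) (43560, 0, 17, 196754) (.node .leaf (43561, 0, 16, 207086) .leaf))))))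

/-- part of the orbit tree -/
def itp1_164 : Tree := (.node (.node (.node (.node (.node (.node .leaf (43565, 0, 16, 201165) .leaf) (43570, 0, 15, 181600) (.node .leaf (43571, 0, 13, 140550) .leaf)) (43574, 0, 14, 195651) (.node (.node .leaf (43575, 0, 16, 152249) .leaf) (43576, 0, 18, 110813) (.node .leaf (43577, 0, 17, 86203) .leaf))) (43580, 0, 16, 100862) (.node (.node (.node .leaf (43581, 0, 19, 92568) .leaf) (43584, 0, 15, 184206) (.node .leaf (43585, 0, 18, 38560) .leaf)) (43588, 0, 15, 45203) (.node (.node .leaf (43589, 0, 16, 87334) .leaf) (43594, 0, 16, 118112) (.node .leaf (43595, 0, 17, 234574) .leaf)))) (43598, 0, 15, 180477) (.node (.node (.node (.node .leaf (43599, 0, 16, 125779) .leaf) (43600, 0, 15, 47480) (.node .leaf (43601, 0, 16, 201808) .leaf)) (43604, 0, 16, 249109) (.node (.node .leaf (43605, 0, 17, 40779) .leaf) (43610, 0, 18, 33163) (.node .leaf (43611, 0, 15, 25069) .leaf))) (43614, 0, 17, 115851) (.node (.node (.node .leaf (43615, 0, 16, 236965) .leaf) (43618, 0, 18, 23286)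 (.node .leaf (43619, 0, 16, 132056) .leaf)) (43622, 0, 18, 257680) (.node (.node .leaf (43623, 0, 15, 31941) .leaf) (43624, 0, 15, 41486) (.node .leaf (43625, 0, 16, 65846) .leaf))))) (43628, 0, 11, 39725) (.node (.node (.node (.node (.node .leaf (43629, 0, 16, 228907) .leaf) (43634, 0, 14, 110566) (.node .leaf (43635, 0, 15, 85888) .leaf)) (43638, 0, 13, 21277) (.node (.node .leaf (43639, 0, 17, 95907) .leaf) (43640, 0, 17, 77550) (.node .leaf (43641, 0, 17, 227264) .leaf))) (43644, 0, 18, 189304) (.node (.node (.node .leaf (43645, 0, 17, 131870) .leaf) (43650, 0, 8, 74186) (.node .leaf (43651, 0, 16, 38449) .leaf)) (43654, 0, 16, 45058) (.node (.node .leaf (43655, 0, 14, 190764) .leaf) (43656, 0, 18, 152695) (.node .leaf (43657, 0, 15, 177169) .leaf)))) (43660, 0, 17, 159060) (.node (.node (.node (.node .leaf (43661, 0, 13, 167218) .leaf) (43666, 0, 15, 219551) (.node .leaf (43667, 0, 17, 188615) .leaf)) (43670, 0, 16, 221372) (.node (.node .leaf (43671, 0, 15, 229594) .leaf) (43672, 0, 16, 244487)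 (.node .leaf (43673, 0, 13, 123433) .leaf))) (43676, 0, 16, 115738) (.node (.node (.node .leaf (43677, 0, 16, 62823) .leaf) (43680, 0, 14, 227866) (.node .leaf (43681, 0, 16, 236156) .leaf)) (43684, 0, 17, 140666) (.node (.node .leaf (43685, 0, 17, 238431) .leaf) (43690, 0, 17, 219273) (.node .leaf (43691, 0, 17, 61377) .leaf))))))

/-- part of the orbit tree -/
def itp1_165 : Tree := (.node (.node (.node (.node (.node (.node .leaf (43695, 0, 15, 229050) .leaf) (43696, 0, 17, 66127) (.node .leaf (43697, 0, 13, 123433) .leaf)) (43700, 0, 16, 21388) (.node (.node .leaf (43701, 0, 15, 121610) .leaf) (43706, 0, 15, 161778) (.node .leaf (43707, 0, 15, 227153) .leaf))) (43710, 0, 15, 151249) (.node (.node (.node .leaf (43711, 0, 16, 175799) .leaf) (43714, 0, 16, 150348) (.node .leaf (43715, 0, 16, 52923) .leaf)) (43718, 0, 14, 59528) (.node (.node .leaf (43719, 0, 17, 176550) .leaf) (43720, 0, 11, 81649) (.node .leaf (43721, 0, 16, 248917) .leaf)))) (43724, 0, 12, 256614) (.node (.node (.node (.node .leaf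 (43725, 0, 14, 111432) .leaf) (43730, 0, 15, 57699) (.node .leaf (43731, 0, 14, 178253) .leaf)) (43734, 0, 18, 2618) (.node (.node .leaf (43735, 0, 17, 51024) .leaf) (43736, 0, 14, 214692) (.node .leaf (43737, 0, 17, 239298) .leaf))) (43740, 0, 18, 105616) (.node (.node (.node .leaf (43741, 0, 16, 237537) .leaf) (43744, 0, 17, 749) (.node .leaf (43745, 0, 17, 61690) .leaf)) (43748, 0, 16, 163312) (.node (.node .leaf (43749, 0, 16, 51673) .leaf) (43754, 0, 14, 196611) (.node .leaf (43755, 0, 17, 88365) .leaf))))) (43758, 0, 18, 220162) (.node (.node (.node (.node (.node .leaf (43759, 0, 16, 244836) .leaf) (43760, 0, 13, 157897) (.node .leaf (43761, 0, 16, 11573) .leaf)) (43764, 0, 18, 2822) (.node (.node .leaf (43765, 0, 18, 176524) .leaf) (43770, 0, 16, 95989) (.node .leaf (43771, 0, 15, 208859) .leaf))) (43774, 0, 12, 199144) (.node (.node (.node .leaf (43775, 0, 15, 115761) .leaf) (43778, 0, 15, 104597) (.node .leaf (43779, 0, 17, 62674) .leaf)) (43782, 0, 15, 255880) (.node (.node .leaf (43783,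 0, 16, 114342) .leaf) (43784, 0, 17, 221449) (.node .leaf (43785, 0, 11, 229743) .leaf)))) (43788, 0, 15, 219178) (.node (.node (.node (.node .leaf (43789, 0, 14, 243788) .leaf) (43794, 0, 19, 158945) (.node .leaf (43795, 0, 17, 167047) .leaf)) (43798, 0, 15, 153026) (.node (.node .leaf (43799, 0, 14, 247888) .leaf) (43800, 0, 14, 72028) (.node .leaf (43801, 0, 17, 129338) .leaf))) (43804, 0, 15, 73855) (.node (.node (.node .leaf (43805, 0, 13, 51902) .leaf) (43808, 0, 15, 151396) (.node .leaf (43809, 0, 17, 87235) .leaf)) (43812, 0, 16, 161351) (.node (.node .leaf (43813, 0, 17, 207838) .leaf) (43818, 0, 13, 80601) (.node .leaf (43819, 0, 14, 121535) .leaf))))))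

/-- part of the orbit tree -/
def itp1_166 : Tree := (.node (.node (.node (.node (.node (.node .leaf (43823, 0, 16, 10544) .leaf) (43824, 0, 12, 14129) (.node .leaf (43825, 0, 16, 205365) .leaf)) (43828, 0, 17, 3602) (.node (.node .leaf (43829, 0, 16, 89384) .leaf) (43834, 0, 17, 162293) (.node .leaf (43835, 0, 14, 238314) .leaf))) (43838, 0, 18, 1768) (.node (.node (.node .leaf (43839, 0, 13, 155590) .leaf) (43842, 0, 13, 114719) (.node .leaf (43843, 0, 11, 237140) .leaf)) (43846, 0, 16, 214801) (.node (.node .leaf (43847, 0, 17, 239479) .leaf) (43848, 0, 16, 2959) (.node .leaf (43849, 0, 16, 60393) .leaf)))) (43852, 0, 15, 12972) (.node (.node (.node (.node .leaf (43853, 0, 16, 189634) .leaf) (43858, 0, 14, 243433) (.node .leaf (43859, 0, 14, 124417) .leaf)) (43862, 0, 18, 117236) (.node (.node .leaf (43863, 0, 15, 233690) .leaf) (43864, 0, 18, 46087) (.node .leaf (43865, 0, 17, 191785) .leaf))) (43868, 0, 18, 150265) (.node (.node (.node .leaf (43869, 0, 18, 37428) .leaf) (43872, 0, 15, 75234)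 (.node .leaf (43873, 0, 15, 116100) .leaf)) (43876, 0, 15, 76410) (.node (.node .leaf (43877, 0, 18, 226132) .leaf) (43882, 0, 16, 151647) (.node .leaf (43883, 0, 15, 176185) .leaf))))) (43886, 0, 16, 158076) (.node (.node (.node (.node (.node .leaf (43887, 0, 18, 166170) .leaf) (43888, 0, 17, 74641) (.node .leaf (43889, 0, 16, 245201) .leaf)) (43892, 0, 17, 222356) (.node (.node .leaf (43893, 0, 17, 66978) .leaf) (43898, 0, 16, 10250) (.node .leaf (43899, 0, 17, 30801) .leaf))) (43902, 0, 15, 24162) (.node (.node (.node .leaf (43903, 0, 12, 61775) .leaf) (43904, 0, 16, 114830) (.node .leaf (43905, 0, 16, 235936) .leaf)) (43908, 0, 15, 245651) (.node (.node .leaf (43909, 0, 16, 199390) .leaf) (43914, 0, 16, 180832) (.node .leaf (43915, 0, 17, 39758) .leaf)))) (43918, 0, 16, 48509) (.node (.node (.node (.node .leaf (43919, 0, 18, 189523) .leaf) (43920, 0, 17, 243320) (.node .leaf (43921, 0, 15, 126806) .leaf)) (43924, 0, 15, 103149) (.node (.node .leaf (43925, 0, 16, 233547) .leaf) (43930, 0, 18, 46230)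 (.node .leaf (43931, 0, 17, 191928) .leaf))) (43934, 0, 14, 190288) (.node (.node (.node .leaf (43935, 0, 16, 37541) .leaf) (43938, 0, 15, 100427) (.node .leaf (43939, 0, 18, 92205) .leaf)) (43942, 0, 16, 110952) (.node (.node .leaf (43943, 0, 15, 86286) .leaf) (43944, 0, 17, 22296) .leaf)))))

/-- part of the orbit tree -/
def itp1_167 : Tree := (.node itp1_163 (43564, 0, 10, 258475) itp1_164)

/-- part of the orbit tree -/
def itp1_168 : Tree := (.node itp1_165 (43822, 0, 15, 66554) itp1_166)

/-- part of the orbit tree -/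
def itp1_169 : Tree := (.node itp1_161 (43180, 0, 16, 182986) itp1_162)

/-- part of the orbit tree -/
def itp1_170 : Tree := (.node itp1_167 (43694, 0, 15, 13956) itp1_168)

/-- part of the orbit tree -/
def itp1_171 : Tree := (.node (.node (.node (.node (.node (.node .leaf (43948, 0, 16, 141317) .leaf) (43949, 0, 17, 28971) (.node .leaf (43954, 0, 15, 258078) .leaf)) (43955, 0, 15, 200824) (.node (.node .leaf (43958, 0, 16, 220189) .leaf) (43959, 0, 18, 66867) (.node .leaf (43960, 0, 11, 34211) .leaf))) (43961, 0, 16, 26053) (.node (.node (.node .leaf (43964, 0, 14, 48256) .leaf) (43965, 0, 14, 23782) (.node .leaf (43968, 0, 8, 104452) .leaf)) (43969, 0, 13, 22907) (.node (.node .leaf (43972, 0, 17, 32830) .leaf) (43973, 0, 17, 24664) (.node .leaf (43978, 0, 15, 248992) .leaf)))) (43979, 0, 14, 208070) (.node (.node (.node (.node .leaf (43982, 0, 13, 58871) .leaf) (43983, 0, 13, 179417) (.node .leaf (43984, 0, 17, 180552) .leaf)) (43985, 0, 16, 139566) (.node (.node .leaf (43988, 0, 16, 194667)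 .leaf) (43989, 0, 16, 137229) (.node .leaf (43994, 0, 17, 111861) .leaf))) (43995, 0, 15, 177458) (.node (.node (.node .leaf (43998, 0, 16, 168705) .leaf) (43999, 0, 17, 93616) (.node .leaf (44002, 0, 14, 189133) .leaf)) (44003, 0, 15, 87122) (.node (.node .leaf (44006, 0, 16, 187374) .leaf) (44007, 0, 14, 146312) (.node .leaf (44008, 0, 15, 3986) .leaf))))) (44009, 0, 16, 96022) (.node (.node (.node (.node (.node .leaf (44012, 0, 18, 110163) .leaf) (44013, 0, 17, 10657) (.node .leaf (44018, 0, 16, 97162) .leaf)) (44019, 0, 16, 205476) (.node (.node .leaf (44022, 0, 16, 41915) .leaf) (44023, 0, 15, 17373) (.node .leaf (44024, 0, 18, 257829) .leaf))) (44025, 0, 17, 200515) (.node (.node (.node .leaf (44028, 0, 13, 251398) .leaf) (44029, 0, 16, 210528) (.node .leaf (44032, 0, 17, 106460) .leaf)) (44034, 0, 17, 163864) (.node (.node .leaf (44036, 0, 16, 254145) .leaf) (44038, 0, 13, 2227) (.node .leaf (44041, 0, 13, 71107) .leaf)))) (44043, 0, 14, 50204) (.node (.node (.node (.node .leaf (44045, 0, 17,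 77024) .leaf) (44047, 0, 15, 31941) (.node .leaf (44048, 0, 17, 256298) .leaf)) (44050, 0, 15, 344) (.node (.node .leaf (44052, 0, 13, 102731) .leaf) (44054, 0, 16, 163397) (.node .leaf (44057, 0, 18, 224662) .leaf))) (44059, 0, 16, 176874) (.node (.node (.node .leaf (44061, 0, 19, 218293) .leaf) (44063, 0, 18, 132240) (.node .leaf (44065, 0, 11, 15278) .leaf)) (44067, 0, 16, 93067) (.node (.node .leaf (44069, 0, 14, 50405) .leaf) (44071, 0, 17, 86696) (.node .leaf (44072, 0, 16, 196176) .leaf))))))

/-- part of the orbit tree -/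
def itp1_172 : Tree := (.node (.node (.node (.node (.node (.node .leaf (44076, 0, 15, 182131) .leaf) (44078, 0, 18, 235350) (.node .leaf (44081, 0, 17, 148475) .leaf)) (44083, 0, 11, 206204) (.node (.node .leaf (44085, 0, 15, 162520) .leaf) (44087, 0, 17, 207613) (.node .leaf (44088, 0, 12, 163516) .leaf))) (44090, 0, 13, 104142) (.node (.node (.node .leaf (44092, 0, 19, 48934) .leaf) (44094, 0, 18, 256467) (.node .leaf (44096, 0, 18, 47803) .leaf)) (44098, 0, 16, 125598) (.node (.node .leaf (44100, 0, 13, 243787) .leaf) (44102, 0, 13, 119741) (.node .leaf (44105, 0, 17, 163653) .leaf)))) (44107, 0, 14, 40086) (.node (.node (.node (.node .leaf (44109, 0, 17, 149094) .leaf) (44111, 0, 16, 189323) (.node .leaf (44112, 0, 18, 242080) .leaf)) (44114, 0, 13, 234187) (.node (.node .leaf (44116, 0, 18, 195533) .leaf) (44118, 0, 12, 141007) (.node .leaf (44121, 0, 17, 1808) .leaf))) (44123, 0, 18, 87861) (.node (.node (.node .leaf (44125, 0, 16, 228623) .leaf) (44127, 0, 18, 38269) (.node .leaf (44129, 0,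 17, 217384) .leaf)) (44131, 0, 16, 68352) (.node (.node .leaf (44133, 0, 17, 40047) .leaf) (44135, 0, 18, 145454) (.node .leaf (44136, 0, 15, 103638) .leaf))))) (44138, 0, 17, 50419) (.node (.node (.node (.node (.node .leaf (44140, 0, 16, 143325) .leaf) (44142, 0, 14, 116655) (.node .leaf (44145, 0, 15, 38276) .leaf)) (44147, 0, 13, 228854) (.node (.node .leaf (44149, 0, 17, 191129) .leaf) (44151, 0, 18, 16507) (.node .leaf (44152, 0, 17, 140854) .leaf))) (44154, 0, 17, 179366) (.node (.node (.node .leaf (44156, 0, 13, 22827) .leaf) (44158, 0, 17, 165253) (.node .leaf (44161, 0, 10, 108369) .leaf)) (44163, 0, 17, 237289) (.node (.node .leaf (44165, 0, 14, 106098) .leaf) (44167, 0, 18, 52823) (.node .leaf (44168, 0, 15, 221871) .leaf)))) (44170, 0, 15, 144010) (.node (.node (.node (.node .leaf (44172, 0, 17, 47668) .leaf) (44174, 0, 18, 134057) (.node .leaf (44177, 0, 16, 253700) .leaf)) (44179, 0, 18, 124959) (.node (.node .leaf (44181, 0, 17, 32624) .leaf) (44183, 0, 18, 177666) (.node .leaf (44184,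 0, 14, 46047) .leaf))) (44186, 0, 14, 19167) (.node (.node (.node .leaf (44188, 0, 15, 183490) .leaf) (44190, 0, 13, 74928) (.node .leaf (44192, 0, 16, 150722) .leaf)) (44194, 0, 18, 47821) (.node (.node .leaf (44196, 0, 16, 77218) .leaf) (44198, 0, 15, 181712) (.node .leaf (44201, 0, 17, 35132) .leaf))))))

/-- part of the orbit tree -/
def itp1_173 : Tree := (.node (.node (.node (.node (.node (.node .leaf (44205, 0, 17, 45087) .leaf) (44207, 0, 17, 30306) (.node .leaf (44208, 0, 17, 13463) .leaf)) (44210, 0, 18, 91314) (.node (.node .leaf (44212, 0, 15, 219988) .leaf) (44214, 0, 17, 89489) (.node .leaf (44217, 0, 14, 192873) .leaf))) (44219, 0, 17, 237900) (.node (.node (.node .leaf (44221, 0, 16, 182346) .leaf) (44223, 0, 17, 131220) (.node .leaf (44225, 0, 17, 11793) .leaf)) (44227, 0, 16, 237042) (.node (.node .leaf (44229, 0, 14, 151820) .leaf) (44231, 0, 15, 238801) (.node .leaf (44232, 0, 16, 171427) .leaf)))) (44234, 0, 13, 88076) (.node (.node (.node (.node .leaf (44236, 0, 17, 58046) .leaf)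 (44238, 0, 17, 199372) (.node .leaf (44241, 0, 13, 46466) .leaf)) (44243, 0, 16, 124327) (.node (.node .leaf (44245, 0, 16, 10234) .leaf) (44247, 0, 16, 121988) (.node .leaf (44248, 0, 14, 60245) .leaf))) (44250, 0, 16, 204889) (.node (.node (.node .leaf (44252, 0, 14, 149855) .leaf) (44254, 0, 15, 203130) (.node .leaf (44256, 0, 17, 75332) .leaf)) (44258, 0, 16, 57927) (.node (.node .leaf (44260, 0, 11, 73575) .leaf) (44262, 0, 15, 20290) (.node .leaf (44265, 0, 17, 254906) .leaf))))) (44267, 0, 13, 177055) (.node (.node (.node (.node (.node .leaf (44269, 0, 15, 247450) .leaf) (44271, 0, 14, 166588) (.node .leaf (44272, 0, 14, 220689) .leaf)) (44274, 0, 11, 169137) (.node (.node .leaf (44276, 0, 14, 197598) .leaf) (44278, 0, 16, 145175) (.node .leaf (44281, 0, 16, 249713) .leaf))) (44283, 0, 16, 52170) (.node (.node (.node .leaf (44285, 0, 15, 110700) .leaf) (44287, 0, 16, 62185) (.node .leaf (44289, 0, 17, 205073) .leaf)) (44291, 0, 16, 51555) (.node (.node .leaf (44293, 0, 16, 43788) .leaf) (44295,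 0, 17, 129833) (.node .leaf (44296, 0, 18, 153553) .leaf)))) (44298, 0, 15, 162513) (.node (.node (.node (.node .leaf (44300, 0, 17, 257470) .leaf) (44302, 0, 16, 212695) (.node .leaf (44305, 0, 16, 88039) .leaf)) (44307, 0, 15, 180117) (.node (.node .leaf (44309, 0, 17, 207098) .leaf) (44311, 0, 17, 49288) (.node .leaf (44312, 0, 17, 255061) .leaf))) (44314, 0, 16, 3111) (.node (.node (.node .leaf (44316, 0, 18, 105288) .leaf) (44318, 0, 18, 160570) (.node .leaf (44320, 0, 16, 227772) .leaf)) (44322, 0, 16, 141721) (.node (.node .leaf (44324, 0, 14, 162344) .leaf) (44326, 0, 14, 103002) (.node .leaf (44329, 0, 14, 113730) .leaf))))))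

/-- part of the orbit tree -/
def itp1_174 : Tree := (.node (.node (.node (.node (.node (.node .leaf (44333, 0, 16, 99681) .leaf) (44335, 0, 17, 205288) (.node .leaf (44336, 0, 15, 160707) .leaf)) (44338, 0, 14, 105393) (.node (.node .leaf (44340, 0, 14, 80074) .leaf) (44342, 0, 17, 255148) (.node .leaf (44345, 0, 14, 246807) .leaf))) (44347, 0, 15, 169010) (.node (.node (.node .leaf (44349, 0, 15, 180076) .leaf) (44351, 0, 17, 87838) (.node .leaf (44353, 0, 17, 227739) .leaf)) (44355, 0, 15, 174220) (.node (.node .leaf (44357, 0, 11, 67206) .leaf) (44359, 0, 16, 192244) (.node .leaf (44360, 0, 13, 117289) .leaf)))) (44362, 0, 14, 139867) (.node (.node (.node (.node .leaf (44364, 0, 16, 66676) .leaf) (44366, 0, 18, 23878) (.node .leaf (44369, 0, 17, 69485) .leaf)) (44371, 0, 17, 190239) (.node (.node .leaf (44373, 0, 18, 225392) .leaf) (44375, 0, 16, 59898) (.node .leaf (44376, 0, 18, 214274) .leaf))) (44378, 0, 18, 136487) (.node (.node (.node .leaf (44380, 0, 17, 115650) .leaf) (44382, 0, 16, 142340)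 (.node .leaf (44384, 0, 12, 4922) .leaf)) (44386, 0, 16, 243149) (.node (.node .leaf (44388, 0, 17, 139938) .leaf) (44390, 0, 16, 117456) (.node .leaf (44393, 0, 18, 192013) .leaf))))) (44395, 0, 15, 231137) (.node (.node (.node (.node (.node .leaf (44397, 0, 16, 37136) .leaf) (44399, 0, 14, 227682) (.node .leaf (44400, 0, 15, 158575) .leaf)) (44402, 0, 9, 115515) (.node (.node .leaf (44404, 0, 16, 21588) .leaf) (44406, 0, 12, 244774) (.node .leaf (44409, 0, 17, 39163) .leaf))) (44411, 0, 14, 130740) (.node (.node (.node .leaf (44413, 0, 13, 190438) .leaf) (44415, 0, 17, 116631) (.node .leaf (44416, 0, 17, 182358) .leaf)) (44418, 0, 11, 73764) (.node (.node .leaf (44420, 0, 11, 46923) .leaf) (44422, 0, 17, 220985) (.node .leaf (44425, 0, 19, 8381) .leaf)))) (44427, 0, 18, 234390) (.node (.node (.node (.node .leaf (44429, 0, 15, 6558) .leaf) (44431, 0, 12, 84411) (.node .leaf (44432, 0, 13, 40214) .leaf)) (44434, 0, 17, 218834) (.node (.node .leaf (44436, 0, 16, 180669) .leaf) (44438, 0, 18, 76239)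 (.node .leaf (44441, 0, 15, 153832) .leaf))) (44443, 0, 16, 198861) (.node (.node (.node .leaf (44445, 0, 12, 29199) .leaf) (44447, 0, 14, 209390) (.node .leaf (44449, 0, 14, 69328) .leaf)) (44451, 0, 16, 132096) (.node (.node .leaf (44453, 0, 18, 79859) .leaf) (44455, 0, 15, 31517) (.node .leaf (44456, 0, 16, 248622) .leaf))))))

/-- part of the orbit tree -/
def itp1_175 : Tree := (.node itp1_171 (44074, 0, 15, 241269) itp1_172)

/-- part of the orbit tree -/
def itp1_176 : Tree := (.node itp1_173 (44331, 0, 16, 60519) itp1_174)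

/-- part of the orbit tree -/
def itp1_177 : Tree := (.node (.node (.node (.node (.node (.node .leaf (44460, 0, 16, 73949) .leaf) (44462, 0, 15, 182447) (.node .leaf (44465, 0, 13, 226949) .leaf)) (44467, 0, 16, 29430) (.node (.node .leaf (44469, 0, 13, 124313) .leaf) (44471, 0, 15, 139139) (.node .leaf (44472, 0, 16, 76086) .leaf))) (44474, 0, 16, 58206) (.node (.node (.node .leaf (44476, 0, 17, 100952) .leaf) (44478, 0, 17, 55933) (.node .leaf (44480, 0, 14, 168156) .leaf)) (44482, 0, 16, 57312) (.node (.node .leaf (44484, 0, 17, 112358) .leaf) (44486, 0, 17, 59075) (.node .leaf (44489, 0, 12, 215611) .leaf)))) (44491, 0, 17, 248604) (.node (.node (.node (.node .leaf (44493, 0, 13, 154739) .leaf) (44495, 0, 17, 111617) (.node .leaf (44496, 0, 17, 58922) .leaf)) (44498, 0, 15, 200280) (.node (.node .leaf (44500, 0, 17, 170295) .leaf) (44502, 0, 19, 171670) (.node .leaf (44505, 0, 19, 78446) .leaf))) (44507, 0, 17, 25163) (.node (.node (.node .leaf (44509, 0, 17, 68429) .leaf) (44511, 0, 17, 23400)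 (.node .leaf (44513, 0, 15, 156758) .leaf)) (44515, 0, 13, 210035) (.node (.node .leaf (44517, 0, 17, 248805) .leaf) (44519, 0, 18, 200016) (.node .leaf (44520, 0, 15, 198474) .leaf))))) (44522, 0, 16, 127373) (.node (.node (.node (.node (.node .leaf (44524, 0, 17, 39051) .leaf) (44526, 0, 17, 116910) (.node .leaf (44529, 0, 17, 246286) .leaf)) (44531, 0, 16, 85030) (.node (.node .leaf (44533, 0, 15, 9504) .leaf) (44535, 0, 16, 95493) (.node .leaf (44536, 0, 12, 94652) .leaf))) (44538, 0, 10, 170446) (.node (.node (.node .leaf (44540, 0, 15, 188638) .leaf) (44542, 0, 16, 241915) (.node .leaf (44552, 0, 17, 121301) .leaf)) (44553, 0, 10, 80307) (.node (.node .leaf (44554, 0, 18, 170014) .leaf) (44555, 0, 17, 27030) (.node .leaf (44556, 0, 18, 200561) .leaf)))) (44557, 0, 17, 65680) (.node (.node (.node (.node .leaf (44558, 0, 17, 45267) .leaf) (44559, 0, 16, 179757) (.node .leaf (44568, 0, 16, 237952) .leaf)) (44569, 0, 16, 90036) (.node (.node .leaf (44570, 0, 15, 61160) .leaf) (44571, 0, 16, 135619)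 (.node .leaf (44572, 0, 15, 96647) .leaf))) (44573, 0, 16, 204969) (.node (.node (.node .leaf (44574, 0, 16, 168437) .leaf) (44575, 0, 17, 51419) (.node .leaf (44576, 0, 14, 59386) .leaf)) (44577, 0, 13, 6110) (.node (.node .leaf (44578, 0, 16, 200584) .leaf) (44579, 0, 15, 87718) (.node .leaf (44580, 0, 17, 52891) .leaf))))))

/-- part of the orbit tree -/
def itp1_178 : Tree := (.node (.node (.node (.node (.node (.node .leaf (44582, 0, 15, 106174) .leaf) (44583, 0, 18, 98008) (.node .leaf (44592, 0, 15, 167917) .leaf)) (44593, 0, 9, 159627) (.node (.node .leaf (44594, 0, 17, 96638) .leaf) (44595, 0, 17, 212910) (.node .leaf (44596, 0, 15, 177870) .leaf))) (44597, 0, 15, 153256) (.node (.node (.node .leaf (44598, 0, 19, 198243) .leaf) (44599, 0, 16, 89933) (.node .leaf (44616, 0, 15, 176979) .leaf)) (44617, 0, 17, 225736) (.node (.node .leaf (44618, 0, 18, 180372) .leaf) (44619, 0, 15, 197392) (.node .leaf (44620, 0, 18, 219131) .leaf)))) (44621, 0, 15, 158230) (.node (.node (.node (.node .leaf (44622,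 0, 15, 252501) .leaf) (44623, 0, 12, 190119) (.node .leaf (44632, 0, 12, 51974) .leaf)) (44633, 0, 15, 11104) (.node (.node .leaf (44634, 0, 17, 46690) .leaf) (44635, 0, 16, 192332) (.node .leaf (44636, 0, 15, 61989) .leaf))) (44637, 0, 13, 227363) (.node (.node (.node .leaf (44638, 0, 13, 107008) .leaf) (44639, 0, 18, 82534) (.node .leaf (44640, 0, 16, 236862) .leaf)) (44641, 0, 15, 228696) (.node (.node .leaf (44642, 0, 14, 183579) .leaf) (44643, 0, 15, 69164) (.node .leaf (44644, 0, 11, 238621) .leaf))))) (44645, 0, 16, 214139) (.node (.node (.node (.node (.node .leaf (44646, 0, 13, 193592) .leaf) (44647, 0, 15, 136286) (.node .leaf (44656, 0, 15, 124267) .leaf)) (44657, 0, 16, 66829) (.node (.node .leaf (44658, 0, 18, 46414) .leaf) (44659, 0, 12, 227546) (.node .leaf (44660, 0, 16, 121928) .leaf))) (44661, 0, 18, 80942) (.node (.node (.node .leaf (44662, 0, 15, 220905) .leaf) (44663, 0, 17, 27659) (.node .leaf (44672, 0, 16, 141977) .leaf)) (44673, 0, 18, 101153) (.node (.node .leaf (44674, 0,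 17, 115435) .leaf) (44675, 0, 15, 56068) (.node .leaf (44676, 0, 16, 86628) .leaf)))) (44677, 0, 13, 134314) (.node (.node (.node (.node .leaf (44678, 0, 16, 245238) .leaf) (44679, 0, 14, 57895) (.node .leaf (44688, 0, 17, 23663) .leaf)) (44689, 0, 17, 258932) (.node (.node .leaf (44690, 0, 16, 148279) .leaf) (44691, 0, 17, 126259) (.node .leaf (44692, 0, 14, 140146) .leaf))) (44693, 0, 16, 248407) (.node (.node (.node .leaf (44694, 0, 17, 117504) .leaf) (44695, 0, 12, 234030) (.node .leaf (44712, 0, 15, 17706) .leaf)) (44713, 0, 16, 42316) (.node (.node .leaf (44714, 0, 15, 70927) .leaf) (44715, 0, 15, 128361) (.node .leaf (44716, 0, 17, 115218) .leaf))))))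

/-- part of the orbit tree -/
def itp1_179 : Tree := (.node (.node (.node (.node (.node (.node .leaf (44718, 0, 16, 76844) .leaf) (44719, 0, 13, 29518) (.node .leaf (44728, 0, 17, 146815) .leaf)) (44729, 0, 15, 234199) (.node (.node .leaf (44730, 0, 14, 140171) .leaf) (44731, 0, 17, 232764) (.node .leaf (44732, 0, 13, 132188) .leaf))) (44733, 0, 15, 126410) (.node (.node (.node .leaf (44734, 0, 17, 218233) .leaf) (44735, 0, 15, 132536) (.node .leaf (44736, 0, 15, 160275) .leaf)) (44737, 0, 17, 188839) (.node (.node .leaf (44738, 0, 14, 105057) .leaf) (44739, 0, 17, 242050) (.node .leaf (44740, 0, 17, 3342) .leaf)))) (44741, 0, 16, 186500) (.node (.node (.node (.node .leaf (44742, 0, 17, 255356) .leaf) (44743, 0, 15, 113746) (.node .leaf (44752, 0, 15, 1253) .leaf)) (44753, 0, 16, 155083) (.node (.node .leaf (44754, 0, 14, 257175) .leaf) (44755, 0, 18, 117207) (.node .leaf (44756, 0, 15, 162808) .leaf))) (44757, 0, 17, 41169) (.node (.node (.node .leaf (44758, 0, 14, 69778) .leaf) (44759, 0, 15, 127220)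 (.node .leaf (44776, 0, 14, 255365) .leaf)) (44777, 0, 15, 113835) (.node (.node .leaf (44778, 0, 15, 163721) .leaf) (44779, 0, 11, 172015) (.node .leaf (44780, 0, 17, 202383) .leaf))))) (44781, 0, 15, 259817) (.node (.node (.node (.node (.node .leaf (44782, 0, 16, 160490) .leaf) (44783, 0, 19, 173772) (.node .leaf (44792, 0, 14, 103283) .leaf)) (44793, 0, 16, 112543) (.node (.node .leaf (44794, 0, 13, 2012) .leaf) (44795, 0, 15, 8751) (.node .leaf (44796, 0, 16, 93914) .leaf))) (44797, 0, 14, 102076) (.node (.node (.node .leaf (44798, 0, 14, 1052) .leaf) (44799, 0, 18, 56985) (.node .leaf (44800, 0, 16, 97555) .leaf)) (44801, 0, 17, 48735) (.node (.node .leaf (44802, 0, 17, 169313) .leaf) (44803, 0, 15, 126586) (.node .leaf (44804, 0, 17, 26394) .leaf)))) (44805, 0, 15, 34684) (.node (.node (.node (.node .leaf (44806, 0, 18, 60028) .leaf) (44807, 0, 14, 120665) (.node .leaf (44816, 0, 17, 199653) .leaf)) (44817, 0, 14, 86731) (.node (.node .leaf (44818, 0, 16, 226889) .leaf) (44819, 0, 15, 235055)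 (.node .leaf (44820, 0, 17, 95480) .leaf))) (44821, 0, 16, 208342) (.node (.node (.node .leaf (44822, 0, 17, 216938) .leaf) (44823, 0, 17, 50596) (.node .leaf (44840, 0, 15, 60037) .leaf)) (44841, 0, 16, 177067) (.node (.node .leaf (44842, 0, 18, 8305) .leaf) (44843, 0, 17, 49175) (.node .leaf (44844, 0, 18, 169368) .leaf))))))

/-- part of the orbit tree -/
def itp1_180 : Tree := (.node (.node (.node (.node (.node (.node .leaf (44846, 0, 17, 6482) .leaf) (44847, 0, 16, 206020) (.node .leaf (44856, 0, 18, 198657) .leaf)) (44857, 0, 17, 256103) (.node (.node .leaf (44858, 0, 18, 95233) .leaf) (44859, 0, 17, 208175) (.node .leaf (44860, 0, 16, 58222) .leaf))) (44861, 0, 16, 250180) (.node (.node (.node .leaf (44862, 0, 18, 199452) .leaf) (44863, 0, 15, 164193) (.node .leaf (44864, 0, 18, 210111) .leaf)) (44865, 0, 9, 228535) (.node (.node .leaf (44866, 0, 17, 156826) .leaf) (44867, 0, 17, 165116) (.node .leaf (44868, 0, 15, 200092) .leaf)))) (44869, 0, 16, 66474) (.node (.node (.node (.node .leaf (44870,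 0, 13, 155065) .leaf) (44871, 0, 17, 179679) (.node .leaf (44880, 0, 17, 85226) .leaf)) (44881, 0, 17, 109708) (.node (.node .leaf (44882, 0, 15, 47901) .leaf) (44883, 0, 18, 64681) (.node .leaf (44884, 0, 16, 95689) .leaf))) (44885, 0, 18, 226652) (.node (.node (.node .leaf (44886, 0, 17, 181248) .leaf) (44887, 0, 13, 40238) (.node .leaf (44904, 0, 15, 45583) .leaf)) (44905, 0, 18, 191265) (.node (.node .leaf (44906, 0, 17, 215799) .leaf) (44907, 0, 17, 240273) (.node .leaf (44908, 0, 17, 140273) .leaf))))) (44909, 0, 17, 37948) (.node (.node (.node (.node (.node .leaf (44910, 0, 15, 226260) .leaf) (44911, 0, 17, 234418) (.node .leaf (44920, 0, 15, 181497) .leaf)) (44921, 0, 16, 40407) (.node (.node .leaf (44922, 0, 16, 76939) .leaf) (44923, 0, 18, 226725) (.node .leaf (44924, 0, 16, 23460) .leaf))) (44925, 0, 15, 48066) (.node (.node (.node .leaf (44926, 0, 17, 218006) .leaf) (44927, 0, 13, 125927) (.node .leaf (44936, 0, 16, 141286) .leaf)) (44937, 0, 12, 32456) (.node (.node .leaf (44938, 0, 15,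 118676) .leaf) (44939, 0, 18, 89320) (.node .leaf (44940, 0, 16, 54664) .leaf)))) (44941, 0, 16, 13806) (.node (.node (.node (.node .leaf (44942, 0, 16, 241801) .leaf) (44943, 0, 17, 125351) (.node .leaf (44952, 0, 14, 169214) .leaf)) (44953, 0, 17, 133182) (.node (.node .leaf (44954, 0, 14, 244066) .leaf) (44955, 0, 18, 206013) (.node .leaf (44956, 0, 15, 175581) .leaf))) (44957, 0, 16, 150971) (.node (.node (.node .leaf (44958, 0, 15, 116351) .leaf) (44959, 0, 16, 237393) (.node .leaf (44960, 0, 17, 241776) .leaf)) (44961, 0, 17, 125278) (.node (.node .leaf (44962, 0, 16, 37603) .leaf) (44963, 0, 7, 29317) .leaf)))))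

/-- part of the orbit tree -/
def itp1_181 : Tree := (.node itp1_177 (44581, 0, 16, 49609) itp1_178)

/-- part of the orbit tree -/
def itp1_182 : Tree := (.node itp1_179 (44845, 0, 16, 52406) itp1_180)

/-- part of the orbit tree -/
def itp1_183 : Tree := (.node itp1_175 (44203, 0, 16, 121113) itp1_176)

/-- part of the orbit tree -/
def itp1_184 : Tree := (.node itp1_181 (44717, 0, 13, 236348) itp1_182)

/-- part of the orbit tree -/
def itp1_185 : Tree := (.node itp1_169 (43437, 0, 18, 133315) itp1_170)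

/-- part of the orbit tree -/
def itp1_186 : Tree := (.node itp1_183 (44458, 0, 15, 47026) itp1_184)

/-- part of the orbit tree -/
def itp1_187 : Tree := (.node itp1_155 (41901, 0, 16, 13332) itp1_156)

/-- part of the orbit tree -/
def itp1_188 : Tree := (.node itp1_185 (43945, 0, 16, 138640) itp1_186)

/-- part of the orbit tree -/
def itp1_189 : Tree := (.node (.node (.node (.node (.node (.node .leaf (44965, 0, 16, 235075) .leaf) (44966, 0, 9, 43968) (.node .leaf (44967, 0, 16, 32305) .leaf)) (44976, 0, 17, 244371) (.node (.node .leaf (44977, 0, 16, 219893) .leaf) (44978, 0, 17, 143092) (.node .leaf (44979, 0, 14, 133840) .leaf))) (44980, 0, 18, 230320) (.node (.node (.node .leaf (44981, 0, 15, 222166) .leaf) (44982, 0, 17, 20969) (.node .leaf (44983, 0, 17, 133319) .leaf)) (45000, 0, 14, 163692) (.node (.node .leaf (45001, 0, 17, 9794) .leaf) (45002, 0, 15, 104222) (.node .leaf (45003, 0, 17, 249392) .leaf)))) (45004, 0, 16, 245518) (.node (.node (.node (.node .leaf (45005, 0, 17, 221032) .leaf)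 (45006, 0, 15, 192299) (.node .leaf (45007, 0, 16, 134989) .leaf)) (45016, 0, 17, 130680) (.node (.node .leaf (45017, 0, 15, 151732) .leaf) (45018, 0, 14, 44637) (.node .leaf (45019, 0, 13, 20027) .leaf))) (45020, 0, 16, 116571) (.node (.node (.node .leaf (45021, 0, 17, 12201) .leaf) (45022, 0, 15, 38782) (.node .leaf (45023, 0, 15, 30488) .leaf)) (45024, 0, 14, 174144) (.node (.node .leaf (45025, 0, 17, 111060) .leaf) (45026, 0, 17, 260197) (.node .leaf (45027, 0, 15, 202755) .leaf))))) (45028, 0, 15, 104423) (.node (.node (.node (.node (.node .leaf (45029, 0, 17, 249545) .leaf) (45030, 0, 17, 163733) (.node .leaf (45031, 0, 13, 9915) .leaf)) (45040, 0, 16, 105996) (.node (.node .leaf (45041, 0, 17, 12403) .leaf) (45042, 0, 17, 161406) (.node .leaf (45043, 0, 17, 90198) .leaf))) (45044, 0, 18, 254225) (.node (.node (.node .leaf (45045, 0, 14, 112703) .leaf) (45046, 0, 13, 2403) (.node .leaf (45047, 0, 17, 88437) .leaf)) (45057, 0, 18, 82429) (.node (.node .leaf (45058, 0, 15, 61886) .leaf) (45060,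 0, 18, 96895) (.node .leaf (45063, 0, 16, 52003) .leaf)))) (45065, 0, 17, 112336) (.node (.node (.node (.node .leaf (45066, 0, 18, 1932) .leaf) (45068, 0, 16, 245024) (.node .leaf (45071, 0, 17, 134499) .leaf)) (45073, 0, 18, 211368) (.node (.node .leaf (45074, 0, 15, 166379) .leaf) (45076, 0, 17, 254189) (.node .leaf (45079, 0, 15, 179669) .leaf))) (45081, 0, 12, 245798) (.node (.node (.node .leaf (45082, 0, 14, 44147) .leaf) (45084, 0, 16, 116085) (.node .leaf (45087, 0, 16, 153417) .leaf)) (45088, 0, 13, 161896) (.node (.node .leaf (45091, 0, 17, 203309) .leaf) (45093, 0, 13, 160555) (.node .leaf (45094, 0, 17, 257799) .leaf))))))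

/-- part of the orbit tree -/
def itp1_190 : Tree := (.node (.node (.node (.node (.node (.node .leaf (45099, 0, 18, 205736) .leaf) (45101, 0, 19, 22195) (.node .leaf (45102, 0, 15, 124656) .leaf)) (45104, 0, 16, 53819) (.node (.node .leaf (45107, 0, 15, 90744) .leaf) (45109, 0, 16, 10413) (.node .leaf (45110, 0, 13, 104945) .leaf))) (45112, 0, 15, 194467) (.node (.node (.node .leaf (45115, 0, 17, 87390) .leaf) (45117, 0, 17, 143078) (.node .leaf (45118, 0, 16, 95085) .leaf)) (45121, 0, 10, 66758) (.node (.node .leaf (45122, 0, 16, 46490) .leaf) (45124, 0, 17, 74485) (.node .leaf (45127, 0, 18, 37801) .leaf)))) (45129, 0, 16, 3811) (.node (.node (.node (.node .leaf (45130, 0, 16, 24326) .leaf) (45132, 0, 16, 116841) (.node .leaf (45135, 0, 16, 31029) .leaf)) (45137, 0, 18, 21294) (.node (.node .leaf (45138, 0, 18, 181100) .leaf) (45140, 0, 16, 218115) (.node .leaf (45143, 0, 15, 189791) .leaf))) (45145, 0, 11, 235692) (.node (.node (.node .leaf (45146, 0, 17, 141808) .leaf) (45148, 0, 16, 176115)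 (.node .leaf (45151, 0, 15, 204720) .leaf)) (45152, 0, 17, 114920) (.node (.node .leaf (45155, 0, 16, 28843) .leaf) (45157, 0, 16, 132817) (.node .leaf (45158, 0, 15, 43502) .leaf))))) (45160, 0, 7, 255344) (.node (.node (.node (.node (.node .leaf (45163, 0, 17, 228130) .leaf) (45165, 0, 17, 191565) (.node .leaf (45166, 0, 17, 220433) .leaf)) (45168, 0, 12, 243901) (.node (.node .leaf (45171, 0, 16, 133374) .leaf) (45173, 0, 16, 28711) (.node .leaf (45174, 0, 16, 184763) .leaf))) (45176, 0, 17, 48264) (.node (.node (.node .leaf (45179, 0, 17, 11622) .leaf) (45181, 0, 18, 83040) (.node .leaf (45182, 0, 16, 62499) .leaf)) (45184, 0, 16, 46347) (.node (.node .leaf (45187, 0, 17, 165586) .leaf) (45189, 0, 10, 258004) (.node .leaf (45190, 0, 17, 74340) .leaf)))) (45192, 0, 12, 70409) (.node (.node (.node (.node .leaf (45195, 0, 14, 41802) .leaf) (45197, 0, 16, 117324) (.node .leaf (45198, 0, 16, 31247) .leaf)) (45200, 0, 17, 181245) (.node (.node .leaf (45203, 0, 14, 65159) .leaf) (45205, 0, 12, 104321)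 (.node .leaf (45206, 0, 16, 218258) .leaf))) (45208, 0, 18, 141665) (.node (.node (.node .leaf (45211, 0, 16, 187167) .leaf) (45213, 0, 16, 134994) (.node .leaf (45214, 0, 12, 131674) .leaf)) (45217, 0, 15, 56578) (.node (.node .leaf (45218, 0, 15, 139379) .leaf) (45220, 0, 15, 1095) (.node .leaf (45223, 0, 15, 132672) .leaf))))))

/-- part of the orbit tree -/
def itp1_191 : Tree := (.node (.node (.node (.node (.node (.node .leaf (45226, 0, 16, 215257) .leaf) (45228, 0, 17, 220544) (.node .leaf (45231, 0, 17, 191708) .leaf)) (45233, 0, 12, 173399) (.node (.node .leaf (45234, 0, 17, 22149) .leaf) (45236, 0, 17, 162834) (.node .leaf (45239, 0, 17, 248913) .leaf))) (45241, 0, 17, 32975) (.node (.node (.node .leaf (45242, 0, 15, 77964) .leaf) (45244, 0, 18, 22922) (.node .leaf (45247, 0, 16, 39466) .leaf)) (45248, 0, 17, 23575) (.node (.node .leaf (45251, 0, 14, 89309) .leaf) (45253, 0, 17, 52146) (.node .leaf (45254, 0, 18, 97006) .leaf)))) (45256, 0, 15, 162191) (.node (.node (.node (.node .leaf (45259,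 0, 14, 248268) .leaf) (45261, 0, 16, 172234) (.node .leaf (45262, 0, 16, 102514) .leaf)) (45264, 0, 17, 140354) (.node (.node .leaf (45267, 0, 16, 234497) .leaf) (45269, 0, 15, 195847) (.node .leaf (45270, 0, 16, 199704) .leaf))) (45272, 0, 17, 474) (.node (.node (.node .leaf (45275, 0, 18, 245943) .leaf) (45277, 0, 18, 55455) (.node .leaf (45278, 0, 17, 255620) .leaf)) (45281, 0, 13, 248229) (.node (.node .leaf (45282, 0, 17, 162041) .leaf) (45284, 0, 10, 257942) (.node .leaf (45287, 0, 11, 155338) .leaf))))) (45289, 0, 15, 205625) (.node (.node (.node (.node (.node .leaf (45290, 0, 14, 168549) .leaf) (45292, 0, 16, 197898) (.node .leaf (45295, 0, 17, 177238) .leaf)) (45297, 0, 15, 118737) (.node (.node .leaf (45298, 0, 17, 32658) .leaf) (45300, 0, 15, 104800) (.node .leaf (45303, 0, 16, 10300) .leaf))) (45305, 0, 16, 87503) (.node (.node (.node .leaf (45306, 0, 18, 58515) .leaf) (45308, 0, 18, 209676) (.node .leaf (45311, 0, 15, 49824) .leaf)) (45312, 0, 17, 132079) (.node (.node .leaf (45315, 0,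 15, 152541) .leaf) (45317, 0, 16, 187050) (.node .leaf (45318, 0, 15, 223977) .leaf)))) (45320, 0, 14, 9847) (.node (.node (.node (.node .leaf (45323, 0, 15, 103988) .leaf) (45325, 0, 16, 208430) (.node .leaf (45326, 0, 12, 85873) .leaf)) (45328, 0, 17, 31674) (.node (.node .leaf (45331, 0, 18, 9515) .leaf) (45333, 0, 16, 111172) (.node .leaf (45334, 0, 13, 792) .leaf))) (45336, 0, 16, 98027) (.node (.node (.node .leaf (45339, 0, 16, 53175) .leaf) (45341, 0, 15, 88280) (.node .leaf (45342, 0, 18, 210724) .leaf)) (45345, 0, 16, 125052) (.node (.node .leaf (45346, 0, 12, 96249) .leaf) (45348, 0, 17, 57494) (.node .leaf (45351, 0, 13, 86474) .leaf))))))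

/-- part of the orbit tree -/
def itp1_192 : Tree := (.node (.node (.node (.node (.node (.node .leaf (45354, 0, 18, 163239) .leaf) (45356, 0, 18, 201889) (.node .leaf (45359, 0, 15, 173282) .leaf)) (45361, 0, 17, 176211) (.node (.node .leaf (45362, 0, 17, 139370) .leaf) (45364, 0, 15, 215404) (.node .leaf (45367, 0, 18, 206652) .leaf))) (45369, 0, 16, 112049) (.node (.node (.node .leaf (45370, 0, 16, 1522) .leaf) (45372, 0, 17, 163068) (.node .leaf (45375, 0, 16, 249248) .leaf)) (45376, 0, 17, 244235) (.node (.node .leaf (45379, 0, 15, 55594) .leaf) (45381, 0, 17, 236600) (.node .leaf (45382, 0, 19, 142692) .leaf)))) (45384, 0, 16, 217239) (.node (.node (.node (.node .leaf (45387, 0, 14, 195762) .leaf) (45389, 0, 15, 234932) (.node .leaf (45390, 0, 14, 140791) .leaf)) (45392, 0, 13, 201020) (.node (.node .leaf (45395, 0, 15, 172415) .leaf) (45397, 0, 17, 125646) (.node .leaf (45398, 0, 14, 23442) .leaf))) (45400, 0, 13, 79012) (.node (.node (.node .leaf (45403, 0, 18, 34023) .leaf) (45405, 0, 12,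 65618) (.node .leaf (45406, 0, 13, 45326) .leaf)) (45409, 0, 13, 40495) (.node (.node .leaf (45410, 0, 16, 209593) .leaf) (45412, 0, 16, 154559) (.node .leaf (45415, 0, 18, 257020) .leaf))))) (45417, 0, 16, 29875) (.node (.node (.node (.node (.node .leaf (45418, 0, 16, 71457) .leaf) (45420, 0, 16, 32295) (.node .leaf (45423, 0, 16, 123868) .leaf)) (45425, 0, 16, 64175) (.node (.node .leaf (45426, 0, 15, 219525) .leaf) (45428, 0, 17, 9194) (.node .leaf (45431, 0, 16, 229302) .leaf))) (45433, 0, 18, 131653) (.node (.node (.node .leaf (45434, 0, 14, 242457) .leaf) (45436, 0, 16, 132722) (.node .leaf (45439, 0, 14, 243249) .leaf)) (45441, 0, 17, 29827) (.node (.node .leaf (45442, 0, 16, 244378) .leaf) (45444, 0, 16, 142837) (.node .leaf (45447, 0, 18, 236713) .leaf)))) (45449, 0, 16, 188762) (.node (.node (.node (.node .leaf (45450, 0, 18, 217094) .leaf) (45452, 0, 17, 182121) (.node .leaf (45455, 0, 17, 210973) .leaf)) (45457, 0, 15, 32048) (.node (.node .leaf (45458, 0, 16, 117868) .leaf) (45460, 0,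 14, 23299) (.node .leaf (45463, 0, 13, 222672) .leaf))) (45465, 0, 16, 10574) (.node (.node (.node .leaf (45466, 0, 17, 75504) .leaf) (45468, 0, 14, 61451) (.node .leaf (45471, 0, 15, 65731) .leaf)) (45472, 0, 13, 77794) (.node (.node .leaf (45475, 0, 14, 143187) .leaf) (45477, 0, 15, 214613) (.node .leaf (45478, 0, 16, 47245) .leaf))))))

/-- part of the orbit tree -/
def itp1_193 : Tree := (.node itp1_189 (45096, 0, 15, 36854) itp1_190)

/-- part of the orbit tree -/
def itp1_194 : Tree := (.node itp1_191 (45353, 0, 8, 11321) itp1_192)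

/-- part of the orbit tree -/
def itp1_195 : Tree := (.node (.node (.node (.node (.node (.node .leaf (45483, 0, 13, 29730) .leaf) (45485, 0, 16, 91085) (.node .leaf (45486, 0, 15, 21009) .leaf)) (45488, 0, 14, 219412) (.node (.node .leaf (45491, 0, 14, 22278) .leaf) (45493, 0, 13, 229159) (.node .leaf (45494, 0, 16, 183931) .leaf))) (45496, 0, 16, 242568) (.node (.node (.node .leaf (45499, 0, 15, 131796) .leaf) (45501, 0, 17, 234939) (.node .leaf (45502, 0, 16, 175067) .leaf)) (45505, 0, 18, 152396) (.node (.node .leaf (45506, 0, 16, 175686) .leaf) (45508, 0, 17, 161151) (.node .leaf (45511, 0, 11, 161539) .leaf)))) (45513, 0, 16, 178640) (.node (.node (.node (.node .leaf (45514, 0, 13, 198796) .leaf) (45516, 0, 16, 172003) (.node .leaf (45519, 0, 15, 21147) .leaf)) (45521, 0, 16, 91728) (.node (.node .leaf (45522, 0, 12, 54803) .leaf) (45524, 0, 18, 905) (.node .leaf (45527, 0, 15, 3926) .leaf))) (45529, 0, 15, 53030) (.node (.node (.node .leaf (45530, 0, 16, 193419) .leaf) (45532, 0, 15, 236173)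 (.node .leaf (45535, 0, 15, 88137) .leaf)) (45536, 0, 17, 96104) (.node (.node .leaf (45539, 0, 15, 83413) .leaf) (45541, 0, 12, 86363) (.node .leaf (45542, 0, 17, 57351) .leaf))))) (45544, 0, 15, 105972) (.node (.node (.node (.node (.node .leaf (45547, 0, 11, 11432) .leaf) (45549, 0, 15, 113607) (.node .leaf (45550, 0, 17, 243976) .leaf)) (45552, 0, 16, 197022) (.node (.node .leaf (45555, 0, 15, 212352) .leaf) (45557, 0, 17, 152710) (.node .leaf (45558, 0, 15, 255173) .leaf))) (45560, 0, 16, 43099) (.node (.node (.node .leaf (45563, 0, 15, 154206) .leaf) (45565, 0, 17, 28958) (.node .leaf (45566, 0, 14, 162925) .leaf)) (45568, 0, 8, 101867) (.node (.node .leaf (45569, 0, 16, 93581) .leaf) (45574, 0, 15, 58605) (.node .leaf (45575, 0, 15, 52751) .leaf)))) (45576, 0, 14, 256722) (.node (.node (.node (.node .leaf (45577, 0, 15, 111612) .leaf) (45582, 0, 15, 180597) (.node .leaf (45583, 0, 14, 9363) .leaf)) (45584, 0, 17, 259518) (.node (.node .leaf (45585, 0, 11, 208790) .leaf) (45590, 0, 16, 57815)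 (.node .leaf (45591, 0, 13, 163038) .leaf))) (45592, 0, 15, 105508) (.node (.node (.node .leaf (45593, 0, 12, 247050) .leaf) (45598, 0, 17, 47392) (.node .leaf (45599, 0, 14, 152165) .leaf)) (45602, 0, 14, 103734) (.node (.node .leaf (45603, 0, 15, 248856) .leaf) (45604, 0, 15, 180029) (.node .leaf (45605, 0, 13, 154487) .leaf))))))

/-- part of the orbit tree -/
def itp1_196 : Tree := (.node (.node (.node (.node (.node (.node .leaf (45611, 0, 16, 70597) .leaf) (45612, 0, 18, 59589) (.node .leaf (45613, 0, 17, 176619) .leaf)) (45618, 0, 10, 254912) (.node (.node .leaf (45619, 0, 18, 85512) .leaf) (45620, 0, 15, 160943) (.node .leaf (45621, 0, 15, 9998) .leaf))) (45626, 0, 13, 199004) (.node (.node (.node .leaf (45627, 0, 16, 224144) .leaf) (45628, 0, 14, 189168) (.node .leaf (45629, 0, 16, 50973) .leaf)) (45632, 0, 13, 219332) (.node (.node .leaf (45633, 0, 18, 66026) .leaf) (45638, 0, 17, 233067) (.node .leaf (45639, 0, 7, 224781) .leaf)))) (45640, 0, 12, 242264) (.node (.node (.node (.node .leaf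 (45641, 0, 17, 8851) .leaf) (45646, 0, 14, 109555) (.node .leaf (45647, 0, 18, 31769) .leaf)) (45648, 0, 17, 40760) (.node (.node .leaf (45649, 0, 17, 32606) .leaf) (45654, 0, 14, 47453) (.node .leaf (45655, 0, 16, 71256) .leaf))) (45656, 0, 15, 178848) (.node (.node (.node .leaf (45657, 0, 17, 154310) .leaf) (45662, 0, 16, 250790) (.node .leaf (45663, 0, 15, 209856) .leaf)) (45666, 0, 16, 118204) (.node (.node .leaf (45667, 0, 15, 23771) .leaf) (45668, 0, 16, 23251) (.node .leaf (45669, 0, 17, 132093) .leaf))))) (45674, 0, 15, 75552) (.node (.node (.node (.node (.node .leaf (45675, 0, 13, 228878) .leaf) (45676, 0, 17, 258083) (.node .leaf (45677, 0, 15, 190817) .leaf)) (45682, 0, 18, 181480) (.node (.node .leaf (45683, 0, 14, 140430) .leaf) (45684, 0, 16, 142373) (.node .leaf (45685, 0, 14, 216456) .leaf))) (45690, 0, 16, 57712) (.node (.node (.node .leaf (45691, 0, 14, 67832) .leaf) (45692, 0, 16, 100470) (.node .leaf (45693, 0, 15, 92176) .leaf)) (45698, 0, 17, 219221) (.node (.node .leaf (45699,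 0, 15, 174754) .leaf) (45700, 0, 16, 205762) (.node .leaf (45701, 0, 17, 38420) .leaf)))) (45706, 0, 18, 28508) (.node (.node (.node (.node .leaf (45707, 0, 11, 36666) .leaf) (45708, 0, 12, 140710) (.node .leaf (45709, 0, 17, 124476) .leaf)) (45714, 0, 15, 12945) (.node (.node .leaf (45715, 0, 16, 54007) .leaf) (45716, 0, 16, 47564) (.node .leaf (45717, 0, 17, 113649) .leaf))) (45722, 0, 16, 136969) (.node (.node (.node .leaf (45723, 0, 15, 236817) .leaf) (45724, 0, 15, 21328) (.node .leaf (45725, 0, 15, 237161) .leaf)) (45728, 0, 18, 4372) (.node (.node .leaf (45729, 0, 17, 61810) .leaf) (45734, 0, 18, 96274) (.node .leaf (45735, 0, 12, 131948) .leaf))))))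

/-- part of the orbit tree -/
def itp1_197 : Tree := (.node (.node (.node (.node (.node (.node .leaf (45737, 0, 14, 185578) .leaf) (45742, 0, 17, 220554) (.node .leaf (45743, 0, 13, 245228) .leaf)) (45744, 0, 17, 158017) (.node (.node .leaf (45745, 0, 14, 123637) .leaf) (45750, 0, 16, 142516) (.node .leaf (45751, 0, 14, 253985) .leaf))) (45752, 0, 17, 19673) (.node (.node (.node .leaf (45753, 0, 17, 67689) .leaf) (45758, 0, 16, 181800) (.node .leaf (45759, 0, 14, 40710) .leaf)) (45762, 0, 18, 73794) (.node (.node .leaf (45763, 0, 17, 114724) .leaf) (45764, 0, 18, 18756) (.node .leaf (45765, 0, 14, 52894) .leaf)))) (45770, 0, 17, 198106) (.node (.node (.node (.node .leaf (45771, 0, 17, 111469) .leaf) (45772, 0, 17, 163116) (.node .leaf (45773, 0, 16, 167098) .leaf)) (45778, 0, 15, 219159) (.node (.node .leaf (45779, 0, 18, 243825) .leaf) (45780, 0, 17, 143633) (.node .leaf (45781, 0, 17, 178280) .leaf))) (45786, 0, 15, 105653) (.node (.node (.node .leaf (45787, 0, 15, 105961) .leaf) (45788, 0, 16,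 3034) (.node .leaf (45789, 0, 16, 62703) .leaf)) (45792, 0, 18, 103847) (.node (.node .leaf (45793, 0, 17, 236532) .leaf) (45798, 0, 16, 135828) (.node .leaf (45799, 0, 14, 154598) .leaf))))) (45800, 0, 16, 98107) (.node (.node (.node (.node (.node .leaf (45801, 0, 17, 114284) .leaf) (45806, 0, 13, 14092) (.node .leaf (45807, 0, 17, 55146) .leaf)) (45808, 0, 15, 254801) (.node (.node .leaf (45809, 0, 14, 123809) .leaf) (45814, 0, 19, 160830) (.node .leaf (45815, 0, 17, 11536) .leaf))) (45816, 0, 17, 199117) (.node (.node (.node .leaf (45817, 0, 14, 247353) .leaf) (45822, 0, 16, 151385) (.node .leaf (45823, 0, 15, 175935) .leaf)) (45826, 0, 15, 229306) (.node (.node .leaf (45827, 0, 16, 237532) .leaf) (45828, 0, 19, 136892) (.node .leaf (45829, 0, 12, 194266) .leaf)))) (45834, 0, 15, 58691) (.node (.node (.node (.node .leaf (45835, 0, 15, 179309) .leaf) (45836, 0, 14, 94764) (.node .leaf (45837, 0, 11, 54082) .leaf)) (45842, 0, 17, 162089) (.node (.node .leaf (45843, 0, 16, 8199) .leaf) (45844, 0,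 17, 257606) (.node .leaf (45845, 0, 16, 36495) .leaf))) (45850, 0, 17, 205431) (.node (.node (.node .leaf (45851, 0, 17, 246289) .leaf) (45852, 0, 15, 197850) (.node .leaf (45853, 0, 16, 174871) .leaf)) (45856, 0, 11, 170663) (.node (.node .leaf (45857, 0, 17, 50057) .leaf) (45862, 0, 16, 19820) (.node .leaf (45863, 0, 16, 44298) .leaf))))))

/-- part of the orbit tree -/
def itp1_198 : Tree := (.node (.node (.node (.node (.node (.node .leaf (45865, 0, 15, 254356) .leaf) (45870, 0, 16, 157940) (.node .leaf (45871, 0, 15, 114298) .leaf)) (45872, 0, 18, 220223) (.node (.node .leaf (45873, 0, 17, 177535) .leaf) (45878, 0, 15, 144697) (.node .leaf (45879, 0, 14, 185695) .leaf))) (45880, 0, 18, 1741) (.node (.node (.node .leaf (45881, 0, 17, 155619) .leaf) (45886, 0, 12, 4257) (.node .leaf (45887, 0, 17, 247948) .leaf)) (45890, 0, 16, 5436) (.node (.node .leaf (45891, 0, 18, 62810) .leaf) (45892, 0, 14, 114746) (.node .leaf (45893, 0, 14, 235796) .leaf)))) (45898, 0, 13, 48585) (.node (.node (.node (.node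 .leaf (45899, 0, 16, 189671) .leaf) (45900, 0, 14, 219554) (.node .leaf (45901, 0, 17, 244164) .leaf)) (45906, 0, 16, 159081) (.node (.node .leaf (45907, 0, 17, 167183) .leaf) (45908, 0, 14, 243404) (.node .leaf (45909, 0, 12, 254985) .leaf))) (45914, 0, 14, 183103) (.node (.node (.node .leaf (45915, 0, 12, 43159) .leaf) (45916, 0, 17, 220240) (.node .leaf (45917, 0, 17, 115089) .leaf)) (45920, 0, 9, 180781) (.node (.node .leaf (45921, 0, 15, 175754) .leaf) (45926, 0, 14, 218434) (.node .leaf (45927, 0, 16, 68716) .leaf))))) (45928, 0, 17, 141489) (.node (.node (.node (.node (.node .leaf (45929, 0, 13, 29087) .leaf) (45934, 0, 14, 66162) (.node .leaf (45935, 0, 15, 124656) .leaf)) (45936, 0, 15, 14009) (.node (.node .leaf (45937, 0, 17, 191989) .leaf) (45942, 0, 16, 74676) (.node .leaf (45943, 0, 16, 114649) .leaf))) (45944, 0, 17, 24135) (.node (.node (.node .leaf (45945, 0, 14, 132969) .leaf) (45950, 0, 16, 227879) (.node .leaf (45951, 0, 17, 233478) .leaf)) (45952, 0, 16, 47253) (.node (.node .leaf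 (45953, 0, 5, 22771) .leaf) (45958, 0, 15, 119187) (.node .leaf (45959, 0, 15, 235909) .leaf)))) (45960, 0, 17, 171277) (.node (.node (.node (.node .leaf (45961, 0, 18, 189558) .leaf) (45966, 0, 16, 76343) (.node .leaf (45967, 0, 15, 226073) .leaf)) (45968, 0, 16, 180416) (.node (.node .leaf (45969, 0, 15, 139430) .leaf) (45974, 0, 14, 243293) (.node .leaf (45975, 0, 17, 215456) .leaf))) (45976, 0, 11, 58712) (.node (.node (.node .leaf (45977, 0, 13, 1342) .leaf) (45982, 0, 16, 220353) (.node .leaf (45983, 0, 14, 67055) .leaf)) (45986, 0, 16, 189253) (.node (.node .leaf (45987, 0, 19, 131875) .leaf) (45988, 0, 16, 232003) .leaf)))))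

/-- part of the orbit tree -/
def itp1_199 : Tree := (.node itp1_195 (45610, 0, 17, 127907) itp1_196)

/-- part of the orbit tree -/
def itp1_200 : Tree := (.node itp1_197 (45864, 0, 17, 159803) itp1_198)

/-- part of the orbit tree -/
def itp1_201 : Tree := (.node itp1_193 (45225, 0, 14, 228275) itp1_194)

/-- part of the orbit tree -/
def itp1_202 : Tree := (.node itp1_199 (45736, 0, 18, 144524) itp1_200)

/-- part of the orbit tree -/
def itp1_203 : Tree := (.node (.node (.node (.node (.node (.node .leaf (45994, 0, 12, 141344) .leaf) (45995, 0, 13, 9915) (.node .leaf (45996, 0, 18, 245583) .leaf)) (45997, 0, 14, 124513) (.node (.node .leaf (46002, 0, 17, 46154) .leaf) (46003, 0, 13, 191844) (.node .leaf (46004, 0, 18, 74533) .leaf))) (46005, 0, 19, 70256) (.node (.node (.node .leaf (46010, 0, 18, 24278) .leaf) (46011, 0, 14, 133112) (.node .leaf (46012, 0, 18, 117177) .leaf)) (46013, 0, 15, 210920) (.node (.node .leaf (46016, 0, 17, 250387) .leaf) (46017, 0, 17, 153184) (.node .leaf (46022, 0,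 14, 178965) .leaf)))) (46023, 0, 17, 154483) (.node (.node (.node (.node .leaf (46024, 0, 14, 128907) .leaf) (46025, 0, 17, 179452) (.node .leaf (46030, 0, 17, 40589) .leaf)) (46031, 0, 16, 207763) (.node (.node .leaf (46032, 0, 15, 109126) .leaf) (46033, 0, 18, 8342) (.node .leaf (46038, 0, 17, 257751) .leaf))) (46039, 0, 14, 112633) (.node (.node (.node .leaf (46040, 0, 17, 168740) .leaf) (46041, 0, 16, 51722) (.node .leaf (46046, 0, 16, 197707) .leaf)) (46047, 0, 13, 132798) (.node (.node .leaf (46050, 0, 16, 170550) .leaf) (46051, 0, 13, 92581) (.node .leaf (46052, 0, 17, 200025) .leaf))))) (46053, 0, 15, 87159) (.node (.node (.node (.node (.node .leaf (46058, 0, 16, 159914) .leaf) (46059, 0, 17, 216125) (.node .leaf (46060, 0, 12, 255941) .leaf)) (46061, 0, 16, 114411) (.node (.node .leaf (46066, 0, 11, 60608) .leaf) (46067, 0, 12, 201200) (.node .leaf (46068, 0, 16, 97199) .leaf))) (46069, 0, 16, 205441) (.node (.node (.node .leaf (46074, 0, 16, 1628) .leaf) (46075, 0, 15, 78952) (.node .leaf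 (46076, 0, 17, 48392) .leaf)) (46077, 0, 18, 247837) (.node (.node .leaf (46080, 0, 17, 2198) .leaf) (46082, 0, 17, 254180) (.node .leaf (46085, 0, 15, 11941) .leaf)))) (46087, 0, 17, 78419) (.node (.node (.node (.node .leaf (46088, 0, 17, 171691) .leaf) (46090, 0, 17, 249486) (.node .leaf (46093, 0, 17, 50233) .leaf)) (46095, 0, 13, 202699) (.node (.node .leaf (46096, 0, 15, 181094) .leaf) (46098, 0, 17, 234307) (.node .leaf (46101, 0, 17, 153683) .leaf))) (46103, 0, 19, 215558) (.node (.node (.node .leaf (46104, 0, 15, 59134) .leaf) (46106, 0, 13, 112347) (.node .leaf (46109, 0, 12, 16315) .leaf)) (46111, 0, 16, 94110) (.node (.node .leaf (46113, 0, 10, 208050) .leaf) (46115, 0, 17, 50368) (.node .leaf (46116, 0, 17, 199297) .leaf))))))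

/-- part of the orbit tree -/
def itp1_204 : Tree := (.node (.node (.node (.node (.node (.node .leaf (46121, 0, 15, 95544) .leaf) (46123, 0, 13, 11868) (.node .leaf (46124, 0, 17, 253981) .leaf)) (46126, 0, 14, 64600) (.node (.node .leaf (46129, 0, 15, 76021) .leaf) (46131, 0, 18, 30928) (.node .leaf (46132, 0, 15, 127408) .leaf))) (46134, 0, 17, 41365) (.node (.node (.node .leaf (46137, 0, 16, 200045) .leaf) (46139, 0, 13, 154952) (.node .leaf (46140, 0, 17, 104171) .leaf)) (46142, 0, 15, 164877) (.node (.node .leaf (46144, 0, 14, 250293) .leaf) (46146, 0, 14, 243822) (.node .leaf (46149, 0, 17, 30255) .leaf)))) (46151, 0, 16, 153813) (.node (.node (.node (.node .leaf (46152, 0, 15, 47744) .leaf) (46154, 0, 16, 41992) (.node .leaf (46157, 0, 14, 40115) .leaf)) (46159, 0, 14, 226497) (.node (.node .leaf (46160, 0, 16, 141034) .leaf) (46162, 0, 16, 63941) (.node .leaf (46165, 0, 12, 94373) .leaf))) (46167, 0, 17, 125099) (.node (.node (.node .leaf (46168, 0, 16, 232568) .leaf) (46170, 0, 16, 74756)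 (.node .leaf (46173, 0, 18, 218429) .leaf)) (46175, 0, 16, 132376) (.node (.node .leaf (46177, 0, 17, 226360) .leaf) (46179, 0, 17, 40010) (.node .leaf (46180, 0, 9, 58211) .leaf))))) (46182, 0, 11, 47737) (.node (.node (.node (.node (.node .leaf (46185, 0, 15, 139198) .leaf) (46187, 0, 15, 216987) (.node .leaf (46188, 0, 15, 182011) .leaf)) (46190, 0, 15, 235230) (.node (.node .leaf (46193, 0, 17, 66254) .leaf) (46195, 0, 19, 191164) (.node .leaf (46196, 0, 16, 75005) .leaf))) (46198, 0, 15, 183439) (.node (.node (.node .leaf (46201, 0, 18, 26603) .leaf) (46203, 0, 16, 79822) (.node .leaf (46204, 0, 15, 118369) .leaf)) (46206, 0, 11, 126603) (.node (.node .leaf (46209, 0, 16, 123345) .leaf) (46211, 0, 17, 236666) (.node .leaf (46212, 0, 17, 116706) .leaf)))) (46214, 0, 17, 143248) (.node (.node (.node (.node .leaf (46217, 0, 17, 68429) .leaf) (46219, 0, 13, 113122) (.node .leaf (46220, 0, 18, 12418) .leaf)) (46222, 0, 17, 90279) (.node (.node .leaf (46225, 0, 18, 46090) .leaf) (46227, 0, 15, 32597)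 (.node .leaf (46228, 0, 18, 241940) .leaf))) (46230, 0, 17, 81258) (.node (.node (.node .leaf (46233, 0, 17, 168338) .leaf) (46235, 0, 11, 246199) (.node .leaf (46236, 0, 14, 220040) .leaf)) (46238, 0, 17, 46074) (.node (.node .leaf (46240, 0, 17, 75724) .leaf) (46242, 0, 11, 77191) (.node .leaf (46245, 0, 15, 189382) .leaf))))))

/-- part of the orbit tree -/
def itp1_205 : Tree := (.node (.node (.node (.node (.node (.node .leaf (46248, 0, 11, 143209) .leaf) (46250, 0, 19, 152177) (.node .leaf (46253, 0, 16, 252689) .leaf)) (46255, 0, 14, 123176) (.node (.node .leaf (46256, 0, 14, 221081) .leaf) (46258, 0, 14, 220017) (.node .leaf (46261, 0, 14, 38192) .leaf))) (46263, 0, 17, 228674) (.node (.node (.node .leaf (46264, 0, 15, 96769) .leaf) (46266, 0, 16, 10788) (.node .leaf (46269, 0, 17, 107332) .leaf)) (46271, 0, 18, 62305) (.node (.node .leaf (46273, 0, 15, 112987) .leaf) (46275, 0, 14, 63228) (.node .leaf (46276, 0, 14, 98204) .leaf)))) (46278, 0, 15, 161562) (.node (.node (.node (.node .leaf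 (46281, 0, 18, 86983) .leaf) (46283, 0, 16, 185188) (.node .leaf (46284, 0, 16, 95732) .leaf)) (46286, 0, 17, 133665) (.node (.node .leaf (46289, 0, 18, 253580) .leaf) (46291, 0, 16, 10207) (.node .leaf (46292, 0, 17, 256414) .leaf))) (46294, 0, 16, 492) (.node (.node (.node .leaf (46297, 0, 15, 206129) .leaf) (46299, 0, 17, 43825) (.node .leaf (46300, 0, 15, 197378) .leaf)) (46302, 0, 18, 29300) (.node (.node .leaf (46304, 0, 16, 150858) .leaf) (46306, 0, 17, 95501) (.node .leaf (46309, 0, 16, 168975) .leaf))))) (46311, 0, 17, 246826) (.node (.node (.node (.node (.node .leaf (46312, 0, 16, 26834) .leaf) (46314, 0, 15, 106385) (.node .leaf (46317, 0, 14, 45463) .leaf)) (46319, 0, 16, 123314) (.node (.node .leaf (46320, 0, 18, 13599) .leaf) (46322, 0, 17, 91450) (.node .leaf (46325, 0, 15, 52666) .leaf))) (46327, 0, 16, 206280) (.node (.node (.node .leaf (46328, 0, 18, 277) .leaf) (46330, 0, 17, 256359) (.node .leaf (46333, 0, 13, 10022) .leaf)) (46335, 0, 16, 249684) (.node (.node .leaf (46337, 0,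 17, 260385) .leaf) (46339, 0, 16, 174340) (.node .leaf (46340, 0, 18, 168040) .leaf)))) (46342, 0, 19, 159809) (.node (.node (.node (.node .leaf (46345, 0, 11, 154823) .leaf) (46347, 0, 15, 35996) (.node .leaf (46348, 0, 15, 67068) .leaf)) (46350, 0, 16, 103046) (.node (.node .leaf (46353, 0, 17, 98676) .leaf) (46355, 0, 14, 53585) (.node .leaf (46356, 0, 17, 88113) .leaf))) (46358, 0, 13, 200428) (.node (.node (.node .leaf (46361, 0, 18, 10801) .leaf) (46363, 0, 17, 246339) (.node .leaf (46364, 0, 15, 3074) .leaf)) (46366, 0, 15, 142732) (.node (.node .leaf (46368, 0, 17, 103039) .leaf) (46370, 0, 13, 82583) (.node .leaf (46373, 0, 17, 52215) .leaf))))))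

/-- part of the orbit tree -/
def itp1_206 : Tree := (.node (.node (.node (.node (.node (.node .leaf (46376, 0, 17, 145194) .leaf) (46378, 0, 15, 222991) (.node .leaf (46381, 0, 17, 89808) .leaf)) (46383, 0, 16, 245322) (.node (.node .leaf (46384, 0, 14, 158439) .leaf) (46386, 0, 16, 211650) (.node .leaf (46389, 0, 16, 246458) .leaf))) (46391, 0, 18, 10952) (.node (.node (.node .leaf (46392, 0, 16, 200213) .leaf) (46394, 0, 18, 58983) (.node .leaf (46397, 0, 17, 38458) .leaf)) (46399, 0, 17, 49236) (.node (.node .leaf (46401, 0, 16, 192209) .leaf) (46403, 0, 15, 67235) (.node .leaf (46404, 0, 15, 182498) .leaf)))) (46406, 0, 17, 72391) (.node (.node (.node (.node .leaf (46409, 0, 11, 132173) .leaf) (46411, 0, 18, 126015) (.node .leaf (46412, 0, 13, 139902) .leaf)) (46414, 0, 17, 212831) (.node (.node .leaf (46417, 0, 15, 38951) .leaf) (46419, 0, 16, 244695) (.node .leaf (46420, 0, 13, 48660) .leaf))) (46422, 0, 15, 218726) (.node (.node (.node .leaf (46425, 0, 14, 29371) .leaf) (46427, 0, 16, 236233)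 (.node .leaf (46428, 0, 16, 5935) .leaf)) (46430, 0, 16, 244986) (.node (.node .leaf (46432, 0, 16, 117493) .leaf) (46434, 0, 13, 139911) (.node .leaf (46437, 0, 15, 237937) .leaf))))) (46439, 0, 18, 192852) (.node (.node (.node (.node (.node .leaf (46440, 0, 15, 89516) .leaf) (46442, 0, 16, 182299) (.node .leaf (46445, 0, 14, 99561) .leaf)) (46447, 0, 12, 192040) (.node (.node .leaf (46448, 0, 15, 65633) .leaf) (46450, 0, 17, 21617) (.node .leaf (46453, 0, 15, 121124) .leaf))) (46455, 0, 14, 29250) (.node (.node (.node .leaf (46456, 0, 17, 218783) .leaf) (46458, 0, 16, 161244) (.node .leaf (46461, 0, 16, 225452) .leaf)) (46463, 0, 17, 39134) (.node (.node .leaf (46464, 0, 15, 220956) .leaf) (46466, 0, 12, 46958) (.node .leaf (46469, 0, 15, 87816) .leaf)))) (46471, 0, 17, 37213) (.node (.node (.node (.node .leaf (46472, 0, 16, 243072) .leaf) (46474, 0, 13, 195568) (.node .leaf (46477, 0, 14, 225936) .leaf)) (46479, 0, 13, 139957) (.node (.node .leaf (46480, 0, 11, 259608) .leaf) (46482, 0, 18, 173629)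 (.node .leaf (46485, 0, 15, 208733) .leaf))) (46487, 0, 16, 190379) (.node (.node (.node .leaf (46488, 0, 13, 115574) .leaf) (46490, 0, 15, 33701) (.node .leaf (46493, 0, 19, 124229) .leaf)) (46495, 0, 13, 23264) (.node (.node .leaf (46497, 0, 17, 157150) .leaf) (46499, 0, 15, 210427) (.node .leaf (46500, 0, 15, 179355) .leaf))))))

/-- part of the orbit tree -/
def itp1_207 : Tree := (.node itp1_203 (46118, 0, 16, 186816) itp1_204)

/-- part of the orbit tree -/
def itp1_208 : Tree := (.node itp1_205 (46375, 0, 14, 154686) itp1_206)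

/-- part of the orbit tree -/
def itp1_209 : Tree := (.node (.node (.node (.node (.node (.node .leaf (46505, 0, 16, 37284) .leaf) (46507, 0, 16, 69731) (.node .leaf (46508, 0, 16, 46999) .leaf)) (46510, 0, 11, 117030) (.node (.node .leaf (46513, 0, 17, 7563) .leaf) (46515, 0, 18, 85422) (.node .leaf (46516, 0, 16, 142333) .leaf))) (46518, 0, 17, 103659) (.node (.node (.node .leaf (46521, 0, 16, 190290) .leaf) (46523, 0, 17, 223286) (.node .leaf (46524, 0, 12, 180577) .leaf)) (46526, 0, 12, 242035) (.node (.node .leaf (46528, 0, 16, 189643) .leaf) (46530, 0, 13, 61412) (.node .leaf (46533, 0, 17, 146830) .leaf)))) (46535, 0, 16, 224683) (.node (.node (.node (.node .leaf (46536, 0, 16, 49491) .leaf) (46538, 0, 16, 102774) (.node .leaf (46541, 0, 17, 6166) .leaf)) (46543, 0, 17, 84019) (.node (.node .leaf (46544, 0, 13, 40094) .leaf) (46546, 0, 11, 117947) (.node .leaf (46549, 0, 17, 87891) .leaf))) (46551, 0, 14, 71166) (.node (.node (.node .leaf (46552, 0, 15, 105468) .leaf) (46554, 0, 16, 160654)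 (.node .leaf (46557, 0, 16, 155715) .leaf)) (46559, 0, 15, 208998) (.node (.node .leaf (46561, 0, 16, 69464) .leaf) (46563, 0, 18, 24445) (.node .leaf (46564, 0, 16, 1409) .leaf))))) (46566, 0, 17, 257523) (.node (.node (.node (.node (.node .leaf (46569, 0, 9, 207552) .leaf) (46571, 0, 18, 162533) (.node .leaf (46572, 0, 17, 61213) .leaf)) (46574, 0, 14, 172960) (.node (.node .leaf (46577, 0, 17, 152900) .leaf) (46579, 0, 16, 113974) (.node .leaf (46580, 0, 15, 160631) .leaf))) (46582, 0, 16, 196205) (.node (.node (.node .leaf (46585, 0, 18, 86677) .leaf) (46587, 0, 16, 87978) (.node .leaf (46588, 0, 17, 101328) .leaf)) (46590, 0, 15, 56309) (.node (.node .leaf (46596, 0, 15, 160423) .leaf) (46597, 0, 13, 19974) (.node .leaf (46598, 0, 18, 130629) .leaf)))) (46599, 0, 15, 246779) (.node (.node (.node (.node .leaf (46604, 0, 16, 170043) .leaf) (46605, 0, 15, 49429) (.node .leaf (46606, 0, 14, 94281) .leaf)) (46607, 0, 18, 211899) (.node (.node .leaf (46612, 0, 13, 185909) .leaf) (46613, 0, 16, 155007)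 (.node .leaf (46614, 0, 17, 230928) .leaf))) (46615, 0, 12, 222838) (.node (.node (.node .leaf (46620, 0, 12, 61133) .leaf) (46621, 0, 17, 178147) (.node .leaf (46622, 0, 14, 107400) .leaf)) (46623, 0, 17, 82926) (.node (.node .leaf (46624, 0, 15, 94384) .leaf) (46625, 0, 16, 228560) (.node .leaf (46626, 0, 18, 183443) .leaf))))))

/-- part of the orbit tree -/
def itp1_210 : Tree := (.node (.node (.node (.node (.node (.node .leaf (46632, 0, 18, 112942) .leaf) (46633, 0, 17, 88392) (.node .leaf (46634, 0, 16, 160350) .leaf)) (46635, 0, 17, 2413) (.node (.node .leaf (46640, 0, 17, 124131) .leaf) (46641, 0, 18, 66693) (.node .leaf (46642, 0, 12, 60980) .leaf))) (46643, 0, 15, 21664) (.node (.node (.node .leaf (46648, 0, 16, 257242) .leaf) (46649, 0, 16, 205085) (.node .leaf (46650, 0, 17, 1192) .leaf)) (46651, 0, 16, 160056) (.node (.node .leaf (46660, 0, 17, 247014) .leaf) (46661, 0, 15, 29443) (.node .leaf (46662, 0, 16, 169155) .leaf)))) (46663, 0, 15, 160933) (.node (.node (.node (.node .leaf (46668,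 0, 15, 180401) .leaf) (46669, 0, 18, 39327) (.node .leaf (46670, 0, 15, 75971) .leaf)) (46671, 0, 15, 225773) (.node (.node .leaf (46676, 0, 15, 23771) .leaf) (46677, 0, 17, 89301) (.node .leaf (46678, 0, 15, 242857) .leaf))) (46679, 0, 16, 3312) (.node (.node (.node .leaf (46684, 0, 16, 46663) .leaf) (46685, 0, 15, 192361) (.node .leaf (46686, 0, 12, 220725) .leaf)) (46687, 0, 16, 141672) (.node (.node .leaf (46688, 0, 14, 63024) .leaf) (46689, 0, 15, 5718) (.node .leaf (46690, 0, 16, 108053) .leaf))))) (46691, 0, 18, 39270) (.node (.node (.node (.node (.node .leaf (46696, 0, 18, 185256) .leaf) (46697, 0, 15, 144334) (.node .leaf (46698, 0, 17, 230285) .leaf)) (46699, 0, 16, 222187) (.node (.node .leaf (46704, 0, 17, 220876) .leaf) (46705, 0, 15, 159235) (.node .leaf (46706, 0, 14, 253504) .leaf))) (46707, 0, 16, 212518) (.node (.node (.node .leaf (46712, 0, 17, 242768) .leaf) (46713, 0, 19, 19355) (.node .leaf (46714, 0, 16, 130008) .leaf)) (46715, 0, 15, 72638) (.node (.node .leaf (46720, 0, 13,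 245203) .leaf) (46721, 0, 12, 188463) (.node .leaf (46722, 0, 14, 21921) .leaf)))) (46723, 0, 15, 241674) (.node (.node (.node (.node .leaf (46728, 0, 12, 218959) .leaf) (46729, 0, 16, 69217) (.node .leaf (46730, 0, 15, 48957) .leaf)) (46731, 0, 16, 189971) (.node (.node .leaf (46736, 0, 15, 117541) .leaf) (46737, 0, 17, 39034) (.node .leaf (46738, 0, 16, 75833) .leaf))) (46739, 0, 12, 31353) (.node (.node (.node .leaf (46744, 0, 14, 155012) .leaf) (46745, 0, 18, 179682) (.node .leaf (46746, 0, 16, 182731) .leaf)) (46747, 0, 18, 37093) (.node (.node .leaf (46756, 0, 15, 78495) .leaf) (46757, 0, 16, 119545) (.node .leaf (46758, 0, 15, 219062) .leaf))))))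

/-- part of the orbit tree -/
def itp1_211 : Tree := (.node (.node (.node (.node (.node (.node .leaf (46764, 0, 17, 21848) .leaf) (46765, 0, 15, 259937) (.node .leaf (46766, 0, 12, 149282) .leaf)) (46767, 0, 16, 123908) (.node (.node .leaf (46772, 0, 18, 182578) .leaf) (46773, 0, 14, 36892) (.node .leaf (46774, 0, 17, 137967) .leaf))) (46775, 0, 17, 195209) (.node (.node (.node .leaf (46780, 0, 17, 140206) .leaf) (46781, 0, 15, 102196) (.node .leaf (46782, 0, 14, 16247) .leaf)) (46783, 0, 18, 57105) (.node (.node .leaf (46784, 0, 16, 255321) .leaf) (46785, 0, 15, 113783) (.node .leaf (46786, 0, 15, 15082) .leaf)))) (46787, 0, 13, 152581) (.node (.node (.node (.node .leaf (46792, 0, 17, 216919) .leaf) (46793, 0, 18, 241457) (.node .leaf (46794, 0, 13, 59319) .leaf)) (46795, 0, 7, 179865) (.node (.node .leaf (46800, 0, 17, 103343) .leaf) (46801, 0, 11, 248449) (.node .leaf (46802, 0, 16, 148159) .leaf))) (46803, 0, 12, 172761) (.node (.node (.node .leaf (46808, 0, 16, 96563) .leaf) (46809, 0, 13, 120676)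 (.node .leaf (46810, 0, 18, 26407) .leaf)) (46811, 0, 16, 51311) (.node (.node .leaf (46820, 0, 15, 153625) .leaf) (46821, 0, 16, 179808) (.node .leaf (46822, 0, 17, 198716) .leaf))))) (46823, 0, 18, 87570) (.node (.node (.node (.node (.node .leaf (46828, 0, 16, 3538) .leaf) (46829, 0, 13, 152828) (.node .leaf (46830, 0, 16, 255392) .leaf)) (46831, 0, 14, 118210) (.node (.node .leaf (46836, 0, 17, 168376) .leaf) (46837, 0, 12, 51350) (.node .leaf (46838, 0, 16, 94313) .leaf))) (46839, 0, 18, 102415) (.node (.node (.node .leaf (46844, 0, 10, 162596) .leaf) (46845, 0, 17, 189874) (.node .leaf (46846, 0, 17, 103254) .leaf)) (46847, 0, 14, 243095) (.node (.node .leaf (46848, 0, 15, 59993) .leaf) (46849, 0, 14, 177015) (.node .leaf (46850, 0, 14, 197163) .leaf)))) (46851, 0, 16, 165236) (.node (.node (.node (.node .leaf (46856, 0, 13, 197) .leaf) (46857, 0, 18, 127177) (.node .leaf (46858, 0, 18, 256183) .leaf)) (46859, 0, 16, 41196) (.node (.node .leaf (46864, 0, 19, 85346) .leaf) (46865, 0, 17, 109828)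 (.node .leaf (46866, 0, 14, 95453) .leaf))) (46867, 0, 16, 64801) (.node (.node (.node .leaf (46872, 0, 16, 223482) .leaf) (46873, 0, 13, 12061) (.node .leaf (46874, 0, 17, 145631) .leaf)) (46875, 0, 15, 247663) (.node (.node .leaf (46884, 0, 15, 2017) .leaf) (46885, 0, 14, 110944) (.node .leaf (46886, 0, 17, 88004) .leaf))))))

/-- part of the orbit tree -/
def itp1_212 : Tree := (.node (.node (.node (.node (.node (.node .leaf (46892, 0, 19, 139897) .leaf) (46893, 0, 18, 89084) (.node .leaf (46894, 0, 18, 225884) .leaf)) (46895, 0, 14, 177038) (.node (.node .leaf (46900, 0, 14, 106168) .leaf) (46901, 0, 12, 247702) (.node .leaf (46902, 0, 17, 161482) .leaf))) (46903, 0, 18, 249847) (.node (.node (.node .leaf (46908, 0, 16, 95268) .leaf) (46909, 0, 16, 47690) (.node .leaf (46910, 0, 16, 68105) .leaf)) (46911, 0, 17, 50552) (.node (.node .leaf (46912, 0, 17, 24497) .leaf) (46913, 0, 13, 191485) (.node .leaf (46914, 0, 17, 219809) .leaf)))) (46915, 0, 16, 126962) (.node (.node (.node (.node .leaf (46920,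 0, 13, 162345) .leaf) (46921, 0, 13, 170575) (.node .leaf (46922, 0, 18, 241725) .leaf)) (46923, 0, 10, 248426) (.node (.node .leaf (46928, 0, 17, 181285) .leaf) (46929, 0, 11, 40203) (.node .leaf (46930, 0, 15, 76887) .leaf))) (46931, 0, 15, 235431) (.node (.node (.node .leaf (46936, 0, 16, 143033) .leaf) (46937, 0, 15, 30615) (.node .leaf (46938, 0, 16, 116427) .leaf)) (46939, 0, 15, 111167) (.node (.node .leaf (46948, 0, 18, 241860) .leaf) (46949, 0, 18, 232705) (.node .leaf (46950, 0, 17, 146754) .leaf))))) (46951, 0, 17, 131480) (.node (.node (.node (.node (.node .leaf (46956, 0, 13, 84223) .leaf) (46957, 0, 15, 108697) (.node .leaf (46958, 0, 11, 6362) .leaf)) (46959, 0, 18, 63676) (.node (.node .leaf (46964, 0, 17, 70962) .leaf) (46965, 0, 13, 237340) (.node .leaf (46966, 0, 9, 17687) .leaf))) (46967, 0, 17, 30574) (.node (.node (.node .leaf (46972, 0, 17, 209066) .leaf) (46973, 0, 15, 250060) (.node .leaf (46974, 0, 18, 181468) .leaf)) (46975, 0, 17, 164073) (.node (.node .leaf (46980, 0,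 16, 75053) .leaf) (46981, 0, 16, 228355) (.node .leaf (46982, 0, 16, 52027) .leaf)))) (46983, 0, 16, 38001) (.node (.node (.node (.node .leaf (46988, 0, 16, 118705) .leaf) (46989, 0, 18, 235167) (.node .leaf (46990, 0, 16, 141251) .leaf)) (46991, 0, 17, 32493) (.node (.node .leaf (46996, 0, 14, 254795) .leaf) (46997, 0, 14, 68341) (.node .leaf (46998, 0, 15, 177006) .leaf))) (46999, 0, 15, 189063) (.node (.node (.node .leaf (47004, 0, 16, 244039) .leaf) (47005, 0, 13, 122985) (.node .leaf (47006, 0, 17, 38646) .leaf)) (47007, 0, 14, 133147) (.node (.node .leaf (47008, 0, 16, 141114) .leaf) (47009, 0, 15, 32276) .leaf)))))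

/-- part of the orbit tree -/
def itp1_213 : Tree := (.node itp1_209 (46627, 0, 17, 142581) itp1_210)

/-- part of the orbit tree -/
def itp1_214 : Tree := (.node itp1_211 (46887, 0, 15, 153874) itp1_212)

/-- part of the orbit tree -/
def itp1_215 : Tree := (.node itp1_207 (46247, 0, 18, 44716) itp1_208)

/-- part of the orbit tree -/
def itp1_216 : Tree := (.node itp1_213 (46759, 0, 15, 69272) itp1_214)

/-- part of the orbit tree -/
def itp1_217 : Tree := (.node itp1_201 (45480, 0, 18, 116094) itp1_202)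

/-- part of the orbit tree -/
def itp1_218 : Tree := (.node itp1_215 (46502, 0, 14, 243065) itp1_216)

/-- part of the orbit tree -/
def itp1_219 : Tree := (.node (.node (.node (.node (.node (.node .leaf (47011, 0, 17, 235110) .leaf) (47016, 0, 18, 183718) (.node .leaf (47017, 0, 17, 38024) .leaf)) (47018, 0, 17, 121973) (.node (.node .leaf (47019, 0, 19, 228602) .leaf) (47024, 0, 19, 20940) (.node .leaf (47025, 0, 15, 133346) .leaf))) (47026, 0, 14, 98744) (.node (.node (.node .leaf (47027, 0, 17, 123024) .leaf) (47032, 0, 17, 193541) (.node .leaf (47033, 0, 18, 189054) .leaf)) (47034, 0, 17, 217890) (.node (.node .leaf (47035, 0, 17, 68108) .leaf) (47044, 0, 15, 97703) (.node .leaf (47045, 0, 16, 135678) .leaf)))) (47046, 0, 15, 169429) (.node (.node (.node (.node .leaf (47047, 0, 15, 52475) .leaf) (47052, 0, 15, 104251) (.node .leaf (47053, 0, 18, 249365) .leaf)) (47054, 0, 17, 163657) (.node (.node .leaf (47055, 0, 17, 9831) .leaf) (47060, 0, 16, 35277) (.node .leaf (47061, 0, 15, 86655) .leaf)))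 (47062, 0, 16, 58147) (.node (.node (.node .leaf (47063, 0, 17, 178701) .leaf) (47068, 0, 15, 254413) (.node .leaf (47069, 0, 14, 112867) .leaf)) (47070, 0, 12, 261232) (.node (.node .leaf (47071, 0, 15, 151697) .leaf) (47072, 0, 16, 163760) (.node .leaf (47073, 0, 18, 9886) .leaf))))) (47074, 0, 14, 104386) (.node (.node (.node (.node (.node .leaf (47075, 0, 12, 29453) .leaf) (47080, 0, 17, 255702) (.node .leaf (47081, 0, 17, 52226) .leaf)) (47082, 0, 18, 97630) (.node (.node .leaf (47083, 0, 15, 205936) .leaf) (47088, 0, 15, 244507) (.node .leaf (47089, 0, 18, 220029) .leaf))) (47090, 0, 16, 254260) (.node (.node (.node .leaf (47091, 0, 17, 112666) .leaf) (47096, 0, 17, 58330) (.node .leaf (47097, 0, 15, 98021) .leaf)) (47098, 0, 14, 52902) (.node (.node .leaf (47099, 0, 16, 11968) .leaf) (47104, 0, 13, 253831) (.node .leaf (47107, 0, 15, 192769) .leaf)))) (47108, 0, 17, 81728) (.node (.node (.node (.node .leaf (47111, 0, 17, 36380) .leaf) (47112, 0, 14, 129567) (.node .leaf (47115, 0, 18, 19036)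 .leaf)) (47116, 0, 9, 115516) (.node (.node .leaf (47119, 0, 17, 29567) .leaf) (47120, 0, 14, 79531) (.node .leaf (47123, 0, 17, 6033) .leaf))) (47124, 0, 17, 106225) (.node (.node (.node .leaf (47127, 0, 17, 11954) .leaf) (47128, 0, 11, 121911) (.node .leaf (47131, 0, 15, 28011) .leaf)) (47132, 0, 16, 238378) (.node (.node .leaf (47135, 0, 18, 135798) .leaf) (47137, 0, 16, 25721) (.node .leaf (47138, 0, 17, 99415) .leaf))))))

/-- part of the orbit tree -/
def itp1_220 : Tree := (.node (.node (.node (.node (.node (.node .leaf (47142, 0, 17, 114036) .leaf) (47145, 0, 13, 36581) (.node .leaf (47146, 0, 17, 238031) .leaf)) (47149, 0, 17, 193016) (.node (.node .leaf (47150, 0, 17, 213156) .leaf) (47153, 0, 16, 150593) (.node .leaf (47154, 0, 16, 261122) .leaf))) (47157, 0, 15, 161122) (.node (.node (.node .leaf (47158, 0, 18, 122062) .leaf) (47161, 0, 15, 27097) (.node .leaf (47162, 0, 15, 121242) .leaf)) (47165, 0, 16, 34574) (.node (.node .leaf (47166, 0, 14, 123065) .leaf) (47168, 0, 15, 202967) (.node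 .leaf (47171, 0, 17, 174475) .leaf)))) (47172, 0, 14, 92106) (.node (.node (.node (.node .leaf (47175, 0, 13, 80993) .leaf) (47176, 0, 16, 258635) (.node .leaf (47179, 0, 18, 148247) .leaf)) (47180, 0, 18, 174522) (.node (.node .leaf (47183, 0, 17, 203257) .leaf) (47184, 0, 15, 93729) (.node .leaf (47187, 0, 14, 228631) .leaf))) (47188, 0, 13, 201020) (.node (.node (.node .leaf (47191, 0, 14, 214068) .leaf) (47192, 0, 15, 59596) (.node .leaf (47195, 0, 15, 88207) .leaf)) (47196, 0, 15, 261024) (.node (.node .leaf (47199, 0, 16, 90540) .leaf) (47201, 0, 17, 15603) (.node .leaf (47202, 0, 16, 192209) .leaf))))) (47205, 0, 16, 148462) (.node (.node (.node (.node (.node .leaf (47206, 0, 15, 258738) .leaf) (47209, 0, 17, 54895) (.node .leaf (47210, 0, 17, 91955) .leaf)) (47213, 0, 16, 174450) (.node (.node .leaf (47214, 0, 14, 62058) .leaf) (47217, 0, 16, 150021) (.node .leaf (47218, 0, 15, 38532) .leaf))) (47221, 0, 17, 73700) (.node (.node (.node .leaf (47222, 0, 17, 44967) .leaf) (47225, 0, 17, 197471)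 (.node .leaf (47226, 0, 17, 201157) .leaf)) (47229, 0, 16, 57220) (.node (.node .leaf (47230, 0, 18, 93912) .leaf) (47233, 0, 16, 174362) (.node .leaf (47234, 0, 14, 6312) .leaf)))) (47237, 0, 16, 102856) (.node (.node (.node (.node .leaf (47238, 0, 16, 91995) .leaf) (47241, 0, 14, 148358) (.node .leaf (47242, 0, 17, 146736) .leaf)) (47245, 0, 15, 15515) (.node (.node .leaf (47246, 0, 18, 101831) .leaf) (47249, 0, 17, 250046) (.node .leaf (47250, 0, 17, 155901) .leaf))) (47253, 0, 15, 172273) (.node (.node (.node .leaf (47254, 0, 18, 201133) .leaf) (47257, 0, 15, 13680) (.node .leaf (47258, 0, 18, 17765) .leaf)) (47261, 0, 16, 117765) (.node (.node .leaf (47262, 0, 18, 260913) .leaf) (47264, 0, 16, 148344) (.node .leaf (47267, 0, 14, 258875) .leaf))))))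

/-- part of the orbit tree -/
def itp1_221 : Tree := (.node (.node (.node (.node (.node (.node .leaf (47271, 0, 13, 248344) .leaf) (47272, 0, 17, 92066) (.node .leaf (47275, 0, 17, 120483) .leaf)) (47276, 0, 17, 202943) (.node (.node .leaf (47279, 0, 17, 126848) .leaf) (47280, 0, 17, 261064) (.node .leaf (47283, 0, 17, 150164) .leaf))) (47284, 0, 16, 99541) (.node (.node (.node .leaf (47287, 0, 15, 13705) .leaf) (47288, 0, 15, 138933) (.node .leaf (47291, 0, 11, 172040) .leaf)) (47292, 0, 17, 141206) (.node (.node .leaf (47295, 0, 17, 235477) .leaf) (47297, 0, 15, 192912) (.node .leaf (47298, 0, 18, 213196) .leaf)))) (47301, 0, 16, 195406) (.node (.node (.node (.node .leaf (47302, 0, 17, 81873) .leaf) (47305, 0, 15, 59381) (.node .leaf (47306, 0, 14, 240208) .leaf)) (47309, 0, 18, 25617) (.node (.node .leaf (47310, 0, 18, 120141) .leaf) (47313, 0, 16, 47672) (.node .leaf (47314, 0, 16, 79418) .leaf))) (47317, 0, 16, 33563) (.node (.node (.node .leaf (47318, 0, 16, 78680) .leaf) (47321, 0, 9, 171936)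 (.node .leaf (47322, 0, 18, 208867) .leaf)) (47325, 0, 18, 173699) (.node (.node .leaf (47326, 0, 11, 238523) .leaf) (47328, 0, 15, 120244) (.node .leaf (47331, 0, 16, 39357) .leaf))))) (47332, 0, 16, 69853) (.node (.node (.node (.node (.node .leaf (47335, 0, 16, 41118) .leaf) (47336, 0, 17, 199782) (.node .leaf (47339, 0, 15, 36468) .leaf)) (47340, 0, 18, 210245) (.node (.node .leaf (47343, 0, 14, 192873) .leaf) (47344, 0, 16, 217515) (.node .leaf (47347, 0, 16, 135710) .leaf))) (47348, 0, 17, 223368) (.node (.node (.node .leaf (47351, 0, 14, 186571) .leaf) (47352, 0, 15, 215518) (.node .leaf (47355, 0, 16, 50288) .leaf)) (47356, 0, 15, 79555) (.node (.node .leaf (47359, 0, 16, 34719) .leaf) (47361, 0, 17, 130704) (.node .leaf (47362, 0, 17, 77270) .leaf)))) (47365, 0, 16, 42166) (.node (.node (.node (.node .leaf (47366, 0, 15, 143569) .leaf) (47369, 0, 12, 178189) (.node .leaf (47370, 0, 17, 42320) .leaf)) (47373, 0, 18, 164142) (.node (.node .leaf (47374, 0, 14, 186957) .leaf) (47377, 0, 18, 231526)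 (.node .leaf (47378, 0, 17, 218499) .leaf))) (47381, 0, 15, 128891) (.node (.node (.node .leaf (47382, 0, 17, 224416) .leaf) (47385, 0, 15, 221946) (.node .leaf (47386, 0, 15, 94235) .leaf)) (47389, 0, 12, 63867) (.node (.node .leaf (47390, 0, 18, 44219) .leaf) (47392, 0, 16, 187060) (.node .leaf (47395, 0, 15, 181829) .leaf))))))

/-- part of the orbit tree -/
def itp1_222 : Tree := (.node (.node (.node (.node (.node (.node .leaf (47399, 0, 16, 196454) .leaf) (47400, 0, 17, 143400) (.node .leaf (47403, 0, 13, 58333) .leaf)) (47404, 0, 13, 20277) (.node (.node .leaf (47407, 0, 18, 56062) .leaf) (47408, 0, 16, 69203) (.node .leaf (47411, 0, 15, 72990) .leaf))) (47412, 0, 16, 185183) (.node (.node (.node .leaf (47415, 0, 16, 221699) .leaf) (47416, 0, 17, 207819) (.node .leaf (47419, 0, 16, 128898) .leaf)) (47420, 0, 16, 201448) (.node (.node .leaf (47423, 0, 18, 172715) .leaf) (47425, 0, 17, 259859) (.node .leaf (47426, 0, 17, 5958) .leaf)))) (47429, 0, 17, 252167) (.node (.node (.node (.node .leaf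 (47430, 0, 16, 163443) .leaf) (47433, 0, 16, 119435) (.node .leaf (47434, 0, 18, 64986) .leaf)) (47437, 0, 18, 209819) (.node (.node .leaf (47438, 0, 15, 23531) .leaf) (47441, 0, 16, 250092) (.node .leaf (47442, 0, 18, 16133) .leaf))) (47445, 0, 19, 110577) (.node (.node (.node .leaf (47446, 0, 17, 7853) .leaf) (47449, 0, 13, 211568) (.node .leaf (47450, 0, 19, 137885) .leaf)) (47453, 0, 13, 234493) (.node (.node .leaf (47454, 0, 14, 62513) .leaf) (47456, 0, 14, 7296) (.node .leaf (47459, 0, 16, 109763) .leaf))))) (47460, 0, 16, 9635) (.node (.node (.node (.node (.node .leaf (47463, 0, 8, 85119) .leaf) (47464, 0, 15, 157858) (.node .leaf (47467, 0, 16, 231771) .leaf)) (47468, 0, 17, 6079) (.node (.node .leaf (47471, 0, 17, 108259) .leaf) (47472, 0, 18, 62664) (.node .leaf (47475, 0, 6, 83348) .leaf))) (47476, 0, 16, 166869) (.node (.node (.node .leaf (47479, 0, 15, 257461) .leaf) (47480, 0, 14, 16717) (.node .leaf (47483, 0, 18, 127246) .leaf)) (47484, 0, 11, 155977) (.node (.node .leaf (47487, 0,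 16, 249877) .leaf) (47488, 0, 16, 6103) (.node .leaf (47491, 0, 18, 219834) .leaf)))) (47492, 0, 14, 185306) (.node (.node (.node (.node .leaf (47495, 0, 17, 252310) .leaf) (47496, 0, 18, 53089) (.node .leaf (47499, 0, 17, 85015) .leaf)) (47500, 0, 16, 164438) (.node (.node .leaf (47503, 0, 8, 209674) .leaf) (47504, 0, 15, 37548) (.node .leaf (47507, 0, 14, 74479) .leaf))) (47508, 0, 17, 7740) (.node (.node (.node .leaf (47511, 0, 17, 110432) .leaf) (47512, 0, 15, 166845) (.node .leaf (47515, 0, 13, 198519) .leaf)) (47516, 0, 17, 167447) (.node (.node .leaf (47519, 0, 11, 83452) .leaf) (47521, 0, 18, 209907) (.node .leaf (47522, 0, 9, 45353) .leaf))))))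

/-- part of the orbit tree -/
def itp1_223 : Tree := (.node itp1_219 (47141, 0, 16, 3383) itp1_220)

/-- part of the orbit tree -/
def itp1_224 : Tree := (.node itp1_221 (47396, 0, 17, 42409) itp1_222)

/-- part of the orbit tree -/
def itp1_225 : Tree := (.node (.node (.node (.node (.node (.node .leaf (47526, 0, 15, 34826) .leaf) (47529, 0, 18, 252271) (.node .leaf (47530, 0, 11, 169137) .leaf)) (47533, 0, 18, 204241) (.node (.node .leaf (47534, 0, 17, 175506) .leaf) (47537, 0, 15, 83205) (.node .leaf (47538, 0, 17, 62553) .leaf))) (47541, 0, 16, 213020) (.node (.node (.node .leaf (47542, 0, 16, 166724) .leaf) (47545, 0, 16, 110489) (.node .leaf (47546, 0, 16, 7877) .leaf)) (47549, 0, 13, 249988) (.node (.node .leaf (47550, 0, 15, 156120) .leaf) (47552, 0, 13, 98431) (.node .leaf (47555, 0, 17, 12348) .leaf)))) (47556, 0, 15, 112988) (.node (.node (.node (.node .leaf (47559, 0, 16, 2335) .leaf) (47560, 0, 16, 239079) (.node .leaf (47563, 0, 15, 136612) .leaf)) (47564, 0, 15, 236740) (.node (.node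 .leaf (47567, 0, 19, 142471) .leaf) (47568, 0, 11, 260138) (.node .leaf (47571, 0, 16, 231671) .leaf))) (47572, 0, 15, 18102) (.node (.node (.node .leaf (47575, 0, 14, 129002) .leaf) (47576, 0, 17, 185143) (.node .leaf (47579, 0, 13, 221803) .leaf)) (47580, 0, 16, 44074) (.node (.node .leaf (47583, 0, 14, 21714) .leaf) (47585, 0, 18, 224121) (.node .leaf (47586, 0, 14, 252847) .leaf))))) (47589, 0, 18, 152271) (.node (.node (.node (.node (.node .leaf (47590, 0, 14, 42296) .leaf) (47593, 0, 17, 20084) (.node .leaf (47594, 0, 16, 130615) .leaf)) (47597, 0, 17, 30551) (.node (.node .leaf (47598, 0, 17, 20388) .leaf) (47601, 0, 18, 5049) (.node .leaf (47602, 0, 17, 107514) .leaf))) (47605, 0, 18, 10906) (.node (.node (.node .leaf (47606, 0, 16, 105177) .leaf) (47609, 0, 16, 144929) (.node .leaf (47610, 0, 11, 17999) .leaf)) (47613, 0, 10, 134914) (.node (.node .leaf (47614, 0, 13, 145746) .leaf) (47618, 0, 16, 173010) (.node .leaf (47619, 0, 18, 148404) .leaf)))) (47622, 0, 15, 184862) (.node (.node (.node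 (.node .leaf (47623, 0, 14, 35632) .leaf) (47626, 0, 10, 34378) (.node .leaf (47627, 0, 16, 138929) .leaf)) (47630, 0, 15, 145538) (.node (.node .leaf (47631, 0, 15, 25004) .leaf) (47634, 0, 17, 187381) (.node .leaf (47635, 0, 16, 33499) .leaf))) (47638, 0, 10, 58020) (.node (.node (.node .leaf (47639, 0, 14, 706) .leaf) (47642, 0, 17, 196127) (.node .leaf (47643, 0, 16, 138873) .leaf)) (47646, 0, 17, 20084) (.node (.node .leaf (47647, 0, 16, 137050) .leaf) (47648, 0, 14, 145531) (.node .leaf (47649, 0, 18, 6244) .leaf))))))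

/-- part of the orbit tree -/
def itp1_226 : Tree := (.node (.node (.node (.node (.node (.node .leaf (47653, 0, 16, 138824) .leaf) (47656, 0, 14, 187802) (.node .leaf (47657, 0, 16, 146940) .leaf)) (47660, 0, 11, 44538) (.node (.node .leaf (47661, 0, 14, 193748) .leaf) (47664, 0, 12, 163927) (.node .leaf (47665, 0, 17, 137123) .leaf))) (47668, 0, 16, 178548) (.node (.node (.node .leaf (47669, 0, 15, 153874) .leaf) (47672, 0, 15, 42447) (.node .leaf (47673, 0, 15, 17833) .leaf)) (47676, 0, 16, 187148) (.node (.node .leaf (47677, 0, 17, 33314) .leaf) (47682, 0, 17, 62857) (.node .leaf (47683, 0, 16, 76082) .leaf)))) (47686, 0, 16, 166548) (.node (.node (.node (.node .leaf (47687, 0, 13, 69649) .leaf) (47690, 0, 15, 7957) (.node .leaf (47691, 0, 16, 199850) .leaf)) (47694, 0, 18, 155656) (.node (.node .leaf (47695, 0, 18, 14630) .leaf) (47698, 0, 17, 164735) (.node .leaf (47699, 0, 15, 55889) .leaf))) (47702, 0, 16, 64610) (.node (.node (.node .leaf (47703, 0, 13, 223300) .leaf) (47706, 0, 18, 103577)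 (.node .leaf (47707, 0, 16, 95487) .leaf)) (47710, 0, 17, 110010) (.node (.node .leaf (47711, 0, 16, 85468) .leaf) (47712, 0, 15, 155889) (.node .leaf (47713, 0, 14, 226018) .leaf))))) (47716, 0, 14, 8172) (.node (.node (.node (.node (.node .leaf (47717, 0, 14, 149186) .leaf) (47720, 0, 17, 112412) (.node .leaf (47721, 0, 15, 54083) .leaf)) (47724, 0, 15, 62832) (.node (.node .leaf (47725, 0, 13, 93785) .leaf) (47728, 0, 16, 5639) (.node .leaf (47729, 0, 15, 151337) .leaf))) (47732, 0, 15, 157978) (.node (.node (.node .leaf (47733, 0, 12, 12340) .leaf) (47736, 0, 15, 64667) (.node .leaf (47737, 0, 10, 208687) .leaf)) (47740, 0, 16, 164742) (.node (.node .leaf (47741, 0, 11, 55976) .leaf) (47744, 0, 14, 91389) (.node .leaf (47745, 0, 14, 99483) .leaf)))) (47748, 0, 15, 89566) (.node (.node (.node (.node .leaf (47749, 0, 16, 114104) .leaf) (47752, 0, 16, 8068) (.node .leaf (47753, 0, 17, 149162) .leaf)) (47756, 0, 17, 227398) (.node (.node .leaf (47757, 0, 15, 235552) .leaf) (47760, 0, 16, 164846) (.node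 .leaf (47761, 0, 17, 261326) .leaf))) (47764, 0, 18, 206219) (.node (.node (.node .leaf (47765, 0, 18, 173533) .leaf) (47768, 0, 16, 80176) (.node .leaf (47769, 0, 16, 12380) .leaf)) (47772, 0, 13, 5743) (.node (.node .leaf (47773, 0, 13, 122997) .leaf) (47778, 0, 15, 212781) (.node .leaf (47779, 0, 15, 14670) .leaf))))))

/-- part of the orbit tree -/
def itp1_227 : Tree := (.node (.node (.node (.node (.node (.node .leaf (47783, 0, 16, 255592) .leaf) (47786, 0, 14, 166652) (.node .leaf (47787, 0, 14, 54226) .leaf)) (47790, 0, 17, 74646) (.node (.node .leaf (47791, 0, 17, 115696) .leaf) (47794, 0, 18, 83832) (.node .leaf (47795, 0, 15, 151480) .leaf))) (47798, 0, 15, 158091) (.node (.node (.node .leaf (47799, 0, 15, 12453) .leaf) (47802, 0, 17, 221920) (.node .leaf (47803, 0, 17, 230022) .leaf)) (47806, 0, 17, 164631) (.node (.node .leaf (47807, 0, 17, 244645) .leaf) (47808, 0, 18, 134779) (.node .leaf (47809, 0, 16, 193724) .leaf)))) (47812, 0, 12, 145240) (.node (.node (.node (.node .leaf (47813,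 0, 14, 35745) .leaf) (47816, 0, 16, 11235) (.node .leaf (47817, 0, 12, 138784) .leaf)) (47820, 0, 18, 4800) (.node (.node .leaf (47821, 0, 17, 24893) .leaf) (47824, 0, 17, 187236) (.node .leaf (47825, 0, 17, 33354) .leaf))) (47828, 0, 13, 42105) (.node (.node (.node .leaf (47829, 0, 17, 195927) .leaf) (47832, 0, 17, 152502) (.node .leaf (47833, 0, 17, 177104) .leaf)) (47836, 0, 16, 158357) (.node (.node .leaf (47837, 0, 15, 137163) .leaf) (47842, 0, 16, 21931) (.node .leaf (47843, 0, 16, 25028) .leaf))))) (47846, 0, 14, 27784) (.node (.node (.node (.node (.node .leaf (47847, 0, 16, 138969) .leaf) (47850, 0, 16, 159795) (.node .leaf (47851, 0, 17, 35672) .leaf)) (47854, 0, 16, 44395) (.node (.node .leaf (47855, 0, 15, 193605) .leaf) (47858, 0, 15, 142846) (.node .leaf (47859, 0, 13, 183704) .leaf))) (47862, 0, 15, 136413) (.node (.node (.node .leaf (47863, 0, 15, 193723) .leaf) (47866, 0, 16, 2150) (.node .leaf (47867, 0, 16, 196014) .leaf)) (47870, 0, 16, 187293) (.node (.node .leaf (47871, 0, 17,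 53539) .leaf) (47872, 0, 18, 20867) (.node .leaf (47873, 0, 13, 45541) .leaf)))) (47876, 0, 16, 26784) (.node (.node (.node (.node .leaf (47877, 0, 15, 230561) .leaf) (47880, 0, 15, 160795) (.node .leaf (47881, 0, 17, 169085) .leaf)) (47884, 0, 16, 150840) (.node (.node .leaf (47885, 0, 17, 175454) .leaf) (47888, 0, 14, 141782) (.node .leaf (47889, 0, 16, 182704) .leaf))) (47892, 0, 17, 240505) (.node (.node (.node .leaf (47893, 0, 13, 192659) .leaf) (47896, 0, 17, 3150) (.node .leaf (47897, 0, 18, 60456) .leaf)) (47900, 0, 18, 213477) (.node (.node .leaf (47901, 0, 14, 71883) .leaf) (47906, 0, 15, 133715) (.node .leaf (47907, 0, 14, 224964) .leaf))))))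

/-- part of the orbit tree -/
def itp1_228 : Tree := (.node (.node (.node (.node (.node (.node .leaf (47911, 0, 17, 70105) .leaf) (47914, 0, 15, 122230) (.node .leaf (47915, 0, 13, 53165) .leaf)) (47918, 0, 15, 238187) (.node (.node .leaf (47919, 0, 16, 63118) .leaf) (47922, 0, 14, 29190) (.node .leaf (47923, 0, 16, 37472) .leaf))) (47926, 0, 12, 81409) (.node (.node (.node .leaf (47927, 0, 12, 43843) .leaf) (47930, 0, 16, 153502) (.node .leaf (47931, 0, 13, 127662) .leaf)) (47934, 0, 16, 159421) (.node (.node .leaf (47935, 0, 18, 167643) .leaf) (47936, 0, 17, 211717) (.node .leaf (47937, 0, 19, 252771) .leaf)))) (47940, 0, 14, 99589) (.node (.node (.node (.node .leaf (47941, 0, 16, 254528) .leaf) (47944, 0, 18, 200836) (.node .leaf (47945, 0, 15, 130811) .leaf)) (47948, 0, 17, 75710) (.node (.node .leaf (47949, 0, 18, 116696) .leaf) (47952, 0, 18, 101614) (.node .leaf (47953, 0, 17, 251328) .leaf))) (47956, 0, 6, 96883) (.node (.node (.node .leaf (47957, 0, 13, 104981) .leaf) (47960, 0, 19, 222920)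 (.node .leaf (47961, 0, 18, 231086) .leaf)) (47964, 0, 14, 203119) (.node (.node .leaf (47965, 0, 17, 81985) .leaf) (47970, 0, 14, 90325) (.node .leaf (47971, 0, 14, 210510) .leaf))))) (47974, 0, 15, 200829) (.node (.node (.node (.node (.node .leaf (47975, 0, 17, 84307) .leaf) (47978, 0, 15, 99836) (.node .leaf (47979, 0, 15, 238891) .leaf)) (47982, 0, 16, 228462) (.node (.node .leaf (47983, 0, 15, 107471) .leaf) (47986, 0, 15, 202880) (.node .leaf (47987, 0, 15, 260326) .leaf))) (47990, 0, 19, 205219) (.node (.node (.node .leaf (47991, 0, 17, 212901) .leaf) (47994, 0, 16, 81176) (.node .leaf (47995, 0, 7, 109092) .leaf)) (47998, 0, 16, 66619) (.node (.node .leaf (47999, 0, 12, 251193) .leaf) (48002, 0, 17, 235180) (.node .leaf (48003, 0, 13, 227018) .leaf)))) (48006, 0, 18, 241551) (.node (.node (.node (.node .leaf (48007, 0, 14, 217065) .leaf) (48010, 0, 18, 111412) (.node .leaf (48011, 0, 19, 84283) .leaf)) (48014, 0, 16, 100887) (.node (.node .leaf (48015, 0, 15, 210470) .leaf) (48018, 0, 18,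 126713) (.node .leaf (48019, 0, 17, 69279) .leaf))) (48022, 0, 16, 258914) (.node (.node (.node .leaf (48023, 0, 13, 109132) .leaf) (48026, 0, 13, 248673) (.node .leaf (48027, 0, 18, 212941) .leaf)) (48030, 0, 14, 258626) (.node (.node .leaf (48031, 0, 17, 201252) .leaf) (48032, 0, 18, 94193) .leaf)))))

/-- part of the orbit tree -/
def itp1_229 : Tree := (.node itp1_225 (47652, 0, 18, 49441) itp1_226)

/-- part of the orbit tree -/
def itp1_230 : Tree := (.node itp1_227 (47910, 0, 16, 215287) itp1_228)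

/-- part of the orbit tree -/
def itp1_231 : Tree := (.node itp1_223 (47268, 0, 15, 258595) itp1_224)

/-- part of the orbit tree -/
def itp1_232 : Tree := (.node itp1_229 (47782, 0, 18, 198158) itp1_230)

/-- part of the orbit tree -/
def itp1_233 : Tree := (.node (.node (.node (.node (.node (.node .leaf (48036, 0, 18, 200940) .leaf) (48037, 0, 15, 70713) (.node .leaf (48040, 0, 18, 256228) .leaf)) (48041, 0, 18, 252995) (.node (.node .leaf (48044, 0, 18, 260720) .leaf) (48045, 0, 17, 107358) (.node .leaf (48048, 0, 17, 203015) .leaf))) (48049, 0, 12, 218447) (.node (.node (.node .leaf (48052, 0, 17, 232458) .leaf) (48053, 0, 16, 224364) (.node .leaf (48056, 0, 18, 258971) .leaf)) (48057, 0, 16, 109237) (.node (.node .leaf (48060, 0, 18, 108946) .leaf) (48061, 0, 13, 84468) (.node .leaf (48066, 0, 14, 238083) .leaf)))) (48067, 0, 16, 129837) (.node (.node (.node (.node .leaf (48070, 0, 16, 50441) .leaf) (48071, 0, 17, 230448) (.node .leaf (48074, 0, 14, 186802) .leaf)) (48075, 0, 16, 145876) (.node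 (.node .leaf (48078, 0, 15, 188561) .leaf) (48079, 0, 15, 131319) (.node .leaf (48082, 0, 13, 164991) .leaf))) (48083, 0, 16, 156697) (.node (.node (.node .leaf (48086, 0, 16, 179548) .leaf) (48087, 0, 17, 154938) (.node .leaf (48090, 0, 16, 41447) .leaf)) (48091, 0, 8, 223047) (.node (.node .leaf (48094, 0, 16, 213364) .leaf) (48095, 0, 13, 71770) (.node .leaf (48096, 0, 16, 79739) .leaf))))) (48097, 0, 18, 149404) (.node (.node (.node (.node (.node .leaf (48100, 0, 17, 171737) .leaf) (48101, 0, 18, 69960) (.node .leaf (48104, 0, 17, 33378) .leaf)) (48105, 0, 16, 230601) (.node (.node .leaf (48108, 0, 16, 238330) .leaf) (48109, 0, 16, 23335) (.node .leaf (48112, 0, 18, 213389) .leaf))) (48113, 0, 17, 16329) (.node (.node (.node .leaf (48116, 0, 17, 59020) .leaf) (48117, 0, 17, 1770) (.node .leaf (48120, 0, 17, 240401) .leaf)) (48121, 0, 17, 137809) (.node (.node .leaf (48124, 0, 17, 181012) .leaf) (48125, 0, 14, 140146) (.node .leaf (48129, 0, 19, 136327) .leaf)))) (48131, 0, 14, 226668) (.node (.node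 (.node (.node .leaf (48133, 0, 17, 138346) .leaf) (48135, 0, 16, 230376) (.node .leaf (48137, 0, 12, 196123) .leaf)) (48139, 0, 16, 71273) (.node (.node .leaf (48141, 0, 16, 14834) .leaf) (48143, 0, 17, 223604) (.node .leaf (48145, 0, 17, 25201) .leaf))) (48147, 0, 16, 68921) (.node (.node (.node .leaf (48149, 0, 16, 25663) .leaf) (48151, 0, 16, 128286) (.node .leaf (48153, 0, 17, 161924) .leaf)) (48155, 0, 17, 207009) (.node (.node .leaf (48157, 0, 17, 194544) .leaf) (48159, 0, 17, 73602) (.node .leaf (48160, 0, 17, 118490) .leaf))))))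

/-- part of the orbit tree -/
def itp1_234 : Tree := (.node (.node (.node (.node (.node (.node .leaf (48164, 0, 17, 217022) .leaf) (48166, 0, 17, 42956) (.node .leaf (48168, 0, 16, 121407) .leaf)) (48170, 0, 17, 143949) (.node (.node .leaf (48172, 0, 14, 250465) .leaf) (48174, 0, 15, 164420) (.node .leaf (48176, 0, 13, 243343) .leaf))) (48178, 0, 19, 190122) (.node (.node (.node .leaf (48180, 0, 12, 80200) .leaf) (48182, 0, 17, 188297) (.node .leaf (48184, 0, 15, 240841) .leaf)) (48186, 0, 18, 17595) (.node (.node .leaf (48188, 0, 14, 119764) .leaf) (48190, 0, 18, 64017) (.node .leaf (48193, 0, 14, 150541) .leaf)))) (48195, 0, 17, 8170) (.node (.node (.node (.node .leaf (48197, 0, 16, 13072) .leaf) (48199, 0, 12, 252770) (.node .leaf (48201, 0, 18, 223831) .leaf)) (48203, 0, 17, 146034) (.node (.node .leaf (48205, 0, 14, 55692) .leaf) (48207, 0, 15, 131921) (.node .leaf (48209, 0, 13, 210842) .leaf))) (48211, 0, 14, 157631) (.node (.node (.node .leaf (48213, 0, 16, 148966) .leaf) (48215, 0, 17, 155292)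 (.node .leaf (48217, 0, 16, 70146) .leaf)) (48219, 0, 17, 210965) (.node (.node .leaf (48221, 0, 16, 76577) .leaf) (48223, 0, 15, 83720) (.node .leaf (48224, 0, 16, 173148) .leaf))))) (48226, 0, 16, 163931) (.node (.node (.node (.node (.node .leaf (48228, 0, 16, 171391) .leaf) (48230, 0, 15, 65350) (.node .leaf (48232, 0, 12, 98997) .leaf)) (48234, 0, 15, 158407) (.node (.node .leaf (48236, 0, 17, 47335) .leaf) (48238, 0, 17, 125122) (.node .leaf (48240, 0, 14, 56329) .leaf))) (48242, 0, 15, 101420) (.node (.node (.node .leaf (48244, 0, 14, 58666) .leaf) (48246, 0, 18, 111887) (.node .leaf (48248, 0, 16, 194961) .leaf)) (48250, 0, 16, 7217) (.node (.node .leaf (48252, 0, 18, 101214) .leaf) (48254, 0, 15, 156460) (.node .leaf (48256, 0, 13, 261568) .leaf)))) (48258, 0, 16, 5554) (.node (.node (.node (.node .leaf (48260, 0, 18, 99037) .leaf) (48262, 0, 13, 158383) (.node .leaf (48264, 0, 16, 161725) .leaf)) (48266, 0, 15, 206744) (.node (.node .leaf (48268, 0, 14, 151198) .leaf) (48270, 0, 7, 204475)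 (.node .leaf (48272, 0, 15, 101174) .leaf))) (48274, 0, 17, 156484) (.node (.node (.node .leaf (48276, 0, 17, 136019) .leaf) (48278, 0, 18, 213878) (.node .leaf (48280, 0, 16, 90538) .leaf)) (48282, 0, 17, 90061) (.node (.node .leaf (48284, 0, 17, 14027) .leaf) (48286, 0, 15, 63173) (.node .leaf (48289, 0, 17, 244150) .leaf))))))

/-- part of the orbit tree -/
def itp1_235 : Tree := (.node (.node (.node (.node (.node (.node .leaf (48293, 0, 16, 173817) .leaf) (48295, 0, 18, 85643) (.node .leaf (48297, 0, 18, 13176) .leaf)) (48299, 0, 15, 52235) (.node (.node .leaf (48301, 0, 17, 150629) .leaf) (48303, 0, 16, 107543) (.node .leaf (48305, 0, 15, 175890) .leaf))) (48307, 0, 17, 83808) (.node (.node (.node .leaf (48309, 0, 17, 129216) .leaf) (48311, 0, 12, 43237) (.node .leaf (48313, 0, 16, 255099) .leaf)) (48315, 0, 13, 110076) (.node (.node .leaf (48317, 0, 17, 14995) .leaf) (48319, 0, 19, 167293) (.node .leaf (48320, 0, 18, 238922) .leaf)))) (48322, 0, 16, 19768) (.node (.node (.node (.node .leaf (48324,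 0, 17, 196992) .leaf) (48326, 0, 15, 151973) (.node .leaf (48328, 0, 16, 73019) .leaf)) (48330, 0, 16, 42916) (.node (.node .leaf (48332, 0, 16, 78027) .leaf) (48334, 0, 16, 29757) (.node .leaf (48336, 0, 15, 82166) .leaf))) (48338, 0, 14, 4307) (.node (.node (.node .leaf (48340, 0, 18, 240801) .leaf) (48342, 0, 18, 17619) (.node .leaf (48344, 0, 13, 80160) .leaf)) (48346, 0, 16, 144715) (.node (.node .leaf (48348, 0, 16, 220237) .leaf) (48350, 0, 13, 44623) (.node .leaf (48353, 0, 17, 54064) .leaf))))) (48355, 0, 17, 99093) (.node (.node (.node (.node (.node .leaf (48357, 0, 17, 59923) .leaf) (48359, 0, 16, 71169) (.node .leaf (48361, 0, 15, 27634) .leaf)) (48363, 0, 18, 230272) (.node (.node .leaf (48365, 0, 15, 184203) .leaf) (48367, 0, 18, 237486) (.node .leaf (48369, 0, 17, 194456) .leaf))) (48371, 0, 18, 73706) (.node (.node (.node .leaf (48373, 0, 15, 168518) .leaf) (48375, 0, 15, 221431) (.node .leaf (48377, 0, 18, 36605) .leaf)) (48379, 0, 17, 122584) (.node (.node .leaf (48381, 0, 13, 47070)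 .leaf) (48383, 0, 17, 124923) (.node .leaf (48384, 0, 16, 91995) .leaf)))) (48386, 0, 16, 14206) (.node (.node (.node (.node .leaf (48388, 0, 16, 89720) .leaf) (48390, 0, 13, 81189) (.node .leaf (48392, 0, 16, 213699) .leaf)) (48394, 0, 15, 135910) (.node (.node .leaf (48396, 0, 19, 228320) .leaf) (48398, 0, 14, 120761) (.node .leaf (48400, 0, 13, 204558) .leaf))) (48402, 0, 14, 151339) (.node (.node (.node .leaf (48404, 0, 15, 41889) .leaf) (48406, 0, 18, 216019) (.node .leaf (48408, 0, 16, 144928) .leaf)) (48410, 0, 9, 27315) (.node (.node .leaf (48412, 0, 13, 66485) .leaf) (48414, 0, 19, 237903) (.node .leaf (48417, 0, 16, 233070) .leaf))))))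

/-- part of the orbit tree -/
def itp1_236 : Tree := (.node (.node (.node (.node (.node (.node .leaf (48421, 0, 18, 177643) .leaf) (48423, 0, 17, 255438) (.node .leaf (48425, 0, 17, 43344) .leaf)) (48427, 0, 17, 35968) (.node (.node .leaf (48429, 0, 18, 36979) .leaf) (48431, 0, 15, 193437) (.node .leaf (48433, 0, 12, 62621) .leaf))) (48435, 0, 17, 135402) (.node (.node (.node .leaf (48437, 0, 17, 231301) .leaf) (48439, 0, 16, 28663) (.node .leaf (48441, 0, 17, 184581) .leaf)) (48443, 0, 17, 195190) (.node (.node .leaf (48445, 0, 16, 224537) .leaf) (48447, 0, 17, 243715) (.node .leaf (48448, 0, 18, 134621) .leaf)))) (48450, 0, 15, 203442) (.node (.node (.node (.node .leaf (48452, 0, 17, 144638) .leaf) (48454, 0, 15, 91567) (.node .leaf (48456, 0, 17, 10309) .leaf)) (48458, 0, 14, 96352) (.node (.node .leaf (48460, 0, 18, 157505) .leaf) (48462, 0, 15, 102195) (.node .leaf (48464, 0, 17, 164918) .leaf))) (48466, 0, 15, 75181) (.node (.node (.node .leaf (48468, 0, 17, 19627) .leaf) (48470, 0, 15, 72846)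 (.node .leaf (48472, 0, 16, 151568) .leaf)) (48474, 0, 15, 196661) (.node (.node .leaf (48476, 0, 14, 4535) .leaf) (48478, 0, 16, 260549) (.node .leaf (48481, 0, 14, 251620) .leaf))))) (48483, 0, 16, 16022) (.node (.node (.node (.node (.node .leaf (48485, 0, 16, 122733) .leaf) (48487, 0, 15, 36680) (.node .leaf (48489, 0, 13, 246742) .leaf)) (48491, 0, 5, 168947) (.node (.node .leaf (48493, 0, 18, 82789) .leaf) (48495, 0, 16, 174871) (.node .leaf (48497, 0, 17, 106514) .leaf))) (48499, 0, 15, 149600) (.node (.node (.node .leaf (48501, 0, 9, 253711) .leaf) (48503, 0, 17, 194333) (.node .leaf (48505, 0, 17, 113539) .leaf)) (48507, 0, 17, 60326) (.node (.node .leaf (48509, 0, 15, 210323) .leaf) (48511, 0, 15, 56801) (.node .leaf (48513, 0, 14, 82701) .leaf)))) (48515, 0, 13, 174975) (.node (.node (.node (.node .leaf (48517, 0, 17, 207124) .leaf) (48519, 0, 15, 162097) (.node .leaf (48521, 0, 14, 108945) .leaf)) (48523, 0, 16, 25994) (.node (.node .leaf (48525, 0, 17, 251532) .leaf) (48527, 0, 14, 16126)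 (.node .leaf (48529, 0, 15, 210427) .leaf))) (48531, 0, 17, 14407) (.node (.node (.node .leaf (48533, 0, 12, 86337) .leaf) (48535, 0, 16, 172692) (.node .leaf (48537, 0, 16, 253799) .leaf)) (48539, 0, 14, 14101) (.node (.node .leaf (48541, 0, 14, 226521) .leaf) (48543, 0, 15, 149512) (.node .leaf (48544, 0, 16, 64420) .leaf))))))

/-- part of the orbit tree -/
def itp1_237 : Tree := (.node itp1_233 (48162, 0, 16, 40703) itp1_234)

/-- part of the orbit tree -/
def itp1_238 : Tree := (.node itp1_235 (48419, 0, 15, 26140) itp1_236)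

/-- part of the orbit tree -/
def itp1_239 : Tree := (.node (.node (.node (.node (.node (.node .leaf (48548, 0, 16, 49799) .leaf) (48550, 0, 16, 103074) (.node .leaf (48552, 0, 17, 167349) .leaf)) (48554, 0, 16, 232985) (.node (.node .leaf (48556, 0, 17, 190239) .leaf) (48558, 0, 14, 243514) (.node .leaf (48560, 0, 15, 4575) .leaf))) (48562, 0, 18, 250836) (.node (.node (.node .leaf (48564, 0, 18, 178898) .leaf) (48566, 0, 13, 100016) (.node .leaf (48568, 0, 17, 42601) .leaf)) (48570, 0, 16, 128588) (.node (.node .leaf (48572, 0, 17, 164958) .leaf) (48574, 0, 11, 93228) (.node .leaf (48577, 0, 15, 72583) .leaf)))) (48579, 0, 16, 193525) (.node (.node (.node (.node .leaf (48581, 0, 18, 17298) .leaf) (48583, 0, 16, 36072) (.node .leaf (48585, 0, 12, 155433) .leaf)) (48587, 0, 15, 137577) (.node (.node .leaf (48589, 0, 17, 157194) .leaf) (48591, 0, 16, 26228) (.node .leaf (48593, 0, 15, 224625) .leaf))) (48595, 0, 16, 217793) (.node (.node (.node .leaf (48597, 0, 15, 146375) .leaf) (48599, 0, 12, 224226)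 (.node .leaf (48601, 0, 13, 231405) .leaf)) (48603, 0, 17, 28575) (.node (.node .leaf (48605, 0, 17, 129264) .leaf) (48607, 0, 16, 85626) (.node .leaf (48608, 0, 16, 233762) .leaf))))) (48610, 0, 13, 180487) (.node (.node (.node (.node (.node .leaf (48612, 0, 18, 16574) .leaf) (48614, 0, 16, 239820) (.node .leaf (48616, 0, 14, 111802) .leaf)) (48618, 0, 14, 58527) (.node (.node .leaf (48620, 0, 17, 43554) .leaf) (48622, 0, 16, 213584) (.node .leaf (48624, 0, 17, 125303) .leaf))) (48626, 0, 17, 237863) (.node (.node (.node .leaf (48628, 0, 17, 144968) .leaf) (48630, 0, 15, 32881) (.node .leaf (48632, 0, 15, 249071) .leaf)) (48634, 0, 17, 215995) (.node (.node .leaf (48636, 0, 17, 259532) .leaf) (48638, 0, 15, 79014) (.node .leaf (48640, 0, 10, 18565) .leaf)))) (48641, 0, 13, 133433) (.node (.node (.node (.node .leaf (48642, 0, 13, 244090) .leaf) (48643, 0, 16, 129497) (.node .leaf (48644, 0, 17, 184444) .leaf)) (48645, 0, 14, 143386) (.node (.node .leaf (48646, 0, 12, 122858) .leaf) (48647, 0, 12,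 221247) (.node .leaf (48648, 0, 19, 52423) .leaf))) (48649, 0, 16, 11425) (.node (.node (.node .leaf (48650, 0, 17, 105698) .leaf) (48651, 0, 16, 97412) (.node .leaf (48652, 0, 16, 187652) .leaf)) (48653, 0, 18, 5506) (.node (.node .leaf (48654, 0, 17, 79222) .leaf) (48655, 0, 16, 224344) (.node .leaf (48656, 0, 14, 147059) .leaf))))))

/-- part of the orbit tree -/
def itp1_240 : Tree := (.node (.node (.node (.node (.node (.node .leaf (48658, 0, 18, 114991) .leaf) (48659, 0, 12, 74057) (.node .leaf (48660, 0, 12, 43049) .leaf)) (48661, 0, 15, 18511) (.node (.node .leaf (48662, 0, 17, 239900) .leaf) (48663, 0, 15, 127026) (.node .leaf (48664, 0, 19, 185583) .leaf))) (48665, 0, 14, 36289) (.node (.node (.node .leaf (48666, 0, 13, 81053) .leaf) (48667, 0, 18, 222643) (.node .leaf (48668, 0, 16, 167345) .leaf)) (48669, 0, 16, 159191) (.node (.node .leaf (48670, 0, 16, 213888) .leaf) (48671, 0, 17, 72366) (.node .leaf (48704, 0, 17, 4111) .leaf)))) (48705, 0, 18, 91071) (.node (.node (.node (.node .leaf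 (48706, 0, 15, 260221) .leaf) (48707, 0, 14, 13210) (.node .leaf (48708, 0, 13, 113402) .leaf)) (48709, 0, 17, 88732) (.node (.node .leaf (48710, 0, 17, 60127) .leaf) (48711, 0, 17, 2745) (.node .leaf (48712, 0, 15, 239169) .leaf))) (48713, 0, 17, 172989) (.node (.node (.node .leaf (48714, 0, 18, 201441) .leaf) (48715, 0, 12, 84943) (.node .leaf (48716, 0, 17, 165262) .leaf)) (48717, 0, 17, 56480) (.node (.node .leaf (48718, 0, 16, 184135) .leaf) (48719, 0, 11, 143137) (.node .leaf (48720, 0, 17, 157433) .leaf))))) (48721, 0, 12, 203754) (.node (.node (.node (.node (.node .leaf (48722, 0, 13, 102027) .leaf) (48723, 0, 15, 251813) (.node .leaf (48724, 0, 15, 6628) .leaf)) (48725, 0, 17, 147658) (.node (.node .leaf (48726, 0, 17, 168586) .leaf) (48727, 0, 13, 160492) (.node .leaf (48728, 0, 16, 122388) .leaf))) (48729, 0, 16, 81522) (.node (.node (.node .leaf (48730, 0, 14, 36401) .leaf) (48731, 0, 14, 212281) (.node .leaf (48732, 0, 14, 124727) .leaf)) (48733, 0, 16, 67409) (.node (.node .leaf (48734,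 0, 15, 46866) .leaf) (48735, 0, 16, 22388) (.node .leaf (48800, 0, 15, 226720) .leaf)))) (48801, 0, 16, 234950) (.node (.node (.node (.node .leaf (48802, 0, 18, 93588) .leaf) (48803, 0, 11, 181731) (.node .leaf (48804, 0, 15, 216195) .leaf)) (48805, 0, 17, 240869) (.node (.node .leaf (48806, 0, 16, 201353) .leaf) (48807, 0, 13, 195776) (.node .leaf (48808, 0, 15, 86072) .leaf))) (48809, 0, 17, 110686) (.node (.node (.node .leaf (48810, 0, 9, 29) .leaf) (48811, 0, 14, 253478) (.node .leaf (48812, 0, 12, 4199) .leaf)) (48813, 0, 16, 100733) (.node (.node .leaf (48814, 0, 16, 260117) .leaf) (48815, 0, 16, 106811) (.node .leaf (48816, 0, 15, 62224) .leaf))))))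

/-- part of the orbit tree -/
def itp1_241 : Tree := (.node (.node (.node (.node (.node (.node .leaf (48818, 0, 16, 24016) .leaf) (48819, 0, 14, 48566) (.node .leaf (48820, 0, 19, 166925) .leaf)) (48821, 0, 16, 54563) (.node (.node .leaf (48822, 0, 16, 91263) .leaf) (48823, 0, 18, 33941) (.node .leaf (48824, 0, 15, 206957) .leaf))) (48825, 0, 19, 147618) (.node (.node (.node .leaf (48826, 0, 15, 258558) .leaf) (48827, 0, 16, 108752) (.node .leaf (48828, 0, 13, 201038) .leaf)) (48829, 0, 12, 16319) (.node (.node .leaf (48830, 0, 15, 147819) .leaf) (48831, 0, 16, 251853) (.node .leaf (48864, 0, 16, 7974) .leaf)))) (48865, 0, 15, 65344) (.node (.node (.node (.node .leaf (48866, 0, 16, 85763) .leaf) (48867, 0, 11, 224304) (.node .leaf (48868, 0, 12, 9733) .leaf)) (48869, 0, 12, 195423) (.node (.node .leaf (48870, 0, 17, 95776) .leaf) (48871, 0, 14, 70445) (.node .leaf (48872, 0, 18, 145392) .leaf))) (48873, 0, 16, 187096) (.node (.node (.node .leaf (48874, 0, 18, 223899) .leaf) (48875, 0, 13, 232189)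 (.node .leaf (48876, 0, 17, 18669) .leaf)) (48877, 0, 16, 135619) (.node (.node .leaf (48878, 0, 17, 237727) .leaf) (48879, 0, 17, 129457) (.node .leaf (48880, 0, 17, 157555) .leaf))))) (48881, 0, 16, 165653) (.node (.node (.node (.node (.node .leaf (48882, 0, 14, 210774) .leaf) (48883, 0, 16, 72390) (.node .leaf (48884, 0, 16, 155216) .leaf)) (48885, 0, 15, 179766) (.node (.node .leaf (48886, 0, 16, 200309) .leaf) (48887, 0, 15, 222683) (.node .leaf (48888, 0, 16, 16646) .leaf))) (48889, 0, 14, 137256) (.node (.node (.node .leaf (48890, 0, 16, 70350) .leaf) (48891, 0, 16, 127656) (.node .leaf (48892, 0, 14, 31688) .leaf)) (48893, 0, 14, 26421) (.node (.node .leaf (48894, 0, 17, 120425) .leaf) (48895, 0, 17, 117643) (.node .leaf (48928, 0, 15, 147678) .leaf)))) (48929, 0, 16, 172216) (.node (.node (.node (.node .leaf (48930, 0, 15, 200955) .leaf) (48931, 0, 17, 258205) (.node .leaf (48932, 0, 14, 241009) .leaf)) (48933, 0, 16, 170395) (.node (.node .leaf (48934, 0, 18, 17667) .leaf) (48935, 0, 16,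 248254) (.node .leaf (48936, 0, 16, 25926) .leaf))) (48937, 0, 15, 221662) (.node (.node (.node .leaf (48938, 0, 14, 79203) .leaf) (48939, 0, 15, 35244) (.node .leaf (48940, 0, 18, 23653) .leaf)) (48941, 0, 15, 48131) (.node (.node .leaf (48942, 0, 17, 44959) .leaf) (48943, 0, 15, 194225) (.node .leaf (48944, 0, 18, 14475) .leaf))))))

/-- part of the orbit tree -/
def itp1_242 : Tree := (.node (.node (.node (.node (.node (.node .leaf (48946, 0, 16, 19688) .leaf) (48947, 0, 17, 100552) (.node .leaf (48948, 0, 17, 121735) .leaf)) (48949, 0, 17, 230057) (.node (.node .leaf (48950, 0, 15, 86413) .leaf) (48951, 0, 17, 27355) (.node .leaf (48952, 0, 18, 138515) .leaf))) (48953, 0, 15, 71464) (.node (.node (.node .leaf (48954, 0, 16, 42612) .leaf) (48955, 0, 17, 240976) (.node .leaf (48956, 0, 18, 78107) .leaf)) (48957, 0, 14, 181334) (.node (.node .leaf (48958, 0, 16, 226325) .leaf) (48959, 0, 17, 32839) (.node .leaf (48992, 0, 17, 76376) .leaf)))) (48993, 0, 16, 250824) (.node (.node (.node (.node .leaf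 (48994, 0, 13, 31357) .leaf) (48995, 0, 15, 39451) (.node .leaf (48996, 0, 15, 70523) .leaf)) (48997, 0, 17, 109781) (.node (.node .leaf (48998, 0, 17, 7561) .leaf) (48999, 0, 11, 41784) (.node .leaf (49000, 0, 15, 200640) .leaf))) (49001, 0, 14, 257958) (.node (.node (.node .leaf (49002, 0, 16, 155621) .leaf) (49003, 0, 17, 180099) (.node .leaf (49004, 0, 15, 210659) .leaf)) (49005, 0, 17, 251525) (.node (.node .leaf (49006, 0, 17, 157382) .leaf) (49007, 0, 15, 175675) (.node .leaf (49008, 0, 17, 261136) .leaf))))) (49009, 0, 15, 107838) (.node (.node (.node (.node (.node .leaf (49010, 0, 18, 131624) .leaf) (49011, 0, 15, 150860) (.node .leaf (49012, 0, 17, 224046) .leaf)) (49013, 0, 18, 252451) (.node (.node .leaf (49014, 0, 15, 158591) .leaf) (49015, 0, 17, 187245) (.node .leaf (49016, 0, 17, 96149) .leaf))) (49017, 0, 13, 85922) (.node (.node (.node .leaf (49018, 0, 11, 10160) .leaf) (49019, 0, 19, 51158) (.node .leaf (49020, 0, 17, 92561) .leaf)) (49021, 0, 16, 110288) (.node (.node .leaf (49022,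 0, 17, 164323) .leaf) (49023, 0, 16, 55501) (.node .leaf (49024, 0, 14, 252961) .leaf)))) (49025, 0, 12, 212039) (.node (.node (.node (.node .leaf (49026, 0, 19, 63357) .leaf) (49027, 0, 13, 175699) (.node .leaf (49028, 0, 16, 90130) .leaf)) (49029, 0, 14, 211260) (.node (.node .leaf (49030, 0, 15, 165984) .leaf) (49031, 0, 17, 152897) (.node .leaf (49032, 0, 16, 259475) .leaf))) (49033, 0, 16, 72159) (.node (.node (.node .leaf (49034, 0, 15, 7649) .leaf) (49035, 0, 17, 18938) (.node .leaf (49036, 0, 12, 114842) .leaf)) (49037, 0, 17, 250784) (.node (.node .leaf (49038, 0, 12, 156412) .leaf) (49039, 0, 15, 15314) .leaf)))))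

/-- part of the orbit tree -/
def itp1_243 : Tree := (.node itp1_239 (48657, 0, 15, 29036) itp1_240)

/-- part of the orbit tree -/
def itp1_244 : Tree := (.node itp1_241 (48945, 0, 17, 55533) itp1_242)

/-- part of the orbit tree -/
def itp1_245 : Tree := (.node itp1_237 (48291, 0, 14, 209302) itp1_238)

/-- part of the orbit tree -/
def itp1_246 : Tree := (.node itp1_243 (48817, 0, 18, 126355) itp1_244)

/-- part of the orbit tree -/
def itp1_247 : Tree := (.node itp1_231 (47525, 0, 14, 85230) itp1_232)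

/-- part of the orbit tree -/
def itp1_248 : Tree := (.node itp1_245 (48546, 0, 17, 109441) itp1_246)

/-- part of the orbit tree -/
def itp1_249 : Tree := (.node itp1_217 (45989, 0, 16, 68861) itp1_218)

/-- part of the orbit tree -/
def itp1_250 : Tree := (.node itp1_247 (48033, 0, 14, 210655) itp1_248)

/-- part of the orbit tree -/
def itp1_251 : Tree := (.node itp1_187 (42922, 0, 17, 63393) itp1_188)

/-- part of the orbit tree -/
def itp1_252 : Tree := (.node itp1_249 (47010, 0, 18, 118600) itp1_250)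

/-- part of the orbit tree -/
def itp1_253 : Tree := (.node itp1_125 (36788, 0, 17, 8864) itp1_126)

/-- part of the orbit tree -/
def itp1_254 : Tree := (.node itp1_251 (44964, 0, 14, 118637) itp1_252)

/-- part of the orbit tree -/
def itp1_255 : Tree := (.node (.node (.node (.node (.node (.node .leaf (49041, 0, 17, 82962) .leaf) (49042, 0, 17, 164235) (.node .leaf (49043, 0, 15, 5175) .leaf)) (49044, 0, 15, 202468) (.node (.node .leaf (49045, 0, 15, 97585) .leaf) (49046, 0, 16, 52594) (.node .leaf (49047, 0, 16, 174008) .leaf))) (49048, 0, 16, 229868) (.node (.node (.node .leaf (49049, 0, 16, 221578) .leaf) (49050, 0, 16, 184777) (.node .leaf (49051, 0, 17, 12857) .leaf)) (49052, 0, 16, 261240) (.node (.node .leaf (49053, 0, 16, 107862) .leaf) (49054, 0, 17, 190698) (.node .leaf (49055, 0, 15, 133260) .leaf)))) (49088, 0, 16, 46759) (.node (.node (.node (.node .leaf (49089, 0, 15, 73387) .leaf) (49090, 0, 15, 124546) (.node .leaf (49091, 0, 14, 194265) .leaf)) (49092, 0, 17, 36740) (.node (.node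 .leaf (49093, 0, 15, 28642) .leaf) (49094, 0, 16, 184554) (.node .leaf (49095, 0, 16, 35268) .leaf))) (49096, 0, 16, 240921) (.node (.node (.node .leaf (49097, 0, 14, 160601) .leaf) (49098, 0, 17, 246554) (.node .leaf (49099, 0, 15, 205692) .leaf)) (49100, 0, 12, 174620) (.node (.node .leaf (49101, 0, 18, 150138) .leaf) (49102, 0, 15, 146038) (.node .leaf (49103, 0, 14, 25432) .leaf))))) (49104, 0, 14, 184050) (.node (.node (.node (.node (.node .leaf (49105, 0, 16, 223325) .leaf) (49106, 0, 13, 237271) (.node .leaf (49107, 0, 12, 229041) .leaf)) (49108, 0, 16, 216686) (.node (.node .leaf (49109, 0, 16, 71488) .leaf) (49110, 0, 15, 239604) (.node .leaf (49111, 0, 16, 196402) .leaf))) (49112, 0, 12, 60266) (.node (.node (.node .leaf (49113, 0, 14, 2828) .leaf) (49114, 0, 18, 113487) (.node .leaf (49115, 0, 9, 27315) .leaf)) (49116, 0, 17, 53833) (.node (.node .leaf (49117, 0, 16, 12847) .leaf) (49118, 0, 17, 98924) (.node .leaf (49119, 0, 13, 136622) .leaf)))) (49152, 0, 11, 140434) (.node (.node (.node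 (.node .leaf (49155, 0, 14, 234958) .leaf) (49157, 0, 13, 131745) (.node .leaf (49158, 0, 14, 257846) .leaf)) (49161, 0, 14, 17358) (.node (.node .leaf (49162, 0, 17, 127885) .leaf) (49164, 0, 13, 39563) (.node .leaf (49167, 0, 17, 76488) .leaf))) (49169, 0, 17, 133962) (.node (.node (.node .leaf (49170, 0, 15, 244246) .leaf) (49172, 0, 17, 142713) (.node .leaf (49175, 0, 16, 236581) .leaf)) (49176, 0, 16, 47352) (.node (.node .leaf (49179, 0, 13, 224190) .leaf) (49181, 0, 17, 131768) (.node .leaf (49182, 0, 14, 242427) .leaf))))))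

/-- part of the orbit tree -/
def itp1_256 : Tree := (.node (.node (.node (.node (.node (.node .leaf (49187, 0, 18, 15750) .leaf) (49189, 0, 12, 87168) (.node .leaf (49190, 0, 18, 58563) .leaf)) (49193, 0, 17, 215099) (.node (.node .leaf (49194, 0, 14, 194680) .leaf) (49196, 0, 17, 233854) (.node .leaf (49199, 0, 9, 32069) .leaf))) (49201, 0, 15, 202230) (.node (.node (.node .leaf (49202, 0, 15, 173493) .leaf) (49204, 0, 17, 217203) (.node .leaf (49207, 0, 15, 188719) .leaf)) (49208, 0, 17, 116210) (.node (.node .leaf (49211, 0, 17, 29870) .leaf) (49213, 0, 18, 123841) (.node .leaf (49214, 0, 15, 47374) .leaf)))) (49216, 0, 17, 126134) (.node (.node (.node (.node .leaf (49219, 0, 16, 23797) .leaf) (49221, 0, 16, 154155) (.node .leaf (49222, 0, 16, 34224) .leaf)) (49225, 0, 15, 53162) (.node (.node .leaf (49226, 0, 16, 170251) .leaf) (49228, 0, 11, 59801) (.node .leaf (49231, 0, 15, 147534) .leaf))) (49233, 0, 14, 152512) (.node (.node (.node .leaf (49234, 0, 16, 181446) .leaf) (49236, 0, 16, 241088)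 (.node .leaf (49239, 0, 16, 246959) .leaf)) (49240, 0, 19, 110971) (.node (.node .leaf (49243, 0, 18, 86318) .leaf) (49245, 0, 14, 50753) (.node .leaf (49246, 0, 15, 55421) .leaf))))) (49248, 0, 17, 196882) (.node (.node (.node (.node (.node .leaf (49251, 0, 13, 176206) .leaf) (49253, 0, 13, 146950) (.node .leaf (49254, 0, 18, 233029) .leaf)) (49257, 0, 17, 8893) (.node (.node .leaf (49258, 0, 15, 1020) .leaf) (49260, 0, 16, 103571) (.node .leaf (49263, 0, 15, 84923) .leaf))) (49265, 0, 17, 32624) (.node (.node (.node .leaf (49266, 0, 17, 171926) .leaf) (49268, 0, 18, 198905) (.node .leaf (49271, 0, 18, 178597) .leaf)) (49272, 0, 13, 105848) (.node (.node .leaf (49275, 0, 12, 11300) .leaf) (49277, 0, 18, 156619) (.node .leaf (49278, 0, 14, 2583) .leaf)))) (49281, 0, 17, 61788) (.node (.node (.node (.node .leaf (49282, 0, 15, 82207) .leaf) (49284, 0, 15, 256998) (.node .leaf (49287, 0, 13, 104538) .leaf)) (49288, 0, 16, 97895) (.node (.node .leaf (49291, 0, 14, 53051) .leaf) (49293, 0, 16, 88148) (.node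 .leaf (49294, 0, 13, 59656) .leaf))) (49296, 0, 13, 254477) (.node (.node (.node .leaf (49299, 0, 14, 252204) .leaf) (49301, 0, 15, 246846) (.node .leaf (49302, 0, 15, 161122) .leaf)) (49305, 0, 17, 44177) (.node (.node .leaf (49306, 0, 18, 72914) .leaf) (49308, 0, 16, 30164) (.node .leaf (49311, 0, 17, 116119) .leaf))))))

/-- part of the orbit tree -/
def itp1_257 : Tree := (.node (.node (.node (.node (.node (.node .leaf (49314, 0, 15, 196995) .leaf) (49316, 0, 13, 169708) (.node .leaf (49319, 0, 16, 168879) .leaf)) (49320, 0, 16, 877) (.node (.node .leaf (49323, 0, 16, 111153) .leaf) (49325, 0, 17, 9566) (.node .leaf (49326, 0, 17, 22097) .leaf))) (49328, 0, 15, 171783) (.node (.node (.node .leaf (49331, 0, 15, 53977) .leaf) (49333, 0, 13, 178484) (.node .leaf (49334, 0, 11, 198760) .leaf)) (49337, 0, 14, 11445) (.node (.node .leaf (49338, 0, 15, 105961) .leaf) (49340, 0, 17, 2694) (.node .leaf (49343, 0, 14, 113626) .leaf)))) (49345, 0, 16, 234847) (.node (.node (.node (.node .leaf (49346, 0,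 16, 142233) .leaf) (49348, 0, 18, 242540) (.node .leaf (49351, 0, 17, 131632) .leaf)) (49352, 0, 17, 75501) (.node (.node .leaf (49355, 0, 17, 38833) .leaf) (49357, 0, 12, 100193) (.node .leaf (49358, 0, 17, 45442) .leaf))) (49360, 0, 16, 66537) (.node (.node (.node .leaf (49363, 0, 13, 134107) .leaf) (49365, 0, 14, 121516) (.node .leaf (49366, 0, 17, 27375) .leaf)) (49369, 0, 14, 247319) (.node (.node .leaf (49370, 0, 11, 161364) .leaf) (49372, 0, 16, 77574) (.node .leaf (49375, 0, 17, 40538) .leaf))))) (49377, 0, 17, 36911) (.node (.node (.node (.node (.node .leaf (49378, 0, 17, 73836) .leaf) (49380, 0, 13, 183910) (.node .leaf (49383, 0, 17, 129321) .leaf)) (49384, 0, 17, 153041) (.node (.node .leaf (49387, 0, 14, 255378) .leaf) (49389, 0, 14, 32212) (.node .leaf (49390, 0, 15, 117896) .leaf))) (49392, 0, 15, 133148) (.node (.node (.node .leaf (49395, 0, 16, 227025) .leaf) (49397, 0, 16, 184665) (.node .leaf (49398, 0, 16, 221466) .leaf)) (49401, 0, 16, 29759) (.node (.node .leaf (49402, 0, 17,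 116067) .leaf) (49404, 0, 17, 5287) (.node .leaf (49407, 0, 8, 123728) .leaf)))) (49409, 0, 13, 115746) (.node (.node (.node (.node .leaf (49410, 0, 17, 29793) .leaf) (49412, 0, 17, 73063) (.node .leaf (49415, 0, 15, 44324) .leaf)) (49416, 0, 15, 141805) (.node (.node .leaf (49419, 0, 18, 235697) .leaf) (49421, 0, 13, 135134) (.node .leaf (49422, 0, 16, 245378) .leaf))) (49424, 0, 18, 46471) (.node (.node (.node .leaf (49427, 0, 16, 66779) .leaf) (49429, 0, 14, 230740) (.node .leaf (49430, 0, 18, 144663) .leaf)) (49433, 0, 18, 132661) (.node (.node .leaf (49434, 0, 17, 243561) .leaf) (49436, 0, 15, 139270) (.node .leaf (49439, 0, 14, 233818) .leaf))))))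

/-- part of the orbit tree -/
def itp1_258 : Tree := (.node (.node (.node (.node (.node (.node .leaf (49442, 0, 12, 229268) .leaf) (49444, 0, 15, 136850) (.node .leaf (49447, 0, 11, 28730) .leaf)) (49448, 0, 17, 218343) (.node (.node .leaf (49451, 0, 16, 113258) .leaf) (49453, 0, 18, 226004) (.node .leaf (49454, 0, 17, 90927) .leaf))) (49456, 0, 18, 22500) (.node (.node (.node .leaf (49459, 0, 14, 31185) .leaf) (49461, 0, 14, 126654) (.node .leaf (49462, 0, 18, 81634) .leaf)) (49465, 0, 16, 168474) (.node (.node .leaf (49466, 0, 16, 205401) .leaf) (49468, 0, 12, 150367) (.node .leaf (49471, 0, 11, 191568) .leaf)))) (49473, 0, 15, 175780) (.node (.node (.node (.node .leaf (49474, 0, 14, 95113) .leaf) (49476, 0, 10, 161761) (.node .leaf (49479, 0, 17, 247714) .leaf)) (49480, 0, 14, 160103) (.node (.node .leaf (49483, 0, 12, 121625) .leaf) (49485, 0, 15, 45599) (.node .leaf (49486, 0, 18, 255496) .leaf))) (49488, 0, 17, 13975) (.node (.node (.node .leaf (49491, 0, 15, 100052) .leaf) (49493, 0, 15, 61394)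 (.node .leaf (49494, 0, 13, 96866) .leaf)) (49497, 0, 13, 193385) (.node (.node .leaf (49498, 0, 13, 258019) .leaf) (49500, 0, 13, 141868) (.node .leaf (49503, 0, 18, 236143) .leaf))))) (49505, 0, 18, 114655) (.node (.node (.node (.node (.node .leaf (49506, 0, 17, 5394) .leaf) (49508, 0, 17, 104940) (.node .leaf (49511, 0, 17, 10416) .leaf)) (49512, 0, 16, 199789) (.node (.node .leaf (49515, 0, 13, 184556) .leaf) (49517, 0, 14, 207454) (.node .leaf (49518, 0, 16, 133545) .leaf))) (49520, 0, 17, 212322) (.node (.node (.node .leaf (49523, 0, 18, 8539) .leaf) (49525, 0, 14, 112180) (.node .leaf (49526, 0, 12, 152676) .leaf)) (49529, 0, 16, 205749) (.node (.node .leaf (49530, 0, 14, 18655) .leaf) (49532, 0, 15, 74201) (.node .leaf (49535, 0, 14, 37274) .leaf)))) (49536, 0, 16, 242510) (.node (.node (.node (.node .leaf (49539, 0, 17, 49732) .leaf) (49541, 0, 14, 87339) (.node .leaf (49542, 0, 19, 186952) .leaf)) (49545, 0, 14, 245930) (.node (.node .leaf (49546, 0, 16, 160246) .leaf) (49548, 0, 13, 255641)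 (.node .leaf (49551, 0, 17, 153541) .leaf))) (49553, 0, 17, 89280) (.node (.node (.node .leaf (49554, 0, 14, 60828) .leaf) (49556, 0, 15, 127544) (.node .leaf (49559, 0, 15, 52143) .leaf)) (49560, 0, 13, 257667) (.node (.node .leaf (49563, 0, 17, 155328) .leaf) (49565, 0, 14, 248129) (.node .leaf (49566, 0, 14, 161821) .leaf))))))

/-- part of the orbit tree -/
def itp1_259 : Tree := (.node itp1_255 (49184, 0, 16, 101829) itp1_256)

/-- part of the orbit tree -/
def itp1_260 : Tree := (.node itp1_257 (49441, 0, 17, 184279) itp1_258)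

/-- part of the orbit tree -/
def itp1_261 : Tree := (.node (.node (.node (.node (.node (.node .leaf (49571, 0, 14, 67832) .leaf) (49573, 0, 15, 10273) (.node .leaf (49574, 0, 17, 104829) .leaf)) (49577, 0, 13, 179616) (.node (.node .leaf (49578, 0, 17, 199932) .leaf) (49580, 0, 13, 173056) (.node .leaf (49583, 0, 16, 201795) .leaf))) (49585, 0, 13, 139400) (.node (.node (.node .leaf (49586, 0, 18, 102550) .leaf) (49588, 0, 15, 2041) (.node .leaf (49591, 0, 15, 112293) .leaf)) (49592, 0, 15, 168568) (.node (.node .leaf (49595, 0, 16, 87349) .leaf) (49597, 0, 10, 15411) (.node .leaf (49598, 0, 15, 197911) .leaf)))) (49600, 0, 17, 76690) (.node (.node (.node (.node .leaf (49603, 0, 13, 39630) .leaf) (49605, 0, 18, 141) (.node .leaf (49606, 0, 14, 48381) .leaf)) (49609, 0, 15, 138294) (.node (.node .leaf (49610, 0, 14, 240757) .leaf) (49612, 0, 18, 245267) (.node .leaf (49615, 0, 16, 226608) .leaf))) (49617, 0, 14, 66634) (.node (.node (.node .leaf (49618, 0, 14, 46358) .leaf) (49620, 0, 15, 170174)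 (.node .leaf (49623, 0, 16, 37669) .leaf)) (49624, 0, 17, 33797) (.node (.node .leaf (49627, 0, 17, 132772) .leaf) (49629, 0, 19, 23872) (.node .leaf (49630, 0, 16, 126211) .leaf))))) (49632, 0, 13, 250429) (.node (.node (.node (.node (.node .leaf (49635, 0, 17, 124868) .leaf) (49637, 0, 16, 28843) (.node .leaf (49638, 0, 16, 115191) .leaf)) (49641, 0, 15, 71619) (.node (.node .leaf (49642, 0, 16, 42880) .leaf) (49644, 0, 17, 181017) (.node .leaf (49647, 0, 14, 32453) .leaf))) (49649, 0, 16, 84494) (.node (.node (.node .leaf (49650, 0, 16, 64077) .leaf) (49652, 0, 17, 103243) (.node .leaf (49655, 0, 18, 8968) .leaf)) (49656, 0, 16, 183026) (.node (.node .leaf (49659, 0, 16, 228270) .leaf) (49661, 0, 15, 218805) (.node .leaf (49662, 0, 13, 220573) .leaf)))) (49666, 0, 17, 117196) (.node (.node (.node (.node .leaf (49667, 0, 18, 233698) .leaf) (49668, 0, 14, 24227) (.node .leaf (49669, 0, 17, 160517) .leaf)) (49672, 0, 17, 183074) (.node (.node .leaf (49673, 0, 16, 37388) .leaf) (49678, 0, 15, 124638)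 (.node .leaf (49679, 0, 18, 67256) .leaf))) (49680, 0, 16, 53781) (.node (.node (.node .leaf (49681, 0, 17, 134758) .leaf) (49686, 0, 17, 114727) (.node .leaf (49687, 0, 15, 88949) .leaf)) (49690, 0, 14, 239528) (.node (.node .leaf (49691, 0, 14, 214990) .leaf) (49692, 0, 16, 183982) (.node .leaf (49693, 0, 18, 143048) .leaf))))))

/-- part of the orbit tree -/
def itp1_262 : Tree := (.node (.node (.node (.node (.node (.node .leaf (49699, 0, 17, 4598) .leaf) (49700, 0, 16, 74665) (.node .leaf (49701, 0, 15, 227975) .leaf)) (49704, 0, 16, 243240) (.node (.node .leaf (49705, 0, 14, 126726) .leaf) (49710, 0, 16, 191787) (.node .leaf (49711, 0, 15, 134477) .leaf))) (49712, 0, 14, 252384) (.node (.node (.node .leaf (49713, 0, 17, 226156) .leaf) (49718, 0, 16, 176358) (.node .leaf (49719, 0, 15, 151680) .leaf)) (49722, 0, 17, 141484) (.node (.node .leaf (49723, 0, 17, 29058) .leaf) (49724, 0, 15, 116059) (.node .leaf (49725, 0, 15, 75069) .leaf)))) (49730, 0, 16, 102726) (.node (.node (.node (.node .leaf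 (49731, 0, 18, 247912) .leaf) (49732, 0, 16, 129509) (.node .leaf (49733, 0, 17, 72067) .leaf)) (49736, 0, 17, 168872) (.node (.node .leaf (49737, 0, 15, 51846) .leaf) (49742, 0, 16, 197831) (.node .leaf (49743, 0, 18, 158782) .leaf))) (49744, 0, 16, 243859) (.node (.node (.node .leaf (49745, 0, 18, 219381) .leaf) (49750, 0, 15, 184725) (.node .leaf (49751, 0, 15, 246147) .leaf)) (49754, 0, 18, 52526) (.node (.node .leaf (49755, 0, 17, 87042) .leaf) (49756, 0, 16, 170563) (.node .leaf (49757, 0, 17, 83022) .leaf))))) (49762, 0, 17, 60492) (.node (.node (.node (.node (.node .leaf (49763, 0, 16, 228208) .leaf) (49764, 0, 15, 97059) (.node .leaf (49765, 0, 16, 205325) .leaf)) (49768, 0, 15, 257698) (.node (.node .leaf (49769, 0, 16, 3789) .leaf) (49774, 0, 15, 100269) (.node .leaf (49775, 0, 14, 8419) .leaf))) (49776, 0, 13, 94920) (.node (.node (.node .leaf (49777, 0, 15, 207846) .leaf) (49782, 0, 15, 121440) (.node .leaf (49783, 0, 17, 80390) .leaf)) (49786, 0, 17, 247515) (.node (.node .leaf (49787,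 0, 18, 206525) .leaf) (49788, 0, 15, 176093) (.node .leaf (49789, 0, 15, 151483) .leaf)))) (49792, 0, 18, 15690) (.node (.node (.node (.node .leaf (49793, 0, 13, 248057) .leaf) (49798, 0, 15, 1720) (.node .leaf (49799, 0, 15, 155542) .leaf)) (49802, 0, 16, 215287) (.node (.node .leaf (49803, 0, 17, 239761) .leaf) (49804, 0, 16, 197718) (.node .leaf (49805, 0, 16, 89464) .leaf))) (49810, 0, 16, 3923) (.node (.node (.node .leaf (49811, 0, 15, 259420) .leaf) (49812, 0, 15, 104508) (.node .leaf (49813, 0, 18, 246034) .leaf)) (49816, 0, 17, 200125) (.node (.node .leaf (49817, 0, 17, 32993) .leaf) (49822, 0, 16, 170706) (.node .leaf (49823, 0, 12, 125415) .leaf))))))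

/-- part of the orbit tree -/
def itp1_263 : Tree := (.node (.node (.node (.node (.node (.node .leaf (49825, 0, 16, 251609) .leaf) (49830, 0, 17, 155577) (.node .leaf (49831, 0, 17, 205468) .leaf)) (49834, 0, 18, 257587) (.node (.node .leaf (49835, 0, 16, 112413) .leaf) (49836, 0, 14, 162140) (.node .leaf (49837, 0, 14, 117346) .leaf))) (49842, 0, 15, 7887) (.node (.node (.node .leaf (49843, 0, 15, 207735) .leaf) (49844, 0, 17, 58678) (.node .leaf (49845, 0, 16, 179224) .leaf)) (49848, 0, 18, 159927) (.node (.node .leaf (49849, 0, 17, 232212) .leaf) (49854, 0, 16, 131700) (.node .leaf (49855, 0, 16, 114422) .leaf)))) (49856, 0, 17, 219084) (.node (.node (.node (.node .leaf (49857, 0, 18, 243626) .leaf) (49862, 0, 16, 147146) (.node .leaf (49863, 0, 19, 132892) .leaf)) (49866, 0, 17, 183219) (.node (.node .leaf (49867, 0, 16, 49687) .leaf) (49868, 0, 16, 84855) (.node .leaf (49869, 0, 17, 109329) .leaf))) (49874, 0, 18, 22489) (.node (.node (.node .leaf (49875, 0, 14, 134903) .leaf) (49876, 0, 17,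 71354) (.node .leaf (49877, 0, 14, 128732) .leaf)) (49880, 0, 15, 218423) (.node (.node .leaf (49881, 0, 17, 256615) .leaf) (49886, 0, 16, 156423) (.node .leaf (49887, 0, 18, 39798) .leaf))))) (49888, 0, 17, 23609) (.node (.node (.node (.node (.node .leaf (49889, 0, 16, 48223) .leaf) (49894, 0, 18, 74552) (.node .leaf (49895, 0, 16, 120153) .leaf)) (49898, 0, 17, 243385) (.node (.node .leaf (49899, 0, 18, 126871) .leaf) (49900, 0, 15, 139734) (.node .leaf (49901, 0, 18, 172260) .leaf))) (49906, 0, 12, 226377) (.node (.node (.node .leaf (49907, 0, 14, 226301) .leaf) (49908, 0, 18, 48572) (.node .leaf (49909, 0, 14, 195881) .leaf)) (49912, 0, 15, 141373) (.node (.node .leaf (49913, 0, 14, 28947) .leaf) (49918, 0, 18, 245586) (.node .leaf (49919, 0, 17, 124540) .leaf)))) (49920, 0, 17, 181853) (.node (.node (.node (.node .leaf (49921, 0, 18, 40819) .leaf) (49926, 0, 15, 24882) (.node .leaf (49927, 0, 16, 33108) .leaf)) (49930, 0, 16, 115891) (.node (.node .leaf (49931, 0, 15, 171503) .leaf) (49932, 0,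 13, 201871) (.node .leaf (49933, 0, 18, 259305) .leaf))) (49938, 0, 17, 219353) (.node (.node (.node .leaf (49939, 0, 17, 180258) .leaf) (49940, 0, 14, 215362) (.node .leaf (49941, 0, 14, 239908) .leaf)) (49944, 0, 17, 23095) (.node (.node .leaf (49945, 0, 14, 112031) .leaf) (49950, 0, 16, 118104) (.node .leaf (49951, 0, 16, 234614) .leaf))))))

/-- part of the orbit tree -/
def itp1_264 : Tree := (.node (.node (.node (.node (.node (.node .leaf (49953, 0, 15, 189351) .leaf) (49958, 0, 17, 223943) (.node .leaf (49959, 0, 15, 232097) .leaf)) (49962, 0, 17, 47545) (.node (.node .leaf (49963, 0, 15, 188567) .leaf) (49964, 0, 16, 77526) (.node .leaf (49965, 0, 19, 65308) .leaf))) (49970, 0, 17, 140755) (.node (.node (.node .leaf (49971, 0, 14, 31997) .leaf) (49972, 0, 14, 17079) (.node .leaf (49973, 0, 17, 41681) .leaf)) (49976, 0, 16, 155148) (.node (.node .leaf (49977, 0, 16, 228883) .leaf) (49982, 0, 18, 210698) (.node .leaf (49983, 0, 14, 251756) .leaf)))) (49984, 0, 17, 156338) (.node (.node (.node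 (.node .leaf (49985, 0, 17, 164564) .leaf) (49990, 0, 14, 199604) (.node .leaf (49991, 0, 17, 86166) .leaf)) (49994, 0, 13, 71439) (.node (.node .leaf (49995, 0, 17, 247063) .leaf) (49996, 0, 17, 32265) (.node .leaf (49997, 0, 17, 40559) .leaf))) (50002, 0, 16, 196691) (.node (.node (.node .leaf (50003, 0, 18, 88445) .leaf) (50004, 0, 17, 9156) (.node .leaf (50005, 0, 17, 50082) .leaf)) (50008, 0, 18, 701) (.node (.node .leaf (50009, 0, 15, 188185) .leaf) (50014, 0, 17, 103890) (.node .leaf (50015, 0, 16, 243231) .leaf))))) (50016, 0, 16, 92487) (.node (.node (.node (.node (.node .leaf (50017, 0, 14, 100641) .leaf) (50022, 0, 14, 160946) (.node .leaf (50023, 0, 18, 11676) .leaf)) (50026, 0, 18, 138490) (.node (.node .leaf (50027, 0, 11, 178205) .leaf) (50028, 0, 15, 226812) (.node .leaf (50029, 0, 16, 234906) .leaf))) (50034, 0, 15, 163161) (.node (.node (.node .leaf (50035, 0, 15, 9335) .leaf) (50036, 0, 16, 206897) (.node .leaf (50037, 0, 17, 247895) .leaf)) (50040, 0, 17, 78986) (.node (.node .leaf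 (50041, 0, 16, 206489) .leaf) (50046, 0, 14, 59608) (.node .leaf (50047, 0, 15, 48618) .leaf)))) (50050, 0, 16, 184091) (.node (.node (.node (.node .leaf (50051, 0, 17, 51048) .leaf) (50052, 0, 12, 198953) (.node .leaf (50053, 0, 14, 214651) .leaf)) (50056, 0, 14, 105640) (.node (.node .leaf (50057, 0, 16, 247174) .leaf) (50062, 0, 16, 54176) (.node .leaf (50063, 0, 17, 152297) .leaf))) (50064, 0, 15, 196802) (.node (.node (.node .leaf (50065, 0, 14, 88556) .leaf) (50070, 0, 16, 169901) (.node .leaf (50071, 0, 16, 52867) .leaf)) (50074, 0, 15, 556) (.node (.node .leaf (50075, 0, 11, 160432) .leaf) (50076, 0, 15, 261072) .leaf)))))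

/-- part of the orbit tree -/
def itp1_265 : Tree := (.node itp1_261 (49698, 0, 16, 46278) itp1_262)

/-- part of the orbit tree -/
def itp1_266 : Tree := (.node itp1_263 (49952, 0, 17, 244567) itp1_264)

/-- part of the orbit tree -/
def itp1_267 : Tree := (.node itp1_259 (49313, 0, 16, 176351) itp1_260)

/-- part of the orbit tree -/
def itp1_268 : Tree := (.node itp1_265 (49824, 0, 14, 210623) itp1_266)

/-- part of the orbit tree -/
def itp1_269 : Tree := (.node (.node (.node (.node (.node (.node .leaf (50082, 0, 16, 254796) .leaf) (50083, 0, 13, 74888) (.node .leaf (50084, 0, 16, 44520) .leaf)) (50085, 0, 15, 19854) (.node (.node .leaf (50088, 0, 16, 57762) .leaf) (50089, 0, 17, 178316) (.node .leaf (50094, 0, 15, 95949) .leaf))) (50095, 0, 15, 210995) (.node (.node (.node .leaf (50096, 0, 18, 191646) .leaf) (50097, 0, 15, 9446) (.node .leaf (50102, 0, 17, 230808) .leaf)) (50103, 0, 18, 222718) (.node (.node .leaf (50106, 0, 16, 104739) .leaf) (50107, 0, 17, 96581) (.node .leaf (50108, 0, 17,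 61477) .leaf)))) (50109, 0, 17, 176487) (.node (.node (.node (.node .leaf (50114, 0, 18, 107933) .leaf) (50115, 0, 16, 83451) (.node .leaf (50116, 0, 16, 52379) .leaf)) (50117, 0, 16, 11517) (.node (.node .leaf (50120, 0, 13, 115746) .leaf) (50121, 0, 16, 143430) (.node .leaf (50126, 0, 16, 244006) .leaf))) (50127, 0, 16, 133731) (.node (.node (.node .leaf (50128, 0, 18, 167405) .leaf) (50129, 0, 15, 65894) (.node .leaf (50134, 0, 17, 255211) .leaf)) (50135, 0, 18, 197773) (.node (.node .leaf (50138, 0, 14, 23206) .leaf) (50139, 0, 16, 131976) (.node .leaf (50140, 0, 12, 118217) .leaf))))) (50141, 0, 18, 28976) (.node (.node (.node (.node (.node .leaf (50146, 0, 17, 244678) .leaf) (50147, 0, 17, 151054) (.node .leaf (50148, 0, 15, 142505) .leaf)) (50149, 0, 18, 30087) (.node (.node .leaf (50152, 0, 18, 47400) .leaf) (50153, 0, 16, 188422) (.node .leaf (50158, 0, 17, 77383) .leaf))) (50159, 0, 17, 21173) (.node (.node (.node .leaf (50160, 0, 17, 140610) .leaf) (50161, 0, 16, 31852) (.node .leaf (50166,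 0, 17, 242221) .leaf)) (50167, 0, 16, 3960) (.node (.node .leaf (50170, 0, 14, 193445) .leaf) (50171, 0, 13, 228994) (.node .leaf (50172, 0, 15, 45251) .leaf)))) (50173, 0, 14, 228037) (.node (.node (.node (.node .leaf (50177, 0, 14, 228606) .leaf) (50179, 0, 17, 38970) (.node .leaf (50180, 0, 13, 239035) .leaf)) (50182, 0, 17, 48649) (.node (.node .leaf (50184, 0, 15, 115706) .leaf) (50186, 0, 17, 142216) (.node .leaf (50189, 0, 17, 90181) .leaf))) (50191, 0, 12, 12384) (.node (.node (.node .leaf (50192, 0, 15, 124109) .leaf) (50194, 0, 15, 47074) (.node .leaf (50197, 0, 14, 81288) .leaf)) (50199, 0, 10, 28077) (.node (.node .leaf (50201, 0, 18, 205107) .leaf) (50203, 0, 17, 160022) (.node .leaf (50204, 0, 13, 117265) .leaf))))))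

/-- part of the orbit tree -/
def itp1_270 : Tree := (.node (.node (.node (.node (.node (.node .leaf (50209, 0, 15, 134466) .leaf) (50211, 0, 12, 124208) (.node .leaf (50212, 0, 16, 44622) .leaf)) (50214, 0, 16, 115459) (.node (.node .leaf (50216, 0, 11, 176885) .leaf) (50218, 0, 15, 218754) (.node .leaf (50221, 0, 18, 39107) .leaf))) (50223, 0, 8, 211861) (.node (.node (.node .leaf (50224, 0, 16, 139930) .leaf) (50226, 0, 16, 117480) (.node .leaf (50229, 0, 18, 132265) .leaf)) (50231, 0, 18, 126171) (.node (.node .leaf (50233, 0, 16, 37160) .leaf) (50235, 0, 15, 96995) (.node .leaf (50236, 0, 12, 62339) .leaf)))) (50238, 0, 12, 107430) (.node (.node (.node (.node .leaf (50241, 0, 12, 5752) .leaf) (50243, 0, 16, 83549) (.node .leaf (50244, 0, 15, 200433) .leaf)) (50246, 0, 17, 59011) (.node (.node .leaf (50248, 0, 16, 185222) .leaf) (50250, 0, 16, 230307) (.node .leaf (50253, 0, 15, 113987) .leaf))) (50255, 0, 14, 219878) (.node (.node (.node .leaf (50256, 0, 17, 167499) .leaf) (50258, 0, 18, 61288)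 (.node .leaf (50261, 0, 14, 153358) .leaf)) (50263, 0, 13, 198443) (.node (.node .leaf (50265, 0, 16, 19381) .leaf) (50267, 0, 16, 72592) (.node .leaf (50268, 0, 14, 37616) .leaf))))) (50270, 0, 18, 115413) (.node (.node (.node (.node (.node .leaf (50273, 0, 16, 204173) .leaf) (50275, 0, 15, 150952) (.node .leaf (50276, 0, 15, 246984) .leaf)) (50278, 0, 15, 105353) (.node (.node .leaf (50280, 0, 16, 59002) .leaf) (50282, 0, 16, 34902) (.node .leaf (50285, 0, 16, 49225) .leaf))) (50287, 0, 16, 206907) (.node (.node (.node .leaf (50288, 0, 15, 99774) .leaf) (50290, 0, 17, 103010) (.node .leaf (50293, 0, 17, 89339) .leaf)) (50295, 0, 16, 111697) (.node (.node .leaf (50297, 0, 17, 213056) .leaf) (50299, 0, 16, 135269) (.node .leaf (50300, 0, 12, 61329) .leaf)))) (50302, 0, 18, 182560) (.node (.node (.node (.node .leaf (50304, 0, 16, 68498) .leaf) (50306, 0, 17, 23479) (.node .leaf (50309, 0, 13, 119511) .leaf)) (50311, 0, 17, 87886) (.node (.node .leaf (50313, 0, 12, 10941) .leaf) (50315, 0, 16, 246479)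 (.node .leaf (50316, 0, 15, 202537) .leaf))) (50318, 0, 15, 149260) (.node (.node (.node .leaf (50321, 0, 18, 234401) .leaf) (50323, 0, 15, 89765) (.node .leaf (50324, 0, 18, 168164) .leaf)) (50326, 0, 17, 137921) (.node (.node .leaf (50328, 0, 17, 87647) .leaf) (50330, 0, 13, 1658) (.node .leaf (50333, 0, 18, 9046) .leaf))))))

/-- part of the orbit tree -/
def itp1_271 : Tree := (.node (.node (.node (.node (.node (.node .leaf (50336, 0, 15, 131175) .leaf) (50338, 0, 19, 217154) (.node .leaf (50341, 0, 16, 246326) .leaf)) (50343, 0, 17, 231687) (.node (.node .leaf (50345, 0, 16, 87991) .leaf) (50347, 0, 18, 180165) (.node .leaf (50348, 0, 17, 7388) .leaf))) (50350, 0, 17, 85241) (.node (.node (.node .leaf (50353, 0, 17, 248797) .leaf) (50355, 0, 16, 116849) (.node .leaf (50356, 0, 16, 16657) .leaf)) (50358, 0, 14, 1436) (.node (.node .leaf (50360, 0, 15, 155050) .leaf) (50362, 0, 17, 167965) (.node .leaf (50365, 0, 17, 165103) .leaf)))) (50367, 0, 18, 251082) (.node (.node (.node (.node .leaf (50368,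 0, 16, 155924) .leaf) (50370, 0, 17, 76279) (.node .leaf (50373, 0, 18, 178257) .leaf)) (50375, 0, 17, 69572) (.node (.node .leaf (50377, 0, 18, 42218) .leaf) (50379, 0, 15, 236101) (.node .leaf (50380, 0, 16, 21508) .leaf))) (50382, 0, 15, 77194) (.node (.node (.node .leaf (50385, 0, 15, 63783) .leaf) (50387, 0, 13, 108802) (.node .leaf (50388, 0, 16, 182382) .leaf)) (50390, 0, 15, 94279) (.node (.node .leaf (50392, 0, 17, 146649) .leaf) (50394, 0, 14, 224508) (.node .leaf (50397, 0, 16, 31708) .leaf))))) (50399, 0, 17, 243129) (.node (.node (.node (.node (.node .leaf (50400, 0, 18, 92897) .leaf) (50402, 0, 17, 15044) (.node .leaf (50405, 0, 13, 111524) .leaf)) (50407, 0, 12, 58241) (.node (.node .leaf (50409, 0, 17, 241439) .leaf) (50411, 0, 11, 190287) (.node .leaf (50412, 0, 18, 76046) .leaf))) (50414, 0, 16, 180604) (.node (.node (.node .leaf (50417, 0, 12, 234327) .leaf) (50419, 0, 16, 31525) (.node .leaf (50420, 0, 17, 243044) .leaf)) (50422, 0, 17, 162738) (.node (.node .leaf (50424, 0, 15,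 79660) .leaf) (50426, 0, 18, 182423) (.node .leaf (50429, 0, 15, 126569) .leaf)))) (50431, 0, 14, 192164) (.node (.node (.node (.node .leaf (50432, 0, 17, 16108) .leaf) (50434, 0, 15, 141047) (.node .leaf (50437, 0, 15, 59305) .leaf)) (50439, 0, 18, 112524) (.node (.node .leaf (50441, 0, 15, 228663) .leaf) (50443, 0, 18, 38213) (.node .leaf (50444, 0, 17, 219908) .leaf))) (50446, 0, 13, 225906) (.node (.node (.node .leaf (50449, 0, 13, 123229) .leaf) (50451, 0, 18, 259834) (.node .leaf (50452, 0, 18, 163738) .leaf)) (50454, 0, 15, 208831) (.node (.node .leaf (50456, 0, 17, 217839) .leaf) (50458, 0, 14, 47773) (.node .leaf (50461, 0, 15, 47716) .leaf))))))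

/-- part of the orbit tree -/
def itp1_272 : Tree := (.node (.node (.node (.node (.node (.node .leaf (50464, 0, 16, 45967) .leaf) (50466, 0, 12, 220157) (.node .leaf (50469, 0, 17, 257116) .leaf)) (50471, 0, 14, 228814) (.node (.node .leaf (50473, 0, 17, 131133) .leaf) (50475, 0, 16, 41154) (.node .leaf (50476, 0, 17, 76194) .leaf))) (50478, 0, 16, 118396) (.node (.node (.node .leaf (50481, 0, 18, 40023) .leaf) (50483, 0, 16, 64783) (.node .leaf (50484, 0, 15, 47716) .leaf)) (50486, 0, 16, 217622) (.node (.node .leaf (50488, 0, 16, 143333) .leaf) (50490, 0, 17, 116631) (.node .leaf (50493, 0, 16, 242065) .leaf)))) (50495, 0, 16, 188852) (.node (.node (.node (.node .leaf (50496, 0, 13, 103951) .leaf) (50498, 0, 13, 132175) (.node .leaf (50501, 0, 15, 110652) .leaf)) (50503, 0, 16, 153678) (.node (.node .leaf (50505, 0, 16, 206269) .leaf) (50507, 0, 14, 49585) (.node .leaf (50508, 0, 18, 84177) .leaf))) (50510, 0, 17, 60412) (.node (.node (.node .leaf (50513, 0, 16, 113111) .leaf) (50515, 0, 15, 151973)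 (.node .leaf (50516, 0, 17, 70940) .leaf)) (50518, 0, 12, 161686) (.node (.node .leaf (50520, 0, 16, 199079) .leaf) (50522, 0, 16, 57879) (.node .leaf (50525, 0, 17, 250082) .leaf))))) (50527, 0, 17, 50212) (.node (.node (.node (.node (.node .leaf (50528, 0, 16, 60165) .leaf) (50530, 0, 11, 69562) (.node .leaf (50533, 0, 16, 52534) .leaf)) (50535, 0, 16, 120575) (.node (.node .leaf (50537, 0, 17, 170593) .leaf) (50539, 0, 17, 110789) (.node .leaf (50540, 0, 13, 148260) .leaf))) (50542, 0, 18, 201473) (.node (.node (.node .leaf (50545, 0, 15, 182188) .leaf) (50547, 0, 17, 235401) (.node .leaf (50548, 0, 16, 58094) .leaf)) (50550, 0, 17, 216780) (.node (.node .leaf (50552, 0, 16, 594) .leaf) (50554, 0, 13, 106269) (.node .leaf (50557, 0, 16, 56087) .leaf)))) (50559, 0, 18, 112942) (.node (.node (.node (.node .leaf (50561, 0, 17, 10178) .leaf) (50563, 0, 17, 249776) (.node .leaf (50564, 0, 14, 168133) .leaf)) (50566, 0, 15, 245984) (.node (.node .leaf (50568, 0, 15, 35966) .leaf) (50570, 0, 16, 121947)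 (.node .leaf (50573, 0, 16, 176707) .leaf))) (50575, 0, 16, 66846) (.node (.node (.node .leaf (50576, 0, 17, 2074) .leaf) (50578, 0, 15, 98710) (.node .leaf (50581, 0, 17, 11817) .leaf)) (50583, 0, 16, 88275) (.node (.node .leaf (50585, 0, 15, 179112) .leaf) (50587, 0, 17, 87002) (.node .leaf (50588, 0, 14, 171419) .leaf))))))

/-- part of the orbit tree -/
def itp1_273 : Tree := (.node itp1_269 (50206, 0, 12, 174163) itp1_270)

/-- part of the orbit tree -/
def itp1_274 : Tree := (.node itp1_271 (50463, 0, 17, 40110) itp1_272)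

/-- part of the orbit tree -/
def itp1_275 : Tree := (.node (.node (.node (.node (.node (.node .leaf (50593, 0, 17, 88776) .leaf) (50595, 0, 18, 176826) (.node .leaf (50596, 0, 16, 97531) .leaf)) (50598, 0, 18, 51989) (.node (.node .leaf (50600, 0, 14, 231307) .leaf) (50602, 0, 17, 264) (.node .leaf (50605, 0, 18, 220878) .leaf))) (50607, 0, 16, 134891) (.node (.node (.node .leaf (50608, 0, 17, 95504) .leaf) (50610, 0, 18, 166499) (.node .leaf (50613, 0, 17, 86819) .leaf)) (50615, 0, 18, 152358) (.node (.node .leaf (50617, 0, 13, 247458) .leaf) (50619, 0, 17, 20381) (.node .leaf (50620, 0, 14, 254097) .leaf)))) (50622, 0, 16, 38616) (.node (.node (.node (.node .leaf (50625, 0, 15, 74502) .leaf) (50627, 0, 16, 29475) (.node .leaf (50628, 0, 13, 22907) .leaf)) (50630, 0, 17, 241929) (.node (.node .leaf (50632, 0, 19, 255736) .leaf) (50634, 0, 13, 74888) (.node .leaf (50637, 0, 16, 191177) .leaf))) (50639, 0, 15, 66235) (.node (.node (.node .leaf (50640, 0, 16, 244533) .leaf) (50642, 0, 17, 191248)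 (.node .leaf (50645, 0, 17, 221808) .leaf)) (50647, 0, 15, 237265) (.node (.node .leaf (50649, 0, 13, 97995) .leaf) (50651, 0, 11, 12014) (.node .leaf (50652, 0, 18, 181521) .leaf))))) (50654, 0, 13, 63403) (.node (.node (.node (.node (.node .leaf (50657, 0, 15, 141555) .leaf) (50659, 0, 16, 227542) (.node .leaf (50660, 0, 18, 192950) .leaf)) (50662, 0, 15, 183299) (.node (.node .leaf (50664, 0, 13, 242160) .leaf) (50666, 0, 13, 113960) (.node .leaf (50669, 0, 15, 13384) .leaf))) (50671, 0, 16, 32689) (.node (.node (.node .leaf (50672, 0, 18, 45248) .leaf) (50674, 0, 16, 123109) (.node .leaf (50677, 0, 20, 27013) .leaf)) (50679, 0, 15, 80288) (.node (.node .leaf (50681, 0, 16, 237096) .leaf) (50683, 0, 16, 206107) (.node .leaf (50684, 0, 14, 175227) .leaf)))) (50686, 0, 16, 20585) (.node (.node (.node (.node .leaf (50688, 0, 18, 241896) .leaf) (50689, 0, 14, 217230) (.node .leaf (50690, 0, 17, 188621) .leaf)) (50691, 0, 13, 40214) (.node (.node .leaf (50700, 0, 16, 244171) .leaf) (50701, 0, 15, 85045)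 (.node .leaf (50702, 0, 18, 20921) .leaf))) (50703, 0, 17, 7184) (.node (.node (.node .leaf (50708, 0, 15, 127390) .leaf) (50709, 0, 17, 70136) (.node .leaf (50710, 0, 16, 183763) .leaf)) (50711, 0, 16, 38141) (.node (.node .leaf (50712, 0, 17, 241696) .leaf) (50713, 0, 16, 200003) (.node .leaf (50714, 0, 16, 179456) .leaf))))))

/-- part of the orbit tree -/
def itp1_276 : Tree := (.node (.node (.node (.node (.node (.node .leaf (50720, 0, 15, 47901) .leaf) (50721, 0, 15, 133230) (.node .leaf (50722, 0, 18, 125752) .leaf)) (50723, 0, 16, 122908) (.node (.node .leaf (50732, 0, 17, 173990) .leaf) (50733, 0, 17, 40431) (.node .leaf (50734, 0, 16, 259971) .leaf))) (50735, 0, 18, 226717) (.node (.node (.node .leaf (50740, 0, 16, 195179) .leaf) (50741, 0, 14, 131461) (.node .leaf (50742, 0, 18, 240206) .leaf)) (50743, 0, 13, 215592) (.node (.node .leaf (50744, 0, 17, 59088) .leaf) (50745, 0, 15, 1718) (.node .leaf (50746, 0, 16, 75096) .leaf)))) (50747, 0, 17, 228470) (.node (.node (.node (.node .leaf (50752,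 0, 17, 95424) .leaf) (50753, 0, 13, 208366) (.node .leaf (50754, 0, 15, 171186) .leaf)) (50755, 0, 15, 50588) (.node (.node .leaf (50764, 0, 17, 254273) .leaf) (50765, 0, 17, 140979) (.node .leaf (50766, 0, 11, 2355) .leaf))) (50767, 0, 17, 151581) (.node (.node (.node .leaf (50772, 0, 17, 97579) .leaf) (50773, 0, 16, 205829) (.node .leaf (50774, 0, 16, 169305) .leaf)) (50775, 0, 17, 52343) (.node (.node .leaf (50776, 0, 17, 34723) .leaf) (50777, 0, 17, 26565) (.node .leaf (50778, 0, 13, 120710) .leaf))))) (50779, 0, 18, 154102) (.node (.node (.node (.node (.node .leaf (50784, 0, 17, 250267) .leaf) (50785, 0, 18, 209405) (.node .leaf (50786, 0, 16, 254392) .leaf)) (50787, 0, 15, 156120) (.node (.node .leaf (50796, 0, 18, 171083) .leaf) (50797, 0, 16, 77126) (.node .leaf (50798, 0, 17, 95289) .leaf))) (50799, 0, 15, 208151) (.node (.node (.node .leaf (50804, 0, 18, 33) .leaf) (50805, 0, 16, 94347) (.node .leaf (50806, 0, 14, 256083) .leaf)) (50807, 0, 15, 8366) (.node (.node .leaf (50808, 0, 14, 169376)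 .leaf) (50809, 0, 11, 224304) (.node .leaf (50810, 0, 18, 97746) .leaf)))) (50811, 0, 15, 146453) (.node (.node (.node (.node .leaf (50820, 0, 17, 73409) .leaf) (50821, 0, 14, 130727) (.node .leaf (50822, 0, 14, 20196) .leaf)) (50823, 0, 17, 86626) (.node (.node .leaf (50824, 0, 15, 197242) .leaf) (50825, 0, 12, 254492) (.node .leaf (50826, 0, 16, 152159) .leaf))) (50827, 0, 14, 247779) (.node (.node (.node .leaf (50832, 0, 16, 60117) .leaf) (50833, 0, 17, 245713) (.node .leaf (50834, 0, 15, 197287) .leaf)) (50835, 0, 17, 192500) (.node (.node .leaf (50844, 0, 15, 82700) .leaf) (50845, 0, 13, 107370) (.node .leaf (50846, 0, 17, 4905) .leaf))))))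

/-- part of the orbit tree -/
def itp1_277 : Tree := (.node (.node (.node (.node (.node (.node .leaf (50852, 0, 10, 136500) .leaf) (50853, 0, 18, 247578) (.node .leaf (50854, 0, 16, 161350) .leaf)) (50855, 0, 18, 12136) (.node (.node .leaf (50856, 0, 11, 199605) .leaf) (50857, 0, 15, 86683) (.node .leaf (50858, 0, 16, 88490) .leaf))) (50859, 0, 14, 178921) (.node (.node (.node .leaf (50864, 0, 17, 21570) .leaf) (50865, 0, 14, 249585) (.node .leaf (50866, 0, 16, 163757) .leaf)) (50867, 0, 16, 9859) (.node (.node .leaf (50876, 0, 15, 149753) .leaf) (50877, 0, 15, 174239) (.node .leaf (50878, 0, 17, 202972) .leaf)))) (50879, 0, 16, 260282) (.node (.node (.node (.node .leaf (50884, 0, 17, 160839) .leaf) (50885, 0, 14, 168993) (.node .leaf (50886, 0, 17, 218054) .leaf)) (50887, 0, 18, 246788) (.node (.node .leaf (50888, 0, 16, 142901) .leaf) (50889, 0, 17, 34970) (.node .leaf (50890, 0, 15, 116295) .leaf))) (50891, 0, 12, 121023) (.node (.node (.node .leaf (50896, 0, 16, 45663) .leaf) (50897, 0, 16, 54615)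 (.node .leaf (50898, 0, 18, 91412) .leaf)) (50899, 0, 16, 99698) (.node (.node .leaf (50908, 0, 15, 141278) .leaf) (50909, 0, 14, 32496) (.node .leaf (50910, 0, 16, 118700) .leaf))))) (50911, 0, 18, 235138) (.node (.node (.node (.node (.node .leaf (50916, 0, 17, 98226) .leaf) (50917, 0, 15, 237456) (.node .leaf (50918, 0, 16, 12183) .leaf)) (50919, 0, 17, 30690) (.node (.node .leaf (50920, 0, 16, 217919) .leaf) (50921, 0, 16, 68113) (.node .leaf (50922, 0, 19, 47949) .leaf))) (50923, 0, 14, 189027) (.node (.node (.node .leaf (50928, 0, 12, 118613) .leaf) (50929, 0, 15, 235131) (.node .leaf (50930, 0, 15, 141095) .leaf)) (50931, 0, 17, 32265) (.node (.node .leaf (50940, 0, 9, 74367) .leaf) (50941, 0, 15, 66554) (.node .leaf (50942, 0, 17, 29274) .leaf)))) (50943, 0, 17, 37436) (.node (.node (.node (.node .leaf (50948, 0, 16, 242868) .leaf) (50949, 0, 16, 126362) (.node .leaf (50950, 0, 18, 23750) .leaf)) (50951, 0, 15, 105468) (.node (.node .leaf (50952, 0, 16, 74037) .leaf) (50953, 0, 16, 186210)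 (.node .leaf (50954, 0, 17, 223009) .leaf))) (50955, 0, 16, 36969) (.node (.node (.node .leaf (50960, 0, 16, 158409) .leaf) (50961, 0, 15, 124017) (.node .leaf (50962, 0, 13, 211692) .leaf)) (50963, 0, 14, 134147) (.node (.node .leaf (50972, 0, 18, 30322) .leaf) (50973, 0, 15, 225776) (.node .leaf (50974, 0, 15, 180396) .leaf))))))

/-- part of the orbit tree -/
def itp1_278 : Tree := (.node (.node (.node (.node (.node (.node .leaf (50980, 0, 15, 182718) .leaf) (50981, 0, 13, 245804) (.node .leaf (50982, 0, 16, 74188) .leaf)) (50983, 0, 13, 167945) (.node (.node .leaf (50984, 0, 19, 23615) .leaf) (50985, 0, 17, 132369) (.node .leaf (50986, 0, 13, 242765) .leaf))) (50987, 0, 12, 126307) (.node (.node (.node .leaf (50992, 0, 15, 90428) .leaf) (50993, 0, 14, 39291) (.node .leaf (50994, 0, 17, 75815) .leaf)) (50995, 0, 9, 225545) (.node (.node .leaf (51004, 0, 17, 21972) .leaf) (51005, 0, 16, 237025) (.node .leaf (51006, 0, 13, 245158) .leaf)))) (51007, 0, 14, 124040) (.node (.node (.node (.node .leaf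 (51012, 0, 17, 257086) .leaf) (51013, 0, 17, 111888) (.node .leaf (51014, 0, 17, 1100) .leaf)) (51015, 0, 17, 154978) (.node (.node .leaf (51016, 0, 15, 96703) .leaf) (51017, 0, 15, 204945) (.node .leaf (51018, 0, 14, 168397) .leaf))) (51019, 0, 17, 51427) (.node (.node (.node .leaf (51024, 0, 16, 255445) .leaf) (51025, 0, 17, 113915) (.node .leaf (51026, 0, 14, 20586) .leaf)) (51027, 0, 17, 45068) (.node (.node .leaf (51036, 0, 10, 204020) .leaf) (51037, 0, 8, 261266) (.node .leaf (51038, 0, 16, 170022) .leaf))))) (51039, 0, 15, 175287) (.node (.node (.node (.node (.node .leaf (51044, 0, 18, 19148) .leaf) (51045, 0, 14, 51226) (.node .leaf (51046, 0, 17, 96582) .leaf)) (51047, 0, 17, 204904) (.node (.node .leaf (51048, 0, 16, 1205) .leaf) (51049, 0, 12, 177681) (.node .leaf (51050, 0, 14, 257223) .leaf))) (51051, 0, 14, 112105) (.node (.node (.node .leaf (51056, 0, 12, 134074) .leaf) (51057, 0, 16, 191452) (.node .leaf (51058, 0, 16, 220063) .leaf)) (51059, 0, 16, 207235) (.node (.node .leaf (51068,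 0, 18, 3422) .leaf) (51069, 0, 16, 63335) (.node .leaf (51070, 0, 17, 255276) .leaf)))) (51071, 0, 15, 113666) (.node (.node (.node (.node .leaf (51072, 0, 14, 162752) .leaf) (51073, 0, 14, 157168) (.node .leaf (51074, 0, 17, 103346) .leaf)) (51075, 0, 17, 248476) (.node (.node .leaf (51084, 0, 17, 60993) .leaf) (51085, 0, 14, 178031) (.node .leaf (51086, 0, 17, 117000) .leaf))) (51087, 0, 10, 76142) (.node (.node (.node .leaf (51092, 0, 17, 160299) .leaf) (51093, 0, 18, 9350) (.node .leaf (51094, 0, 18, 103621) .leaf)) (51095, 0, 12, 95395) (.node (.node .leaf (51096, 0, 17, 59306) .leaf) (51097, 0, 16, 179844) .leaf)))))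

/-- part of the orbit tree -/
def itp1_279 : Tree := (.node itp1_275 (50715, 0, 18, 131452) itp1_276)

/-- part of the orbit tree -/
def itp1_280 : Tree := (.node itp1_277 (50975, 0, 15, 116273) itp1_278)

/-- part of the orbit tree -/
def itp1_281 : Tree := (.node itp1_273 (50335, 0, 16, 248612) itp1_274)

/-- part of the orbit tree -/
def itp1_282 : Tree := (.node itp1_279 (50847, 0, 18, 62287) itp1_280)

/-- part of the orbit tree -/
def itp1_283 : Tree := (.node itp1_267 (49568, 0, 12, 47291) itp1_268)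

/-- part of the orbit tree -/
def itp1_284 : Tree := (.node itp1_281 (50590, 0, 15, 236845) itp1_282)

/-- part of the orbit tree -/
def itp1_285 : Tree := (.node (.node (.node (.node (.node (.node .leaf (51099, 0, 12, 87798) .leaf) (51104, 0, 17, 101987) (.node .leaf (51105, 0, 13, 90084) .leaf)) (51106, 0, 16, 56902) (.node (.node .leaf (51107, 0, 15, 15904) .leaf) (51116, 0, 17, 103243) (.node .leaf (51117, 0, 16, 225982) .leaf))) (51118, 0, 15, 180989) (.node (.node (.node .leaf (51119, 0, 18, 139931) .leaf) (51124, 0, 17, 200481) (.node .leaf (51125, 0, 15, 87567) .leaf)) (51126, 0, 17, 171824) (.node (.node .leaf (51127, 0, 16, 163670) .leaf) (51128, 0, 14, 119726) (.node .leaf (51129, 0, 17, 78792) .leaf)))) (51130, 0, 17, 160466) (.node (.node (.node (.node .leaf (51131, 0, 18, 11260) .leaf) (51136, 0, 16, 126736) (.node .leaf (51137, 0, 15, 69494) .leaf)) (51138, 0, 18, 48949) (.node (.node .leaf (51139, 0, 15, 24403) .leaf) (51148, 0, 8, 46795) (.node .leaf (51149, 0, 18, 201677) .leaf)))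 (51150, 0, 13, 220857) (.node (.node (.node .leaf (51151, 0, 15, 148456) .leaf) (51156, 0, 14, 141985) (.node .leaf (51157, 0, 16, 29583) .leaf)) (51158, 0, 18, 115411) (.node (.node .leaf (51159, 0, 11, 236541) .leaf) (51160, 0, 16, 48928) (.node .leaf (51161, 0, 14, 86715) .leaf))))) (51162, 0, 11, 218962) (.node (.node (.node (.node (.node .leaf (51163, 0, 17, 69244) .leaf) (51168, 0, 15, 189669) (.node .leaf (51169, 0, 15, 132227) .leaf)) (51170, 0, 13, 242880) (.node (.node .leaf (51171, 0, 17, 218278) .leaf) (51180, 0, 18, 63582) (.node .leaf (51181, 0, 15, 6200) .leaf))) (51182, 0, 15, 108667) (.node (.node (.node .leaf (51183, 0, 19, 31389) .leaf) (51188, 0, 17, 219051) (.node .leaf (51189, 0, 17, 69253) .leaf)) (51190, 0, 15, 49113) (.node (.node .leaf (51191, 0, 17, 190199) .leaf) (51192, 0, 18, 115242) (.node .leaf (51193, 0, 16, 236292) .leaf)))) (51194, 0, 15, 141912) (.node (.node (.node (.node .leaf (51195, 0, 19, 199019) .leaf) (51201, 0, 16, 6218) (.node .leaf (51202, 0, 13, 100831)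 .leaf)) (51205, 0, 16, 8553) (.node (.node .leaf (51206, 0, 15, 259778) .leaf) (51208, 0, 17, 187828) (.node .leaf (51211, 0, 14, 211565) .leaf))) (51212, 0, 17, 189591) (.node (.node (.node .leaf (51215, 0, 16, 83312) .leaf) (51216, 0, 17, 5979) (.node .leaf (51219, 0, 15, 208954) .leaf)) (51220, 0, 15, 178522) (.node (.node .leaf (51223, 0, 17, 252186) .leaf) (51225, 0, 16, 173289) (.node .leaf (51226, 0, 13, 202165) .leaf))))))

/-- part of the orbit tree -/
def itp1_286 : Tree := (.node (.node (.node (.node (.node (.node .leaf (51230, 0, 17, 92840) .leaf) (51233, 0, 16, 83337) (.node .leaf (51234, 0, 18, 62677) .leaf)) (51237, 0, 10, 207516) (.node (.node .leaf (51238, 0, 16, 170719) .leaf) (51240, 0, 16, 259643) (.node .leaf (51243, 0, 17, 26114) .leaf))) (51244, 0, 18, 100646) (.node (.node (.node .leaf (51247, 0, 15, 14458) .leaf) (51248, 0, 18, 92753) (.node .leaf (51251, 0, 14, 56077) .leaf)) (51252, 0, 17, 111279) (.node (.node .leaf (51255, 0, 14, 173072) .leaf) (51257, 0, 15, 252387) (.node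 .leaf (51258, 0, 19, 157887) .leaf)))) (51261, 0, 15, 227153) (.node (.node (.node (.node .leaf (51262, 0, 16, 6050) .leaf) (51265, 0, 15, 225996) (.node .leaf (51266, 0, 16, 180879) .leaf)) (51269, 0, 17, 216047) (.node (.node .leaf (51270, 0, 15, 195500) .leaf) (51272, 0, 18, 185275) (.node .leaf (51275, 0, 17, 1905) .leaf))) (51276, 0, 16, 44198) (.node (.node (.node .leaf (51279, 0, 17, 73210) .leaf) (51280, 0, 16, 20433) (.node .leaf (51283, 0, 17, 23228) .leaf)) (51284, 0, 18, 119772) (.node (.node .leaf (51287, 0, 16, 25503) .leaf) (51289, 0, 14, 195683) (.node .leaf (51290, 0, 17, 216383) .leaf))))) (51293, 0, 14, 33662) (.node (.node (.node (.node (.node .leaf (51294, 0, 15, 173665) .leaf) (51297, 0, 14, 72963) (.node .leaf (51298, 0, 18, 117114) .leaf)) (51301, 0, 16, 16410) (.node (.node .leaf (51302, 0, 16, 127065) .leaf) (51304, 0, 16, 179399) (.node .leaf (51307, 0, 13, 139245) .leaf))) (51308, 0, 19, 165348) (.node (.node (.node .leaf (51311, 0, 15, 24816) .leaf) (51312, 0, 18, 188682)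 (.node .leaf (51315, 0, 17, 217417) .leaf)) (51316, 0, 17, 216518) (.node (.node .leaf (51319, 0, 17, 223338) .leaf) (51321, 0, 18, 9460) (.node .leaf (51322, 0, 15, 103607) .leaf)))) (51325, 0, 17, 130676) (.node (.node (.node (.node .leaf (51326, 0, 17, 20264) .leaf) (51328, 0, 17, 159526) (.node .leaf (51331, 0, 17, 24728) .leaf)) (51332, 0, 16, 153093) (.node (.node .leaf (51335, 0, 17, 255558) .leaf) (51337, 0, 15, 43736) (.node .leaf (51338, 0, 18, 185130) .leaf))) (51341, 0, 18, 73067) (.node (.node (.node .leaf (51342, 0, 18, 44087) .leaf) (51345, 0, 17, 63253) (.node .leaf (51346, 0, 14, 20288) .leaf)) (51349, 0, 15, 229633) (.node (.node .leaf (51350, 0, 11, 97909) .leaf) (51352, 0, 16, 216494) (.node .leaf (51355, 0, 17, 195826) .leaf))))))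

/-- part of the orbit tree -/
def itp1_287 : Tree := (.node (.node (.node (.node (.node (.node .leaf (51359, 0, 19, 244619) .leaf) (51360, 0, 15, 91347) (.node .leaf (51363, 0, 15, 54416) .leaf)) (51364, 0, 19, 185299) (.node (.node .leaf (51367, 0, 18, 221839) .leaf) (51369, 0, 15, 139132) (.node .leaf (51370, 0, 17, 135534) .leaf))) (51373, 0, 12, 24673) (.node (.node (.node .leaf (51374, 0, 17, 141389) .leaf) (51377, 0, 15, 33558) (.node .leaf (51378, 0, 16, 150691) .leaf)) (51381, 0, 15, 247235) (.node (.node .leaf (51382, 0, 18, 161152) .leaf) (51384, 0, 14, 143524) (.node .leaf (51387, 0, 14, 35165) .leaf)))) (51388, 0, 15, 65597) (.node (.node (.node (.node .leaf (51391, 0, 17, 130789) .leaf) (51392, 0, 14, 66976) (.node .leaf (51395, 0, 18, 14354) .leaf)) (51396, 0, 10, 259667) (.node (.node .leaf (51399, 0, 16, 36032) .leaf) (51401, 0, 15, 211708) (.node .leaf (51402, 0, 15, 166816) .leaf))) (51405, 0, 13, 260477) (.node (.node (.node .leaf (51406, 0, 15, 149822) .leaf) (51409, 0, 16, 108182)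 (.node .leaf (51410, 0, 14, 142800) .leaf)) (51413, 0, 16, 252299) (.node (.node .leaf (51414, 0, 15, 136435) .leaf) (51416, 0, 16, 202020) (.node .leaf (51419, 0, 16, 59438) .leaf))))) (51420, 0, 13, 92729) (.node (.node (.node (.node (.node .leaf (51423, 0, 15, 56165) .leaf) (51424, 0, 13, 62532) (.node .leaf (51427, 0, 16, 83224) .leaf)) (51428, 0, 16, 145270) (.node (.node .leaf (51431, 0, 18, 231221) .leaf) (51433, 0, 17, 149494) (.node .leaf (51434, 0, 15, 259754) .leaf))) (51437, 0, 17, 62088) (.node (.node (.node .leaf (51438, 0, 19, 82635) .leaf) (51441, 0, 16, 38502) (.node .leaf (51442, 0, 17, 92864) .leaf)) (51445, 0, 15, 173185) (.node (.node .leaf (51446, 0, 15, 202205) .leaf) (51448, 0, 17, 152472) (.node .leaf (51451, 0, 17, 254939) .leaf)))) (51452, 0, 16, 158395) (.node (.node (.node (.node .leaf (51455, 0, 16, 108143) .leaf) (51456, 0, 13, 165454) (.node .leaf (51459, 0, 10, 210706) .leaf)) (51460, 0, 13, 63827) (.node (.node .leaf (51463, 0, 16, 185144) .leaf) (51465, 0, 16, 106406)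 (.node .leaf (51466, 0, 15, 12261) .leaf))) (51469, 0, 18, 150241) (.node (.node (.node .leaf (51470, 0, 14, 5830) .leaf) (51473, 0, 16, 174486) (.node .leaf (51474, 0, 15, 29224) .leaf)) (51477, 0, 17, 129864) (.node (.node .leaf (51478, 0, 16, 92119) .leaf) (51480, 0, 13, 198549) (.node .leaf (51483, 0, 15, 109432) .leaf))))))

/-- part of the orbit tree -/
def itp1_288 : Tree := (.node (.node (.node (.node (.node (.node .leaf (51487, 0, 16, 250981) .leaf) (51488, 0, 17, 20909) (.node .leaf (51491, 0, 16, 123374) .leaf)) (51492, 0, 17, 26766) (.node (.node .leaf (51495, 0, 17, 13573) .leaf) (51497, 0, 16, 169043) (.node .leaf (51498, 0, 19, 205840) .leaf))) (51501, 0, 15, 210923) (.node (.node (.node .leaf (51502, 0, 10, 165559) .leaf) (51505, 0, 18, 182686) (.node .leaf (51506, 0, 17, 227805) .leaf)) (51509, 0, 17, 109441) (.node (.node .leaf (51510, 0, 16, 213246) .leaf) (51512, 0, 12, 3168) (.node .leaf (51515, 0, 15, 113699) .leaf)))) (51516, 0, 16, 202803) (.node (.node (.node (.node .leaf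 (51519, 0, 14, 99584) .leaf) (51520, 0, 14, 12510) (.node .leaf (51523, 0, 15, 225176) .leaf)) (51524, 0, 15, 41433) (.node (.node .leaf (51527, 0, 18, 69765) .leaf) (51529, 0, 14, 193824) (.node .leaf (51530, 0, 14, 214371) .leaf))) (51533, 0, 15, 183299) (.node (.node (.node .leaf (51534, 0, 18, 238391) .leaf) (51537, 0, 15, 192796) (.node .leaf (51538, 0, 15, 202926) .leaf)) (51541, 0, 16, 36353) (.node (.node .leaf (51542, 0, 15, 205197) .leaf) (51544, 0, 15, 17070) (.node .leaf (51547, 0, 16, 127986) .leaf))))) (51548, 0, 16, 146867) (.node (.node (.node (.node (.node .leaf (51551, 0, 16, 124019) .leaf) (51552, 0, 10, 238542) (.node .leaf (51555, 0, 15, 166760) .leaf)) (51556, 0, 18, 197128) (.node (.node .leaf (51559, 0, 17, 176715) .leaf) (51561, 0, 17, 69756) (.node .leaf (51562, 0, 16, 20118) .leaf))) (51565, 0, 16, 116726) (.node (.node (.node .leaf (51566, 0, 14, 30645) .leaf) (51569, 0, 11, 107288) (.node .leaf (51570, 0, 17, 146762) .leaf)) (51573, 0, 16, 127755) (.node (.node .leaf (51574,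 0, 18, 16983) .leaf) (51576, 0, 16, 222950) (.node .leaf (51579, 0, 17, 186021) .leaf)))) (51580, 0, 14, 221125) (.node (.node (.node (.node .leaf (51583, 0, 17, 192997) .leaf) (51585, 0, 18, 225033) (.node .leaf (51586, 0, 18, 187989) .leaf)) (51589, 0, 13, 69652) (.node (.node .leaf (51590, 0, 14, 42068) .leaf) (51592, 0, 15, 122043) (.node .leaf (51595, 0, 17, 28135) .leaf))) (51596, 0, 16, 238502) (.node (.node (.node .leaf (51599, 0, 15, 156074) .leaf) (51600, 0, 17, 213201) (.node .leaf (51603, 0, 14, 192909) .leaf)) (51604, 0, 14, 81868) (.node (.node .leaf (51607, 0, 16, 36496) .leaf) (51609, 0, 16, 127843) (.node .leaf (51610, 0, 16, 49338) .leaf))))))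

/-- part of the orbit tree -/
def itp1_289 : Tree := (.node itp1_285 (51229, 0, 16, 56308) itp1_286)

/-- part of the orbit tree -/
def itp1_290 : Tree := (.node itp1_287 (51484, 0, 16, 212662) itp1_288)

/-- part of the orbit tree -/
def itp1_291 : Tree := (.node (.node (.node (.node (.node (.node .leaf (51614, 0, 17, 146722) .leaf) (51617, 0, 17, 140993) (.node .leaf (51618, 0, 17, 238431) .leaf)) (51621, 0, 17, 139234) (.node (.node .leaf (51622, 0, 15, 121922) .leaf) (51624, 0, 16, 58175) (.node .leaf (51627, 0, 16, 86908) .leaf))) (51628, 0, 17, 55836) (.node (.node (.node .leaf (51631, 0, 17, 225264) .leaf) (51632, 0, 15, 48882) (.node .leaf (51635, 0, 17, 69297) .leaf)) (51636, 0, 16, 17094) (.node (.node .leaf (51639, 0, 17, 127898) .leaf) (51641, 0, 15, 162572) (.node .leaf (51642, 0, 18, 81717) .leaf)))) (51645, 0, 17, 148015) (.node (.node (.node (.node .leaf (51646, 0, 12, 213032) .leaf) (51649, 0, 15, 149426) (.node .leaf (51650, 0, 17, 165599) .leaf)) (51653, 0, 18, 84126) (.node (.node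 .leaf (51654, 0, 17, 249554) .leaf) (51656, 0, 18, 99377) (.node .leaf (51659, 0, 17, 78351) .leaf))) (51660, 0, 16, 47983) (.node (.node (.node .leaf (51663, 0, 17, 68396) .leaf) (51664, 0, 15, 57217) (.node .leaf (51667, 0, 15, 174343) .leaf)) (51668, 0, 14, 59042) (.node (.node .leaf (51671, 0, 17, 54810) .leaf) (51673, 0, 15, 137855) (.node .leaf (51674, 0, 17, 240188) .leaf))))) (51677, 0, 16, 140124) (.node (.node (.node (.node (.node .leaf (51678, 0, 6, 157096) .leaf) (51681, 0, 14, 150153) (.node .leaf (51682, 0, 15, 261077) .leaf)) (51685, 0, 15, 95588) (.node (.node .leaf (51686, 0, 15, 50471) .leaf) (51688, 0, 14, 231865) (.node .leaf (51691, 0, 17, 145914) .leaf))) (51692, 0, 17, 165414) (.node (.node (.node .leaf (51695, 0, 13, 131289) .leaf) (51696, 0, 14, 250996) (.node .leaf (51699, 0, 14, 250893) .leaf)) (51700, 0, 17, 257367) (.node (.node .leaf (51703, 0, 15, 154900) .leaf) (51705, 0, 7, 70026) (.node .leaf (51706, 0, 17, 92095) .leaf)))) (51709, 0, 18, 174590) (.node (.node (.node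 (.node .leaf (51710, 0, 13, 202914) .leaf) (51712, 0, 11, 156801) (.node .leaf (51713, 0, 17, 13370) .leaf)) (51716, 0, 17, 7068) (.node (.node .leaf (51717, 0, 14, 3353) .leaf) (51722, 0, 15, 91759) (.node .leaf (51723, 0, 17, 212801) .leaf))) (51726, 0, 15, 235714) (.node (.node (.node .leaf (51727, 0, 17, 227492) .leaf) (51730, 0, 15, 261164) (.node .leaf (51731, 0, 16, 107307) .leaf)) (51734, 0, 14, 99608) (.node (.node .leaf (51735, 0, 16, 252982) .leaf) (51736, 0, 15, 35217) (.node .leaf (51737, 0, 14, 27127) .leaf))))))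

/-- part of the orbit tree -/
def itp1_292 : Tree := (.node (.node (.node (.node (.node (.node .leaf (51741, 0, 16, 57048) .leaf) (51744, 0, 13, 253865) (.node .leaf (51745, 0, 17, 82085) .leaf)) (51748, 0, 14, 255626) (.node (.node .leaf (51749, 0, 16, 198380) .leaf) (51754, 0, 17, 7013) (.node .leaf (51755, 0, 16, 148043) .leaf))) (51758, 0, 15, 37687) (.node (.node (.node .leaf (51759, 0, 16, 29521) .leaf) (51762, 0, 15, 165647) (.node .leaf (51763, 0, 14, 56865) .leaf)) (51766, 0, 14, 63506) (.node (.node .leaf (51767, 0, 15, 172348) .leaf) (51768, 0, 17, 229988) (.node .leaf (51769, 0, 15, 253135) .leaf)))) (51772, 0, 15, 260860) (.node (.node (.node (.node .leaf (51773, 0, 17, 219937) .leaf) (51776, 0, 16, 245466) (.node .leaf (51777, 0, 18, 220860) .leaf)) (51780, 0, 13, 17174) (.node (.node .leaf (51781, 0, 18, 223135) .leaf) (51786, 0, 15, 81637) (.node .leaf (51787, 0, 17, 11009) .leaf))) (51790, 0, 17, 62020) (.node (.node (.node .leaf (51791, 0, 14, 71894) .leaf) (51794, 0, 16, 38570)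 (.node .leaf (51795, 0, 18, 129953) .leaf)) (51798, 0, 13, 44937) (.node (.node .leaf (51799, 0, 17, 230588) .leaf) (51800, 0, 16, 41057) (.node .leaf (51801, 0, 19, 197489) .leaf))))) (51804, 0, 17, 252468) (.node (.node (.node (.node (.node .leaf (51805, 0, 15, 211538) .leaf) (51808, 0, 17, 46383) (.node .leaf (51809, 0, 12, 71727) .leaf)) (51812, 0, 15, 35852) (.node (.node .leaf (51813, 0, 17, 27754) .leaf) (51818, 0, 15, 17391) (.node .leaf (51819, 0, 16, 205044) .leaf))) (51822, 0, 17, 146674) (.node (.node (.node .leaf (51823, 0, 16, 26076) .leaf) (51826, 0, 14, 236895) (.node .leaf (51827, 0, 16, 34475) .leaf)) (51830, 0, 16, 238716) (.node (.node .leaf (51831, 0, 16, 214042) .leaf) (51832, 0, 17, 122219) (.node .leaf (51833, 0, 16, 2180) .leaf)))) (51836, 0, 15, 238198) (.node (.node (.node (.node .leaf (51837, 0, 14, 12711) .leaf) (51842, 0, 17, 146586) (.node .leaf (51843, 0, 16, 258837) .leaf)) (51846, 0, 14, 17287) (.node (.node .leaf (51847, 0, 14, 137897) .leaf) (51848, 0, 17, 81524)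 (.node .leaf (51849, 0, 14, 34472) .leaf))) (51852, 0, 12, 213353) (.node (.node (.node .leaf (51853, 0, 17, 71751) .leaf) (51856, 0, 17, 238110) (.node .leaf (51857, 0, 15, 56165) .leaf)) (51860, 0, 18, 544) (.node (.node .leaf (51861, 0, 12, 57926) .leaf) (51866, 0, 15, 216766) (.node .leaf (51867, 0, 17, 195038) .leaf))))))

/-- part of the orbit tree -/
def itp1_293 : Tree := (.node (.node (.node (.node (.node (.node .leaf (51871, 0, 17, 235515) .leaf) (51874, 0, 15, 6278) (.node .leaf (51875, 0, 15, 63712) .leaf)) (51878, 0, 11, 81549) (.node (.node .leaf (51879, 0, 14, 49603) .leaf) (51880, 0, 16, 17278) (.node .leaf (51881, 0, 16, 137808) .leaf))) (51884, 0, 15, 146531) (.node (.node (.node .leaf (51885, 0, 19, 25933) .leaf) (51888, 0, 15, 209142) (.node .leaf (51889, 0, 15, 250000) .leaf)) (51892, 0, 15, 40969) (.node (.node .leaf (51893, 0, 17, 256435) .leaf) (51898, 0, 16, 122362) (.node .leaf (51899, 0, 18, 230612) .leaf)))) (51902, 0, 12, 31848) (.node (.node (.node (.node .leaf (51903,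 0, 11, 129993) .leaf) (51906, 0, 17, 156688) (.node .leaf (51907, 0, 17, 15678) .leaf)) (51910, 0, 16, 16598) (.node (.node .leaf (51911, 0, 17, 148003) .leaf) (51912, 0, 17, 91902) (.node .leaf (51913, 0, 16, 212944) .leaf))) (51916, 0, 17, 210283) (.node (.node (.node .leaf (51917, 0, 16, 251149) .leaf) (51920, 0, 16, 217477) (.node .leaf (51921, 0, 13, 107450) .leaf)) (51924, 0, 17, 99721) (.node (.node .leaf (51925, 0, 17, 253095) .leaf) (51930, 0, 17, 63610) (.node .leaf (51931, 0, 19, 50270) .leaf))))) (51934, 0, 17, 7451) (.node (.node (.node (.node (.node .leaf (51935, 0, 18, 64893) .leaf) (51938, 0, 17, 203034) (.node .leaf (51939, 0, 17, 234086) .leaf)) (51942, 0, 12, 91655) (.node (.node .leaf (51943, 0, 17, 240453) .leaf) (51944, 0, 15, 7156) (.node .leaf (51945, 0, 15, 59355) .leaf))) (51948, 0, 15, 156905) (.node (.node (.node .leaf (51949, 0, 17, 57080) .leaf) (51952, 0, 16, 165790) (.node .leaf (51953, 0, 11, 47638) .leaf)) (51956, 0, 15, 63619) (.node (.node .leaf (51957, 0, 13, 172461)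 .leaf) (51962, 0, 15, 208845) (.node .leaf (51963, 0, 19, 253022) .leaf)))) (51966, 0, 16, 260717) (.node (.node (.node (.node .leaf (51967, 0, 16, 259720) .leaf) (51970, 0, 18, 140813) (.node .leaf (51971, 0, 16, 181867) .leaf)) (51974, 0, 11, 139054) (.node (.node .leaf (51975, 0, 16, 85283) .leaf) (51976, 0, 18, 86960) (.node .leaf (51977, 0, 16, 111574) .leaf))) (51980, 0, 16, 92819) (.node (.node (.node .leaf (51981, 0, 15, 101109) .leaf) (51984, 0, 15, 69245) (.node .leaf (51985, 0, 17, 175290) .leaf)) (51988, 0, 18, 166537) (.node (.node .leaf (51989, 0, 17, 120632) .leaf) (51994, 0, 14, 162752) (.node .leaf (51995, 0, 16, 170918) .leaf))))))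

/-- part of the orbit tree -/
def itp1_294 : Tree := (.node (.node (.node (.node (.node (.node .leaf (51999, 0, 15, 172677) .leaf) (52002, 0, 15, 77304) (.node .leaf (52003, 0, 15, 118174) .leaf)) (52006, 0, 16, 70875) (.node (.node .leaf (52007, 0, 17, 12329) .leaf) (52008, 0, 16, 201972) (.node .leaf (52009, 0, 15, 85466) .leaf))) (52012, 0, 11, 93161) (.node (.node (.node .leaf (52013, 0, 15, 164096) .leaf) (52016, 0, 17, 132488) (.node .leaf (52017, 0, 18, 250288) .leaf)) (52020, 0, 16, 259971) (.node (.node .leaf (52021, 0, 15, 110253) .leaf) (52026, 0, 17, 94261) (.node .leaf (52027, 0, 15, 54110) .leaf)))) (52030, 0, 16, 84246) (.node (.node (.node (.node .leaf (52031, 0, 16, 108912) .leaf) (52034, 0, 14, 85131) (.node .leaf (52035, 0, 18, 223924) .leaf)) (52038, 0, 17, 95656) (.node (.node .leaf (52039, 0, 17, 103886) .leaf) (52040, 0, 18, 145718) (.node .leaf (52041, 0, 17, 26714) .leaf))) (52044, 0, 15, 131093) (.node (.node (.node .leaf (52045, 0, 17, 137031) .leaf) (52048, 0, 18, 156923)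 (.node .leaf (52049, 0, 16, 193584) .leaf)) (52052, 0, 17, 184835) (.node (.node .leaf (52053, 0, 12, 35629) .leaf) (52058, 0, 16, 241648) (.node .leaf (52059, 0, 17, 127264) .leaf))))) (52062, 0, 17, 119021) (.node (.node (.node (.node (.node .leaf (52063, 0, 16, 231875) .leaf) (52066, 0, 12, 149374) (.node .leaf (52067, 0, 15, 173848) .leaf)) (52070, 0, 16, 143757) (.node (.node .leaf (52071, 0, 16, 171579) .leaf) (52072, 0, 15, 216190) (.node .leaf (52073, 0, 17, 70992) .leaf))) (52076, 0, 16, 68576) (.node (.node (.node .leaf (52077, 0, 16, 223821) .leaf) (52080, 0, 13, 118804) (.node .leaf (52081, 0, 12, 102248) .leaf)) (52084, 0, 16, 87597) (.node (.node .leaf (52085, 0, 15, 112203) .leaf) (52090, 0, 17, 137907) (.node .leaf (52091, 0, 18, 195285) .leaf)))) (52094, 0, 18, 140176) (.node (.node (.node (.node .leaf (52095, 0, 12, 181238) .leaf) (52096, 0, 17, 123170) (.node .leaf (52097, 0, 14, 65860) .leaf)) (52100, 0, 12, 120833) (.node (.node .leaf (52101, 0, 14, 79975) .leaf) (52106, 0, 17,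 143845) (.node .leaf (52107, 0, 16, 161017) .leaf))) (52110, 0, 15, 175548) (.node (.node (.node .leaf (52111, 0, 14, 151002) .leaf) (52114, 0, 13, 44431) (.node .leaf (52115, 0, 14, 141620) .leaf)) (52118, 0, 18, 192625) (.node (.node .leaf (52119, 0, 16, 135191) .leaf) (52120, 0, 17, 113903) .leaf)))))

/-- part of the orbit tree -/
def itp1_295 : Tree := (.node itp1_291 (51740, 0, 18, 45234) itp1_292)

/-- part of the orbit tree -/
def itp1_296 : Tree := (.node itp1_293 (51998, 0, 16, 148195) itp1_294)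

/-- part of the orbit tree -/
def itp1_297 : Tree := (.node itp1_289 (51356, 0, 17, 134088) itp1_290)

/-- part of the orbit tree -/
def itp1_298 : Tree := (.node itp1_295 (51870, 0, 15, 188397) itp1_296)

/-- part of the orbit tree -/
def itp1_299 : Tree := (.node (.node (.node (.node (.node (.node .leaf (52124, 0, 17, 99788) .leaf) (52125, 0, 8, 231762) (.node .leaf (52128, 0, 16, 191191) .leaf)) (52129, 0, 16, 137007) (.node (.node .leaf (52132, 0, 19, 185332) .leaf) (52133, 0, 17, 144274) (.node .leaf (52138, 0, 11, 106346) .leaf))) (52139, 0, 18, 71105) (.node (.node (.node .leaf (52142, 0, 14, 108105) .leaf) (52143, 0, 14, 83503) (.node .leaf (52146, 0, 16, 118917) .leaf)) (52147, 0, 15, 231851) (.node (.node .leaf (52150, 0, 15, 241560) .leaf) (52151, 0, 15, 72674) (.node .leaf (52152, 0, 14, 184939) .leaf)))) (52153, 0, 17, 153468) (.node (.node (.node (.node .leaf (52156, 0, 13, 44406) .leaf) (52157, 0, 17, 193624) (.node .leaf (52160, 0, 17, 93057) .leaf)) (52161, 0, 17, 209583) (.node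 (.node .leaf (52164, 0, 16, 201884) .leaf) (52165, 0, 18, 152289) (.node .leaf (52170, 0, 15, 158063) .leaf))) (52171, 0, 13, 73343) (.node (.node (.node .leaf (52174, 0, 13, 5746) .leaf) (52175, 0, 15, 151388) (.node .leaf (52178, 0, 18, 107476) .leaf)) (52179, 0, 16, 82866) (.node (.node .leaf (52182, 0, 16, 105207) .leaf) (52183, 0, 9, 54070) (.node .leaf (52184, 0, 12, 260075) .leaf))))) (52185, 0, 17, 144911) (.node (.node (.node (.node (.node .leaf (52188, 0, 8, 100598) .leaf) (52189, 0, 17, 250328) (.node .leaf (52192, 0, 16, 5771) .leaf)) (52193, 0, 18, 90167) (.node (.node .leaf (52196, 0, 14, 158102) .leaf) (52197, 0, 17, 88340) (.node .leaf (52202, 0, 14, 201829) .leaf))) (52203, 0, 17, 85323) (.node (.node (.node .leaf (52206, 0, 17, 183503) .leaf) (52207, 0, 13, 209494) (.node .leaf (52210, 0, 16, 174113) .leaf)) (52211, 0, 15, 250145) (.node (.node .leaf (52214, 0, 17, 168194) .leaf) (52215, 0, 16, 160100) (.node .leaf (52216, 0, 16, 122268) .leaf)))) (52217, 0, 17, 81402) (.node (.node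 (.node (.node .leaf (52220, 0, 14, 62972) .leaf) (52221, 0, 15, 175314) (.node .leaf (52224, 0, 15, 93273) .leaf)) (52226, 0, 16, 164907) (.node (.node .leaf (52228, 0, 17, 121767) .leaf) (52230, 0, 16, 35714) (.node .leaf (52233, 0, 18, 206714) .leaf))) (52235, 0, 14, 14233) (.node (.node (.node .leaf (52237, 0, 16, 106742) .leaf) (52239, 0, 17, 149636) (.node .leaf (52241, 0, 17, 82817) .leaf)) (52243, 0, 17, 175091) (.node (.node .leaf (52245, 0, 15, 213908) .leaf) (52247, 0, 15, 136113) (.node .leaf (52248, 0, 16, 114505) .leaf))))))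

/-- part of the orbit tree -/
def itp1_300 : Tree := (.node (.node (.node (.node (.node (.node .leaf (52252, 0, 17, 99946) .leaf) (52254, 0, 16, 54863) (.node .leaf (52256, 0, 14, 190833) .leaf)) (52258, 0, 17, 260385) (.node (.node .leaf (52260, 0, 17, 159310) .leaf) (52262, 0, 15, 229495) (.node .leaf (52265, 0, 16, 172769) .leaf))) (52267, 0, 18, 84627) (.node (.node (.node .leaf (52269, 0, 16, 56828) .leaf) (52271, 0, 16, 83337) (.node .leaf (52273, 0, 13, 28994) .leaf)) (52275, 0, 18, 74087) (.node (.node .leaf (52277, 0, 15, 18529) .leaf) (52279, 0, 18, 71748) (.node .leaf (52280, 0, 12, 177340) .leaf)))) (52282, 0, 16, 255129) (.node (.node (.node (.node .leaf (52284, 0, 14, 61988) .leaf) (52286, 0, 15, 203350) (.node .leaf (52288, 0, 15, 79059) .leaf)) (52290, 0, 15, 251943) (.node (.node .leaf (52292, 0, 16, 216014) .leaf) (52294, 0, 16, 254212) (.node .leaf (52297, 0, 16, 231265) .leaf))) (52299, 0, 14, 73177) (.node (.node (.node .leaf (52301, 0, 16, 129148) .leaf) (52303, 0, 16, 75002)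 (.node .leaf (52305, 0, 16, 72459) .leaf)) (52307, 0, 16, 81940) (.node (.node .leaf (52309, 0, 15, 10514) .leaf) (52311, 0, 16, 35940) (.node .leaf (52312, 0, 16, 185807) .leaf))))) (52314, 0, 15, 230890) (.node (.node (.node (.node (.node .leaf (52316, 0, 17, 120740) .leaf) (52318, 0, 16, 147414) (.node .leaf (52320, 0, 15, 99319) .leaf)) (52322, 0, 14, 54226) (.node (.node .leaf (52324, 0, 16, 145092) .leaf) (52326, 0, 17, 60145) (.node .leaf (52329, 0, 16, 195179) .leaf))) (52331, 0, 12, 136748) (.node (.node (.node .leaf (52333, 0, 16, 34166) .leaf) (52335, 0, 8, 224516) (.node .leaf (52337, 0, 14, 26113) .leaf)) (52339, 0, 16, 150497) (.node (.node .leaf (52341, 0, 15, 137500) .leaf) (52343, 0, 16, 127342) (.node .leaf (52344, 0, 17, 122426) .leaf)))) (52346, 0, 13, 36383) (.node (.node (.node (.node .leaf (52348, 0, 16, 43694) .leaf) (52350, 0, 17, 46908) (.node .leaf (52353, 0, 13, 34078) .leaf)) (52355, 0, 16, 224620) (.node (.node .leaf (52357, 0, 18, 240843) .leaf) (52359, 0, 18, 70257)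 (.node .leaf (52360, 0, 16, 86038) .leaf))) (52362, 0, 16, 51) (.node (.node (.node .leaf (52364, 0, 15, 92469) .leaf) (52366, 0, 15, 14608) (.node .leaf (52368, 0, 15, 43718) .leaf)) (52370, 0, 16, 213684) (.node (.node .leaf (52372, 0, 18, 79096) .leaf) (52374, 0, 16, 25821) (.node .leaf (52377, 0, 13, 247845) .leaf))))))

/-- part of the orbit tree -/
def itp1_301 : Tree := (.node (.node (.node (.node (.node (.node .leaf (52381, 0, 18, 258310) .leaf) (52383, 0, 17, 172323) (.node .leaf (52385, 0, 15, 40477) .leaf)) (52387, 0, 15, 118328) (.node (.node .leaf (52389, 0, 16, 231177) .leaf) (52391, 0, 15, 128795) (.node .leaf (52392, 0, 17, 215974) .leaf))) (52394, 0, 18, 199622) (.node (.node (.node .leaf (52396, 0, 16, 79035) .leaf) (52398, 0, 18, 209637) (.node .leaf (52400, 0, 15, 132654) .leaf)) (52402, 0, 12, 147390) (.node (.node .leaf (52404, 0, 14, 147213) .leaf) (52406, 0, 15, 225064) (.node .leaf (52409, 0, 18, 222334) .leaf)))) (52411, 0, 15, 35852) (.node (.node (.node (.node .leaf (52413,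 0, 16, 64243) .leaf) (52415, 0, 18, 109270) (.node .leaf (52417, 0, 18, 65390) .leaf)) (52419, 0, 16, 110411) (.node (.node .leaf (52421, 0, 14, 172681) .leaf) (52423, 0, 18, 84731) (.node .leaf (52424, 0, 16, 159270) .leaf))) (52426, 0, 15, 99924) (.node (.node (.node .leaf (52428, 0, 16, 4411) .leaf) (52430, 0, 12, 260425) (.node .leaf (52432, 0, 15, 62028) .leaf)) (52434, 0, 13, 203326) (.node (.node .leaf (52436, 0, 15, 155262) .leaf) (52438, 0, 14, 91427) (.node .leaf (52441, 0, 12, 147966) .leaf))))) (52443, 0, 8, 108940) (.node (.node (.node (.node (.node .leaf (52445, 0, 15, 16099) .leaf) (52447, 0, 16, 117669) (.node .leaf (52449, 0, 16, 259227) .leaf)) (52451, 0, 18, 149740) (.node (.node .leaf (52453, 0, 16, 253827) .leaf) (52455, 0, 13, 171421) (.node .leaf (52456, 0, 17, 201516) .leaf))) (52458, 0, 18, 24896) (.node (.node (.node .leaf (52460, 0, 19, 67654) .leaf) (52462, 0, 16, 164931) (.node .leaf (52464, 0, 16, 102214) .leaf)) (52466, 0, 16, 157492) (.node (.node .leaf (52468, 0, 15,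 87435) .leaf) (52470, 0, 15, 6185) (.node .leaf (52473, 0, 18, 212212) .leaf)))) (52475, 0, 14, 54406) (.node (.node (.node (.node .leaf (52477, 0, 16, 82921) .leaf) (52479, 0, 15, 175003) (.node .leaf (52481, 0, 14, 172182) .leaf)) (52483, 0, 10, 258227) (.node (.node .leaf (52485, 0, 18, 170421) .leaf) (52487, 0, 13, 248208) (.node .leaf (52488, 0, 16, 25960) .leaf))) (52490, 0, 16, 79181) (.node (.node (.node .leaf (52492, 0, 14, 23627) .leaf) (52494, 0, 16, 63049) (.node .leaf (52496, 0, 13, 14501) .leaf)) (52498, 0, 18, 5438) (.node (.node .leaf (52500, 0, 13, 390) .leaf) (52502, 0, 16, 158243) (.node .leaf (52505, 0, 13, 195931) .leaf))))))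

/-- part of the orbit tree -/
def itp1_302 : Tree := (.node (.node (.node (.node (.node (.node .leaf (52509, 0, 14, 181368) .leaf) (52511, 0, 17, 234589) (.node .leaf (52513, 0, 16, 109411) .leaf)) (52515, 0, 16, 83948) (.node (.node .leaf (52517, 0, 16, 102976) .leaf) (52519, 0, 17, 49765) (.node .leaf (52520, 0, 17, 224925) .leaf))) (52522, 0, 17, 259166) (.node (.node (.node .leaf (52524, 0, 18, 156465) .leaf) (52526, 0, 17, 101187) (.node .leaf (52528, 0, 17, 163910) .leaf)) (52530, 0, 13, 156533) (.node (.node .leaf (52532, 0, 14, 65371) .leaf) (52534, 0, 15, 202537) (.node .leaf (52537, 0, 16, 13300) .leaf)))) (52539, 0, 17, 42635) (.node (.node (.node (.node .leaf (52541, 0, 14, 150761) .leaf) (52543, 0, 17, 40872) (.node .leaf (52545, 0, 17, 231966) .leaf)) (52547, 0, 17, 39477) (.node (.node .leaf (52549, 0, 13, 127795) .leaf) (52551, 0, 18, 41750) (.node .leaf (52552, 0, 15, 80300) .leaf))) (52554, 0, 16, 155595) (.node (.node (.node .leaf (52556, 0, 12, 214705) .leaf) (52558, 0, 17, 157416)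 (.node .leaf (52560, 0, 15, 217635) .leaf)) (52562, 0, 17, 19892) (.node (.node .leaf (52564, 0, 14, 224000) .leaf) (52566, 0, 17, 146213) (.node .leaf (52569, 0, 14, 104413) .leaf))))) (52571, 0, 17, 196102) (.node (.node (.node (.node (.node .leaf (52573, 0, 14, 223593) .leaf) (52575, 0, 16, 65243) (.node .leaf (52577, 0, 14, 194324) .leaf)) (52579, 0, 15, 73574) (.node (.node .leaf (52581, 0, 17, 194758) .leaf) (52583, 0, 14, 221307) (.node .leaf (52584, 0, 16, 17574) .leaf))) (52586, 0, 16, 87102) (.node (.node (.node .leaf (52588, 0, 15, 15672) .leaf) (52590, 0, 16, 93469) (.node .leaf (52592, 0, 17, 22998) .leaf)) (52594, 0, 15, 78014) (.node (.node .leaf (52596, 0, 18, 42961) .leaf) (52598, 0, 17, 216995) (.node .leaf (52601, 0, 18, 171048) .leaf)))) (52603, 0, 11, 248845) (.node (.node (.node (.node .leaf (52605, 0, 14, 173323) .leaf) (52607, 0, 17, 130065) (.node .leaf (52608, 0, 17, 55290) .leaf)) (52610, 0, 15, 100319) (.node (.node .leaf (52612, 0, 15, 17614) .leaf) (52614, 0, 15, 240828)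 (.node .leaf (52617, 0, 16, 34913) .leaf))) (52619, 0, 15, 221203) (.node (.node (.node .leaf (52621, 0, 17, 142119) .leaf) (52623, 0, 16, 73486) (.node .leaf (52625, 0, 19, 151497) .leaf)) (52627, 0, 16, 130169) (.node (.node .leaf (52629, 0, 12, 161514) .leaf) (52631, 0, 14, 206543) (.node .leaf (52632, 0, 17, 35383) .leaf))))))

/-- part of the orbit tree -/
def itp1_303 : Tree := (.node itp1_299 (52250, 0, 15, 61292) itp1_300)

/-- part of the orbit tree -/
def itp1_304 : Tree := (.node itp1_301 (52507, 0, 15, 241022) itp1_302)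

/-- part of the orbit tree -/
def itp1_305 : Tree := (.node (.node (.node (.node (.node (.node .leaf (52636, 0, 15, 186532) .leaf) (52638, 0, 11, 78038) (.node .leaf (52640, 0, 13, 214745) .leaf)) (52642, 0, 16, 44715) (.node (.node .leaf (52644, 0, 16, 80324) .leaf) (52646, 0, 13, 177417) (.node .leaf (52649, 0, 15, 72177) .leaf))) (52651, 0, 16, 18900) (.node (.node (.node .leaf (52653, 0, 16, 232054) .leaf) (52655, 0, 17, 28919) (.node .leaf (52657, 0, 17, 83004) .leaf)) (52659, 0, 12, 33139) (.node (.node .leaf (52661, 0, 17, 97567) .leaf) (52663, 0, 17, 196206) (.node .leaf (52664, 0, 16, 121523) .leaf)))) (52666, 0, 14, 184807) (.node (.node (.node (.node .leaf (52668, 0, 17, 239022) .leaf) (52670, 0, 18, 19932) (.node .leaf (52672, 0, 17, 156505) .leaf)) (52674, 0, 17, 191833) (.node (.node .leaf (52676, 0, 18, 7236) .leaf) (52678, 0, 16, 259126) (.node .leaf (52681, 0, 18, 96386) .leaf))) (52683, 0, 14, 211097) (.node (.node (.node .leaf (52685, 0, 17, 82337) .leaf) (52687, 0, 17, 4484) (.node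 .leaf (52689, 0, 18, 150657) .leaf)) (52691, 0, 16, 107763) (.node (.node .leaf (52693, 0, 15, 13212) .leaf) (52695, 0, 15, 19529) (.node .leaf (52696, 0, 13, 65331) .leaf))))) (52698, 0, 14, 202561) (.node (.node (.node (.node (.node .leaf (52700, 0, 17, 252306) .leaf) (52702, 0, 12, 92252) (.node .leaf (52704, 0, 15, 204371) .leaf)) (52706, 0, 17, 63009) (.node (.node .leaf (52708, 0, 8, 36778) .leaf) (52710, 0, 13, 166204) (.node .leaf (52713, 0, 15, 160631) .leaf))) (52715, 0, 12, 148883) (.node (.node (.node .leaf (52717, 0, 16, 250620) .leaf) (52719, 0, 16, 14990) (.node .leaf (52721, 0, 16, 209291) .leaf)) (52723, 0, 16, 55801) (.node (.node .leaf (52725, 0, 15, 85654) .leaf) (52727, 0, 18, 214972) (.node .leaf (52728, 0, 15, 98873) .leaf)))) (52730, 0, 13, 113505) (.node (.node (.node (.node .leaf (52732, 0, 16, 261412) .leaf) (52734, 0, 15, 5462) (.node .leaf (52744, 0, 15, 256876) .leaf)) (52745, 0, 17, 199434) (.node (.node .leaf (52746, 0, 19, 179017) .leaf) (52747, 0, 15, 154415) (.node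 .leaf (52748, 0, 16, 261364) .leaf))) (52749, 0, 15, 209449) (.node (.node (.node .leaf (52750, 0, 18, 5254) .leaf) (52751, 0, 14, 156172) (.node .leaf (52752, 0, 16, 204675) .leaf)) (52753, 0, 15, 83629) (.node (.node .leaf (52754, 0, 16, 190084) .leaf) (52755, 0, 17, 175839) (.node .leaf (52756, 0, 16, 233346) .leaf))))))

/-- part of the orbit tree -/
def itp1_306 : Tree := (.node (.node (.node (.node (.node (.node .leaf (52758, 0, 14, 188327) .leaf) (52759, 0, 13, 53698) (.node .leaf (52776, 0, 14, 65251) .leaf)) (52777, 0, 18, 174029) (.node (.node .leaf (52778, 0, 15, 202385) .leaf) (52779, 0, 16, 86234) (.node .leaf (52780, 0, 15, 164350) .leaf))) (52781, 0, 14, 55504) (.node (.node (.node .leaf (52782, 0, 17, 100767) .leaf) (52783, 0, 15, 92665) (.node .leaf (52784, 0, 17, 156297) .leaf)) (52785, 0, 15, 23858) (.node (.node .leaf (52786, 0, 17, 101115) .leaf) (52787, 0, 16, 250837) (.node .leaf (52788, 0, 17, 7572) .leaf)))) (52789, 0, 15, 148666) (.node (.node (.node (.node .leaf (52790,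 0, 17, 119890) .leaf) (52791, 0, 17, 78900) (.node .leaf (52808, 0, 16, 33258) .leaf)) (52809, 0, 15, 229965) (.node (.node .leaf (52810, 0, 18, 119247) .leaf) (52811, 0, 14, 78249) (.node .leaf (52812, 0, 16, 47305) .leaf))) (52813, 0, 18, 22703) (.node (.node (.node .leaf (52814, 0, 15, 125164) .leaf) (52815, 0, 17, 136482) (.node .leaf (52816, 0, 16, 214793) .leaf)) (52817, 0, 16, 15425) (.node (.node .leaf (52818, 0, 19, 44923) .leaf) (52819, 0, 14, 93284) (.node .leaf (52820, 0, 14, 79892) .leaf))))) (52821, 0, 15, 1378) (.node (.node (.node (.node (.node .leaf (52822, 0, 14, 111905) .leaf) (52823, 0, 17, 35144) (.node .leaf (52840, 0, 17, 42601) .leaf)) (52841, 0, 14, 196423) (.node (.node .leaf (52842, 0, 17, 216603) .leaf) (52843, 0, 15, 71477) (.node .leaf (52844, 0, 18, 186740) .leaf))) (52845, 0, 17, 217946) (.node (.node (.node .leaf (52846, 0, 17, 78086) .leaf) (52847, 0, 13, 223272) (.node .leaf (52848, 0, 15, 145923) .leaf)) (52849, 0, 15, 210868) (.node (.node .leaf (52850, 0, 16,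 119409) .leaf) (52851, 0, 16, 157585) (.node .leaf (52852, 0, 15, 17694) .leaf)))) (52853, 0, 15, 200343) (.node (.node (.node (.node .leaf (52854, 0, 14, 241004) .leaf) (52855, 0, 15, 155314) (.node .leaf (52864, 0, 14, 219646) .leaf)) (52865, 0, 17, 32818) (.node (.node .leaf (52866, 0, 17, 133595) .leaf) (52867, 0, 15, 223296) (.node .leaf (52868, 0, 16, 42497) .leaf))) (52869, 0, 16, 229563) (.node (.node (.node .leaf (52870, 0, 16, 216691) .leaf) (52871, 0, 15, 184478) (.node .leaf (52888, 0, 19, 17782) .leaf)) (52889, 0, 17, 255061) (.node (.node .leaf (52890, 0, 13, 152598) .leaf) (52891, 0, 16, 177264) (.node .leaf (52892, 0, 17, 146027) .leaf))))))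

/-- part of the orbit tree -/
def itp1_307 : Tree := (.node (.node (.node (.node (.node (.node .leaf (52894, 0, 13, 159029) .leaf) (52895, 0, 17, 167251) (.node .leaf (52896, 0, 16, 238614) .leaf)) (52897, 0, 16, 45677) (.node (.node .leaf (52898, 0, 16, 19556) .leaf) (52899, 0, 16, 136522) (.node .leaf (52900, 0, 14, 27432) .leaf))) (52901, 0, 11, 229925) (.node (.node (.node .leaf (52902, 0, 13, 80653) .leaf) (52903, 0, 17, 27223) (.node .leaf (52920, 0, 17, 4038) .leaf)) (52921, 0, 15, 221522) (.node (.node .leaf (52922, 0, 16, 184334) .leaf) (52923, 0, 15, 35104) (.node .leaf (52924, 0, 17, 214881) .leaf)))) (52925, 0, 17, 54915) (.node (.node (.node (.node .leaf (52926, 0, 16, 44819) .leaf) (52927, 0, 14, 100006) (.node .leaf (52928, 0, 17, 164246) .leaf)) (52929, 0, 18, 55480) (.node (.node .leaf (52930, 0, 16, 90973) .leaf) (52931, 0, 13, 209098) (.node .leaf (52932, 0, 16, 65163) .leaf))) (52933, 0, 17, 173989) (.node (.node (.node .leaf (52934, 0, 18, 88702) .leaf) (52935, 0, 18, 85975)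 (.node .leaf (52952, 0, 18, 28341) .leaf)) (52953, 0, 11, 36563) (.node (.node .leaf (52954, 0, 18, 259470) .leaf) (52955, 0, 16, 122614) (.node .leaf (52956, 0, 10, 22422) .leaf))))) (52957, 0, 16, 47088) (.node (.node (.node (.node (.node .leaf (52958, 0, 17, 101011) .leaf) (52959, 0, 18, 250813) (.node .leaf (52960, 0, 13, 261276) .leaf)) (52961, 0, 17, 252139) (.node (.node .leaf (52962, 0, 14, 5358) .leaf) (52963, 0, 15, 150976) (.node .leaf (52964, 0, 16, 99201) .leaf))) (52965, 0, 14, 254408) (.node (.node (.node .leaf (52966, 0, 17, 151947) .leaf) (52967, 0, 16, 176621) (.node .leaf (52984, 0, 18, 90358) .leaf)) (52985, 0, 17, 230694) (.node (.node .leaf (52986, 0, 15, 166020) .leaf) (52987, 0, 19, 53674) (.node .leaf (52988, 0, 15, 204779) .leaf)))) (52989, 0, 17, 244741) (.node (.node (.node (.node .leaf (52990, 0, 15, 63385) .leaf) (52991, 0, 16, 175799) (.node .leaf (52992, 0, 15, 158848) .leaf)) (52993, 0, 17, 167142) (.node (.node .leaf (52994, 0, 17, 212133) .leaf) (52995, 0, 17, 16330)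 (.node .leaf (52996, 0, 16, 258443) .leaf))) (52997, 0, 16, 108709) (.node (.node (.node .leaf (52998, 0, 15, 198022) .leaf) (52999, 0, 15, 255456) (.node .leaf (53016, 0, 16, 143693) .leaf)) (53017, 0, 17, 84946) (.node (.node .leaf (53018, 0, 17, 64142) .leaf) (53019, 0, 14, 172960) (.node .leaf (53020, 0, 15, 133230) .leaf))))))

/-- part of the orbit tree -/
def itp1_308 : Tree := (.node (.node (.node (.node (.node (.node .leaf (53022, 0, 17, 165267) .leaf) (53023, 0, 13, 243757) (.node .leaf (53024, 0, 16, 62364) .leaf)) (53025, 0, 15, 100115) (.node (.node .leaf (53026, 0, 18, 203758) .leaf) (53027, 0, 16, 55094) (.node .leaf (53028, 0, 16, 89686) .leaf))) (53029, 0, 15, 54703) (.node (.node (.node .leaf (53030, 0, 14, 3699) .leaf) (53031, 0, 18, 60949) (.node .leaf (53048, 0, 15, 159734) .leaf)) (53049, 0, 18, 121566) (.node (.node .leaf (53050, 0, 17, 27293) .leaf) (53051, 0, 13, 253610) (.node .leaf (53052, 0, 10, 66459) .leaf)))) (53053, 0, 15, 149957) (.node (.node (.node (.node .leaf (53054,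 0, 17, 21438) .leaf) (53055, 0, 17, 106935) (.node .leaf (53056, 0, 16, 120348) .leaf)) (53057, 0, 19, 233266) (.node (.node .leaf (53058, 0, 18, 147054) .leaf) (53059, 0, 15, 26432) (.node .leaf (53060, 0, 13, 239873) .leaf))) (53061, 0, 17, 122691) (.node (.node (.node .leaf (53062, 0, 11, 16755) .leaf) (53063, 0, 17, 36710) (.node .leaf (53080, 0, 12, 215670) .leaf)) (53081, 0, 18, 70488) (.node (.node .leaf (53082, 0, 15, 41476) .leaf) (53083, 0, 10, 195370) (.node .leaf (53084, 0, 18, 79211) .leaf))))) (53085, 0, 16, 224325) (.node (.node (.node (.node (.node .leaf (53086, 0, 12, 13005) .leaf) (53087, 0, 17, 53931) (.node .leaf (53088, 0, 16, 43798) .leaf)) (53089, 0, 17, 193080) (.node (.node .leaf (53090, 0, 12, 213860) .leaf) (53091, 0, 18, 72266) (.node .leaf (53092, 0, 14, 185355) .leaf))) (53093, 0, 19, 185526) (.node (.node (.node .leaf (53094, 0, 13, 222453) .leaf) (53095, 0, 16, 222551) (.node .leaf (53112, 0, 15, 151614) .leaf)) (53113, 0, 16, 176216) (.node (.node .leaf (53114, 0,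 15, 122638) .leaf) (53115, 0, 16, 254077) (.node .leaf (53116, 0, 14, 157981) .leaf)))) (53117, 0, 16, 166267) (.node (.node (.node (.node .leaf (53118, 0, 17, 237587) .leaf) (53119, 0, 16, 129341) (.node .leaf (53128, 0, 15, 187922) .leaf)) (53129, 0, 18, 147060) (.node (.node .leaf (53130, 0, 8, 80913) .leaf) (53131, 0, 17, 224849) (.node .leaf (53132, 0, 16, 43902) .leaf))) (53133, 0, 17, 193104) (.node (.node (.node .leaf (53134, 0, 18, 243476) .leaf) (53135, 0, 17, 218994) (.node .leaf (53136, 0, 16, 18441) .leaf)) (53137, 0, 15, 135463) (.node (.node .leaf (53138, 0, 16, 237691) .leaf) (53139, 0, 11, 209820) .leaf)))))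

/-- part of the orbit tree -/
def itp1_309 : Tree := (.node itp1_305 (52757, 0, 16, 225252) itp1_306)

/-- part of the orbit tree -/
def itp1_310 : Tree := (.node itp1_307 (53021, 0, 18, 190472) itp1_308)

/-- part of the orbit tree -/
def itp1_311 : Tree := (.node itp1_303 (52379, 0, 15, 127238) itp1_304)

/-- part of the orbit tree -/
def itp1_312 : Tree := (.node itp1_309 (52893, 0, 18, 25413) itp1_310)

/-- part of the orbit tree -/
def itp1_313 : Tree := (.node itp1_297 (51613, 0, 15, 232574) itp1_298)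

/-- part of the orbit tree -/
def itp1_314 : Tree := (.node itp1_311 (52634, 0, 15, 217035) itp1_312)

/-- part of the orbit tree -/
def itp1_315 : Tree := (.node itp1_283 (50077, 0, 15, 203702) itp1_284)

/-- part of the orbit tree -/
def itp1_316 : Tree := (.node itp1_313 (52121, 0, 18, 128591) itp1_314)

/-- part of the orbit tree -/
def itp1_317 : Tree := (.node (.node (.node (.node (.node (.node .leaf (53141, 0, 9, 154266) .leaf) (53142, 0, 15, 122726) (.node .leaf (53143, 0, 14, 199359) .leaf)) (53160, 0, 17, 120295) (.node (.node .leaf (53161, 0, 12, 79233) .leaf) (53162, 0, 14, 34242) (.node .leaf (53163, 0, 16, 26020) .leaf))) (53164, 0, 16, 126148) (.node (.node (.node .leaf (53165, 0, 12, 233306) .leaf) (53166, 0, 13, 146950) (.node .leaf (53167, 0, 18, 23687) .leaf)) (53168, 0, 14, 100394) (.node (.node .leaf (53169, 0, 18, 224301) .leaf) (53170, 0, 15, 187761) (.node .leaf (53171, 0, 16, 33887) .leaf)))) (53172, 0, 15, 215582) (.node (.node (.node (.node .leaf (53173, 0, 17, 86383) .leaf)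 (53174, 0, 15, 57644) (.node .leaf (53175, 0, 15, 195394) .leaf)) (53192, 0, 14, 167145) (.node (.node .leaf (53193, 0, 17, 54727) .leaf) (53194, 0, 16, 58545) (.node .leaf (53195, 0, 14, 212405) .leaf))) (53196, 0, 15, 62452) (.node (.node (.node .leaf (53197, 0, 18, 93649) .leaf) (53198, 0, 18, 56722) (.node .leaf (53199, 0, 17, 82600) .leaf)) (53200, 0, 17, 125273) (.node (.node .leaf (53201, 0, 15, 149933) .leaf) (53202, 0, 12, 47484) (.node .leaf (53203, 0, 15, 106975) .leaf))))) (53204, 0, 12, 118906) (.node (.node (.node (.node (.node .leaf (53205, 0, 16, 14000) .leaf) (53206, 0, 15, 32863) (.node .leaf (53207, 0, 16, 253634) .leaf)) (53224, 0, 16, 180065) (.node (.node .leaf (53225, 0, 16, 108749) .leaf) (53226, 0, 15, 257860) (.node .leaf (53227, 0, 15, 200482) .leaf))) (53228, 0, 16, 165442) (.node (.node (.node .leaf (53229, 0, 17, 251856) .leaf) (53230, 0, 15, 251495) (.node .leaf (53231, 0, 18, 210433) .leaf)) (53232, 0, 14, 93577) (.node (.node .leaf (53233, 0, 17, 131786) .leaf) (53234,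 0, 14, 242313) (.node .leaf (53235, 0, 17, 217839) .leaf)))) (53236, 0, 16, 187279) (.node (.node (.node (.node .leaf (53237, 0, 15, 84922) .leaf) (53238, 0, 15, 232362) (.node .leaf (53239, 0, 16, 173000) .leaf)) (53249, 0, 15, 226116) (.node (.node .leaf (53250, 0, 14, 7829) .leaf) (53252, 0, 17, 100858) (.node .leaf (53255, 0, 15, 137794) .leaf))) (53257, 0, 16, 87772) (.node (.node (.node .leaf (53258, 0, 16, 59039) .leaf) (53260, 0, 17, 90982) (.node .leaf (53263, 0, 18, 16346) .leaf)) (53264, 0, 16, 98321) (.node (.node .leaf (53267, 0, 19, 12621) .leaf) (53269, 0, 18, 78386) (.node .leaf (53270, 0, 18, 6014) .leaf))))))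

/-- part of the orbit tree -/
def itp1_318 : Tree := (.node (.node (.node (.node (.node (.node .leaf (53275, 0, 16, 163500) .leaf) (53277, 0, 18, 202666) (.node .leaf (53278, 0, 17, 174057) .leaf)) (53281, 0, 12, 53955) (.node (.node .leaf (53282, 0, 13, 91039) .leaf) (53284, 0, 16, 41460) (.node .leaf (53287, 0, 16, 83372) .leaf))) (53289, 0, 19, 154921) (.node (.node (.node .leaf (53290, 0, 14, 257386) .leaf) (53292, 0, 12, 7788) (.node .leaf (53295, 0, 10, 110384) .leaf)) (53296, 0, 18, 188546) (.node (.node .leaf (53299, 0, 18, 85063) .leaf) (53301, 0, 14, 56104) (.node .leaf (53302, 0, 15, 92788) .leaf)))) (53304, 0, 14, 6023) (.node (.node (.node (.node .leaf (53307, 0, 16, 108251) .leaf) (53309, 0, 17, 12724) (.node .leaf (53310, 0, 4, 109596) .leaf)) (53313, 0, 15, 128835) (.node (.node .leaf (53314, 0, 15, 17951) .leaf) (53316, 0, 14, 49287) (.node .leaf (53319, 0, 15, 24620) .leaf))) (53321, 0, 16, 146522) (.node (.node (.node .leaf (53322, 0, 18, 44163) .leaf) (53324, 0, 13, 189727) (.node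 .leaf (53327, 0, 18, 218460) .leaf)) (53328, 0, 17, 164337) (.node (.node .leaf (53331, 0, 16, 209330) .leaf) (53333, 0, 17, 153780) (.node .leaf (53334, 0, 17, 256247) .leaf))))) (53336, 0, 16, 78343) (.node (.node (.node (.node (.node .leaf (53339, 0, 18, 33627) .leaf) (53341, 0, 16, 70708) (.node .leaf (53342, 0, 17, 118127) .leaf)) (53345, 0, 16, 35401) (.node (.node .leaf (53346, 0, 17, 172660) .leaf) (53348, 0, 16, 248690) (.node .leaf (53351, 0, 18, 72998) .leaf))) (53353, 0, 15, 24789) (.node (.node (.node .leaf (53354, 0, 14, 34796) .leaf) (53356, 0, 17, 18150) (.node .leaf (53359, 0, 18, 24233) .leaf)) (53360, 0, 13, 42385) (.node (.node .leaf (53363, 0, 15, 14919) .leaf) (53365, 0, 18, 86849) (.node .leaf (53366, 0, 16, 78590) .leaf)))) (53368, 0, 15, 20237) (.node (.node (.node (.node .leaf (53371, 0, 16, 139231) .leaf) (53373, 0, 17, 26942) (.node .leaf (53374, 0, 12, 120930) .leaf)) (53376, 0, 16, 18062) (.node (.node .leaf (53379, 0, 16, 46187) .leaf) (53381, 0, 17, 24765) (.node .leaf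 (53382, 0, 17, 27950) .leaf))) (53384, 0, 14, 205232) (.node (.node (.node .leaf (53387, 0, 16, 73038) .leaf) (53389, 0, 13, 260341) (.node .leaf (53390, 0, 17, 80765) .leaf)) (53393, 0, 14, 236571) (.node (.node .leaf (53394, 0, 17, 120842) .leaf) (53396, 0, 15, 214366) (.node .leaf (53399, 0, 17, 130617) .leaf))))))

/-- part of the orbit tree -/
def itp1_319 : Tree := (.node (.node (.node (.node (.node (.node .leaf (53402, 0, 16, 2496) .leaf) (53404, 0, 14, 90310) (.node .leaf (53407, 0, 15, 70821) .leaf)) (53408, 0, 15, 135133) (.node (.node .leaf (53411, 0, 16, 35544) .leaf) (53413, 0, 18, 73143) (.node .leaf (53414, 0, 14, 44267) .leaf))) (53416, 0, 15, 119064) (.node (.node (.node .leaf (53419, 0, 16, 104966) .leaf) (53421, 0, 17, 62208) (.node .leaf (53422, 0, 17, 82755) .leaf)) (53425, 0, 14, 38894) (.node (.node .leaf (53426, 0, 15, 75693) .leaf) (53428, 0, 15, 20139) (.node .leaf (53431, 0, 17, 33587) .leaf)))) (53433, 0, 11, 130752) (.node (.node (.node (.node .leaf (53434, 0, 18, 197173)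 .leaf) (53436, 0, 18, 121075) (.node .leaf (53439, 0, 16, 27055) .leaf)) (53440, 0, 18, 159406) (.node (.node .leaf (53443, 0, 14, 110424) .leaf) (53445, 0, 16, 14391) (.node .leaf (53446, 0, 11, 198568) .leaf))) (53448, 0, 17, 62616) (.node (.node (.node .leaf (53451, 0, 16, 83396) .leaf) (53453, 0, 17, 53931) (.node .leaf (53454, 0, 12, 91127) .leaf)) (53457, 0, 17, 63133) (.node (.node .leaf (53458, 0, 16, 98432) .leaf) (53460, 0, 19, 6127) (.node .leaf (53463, 0, 18, 108211) .leaf))))) (53465, 0, 17, 185093) (.node (.node (.node (.node (.node .leaf (53466, 0, 17, 92700) .leaf) (53468, 0, 17, 133696) (.node .leaf (53471, 0, 13, 244227) .leaf)) (53472, 0, 12, 91483) (.node (.node .leaf (53475, 0, 16, 54552) .leaf) (53477, 0, 18, 83261) (.node .leaf (53478, 0, 16, 3165) .leaf))) (53480, 0, 11, 213187) (.node (.node (.node .leaf (53483, 0, 18, 14542) .leaf) (53485, 0, 15, 110497) (.node .leaf (53486, 0, 18, 7933) .leaf)) (53489, 0, 18, 85206) (.node (.node .leaf (53490, 0, 15, 64906) .leaf) (53492,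 0, 18, 92901) (.node .leaf (53495, 0, 15, 56249) .leaf)))) (53497, 0, 15, 121072) (.node (.node (.node (.node .leaf (53498, 0, 18, 26803) .leaf) (53500, 0, 16, 98425) (.node .leaf (53503, 0, 12, 12581) .leaf)) (53504, 0, 16, 12630) (.node (.node .leaf (53507, 0, 16, 98581) .leaf) (53509, 0, 17, 210743) (.node .leaf (53510, 0, 15, 165483) .leaf))) (53512, 0, 18, 261016) (.node (.node (.node .leaf (53515, 0, 16, 238733) .leaf) (53517, 0, 18, 253355) (.node .leaf (53518, 0, 17, 158967) .leaf)) (53521, 0, 15, 174437) (.node (.node .leaf (53522, 0, 16, 167808) .leaf) (53524, 0, 16, 159776) (.node .leaf (53527, 0, 15, 245859) .leaf))))))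

/-- part of the orbit tree -/
def itp1_320 : Tree := (.node (.node (.node (.node (.node (.node .leaf (53530, 0, 18, 156956) .leaf) (53532, 0, 18, 21944) (.node .leaf (53535, 0, 16, 148271) .leaf)) (53536, 0, 14, 211619) (.node (.node .leaf (53539, 0, 16, 166624) .leaf) (53541, 0, 17, 254950) (.node .leaf (53542, 0, 18, 260961) .leaf))) (53544, 0, 18, 165522) (.node (.node (.node .leaf (53547, 0, 16, 44920) .leaf) (53549, 0, 13, 116350) (.node .leaf (53550, 0, 15, 30269) .leaf)) (53553, 0, 17, 107152) (.node (.node .leaf (53554, 0, 18, 258698) .leaf) (53556, 0, 17, 97237) (.node .leaf (53559, 0, 17, 251065) .leaf)))) (53561, 0, 17, 231176) (.node (.node (.node (.node .leaf (53562, 0, 17, 202774) .leaf) (53564, 0, 18, 167801) (.node .leaf (53567, 0, 14, 212517) .leaf)) (53568, 0, 17, 215438) (.node (.node .leaf (53571, 0, 16, 191379) .leaf) (53573, 0, 11, 225213) (.node .leaf (53574, 0, 14, 144086) .leaf))) (53576, 0, 15, 97864) (.node (.node (.node .leaf (53579, 0, 16, 52747) .leaf) (53581, 0, 14,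 230689) (.node .leaf (53582, 0, 18, 5966) .leaf)) (53585, 0, 13, 115683) (.node (.node .leaf (53586, 0, 17, 186122) .leaf) (53588, 0, 16, 213093) (.node .leaf (53591, 0, 12, 192825) .leaf))))) (53593, 0, 17, 255611) (.node (.node (.node (.node (.node .leaf (53594, 0, 17, 146838) .leaf) (53596, 0, 18, 240377) (.node .leaf (53599, 0, 18, 138149) .leaf)) (53600, 0, 15, 144516) (.node (.node .leaf (53603, 0, 7, 230872) .leaf) (53605, 0, 15, 35168) (.node .leaf (53606, 0, 11, 238571) .leaf))) (53608, 0, 17, 187928) (.node (.node (.node .leaf (53611, 0, 12, 225092) .leaf) (53613, 0, 16, 175352) (.node .leaf (53614, 0, 17, 215415) .leaf)) (53617, 0, 15, 138076) (.node (.node .leaf (53618, 0, 18, 227413) .leaf) (53620, 0, 17, 146799) (.node .leaf (53623, 0, 16, 232499) .leaf)))) (53625, 0, 14, 192960) (.node (.node (.node (.node .leaf (53626, 0, 18, 89549) .leaf) (53628, 0, 19, 186355) (.node .leaf (53631, 0, 16, 222895) .leaf)) (53633, 0, 14, 149050) (.node (.node .leaf (53634, 0, 16, 215327) .leaf) (53636,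 0, 16, 171903) (.node .leaf (53639, 0, 13, 225068) .leaf))) (53641, 0, 17, 135903) (.node (.node (.node .leaf (53642, 0, 14, 119777) .leaf) (53644, 0, 16, 144620) (.node .leaf (53647, 0, 12, 68260) .leaf)) (53648, 0, 14, 56841) (.node (.node .leaf (53651, 0, 12, 222919) .leaf) (53653, 0, 15, 1868) (.node .leaf (53654, 0, 18, 213236) .leaf))))))

/-- part of the orbit tree -/
def itp1_321 : Tree := (.node itp1_317 (53272, 0, 17, 92813) itp1_318)

/-- part of the orbit tree -/
def itp1_322 : Tree := (.node itp1_319 (53529, 0, 16, 36093) itp1_320)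

/-- part of the orbit tree -/
def itp1_323 : Tree := (.node (.node (.node (.node (.node (.node .leaf (53659, 0, 16, 232539) .leaf) (53661, 0, 18, 138036) (.node .leaf (53662, 0, 18, 240232) .leaf)) (53665, 0, 16, 230729) (.node (.node .leaf (53666, 0, 15, 144405) .leaf) (53668, 0, 18, 238458) (.node .leaf (53671, 0, 16, 9417) .leaf))) (53673, 0, 18, 225237) (.node (.node (.node .leaf (53674, 0, 18, 186388) .leaf) (53676, 0, 18, 241938) (.node .leaf (53679, 0, 13, 194746) .leaf)) (53680, 0, 17, 240273) (.node (.node .leaf (53683, 0, 17, 157119) .leaf) (53685, 0, 18, 199865) (.node .leaf (53686, 0, 17, 146942) .leaf)))) (53688, 0, 15, 213005) (.node (.node (.node (.node .leaf (53691, 0, 16, 16423) .leaf) (53693, 0, 14, 222782) (.node .leaf (53694, 0, 16, 186210) .leaf)) (53697, 0, 15, 172233) (.node (.node .leaf (53698, 0, 12, 40191) .leaf) (53700, 0, 14, 165626) (.node .leaf (53703, 0, 18, 210854) .leaf))) (53705, 0, 17, 198948) (.node (.node (.node .leaf (53706, 0, 16, 260873) .leaf) (53708, 0, 17,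 249953) (.node .leaf (53711, 0, 14, 253242) .leaf)) (53712, 0, 16, 167697) (.node (.node .leaf (53715, 0, 16, 132300) .leaf) (53717, 0, 11, 224714) (.node .leaf (53718, 0, 15, 187785) .leaf))))) (53720, 0, 18, 102679) (.node (.node (.node (.node (.node .leaf (53723, 0, 18, 8532) .leaf) (53725, 0, 15, 84050) (.node .leaf (53726, 0, 15, 258786) .leaf)) (53729, 0, 18, 141129) (.node (.node .leaf (53730, 0, 16, 158879) .leaf) (53732, 0, 16, 196108) (.node .leaf (53735, 0, 16, 216655) .leaf))) (53737, 0, 18, 210783) (.node (.node (.node .leaf (53738, 0, 13, 165379) .leaf) (53740, 0, 17, 201068) (.node .leaf (53743, 0, 16, 93143) .leaf)) (53744, 0, 12, 49018) (.node (.node .leaf (53747, 0, 12, 148295) .leaf) (53749, 0, 17, 26175) (.node .leaf (53750, 0, 17, 157044) .leaf)))) (53752, 0, 16, 202887) (.node (.node (.node (.node .leaf (53755, 0, 17, 174555) .leaf) (53757, 0, 18, 212660) (.node .leaf (53758, 0, 14, 167912) .leaf)) (53760, 0, 16, 259019) (.node (.node .leaf (53761, 0, 17, 220980) .leaf) (53766,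 0, 13, 185940) (.node .leaf (53767, 0, 17, 144946) .leaf))) (53768, 0, 18, 203095) (.node (.node (.node .leaf (53769, 0, 17, 96940) .leaf) (53774, 0, 14, 62412) (.node .leaf (53775, 0, 16, 55062) .leaf)) (53778, 0, 18, 38690) (.node (.node .leaf (53779, 0, 16, 13409) .leaf) (53780, 0, 15, 130596) (.node .leaf (53781, 0, 15, 107278) .leaf))))))

/-- part of the orbit tree -/
def itp1_324 : Tree := (.node (.node (.node (.node (.node (.node .leaf (53787, 0, 18, 57085) .leaf) (53788, 0, 14, 200892) (.node .leaf (53789, 0, 17, 84370) .leaf)) (53792, 0, 19, 46247) (.node (.node .leaf (53793, 0, 16, 55279) .leaf) (53798, 0, 15, 122273) (.node .leaf (53799, 0, 16, 81351) .leaf))) (53800, 0, 14, 168255) (.node (.node (.node .leaf (53801, 0, 15, 160089) .leaf) (53806, 0, 14, 260153) (.node .leaf (53807, 0, 16, 109084) .leaf)) (53810, 0, 17, 200773) (.node (.node .leaf (53811, 0, 17, 228529) .leaf) (53812, 0, 16, 194001) (.node .leaf (53813, 0, 12, 136631) .leaf)))) (53818, 0, 17, 260825) (.node (.node (.node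 (.node .leaf (53819, 0, 15, 88361) .leaf) (53820, 0, 16, 159158) (.node .leaf (53821, 0, 16, 12335) .leaf)) (53824, 0, 16, 240449) (.node (.node .leaf (53825, 0, 16, 127599) .leaf) (53830, 0, 17, 113874) (.node .leaf (53831, 0, 15, 89268) .leaf))) (53832, 0, 17, 192588) (.node (.node (.node .leaf (53833, 0, 16, 71923) .leaf) (53838, 0, 17, 186034) (.node .leaf (53839, 0, 15, 227628) .leaf)) (53842, 0, 16, 261540) (.node (.node .leaf (53843, 0, 16, 204226) .leaf) (53844, 0, 15, 238250) (.node .leaf (53845, 0, 17, 160964) .leaf))))) (53850, 0, 17, 188249) (.node (.node (.node (.node (.node .leaf (53851, 0, 17, 79962) .leaf) (53852, 0, 17, 215094) (.node .leaf (53853, 0, 15, 69912) .leaf)) (53856, 0, 18, 185931) (.node (.node .leaf (53857, 0, 17, 36709) .leaf) (53862, 0, 16, 177959) (.node .leaf (53863, 0, 16, 71690) .leaf))) (53864, 0, 17, 129977) (.node (.node (.node .leaf (53865, 0, 12, 72671) .leaf) (53870, 0, 15, 37567) (.node .leaf (53871, 0, 18, 29401) .leaf)) (53874, 0, 18, 215247) (.node (.node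 .leaf (53875, 0, 15, 5687) .leaf) (53876, 0, 15, 188320) (.node .leaf (53877, 0, 18, 98097) .leaf)))) (53882, 0, 12, 185289) (.node (.node (.node (.node .leaf (53883, 0, 14, 129917) .leaf) (53884, 0, 17, 144700) (.node .leaf (53885, 0, 17, 219817) .leaf)) (53890, 0, 18, 240592) (.node (.node .leaf (53891, 0, 17, 38939) .leaf) (53892, 0, 16, 146623) (.node .leaf (53893, 0, 15, 127261) .leaf))) (53898, 0, 11, 155109) (.node (.node (.node .leaf (53899, 0, 17, 71778) .leaf) (53900, 0, 16, 210147) (.node .leaf (53901, 0, 16, 36621) .leaf)) (53904, 0, 17, 144724) (.node (.node .leaf (53905, 0, 17, 241771) .leaf) (53910, 0, 14, 145675) (.node .leaf (53911, 0, 18, 129813) .leaf))))))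

/-- part of the orbit tree -/
def itp1_325 : Tree := (.node (.node (.node (.node (.node (.node .leaf (53913, 0, 16, 103923) .leaf) (53918, 0, 18, 215207) (.node .leaf (53919, 0, 16, 64757) .leaf)) (53922, 0, 16, 186074) (.node (.node .leaf (53923, 0, 18, 234478) .leaf) (53924, 0, 17, 137870) (.node .leaf (53925, 0, 17, 71835) .leaf))) (53930, 0, 16, 87568) (.node (.node (.node .leaf (53931, 0, 16, 25960) .leaf) (53932, 0, 16, 240425) (.node .leaf (53933, 0, 16, 57200) .leaf)) (53936, 0, 15, 23544) (.node (.node .leaf (53937, 0, 15, 48030) .leaf) (53942, 0, 16, 78590) (.node .leaf (53943, 0, 15, 34335) .leaf)))) (53944, 0, 15, 238274) (.node (.node (.node (.node .leaf (53945, 0, 15, 130028) .leaf) (53950, 0, 16, 144813) (.node .leaf (53951, 0, 17, 27779) .leaf)) (53954, 0, 16, 201467) (.node (.node .leaf (53955, 0, 11, 258717) .leaf) (53956, 0, 14, 156725) (.node .leaf (53957, 0, 17, 170907) .leaf))) (53962, 0, 16, 203206) (.node (.node (.node .leaf (53963, 0, 16, 82152) .leaf) (53964, 0, 19, 167593)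 (.node .leaf (53965, 0, 16, 55175) .leaf)) (53968, 0, 14, 14987) (.node (.node .leaf (53969, 0, 12, 13552) .leaf) (53974, 0, 16, 260785) (.node .leaf (53975, 0, 14, 107423) .leaf))))) (53976, 0, 16, 165698) (.node (.node (.node (.node (.node .leaf (53977, 0, 14, 56940) .leaf) (53982, 0, 17, 200749) (.node .leaf (53983, 0, 17, 235123) .leaf)) (53986, 0, 14, 167504) (.node (.node .leaf (53987, 0, 14, 63848) .leaf) (53988, 0, 15, 94216) (.node .leaf (53989, 0, 12, 81937) .leaf))) (53994, 0, 13, 156876) (.node (.node (.node .leaf (53995, 0, 17, 187632) .leaf) (53996, 0, 18, 218512) (.node .leaf (53997, 0, 17, 109197) .leaf)) (54000, 0, 17, 200916) (.node (.node .leaf (54001, 0, 16, 84474) .leaf) (54006, 0, 13, 153720) (.node .leaf (54007, 0, 15, 56981) .leaf)))) (54008, 0, 16, 260680) (.node (.node (.node (.node .leaf (54009, 0, 17, 128128) .leaf) (54014, 0, 13, 32224) (.node .leaf (54015, 0, 14, 40326) .leaf)) (54018, 0, 18, 85251) (.node (.node .leaf (54019, 0, 16, 109925) .leaf) (54020, 0, 18, 92981)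 (.node .leaf (54021, 0, 16, 50275) .leaf))) (54026, 0, 14, 5830) (.node (.node (.node .leaf (54027, 0, 16, 151528) .leaf) (54028, 0, 17, 98729) (.node .leaf (54029, 0, 15, 188923) .leaf)) (54032, 0, 17, 157043) (.node (.node .leaf (54033, 0, 16, 165141) .leaf) (54038, 0, 19, 199797) (.node .leaf (54039, 0, 14, 175263) .leaf))))))

/-- part of the orbit tree -/
def itp1_326 : Tree := (.node (.node (.node (.node (.node (.node .leaf (54041, 0, 18, 41101) .leaf) (54046, 0, 19, 76269) (.node .leaf (54047, 0, 19, 148995) .leaf)) (54050, 0, 16, 98640) (.node (.node .leaf (54051, 0, 13, 252030) .leaf) (54052, 0, 17, 208880) (.node .leaf (54053, 0, 15, 151313) .leaf))) (54058, 0, 12, 93132) (.node (.node (.node .leaf (54059, 0, 18, 209634) .leaf) (54060, 0, 16, 64675) (.node .leaf (54061, 0, 15, 125454) .leaf)) (54064, 0, 16, 93830) (.node (.node .leaf (54065, 0, 14, 102112) .leaf) (54070, 0, 8, 100539) (.node .leaf (54071, 0, 13, 59366) .leaf)))) (54072, 0, 14, 215838) (.node (.node (.node (.node .leaf (54073,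 0, 18, 240504) .leaf) (54078, 0, 18, 90663) (.node .leaf (54079, 0, 17, 211721) .leaf)) (54082, 0, 10, 42192) (.node (.node .leaf (54083, 0, 14, 196094) .leaf) (54084, 0, 17, 216707) (.node .leaf (54085, 0, 16, 223889) .leaf))) (54090, 0, 19, 20044) (.node (.node (.node .leaf (54091, 0, 17, 57979) .leaf) (54092, 0, 16, 92955) (.node .leaf (54093, 0, 17, 101245) .leaf)) (54096, 0, 17, 69621) (.node (.node .leaf (54097, 0, 16, 126867) .leaf) (54102, 0, 16, 44347) (.node .leaf (54103, 0, 17, 193557) .leaf))))) (54104, 0, 17, 207469) (.node (.node (.node (.node (.node .leaf (54105, 0, 16, 231910) .leaf) (54110, 0, 14, 18343) (.node .leaf (54111, 0, 18, 138889) .leaf)) (54114, 0, 15, 121306) (.node (.node .leaf (54115, 0, 17, 117782) .leaf) (54116, 0, 17, 20149) (.node .leaf (54117, 0, 14, 137115) .leaf))) (54122, 0, 12, 199144) (.node (.node (.node .leaf (54123, 0, 18, 256398) .leaf) (54124, 0, 18, 42025) (.node .leaf (54125, 0, 15, 195847) .leaf)) (54128, 0, 16, 132096) (.node (.node .leaf (54129, 0,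 16, 189542) .leaf) (54134, 0, 16, 224518) (.node .leaf (54135, 0, 15, 232800) .leaf)))) (54136, 0, 17, 44482) (.node (.node (.node (.node .leaf (54137, 0, 14, 49662) .leaf) (54142, 0, 17, 80557) (.node .leaf (54143, 0, 14, 222083) .leaf)) (54144, 0, 14, 166444) (.node (.node .leaf (54145, 0, 18, 158282) .leaf) (54150, 0, 18, 254762) (.node .leaf (54151, 0, 17, 223744) .leaf))) (54152, 0, 19, 20189) (.node (.node (.node .leaf (54153, 0, 17, 137203) .leaf) (54158, 0, 16, 121266) (.node .leaf (54159, 0, 18, 229532) .leaf)) (54162, 0, 16, 107100) (.node (.node .leaf (54163, 0, 16, 82490) .leaf) (54164, 0, 16, 44458) .leaf)))))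

/-- part of the orbit tree -/
def itp1_327 : Tree := (.node itp1_323 (53786, 0, 17, 165843) itp1_324)

/-- part of the orbit tree -/
def itp1_328 : Tree := (.node itp1_325 (54040, 0, 18, 16619) itp1_326)

/-- part of the orbit tree -/
def itp1_329 : Tree := (.node itp1_321 (53401, 0, 15, 113027) itp1_322)

/-- part of the orbit tree -/
def itp1_330 : Tree := (.node itp1_327 (53912, 0, 18, 188360) itp1_328)

/-- part of the orbit tree -/
def itp1_331 : Tree := (.node (.node (.node (.node (.node (.node .leaf (54170, 0, 15, 231364) .leaf) (54171, 0, 15, 231799) (.node .leaf (54172, 0, 16, 18230) .leaf)) (54173, 0, 13, 138776) (.node (.node .leaf (54176, 0, 15, 98777) .leaf) (54177, 0, 16, 90559) (.node .leaf (54182, 0, 16, 59615) .leaf))) (54183, 0, 18, 2233) (.node (.node (.node .leaf (54184, 0, 17, 78807) .leaf) (54185, 0, 14, 214055) (.node .leaf (54190, 0, 15, 183623) .leaf)) (54191, 0, 17, 142625) (.node (.node .leaf (54194, 0, 16, 174505) .leaf) (54195, 0, 16, 149967) (.node .leaf (54196, 0, 14,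 245935) .leaf)))) (54197, 0, 15, 231822) (.node (.node (.node (.node .leaf (54202, 0, 18, 44371) .leaf) (54203, 0, 14, 193661) (.node .leaf (54204, 0, 17, 80444) .leaf)) (54205, 0, 16, 66897) (.node (.node .leaf (54208, 0, 16, 64715) .leaf) (54209, 0, 16, 65740) (.node .leaf (54214, 0, 15, 35244) .leaf))) (54215, 0, 8, 27082) (.node (.node (.node .leaf (54216, 0, 16, 5719) .leaf) (54217, 0, 17, 206164) (.node .leaf (54222, 0, 15, 175156) .leaf)) (54223, 0, 17, 251926) (.node (.node .leaf (54226, 0, 13, 90703) .leaf) (54227, 0, 17, 141500) (.node .leaf (54228, 0, 17, 238044) .leaf))))) (54229, 0, 19, 175118) (.node (.node (.node (.node (.node .leaf (54234, 0, 19, 100563) .leaf) (54235, 0, 16, 250365) (.node .leaf (54236, 0, 14, 8124) .leaf)) (54237, 0, 17, 149138) (.node (.node .leaf (54240, 0, 18, 98753) .leaf) (54241, 0, 16, 133945) (.node .leaf (54246, 0, 15, 229977) .leaf))) (54247, 0, 12, 151424) (.node (.node (.node .leaf (54248, 0, 17, 93021) .leaf) (54249, 0, 17, 209523) (.node .leaf (54254,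 0, 14, 108481) .leaf)) (54255, 0, 16, 83879) (.node (.node .leaf (54258, 0, 17, 8005) .leaf) (54259, 0, 17, 149099) (.node .leaf (54260, 0, 14, 100394) .leaf)))) (54261, 0, 14, 19023) (.node (.node (.node (.node .leaf (54266, 0, 13, 62937) .leaf) (54267, 0, 12, 175351) (.node .leaf (54268, 0, 17, 167857) .leaf)) (54269, 0, 18, 159703) (.node (.node .leaf (54272, 0, 18, 166282) .leaf) (54274, 0, 17, 201569) (.node .leaf (54277, 0, 16, 151759) .leaf))) (54279, 0, 17, 196842) (.node (.node (.node .leaf (54280, 0, 16, 44050) .leaf) (54282, 0, 16, 260605) (.node .leaf (54285, 0, 17, 30039) .leaf)) (54287, 0, 13, 253902) (.node (.node .leaf (54289, 0, 17, 4537) .leaf) (54291, 0, 16, 82332) (.node .leaf (54292, 0, 16, 62200) .leaf))))))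

/-- part of the orbit tree -/
def itp1_332 : Tree := (.node (.node (.node (.node (.node (.node .leaf (54297, 0, 15, 15959) .leaf) (54299, 0, 14, 251429) (.node .leaf (54300, 0, 13, 191844) .leaf)) (54302, 0, 15, 245057) (.node (.node .leaf (54304, 0, 16, 98943) .leaf) (54306, 0, 18, 159339) (.node .leaf (54309, 0, 14, 106538) .leaf))) (54311, 0, 16, 2847) (.node (.node (.node .leaf (54312, 0, 15, 93317) .leaf) (54314, 0, 18, 165111) (.node .leaf (54317, 0, 16, 84662) .leaf)) (54319, 0, 18, 142983) (.node (.node .leaf (54321, 0, 17, 203340) .leaf) (54323, 0, 17, 147891) (.node .leaf (54324, 0, 16, 102386) .leaf)))) (54326, 0, 17, 157568) (.node (.node (.node (.node .leaf (54329, 0, 16, 82781) .leaf) (54331, 0, 16, 174895) (.node .leaf (54332, 0, 17, 91502) .leaf)) (54334, 0, 13, 167196) (.node (.node .leaf (54336, 0, 15, 123660) .leaf) (54338, 0, 16, 45865) (.node .leaf (54341, 0, 16, 34218) .leaf))) (54343, 0, 18, 27244) (.node (.node (.node .leaf (54344, 0, 16, 18693) .leaf) (54346, 0, 15, 169649)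 (.node .leaf (54349, 0, 16, 204753) .leaf)) (54351, 0, 13, 151540) (.node (.node .leaf (54353, 0, 17, 35905) .leaf) (54355, 0, 14, 222259) (.node .leaf (54356, 0, 15, 43634) .leaf))))) (54358, 0, 12, 193119) (.node (.node (.node (.node (.node .leaf (54361, 0, 15, 26333) .leaf) (54363, 0, 16, 3714) (.node .leaf (54364, 0, 18, 16622) .leaf)) (54366, 0, 17, 55239) (.node (.node .leaf (54368, 0, 17, 190713) .leaf) (54370, 0, 16, 243932) (.node .leaf (54373, 0, 13, 143804) .leaf))) (54375, 0, 16, 135378) (.node (.node (.node .leaf (54376, 0, 15, 52577) .leaf) (54378, 0, 14, 187517) (.node .leaf (54381, 0, 16, 70204) .leaf)) (54383, 0, 14, 195150) (.node (.node .leaf (54385, 0, 18, 28874) .leaf) (54387, 0, 16, 73967) (.node .leaf (54388, 0, 13, 43407) .leaf)))) (54390, 0, 14, 129450) (.node (.node (.node (.node .leaf (54393, 0, 16, 152914) .leaf) (54395, 0, 14, 193445) (.node .leaf (54396, 0, 16, 166935) .leaf)) (54398, 0, 16, 185750) (.node (.node .leaf (54401, 0, 18, 65254) .leaf) (54403, 0, 17, 110275)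 (.node .leaf (54404, 0, 14, 10147) .leaf))) (54406, 0, 13, 187413) (.node (.node (.node .leaf (54409, 0, 19, 187262) .leaf) (54411, 0, 15, 232283) (.node .leaf (54412, 0, 17, 131643) .leaf)) (54414, 0, 16, 217630) (.node (.node .leaf (54416, 0, 14, 81292) .leaf) (54418, 0, 17, 185854) (.node .leaf (54421, 0, 15, 72639) .leaf))))))

/-- part of the orbit tree -/
def itp1_333 : Tree := (.node (.node (.node (.node (.node (.node .leaf (54424, 0, 16, 17229) .leaf) (54426, 0, 16, 147298) (.node .leaf (54429, 0, 14, 39432) .leaf)) (54431, 0, 12, 117293) (.node (.node .leaf (54433, 0, 17, 259347) .leaf) (54435, 0, 18, 173366) (.node .leaf (54436, 0, 13, 18797) .leaf))) (54438, 0, 17, 162931) (.node (.node (.node .leaf (54441, 0, 13, 118923) .leaf) (54443, 0, 13, 224688) (.node .leaf (54444, 0, 17, 41969) .leaf)) (54446, 0, 13, 23019) (.node (.node .leaf (54448, 0, 16, 16518) .leaf) (54450, 0, 18, 239860) (.node .leaf (54453, 0, 17, 26293) .leaf)))) (54455, 0, 16, 233159) (.node (.node (.node (.node .leaf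 (54456, 0, 17, 215224) .leaf) (54458, 0, 18, 213608) (.node .leaf (54461, 0, 15, 233981) .leaf)) (54463, 0, 17, 180696) (.node (.node .leaf (54465, 0, 15, 84702) .leaf) (54467, 0, 15, 181317) (.node .leaf (54468, 0, 15, 216357) .leaf))) (54470, 0, 16, 165023) (.node (.node (.node .leaf (54473, 0, 15, 106562) .leaf) (54475, 0, 18, 57821) (.node .leaf (54476, 0, 19, 99953) .leaf)) (54478, 0, 15, 159235) (.node (.node .leaf (54480, 0, 17, 91398) .leaf) (54482, 0, 14, 167284) (.node .leaf (54485, 0, 14, 120086) .leaf))))) (54487, 0, 17, 174919) (.node (.node (.node (.node (.node .leaf (54488, 0, 14, 102298) .leaf) (54490, 0, 15, 157672) (.node .leaf (54493, 0, 13, 258190) .leaf)) (54495, 0, 16, 172203) (.node (.node .leaf (54497, 0, 18, 14292) .leaf) (54499, 0, 14, 118704) (.node .leaf (54500, 0, 18, 18128) .leaf))) (54502, 0, 17, 260501) (.node (.node (.node .leaf (54505, 0, 14, 56648) .leaf) (54507, 0, 18, 210234) (.node .leaf (54508, 0, 16, 64379) .leaf)) (54510, 0, 15, 201481) (.node (.node .leaf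 (54512, 0, 17, 133030) .leaf) (54514, 0, 16, 258174) (.node .leaf (54517, 0, 16, 188131) .leaf)))) (54519, 0, 18, 251469) (.node (.node (.node (.node .leaf (54520, 0, 16, 62096) .leaf) (54522, 0, 14, 203490) (.node .leaf (54525, 0, 16, 64379) .leaf)) (54527, 0, 17, 109406) (.node (.node .leaf (54529, 0, 15, 148958) .leaf) (54531, 0, 18, 109996) (.node .leaf (54532, 0, 17, 70365) .leaf))) (54534, 0, 16, 17144) (.node (.node (.node .leaf (54537, 0, 16, 257536) .leaf) (54539, 0, 16, 83760) (.node .leaf (54540, 0, 17, 166257) .leaf)) (54542, 0, 16, 90371) (.node (.node .leaf (54544, 0, 16, 158214) .leaf) (54546, 0, 16, 131982) (.node .leaf (54549, 0, 16, 150581) .leaf))))))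

/-- part of the orbit tree -/
def itp1_334 : Tree := (.node (.node (.node (.node (.node (.node .leaf (54552, 0, 15, 95795) .leaf) (54554, 0, 18, 92392) (.node .leaf (54557, 0, 16, 110454) .leaf)) (54559, 0, 14, 65363) (.node (.node .leaf (54561, 0, 10, 211156) .leaf) (54563, 0, 15, 53414) (.node .leaf (54564, 0, 12, 137512) .leaf))) (54566, 0, 14, 215309) (.node (.node (.node .leaf (54569, 0, 14, 250440) .leaf) (54571, 0, 13, 112080) (.node .leaf (54572, 0, 16, 259195) .leaf)) (54574, 0, 14, 7177) (.node (.node .leaf (54576, 0, 17, 202508) .leaf) (54578, 0, 17, 65406) (.node .leaf (54581, 0, 18, 209215) .leaf)))) (54583, 0, 17, 55629) (.node (.node (.node (.node .leaf (54584, 0, 13, 163270) .leaf) (54586, 0, 16, 208355) (.node .leaf (54589, 0, 17, 173187) .leaf)) (54591, 0, 16, 259238) (.node (.node .leaf (54593, 0, 15, 172318) .leaf) (54595, 0, 18, 128294) (.node .leaf (54596, 0, 16, 146279) .leaf))) (54598, 0, 13, 119573) (.node (.node (.node .leaf (54601, 0, 16, 33926) .leaf) (54603, 0, 17, 119971)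 (.node .leaf (54604, 0, 11, 24003) .leaf)) (54606, 0, 14, 80265) (.node (.node .leaf (54608, 0, 18, 144012) .leaf) (54610, 0, 14, 92424) (.node .leaf (54613, 0, 11, 57448) .leaf))))) (54615, 0, 15, 110669) (.node (.node (.node (.node (.node .leaf (54616, 0, 14, 138421) .leaf) (54618, 0, 15, 216208) (.node .leaf (54621, 0, 18, 181744) .leaf)) (54623, 0, 16, 71249) (.node (.node .leaf (54625, 0, 16, 221278) .leaf) (54627, 0, 13, 64206) (.node .leaf (54628, 0, 15, 95150) .leaf))) (54630, 0, 16, 9099) (.node (.node (.node .leaf (54633, 0, 17, 232130) .leaf) (54635, 0, 13, 25264) (.node .leaf (54636, 0, 16, 218678) .leaf)) (54638, 0, 17, 17539) (.node (.node .leaf (54640, 0, 17, 216966) .leaf) (54642, 0, 16, 156413) (.node .leaf (54645, 0, 15, 256925) .leaf)))) (54647, 0, 18, 33223) (.node (.node (.node (.node .leaf (54648, 0, 16, 71488) .leaf) (54650, 0, 18, 18277) (.node .leaf (54653, 0, 14, 118277) .leaf)) (54655, 0, 10, 40480) (.node (.node .leaf (54656, 0, 16, 244980) .leaf) (54658, 0, 18, 191697)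 (.node .leaf (54661, 0, 15, 222641) .leaf))) (54663, 0, 17, 144788) (.node (.node (.node .leaf (54664, 0, 15, 214533) .leaf) (54666, 0, 15, 51529) (.node .leaf (54669, 0, 15, 81961) .leaf)) (54671, 0, 15, 34884) (.node (.node .leaf (54673, 0, 16, 74951) .leaf) (54675, 0, 14, 29922) (.node .leaf (54676, 0, 16, 238962) .leaf))))))

/-- part of the orbit tree -/
def itp1_335 : Tree := (.node itp1_331 (54294, 0, 18, 104665) itp1_332)

/-- part of the orbit tree -/
def itp1_336 : Tree := (.node itp1_333 (54551, 0, 13, 187083) itp1_334)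

/-- part of the orbit tree -/
def itp1_337 : Tree := (.node (.node (.node (.node (.node (.node .leaf (54681, 0, 17, 196959) .leaf) (54683, 0, 16, 33199) (.node .leaf (54684, 0, 17, 251930) .leaf)) (54686, 0, 17, 165951) (.node (.node .leaf (54688, 0, 15, 46849) .leaf) (54690, 0, 16, 80353) (.node .leaf (54693, 0, 15, 194464) .leaf))) (54695, 0, 13, 81505) (.node (.node (.node .leaf (54696, 0, 13, 168601) .leaf) (54698, 0, 18, 246460) (.node .leaf (54701, 0, 18, 150492) .leaf)) (54703, 0, 14, 203769) (.node (.node .leaf (54705, 0, 15, 143154) .leaf) (54707, 0, 15, 71225) (.node .leaf (54708, 0, 12, 194167) .leaf)))) (54710, 0, 15, 239186) (.node (.node (.node (.node .leaf (54713, 0, 13, 136407) .leaf) (54715, 0, 14, 88719) (.node .leaf (54716, 0, 15, 144100) .leaf)) (54718, 0, 16, 121494) (.node (.node .leaf (54720, 0, 14, 259091) .leaf) (54722, 0, 15, 7265) (.node .leaf (54725, 0, 15, 3895) .leaf))) (54727, 0, 16, 89874) (.node (.node (.node .leaf (54728, 0, 15, 204431) .leaf) (54730, 0, 16, 63229)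 (.node .leaf (54733, 0, 16, 211132) .leaf)) (54735, 0, 13, 53454) (.node (.node .leaf (54737, 0, 16, 252875) .leaf) (54739, 0, 16, 13241) (.node .leaf (54740, 0, 17, 261624) .leaf))))) (54742, 0, 18, 247585) (.node (.node (.node (.node (.node .leaf (54745, 0, 15, 209239) .leaf) (54747, 0, 11, 55589) (.node .leaf (54748, 0, 16, 45724) .leaf)) (54750, 0, 16, 65302) (.node (.node .leaf (54752, 0, 18, 166169) .leaf) (54754, 0, 17, 90475) (.node .leaf (54757, 0, 16, 175914) .leaf))) (54759, 0, 15, 83800) (.node (.node (.node .leaf (54760, 0, 16, 129055) .leaf) (54762, 0, 16, 43066) (.node .leaf (54765, 0, 14, 148918) .leaf)) (54767, 0, 16, 110020) (.node (.node .leaf (54769, 0, 15, 83380) .leaf) (54771, 0, 16, 5521) (.node .leaf (54772, 0, 17, 164082) .leaf)))) (54774, 0, 16, 52436) (.node (.node (.node (.node .leaf (54777, 0, 17, 150621) .leaf) (54779, 0, 18, 107567) (.node .leaf (54780, 0, 15, 244073) .leaf)) (54782, 0, 18, 98844) (.node (.node .leaf (54788, 0, 16, 164130) .leaf) (54789, 0, 17, 55308)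 (.node .leaf (54790, 0, 16, 249084) .leaf))) (54791, 0, 16, 209022) (.node (.node (.node .leaf (54796, 0, 15, 158654) .leaf) (54797, 0, 14, 12944) (.node .leaf (54798, 0, 15, 125284) .leaf)) (54799, 0, 15, 67842) (.node (.node .leaf (54800, 0, 17, 166089) .leaf) (54801, 0, 16, 15817) (.node .leaf (54802, 0, 16, 101770) .leaf))))))

/-- part of the orbit tree -/
def itp1_338 : Tree := (.node (.node (.node (.node (.node (.node .leaf (54808, 0, 15, 156245) .leaf) (54809, 0, 18, 15227) (.node .leaf (54810, 0, 16, 100903) .leaf)) (54811, 0, 16, 250633) (.node (.node .leaf (54820, 0, 16, 261160) .leaf) (54821, 0, 16, 107782) (.node .leaf (54822, 0, 17, 50953) .leaf))) (54823, 0, 17, 10095) (.node (.node (.node .leaf (54828, 0, 15, 202420) .leaf) (54829, 0, 18, 217810) (.node .leaf (54830, 0, 16, 65222) .leaf)) (54831, 0, 18, 131831) (.node (.node .leaf (54832, 0, 12, 251482) .leaf) (54833, 0, 16, 210492) (.node .leaf (54834, 0, 16, 7601) .leaf)))) (54835, 0, 16, 157209) (.node (.node (.node (.node .leaf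 (54840, 0, 15, 204639) .leaf) (54841, 0, 10, 83569) (.node .leaf (54842, 0, 14, 63277) .leaf)) (54843, 0, 17, 17281) (.node (.node .leaf (54852, 0, 15, 128607) .leaf) (54853, 0, 15, 71225) (.node .leaf (54854, 0, 16, 78298) .leaf))) (54855, 0, 16, 17948) (.node (.node (.node .leaf (54860, 0, 17, 250823) .leaf) (54861, 0, 13, 209825) (.node .leaf (54862, 0, 17, 121670) .leaf)) (54863, 0, 15, 156548) (.node (.node .leaf (54864, 0, 17, 184387) .leaf) (54865, 0, 12, 218959) (.node .leaf (54866, 0, 17, 190220) .leaf))))) (54867, 0, 15, 221471) (.node (.node (.node (.node (.node .leaf (54872, 0, 17, 146143) .leaf) (54873, 0, 16, 94935) (.node .leaf (54874, 0, 16, 49812) .leaf)) (54875, 0, 16, 8946) (.node (.node .leaf (54884, 0, 17, 196010) .leaf) (54885, 0, 15, 130444) (.node .leaf (54886, 0, 13, 241039) .leaf))) (54887, 0, 15, 136702) (.node (.node (.node .leaf (54892, 0, 19, 55346) .leaf) (54893, 0, 15, 71440) (.node .leaf (54894, 0, 16, 100375) .leaf)) (54895, 0, 16, 92273) (.node (.node .leaf (54896,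 0, 14, 240969) .leaf) (54897, 0, 11, 128103) (.node .leaf (54898, 0, 15, 126201) .leaf)))) (54899, 0, 15, 68767) (.node (.node (.node (.node .leaf (54904, 0, 13, 170308) .leaf) (54905, 0, 16, 162082) (.node .leaf (54906, 0, 17, 44967) .leaf)) (54907, 0, 15, 194185) (.node (.node .leaf (54912, 0, 9, 216662) .leaf) (54913, 0, 15, 53910) (.node .leaf (54914, 0, 14, 42532) .leaf))) (54915, 0, 16, 196362) (.node (.node (.node .leaf (54920, 0, 17, 137064) .leaf) (54921, 0, 18, 130532) (.node .leaf (54922, 0, 16, 214861) .leaf)) (54923, 0, 16, 239403) (.node (.node .leaf (54932, 0, 15, 214973) .leaf) (54933, 0, 16, 73363) (.node .leaf (54934, 0, 17, 45007) .leaf))))))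

/-- part of the orbit tree -/
def itp1_339 : Tree := (.node (.node (.node (.node (.node (.node .leaf (54940, 0, 16, 240929) .leaf) (54941, 0, 17, 128015) (.node .leaf (54942, 0, 15, 17747) .leaf)) (54943, 0, 17, 138365) (.node (.node .leaf (54944, 0, 17, 211205) .leaf) (54945, 0, 13, 27250) (.node .leaf (54946, 0, 15, 121646) .leaf))) (54947, 0, 18, 166214) (.node (.node (.node .leaf (54952, 0, 14, 72861) .leaf) (54953, 0, 18, 33006) (.node .leaf (54954, 0, 17, 78258) .leaf)) (54955, 0, 13, 223388) (.node (.node .leaf (54964, 0, 15, 96371) .leaf) (54965, 0, 11, 25497) (.node .leaf (54966, 0, 15, 119493) .leaf)))) (54967, 0, 17, 232427) (.node (.node (.node (.node .leaf (54972, 0, 17, 220651) .leaf) (54973, 0, 17, 245133) (.node .leaf (54974, 0, 15, 79961) .leaf)) (54975, 0, 17, 221559) (.node (.node .leaf (54976, 0, 16, 219254) .leaf) (54977, 0, 17, 243728) (.node .leaf (54978, 0, 17, 65198) .leaf))) (54979, 0, 12, 173952) (.node (.node (.node .leaf (54984, 0, 14, 97774) .leaf) (54985, 0, 16, 105864)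 (.node .leaf (54986, 0, 18, 11723) .leaf)) (54987, 0, 17, 52653) (.node (.node .leaf (54996, 0, 16, 204599) .leaf) (54997, 0, 16, 83481) (.node .leaf (54998, 0, 17, 18725) .leaf))))) (54999, 0, 13, 43331) (.node (.node (.node (.node (.node .leaf (55004, 0, 18, 212120) .leaf) (55005, 0, 14, 253182) (.node .leaf (55006, 0, 16, 158909) .leaf)) (55007, 0, 17, 167131) (.node (.node .leaf (55008, 0, 16, 21379) .leaf) (55009, 0, 16, 13048) (.node .leaf (55010, 0, 16, 99236) .leaf))) (55011, 0, 16, 252554) (.node (.node (.node .leaf (55016, 0, 14, 161307) .leaf) (55017, 0, 15, 55396) (.node .leaf (55018, 0, 15, 206398) .leaf)) (55019, 0, 16, 247384) (.node (.node .leaf (55028, 0, 16, 135925) .leaf) (55029, 0, 15, 193171) (.node .leaf (55030, 0, 15, 213712) .leaf)))) (55031, 0, 16, 250721) (.node (.node (.node (.node .leaf (55036, 0, 15, 14189) .leaf) (55037, 0, 13, 53647) (.node .leaf (55038, 0, 19, 91976) .leaf)) (55039, 0, 16, 100142) (.node (.node .leaf (55040, 0, 15, 6620) .leaf) (55041, 0, 18, 147698)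 (.node .leaf (55042, 0, 15, 22443) .leaf))) (55043, 0, 15, 108672) (.node (.node (.node .leaf (55048, 0, 18, 62272) .leaf) (55049, 0, 19, 246384) (.node .leaf (55050, 0, 15, 160307) .leaf)) (55051, 0, 14, 82460) (.node (.node .leaf (55060, 0, 18, 4151) .leaf) (55061, 0, 18, 149785) (.node .leaf (55062, 0, 15, 136925) .leaf))))))

/-- part of the orbit tree -/
def itp1_340 : Tree := (.node (.node (.node (.node (.node (.node .leaf (55068, 0, 14, 90976) .leaf) (55069, 0, 16, 99078) (.node .leaf (55070, 0, 17, 201433) .leaf)) (55071, 0, 14, 54051) (.node (.node .leaf (55072, 0, 18, 134267) .leaf) (55073, 0, 17, 212472) (.node .leaf (55074, 0, 17, 220254) .leaf))) (55075, 0, 16, 244792) (.node (.node (.node .leaf (55080, 0, 15, 101962) .leaf) (55081, 0, 14, 51589) (.node .leaf (55082, 0, 17, 96710) .leaf)) (55083, 0, 17, 104864) (.node (.node .leaf (55092, 0, 15, 93501) .leaf) (55093, 0, 16, 44395) (.node .leaf (55094, 0, 15, 73000) .leaf)))) (55095, 0, 16, 130382) (.node (.node (.node (.node .leaf (55100,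 0, 13, 100257) .leaf) (55101, 0, 17, 166131) (.node .leaf (55102, 0, 15, 159699) .leaf)) (55103, 0, 17, 14077) (.node (.node .leaf (55104, 0, 17, 158984) .leaf) (55105, 0, 13, 137336) (.node .leaf (55106, 0, 14, 239908) .leaf))) (55107, 0, 13, 126986) (.node (.node (.node .leaf (55112, 0, 16, 43978) .leaf) (55113, 0, 15, 193252) (.node .leaf (55114, 0, 18, 213944) .leaf)) (55115, 0, 17, 72342) (.node (.node .leaf (55124, 0, 18, 18621) .leaf) (55125, 0, 17, 135571) (.node .leaf (55126, 0, 15, 97371) .leaf))))) (55127, 0, 17, 129505) (.node (.node (.node (.node (.node .leaf (55132, 0, 18, 41505) .leaf) (55133, 0, 14, 195343) (.node .leaf (55134, 0, 16, 215635) .leaf)) (55135, 0, 12, 70525) (.node (.node .leaf (55136, 0, 14, 91901) .leaf) (55137, 0, 18, 99995) (.node .leaf (55138, 0, 15, 185390) .leaf))) (55139, 0, 16, 54974) (.node (.node (.node .leaf (55144, 0, 6, 213861) .leaf) (55145, 0, 10, 233454) (.node .leaf (55146, 0, 16, 147122) .leaf)) (55147, 0, 18, 193318) (.node (.node .leaf (55156, 0,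 16, 206731) .leaf) (55157, 0, 17, 224409) (.node .leaf (55158, 0, 15, 187845) .leaf)))) (55159, 0, 18, 169928) (.node (.node (.node (.node .leaf (55164, 0, 17, 66067) .leaf) (55165, 0, 17, 230917) (.node .leaf (55166, 0, 15, 21046) .leaf)) (55167, 0, 17, 28279) (.node (.node .leaf (55172, 0, 16, 120488) .leaf) (55173, 0, 14, 215489) (.node .leaf (55174, 0, 17, 147162) .leaf))) (55175, 0, 15, 137700) (.node (.node (.node .leaf (55180, 0, 17, 80948) .leaf) (55181, 0, 15, 93273) (.node .leaf (55182, 0, 15, 56346) .leaf)) (55183, 0, 18, 36200) (.node (.node .leaf (55184, 0, 17, 122691) .leaf) (55185, 0, 12, 67767) .leaf)))))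

/-- part of the orbit tree -/
def itp1_341 : Tree := (.node itp1_337 (54803, 0, 11, 211349) itp1_338)

/-- part of the orbit tree -/
def itp1_342 : Tree := (.node itp1_339 (55063, 0, 17, 106859) itp1_340)

/-- part of the orbit tree -/
def itp1_343 : Tree := (.node itp1_335 (54423, 0, 14, 193485) itp1_336)

/-- part of the orbit tree -/
def itp1_344 : Tree := (.node itp1_341 (54935, 0, 16, 194273) itp1_342)

/-- part of the orbit tree -/
def itp1_345 : Tree := (.node itp1_329 (53656, 0, 18, 195473) itp1_330)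

/-- part of the orbit tree -/
def itp1_346 : Tree := (.node itp1_343 (54678, 0, 16, 44455) itp1_344)

/-- part of the orbit tree -/
def itp1_347 : Tree := (.node (.node (.node (.node (.node (.node .leaf (55187, 0, 17, 28191) .leaf) (55192, 0, 17, 79327) (.node .leaf (55193, 0, 17, 208175) .leaf)) (55194, 0, 16, 187821) (.node (.node .leaf (55195, 0, 14, 163082) .leaf) (55204, 0, 13, 41554) (.node .leaf (55205, 0, 17, 16948) .leaf))) (55206, 0, 15, 127607) (.node (.node (.node .leaf (55207, 0, 16, 70161) .leaf) (55212, 0, 13, 16702) (.node .leaf (55213, 0, 18, 137232) .leaf)) (55214, 0, 17, 251887) (.node (.node .leaf (55215, 0, 12, 210825) .leaf) (55216, 0, 15, 189220) (.node .leaf (55217, 0, 19, 131906) .leaf)))) (55218, 0, 12, 215611) (.node (.node (.node (.node .leaf (55219, 0, 14, 217959) .leaf) (55224, 0, 15, 18645) (.node .leaf (55225, 0, 16, 135675) .leaf)) (55226, 0, 13, 237735) (.node (.node .leaf (55227, 0, 14, 95999) .leaf) (55236, 0, 16, 49953) (.node .leaf (55237, 0, 15, 251660) .leaf)))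 (55238, 0, 17, 103172) (.node (.node (.node .leaf (55239, 0, 16, 16254) .leaf) (55244, 0, 17, 91326) (.node .leaf (55245, 0, 17, 132831) .leaf)) (55246, 0, 16, 167116) (.node (.node .leaf (55247, 0, 18, 218874) .leaf) (55248, 0, 18, 100297) (.node .leaf (55249, 0, 15, 253671) .leaf))))) (55250, 0, 17, 159675) (.node (.node (.node (.node (.node .leaf (55251, 0, 16, 209428) .leaf) (55256, 0, 16, 42959) (.node .leaf (55257, 0, 17, 210043) .leaf)) (55258, 0, 14, 129002) (.node (.node .leaf (55259, 0, 14, 56329) .leaf) (55268, 0, 16, 248020) (.node .leaf (55269, 0, 17, 174598) .leaf))) (55270, 0, 15, 170225) (.node (.node (.node .leaf (55271, 0, 18, 82548) .leaf) (55276, 0, 18, 6580) (.node .leaf (55277, 0, 10, 68906) .leaf)) (55278, 0, 14, 48489) (.node (.node .leaf (55279, 0, 15, 108776) .leaf) (55280, 0, 17, 64195) (.node .leaf (55281, 0, 18, 92612) .leaf)))) (55282, 0, 16, 55687) (.node (.node (.node (.node .leaf (55283, 0, 16, 14817) .leaf) (55288, 0, 15, 4191) (.node .leaf (55289, 0, 15, 216156)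 .leaf)) (55290, 0, 16, 195615) (.node (.node .leaf (55291, 0, 18, 106755) .leaf) (55296, 0, 17, 126270) (.node .leaf (55299, 0, 15, 131716) .leaf))) (55300, 0, 15, 119837) (.node (.node (.node .leaf (55303, 0, 18, 25694) .leaf) (55304, 0, 17, 219460) (.node .leaf (55307, 0, 16, 190488) .leaf)) (55308, 0, 16, 258437) (.node (.node .leaf (55311, 0, 16, 147910) .leaf) (55313, 0, 14, 226573) (.node .leaf (55314, 0, 18, 142684) .leaf))))))

/-- part of the orbit tree -/
def itp1_348 : Tree := (.node (.node (.node (.node (.node (.node .leaf (55318, 0, 16, 21057) .leaf) (55321, 0, 13, 226972) (.node .leaf (55322, 0, 19, 182208) .leaf)) (55325, 0, 13, 92598) (.node (.node .leaf (55326, 0, 15, 55797) .leaf) (55328, 0, 16, 190155) (.node .leaf (55331, 0, 13, 218760) .leaf))) (55332, 0, 15, 188392) (.node (.node (.node .leaf (55335, 0, 10, 225195) .leaf) (55336, 0, 15, 140366) (.node .leaf (55339, 0, 18, 94992) .leaf)) (55340, 0, 16, 64112) (.node (.node .leaf (55343, 0, 12, 84531) .leaf) (55345, 0, 17, 32504)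 (.node .leaf (55346, 0, 18, 118459) .leaf)))) (55349, 0, 16, 18395) (.node (.node (.node (.node .leaf (55350, 0, 17, 77643) .leaf) (55353, 0, 17, 134038) (.node .leaf (55354, 0, 17, 256803) .leaf)) (55357, 0, 17, 156227) (.node (.node .leaf (55358, 0, 15, 116183) .leaf) (55360, 0, 10, 165816) (.node .leaf (55363, 0, 12, 210939) .leaf))) (55364, 0, 14, 179867) (.node (.node (.node .leaf (55367, 0, 17, 200408) .leaf) (55368, 0, 15, 197070) (.node .leaf (55371, 0, 17, 176274) .leaf)) (55372, 0, 18, 39683) (.node (.node .leaf (55375, 0, 17, 76608) .leaf) (55377, 0, 14, 8075) (.node .leaf (55378, 0, 18, 110536) .leaf))))) (55381, 0, 16, 9896) (.node (.node (.node (.node (.node .leaf (55382, 0, 17, 104171) .leaf) (55385, 0, 17, 145939) (.node .leaf (55386, 0, 18, 171850) .leaf)) (55389, 0, 16, 131888) (.node (.node .leaf (55390, 0, 14, 57431) .leaf) (55392, 0, 17, 101453) (.node .leaf (55395, 0, 17, 206596) .leaf))) (55396, 0, 14, 59717) (.node (.node (.node .leaf (55399, 0, 19, 1325) .leaf) (55400, 0,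 18, 163012) (.node .leaf (55403, 0, 17, 137622) .leaf)) (55404, 0, 17, 985) (.node (.node .leaf (55407, 0, 18, 111237) .leaf) (55409, 0, 15, 201854) (.node .leaf (55410, 0, 17, 198876) .leaf)))) (55413, 0, 14, 50845) (.node (.node (.node (.node .leaf (55414, 0, 17, 171294) .leaf) (55417, 0, 16, 152348) (.node .leaf (55418, 0, 16, 254528) .leaf)) (55421, 0, 14, 67781) (.node (.node .leaf (55422, 0, 17, 47238) .leaf) (55425, 0, 15, 236114) (.node .leaf (55426, 0, 17, 256963) .leaf))) (55429, 0, 13, 9602) (.node (.node (.node .leaf (55430, 0, 16, 103646) .leaf) (55433, 0, 17, 176131) (.node .leaf (55434, 0, 16, 3977) .leaf)) (55437, 0, 18, 53022) (.node (.node .leaf (55438, 0, 18, 97858) .leaf) (55440, 0, 18, 161095) (.node .leaf (55443, 0, 15, 45602) .leaf))))))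

/-- part of the orbit tree -/
def itp1_349 : Tree := (.node (.node (.node (.node (.node (.node .leaf (55447, 0, 15, 35585) .leaf) (55448, 0, 17, 206841) (.node .leaf (55451, 0, 17, 169914) .leaf)) (55452, 0, 8, 204506) (.node (.node .leaf (55455, 0, 17, 175769) .leaf) (55457, 0, 15, 206741) (.node .leaf (55458, 0, 14, 169673) .leaf))) (55461, 0, 18, 88200) (.node (.node (.node .leaf (55462, 0, 17, 71879) .leaf) (55465, 0, 16, 177215) (.node .leaf (55466, 0, 16, 162901) .leaf)) (55469, 0, 13, 167196) (.node (.node .leaf (55470, 0, 17, 840) .leaf) (55472, 0, 17, 198733) (.node .leaf (55475, 0, 15, 178449) .leaf)))) (55476, 0, 17, 96080) (.node (.node (.node (.node .leaf (55479, 0, 17, 50700) .leaf) (55480, 0, 17, 11276) (.node .leaf (55483, 0, 17, 152461) .leaf)) (55484, 0, 15, 5423) (.node (.node .leaf (55487, 0, 12, 107884) .leaf) (55489, 0, 15, 131605) (.node .leaf (55490, 0, 16, 82071) .leaf))) (55493, 0, 16, 51703) (.node (.node (.node .leaf (55494, 0, 12, 117844) .leaf) (55497, 0, 17, 190601)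 (.node .leaf (55498, 0, 16, 222479) .leaf)) (55501, 0, 15, 38804) (.node (.node .leaf (55502, 0, 18, 75464) .leaf) (55504, 0, 13, 142797) (.node .leaf (55507, 0, 15, 252068) .leaf))))) (55508, 0, 13, 152004) (.node (.node (.node (.node (.node .leaf (55511, 0, 14, 254343) .leaf) (55512, 0, 17, 182097) (.node .leaf (55515, 0, 16, 226829) .leaf)) (55516, 0, 18, 29788) (.node (.node .leaf (55519, 0, 14, 67856) .leaf) (55521, 0, 17, 260897) (.node .leaf (55522, 0, 16, 150370) .leaf))) (55525, 0, 17, 246274) (.node (.node (.node .leaf (55526, 0, 14, 160321) .leaf) (55529, 0, 14, 122553) (.node .leaf (55530, 0, 17, 140511) .leaf)) (55533, 0, 16, 125598) (.node (.node .leaf (55534, 0, 17, 23490) .leaf) (55536, 0, 17, 217287) (.node .leaf (55539, 0, 17, 54097) .leaf)))) (55540, 0, 17, 77786) (.node (.node (.node (.node .leaf (55543, 0, 17, 60018) .leaf) (55544, 0, 16, 244315) (.node .leaf (55547, 0, 17, 133895) .leaf)) (55548, 0, 15, 116038) (.node (.node .leaf (55551, 0, 16, 184298) .leaf) (55553, 0, 15,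 68885) (.node .leaf (55554, 0, 17, 204655) .leaf))) (55557, 0, 9, 225800) (.node (.node (.node .leaf (55558, 0, 17, 181076) .leaf) (55561, 0, 16, 35508) (.node .leaf (55562, 0, 13, 80631) .leaf)) (55565, 0, 17, 235668) (.node (.node .leaf (55566, 0, 15, 66516) .leaf) (55568, 0, 19, 14111) (.node .leaf (55571, 0, 16, 37777) .leaf))))))

/-- part of the orbit tree -/
def itp1_350 : Tree := (.node (.node (.node (.node (.node (.node .leaf (55575, 0, 14, 114303) .leaf) (55576, 0, 17, 135815) (.node .leaf (55579, 0, 15, 238276) .leaf)) (55580, 0, 16, 142244) (.node (.node .leaf (55583, 0, 17, 132624) .leaf) (55585, 0, 15, 28703) (.node .leaf (55586, 0, 17, 115011) .leaf))) (55589, 0, 10, 134914) (.node (.node (.node .leaf (55590, 0, 12, 11705) .leaf) (55593, 0, 15, 229697) (.node .leaf (55594, 0, 14, 76767) .leaf)) (55597, 0, 16, 243810) (.node (.node .leaf (55598, 0, 17, 218306) .leaf) (55600, 0, 15, 24519) (.node .leaf (55603, 0, 17, 126619) .leaf)))) (55604, 0, 18, 139482) (.node (.node (.node (.node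 .leaf (55607, 0, 16, 233862) .leaf) (55608, 0, 17, 46427) (.node .leaf (55611, 0, 12, 43313) .leaf)) (55612, 0, 16, 73809) (.node (.node .leaf (55615, 0, 14, 36882) .leaf) (55617, 0, 14, 116138) (.node .leaf (55618, 0, 17, 30185) .leaf))) (55621, 0, 14, 207490) (.node (.node (.node .leaf (55622, 0, 15, 170974) .leaf) (55625, 0, 17, 114435) (.node .leaf (55626, 0, 16, 3679) .leaf)) (55629, 0, 16, 245790) (.node (.node .leaf (55630, 0, 16, 160066) .leaf) (55632, 0, 18, 96839) (.node .leaf (55635, 0, 16, 191962) .leaf))))) (55636, 0, 17, 222394) (.node (.node (.node (.node (.node .leaf (55639, 0, 17, 177158) .leaf) (55640, 0, 16, 102619) (.node .leaf (55643, 0, 14, 8583) .leaf)) (55644, 0, 16, 257990) (.node (.node .leaf (55647, 0, 16, 155290) .leaf) (55649, 0, 13, 10389) (.node .leaf (55650, 0, 16, 104905) .leaf))) (55653, 0, 15, 153480) (.node (.node (.node .leaf (55654, 0, 10, 255700) .leaf) (55657, 0, 17, 49673) (.node .leaf (55658, 0, 15, 88964) .leaf)) (55661, 0, 16, 53988) (.node (.node .leaf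 (55662, 0, 14, 90791) .leaf) (55664, 0, 18, 22124) (.node .leaf (55667, 0, 18, 112145) .leaf)))) (55668, 0, 15, 28495) (.node (.node (.node (.node .leaf (55671, 0, 15, 248076) .leaf) (55672, 0, 11, 60881) (.node .leaf (55675, 0, 14, 89229) .leaf)) (55676, 0, 17, 168652) (.node (.node .leaf (55679, 0, 14, 205712) .leaf) (55680, 0, 11, 55360) (.node .leaf (55683, 0, 15, 87310) .leaf))) (55684, 0, 15, 57699) (.node (.node (.node .leaf (55687, 0, 15, 207379) .leaf) (55688, 0, 17, 3790) (.node .leaf (55691, 0, 17, 114578) .leaf)) (55692, 0, 13, 160211) (.node (.node .leaf (55695, 0, 13, 245903) .leaf) (55697, 0, 18, 52106) (.node .leaf (55698, 0, 11, 258096) .leaf))))))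

/-- part of the orbit tree -/
def itp1_351 : Tree := (.node itp1_347 (55317, 0, 17, 216110) itp1_348)

/-- part of the orbit tree -/
def itp1_352 : Tree := (.node itp1_349 (55572, 0, 16, 220624) itp1_350)

/-- part of the orbit tree -/
def itp1_353 : Tree := (.node (.node (.node (.node (.node (.node .leaf (55702, 0, 17, 198091) .leaf) (55705, 0, 12, 26091) (.node .leaf (55706, 0, 14, 120232) .leaf)) (55709, 0, 16, 155147) (.node (.node .leaf (55710, 0, 18, 126091) .leaf) (55712, 0, 17, 250805) (.node .leaf (55715, 0, 16, 156662) .leaf))) (55716, 0, 14, 255557) (.node (.node (.node .leaf (55719, 0, 15, 154325) .leaf) (55720, 0, 17, 95172) (.node .leaf (55723, 0, 12, 18030) .leaf)) (55724, 0, 14, 118542) (.node (.node .leaf (55727, 0, 15, 32589) .leaf) (55729, 0, 16, 112256) (.node .leaf (55730, 0, 13, 2012) .leaf)))) (55733, 0, 17, 248221) (.node (.node (.node (.node .leaf (55734, 0, 17, 161985) .leaf) (55737, 0, 14, 89116) (.node .leaf (55738, 0, 18, 187997) .leaf)) (55741, 0, 17, 205569) (.node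 (.node .leaf (55742, 0, 17, 168541) .leaf) (55744, 0, 14, 48344) (.node .leaf (55747, 0, 14, 131717) .leaf))) (55748, 0, 15, 232421) (.node (.node (.node .leaf (55751, 0, 15, 225945) .leaf) (55752, 0, 18, 22084) (.node .leaf (55755, 0, 12, 124696) .leaf)) (55756, 0, 16, 110205) (.node (.node .leaf (55759, 0, 18, 7742) .leaf) (55761, 0, 17, 37632) (.node .leaf (55762, 0, 17, 39606) .leaf))))) (55765, 0, 14, 70614) (.node (.node (.node (.node (.node .leaf (55766, 0, 14, 41877) .leaf) (55769, 0, 15, 31132) (.node .leaf (55770, 0, 17, 116928) .leaf)) (55773, 0, 14, 210510) (.node (.node .leaf (55774, 0, 15, 165389) .leaf) (55776, 0, 16, 47411) (.node .leaf (55779, 0, 16, 67952) .leaf))) (55780, 0, 17, 32784) (.node (.node (.node .leaf (55783, 0, 14, 135059) .leaf) (55784, 0, 18, 171179) (.node .leaf (55787, 0, 18, 39442) .leaf)) (55788, 0, 15, 173448) (.node (.node .leaf (55791, 0, 15, 189711) .leaf) (55793, 0, 18, 139520) (.node .leaf (55794, 0, 16, 233795) .leaf)))) (55797, 0, 14, 233751) (.node (.node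 (.node (.node .leaf (55798, 0, 17, 239712) .leaf) (55801, 0, 15, 66710) (.node .leaf (55802, 0, 13, 111835) .leaf)) (55805, 0, 16, 15803) (.node (.node .leaf (55806, 0, 18, 101880) .leaf) (55810, 0, 13, 37227) (.node .leaf (55811, 0, 16, 133032) .leaf))) (55814, 0, 17, 43080) (.node (.node (.node .leaf (55815, 0, 15, 18478) .leaf) (55818, 0, 14, 46106) (.node .leaf (55819, 0, 18, 152725) .leaf)) (55822, 0, 16, 167376) (.node (.node .leaf (55823, 0, 15, 37417) .leaf) (55824, 0, 18, 114690) (.node .leaf (55825, 0, 16, 219517) .leaf))))))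

/-- part of the orbit tree -/
def itp1_354 : Tree := (.node (.node (.node (.node (.node (.node .leaf (55829, 0, 15, 124465) .leaf) (55832, 0, 17, 76446) (.node .leaf (55833, 0, 12, 97509) .leaf)) (55836, 0, 16, 107936) (.node (.node .leaf (55837, 0, 16, 68781) .leaf) (55842, 0, 16, 236190) (.node .leaf (55843, 0, 16, 228088) .leaf))) (55846, 0, 18, 220305) (.node (.node (.node .leaf (55847, 0, 15, 213979) .leaf) (55850, 0, 17, 114438) (.node .leaf (55851, 0, 15, 89952) .leaf)) (55854, 0, 15, 99877) (.node (.node .leaf (55855, 0, 16, 126755) .leaf) (55856, 0, 14, 45806) (.node .leaf (55857, 0, 17, 21128) .leaf)))) (55860, 0, 16, 180757) (.node (.node (.node (.node .leaf (55861, 0, 17, 27563) .leaf) (55864, 0, 17, 22420) (.node .leaf (55865, 0, 17, 134842) .leaf)) (55868, 0, 17, 141449) (.node (.node .leaf (55869, 0, 17, 151091) .leaf) (55874, 0, 17, 1548) (.node .leaf (55875, 0, 15, 155426) .leaf))) (55878, 0, 17, 246478) (.node (.node (.node .leaf (55879, 0, 17, 8255) .leaf) (55882, 0, 14, 122485)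 (.node .leaf (55883, 0, 16, 177598) .leaf)) (55886, 0, 16, 168845) (.node (.node .leaf (55887, 0, 15, 67376) .leaf) (55888, 0, 14, 54173) (.node .leaf (55889, 0, 14, 246182) .leaf))))) (55892, 0, 16, 255893) (.node (.node (.node (.node (.node .leaf (55893, 0, 16, 114363) .leaf) (55896, 0, 17, 94740) (.node .leaf (55897, 0, 19, 207674) .leaf)) (55900, 0, 16, 184102) (.node (.node .leaf (55901, 0, 15, 143168) .leaf) (55906, 0, 17, 61464) (.node .leaf (55907, 0, 17, 4222) .leaf))) (55910, 0, 12, 197659) (.node (.node (.node .leaf (55911, 0, 15, 10589) .leaf) (55914, 0, 15, 185728) (.node .leaf (55915, 0, 17, 144870) .leaf)) (55918, 0, 17, 191651) (.node (.node .leaf (55919, 0, 16, 112553) .leaf) (55920, 0, 17, 252008) (.node .leaf (55921, 0, 16, 210958) .leaf)))) (55924, 0, 15, 170655) (.node (.node (.node (.node .leaf (55925, 0, 16, 50097) .leaf) (55928, 0, 16, 3870) (.node .leaf (55929, 0, 16, 73110) .leaf)) (55932, 0, 15, 159747) (.node (.node .leaf (55933, 0, 16, 10541) .leaf) (55936, 0, 15, 218692)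 (.node .leaf (55937, 0, 16, 243234) .leaf))) (55940, 0, 17, 225127) (.node (.node (.node .leaf (55941, 0, 15, 8366) .leaf) (55944, 0, 17, 95196) (.node .leaf (55945, 0, 18, 103354) .leaf)) (55948, 0, 16, 168732) (.node (.node .leaf (55949, 0, 16, 51762) .leaf) (55954, 0, 18, 32308) (.node .leaf (55955, 0, 13, 40530) .leaf))))))

/-- part of the orbit tree -/
def itp1_355 : Tree := (.node (.node (.node (.node (.node (.node .leaf (55959, 0, 17, 42865) .leaf) (55962, 0, 13, 94853) (.node .leaf (55963, 0, 15, 179146) .leaf)) (55966, 0, 16, 156303) (.node (.node .leaf (55967, 0, 16, 164585) .leaf) (55968, 0, 17, 23985) (.node .leaf (55969, 0, 13, 48599) .leaf))) (55972, 0, 16, 197770) (.node (.node (.node .leaf (55973, 0, 15, 34036) .leaf) (55976, 0, 10, 161833) (.node .leaf (55977, 0, 13, 247845) .leaf)) (55980, 0, 12, 257558) (.node (.node .leaf (55981, 0, 15, 112440) .leaf) (55986, 0, 17, 226753) (.node .leaf (55987, 0, 15, 234919) .leaf)))) (55990, 0, 17, 216290) (.node (.node (.node (.node .leaf (55991,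 0, 15, 240772) .leaf) (55994, 0, 16, 86105) (.node .leaf (55995, 0, 17, 153249) .leaf)) (55998, 0, 15, 92538) (.node (.node .leaf (55999, 0, 14, 100636) .leaf) (56000, 0, 17, 15554) (.node .leaf (56001, 0, 14, 56484) .leaf))) (56004, 0, 17, 1505) (.node (.node (.node .leaf (56005, 0, 14, 30756) .leaf) (56008, 0, 14, 46219) (.node .leaf (56009, 0, 16, 191909) .leaf)) (56012, 0, 15, 183190) (.node (.node .leaf (56013, 0, 17, 37560) .leaf) (56018, 0, 18, 201906) (.node .leaf (56019, 0, 18, 235965) .leaf))))) (56022, 0, 13, 208273) (.node (.node (.node (.node (.node .leaf (56023, 0, 17, 249335) .leaf) (56026, 0, 16, 78122) (.node .leaf (56027, 0, 17, 119116) .leaf)) (56030, 0, 16, 67593) (.node (.node .leaf (56031, 0, 17, 125039) .leaf) (56032, 0, 17, 210743) (.node .leaf (56033, 0, 15, 251729) .leaf))) (56036, 0, 18, 220160) (.node (.node (.node .leaf (56037, 0, 16, 66862) .leaf) (56040, 0, 13, 70319) (.node .leaf (56041, 0, 12, 233647) .leaf)) (56044, 0, 18, 243356) (.node (.node .leaf (56045, 0, 17,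 126898) .leaf) (56050, 0, 17, 8007) (.node .leaf (56051, 0, 18, 65313) .leaf)))) (56054, 0, 17, 180868) (.node (.node (.node (.node .leaf (56055, 0, 17, 39850) .leaf) (56058, 0, 17, 146143) (.node .leaf (56059, 0, 11, 187065) .leaf)) (56062, 0, 17, 132092) (.node (.node .leaf (56063, 0, 18, 28982) .leaf) (56064, 0, 16, 217367) (.node .leaf (56065, 0, 15, 164700) .leaf))) (56068, 0, 14, 77322) (.node (.node (.node .leaf (56069, 0, 18, 227108) .leaf) (56072, 0, 16, 18082) (.node .leaf (56073, 0, 15, 123557) .leaf)) (56076, 0, 17, 32641) (.node (.node .leaf (56077, 0, 13, 40935) .leaf) (56082, 0, 16, 184211) (.node .leaf (56083, 0, 17, 38589) .leaf))))))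

/-- part of the orbit tree -/
def itp1_356 : Tree := (.node (.node (.node (.node (.node (.node .leaf (56087, 0, 15, 102927) .leaf) (56090, 0, 16, 140559) (.node .leaf (56091, 0, 17, 31777) .leaf)) (56094, 0, 12, 23058) (.node (.node .leaf (56095, 0, 16, 243607) .leaf) (56096, 0, 15, 92367) (.node .leaf (56097, 0, 17, 100521) .leaf))) (56100, 0, 15, 86508) (.node (.node (.node .leaf (56101, 0, 11, 133678) .leaf) (56104, 0, 13, 181889) (.node .leaf (56105, 0, 18, 40879) .leaf)) (56108, 0, 17, 226420) (.node (.node .leaf (56109, 0, 12, 188594) .leaf) (56114, 0, 12, 242329) (.node .leaf (56115, 0, 17, 125879) .leaf)))) (56118, 0, 16, 118148) (.node (.node (.node (.node .leaf (56119, 0, 17, 170490) .leaf) (56122, 0, 16, 219141) (.node .leaf (56123, 0, 17, 65835) .leaf)) (56126, 0, 18, 23556) (.node (.node .leaf (56127, 0, 17, 228918) .leaf) (56128, 0, 17, 68028) (.node .leaf (56129, 0, 16, 86195) .leaf))) (56132, 0, 17, 95872) (.node (.node (.node .leaf (56133, 0, 16, 119033) .leaf) (56136, 0, 16, 254721)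 (.node .leaf (56137, 0, 15, 113199) .leaf)) (56140, 0, 18, 201991) (.node (.node .leaf (56141, 0, 17, 259425) .leaf) (56146, 0, 17, 169753) (.node .leaf (56147, 0, 18, 52791) .leaf))))) (56150, 0, 17, 137455) (.node (.node (.node (.node (.node .leaf (56151, 0, 12, 176426) .leaf) (56154, 0, 18, 163205) (.node .leaf (56155, 0, 15, 58418) .leaf)) (56158, 0, 10, 15735) (.node (.node .leaf (56159, 0, 13, 56593) .leaf) (56160, 0, 14, 160919) (.node .leaf (56161, 0, 12, 11705) .leaf))) (56164, 0, 18, 2954) (.node (.node (.node .leaf (56165, 0, 14, 152228) .leaf) (56168, 0, 16, 10193) (.node .leaf (56169, 0, 14, 50981) .leaf)) (56172, 0, 17, 7922) (.node (.node .leaf (56173, 0, 17, 178232) .leaf) (56178, 0, 17, 256531) (.node .leaf (56179, 0, 17, 117343) .leaf)))) (56182, 0, 14, 70426) (.node (.node (.node (.node .leaf (56183, 0, 15, 127868) .leaf) (56186, 0, 16, 196751) (.node .leaf (56187, 0, 16, 88481) .leaf)) (56190, 0, 13, 98194) (.node (.node .leaf (56191, 0, 13, 206524) .leaf) (56194, 0, 16, 198924)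 (.node .leaf (56195, 0, 15, 83059) .leaf))) (56198, 0, 8, 95761) (.node (.node (.node .leaf (56199, 0, 17, 208703) .leaf) (56202, 0, 17, 229773) (.node .leaf (56203, 0, 16, 221675) .leaf)) (56206, 0, 16, 243886) (.node (.node .leaf (56207, 0, 14, 247203) .leaf) (56208, 0, 17, 169864) .leaf)))))

/-- part of the orbit tree -/
def itp1_357 : Tree := (.node itp1_353 (55828, 0, 17, 229432) itp1_354)

/-- part of the orbit tree -/
def itp1_358 : Tree := (.node itp1_355 (56086, 0, 17, 45198) itp1_356)

/-- part of the orbit tree -/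
def itp1_359 : Tree := (.node itp1_351 (55444, 0, 17, 2650) itp1_352)

/-- part of the orbit tree -/
def itp1_360 : Tree := (.node itp1_357 (55958, 0, 16, 255748) itp1_358)

/-- part of the orbit tree -/
def itp1_361 : Tree := (.node (.node (.node (.node (.node (.node .leaf (56212, 0, 17, 177478) .leaf) (56213, 0, 15, 152864) (.node .leaf (56216, 0, 15, 163092) .leaf)) (56217, 0, 16, 9274) (.node (.node .leaf (56220, 0, 17, 37086) .leaf) (56221, 0, 15, 154407) (.node .leaf (56226, 0, 17, 160774) .leaf))) (56227, 0, 18, 151430) (.node (.node (.node .leaf (56230, 0, 14, 169667) .leaf) (56231, 0, 15, 161445) (.node .leaf (56234, 0, 14, 171674) .leaf)) (56235, 0, 17, 27166) (.node (.node .leaf (56238, 0, 13, 45915) .leaf) (56239, 0, 14, 178345) (.node .leaf (56240, 0, 17, 100240) .leaf)))) (56241, 0, 13, 92150) (.node (.node (.node (.node .leaf (56244, 0, 15, 114355) .leaf) (56245, 0, 17, 89813) (.node .leaf (56248, 0, 12, 196638) .leaf)) (56249, 0, 14, 88368) (.node (.node .leaf (56252, 0, 15, 98051)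 .leaf) (56253, 0, 16, 206381) (.node .leaf (56258, 0, 18, 217478) .leaf))) (56259, 0, 14, 67752) (.node (.node (.node .leaf (56262, 0, 15, 77467) .leaf) (56263, 0, 16, 227253) (.node .leaf (56266, 0, 15, 244506) .leaf)) (56267, 0, 17, 2925) (.node (.node .leaf (56270, 0, 15, 53800) .leaf) (56271, 0, 18, 12878) (.node .leaf (56272, 0, 18, 184066) .leaf))))) (56273, 0, 16, 38444) (.node (.node (.node (.node (.node .leaf (56276, 0, 14, 122816) .leaf) (56277, 0, 16, 81830) (.node .leaf (56280, 0, 13, 246651) .leaf)) (56281, 0, 15, 205597) (.node (.node .leaf (56284, 0, 16, 260696) .leaf) (56285, 0, 13, 203326) (.node .leaf (56290, 0, 13, 142476) .leaf))) (56291, 0, 13, 30114) (.node (.node (.node .leaf (56294, 0, 19, 130117) .leaf) (56295, 0, 16, 133823) (.node .leaf (56298, 0, 18, 254206) .leaf)) (56299, 0, 16, 40766) (.node (.node .leaf (56302, 0, 16, 252381) .leaf) (56303, 0, 18, 211387) (.node .leaf (56304, 0, 18, 242184) .leaf)))) (56305, 0, 16, 125734) (.node (.node (.node (.node .leaf (56308, 0,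 15, 118037) .leaf) (56309, 0, 14, 144467) (.node .leaf (56312, 0, 17, 219284) .leaf)) (56313, 0, 15, 10472) (.node (.node .leaf (56316, 0, 12, 61869) .leaf) (56317, 0, 17, 229031) (.node .leaf (56321, 0, 16, 190210) .leaf))) (56323, 0, 15, 69488) (.node (.node (.node .leaf (56325, 0, 14, 11987) .leaf) (56327, 0, 16, 225389) (.node .leaf (56329, 0, 13, 134558) .leaf)) (56331, 0, 17, 221773) (.node (.node .leaf (56333, 0, 15, 133963) .leaf) (56335, 0, 16, 220014) (.node .leaf (56336, 0, 16, 167875) .leaf))))))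

/-- part of the orbit tree -/
def itp1_362 : Tree := (.node (.node (.node (.node (.node (.node .leaf (56340, 0, 12, 177888) .leaf) (56342, 0, 15, 221109) (.node .leaf (56344, 0, 16, 43611) .leaf)) (56346, 0, 14, 117300) (.node (.node .leaf (56348, 0, 16, 23899) .leaf) (56350, 0, 15, 115549) (.node .leaf (56353, 0, 17, 203781) .leaf))) (56355, 0, 9, 29306) (.node (.node (.node .leaf (56357, 0, 17, 206118) .leaf) (56359, 0, 18, 134503) (.node .leaf (56361, 0, 12, 80285) .leaf)) (56363, 0, 13, 39142) (.node (.node .leaf (56365, 0, 14, 69513) .leaf) (56367, 0, 18, 20635) (.node .leaf (56368, 0, 17, 243152) .leaf)))) (56370, 0, 17, 54291) (.node (.node (.node (.node .leaf (56372, 0, 15, 117453) .leaf) (56374, 0, 14, 139967) (.node .leaf (56376, 0, 15, 237998) .leaf)) (56378, 0, 17, 46910) (.node (.node .leaf (56380, 0, 16, 73809) .leaf) (56382, 0, 19, 182440) (.node .leaf (56385, 0, 15, 228726) .leaf))) (56387, 0, 17, 142675) (.node (.node (.node .leaf (56389, 0, 16, 49301) .leaf) (56391, 0, 16, 207079)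 (.node .leaf (56393, 0, 14, 152852) .leaf)) (56395, 0, 15, 2251) (.node (.node .leaf (56397, 0, 17, 90573) .leaf) (56399, 0, 12, 246395) (.node .leaf (56400, 0, 16, 168016) .leaf))))) (56402, 0, 17, 46432) (.node (.node (.node (.node (.node .leaf (56404, 0, 17, 61261) .leaf) (56406, 0, 15, 35907) (.node .leaf (56408, 0, 18, 162508) .leaf)) (56410, 0, 15, 168184) (.node (.node .leaf (56412, 0, 16, 260606) .leaf) (56414, 0, 15, 257443) (.node .leaf (56417, 0, 17, 30339) .leaf))) (56419, 0, 16, 10992) (.node (.node (.node .leaf (56421, 0, 18, 114079) .leaf) (56423, 0, 14, 153069) (.node .leaf (56425, 0, 17, 206878) .leaf)) (56427, 0, 17, 49260) (.node (.node .leaf (56429, 0, 8, 158264) .leaf) (56431, 0, 17, 211485) (.node .leaf (56432, 0, 15, 192176) .leaf)))) (56434, 0, 17, 1320) (.node (.node (.node (.node .leaf (56436, 0, 14, 186259) .leaf) (56438, 0, 15, 231350) (.node .leaf (56440, 0, 15, 198598) .leaf)) (56442, 0, 16, 105229) (.node (.node .leaf (56444, 0, 14, 96475) .leaf) (56446, 0, 16, 107054)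 (.node .leaf (56448, 0, 13, 200261) .leaf))) (56450, 0, 14, 58935) (.node (.node (.node .leaf (56452, 0, 15, 94552) .leaf) (56454, 0, 14, 199066) (.node .leaf (56456, 0, 15, 255193) .leaf)) (56458, 0, 15, 3243) (.node (.node .leaf (56460, 0, 14, 105412) .leaf) (56462, 0, 14, 76802) (.node .leaf (56465, 0, 16, 205213) .leaf))))))

/-- part of the orbit tree -/
def itp1_363 : Tree := (.node (.node (.node (.node (.node (.node .leaf (56469, 0, 14, 49548) .leaf) (56471, 0, 12, 177906) (.node .leaf (56473, 0, 16, 248577) .leaf)) (56475, 0, 13, 9075) (.node (.node .leaf (56477, 0, 19, 111644) .leaf) (56479, 0, 16, 154734) (.node .leaf (56480, 0, 16, 160591) .leaf))) (56482, 0, 16, 105277) (.node (.node (.node .leaf (56484, 0, 13, 3154) .leaf) (56486, 0, 17, 623) (.node .leaf (56488, 0, 14, 170451) .leaf)) (56490, 0, 16, 94625) (.node (.node .leaf (56492, 0, 14, 59086) .leaf) (56494, 0, 16, 141303) (.node .leaf (56497, 0, 16, 258906) .leaf)))) (56499, 0, 17, 172927) (.node (.node (.node (.node .leaf (56501,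 0, 17, 9098) .leaf) (56503, 0, 16, 248824) (.node .leaf (56505, 0, 12, 177675) .leaf)) (56507, 0, 12, 34535) (.node (.node .leaf (56509, 0, 17, 51478) .leaf) (56511, 0, 18, 49092) (.node .leaf (56512, 0, 16, 68122) .leaf))) (56514, 0, 13, 48829) (.node (.node (.node .leaf (56516, 0, 17, 76242) .leaf) (56518, 0, 18, 180640) (.node .leaf (56520, 0, 17, 244819) .leaf)) (56522, 0, 11, 163751) (.node (.node .leaf (56524, 0, 15, 202401) .leaf) (56526, 0, 18, 142140) (.node .leaf (56529, 0, 17, 234025) .leaf))))) (56531, 0, 14, 37221) (.node (.node (.node (.node (.node .leaf (56533, 0, 17, 67082) .leaf) (56535, 0, 16, 195375) (.node .leaf (56537, 0, 13, 234379) .leaf)) (56539, 0, 17, 31737) (.node (.node .leaf (56541, 0, 11, 126102) .leaf) (56543, 0, 15, 57015) (.node .leaf (56544, 0, 18, 142277) .leaf))) (56546, 0, 15, 217546) (.node (.node (.node .leaf (56548, 0, 16, 145612) .leaf) (56550, 0, 16, 244906) (.node .leaf (56552, 0, 15, 9335) .leaf)) (56554, 0, 14, 76075) (.node (.node .leaf (56556, 0, 14,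 48708) .leaf) (56558, 0, 16, 218678) (.node .leaf (56561, 0, 18, 132125) .leaf)))) (56563, 0, 18, 126063) (.node (.node (.node (.node .leaf (56565, 0, 13, 41215) .leaf) (56567, 0, 15, 127194) (.node .leaf (56569, 0, 15, 179268) .leaf)) (56571, 0, 17, 67315) (.node (.node .leaf (56573, 0, 17, 165223) .leaf) (56575, 0, 13, 227822) (.node .leaf (56576, 0, 18, 218594) .leaf))) (56578, 0, 14, 132551) (.node (.node (.node .leaf (56580, 0, 14, 141010) .leaf) (56582, 0, 15, 118432) (.node .leaf (56584, 0, 18, 94330) .leaf)) (56586, 0, 17, 8287) (.node (.node .leaf (56588, 0, 16, 84313) .leaf) (56590, 0, 14, 6524) (.node .leaf (56593, 0, 12, 30231) .leaf))))))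

/-- part of the orbit tree -/
def itp1_364 : Tree := (.node (.node (.node (.node (.node (.node .leaf (56597, 0, 16, 133386) .leaf) (56599, 0, 15, 123256) (.node .leaf (56601, 0, 15, 256073) .leaf)) (56603, 0, 18, 226553) (.node (.node .leaf (56605, 0, 17, 189334) .leaf) (56607, 0, 15, 164175) (.node .leaf (56608, 0, 17, 24087) .leaf))) (56610, 0, 14, 183479) (.node (.node (.node .leaf (56612, 0, 12, 26420) .leaf) (56614, 0, 13, 45994) (.node .leaf (56616, 0, 16, 162703) .leaf)) (56618, 0, 14, 207786) (.node (.node .leaf (56620, 0, 16, 148140) .leaf) (56622, 0, 16, 201353) (.node .leaf (56625, 0, 14, 181796) .leaf)))) (56627, 0, 15, 235009) (.node (.node (.node (.node .leaf (56629, 0, 16, 196359) .leaf) (56631, 0, 17, 40050) (.node .leaf (56633, 0, 14, 58300) .leaf)) (56635, 0, 14, 133619) (.node (.node .leaf (56637, 0, 17, 237212) .leaf) (56639, 0, 14, 101050) (.node .leaf (56640, 0, 9, 16228) .leaf))) (56642, 0, 14, 94017) (.node (.node (.node .leaf (56644, 0, 15, 163416) .leaf) (56646, 0, 17, 103978)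 (.node .leaf (56648, 0, 13, 60377) .leaf)) (56650, 0, 17, 215769) (.node (.node .leaf (56652, 0, 16, 169156) .leaf) (56654, 0, 10, 97462) (.node .leaf (56657, 0, 14, 11933) .leaf))))) (56659, 0, 17, 259954) (.node (.node (.node (.node (.node .leaf (56661, 0, 13, 151936) .leaf) (56663, 0, 17, 249425) (.node .leaf (56665, 0, 15, 50177) .leaf)) (56667, 0, 17, 207987) (.node (.node .leaf (56669, 0, 17, 48108) .leaf) (56671, 0, 15, 125897) (.node .leaf (56672, 0, 13, 210065) .leaf))) (56674, 0, 19, 169021) (.node (.node (.node .leaf (56676, 0, 14, 197458) .leaf) (56678, 0, 18, 155031) (.node .leaf (56680, 0, 13, 69897) .leaf)) (56682, 0, 15, 163489) (.node (.node .leaf (56684, 0, 19, 75818) .leaf) (56686, 0, 18, 444) (.node .leaf (56689, 0, 15, 86935) .leaf)))) (56691, 0, 17, 64647) (.node (.node (.node (.node .leaf (56693, 0, 17, 208010) .leaf) (56695, 0, 16, 50424) (.node .leaf (56697, 0, 17, 231738) .leaf)) (56699, 0, 17, 186655) (.node (.node .leaf (56701, 0, 17, 241689) .leaf) (56703, 0, 18, 11876)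 (.node .leaf (56705, 0, 17, 110728) .leaf))) (56707, 0, 12, 29355) (.node (.node (.node .leaf (56709, 0, 14, 249749) .leaf) (56711, 0, 16, 10215) (.node .leaf (56713, 0, 17, 198422) .leaf)) (56715, 0, 16, 153395) (.node (.node .leaf (56717, 0, 17, 212533) .leaf) (56719, 0, 12, 52603) (.node .leaf (56720, 0, 16, 244413) .leaf))))))

/-- part of the orbit tree -/
def itp1_365 : Tree := (.node itp1_361 (56338, 0, 16, 73896) itp1_362)

/-- part of the orbit tree -/
def itp1_366 : Tree := (.node itp1_363 (56595, 0, 14, 40436) itp1_364)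

/-- part of the orbit tree -/
def itp1_367 : Tree := (.node (.node (.node (.node (.node (.node .leaf (56724, 0, 18, 254029) .leaf) (56726, 0, 16, 2111) (.node .leaf (56728, 0, 16, 95692) .leaf)) (56730, 0, 14, 171454) (.node (.node .leaf (56732, 0, 17, 199377) .leaf) (56734, 0, 17, 58019) (.node .leaf (56737, 0, 15, 141691) .leaf))) (56739, 0, 17, 206320) (.node (.node (.node .leaf (56741, 0, 17, 176799) .leaf) (56743, 0, 14, 88813) (.node .leaf (56745, 0, 17, 3299) .leaf)) (56747, 0, 16, 249708) (.node (.node .leaf (56749, 0, 15, 13760) .leaf) (56751, 0, 17, 110705) (.node .leaf (56752, 0, 16, 57946) .leaf)))) (56754, 0, 13, 199208) (.node (.node (.node (.node .leaf (56756, 0, 18, 34923) .leaf) (56758, 0, 15, 95541) (.node .leaf (56760, 0, 12, 169168) .leaf)) (56762, 0, 18, 247029) (.node (.node .leaf (56764, 0, 16, 161755) .leaf) (56766, 0, 17, 261590) (.node .leaf (56769, 0, 15, 149512) .leaf))) (56771, 0, 17, 131184) (.node (.node (.node .leaf (56773, 0, 16, 235295) .leaf) (56775, 0, 14, 205070)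 (.node .leaf (56777, 0, 18, 28048) .leaf)) (56779, 0, 13, 191212) (.node (.node .leaf (56781, 0, 17, 21683) .leaf) (56783, 0, 15, 66710) (.node .leaf (56784, 0, 17, 116698) .leaf))))) (56786, 0, 17, 143272) (.node (.node (.node (.node (.node .leaf (56788, 0, 18, 59672) .leaf) (56790, 0, 17, 112957) (.node .leaf (56792, 0, 16, 77126) .leaf)) (56794, 0, 13, 181556) (.node (.node .leaf (56796, 0, 12, 183424) .leaf) (56798, 0, 17, 47657) (.node .leaf (56801, 0, 14, 38152) .leaf))) (56803, 0, 17, 5080) (.node (.node (.node .leaf (56805, 0, 16, 190997) .leaf) (56807, 0, 17, 11003) (.node .leaf (56809, 0, 16, 222821) .leaf)) (56811, 0, 18, 144960) (.node (.node .leaf (56813, 0, 14, 131209) .leaf) (56815, 0, 15, 125179) (.node .leaf (56816, 0, 16, 252878) .leaf)))) (56818, 0, 13, 166891) (.node (.node (.node (.node .leaf (56820, 0, 15, 254701) .leaf) (56822, 0, 16, 176840) (.node .leaf (56824, 0, 17, 130646) .leaf)) (56826, 0, 13, 44659) (.node (.node .leaf (56828, 0, 15, 143185) .leaf) (56830, 0, 16, 116515)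 (.node .leaf (56832, 0, 19, 47872) .leaf))) (56833, 0, 14, 15232) (.node (.node (.node .leaf (56834, 0, 17, 217970) .leaf) (56835, 0, 17, 68188) (.node .leaf (56836, 0, 15, 58053) .leaf)) (56837, 0, 15, 40243) (.node (.node .leaf (56838, 0, 14, 111328) .leaf) (56839, 0, 18, 226625) (.node .leaf (56840, 0, 13, 20892) .leaf))))))

/-- part of the orbit tree -/
def itp1_368 : Tree := (.node (.node (.node (.node (.node (.node .leaf (56842, 0, 15, 241243) .leaf) (56843, 0, 14, 216637) (.node .leaf (56844, 0, 15, 142977) .leaf)) (56845, 0, 18, 141115) (.node (.node .leaf (56846, 0, 17, 235384) .leaf) (56847, 0, 17, 237533) (.node .leaf (56864, 0, 17, 116234) .leaf))) (56865, 0, 13, 237348) (.node (.node (.node .leaf (56866, 0, 17, 142968) .leaf) (56867, 0, 15, 155728) (.node .leaf (56868, 0, 15, 243991) .leaf)) (56869, 0, 15, 122937) (.node (.node .leaf (56870, 0, 16, 20837) .leaf) (56871, 0, 17, 133195) (.node .leaf (56872, 0, 14, 76950) .leaf)))) (56873, 0, 17, 226744) (.node (.node (.node (.node .leaf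 (56874, 0, 16, 181476) .leaf) (56875, 0, 15, 17864) (.node .leaf (56876, 0, 10, 217995) .leaf)) (56877, 0, 18, 77006) (.node (.node .leaf (56878, 0, 18, 48121) .leaf) (56879, 0, 15, 31979) (.node .leaf (56896, 0, 17, 242016) .leaf))) (56897, 0, 16, 217350) (.node (.node (.node .leaf (56898, 0, 13, 199672) .leaf) (56899, 0, 18, 131363) (.node .leaf (56900, 0, 14, 171159) .leaf)) (56901, 0, 14, 50617) (.node (.node .leaf (56902, 0, 15, 186470) .leaf) (56903, 0, 14, 208331) (.node .leaf (56904, 0, 17, 2326) .leaf))))) (56905, 0, 18, 151608) (.node (.node (.node (.node (.node .leaf (56906, 0, 16, 254308) .leaf) (56907, 0, 17, 9403) (.node .leaf (56908, 0, 16, 161291) .leaf)) (56909, 0, 15, 12069) (.node (.node .leaf (56910, 0, 17, 106105) .leaf) (56911, 0, 16, 7576) (.node .leaf (56928, 0, 17, 106112) .leaf))) (56929, 0, 14, 247726) (.node (.node (.node .leaf (56930, 0, 17, 125616) .leaf) (56931, 0, 17, 12252) (.node .leaf (56932, 0, 13, 254365) .leaf)) (56933, 0, 18, 25552) (.node (.node .leaf (56934,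 0, 15, 2543) .leaf) (56935, 0, 19, 151745) (.node .leaf (56936, 0, 13, 95260) .leaf)))) (56937, 0, 15, 208178) (.node (.node (.node (.node .leaf (56938, 0, 18, 171118) .leaf) (56939, 0, 14, 50496) (.node .leaf (56940, 0, 13, 173614) .leaf)) (56941, 0, 17, 86575) (.node (.node .leaf (56942, 0, 19, 58227) .leaf) (56943, 0, 16, 202349) (.node .leaf (56976, 0, 14, 97695) .leaf))) (56977, 0, 16, 206001) (.node (.node (.node .leaf (56978, 0, 14, 91292) .leaf) (56979, 0, 13, 99578) (.node .leaf (56980, 0, 17, 3482) .leaf)) (56981, 0, 14, 89004) (.node (.node .leaf (56982, 0, 13, 60144) .leaf) (56983, 0, 18, 177118) (.node .leaf (56984, 0, 17, 135457) .leaf))))))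

/-- part of the orbit tree -/
def itp1_369 : Tree := (.node (.node (.node (.node (.node (.node .leaf (56986, 0, 11, 163697) .leaf) (56987, 0, 16, 237922) (.node .leaf (56988, 0, 15, 256030) .leaf)) (56989, 0, 15, 182372) (.node (.node .leaf (56990, 0, 18, 227367) .leaf) (56991, 0, 16, 153922) (.node .leaf (57008, 0, 19, 212812) .leaf))) (57009, 0, 18, 253738) (.node (.node (.node .leaf (57010, 0, 18, 256231) .leaf) (57011, 0, 18, 167695) (.node .leaf (57012, 0, 13, 198255) .leaf)) (57013, 0, 18, 9894) (.node (.node .leaf (57014, 0, 16, 104442) .leaf) (57015, 0, 14, 249556) (.node .leaf (57016, 0, 14, 59913) .leaf)))) (57017, 0, 16, 129714) (.node (.node (.node (.node .leaf (57018, 0, 15, 19185) .leaf) (57019, 0, 15, 88917) (.node .leaf (57020, 0, 16, 74743) .leaf)) (57021, 0, 15, 115601) (.node (.node .leaf (57022, 0, 16, 97638) .leaf) (57023, 0, 18, 37812) (.node .leaf (57040, 0, 19, 75029) .leaf))) (57041, 0, 14, 245337) (.node (.node (.node .leaf (57042, 0, 18, 134682) .leaf) (57043, 0, 15, 37961)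 (.node .leaf (57044, 0, 15, 223004) .leaf)) (57045, 0, 18, 231290) (.node (.node .leaf (57046, 0, 17, 45690) .leaf) (57047, 0, 18, 186207) (.node .leaf (57048, 0, 15, 118665) .leaf))))) (57049, 0, 15, 105409) (.node (.node (.node (.node (.node .leaf (57050, 0, 11, 11138) .leaf) (57051, 0, 15, 52196) (.node .leaf (57052, 0, 12, 241812) .leaf)) (57053, 0, 17, 125370) (.node (.node .leaf (57054, 0, 15, 22758) .leaf) (57055, 0, 13, 62151) (.node .leaf (57072, 0, 14, 22559) .leaf))) (57073, 0, 16, 131377) (.node (.node (.node .leaf (57074, 0, 14, 67055) .leaf) (57075, 0, 15, 124297) (.node .leaf (57076, 0, 16, 27881) .leaf)) (57077, 0, 15, 32300) (.node (.node .leaf (57078, 0, 15, 81100) .leaf) (57079, 0, 15, 235102) (.node .leaf (57080, 0, 16, 159826) .leaf)))) (57081, 0, 17, 191405) (.node (.node (.node (.node .leaf (57082, 0, 16, 204919) .leaf) (57083, 0, 16, 66527) (.node .leaf (57084, 0, 15, 183710) .leaf)) (57085, 0, 17, 38064) (.node (.node .leaf (57086, 0, 17, 75244) .leaf) (57087, 0, 14, 260402)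 (.node .leaf (57104, 0, 17, 141845) .leaf))) (57105, 0, 17, 29499) (.node (.node (.node .leaf (57106, 0, 13, 115303) .leaf) (57107, 0, 17, 45444) (.node .leaf (57108, 0, 17, 21768) .leaf)) (57109, 0, 17, 134182) (.node (.node .leaf (57110, 0, 15, 26817) .leaf) (57111, 0, 17, 34983) (.node .leaf (57112, 0, 11, 205919) .leaf))))))

/-- part of the orbit tree -/
def itp1_370 : Tree := (.node (.node (.node (.node (.node (.node .leaf (57114, 0, 17, 160890) .leaf) (57115, 0, 17, 168988) (.node .leaf (57116, 0, 11, 204156) .leaf)) (57117, 0, 16, 190138) (.node (.node .leaf (57118, 0, 16, 219110) .leaf) (57119, 0, 17, 69320) (.node .leaf (57136, 0, 15, 133682) .leaf))) (57137, 0, 16, 191060) (.node (.node (.node .leaf (57138, 0, 18, 49005) .leaf) (57139, 0, 10, 244337) (.node .leaf (57140, 0, 16, 75778) .leaf)) (57141, 0, 16, 185207) (.node (.node .leaf (57142, 0, 14, 180336) .leaf) (57143, 0, 15, 230226) (.node .leaf (57144, 0, 14, 12202) .leaf)))) (57145, 0, 14, 124077) (.node (.node (.node (.node .leaf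 (57146, 0, 17, 22001) .leaf) (57147, 0, 16, 106473) (.node .leaf (57148, 0, 17, 5769) .leaf)) (57149, 0, 17, 236464) (.node (.node .leaf (57150, 0, 14, 83628) .leaf) (57151, 0, 17, 108234) (.node .leaf (57168, 0, 15, 160415) .leaf))) (57169, 0, 18, 11185) (.node (.node (.node .leaf (57170, 0, 13, 105197) .leaf) (57171, 0, 14, 252674) (.node .leaf (57172, 0, 16, 3458) .leaf)) (57173, 0, 17, 152748) (.node (.node .leaf (57174, 0, 14, 255472) .leaf) (57175, 0, 18, 254497) (.node .leaf (57176, 0, 16, 20185) .leaf))))) (57177, 0, 16, 44735) (.node (.node (.node (.node (.node .leaf (57178, 0, 17, 73468) .leaf) (57179, 0, 12, 130714) (.node .leaf (57180, 0, 17, 30714) .leaf)) (57181, 0, 16, 38812) (.node (.node .leaf (57182, 0, 16, 200556) .leaf) (57183, 0, 15, 87618) (.node .leaf (57200, 0, 15, 200597) .leaf))) (57201, 0, 16, 87739) (.node (.node (.node .leaf (57202, 0, 17, 59367) .leaf) (57203, 0, 16, 53495) (.node .leaf (57204, 0, 19, 94344) .leaf)) (57205, 0, 17, 207270) (.node (.node .leaf (57206, 0,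 15, 170234) .leaf) (57207, 0, 16, 49620) (.node .leaf (57208, 0, 18, 214316) .leaf)))) (57209, 0, 14, 113703) (.node (.node (.node (.node .leaf (57210, 0, 18, 3451) .leaf) (57211, 0, 17, 193903) (.node .leaf (57212, 0, 17, 228367) .leaf)) (57213, 0, 18, 246586) (.node (.node .leaf (57214, 0, 16, 160358) .leaf) (57215, 0, 16, 183372) (.node .leaf (57216, 0, 14, 126616) .leaf))) (57217, 0, 14, 112036) (.node (.node (.node .leaf (57218, 0, 13, 48829) .leaf) (57219, 0, 17, 24283) (.node .leaf (57220, 0, 15, 120763) .leaf)) (57221, 0, 13, 248505) (.node (.node .leaf (57222, 0, 17, 34718) .leaf) (57223, 0, 18, 26616) .leaf)))))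

/-- part of the orbit tree -/
def itp1_371 : Tree := (.node itp1_367 (56841, 0, 13, 138776) itp1_368)

/-- part of the orbit tree -/
def itp1_372 : Tree := (.node itp1_369 (57113, 0, 13, 246841) itp1_370)

/-- part of the orbit tree -/
def itp1_373 : Tree := (.node itp1_365 (56467, 0, 14, 51695) itp1_366)

/-- part of the orbit tree -/
def itp1_374 : Tree := (.node itp1_371 (56985, 0, 17, 249389) itp1_372)

/-- part of the orbit tree -/
def itp1_375 : Tree := (.node itp1_359 (55701, 0, 15, 162128) itp1_360)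

/-- part of the orbit tree -/
def itp1_376 : Tree := (.node itp1_373 (56722, 0, 17, 191128) itp1_374)

/-- part of the orbit tree -/
def itp1_377 : Tree := (.node itp1_345 (54165, 0, 18, 193668) itp1_346)

/-- part of the orbit tree -/
def itp1_378 : Tree := (.node itp1_375 (56209, 0, 14, 52902) itp1_376)

/-- part of the orbit tree -/
def itp1_379 : Tree := (.node itp1_315 (51098, 0, 17, 231550) itp1_316)

/-- part of the orbit tree -/
def itp1_380 : Tree := (.node itp1_377 (55186, 0, 17, 145201) itp1_378)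

/-- part of the orbit tree -/
def itp1_381 : Tree := (.node (.node (.node (.node (.node (.node .leaf (57225, 0, 14, 207718) .leaf) (57226, 0, 16, 61028) (.node .leaf (57227, 0, 15, 177994) .leaf)) (57228, 0, 15, 258595) (.node (.node .leaf (57229, 0, 18, 204837) .leaf) (57230, 0, 17, 168313) (.node .leaf (57231, 0, 17, 148064) .leaf))) (57248, 0, 12, 189805) (.node (.node (.node .leaf (57249, 0, 17, 132363) .leaf) (57250, 0, 17, 243016) (.node .leaf (57251, 0, 18, 218414) .leaf)) (57252, 0, 16, 187470) (.node (.node .leaf (57253, 0, 17, 146472) .leaf) (57254, 0, 18, 232555) (.node .leaf (57255, 0, 18, 224269) .leaf)))) (57256, 0, 17, 162588) (.node (.node (.node (.node .leaf (57257, 0, 15, 8339) .leaf) (57258, 0, 17, 103278) (.node .leaf (57259, 0, 17, 248384) .leaf)) (57260, 0, 16, 63958) (.node (.node .leaf (57261, 0, 19, 154927) .leaf) (57262, 0, 17, 109043) (.node .leaf (57263, 0, 17, 111965) .leaf))) (57280, 0, 17, 242688) (.node (.node (.node .leaf (57281, 0, 14, 126254) .leaf) (57282, 0, 13,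 250939) (.node .leaf (57283, 0, 15, 132444) .leaf)) (57284, 0, 13, 117533) (.node (.node .leaf (57285, 0, 13, 154971) .leaf) (57286, 0, 17, 140143) (.node .leaf (57287, 0, 17, 31297) .leaf))))) (57288, 0, 16, 220828) (.node (.node (.node (.node (.node .leaf (57289, 0, 17, 67506) .leaf) (57290, 0, 16, 127395) (.node .leaf (57291, 0, 18, 192448) .leaf)) (57292, 0, 17, 74113) (.node (.node .leaf (57293, 0, 15, 227503) .leaf) (57294, 0, 16, 116864) (.node .leaf (57295, 0, 16, 37085) .leaf))) (57312, 0, 15, 182538) (.node (.node (.node .leaf (57313, 0, 17, 94093) .leaf) (57314, 0, 17, 57294) (.node .leaf (57315, 0, 18, 227414) .leaf)) (57316, 0, 13, 46615) (.node (.node .leaf (57317, 0, 15, 87726) .leaf) (57318, 0, 16, 220773) (.node .leaf (57319, 0, 17, 67403) .leaf)))) (57320, 0, 18, 240243) (.node (.node (.node (.node .leaf (57321, 0, 17, 31416) .leaf) (57322, 0, 16, 195158) (.node .leaf (57323, 0, 17, 137776) .leaf)) (57324, 0, 17, 234320) (.node (.node .leaf (57325, 0, 11, 226102) .leaf) (57326, 0,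 17, 242937) (.node .leaf (57327, 0, 17, 126423) .leaf))) (57345, 0, 17, 46442) (.node (.node (.node .leaf (57346, 0, 17, 66857) .leaf) (57348, 0, 18, 27695) (.node .leaf (57351, 0, 16, 121964) .leaf)) (57352, 0, 16, 87349) (.node (.node .leaf (57355, 0, 16, 245975) .leaf) (57357, 0, 17, 94982) (.node .leaf (57358, 0, 17, 203154) .leaf))))))

/-- part of the orbit tree -/
def itp1_382 : Tree := (.node (.node (.node (.node (.node (.node .leaf (57362, 0, 16, 228732) .leaf) (57364, 0, 13, 112194) (.node .leaf (57367, 0, 17, 238649) .leaf)) (57368, 0, 14, 2241) (.node (.node .leaf (57371, 0, 14, 112770) .leaf) (57373, 0, 14, 198128) (.node .leaf (57374, 0, 13, 90567) .leaf))) (57377, 0, 16, 170893) (.node (.node (.node .leaf (57378, 0, 17, 134876) .leaf) (57380, 0, 16, 179646) (.node .leaf (57383, 0, 18, 199906) .leaf)) (57384, 0, 15, 10303) (.node (.node .leaf (57387, 0, 16, 52002) .leaf) (57389, 0, 14, 107044) (.node .leaf (57390, 0, 17, 114512) .leaf)))) (57393, 0, 16, 116426) (.node (.node (.node (.node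 .leaf (57394, 0, 18, 89127) .leaf) (57396, 0, 17, 73615) (.node .leaf (57399, 0, 17, 45004) .leaf)) (57400, 0, 13, 155337) (.node (.node .leaf (57403, 0, 14, 177015) .leaf) (57405, 0, 15, 162042) (.node .leaf (57406, 0, 15, 158258) .leaf))) (57409, 0, 16, 245261) (.node (.node (.node .leaf (57410, 0, 14, 134993) .leaf) (57412, 0, 17, 198313) (.node .leaf (57415, 0, 16, 177898) .leaf)) (57416, 0, 13, 69055) (.node (.node .leaf (57419, 0, 17, 43601) .leaf) (57421, 0, 16, 115543) (.node .leaf (57422, 0, 18, 29460) .leaf))))) (57425, 0, 16, 108473) (.node (.node (.node (.node (.node .leaf (57426, 0, 17, 6138) .leaf) (57428, 0, 18, 126664) (.node .leaf (57431, 0, 13, 24468) .leaf)) (57432, 0, 17, 221767) (.node (.node .leaf (57435, 0, 15, 184836) .leaf) (57437, 0, 16, 244482) (.node .leaf (57438, 0, 18, 133953) .leaf))) (57441, 0, 16, 54297) (.node (.node (.node .leaf (57442, 0, 16, 225883) .leaf) (57444, 0, 18, 3420) (.node .leaf (57447, 0, 16, 113951) .leaf)) (57448, 0, 10, 28853) (.node (.node .leaf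 (57451, 0, 16, 237988) .leaf) (57453, 0, 14, 182434) (.node .leaf (57454, 0, 15, 227553) .leaf)))) (57457, 0, 16, 175180) (.node (.node (.node (.node .leaf (57458, 0, 18, 66733) .leaf) (57460, 0, 14, 161033) (.node .leaf (57463, 0, 17, 247114) .leaf)) (57464, 0, 15, 27058) (.node (.node .leaf (57467, 0, 17, 121329) .leaf) (57469, 0, 15, 139376) (.node .leaf (57470, 0, 17, 233772) .leaf))) (57472, 0, 16, 135104) (.node (.node (.node .leaf (57475, 0, 18, 225861) .leaf) (57477, 0, 15, 141811) (.node .leaf (57478, 0, 15, 240384) .leaf)) (57481, 0, 16, 48242) (.node (.node .leaf (57482, 0, 15, 112571) .leaf) (57484, 0, 16, 57021) (.node .leaf (57487, 0, 17, 76573) .leaf))))))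

/-- part of the orbit tree -/
def itp1_383 : Tree := (.node (.node (.node (.node (.node (.node .leaf (57491, 0, 14, 116842) .leaf) (57493, 0, 16, 25366) (.node .leaf (57494, 0, 16, 119637) .leaf)) (57497, 0, 16, 182916) (.node (.node .leaf (57498, 0, 14, 228312) .leaf) (57500, 0, 15, 173800) (.node .leaf (57503, 0, 15, 202411) .leaf))) (57504, 0, 12, 225994) (.node (.node (.node .leaf (57507, 0, 15, 181142) .leaf) (57509, 0, 16, 218361) (.node .leaf (57510, 0, 16, 41205) .leaf)) (57513, 0, 15, 115064) (.node (.node .leaf (57514, 0, 11, 28708) .leaf) (57516, 0, 16, 251208) (.node .leaf (57519, 0, 10, 156939) .leaf)))) (57520, 0, 18, 66620) (.node (.node (.node (.node .leaf (57523, 0, 15, 131557) .leaf) (57525, 0, 16, 74255) (.node .leaf (57526, 0, 17, 37715) .leaf)) (57529, 0, 18, 95320) (.node (.node .leaf (57530, 0, 18, 132818) .leaf) (57532, 0, 16, 109853) (.node .leaf (57535, 0, 17, 139489) .leaf))) (57536, 0, 15, 108672) (.node (.node (.node .leaf (57539, 0, 16, 6339) .leaf) (57541, 0, 17, 94661)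 (.node .leaf (57542, 0, 19, 245797) .leaf)) (57545, 0, 13, 58616) (.node (.node .leaf (57546, 0, 14, 87460) .leaf) (57548, 0, 17, 242747) (.node .leaf (57551, 0, 16, 132216) .leaf))))) (57552, 0, 10, 8636) (.node (.node (.node (.node (.node .leaf (57555, 0, 17, 102624) .leaf) (57557, 0, 15, 199056) (.node .leaf (57558, 0, 18, 178643) .leaf)) (57561, 0, 12, 168462) (.node (.node .leaf (57562, 0, 12, 205650) .leaf) (57564, 0, 10, 177213) (.node .leaf (57567, 0, 13, 31789) .leaf))) (57568, 0, 18, 207424) (.node (.node (.node .leaf (57571, 0, 18, 170780) .leaf) (57573, 0, 13, 199795) (.node .leaf (57574, 0, 17, 248435) .leaf)) (57577, 0, 17, 26251) (.node (.node .leaf (57578, 0, 17, 10414) .leaf) (57580, 0, 16, 49102) (.node .leaf (57583, 0, 16, 69517) .leaf)))) (57584, 0, 16, 56096) (.node (.node (.node (.node .leaf (57587, 0, 14, 60906) .leaf) (57589, 0, 16, 96901) (.node .leaf (57590, 0, 16, 111142) .leaf)) (57593, 0, 16, 257796) (.node (.node .leaf (57594, 0, 16, 155224) .leaf) (57596, 0, 17, 182171)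 (.node .leaf (57599, 0, 16, 227288) .leaf))) (57600, 0, 19, 259960) (.node (.node (.node .leaf (57603, 0, 16, 149307) .leaf) (57605, 0, 15, 97913) (.node .leaf (57606, 0, 16, 53029) .leaf)) (57609, 0, 16, 257016) (.node (.node .leaf (57610, 0, 17, 33477) .leaf) (57612, 0, 15, 249291) (.node .leaf (57615, 0, 14, 23424) .leaf))))))

/-- part of the orbit tree -/
def itp1_384 : Tree := (.node (.node (.node (.node (.node (.node .leaf (57619, 0, 15, 16238) .leaf) (57621, 0, 11, 87656) (.node .leaf (57622, 0, 16, 58923) .leaf)) (57625, 0, 17, 215763) (.node (.node .leaf (57626, 0, 12, 195216) .leaf) (57628, 0, 18, 234390) (.node .leaf (57631, 0, 17, 2657) .leaf))) (57632, 0, 15, 64653) (.node (.node (.node .leaf (57635, 0, 12, 85198) .leaf) (57637, 0, 17, 883) (.node .leaf (57638, 0, 17, 103819) .leaf)) (57641, 0, 18, 145779) (.node (.node .leaf (57642, 0, 18, 231728) .leaf) (57644, 0, 14, 176321) (.node .leaf (57647, 0, 16, 197021) .leaf)))) (57648, 0, 17, 152502) (.node (.node (.node (.node .leaf (57651,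 0, 18, 210075) .leaf) (57653, 0, 17, 155037) (.node .leaf (57654, 0, 17, 257502) .leaf)) (57657, 0, 19, 57348) (.node (.node .leaf (57658, 0, 17, 127333) .leaf) (57660, 0, 14, 50743) (.node .leaf (57663, 0, 17, 75808) .leaf))) (57664, 0, 14, 65728) (.node (.node (.node .leaf (57667, 0, 12, 77245) .leaf) (57669, 0, 12, 75507) (.node .leaf (57670, 0, 17, 38831) .leaf)) (57673, 0, 15, 153600) (.node (.node .leaf (57674, 0, 16, 131630) .leaf) (57676, 0, 16, 234817) (.node .leaf (57679, 0, 18, 140317) .leaf))))) (57680, 0, 17, 226870) (.node (.node (.node (.node (.node .leaf (57683, 0, 16, 182122) .leaf) (57685, 0, 15, 146670) (.node .leaf (57686, 0, 16, 232621) .leaf)) (57689, 0, 15, 116100) (.node (.node .leaf (57690, 0, 17, 29912) .leaf) (57692, 0, 17, 123831) (.node .leaf (57695, 0, 14, 21227) .leaf))) (57696, 0, 18, 235019) (.node (.node (.node .leaf (57699, 0, 14, 117910) .leaf) (57701, 0, 14, 216910) (.node .leaf (57702, 0, 16, 196365) .leaf)) (57705, 0, 18, 183928) (.node (.node .leaf (57706, 0,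 17, 58294) .leaf) (57708, 0, 16, 101040) (.node .leaf (57711, 0, 12, 219415) .leaf)))) (57712, 0, 15, 126558) (.node (.node (.node (.node .leaf (57715, 0, 16, 244320) .leaf) (57717, 0, 16, 79643) (.node .leaf (57718, 0, 18, 34648) .leaf)) (57721, 0, 14, 207776) (.node (.node .leaf (57722, 0, 17, 68050) .leaf) (57724, 0, 16, 40637) (.node .leaf (57727, 0, 12, 148134) .leaf))) (57729, 0, 17, 98324) (.node (.node (.node .leaf (57730, 0, 13, 65617) .leaf) (57732, 0, 18, 88401) (.node .leaf (57735, 0, 14, 59666) .leaf)) (57736, 0, 16, 131775) (.node (.node .leaf (57739, 0, 15, 193961) .leaf) (57741, 0, 17, 140428) (.node .leaf (57742, 0, 17, 142572) .leaf))))))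

/-- part of the orbit tree -/
def itp1_385 : Tree := (.node itp1_381 (57361, 0, 17, 183615) itp1_382)

/-- part of the orbit tree -/
def itp1_386 : Tree := (.node itp1_383 (57616, 0, 14, 208572) itp1_384)

/-- part of the orbit tree -/
def itp1_387 : Tree := (.node (.node (.node (.node (.node (.node .leaf (57746, 0, 15, 149506) .leaf) (57748, 0, 15, 188872) (.node .leaf (57751, 0, 17, 217236) .leaf)) (57752, 0, 15, 29769) (.node (.node .leaf (57755, 0, 13, 115989) .leaf) (57757, 0, 16, 124154) (.node .leaf (57758, 0, 15, 21689) .leaf))) (57761, 0, 15, 117767) (.node (.node (.node .leaf (57762, 0, 15, 32091) .leaf) (57764, 0, 14, 152228) (.node .leaf (57767, 0, 17, 254695) .leaf)) (57768, 0, 18, 19999) (.node (.node .leaf (57771, 0, 17, 184041) .leaf) (57773, 0, 12, 38746) (.node .leaf (57774, 0, 17, 190682) .leaf)))) (57777, 0, 16, 244465) (.node (.node (.node (.node .leaf (57778, 0, 17, 82935) .leaf) (57780, 0, 15, 10993) (.node .leaf (57783, 0, 17, 105138) .leaf)) (57784, 0, 16, 67907) (.node (.node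 .leaf (57787, 0, 16, 230921) .leaf) (57789, 0, 18, 77680) (.node .leaf (57790, 0, 18, 221004) .leaf))) (57793, 0, 17, 59783) (.node (.node (.node .leaf (57794, 0, 16, 219857) .leaf) (57796, 0, 16, 53172) (.node .leaf (57799, 0, 15, 230292) .leaf)) (57800, 0, 12, 154165) (.node (.node .leaf (57803, 0, 12, 256873) .leaf) (57805, 0, 16, 63017) (.node .leaf (57806, 0, 16, 249178) .leaf))))) (57809, 0, 12, 171889) (.node (.node (.node (.node (.node .leaf (57810, 0, 16, 74372) .leaf) (57812, 0, 16, 19330) (.node .leaf (57815, 0, 15, 129985) .leaf)) (57816, 0, 16, 153401) (.node (.node .leaf (57819, 0, 16, 255866) .leaf) (57821, 0, 17, 2800) (.node .leaf (57822, 0, 15, 212543) .leaf))) (57825, 0, 18, 123239) (.node (.node (.node .leaf (57826, 0, 17, 9681) .leaf) (57828, 0, 14, 111294) (.node .leaf (57831, 0, 15, 994) .leaf)) (57832, 0, 14, 206655) (.node (.node .leaf (57835, 0, 17, 169178) .leaf) (57837, 0, 18, 261596) (.node .leaf (57838, 0, 18, 150943) .leaf)))) (57841, 0, 15, 235826) (.node (.node (.node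 (.node .leaf (57842, 0, 13, 152359) .leaf) (57844, 0, 15, 213111) (.node .leaf (57847, 0, 18, 192564) .leaf)) (57848, 0, 14, 89292) (.node (.node .leaf (57851, 0, 13, 60559) .leaf) (57853, 0, 17, 99721) (.node .leaf (57854, 0, 11, 13770) .leaf))) (57856, 0, 18, 31100) (.node (.node (.node .leaf (57857, 0, 11, 254891) .leaf) (57862, 0, 11, 69754) (.node .leaf (57863, 0, 14, 127004) .leaf)) (57866, 0, 17, 178283) (.node (.node .leaf (57867, 0, 13, 57669) .leaf) (57868, 0, 17, 208644) (.node .leaf (57869, 0, 15, 95786) .leaf))))))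

/-- part of the orbit tree -/
def itp1_388 : Tree := (.node (.node (.node (.node (.node (.node .leaf (57873, 0, 17, 188751) .leaf) (57878, 0, 12, 223279) (.node .leaf (57879, 0, 15, 562) .leaf)) (57882, 0, 16, 95380) (.node (.node .leaf (57883, 0, 18, 103666) .leaf) (57884, 0, 18, 7570) (.node .leaf (57885, 0, 14, 196828) .leaf))) (57888, 0, 11, 51087) (.node (.node (.node .leaf (57889, 0, 17, 171681) .leaf) (57894, 0, 15, 138127) (.node .leaf (57895, 0, 13, 199118) .leaf)) (57898, 0, 17, 247137) (.node (.node .leaf (57899, 0, 17, 105551) .leaf) (57900, 0, 17, 93746) (.node .leaf (57901, 0, 17, 2848) .leaf)))) (57904, 0, 18, 68316) (.node (.node (.node (.node .leaf (57905, 0, 9, 125626) .leaf) (57910, 0, 15, 25562) (.node .leaf (57911, 0, 13, 33724) .leaf)) (57914, 0, 12, 163681) (.node (.node .leaf (57915, 0, 15, 171783) .leaf) (57916, 0, 17, 9464) (.node .leaf (57917, 0, 15, 163286) .leaf))) (57920, 0, 16, 201722) (.node (.node (.node .leaf (57921, 0, 17, 244513) .leaf) (57926, 0, 11, 162556) (.node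 .leaf (57927, 0, 15, 170650) .leaf)) (57930, 0, 15, 188641) (.node (.node .leaf (57931, 0, 17, 34337) .leaf) (57932, 0, 17, 227214) (.node .leaf (57933, 0, 15, 126759) .leaf))))) (57936, 0, 16, 234745) (.node (.node (.node (.node (.node .leaf (57937, 0, 18, 101321) .leaf) (57942, 0, 16, 681) (.node .leaf (57943, 0, 15, 58063) .leaf)) (57946, 0, 15, 138770) (.node (.node .leaf (57947, 0, 14, 196212) .leaf) (57948, 0, 14, 227092) (.node .leaf (57949, 0, 16, 235378) .leaf))) (57952, 0, 16, 6159) (.node (.node (.node .leaf (57953, 0, 14, 181803) .leaf) (57958, 0, 14, 67690) (.node .leaf (57959, 0, 16, 217412) .leaf)) (57962, 0, 15, 224690) (.node (.node .leaf (57963, 0, 8, 115909) .leaf) (57964, 0, 12, 133764) (.node .leaf (57965, 0, 18, 189650) .leaf)))) (57968, 0, 18, 190963) (.node (.node (.node (.node .leaf (57969, 0, 18, 163900) .leaf) (57974, 0, 13, 199004) (.node .leaf (57975, 0, 15, 75698) .leaf)) (57978, 0, 14, 71143) (.node (.node .leaf (57979, 0, 16, 242227) .leaf) (57980, 0, 18, 31969) (.node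 .leaf (57981, 0, 16, 40071) .leaf))) (57986, 0, 15, 245331) (.node (.node (.node .leaf (57987, 0, 12, 220725) .leaf) (57988, 0, 14, 30193) (.node .leaf (57989, 0, 15, 145203) .leaf)) (57992, 0, 14, 188528) (.node (.node .leaf (57993, 0, 15, 47454) .leaf) (57998, 0, 15, 107240) (.node .leaf (57999, 0, 14, 77361) .leaf))))))

/-- part of the orbit tree -/
def itp1_389 : Tree := (.node (.node (.node (.node (.node (.node .leaf (58003, 0, 16, 118086) .leaf) (58004, 0, 17, 131847) (.node .leaf (58005, 0, 17, 23081) .leaf)) (58008, 0, 16, 177083) (.node (.node .leaf (58009, 0, 15, 152541) .leaf) (58014, 0, 15, 66025) (.node .leaf (58015, 0, 17, 219335) .leaf))) (58018, 0, 15, 46502) (.node (.node (.node .leaf (58019, 0, 16, 181946) .leaf) (58020, 0, 9, 122016) (.node .leaf (58021, 0, 18, 217557) .leaf)) (58024, 0, 16, 245787) (.node (.node .leaf (58025, 0, 15, 115796) .leaf) (58030, 0, 16, 174365) (.node .leaf (58031, 0, 17, 21307) .leaf)))) (58034, 0, 17, 183795) (.node (.node (.node (.node .leaf (58035,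 0, 16, 142741) .leaf) (58036, 0, 15, 228877) (.node .leaf (58037, 0, 17, 214163) .leaf)) (58040, 0, 15, 125836) (.node (.node .leaf (58041, 0, 18, 242338) .leaf) (58046, 0, 16, 53576) (.node .leaf (58047, 0, 15, 12590) .leaf))) (58050, 0, 13, 113172) (.node (.node (.node .leaf (58051, 0, 17, 13491) .leaf) (58052, 0, 14, 11643) (.node .leaf (58053, 0, 14, 89525) .leaf)) (58056, 0, 16, 237928) (.node (.node .leaf (58057, 0, 17, 57812) .leaf) (58062, 0, 15, 208789) (.node .leaf (58063, 0, 14, 95931) .leaf))))) (58066, 0, 12, 249058) (.node (.node (.node (.node (.node .leaf (58067, 0, 14, 103884) .leaf) (58068, 0, 15, 154509) (.node .leaf (58069, 0, 14, 206304) .leaf)) (58072, 0, 15, 121149) (.node (.node .leaf (58073, 0, 16, 169762) .leaf) (58078, 0, 17, 88419) (.node .leaf (58079, 0, 12, 196685) .leaf))) (58082, 0, 16, 50974) (.node (.node (.node .leaf (58083, 0, 15, 212806) .leaf) (58084, 0, 17, 177702) (.node .leaf (58085, 0, 15, 199007) .leaf)) (58088, 0, 14, 247280) (.node (.node .leaf (58089, 0,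 15, 105694) .leaf) (58094, 0, 15, 115611) (.node .leaf (58095, 0, 15, 2993) .leaf)))) (58098, 0, 16, 176616) (.node (.node (.node (.node .leaf (58099, 0, 17, 83731) .leaf) (58100, 0, 17, 206471) (.node .leaf (58101, 0, 15, 98217) .leaf)) (58104, 0, 15, 111366) (.node (.node .leaf (58105, 0, 17, 144046) .leaf) (58110, 0, 17, 9321) (.node .leaf (58111, 0, 17, 163143) .leaf))) (58114, 0, 17, 166701) (.node (.node (.node .leaf (58115, 0, 16, 158539) .leaf) (58116, 0, 15, 205435) (.node .leaf (58117, 0, 15, 97109) .leaf)) (58120, 0, 17, 130704) (.node (.node .leaf (58121, 0, 17, 257748) .leaf) (58126, 0, 16, 38806) (.node .leaf (58127, 0, 14, 162235) .leaf))))))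

/-- part of the orbit tree -/
def itp1_390 : Tree := (.node (.node (.node (.node (.node (.node .leaf (58131, 0, 17, 4894) .leaf) (58132, 0, 18, 87181) (.node .leaf (58133, 0, 17, 200099) .leaf)) (58136, 0, 17, 246028) (.node (.node .leaf (58137, 0, 17, 104482) .leaf) (58142, 0, 16, 153187) (.node .leaf (58143, 0, 16, 3917) .leaf))) (58146, 0, 18, 98520) (.node (.node (.node .leaf (58147, 0, 15, 90302) .leaf) (58148, 0, 17, 155505) (.node .leaf (58149, 0, 11, 2488) .leaf)) (58152, 0, 17, 51952) (.node (.node .leaf (58153, 0, 18, 136451) .leaf) (58158, 0, 15, 89503) (.node .leaf (58159, 0, 16, 228357) .leaf)))) (58162, 0, 17, 260237) (.node (.node (.node (.node .leaf (58163, 0, 11, 255942) .leaf) (58164, 0, 15, 168331) (.node .leaf (58165, 0, 15, 159913) .leaf)) (58168, 0, 15, 179206) (.node (.node .leaf (58169, 0, 17, 27990) .leaf) (58174, 0, 18, 123958) (.node .leaf (58175, 0, 15, 66640) .leaf))) (58178, 0, 16, 191902) (.node (.node (.node .leaf (58179, 0, 15, 46256) .leaf) (58180, 0, 15, 228081)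 (.node .leaf (58181, 0, 15, 74719) .leaf)) (58184, 0, 15, 126832) (.node (.node .leaf (58185, 0, 15, 243294) .leaf) (58190, 0, 15, 261392) (.node .leaf (58191, 0, 19, 139569) .leaf))))) (58194, 0, 17, 236030) (.node (.node (.node (.node (.node .leaf (58195, 0, 15, 227736) .leaf) (58196, 0, 17, 192760) (.node .leaf (58197, 0, 16, 135326) .leaf)) (58200, 0, 17, 235910) (.node (.node .leaf (58201, 0, 16, 114856) .leaf) (58206, 0, 15, 134889) (.node .leaf (58207, 0, 14, 91427) .leaf))) (58210, 0, 14, 233620) (.node (.node (.node .leaf (58211, 0, 8, 117178) .leaf) (58212, 0, 17, 230232) (.node .leaf (58213, 0, 13, 222014) .leaf)) (58216, 0, 17, 106467) (.node (.node .leaf (58217, 0, 17, 98181) .leaf) (58222, 0, 15, 63205) (.node .leaf (58223, 0, 17, 5763) .leaf)))) (58226, 0, 17, 124514) (.node (.node (.node (.node .leaf (58227, 0, 18, 29293) .leaf) (58228, 0, 12, 129805) (.node .leaf (58229, 0, 18, 141347) .leaf)) (58232, 0, 11, 255926) (.node (.node .leaf (58233, 0, 18, 48546) .leaf) (58238, 0, 15, 226275)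 (.node .leaf (58239, 0, 16, 76493) .leaf))) (58240, 0, 12, 191759) (.node (.node (.node .leaf (58241, 0, 11, 46113) .leaf) (58246, 0, 17, 227936) (.node .leaf (58247, 0, 12, 50530) .leaf)) (58250, 0, 17, 145855) (.node (.node .leaf (58251, 0, 17, 186841) .leaf) (58252, 0, 12, 217273) .leaf)))))

/-- part of the orbit tree -/
def itp1_391 : Tree := (.node itp1_387 (57872, 0, 17, 131369) itp1_388)

/-- part of the orbit tree -/
def itp1_392 : Tree := (.node itp1_389 (58130, 0, 17, 62328) itp1_390)

/-- part of the orbit tree -/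
def itp1_393 : Tree := (.node itp1_385 (57488, 0, 15, 31030) itp1_386)

/-- part of the orbit tree -/
def itp1_394 : Tree := (.node itp1_391 (58002, 0, 19, 116230) itp1_392)

/-- part of the orbit tree -/
def itp1_395 : Tree := (.node (.node (.node (.node (.node (.node .leaf (58256, 0, 17, 39929) .leaf) (58257, 0, 11, 180951) (.node .leaf (58262, 0, 14, 154961) .leaf)) (58263, 0, 16, 218552) (.node (.node .leaf (58266, 0, 15, 16874) .leaf) (58267, 0, 17, 41356) (.node .leaf (58268, 0, 17, 134776) .leaf))) (58269, 0, 16, 22358) (.node (.node (.node .leaf (58272, 0, 15, 233477) .leaf) (58273, 0, 11, 173969) (.node .leaf (58278, 0, 18, 132970) .leaf)) (58279, 0, 17, 249495) (.node (.node .leaf (58282, 0, 18, 78410) .leaf) (58283, 0, 15, 183237) (.node .leaf (58284, 0, 15, 66948) .leaf)))) (58285, 0, 16, 47914) (.node (.node (.node (.node .leaf (58288, 0, 16, 124659) .leaf) (58289, 0, 14, 57284) (.node .leaf (58294, 0, 16, 29084) .leaf)) (58295, 0, 18, 112322) (.node (.node .leaf (58298, 0, 14, 189469)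 .leaf) (58299, 0, 18, 240249) (.node .leaf (58300, 0, 13, 140057) .leaf))) (58301, 0, 14, 76380) (.node (.node (.node .leaf (58304, 0, 18, 177541) .leaf) (58305, 0, 18, 60587) (.node .leaf (58310, 0, 15, 216962) .leaf)) (58311, 0, 17, 97220) (.node (.node .leaf (58314, 0, 18, 86841) .leaf) (58315, 0, 15, 111455) (.node .leaf (58316, 0, 17, 14911) .leaf))))) (58317, 0, 14, 162090) (.node (.node (.node (.node (.node .leaf (58320, 0, 16, 24273) .leaf) (58321, 0, 18, 170589) (.node .leaf (58326, 0, 15, 87068) .leaf)) (58327, 0, 14, 120753) (.node (.node .leaf (58330, 0, 16, 246173) .leaf) (58331, 0, 14, 104627) (.node .leaf (58332, 0, 14, 153330) .leaf))) (58333, 0, 12, 4060) (.node (.node (.node .leaf (58336, 0, 16, 77169) .leaf) (58337, 0, 17, 102817) (.node .leaf (58342, 0, 16, 17527) .leaf)) (58343, 0, 18, 1742) (.node (.node .leaf (58346, 0, 13, 51809) .leaf) (58347, 0, 16, 178346) (.node .leaf (58348, 0, 14, 89358) .leaf)))) (58349, 0, 17, 197664) (.node (.node (.node (.node .leaf (58352, 0, 14,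 114297) .leaf) (58353, 0, 15, 243010) (.node .leaf (58358, 0, 19, 10518) .leaf)) (58359, 0, 17, 187460) (.node (.node .leaf (58362, 0, 12, 8345) .leaf) (58363, 0, 9, 49407) (.node .leaf (58364, 0, 16, 84383) .leaf))) (58365, 0, 15, 94934) (.node (.node (.node .leaf (58368, 0, 17, 85924) .leaf) (58370, 0, 17, 88623) (.node .leaf (58373, 0, 16, 169070) .leaf)) (58375, 0, 17, 97308) (.node (.node .leaf (58377, 0, 15, 495) .leaf) (58379, 0, 16, 187007) (.node .leaf (58380, 0, 13, 10204) .leaf))))))

/-- part of the orbit tree -/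
def itp1_396 : Tree := (.node (.node (.node (.node (.node (.node .leaf (58384, 0, 17, 210929) .leaf) (58386, 0, 16, 157652) (.node .leaf (58389, 0, 17, 58008) .leaf)) (58391, 0, 17, 199402) (.node (.node .leaf (58393, 0, 12, 161561) .leaf) (58395, 0, 15, 106347) (.node .leaf (58396, 0, 17, 151850) .leaf))) (58398, 0, 15, 112984) (.node (.node (.node .leaf (58400, 0, 18, 148561) .leaf) (58402, 0, 15, 10021) (.node .leaf (58405, 0, 15, 256356) .leaf)) (58407, 0, 18, 249137) (.node (.node .leaf (58409, 0, 12, 97509) .leaf) (58411, 0, 17, 169111) (.node .leaf (58412, 0, 16, 22762) .leaf)))) (58414, 0, 18, 67791) (.node (.node (.node (.node .leaf (58416, 0, 13, 15364) .leaf) (58418, 0, 14, 152019) (.node .leaf (58421, 0, 16, 106386) .leaf)) (58423, 0, 14, 111972) (.node (.node .leaf (58425, 0, 17, 195066) .leaf) (58427, 0, 14, 240095) (.node .leaf (58428, 0, 17, 207904) .leaf))) (58430, 0, 16, 225434) (.node (.node (.node .leaf (58432, 0, 16, 191191) .leaf) (58434, 0, 18, 226567) (.node .leaf (58437, 0,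 17, 183524) .leaf)) (58439, 0, 15, 74902) (.node (.node .leaf (58441, 0, 11, 57564) .leaf) (58443, 0, 16, 241943) (.node .leaf (58444, 0, 17, 32598) .leaf))))) (58446, 0, 15, 235300) (.node (.node (.node (.node (.node .leaf (58448, 0, 15, 23927) .leaf) (58450, 0, 16, 226387) (.node .leaf (58453, 0, 18, 47634) .leaf)) (58455, 0, 17, 119831) (.node (.node .leaf (58457, 0, 16, 170121) .leaf) (58459, 0, 15, 116705) (.node .leaf (58460, 0, 8, 133536) .leaf))) (58462, 0, 18, 123346) (.node (.node (.node .leaf (58464, 0, 17, 235485) .leaf) (58466, 0, 15, 32498) (.node .leaf (58469, 0, 15, 242158) .leaf)) (58471, 0, 10, 42935) (.node (.node .leaf (58473, 0, 19, 74863) .leaf) (58475, 0, 17, 183325) (.node .leaf (58476, 0, 19, 66140) .leaf)))) (58478, 0, 16, 156233) (.node (.node (.node (.node .leaf (58480, 0, 15, 218754) .leaf) (58482, 0, 14, 132775) (.node .leaf (58485, 0, 16, 233415) .leaf)) (58487, 0, 18, 143210) (.node (.node .leaf (58489, 0, 18, 103292) .leaf) (58491, 0, 16, 50009) (.node .leaf (58492,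 0, 15, 226474) .leaf))) (58494, 0, 15, 6684) (.node (.node (.node .leaf (58497, 0, 15, 219930) .leaf) (58499, 0, 14, 157933) (.node .leaf (58500, 0, 16, 254349) .leaf)) (58502, 0, 19, 38235) (.node (.node .leaf (58504, 0, 18, 125096) .leaf) (58506, 0, 16, 44307) (.node .leaf (58509, 0, 16, 74867) .leaf))))))

/-- part of the orbit tree -/
def itp1_397 : Tree := (.node (.node (.node (.node (.node (.node .leaf (58513, 0, 17, 82077) .leaf) (58515, 0, 17, 4280) (.node .leaf (58516, 0, 13, 104920) .leaf)) (58518, 0, 16, 189357) (.node (.node .leaf (58520, 0, 11, 230755) .leaf) (58522, 0, 15, 30252) (.node .leaf (58525, 0, 16, 220198) .leaf))) (58527, 0, 13, 20511) (.node (.node (.node .leaf (58529, 0, 18, 13117) .leaf) (58531, 0, 14, 90904) (.node .leaf (58532, 0, 17, 60024) .leaf)) (58534, 0, 15, 113245) (.node (.node .leaf (58536, 0, 16, 194243) .leaf) (58538, 0, 12, 228816) (.node .leaf (58541, 0, 16, 45969) .leaf)))) (58543, 0, 17, 229283) (.node (.node (.node (.node .leaf (58545, 0, 15, 150376) .leaf)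 (58547, 0, 17, 243860) (.node .leaf (58548, 0, 15, 30421) .leaf)) (58550, 0, 17, 237223) (.node (.node .leaf (58552, 0, 15, 36502) .leaf) (58554, 0, 14, 122547) (.node .leaf (58557, 0, 19, 22483) .leaf))) (58559, 0, 16, 67574) (.node (.node (.node .leaf (58561, 0, 17, 197520) .leaf) (58563, 0, 17, 66155) (.node .leaf (58564, 0, 18, 35595) .leaf)) (58566, 0, 15, 121646) (.node (.node .leaf (58568, 0, 17, 110626) .leaf) (58570, 0, 16, 153680) (.node .leaf (58573, 0, 17, 103953) .leaf))))) (58575, 0, 19, 163427) (.node (.node (.node (.node (.node .leaf (58577, 0, 12, 95590) .leaf) (58579, 0, 10, 227902) (.node .leaf (58580, 0, 16, 86869) .leaf)) (58582, 0, 15, 238459) (.node (.node .leaf (58584, 0, 17, 61413) .leaf) (58586, 0, 15, 114624) (.node .leaf (58589, 0, 15, 13984) .leaf))) (58591, 0, 16, 2197) (.node (.node (.node .leaf (58593, 0, 16, 163482) .leaf) (58595, 0, 15, 104168) (.node .leaf (58596, 0, 14, 229630) .leaf)) (58598, 0, 14, 110811) (.node (.node .leaf (58600, 0, 17, 105541) .leaf) (58602,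 0, 16, 206170) (.node .leaf (58605, 0, 14, 83200) .leaf)))) (58607, 0, 15, 197481) (.node (.node (.node (.node .leaf (58609, 0, 16, 74222) .leaf) (58611, 0, 15, 253982) (.node .leaf (58612, 0, 16, 129195) .leaf)) (58614, 0, 16, 43150) (.node (.node .leaf (58616, 0, 12, 254992) .leaf) (58618, 0, 17, 177205) (.node .leaf (58621, 0, 16, 171501) .leaf))) (58623, 0, 13, 159088) (.node (.node (.node .leaf (58625, 0, 15, 134582) .leaf) (58627, 0, 15, 220563) (.node .leaf (58628, 0, 13, 185587) .leaf)) (58630, 0, 15, 246481) (.node (.node .leaf (58632, 0, 15, 180002) .leaf) (58634, 0, 17, 87888) (.node .leaf (58637, 0, 19, 170257) .leaf))))))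

/-- part of the orbit tree -/
def itp1_398 : Tree := (.node (.node (.node (.node (.node (.node .leaf (58641, 0, 9, 30179) .leaf) (58643, 0, 18, 75206) (.node .leaf (58644, 0, 16, 44198) .leaf)) (58646, 0, 15, 130179) (.node (.node .leaf (58648, 0, 15, 51668) .leaf) (58650, 0, 16, 205222) (.node .leaf (58653, 0, 14, 158040) .leaf))) (58655, 0, 13, 198549) (.node (.node (.node .leaf (58657, 0, 13, 67139) .leaf) (58659, 0, 18, 170472) (.node .leaf (58660, 0, 16, 87977) .leaf)) (58662, 0, 17, 180187) (.node (.node .leaf (58664, 0, 17, 246312) .leaf) (58666, 0, 13, 168856) (.node .leaf (58669, 0, 14, 255003) .leaf)))) (58671, 0, 18, 3177) (.node (.node (.node (.node .leaf (58673, 0, 16, 228886) .leaf) (58675, 0, 11, 142899) (.node .leaf (58676, 0, 13, 239443) .leaf)) (58678, 0, 16, 51501) (.node (.node .leaf (58680, 0, 15, 111838) .leaf) (58682, 0, 16, 60365) (.node .leaf (58685, 0, 15, 103149) .leaf))) (58687, 0, 16, 162463) (.node (.node (.node .leaf (58689, 0, 16, 21530) .leaf) (58691, 0, 14, 14101)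 (.node .leaf (58692, 0, 16, 114293) .leaf)) (58694, 0, 13, 61008) (.node (.node .leaf (58696, 0, 15, 190376) .leaf) (58698, 0, 14, 193259) (.node .leaf (58701, 0, 16, 228235) .leaf))))) (58703, 0, 16, 76265) (.node (.node (.node (.node (.node .leaf (58705, 0, 14, 204645) .leaf) (58707, 0, 15, 151360) (.node .leaf (58708, 0, 15, 132319) .leaf)) (58710, 0, 14, 126125) (.node (.node .leaf (58712, 0, 10, 37214) .leaf) (58714, 0, 15, 227628) (.node .leaf (58717, 0, 16, 46957) .leaf))) (58719, 0, 17, 21499) (.node (.node (.node .leaf (58721, 0, 19, 158917) .leaf) (58723, 0, 15, 180578) (.node .leaf (58724, 0, 14, 177536) .leaf)) (58726, 0, 15, 255397) (.node (.node .leaf (58728, 0, 17, 43323) .leaf) (58730, 0, 11, 29392) (.node .leaf (58733, 0, 16, 28798) .leaf)))) (58735, 0, 15, 73819) (.node (.node (.node (.node .leaf (58737, 0, 15, 221158) .leaf) (58739, 0, 15, 83125) (.node .leaf (58740, 0, 16, 52693) .leaf)) (58742, 0, 16, 105968) (.node (.node .leaf (58744, 0, 18, 126036) .leaf) (58746, 0, 15, 132134)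 (.node .leaf (58749, 0, 14, 133163) .leaf))) (58751, 0, 18, 139797) (.node (.node (.node .leaf (58752, 0, 19, 31450) .leaf) (58754, 0, 16, 76543) (.node .leaf (58757, 0, 13, 115684) .leaf)) (58759, 0, 15, 127930) (.node (.node .leaf (58761, 0, 13, 218725) .leaf) (58763, 0, 16, 48663) (.node .leaf (58764, 0, 13, 157281) .leaf))))))

/-- part of the orbit tree -/
def itp1_399 : Tree := (.node itp1_395 (58382, 0, 15, 131898) itp1_396)

/-- part of the orbit tree -/
def itp1_400 : Tree := (.node itp1_397 (58639, 0, 18, 94563) itp1_398)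

/-- part of the orbit tree -/
def itp1_401 : Tree := (.node (.node (.node (.node (.node (.node .leaf (58768, 0, 17, 234273) .leaf) (58770, 0, 17, 31571) (.node .leaf (58773, 0, 15, 187338) .leaf)) (58775, 0, 14, 23904) (.node (.node .leaf (58777, 0, 14, 73875) .leaf) (58779, 0, 15, 182497) (.node .leaf (58780, 0, 17, 7732) .leaf))) (58782, 0, 16, 85521) (.node (.node (.node .leaf (58784, 0, 16, 39133) .leaf) (58786, 0, 15, 225455) (.node .leaf (58789, 0, 17, 239722) .leaf)) (58791, 0, 16, 194639) (.node (.node .leaf (58793, 0, 17, 142191) .leaf) (58795, 0, 15, 115485) (.node .leaf (58796, 0, 17, 134492) .leaf)))) (58798, 0, 16, 124206) (.node (.node (.node (.node .leaf (58800, 0, 14, 67962) .leaf) (58802, 0, 16, 67161) (.node .leaf (58805, 0, 17, 118847) .leaf)) (58807, 0, 16, 32794) (.node (.node .leaf (58809, 0, 17, 248964) .leaf) (58811, 0, 18, 171169) (.node .leaf (58812, 0, 15, 202177) .leaf))) (58814, 0, 15, 148964) (.node (.node (.node .leaf (58816, 0, 16, 114013) .leaf) (58818, 0, 15, 147577)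 (.node .leaf (58821, 0, 16, 105326) .leaf)) (58823, 0, 16, 170300) (.node (.node .leaf (58825, 0, 17, 120226) .leaf) (58827, 0, 15, 34183) (.node .leaf (58828, 0, 14, 68839) .leaf))))) (58830, 0, 18, 23746) (.node (.node (.node (.node (.node .leaf (58832, 0, 16, 248747) .leaf) (58834, 0, 14, 9177) (.node .leaf (58837, 0, 17, 110924) .leaf)) (58839, 0, 18, 1514) (.node (.node .leaf (58841, 0, 16, 241143) .leaf) (58843, 0, 14, 168043) (.node .leaf (58844, 0, 18, 226482) .leaf))) (58846, 0, 14, 177752) (.node (.node (.node .leaf (58848, 0, 17, 7081) .leaf) (58850, 0, 14, 84876) (.node .leaf (58853, 0, 16, 49900) .leaf)) (58855, 0, 17, 200214) (.node (.node .leaf (58857, 0, 16, 187991) .leaf) (58859, 0, 17, 233074) (.node .leaf (58860, 0, 18, 132882) .leaf)))) (58862, 0, 19, 114084) (.node (.node (.node (.node .leaf (58864, 0, 17, 156668) .leaf) (58866, 0, 17, 209881) (.node .leaf (58869, 0, 15, 178873) .leaf)) (58871, 0, 12, 256668) (.node (.node .leaf (58873, 0, 15, 42498) .leaf) (58875, 0, 16, 257377)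 (.node .leaf (58876, 0, 11, 32583) .leaf))) (58878, 0, 18, 248658) (.node (.node (.node .leaf (58884, 0, 15, 88823) .leaf) (58885, 0, 10, 168258) (.node .leaf (58886, 0, 18, 204830) .leaf)) (58887, 0, 16, 60084) (.node (.node .leaf (58888, 0, 17, 214604) .leaf) (58889, 0, 17, 239146) (.node .leaf (58890, 0, 14, 112031) .leaf))))))

/-- part of the orbit tree -/
def itp1_402 : Tree := (.node (.node (.node (.node (.node (.node .leaf (58900, 0, 18, 179866) .leaf) (58901, 0, 17, 246468) (.node .leaf (58902, 0, 18, 160391) .leaf)) (58903, 0, 17, 200646) (.node (.node .leaf (58904, 0, 16, 11035) .leaf) (58905, 0, 15, 160309) (.node .leaf (58906, 0, 14, 246633) .leaf))) (58907, 0, 15, 105031) (.node (.node (.node .leaf (58916, 0, 9, 111974) .leaf) (58917, 0, 15, 176484) (.node .leaf (58918, 0, 15, 154900) .leaf)) (58919, 0, 15, 1082) (.node (.node .leaf (58920, 0, 18, 205031) .leaf) (58921, 0, 16, 96713) (.node .leaf (58922, 0, 16, 51349) .leaf)))) (58923, 0, 15, 168379) (.node (.node (.node (.node .leaf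 (58932, 0, 16, 246672) .leaf) (58933, 0, 17, 105150) (.node .leaf (58934, 0, 17, 11234) .leaf)) (58935, 0, 13, 160460) (.node (.node .leaf (58936, 0, 15, 87569) .leaf) (58937, 0, 18, 200511) (.node .leaf (58938, 0, 15, 222665) .leaf))) (58939, 0, 16, 230831) (.node (.node (.node .leaf (58948, 0, 12, 37094) .leaf) (58949, 0, 14, 184343) (.node .leaf (58950, 0, 14, 227476) .leaf)) (58951, 0, 17, 74170) (.node (.node .leaf (58952, 0, 15, 132455) .leaf) (58953, 0, 17, 23625) (.node .leaf (58954, 0, 17, 126229) .leaf))))) (58955, 0, 14, 105609) (.node (.node (.node (.node (.node .leaf (58964, 0, 13, 18468) .leaf) (58965, 0, 11, 43074) (.node .leaf (58966, 0, 17, 69218) .leaf)) (58967, 0, 9, 218956) (.node (.node .leaf (58968, 0, 18, 152735) .leaf) (58969, 0, 17, 177401) (.node .leaf (58970, 0, 15, 197818) .leaf))) (58971, 0, 17, 255196) (.node (.node (.node .leaf (58980, 0, 16, 126444) .leaf) (58981, 0, 15, 242882) (.node .leaf (58982, 0, 19, 132510) .leaf)) (58983, 0, 17, 35783) (.node (.node .leaf (58984,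 0, 14, 206655) .leaf) (58985, 0, 17, 247641) (.node .leaf (58986, 0, 15, 161562) .leaf)))) (58987, 0, 14, 182577) (.node (.node (.node (.node .leaf (58996, 0, 17, 236314) .leaf) (58997, 0, 17, 115252) (.node .leaf (58998, 0, 15, 29544) .leaf)) (58999, 0, 14, 193426) (.node (.node .leaf (59000, 0, 11, 69275) .leaf) (59001, 0, 15, 114444) (.node .leaf (59002, 0, 15, 190185) .leaf))) (59003, 0, 16, 61225) (.node (.node (.node .leaf (59008, 0, 15, 67352) .leaf) (59009, 0, 16, 201912) (.node .leaf (59010, 0, 17, 192362) .leaf)) (59011, 0, 16, 148637) (.node (.node .leaf (59020, 0, 16, 125029) .leaf) (59021, 0, 12, 67587) (.node .leaf (59022, 0, 16, 31467) .leaf))))))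

/-- part of the orbit tree -/
def itp1_403 : Tree := (.node (.node (.node (.node (.node (.node .leaf (59024, 0, 17, 225774) .leaf) (59025, 0, 17, 93421) (.node .leaf (59026, 0, 16, 39324) .leaf)) (59027, 0, 15, 15560) (.node (.node .leaf (59036, 0, 18, 233520) .leaf) (59037, 0, 15, 245057) (.node .leaf (59038, 0, 19, 134173) .leaf))) (59039, 0, 15, 21811) (.node (.node (.node .leaf (59040, 0, 17, 31250) .leaf) (59041, 0, 16, 8013) (.node .leaf (59042, 0, 13, 110350) .leaf)) (59043, 0, 18, 85864) (.node (.node .leaf (59052, 0, 14, 189328) .leaf) (59053, 0, 14, 132086) (.node .leaf (59054, 0, 17, 242613) .leaf)))) (59055, 0, 17, 220879) (.node (.node (.node (.node .leaf (59056, 0, 16, 165758) .leaf) (59057, 0, 18, 21962) (.node .leaf (59058, 0, 16, 251739) .leaf)) (59059, 0, 18, 210749) (.node (.node .leaf (59068, 0, 16, 39877) .leaf) (59069, 0, 15, 31651) (.node .leaf (59070, 0, 16, 225559) .leaf))) (59071, 0, 16, 75833) (.node (.node (.node .leaf (59072, 0, 15, 90002) .leaf) (59073, 0, 17, 198332)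 (.node .leaf (59074, 0, 16, 178144) .leaf)) (59075, 0, 16, 77339) (.node (.node .leaf (59084, 0, 17, 248339) .leaf) (59085, 0, 14, 103229) (.node .leaf (59086, 0, 13, 8801) .leaf))))) (59087, 0, 16, 209568) (.node (.node (.node (.node (.node .leaf (59088, 0, 16, 207204) .leaf) (59089, 0, 15, 132715) (.node .leaf (59090, 0, 16, 243240) .leaf)) (59091, 0, 17, 170040) (.node (.node .leaf (59100, 0, 16, 64182) .leaf) (59101, 0, 19, 6864) (.node .leaf (59102, 0, 15, 152727) .leaf))) (59103, 0, 16, 3513) (.node (.node (.node .leaf (59104, 0, 16, 234925) .leaf) (59105, 0, 19, 162742) (.node .leaf (59106, 0, 15, 181640) .leaf)) (59107, 0, 18, 140782) (.node (.node .leaf (59116, 0, 18, 177945) .leaf) (59117, 0, 16, 60983) (.node .leaf (59118, 0, 18, 55603) .leaf)))) (59119, 0, 14, 14677) (.node (.node (.node (.node .leaf (59120, 0, 16, 152686) .leaf) (59121, 0, 16, 69022) (.node .leaf (59122, 0, 18, 48605) .leaf)) (59123, 0, 17, 23995) (.node (.node .leaf (59132, 0, 15, 49647) .leaf) (59133, 0, 17, 200997)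 (.node .leaf (59134, 0, 14, 207261) .leaf))) (59135, 0, 17, 94387) (.node (.node (.node .leaf (59136, 0, 16, 151698) .leaf) (59137, 0, 18, 2492) (.node .leaf (59138, 0, 16, 233861) .leaf)) (59139, 0, 17, 254414) (.node (.node .leaf (59148, 0, 19, 56603) .leaf) (59149, 0, 17, 171069) (.node .leaf (59150, 0, 16, 208225) .leaf))))))

/-- part of the orbit tree -/
def itp1_404 : Tree := (.node (.node (.node (.node (.node (.node .leaf (59152, 0, 19, 9828) .leaf) (59153, 0, 14, 163658) (.node .leaf (59154, 0, 16, 125392) .leaf)) (59155, 0, 17, 104248) (.node (.node .leaf (59164, 0, 14, 173390) .leaf) (59165, 0, 13, 60107) (.node .leaf (59166, 0, 18, 259435) .leaf))) (59167, 0, 17, 201997) (.node (.node (.node .leaf (59168, 0, 15, 117333) .leaf) (59169, 0, 18, 76339) (.node .leaf (59170, 0, 14, 50666) .leaf)) (59171, 0, 15, 171204) (.node (.node .leaf (59180, 0, 17, 251630) .leaf) (59181, 0, 9, 210568) (.node .leaf (59182, 0, 11, 151659) .leaf)))) (59183, 0, 18, 157357) (.node (.node (.node (.node .leaf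 (59184, 0, 17, 88942) .leaf) (59185, 0, 17, 217702) (.node .leaf (59186, 0, 16, 188965) .leaf)) (59187, 0, 15, 59954) (.node (.node .leaf (59196, 0, 16, 110267) .leaf) (59197, 0, 15, 85725) (.node .leaf (59198, 0, 18, 9885) .leaf))) (59199, 0, 15, 7928) (.node (.node (.node .leaf (59200, 0, 17, 133144) .leaf) (59201, 0, 17, 84800) (.node .leaf (59202, 0, 14, 122986) .leaf)) (59203, 0, 17, 7013) (.node (.node .leaf (59212, 0, 17, 40345) .leaf) (59213, 0, 18, 219131) (.node .leaf (59214, 0, 19, 226795) .leaf))))) (59215, 0, 17, 76997) (.node (.node (.node (.node (.node .leaf (59216, 0, 16, 32494) .leaf) (59217, 0, 16, 209685) (.node .leaf (59218, 0, 18, 164694) .leaf)) (59219, 0, 17, 156464) (.node (.node .leaf (59228, 0, 16, 118728) .leaf) (59229, 0, 17, 77742) (.node .leaf (59230, 0, 17, 40941) .leaf))) (59231, 0, 12, 219699) (.node (.node (.node .leaf (59232, 0, 17, 172243) .leaf) (59233, 0, 15, 147637) (.node .leaf (59234, 0, 18, 258294) .leaf)) (59235, 0, 16, 181326) (.node (.node .leaf (59244,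 0, 13, 48232) .leaf) (59245, 0, 16, 23566) (.node .leaf (59246, 0, 16, 126029) .leaf)))) (59247, 0, 13, 68651) (.node (.node (.node (.node .leaf (59248, 0, 17, 55430) .leaf) (59249, 0, 17, 14560) (.node .leaf (59250, 0, 14, 191382) .leaf)) (59251, 0, 18, 45752) (.node (.node .leaf (59260, 0, 16, 235109) .leaf) (59261, 0, 14, 140379) (.node .leaf (59262, 0, 18, 32279) .leaf))) (59263, 0, 15, 226430) (.node (.node (.node .leaf (59268, 0, 17, 237542) .leaf) (59269, 0, 18, 116424) (.node .leaf (59270, 0, 17, 81836) .leaf)) (59271, 0, 16, 122826) (.node (.node .leaf (59272, 0, 14, 68199) .leaf) (59273, 0, 16, 168788) .leaf)))))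

/-- part of the orbit tree -/
def itp1_405 : Tree := (.node itp1_401 (58891, 0, 16, 257201) itp1_402)

/-- part of the orbit tree -/
def itp1_406 : Tree := (.node itp1_403 (59151, 0, 15, 95311) itp1_404)

/-- part of the orbit tree -/
def itp1_407 : Tree := (.node itp1_399 (58511, 0, 16, 29782) itp1_400)

/-- part of the orbit tree -/
def itp1_408 : Tree := (.node itp1_405 (59023, 0, 15, 22566) itp1_406)

/-- part of the orbit tree -/
def itp1_409 : Tree := (.node itp1_393 (57745, 0, 17, 182267) itp1_394)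

/-- part of the orbit tree -/
def itp1_410 : Tree := (.node itp1_407 (58766, 0, 16, 210500) itp1_408)

/-- part of the orbit tree -/
def itp1_411 : Tree := (.node (.node (.node (.node (.node (.node .leaf (59275, 0, 14, 47931) .leaf) (59284, 0, 18, 137180) (.node .leaf (59285, 0, 16, 241726) .leaf)) (59286, 0, 12, 215033) (.node (.node .leaf (59287, 0, 15, 239519) .leaf) (59288, 0, 15, 228497) (.node .leaf (59289, 0, 16, 75199) .leaf))) (59290, 0, 16, 88898) (.node (.node (.node .leaf (59291, 0, 16, 113444) .leaf) (59300, 0, 17, 222332) (.node .leaf (59301, 0, 11, 230426) .leaf)) (59302, 0, 14, 144473) (.node (.node .leaf (59303, 0, 17, 185407) .leaf) (59304, 0, 16, 96455) (.node .leaf (59305, 0, 14, 104609) .leaf)))) (59306, 0, 16, 237343) (.node (.node (.node (.node .leaf (59307, 0, 15, 116273) .leaf) (59316, 0, 17, 37914) (.node .leaf (59317, 0, 16, 183604) .leaf)) (59318, 0, 15, 228456) (.node (.node .leaf (59319, 0, 12, 75078) .leaf) (59320, 0, 17, 196754) (.node .leaf (59321, 0, 15, 254196)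 .leaf))) (59322, 0, 14, 125417) (.node (.node (.node .leaf (59323, 0, 18, 176337) .leaf) (59332, 0, 18, 197903) (.node .leaf (59333, 0, 16, 255337) .leaf)) (59334, 0, 18, 152874) (.node (.node .leaf (59335, 0, 16, 177484) .leaf) (59336, 0, 15, 86765) (.node .leaf (59337, 0, 15, 129490) .leaf))))) (59338, 0, 16, 18833) (.node (.node (.node (.node (.node .leaf (59339, 0, 15, 58289) .leaf) (59348, 0, 16, 97626) (.node .leaf (59349, 0, 16, 105788) .leaf)) (59350, 0, 17, 154088) (.node (.node .leaf (59351, 0, 14, 52505) .leaf) (59352, 0, 16, 205851) (.node .leaf (59353, 0, 15, 97589) .leaf))) (59354, 0, 17, 143812) (.node (.node (.node .leaf (59355, 0, 14, 169287) .leaf) (59364, 0, 12, 178790) (.node .leaf (59365, 0, 16, 58184) .leaf)) (59366, 0, 12, 86548) (.node (.node .leaf (59367, 0, 16, 199482) .leaf) (59368, 0, 14, 12263) (.node .leaf (59369, 0, 15, 161481) .leaf)))) (59370, 0, 13, 213604) (.node (.node (.node (.node .leaf (59371, 0, 15, 238082) .leaf) (59380, 0, 15, 161455) (.node .leaf (59381,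 0, 14, 169673) .leaf)) (59382, 0, 16, 206474) (.node (.node .leaf (59383, 0, 14, 247532) .leaf) (59384, 0, 13, 27156) (.node .leaf (59385, 0, 16, 63) .leaf))) (59386, 0, 13, 80433) (.node (.node (.node .leaf (59387, 0, 15, 256077) .leaf) (59392, 0, 17, 142096) (.node .leaf (59395, 0, 17, 19402) .leaf)) (59396, 0, 17, 135731) (.node (.node .leaf (59399, 0, 16, 144599) .leaf) (59401, 0, 14, 215332) (.node .leaf (59402, 0, 14, 194680) .leaf))))))

/-- part of the orbit tree -/
def itp1_412 : Tree := (.node (.node (.node (.node (.node (.node .leaf (59406, 0, 17, 92046) .leaf) (59408, 0, 15, 21317) (.node .leaf (59411, 0, 17, 123654) .leaf)) (59412, 0, 16, 27238) (.node (.node .leaf (59415, 0, 16, 121381) .leaf) (59417, 0, 18, 169659) (.node .leaf (59418, 0, 14, 206584) .leaf))) (59421, 0, 19, 176024) (.node (.node (.node .leaf (59422, 0, 14, 192915) .leaf) (59424, 0, 15, 34716) (.node .leaf (59427, 0, 17, 37030) .leaf)) (59428, 0, 14, 194689) (.node (.node .leaf (59431, 0, 18, 43397) .leaf) (59433, 0,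 12, 255259) (.node .leaf (59434, 0, 16, 230770) .leaf)))) (59437, 0, 17, 252984) (.node (.node (.node (.node .leaf (59438, 0, 15, 158843) .leaf) (59440, 0, 11, 219312) (.node .leaf (59443, 0, 13, 190707) .leaf)) (59444, 0, 14, 36471) (.node (.node .leaf (59447, 0, 17, 184784) .leaf) (59449, 0, 15, 105806) (.node .leaf (59450, 0, 13, 127876) .leaf))) (59453, 0, 15, 146885) (.node (.node (.node .leaf (59454, 0, 16, 5166) .leaf) (59456, 0, 11, 82326) (.node .leaf (59459, 0, 14, 61909) .leaf)) (59460, 0, 16, 253185) (.node (.node .leaf (59463, 0, 10, 158813) .leaf) (59465, 0, 16, 230504) (.node .leaf (59466, 0, 15, 144427) .leaf))))) (59469, 0, 17, 245067) (.node (.node (.node (.node (.node .leaf (59470, 0, 17, 134408) .leaf) (59472, 0, 16, 211395) (.node .leaf (59475, 0, 17, 157110) .leaf)) (59476, 0, 16, 196832) (.node (.node .leaf (59479, 0, 15, 6827) .leaf) (59481, 0, 18, 91992) (.node .leaf (59482, 0, 13, 19582) .leaf))) (59485, 0, 19, 115998) (.node (.node (.node .leaf (59486, 0, 16, 30045) .leaf)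 (59488, 0, 16, 57110) (.node .leaf (59491, 0, 18, 93770) .leaf)) (59492, 0, 17, 160576) (.node (.node .leaf (59495, 0, 18, 246531) .leaf) (59497, 0, 11, 158884) (.node .leaf (59498, 0, 11, 81886) .leaf)))) (59501, 0, 15, 46782) (.node (.node (.node (.node .leaf (59502, 0, 16, 67325) .leaf) (59504, 0, 15, 174560) (.node .leaf (59507, 0, 17, 98933) .leaf)) (59508, 0, 14, 55037) (.node (.node .leaf (59511, 0, 13, 92065) .leaf) (59513, 0, 15, 6738) (.node .leaf (59514, 0, 15, 214923) .leaf))) (59517, 0, 15, 184043) (.node (.node (.node .leaf (59518, 0, 17, 229032) .leaf) (59521, 0, 15, 5073) (.node .leaf (59522, 0, 15, 107149) .leaf)) (59525, 0, 13, 158924) (.node (.node .leaf (59526, 0, 17, 253328) .leaf) (59528, 0, 13, 170370) (.node .leaf (59531, 0, 18, 201023) .leaf))))))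

/-- part of the orbit tree -/
def itp1_413 : Tree := (.node (.node (.node (.node (.node (.node .leaf (59535, 0, 16, 93730) .leaf) (59537, 0, 15, 140329) (.node .leaf (59538, 0, 18, 251003) .leaf)) (59541, 0, 16, 6714) (.node (.node .leaf (59542, 0, 13, 109414) .leaf) (59544, 0, 16, 57815) (.node .leaf (59547, 0, 17, 86420) .leaf))) (59548, 0, 16, 174472) (.node (.node (.node .leaf (59551, 0, 14, 92343) .leaf) (59553, 0, 17, 93915) (.node .leaf (59554, 0, 19, 190410) .leaf)) (59557, 0, 17, 224938) (.node (.node .leaf (59558, 0, 15, 188137) .leaf) (59560, 0, 15, 253289) (.node .leaf (59563, 0, 15, 8756) .leaf)))) (59564, 0, 16, 109396) (.node (.node (.node (.node .leaf (59567, 0, 13, 4904) .leaf) (59569, 0, 15, 77788) (.node .leaf (59570, 0, 18, 40863) .leaf)) (59573, 0, 17, 71423) (.node (.node .leaf (59574, 0, 16, 42684) .leaf) (59576, 0, 16, 109471) (.node .leaf (59579, 0, 13, 154209) .leaf))) (59580, 0, 15, 251010) (.node (.node (.node .leaf (59583, 0, 17, 157150) .leaf) (59585, 0, 17, 19291) (.node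 .leaf (59586, 0, 16, 129543) .leaf)) (59589, 0, 17, 200665) (.node (.node .leaf (59590, 0, 18, 230682) .leaf) (59592, 0, 16, 127748) (.node .leaf (59595, 0, 19, 17223) .leaf))))) (59596, 0, 14, 117287) (.node (.node (.node (.node (.node .leaf (59599, 0, 16, 79528) .leaf) (59601, 0, 16, 146861) (.node .leaf (59602, 0, 15, 232689) .leaf)) (59605, 0, 18, 17072) (.node (.node .leaf (59606, 0, 16, 127980) .leaf) (59608, 0, 13, 36383) (.node .leaf (59611, 0, 17, 146194) .leaf))) (59612, 0, 17, 242290) (.node (.node (.node .leaf (59615, 0, 15, 213086) .leaf) (59617, 0, 16, 79441) (.node .leaf (59618, 0, 16, 101708) .leaf)) (59621, 0, 16, 1068) (.node (.node .leaf (59622, 0, 14, 111727) .leaf) (59624, 0, 17, 230883) (.node .leaf (59627, 0, 18, 215218) .leaf)))) (59628, 0, 17, 180690) (.node (.node (.node (.node .leaf (59631, 0, 16, 225681) .leaf) (59633, 0, 16, 213159) (.node .leaf (59634, 0, 14, 259353) .leaf)) (59637, 0, 10, 162937) (.node (.node .leaf (59638, 0, 18, 36582) .leaf) (59640, 0, 17, 32932)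 (.node .leaf (59643, 0, 17, 16969) .leaf))) (59644, 0, 17, 232456) (.node (.node (.node .leaf (59647, 0, 14, 68036) .leaf) (59649, 0, 18, 214107) (.node .leaf (59650, 0, 15, 55617) .leaf)) (59653, 0, 13, 86049) (.node (.node .leaf (59654, 0, 17, 57442) .leaf) (59656, 0, 12, 240892) (.node .leaf (59659, 0, 18, 18101) .leaf))))))

/-- part of the orbit tree -/
def itp1_414 : Tree := (.node (.node (.node (.node (.node (.node .leaf (59663, 0, 17, 145832) .leaf) (59665, 0, 18, 78509) (.node .leaf (59666, 0, 13, 33777) .leaf)) (59669, 0, 16, 206964) (.node (.node .leaf (59670, 0, 18, 195820) .leaf) (59672, 0, 17, 119977) (.node .leaf (59675, 0, 16, 143427) .leaf))) (59676, 0, 18, 126346) (.node (.node (.node .leaf (59679, 0, 14, 24009) .leaf) (59681, 0, 18, 156407) (.node .leaf (59682, 0, 16, 250548) .leaf)) (59685, 0, 16, 154580) (.node (.node .leaf (59686, 0, 17, 128784) .leaf) (59688, 0, 16, 42761) (.node .leaf (59691, 0, 14, 80831) .leaf)))) (59692, 0, 12, 40490) (.node (.node (.node (.node .leaf (59695,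 0, 15, 214178) .leaf) (59697, 0, 19, 6818) (.node .leaf (59698, 0, 15, 130811) .leaf)) (59701, 0, 18, 143546) (.node (.node .leaf (59702, 0, 17, 103362) .leaf) (59704, 0, 12, 195605) (.node .leaf (59707, 0, 14, 225055) .leaf))) (59708, 0, 16, 190079) (.node (.node (.node .leaf (59711, 0, 17, 78420) .leaf) (59713, 0, 13, 203985) (.node .leaf (59714, 0, 13, 175501) .leaf)) (59717, 0, 13, 91084) (.node (.node .leaf (59718, 0, 14, 232164) .leaf) (59720, 0, 16, 110435) (.node .leaf (59723, 0, 14, 95801) .leaf))))) (59724, 0, 17, 65369) (.node (.node (.node (.node (.node .leaf (59727, 0, 17, 85786) .leaf) (59729, 0, 15, 31697) (.node .leaf (59730, 0, 17, 56187) .leaf)) (59733, 0, 17, 17138) (.node (.node .leaf (59734, 0, 15, 173158) .leaf) (59736, 0, 17, 179759) (.node .leaf (59739, 0, 13, 157897) .leaf))) (59740, 0, 17, 165644) (.node (.node (.node .leaf (59743, 0, 16, 6100) .leaf) (59745, 0, 15, 67697) (.node .leaf (59746, 0, 17, 249991) .leaf)) (59749, 0, 15, 7878) (.node (.node .leaf (59750, 0, 18,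 110490) .leaf) (59752, 0, 13, 53865) (.node .leaf (59755, 0, 16, 90933) .leaf)))) (59756, 0, 18, 259244) (.node (.node (.node (.node .leaf (59759, 0, 17, 148719) .leaf) (59761, 0, 18, 225316) (.node .leaf (59762, 0, 16, 108145) .leaf)) (59765, 0, 12, 157744) (.node (.node .leaf (59766, 0, 12, 194884) .leaf) (59768, 0, 18, 173215) (.node .leaf (59771, 0, 16, 202179) .leaf))) (59772, 0, 12, 101625) (.node (.node (.node .leaf (59775, 0, 15, 15546) .leaf) (59776, 0, 19, 204398) (.node .leaf (59779, 0, 16, 175661) .leaf)) (59780, 0, 18, 53761) (.node (.node .leaf (59783, 0, 16, 90973) .leaf) (59785, 0, 16, 121744) (.node .leaf (59786, 0, 16, 110578) .leaf))))))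

/-- part of the orbit tree -/
def itp1_415 : Tree := (.node itp1_411 (59405, 0, 14, 79417) itp1_412)

/-- part of the orbit tree -/
def itp1_416 : Tree := (.node itp1_413 (59660, 0, 17, 234975) itp1_414)

/-- part of the orbit tree -/
def itp1_417 : Tree := (.node (.node (.node (.node (.node (.node .leaf (59790, 0, 17, 250095) .leaf) (59792, 0, 16, 91707) (.node .leaf (59795, 0, 14, 54904) .leaf)) (59796, 0, 16, 173303) (.node (.node .leaf (59799, 0, 16, 61275) .leaf) (59801, 0, 10, 157784) (.node .leaf (59802, 0, 11, 136070) .leaf))) (59805, 0, 16, 5957) (.node (.node (.node .leaf (59806, 0, 15, 141989) .leaf) (59808, 0, 17, 249878) (.node .leaf (59811, 0, 18, 155978) .leaf)) (59812, 0, 17, 110347) (.node (.node .leaf (59815, 0, 18, 7767) .leaf) (59817, 0, 15, 91044) (.node .leaf (59818, 0, 17, 221222) .leaf)))) (59821, 0, 16, 190790) (.node (.node (.node (.node .leaf (59822, 0, 17, 219397) .leaf) (59824, 0, 16, 108256) (.node .leaf (59827, 0, 16, 6076) .leaf)) (59828, 0, 18, 252413) (.node (.node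 .leaf (59831, 0, 17, 157857) .leaf) (59833, 0, 17, 43056) (.node .leaf (59834, 0, 17, 71795) .leaf))) (59837, 0, 15, 37139) (.node (.node (.node .leaf (59838, 0, 12, 74064) .leaf) (59840, 0, 12, 29928) (.node .leaf (59843, 0, 15, 115883) .leaf)) (59844, 0, 17, 35467) (.node (.node .leaf (59847, 0, 17, 80855) .leaf) (59849, 0, 12, 17956) (.node .leaf (59850, 0, 13, 196949) .leaf))))) (59853, 0, 16, 165941) (.node (.node (.node (.node (.node .leaf (59854, 0, 16, 211062) .leaf) (59856, 0, 17, 33632) (.node .leaf (59859, 0, 12, 244990) .leaf)) (59860, 0, 17, 144798) (.node (.node .leaf (59863, 0, 17, 216353) .leaf) (59865, 0, 16, 51523) (.node .leaf (59866, 0, 17, 96512) .leaf))) (59869, 0, 18, 20431) (.node (.node (.node .leaf (59870, 0, 16, 130707) .leaf) (59872, 0, 15, 229149) (.node .leaf (59875, 0, 18, 145856) .leaf)) (59876, 0, 14, 128897) (.node (.node .leaf (59879, 0, 17, 18141) .leaf) (59881, 0, 18, 80686) (.node .leaf (59882, 0, 16, 35442) .leaf)))) (59885, 0, 13, 99264) (.node (.node (.node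 (.node .leaf (59886, 0, 17, 13187) .leaf) (59888, 0, 13, 130666) (.node .leaf (59891, 0, 15, 20278) .leaf)) (59892, 0, 18, 229751) (.node (.node .leaf (59895, 0, 16, 36392) .leaf) (59897, 0, 14, 216536) (.node .leaf (59898, 0, 15, 160501) .leaf))) (59901, 0, 17, 261013) (.node (.node (.node .leaf (59902, 0, 14, 150486) .leaf) (59906, 0, 16, 137160) (.node .leaf (59907, 0, 14, 20198) .leaf)) (59910, 0, 15, 26837) (.node (.node .leaf (59911, 0, 15, 232960) .leaf) (59912, 0, 16, 8952) (.node .leaf (59913, 0, 13, 216072) .leaf))))))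

/-- part of the orbit tree -/
def itp1_418 : Tree := (.node (.node (.node (.node (.node (.node .leaf (59917, 0, 15, 78613) .leaf) (59922, 0, 14, 24894) (.node .leaf (59923, 0, 16, 145424) .leaf)) (59926, 0, 16, 71219) (.node (.node .leaf (59927, 0, 13, 18189) .leaf) (59928, 0, 16, 222160) (.node .leaf (59929, 0, 16, 80638) .leaf))) (59932, 0, 18, 156558) (.node (.node (.node .leaf (59933, 0, 17, 214499) .leaf) (59938, 0, 18, 23728) (.node .leaf (59939, 0, 17, 78828) .leaf)) (59942, 0, 18, 26003) (.node (.node .leaf (59943, 0, 17, 216305) .leaf) (59944, 0, 14, 26668) (.node .leaf (59945, 0, 18, 248171) .leaf)))) (59948, 0, 18, 137009) (.node (.node (.node (.node .leaf (59949, 0, 17, 258120) .leaf) (59954, 0, 14, 140517) (.node .leaf (59955, 0, 17, 214298) .leaf)) (59958, 0, 17, 221993) (.node (.node .leaf (59959, 0, 16, 196000) .leaf) (59960, 0, 17, 138970) (.node .leaf (59961, 0, 15, 18420) .leaf))) (59964, 0, 14, 92283) (.node (.node (.node .leaf (59965, 0, 17, 145641) .leaf) (59970, 0, 15, 151362)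 (.node .leaf (59971, 0, 16, 5740) .leaf)) (59974, 0, 18, 12383) (.node (.node .leaf (59975, 0, 19, 158065) .leaf) (59976, 0, 18, 85420) (.node .leaf (59977, 0, 18, 239640) .leaf))))) (59980, 0, 17, 225629) (.node (.node (.node (.node (.node .leaf (59981, 0, 10, 93087) .leaf) (59986, 0, 15, 148886) (.node .leaf (59987, 0, 14, 155802) .leaf)) (59990, 0, 17, 149161) (.node (.node .leaf (59991, 0, 9, 8071) .leaf) (59992, 0, 18, 77867) (.node .leaf (59993, 0, 14, 118861) .leaf))) (59996, 0, 18, 67848) (.node (.node (.node .leaf (59997, 0, 15, 204137) .leaf) (60002, 0, 16, 209480) (.node .leaf (60003, 0, 15, 93030) .leaf)) (60006, 0, 15, 200469) (.node (.node .leaf (60007, 0, 14, 201851) .leaf) (60008, 0, 17, 17291) (.node .leaf (60009, 0, 15, 41965) .leaf)))) (60012, 0, 15, 151483) (.node (.node (.node (.node .leaf (60013, 0, 13, 39630) .leaf) (60018, 0, 16, 85603) (.node .leaf (60019, 0, 15, 204176) .leaf)) (60022, 0, 18, 211875) (.node (.node .leaf (60023, 0, 16, 90765) .leaf) (60024, 0, 16, 149072)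 (.node .leaf (60025, 0, 18, 8062) .leaf))) (60028, 0, 17, 14669) (.node (.node (.node .leaf (60029, 0, 17, 155747) .leaf) (60032, 0, 14, 36970) (.node .leaf (60033, 0, 16, 5885) .leaf)) (60036, 0, 17, 12494) (.node (.node .leaf (60037, 0, 14, 158176) .leaf) (60042, 0, 16, 255447) (.node .leaf (60043, 0, 15, 201747) .leaf))))))

/-- part of the orbit tree -/
def itp1_419 : Tree := (.node (.node (.node (.node (.node (.node .leaf (60047, 0, 17, 92942) .leaf) (60048, 0, 15, 14629) (.node .leaf (60049, 0, 16, 133209) .leaf)) (60052, 0, 9, 149048) (.node (.node .leaf (60053, 0, 16, 7958) .leaf) (60058, 0, 16, 211915) (.node .leaf (60059, 0, 17, 97764) .leaf))) (60062, 0, 18, 83158) (.node (.node (.node .leaf (60063, 0, 15, 83143) .leaf) (60064, 0, 19, 209625) (.node .leaf (60065, 0, 15, 93175) .leaf)) (60068, 0, 18, 238268) (.node (.node .leaf (60069, 0, 11, 213722) .leaf) (60074, 0, 14, 60962) (.node .leaf (60075, 0, 18, 157977) .leaf)))) (60078, 0, 17, 151338) (.node (.node (.node (.node .leaf (60079,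 0, 17, 14183) .leaf) (60080, 0, 16, 123850) (.node .leaf (60081, 0, 17, 66476) .leaf)) (60084, 0, 15, 211762) (.node (.node .leaf (60085, 0, 16, 80527) .leaf) (60090, 0, 17, 169591) (.node .leaf (60091, 0, 15, 8175) .leaf))) (60094, 0, 16, 14812) (.node (.node (.node .leaf (60095, 0, 16, 155890) .leaf) (60096, 0, 15, 260844) (.node .leaf (60097, 0, 16, 20087) .leaf)) (60100, 0, 14, 246735) (.node (.node .leaf (60101, 0, 16, 143722) .leaf) (60106, 0, 17, 71095) (.node .leaf (60107, 0, 12, 216217) .leaf))))) (60110, 0, 15, 46706) (.node (.node (.node (.node (.node .leaf (60111, 0, 15, 78724) .leaf) (60112, 0, 13, 99001) (.node .leaf (60113, 0, 17, 145537) .leaf)) (60116, 0, 16, 138930) (.node (.node .leaf (60117, 0, 15, 18332) .leaf) (60122, 0, 16, 222017) (.node .leaf (60123, 0, 18, 137058) .leaf))) (60126, 0, 17, 183847) (.node (.node (.node .leaf (60127, 0, 16, 214386) .leaf) (60128, 0, 19, 61721) (.node .leaf (60129, 0, 14, 78717) .leaf)) (60132, 0, 19, 70990) (.node (.node .leaf (60133, 0, 15,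 10332) .leaf) (60138, 0, 15, 230564) (.node .leaf (60139, 0, 12, 143763) .leaf)))) (60142, 0, 18, 245127) (.node (.node (.node (.node .leaf (60143, 0, 18, 220641) .leaf) (60144, 0, 12, 72869) (.node .leaf (60145, 0, 16, 214411) .leaf)) (60148, 0, 17, 222136) (.node (.node .leaf (60149, 0, 17, 80534) .leaf) (60154, 0, 16, 130289) (.node .leaf (60155, 0, 18, 72855) .leaf))) (60158, 0, 16, 24918) (.node (.node (.node .leaf (60159, 0, 17, 75188) .leaf) (60160, 0, 17, 107796) (.node .leaf (60161, 0, 16, 83314) .leaf)) (60164, 0, 15, 105527) (.node (.node .leaf (60165, 0, 15, 81514) .leaf) (60170, 0, 17, 137911) (.node .leaf (60171, 0, 16, 143567) .leaf))))))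

/-- part of the orbit tree -/
def itp1_420 : Tree := (.node (.node (.node (.node (.node (.node .leaf (60175, 0, 17, 146564) .leaf) (60176, 0, 17, 253249) (.node .leaf (60177, 0, 13, 212263) .leaf)) (60180, 0, 14, 255074) (.node (.node .leaf (60181, 0, 17, 197636) .leaf) (60186, 0, 16, 27713) (.node .leaf (60187, 0, 17, 144751) .leaf))) (60190, 0, 13, 136028) (.node (.node (.node .leaf (60191, 0, 16, 29113) .leaf) (60192, 0, 17, 25939) (.node .leaf (60193, 0, 16, 146557) .leaf)) (60196, 0, 17, 169922) (.node (.node .leaf (60197, 0, 17, 161700) .leaf) (60202, 0, 15, 223165) (.node .leaf (60203, 0, 11, 80698) .leaf)))) (60206, 0, 16, 71840) (.node (.node (.node (.node .leaf (60207, 0, 15, 213390) .leaf) (60208, 0, 13, 136101) (.node .leaf (60209, 0, 16, 14034) .leaf)) (60212, 0, 17, 27832) (.node (.node .leaf (60213, 0, 16, 144790) .leaf) (60218, 0, 16, 238345) (.node .leaf (60219, 0, 16, 213871) .leaf))) (60222, 0, 16, 236074) (.node (.node (.node .leaf (60223, 0, 16, 227916) .leaf) (60224, 0, 16,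 82131) (.node .leaf (60225, 0, 16, 203261) .leaf)) (60228, 0, 15, 194225) (.node (.node .leaf (60229, 0, 18, 136919) .leaf) (60234, 0, 15, 113199) (.node .leaf (60235, 0, 18, 88649) .leaf))))) (60238, 0, 17, 99084) (.node (.node (.node (.node (.node .leaf (60239, 0, 15, 90986) .leaf) (60240, 0, 16, 47047) (.node .leaf (60241, 0, 17, 22433) .leaf)) (60244, 0, 15, 36580) (.node (.node .leaf (60245, 0, 13, 200726) .leaf) (60250, 0, 18, 246394) (.node .leaf (60251, 0, 15, 159205) .leaf))) (60254, 0, 14, 150486) (.node (.node (.node .leaf (60255, 0, 17, 203583) .leaf) (60256, 0, 16, 15833) (.node .leaf (60257, 0, 15, 156919) .leaf)) (60260, 0, 15, 130372) (.node (.node .leaf (60261, 0, 15, 72994) .leaf) (60266, 0, 11, 176602) (.node .leaf (60267, 0, 17, 91673) .leaf)))) (60270, 0, 17, 166137) (.node (.node (.node (.node .leaf (60271, 0, 16, 203012) .leaf) (60272, 0, 17, 150319) (.node .leaf (60273, 0, 16, 220244) .leaf)) (60276, 0, 17, 230673) (.node (.node .leaf (60277, 0, 17, 222583) .leaf) (60282, 0,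 16, 51599) (.node .leaf (60283, 0, 13, 10729) .leaf))) (60286, 0, 17, 210652) (.node (.node (.node .leaf (60287, 0, 15, 4298) .leaf) (60290, 0, 13, 156219) (.node .leaf (60291, 0, 16, 203116) .leaf)) (60294, 0, 16, 154392) (.node (.node .leaf (60295, 0, 16, 179070) .leaf) (60296, 0, 16, 148140) .leaf)))))

/-- part of the orbit tree -/
def itp1_421 : Tree := (.node itp1_417 (59916, 0, 14, 223803) itp1_418)

/-- part of the orbit tree -/
def itp1_422 : Tree := (.node itp1_419 (60174, 0, 15, 26026) itp1_420)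

/-- part of the orbit tree -/
def itp1_423 : Tree := (.node itp1_415 (59532, 0, 17, 57214) itp1_416)

/-- part of the orbit tree -/
def itp1_424 : Tree := (.node itp1_421 (60046, 0, 15, 253172) itp1_422)

/-- part of the orbit tree -/
def itp1_425 : Tree := (.node (.node (.node (.node (.node (.node .leaf (60300, 0, 17, 15793) .leaf) (60301, 0, 19, 118467) (.node .leaf (60306, 0, 16, 210612) .leaf)) (60307, 0, 13, 94106) (.node (.node .leaf (60310, 0, 17, 9037) .leaf) (60311, 0, 16, 49963) (.node .leaf (60312, 0, 18, 13402) .leaf))) (60313, 0, 17, 159092) (.node (.node (.node .leaf (60316, 0, 13, 150343) .leaf) (60317, 0, 16, 243350) (.node .leaf (60322, 0, 17, 15688) .leaf)) (60323, 0, 19, 156774) (.node (.node .leaf (60326, 0, 16, 148053) .leaf) (60327, 0, 17, 7035) (.node .leaf (60328, 0, 16, 138355) .leaf)))) (60329, 0, 12, 195605) (.node (.node (.node (.node .leaf (60332, 0, 16, 82107) .leaf) (60333, 0, 14, 181558) (.node .leaf (60338, 0, 16, 201115) .leaf)) (60339, 0, 11, 258557) (.node (.node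 .leaf (60342, 0, 15, 207032) .leaf) (60343, 0, 16, 159117) (.node .leaf (60344, 0, 15, 25638) .leaf))) (60345, 0, 16, 200830) (.node (.node (.node .leaf (60348, 0, 17, 23813) .leaf) (60349, 0, 15, 94051) (.node .leaf (60354, 0, 15, 67773) .leaf)) (60355, 0, 13, 125147) (.node (.node .leaf (60358, 0, 15, 223189) .leaf) (60359, 0, 16, 119288) (.node .leaf (60360, 0, 17, 163072) .leaf))))) (60361, 0, 16, 17160) (.node (.node (.node (.node (.node .leaf (60364, 0, 17, 148515) .leaf) (60365, 0, 15, 146453) (.node .leaf (60370, 0, 17, 224830) .leaf)) (60371, 0, 14, 79632) (.node (.node .leaf (60374, 0, 10, 69923) .leaf) (60375, 0, 15, 240045) (.node .leaf (60376, 0, 15, 1365) .leaf))) (60377, 0, 12, 58675) (.node (.node (.node .leaf (60380, 0, 13, 15478) .leaf) (60381, 0, 17, 56336) (.node .leaf (60386, 0, 18, 131912) .leaf)) (60387, 0, 14, 189230) (.node (.node .leaf (60390, 0, 17, 146027) .leaf) (60391, 0, 14, 186893) (.node .leaf (60392, 0, 15, 223020) .leaf)))) (60393, 0, 15, 104083) (.node (.node (.node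 (.node .leaf (60396, 0, 15, 71729) .leaf) (60397, 0, 17, 213279) (.node .leaf (60402, 0, 15, 135988) .leaf)) (60403, 0, 16, 39803) (.node (.node .leaf (60406, 0, 14, 27689) .leaf) (60407, 0, 16, 144647) (.node .leaf (60408, 0, 18, 200352) .leaf))) (60409, 0, 16, 257734) (.node (.node (.node .leaf (60412, 0, 16, 224967) .leaf) (60413, 0, 17, 251877) (.node .leaf (60417, 0, 18, 250334) .leaf)) (60419, 0, 15, 164347) (.node (.node .leaf (60421, 0, 16, 184657) .leaf) (60423, 0, 16, 178392) (.node .leaf (60424, 0, 16, 70688) .leaf))))))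

/-- part of the orbit tree -/
def itp1_426 : Tree := (.node (.node (.node (.node (.node (.node .leaf (60428, 0, 16, 25315) .leaf) (60430, 0, 16, 232081) (.node .leaf (60433, 0, 17, 186554) .leaf)) (60435, 0, 16, 78024) (.node (.node .leaf (60437, 0, 17, 42919) .leaf) (60439, 0, 16, 217045) (.node .leaf (60440, 0, 18, 224373) .leaf))) (60442, 0, 16, 230266) (.node (.node (.node .leaf (60444, 0, 17, 218454) .leaf) (60446, 0, 16, 132467) (.node .leaf (60449, 0, 16, 55851) .leaf)) (60451, 0, 13, 146228) (.node (.node .leaf (60453, 0, 18, 58120) .leaf) (60455, 0, 17, 111405) (.node .leaf (60456, 0, 17, 221428) .leaf)))) (60458, 0, 14, 217072) (.node (.node (.node (.node .leaf (60460, 0, 16, 73705) .leaf) (60462, 0, 17, 227027) (.node .leaf (60465, 0, 15, 172670) .leaf)) (60467, 0, 13, 258651) (.node (.node .leaf (60469, 0, 17, 170845) .leaf) (60471, 0, 17, 144095) (.node .leaf (60472, 0, 16, 26496) .leaf))) (60474, 0, 15, 196208) (.node (.node (.node .leaf (60476, 0, 14, 24227) .leaf) (60478, 0, 14, 69254)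 (.node .leaf (60481, 0, 17, 63174) .leaf)) (60483, 0, 17, 204468) (.node (.node .leaf (60485, 0, 18, 33403) .leaf) (60487, 0, 18, 119390) (.node .leaf (60488, 0, 15, 148852) .leaf))))) (60490, 0, 9, 109830) (.node (.node (.node (.node (.node .leaf (60492, 0, 16, 14953) .leaf) (60494, 0, 17, 202656) (.node .leaf (60497, 0, 18, 163888) .leaf)) (60499, 0, 8, 234280) (.node (.node .leaf (60501, 0, 17, 195118) .leaf) (60503, 0, 18, 240139) (.node .leaf (60504, 0, 16, 13186) .leaf))) (60506, 0, 17, 87766) (.node (.node (.node .leaf (60508, 0, 18, 150687) .leaf) (60510, 0, 17, 94197) (.node .leaf (60513, 0, 17, 241837) .leaf)) (60515, 0, 18, 188552) (.node (.node .leaf (60517, 0, 15, 231822) .leaf) (60519, 0, 15, 186795) (.node .leaf (60520, 0, 18, 95571) .leaf)))) (60522, 0, 15, 9590) (.node (.node (.node (.node .leaf (60524, 0, 17, 83811) .leaf) (60526, 0, 17, 175889) (.node .leaf (60529, 0, 16, 116984) .leaf)) (60531, 0, 15, 5448) (.node (.node .leaf (60533, 0, 15, 127451) .leaf) (60535, 0, 15, 41470)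 (.node .leaf (60536, 0, 17, 199942) .leaf))) (60538, 0, 16, 154915) (.node (.node (.node .leaf (60540, 0, 14, 209301) .leaf) (60542, 0, 15, 55783) (.node .leaf (60544, 0, 14, 108210) .leaf)) (60546, 0, 16, 63127) (.node (.node .leaf (60548, 0, 15, 106385) .leaf) (60550, 0, 16, 53172) (.node .leaf (60553, 0, 17, 222028) .leaf))))))

/-- part of the orbit tree -/
def itp1_427 : Tree := (.node (.node (.node (.node (.node (.node .leaf (60557, 0, 15, 219759) .leaf) (60559, 0, 12, 133706) (.node .leaf (60560, 0, 15, 253671) .leaf)) (60562, 0, 14, 55695) (.node (.node .leaf (60564, 0, 13, 85728) .leaf) (60566, 0, 15, 173714) (.node .leaf (60569, 0, 13, 98895) .leaf))) (60571, 0, 14, 158269) (.node (.node (.node .leaf (60573, 0, 16, 261458) .leaf) (60575, 0, 18, 29215) (.node .leaf (60576, 0, 17, 14849) .leaf)) (60578, 0, 15, 261474) (.node (.node .leaf (60580, 0, 16, 169060) .leaf) (60582, 0, 16, 246849) (.node .leaf (60585, 0, 16, 166323) .leaf)))) (60587, 0, 17, 80028) (.node (.node (.node (.node .leaf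 (60589, 0, 16, 20890) .leaf) (60591, 0, 13, 65983) (.node .leaf (60592, 0, 14, 150775) .leaf)) (60594, 0, 15, 99639) (.node (.node .leaf (60596, 0, 13, 13290) .leaf) (60598, 0, 16, 252824) (.node .leaf (60601, 0, 16, 65349) .leaf))) (60603, 0, 15, 213193) (.node (.node (.node .leaf (60605, 0, 16, 163928) .leaf) (60607, 0, 18, 92202) (.node .leaf (60608, 0, 10, 73601) .leaf)) (60610, 0, 17, 194547) (.node (.node .leaf (60612, 0, 17, 193815) .leaf) (60614, 0, 12, 238898) (.node .leaf (60617, 0, 14, 240691) .leaf))))) (60619, 0, 14, 88559) (.node (.node (.node (.node (.node .leaf (60621, 0, 12, 12521) .leaf) (60623, 0, 12, 146268) (.node .leaf (60624, 0, 18, 46177) .leaf)) (60626, 0, 17, 33029) (.node (.node .leaf (60628, 0, 17, 71274) .leaf) (60630, 0, 17, 196120) (.node .leaf (60633, 0, 15, 121541) .leaf))) (60635, 0, 16, 144055) (.node (.node (.node .leaf (60637, 0, 17, 149692) .leaf) (60639, 0, 18, 202905) (.node .leaf (60640, 0, 17, 25227) .leaf)) (60642, 0, 14, 232185) (.node (.node .leaf (60644,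 0, 18, 138646) .leaf) (60646, 0, 16, 44743) (.node .leaf (60649, 0, 14, 184633) .leaf)))) (60651, 0, 18, 80203) (.node (.node (.node (.node .leaf (60653, 0, 18, 44580) .leaf) (60655, 0, 15, 214614) (.node .leaf (60656, 0, 13, 245652) .leaf)) (60658, 0, 14, 130063) (.node (.node .leaf (60660, 0, 15, 231095) .leaf) (60662, 0, 15, 186002) (.node .leaf (60665, 0, 16, 42959) .leaf))) (60667, 0, 16, 10831) (.node (.node (.node .leaf (60669, 0, 17, 186578) .leaf) (60671, 0, 15, 77984) (.node .leaf (60672, 0, 18, 135297) .leaf)) (60674, 0, 17, 129267) (.node (.node .leaf (60676, 0, 10, 28572) .leaf) (60678, 0, 17, 129738) (.node .leaf (60681, 0, 17, 41779) .leaf))))))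

/-- part of the orbit tree -/
def itp1_428 : Tree := (.node (.node (.node (.node (.node (.node .leaf (60685, 0, 17, 187438) .leaf) (60687, 0, 17, 78940) (.node .leaf (60688, 0, 17, 191385) .leaf)) (60690, 0, 16, 244668) (.node (.node .leaf (60692, 0, 16, 185018) .leaf) (60694, 0, 15, 230047) (.node .leaf (60697, 0, 13, 185797) .leaf))) (60699, 0, 17, 81335) (.node (.node (.node .leaf (60701, 0, 15, 43736) .leaf) (60703, 0, 15, 83809) (.node .leaf (60704, 0, 17, 224651) .leaf)) (60706, 0, 18, 182300) (.node (.node .leaf (60708, 0, 18, 70294) .leaf) (60710, 0, 14, 195300) (.node .leaf (60713, 0, 15, 89543) .leaf)))) (60715, 0, 16, 144971) (.node (.node (.node (.node .leaf (60717, 0, 17, 237860) .leaf) (60719, 0, 16, 13505) (.node .leaf (60720, 0, 18, 122988) .leaf)) (60722, 0, 17, 45129) (.node (.node .leaf (60724, 0, 15, 121167) .leaf) (60726, 0, 17, 35178) (.node .leaf (60729, 0, 16, 239823) .leaf))) (60731, 0, 18, 161207) (.node (.node (.node .leaf (60733, 0, 12, 203953) .leaf) (60735, 0, 16, 150676)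 (.node .leaf (60736, 0, 18, 260426) .leaf)) (60738, 0, 18, 174447) (.node (.node .leaf (60740, 0, 14, 14102) .leaf) (60742, 0, 18, 168012) (.node .leaf (60745, 0, 17, 81076) .leaf))))) (60747, 0, 19, 201675) (.node (.node (.node (.node (.node .leaf (60749, 0, 16, 66967) .leaf) (60751, 0, 17, 93398) (.node .leaf (60752, 0, 14, 16125) .leaf)) (60754, 0, 16, 251535) (.node (.node .leaf (60756, 0, 15, 147936) .leaf) (60758, 0, 18, 108946) (.node .leaf (60761, 0, 18, 167247) .leaf))) (60763, 0, 17, 91453) (.node (.node (.node .leaf (60765, 0, 17, 228802) .leaf) (60767, 0, 17, 203296) (.node .leaf (60768, 0, 16, 62143) .leaf)) (60770, 0, 15, 107162) (.node (.node .leaf (60772, 0, 18, 52124) .leaf) (60774, 0, 14, 172654) (.node .leaf (60777, 0, 16, 145217) .leaf)))) (60779, 0, 15, 223076) (.node (.node (.node (.node .leaf (60781, 0, 16, 260526) .leaf) (60783, 0, 17, 220743) (.node .leaf (60784, 0, 17, 166634) .leaf)) (60786, 0, 15, 252623) (.node (.node .leaf (60788, 0, 16, 177097) .leaf) (60790, 0, 17,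 54424) (.node .leaf (60793, 0, 16, 20244) .leaf))) (60795, 0, 15, 73521) (.node (.node (.node .leaf (60797, 0, 14, 30263) .leaf) (60799, 0, 17, 75282) (.node .leaf (60801, 0, 17, 189600) .leaf)) (60803, 0, 17, 4532) (.node (.node .leaf (60805, 0, 15, 187779) .leaf) (60807, 0, 16, 159401) (.node .leaf (60808, 0, 15, 84596) .leaf))))))

/-- part of the orbit tree -/
def itp1_429 : Tree := (.node itp1_425 (60426, 0, 18, 17413) itp1_426)

/-- part of the orbit tree -/
def itp1_430 : Tree := (.node itp1_427 (60683, 0, 14, 215873) itp1_428)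

/-- part of the orbit tree -/
def itp1_431 : Tree := (.node (.node (.node (.node (.node (.node .leaf (60812, 0, 16, 6269) .leaf) (60814, 0, 16, 84056) (.node .leaf (60817, 0, 15, 40181) .leaf)) (60819, 0, 17, 117968) (.node (.node .leaf (60821, 0, 17, 258093) .leaf) (60823, 0, 16, 128499) (.node .leaf (60824, 0, 19, 212098) .leaf))) (60826, 0, 17, 198958) (.node (.node (.node .leaf (60828, 0, 13, 82847) .leaf) (60830, 0, 17, 208909) (.node .leaf (60833, 0, 16, 165068) .leaf)) (60835, 0, 18, 93374) (.node (.node .leaf (60837, 0, 18, 120438) .leaf) (60839, 0, 16, 201635) (.node .leaf (60840, 0, 16, 14206) .leaf)))) (60842, 0, 16, 253708) (.node (.node (.node (.node .leaf (60844, 0, 17, 201608) .leaf) (60846, 0, 14, 106513) (.node .leaf (60849, 0, 17, 62010) .leaf)) (60851, 0, 17, 182053) (.node (.node .leaf (60853, 0, 16, 167207) .leaf) (60855, 0, 17, 91477) (.node .leaf (60856, 0, 14, 86782) .leaf))) (60858, 0, 15, 109050) (.node (.node (.node .leaf (60860, 0, 18, 16021) .leaf) (60862, 0, 8, 15352)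 (.node .leaf (60865, 0, 17, 237900) .leaf)) (60867, 0, 18, 56835) (.node (.node .leaf (60869, 0, 16, 122449) .leaf) (60871, 0, 16, 144931) (.node .leaf (60872, 0, 16, 216024) .leaf))))) (60874, 0, 13, 138237) (.node (.node (.node (.node (.node .leaf (60876, 0, 16, 224739) .leaf) (60878, 0, 14, 139998) (.node .leaf (60881, 0, 10, 120762) .leaf)) (60883, 0, 17, 173654) (.node (.node .leaf (60885, 0, 17, 239783) .leaf) (60887, 0, 14, 171893) (.node .leaf (60888, 0, 17, 78733) .leaf))) (60890, 0, 16, 25512) (.node (.node (.node .leaf (60892, 0, 17, 68270) .leaf) (60894, 0, 14, 23179) (.node .leaf (60897, 0, 17, 165331) .leaf)) (60899, 0, 17, 78900) (.node (.node .leaf (60901, 0, 16, 179440) .leaf) (60903, 0, 17, 257237) (.node .leaf (60904, 0, 15, 28660) .leaf)))) (60906, 0, 13, 69640) (.node (.node (.node (.node .leaf (60908, 0, 12, 135401) .leaf) (60910, 0, 13, 129179) (.node .leaf (60913, 0, 18, 43696) .leaf)) (60915, 0, 16, 213698) (.node (.node .leaf (60917, 0, 16, 185773) .leaf) (60919, 0, 15, 103552)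 (.node .leaf (60920, 0, 15, 137474) .leaf))) (60922, 0, 16, 223325) (.node (.node (.node .leaf (60924, 0, 17, 26143) .leaf) (60926, 0, 17, 233069) (.node .leaf (60928, 0, 17, 204232) .leaf)) (60929, 0, 16, 43872) (.node (.node .leaf (60930, 0, 16, 151021) .leaf) (60931, 0, 16, 213778) (.node .leaf (60932, 0, 17, 36179) .leaf))))))

/-- part of the orbit tree -/
def itp1_432 : Tree := (.node (.node (.node (.node (.node (.node .leaf (60934, 0, 16, 160974) .leaf) (60935, 0, 15, 169128) (.node .leaf (60944, 0, 16, 33976) .leaf)) (60945, 0, 17, 99835) (.node (.node .leaf (60946, 0, 13, 224458) .leaf) (60947, 0, 17, 54750) (.node .leaf (60948, 0, 15, 195493) .leaf))) (60949, 0, 17, 41611) (.node (.node (.node .leaf (60950, 0, 15, 3227) .leaf) (60951, 0, 17, 215801) (.node .leaf (60960, 0, 15, 233284) .leaf)) (60961, 0, 17, 120426) (.node (.node .leaf (60962, 0, 13, 26422) .leaf) (60963, 0, 17, 108158) (.node .leaf (60964, 0, 16, 127065) .leaf)))) (60965, 0, 16, 53112) (.node (.node (.node (.node .leaf (60966,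 0, 16, 98107) .leaf) (60967, 0, 10, 16645) (.node .leaf (60976, 0, 15, 159336) .leaf)) (60977, 0, 15, 167438) (.node (.node .leaf (60978, 0, 14, 135616) .leaf) (60979, 0, 15, 253483) (.node .leaf (60980, 0, 11, 153419) .leaf))) (60981, 0, 16, 122753) (.node (.node (.node .leaf (60982, 0, 17, 28381) .leaf) (60983, 0, 15, 255752) (.node .leaf (60992, 0, 18, 30542) .leaf)) (60993, 0, 16, 38696) (.node (.node .leaf (60994, 0, 13, 75627) .leaf) (60995, 0, 16, 116493) (.node .leaf (60996, 0, 16, 54745) .leaf))))) (60997, 0, 18, 167159) (.node (.node (.node (.node (.node .leaf (60998, 0, 16, 212395) .leaf) (60999, 0, 15, 130606) (.node .leaf (61008, 0, 12, 134939) .leaf)) (61009, 0, 17, 192381) (.node (.node .leaf (61010, 0, 16, 220990) .leaf) (61011, 0, 16, 93550) (.node .leaf (61012, 0, 14, 172847) .leaf))) (61013, 0, 15, 64001) (.node (.node (.node .leaf (61014, 0, 12, 84829) .leaf) (61015, 0, 17, 201331) (.node .leaf (61024, 0, 17, 251854) .leaf)) (61025, 0, 14, 102112) (.node (.node .leaf (61026, 0,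 16, 16316) .leaf) (61027, 0, 14, 157330) (.node .leaf (61028, 0, 15, 108755) .leaf)))) (61029, 0, 11, 258557) (.node (.node (.node (.node .leaf (61030, 0, 15, 147617) .leaf) (61031, 0, 16, 194011) (.node .leaf (61040, 0, 17, 66798) .leaf)) (61041, 0, 14, 124040) (.node (.node .leaf (61042, 0, 13, 21707) .leaf) (61043, 0, 17, 46253) (.node .leaf (61044, 0, 17, 253477) .leaf))) (61045, 0, 15, 122283) (.node (.node (.node .leaf (61046, 0, 16, 28136) .leaf) (61047, 0, 15, 159609) (.node .leaf (61064, 0, 17, 108731) .leaf)) (61065, 0, 17, 216892) (.node (.node .leaf (61066, 0, 15, 147657) .leaf) (61067, 0, 16, 139033) (.node .leaf (61068, 0, 16, 235129) .leaf))))))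

/-- part of the orbit tree -/
def itp1_433 : Tree := (.node (.node (.node (.node (.node (.node .leaf (61070, 0, 16, 16340) .leaf) (61071, 0, 18, 140858) (.node .leaf (61080, 0, 15, 120591) .leaf)) (61081, 0, 15, 79721) (.node (.node .leaf (61082, 0, 16, 13887) .leaf) (61083, 0, 16, 26444) (.node .leaf (61084, 0, 17, 106832) .leaf))) (61085, 0, 17, 69194) (.node (.node (.node .leaf (61086, 0, 14, 149794) .leaf) (61087, 0, 15, 24175) (.node .leaf (61096, 0, 16, 54705) .leaf)) (61097, 0, 15, 17609) (.node (.node .leaf (61098, 0, 18, 128138) .leaf) (61099, 0, 18, 70892) (.node .leaf (61100, 0, 11, 174764) .leaf)))) (61101, 0, 16, 32234) (.node (.node (.node (.node .leaf (61102, 0, 15, 118185) .leaf) (61103, 0, 17, 77263) (.node .leaf (61112, 0, 16, 187642) .leaf)) (61113, 0, 13, 146588) (.node (.node .leaf (61114, 0, 14, 84789) .leaf) (61115, 0, 18, 224441) (.node .leaf (61116, 0, 16, 56410) .leaf))) (61117, 0, 16, 165236) (.node (.node (.node .leaf (61118, 0, 16, 243196) .leaf) (61119, 0, 16, 218522)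 (.node .leaf (61128, 0, 16, 127025) .leaf)) (61129, 0, 18, 9658) (.node (.node .leaf (61130, 0, 14, 137283) .leaf) (61131, 0, 16, 16749) (.node .leaf (61132, 0, 16, 64767) .leaf))))) (61133, 0, 11, 120322) (.node (.node (.node (.node (.node .leaf (61134, 0, 16, 26462) .leaf) (61135, 0, 15, 147056) (.node .leaf (61144, 0, 16, 179593) .leaf)) (61145, 0, 16, 155119) (.node (.node .leaf (61146, 0, 18, 28341) .leaf) (61147, 0, 14, 200138) (.node .leaf (61148, 0, 16, 165034) .leaf))) (61149, 0, 13, 156876) (.node (.node (.node .leaf (61150, 0, 16, 135592) .leaf) (61151, 0, 17, 210153) (.node .leaf (61160, 0, 14, 249385) .leaf)) (61161, 0, 15, 185365) (.node (.node .leaf (61162, 0, 15, 171532) .leaf) (61163, 0, 16, 80999) (.node .leaf (61164, 0, 15, 193062) .leaf)))) (61165, 0, 17, 202604) (.node (.node (.node (.node .leaf (61166, 0, 16, 173871) .leaf) (61167, 0, 13, 149321) (.node .leaf (61176, 0, 18, 195533) .leaf)) (61177, 0, 17, 87578) (.node (.node .leaf (61178, 0, 17, 70591) .leaf) (61179, 0, 15, 215697)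 (.node .leaf (61180, 0, 14, 34000) .leaf))) (61181, 0, 15, 187902) (.node (.node (.node .leaf (61182, 0, 15, 224418) .leaf) (61183, 0, 16, 16156) (.node .leaf (61192, 0, 15, 170532) .leaf)) (61193, 0, 17, 162370) (.node (.node .leaf (61194, 0, 16, 248321) .leaf) (61195, 0, 13, 207463) (.node .leaf (61196, 0, 17, 32812) .leaf))))))

/-- part of the orbit tree -/
def itp1_434 : Tree := (.node (.node (.node (.node (.node (.node .leaf (61198, 0, 17, 258850) .leaf) (61199, 0, 18, 78192) (.node .leaf (61208, 0, 18, 35271) .leaf)) (61209, 0, 17, 535) (.node (.node .leaf (61210, 0, 16, 221621) .leaf) (61211, 0, 15, 80027) (.node .leaf (61212, 0, 12, 194266) .leaf))) (61213, 0, 16, 15156) (.node (.node (.node .leaf (61214, 0, 16, 73384) .leaf) (61215, 0, 19, 214918) (.node .leaf (61224, 0, 17, 102865) .leaf)) (61225, 0, 15, 94647) (.node (.node .leaf (61226, 0, 18, 49652) .leaf) (61227, 0, 15, 144231) (.node .leaf (61228, 0, 15, 130342) .leaf)))) (61229, 0, 16, 84116) (.node (.node (.node (.node .leaf (61230,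 0, 18, 136532) .leaf) (61231, 0, 13, 19578) (.node .leaf (61240, 0, 16, 128205) .leaf)) (61241, 0, 16, 241123) (.node (.node .leaf (61242, 0, 17, 178593) .leaf) (61243, 0, 15, 17809) (.node .leaf (61244, 0, 16, 250023) .leaf))) (61245, 0, 16, 119550) (.node (.node (.node .leaf (61246, 0, 17, 163970) .leaf) (61247, 0, 16, 146060) (.node .leaf (61256, 0, 18, 174011) .leaf)) (61257, 0, 17, 69828) (.node (.node .leaf (61258, 0, 18, 41095) .leaf) (61259, 0, 16, 202471) (.node .leaf (61260, 0, 16, 117121) .leaf))))) (61261, 0, 16, 76263) (.node (.node (.node (.node (.node .leaf (61262, 0, 17, 39332) .leaf) (61263, 0, 15, 92666) (.node .leaf (61272, 0, 15, 53581) .leaf)) (61273, 0, 17, 223377) (.node (.node .leaf (61274, 0, 15, 211263) .leaf) (61275, 0, 15, 90129) (.node .leaf (61276, 0, 15, 242132) .leaf))) (61277, 0, 14, 217522) (.node (.node (.node .leaf (61278, 0, 16, 188913) .leaf) (61279, 0, 15, 131479) (.node .leaf (61288, 0, 17, 195415) .leaf)) (61289, 0, 15, 99231) (.node (.node .leaf (61290, 0,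 14, 12995) .leaf) (61291, 0, 16, 158701) (.node .leaf (61292, 0, 14, 107948) .leaf)))) (61293, 0, 16, 139794) (.node (.node (.node (.node .leaf (61294, 0, 18, 234065) .leaf) (61295, 0, 16, 5360) (.node .leaf (61304, 0, 18, 109639) .leaf)) (61305, 0, 14, 259433) (.node (.node .leaf (61306, 0, 17, 119591) .leaf) (61307, 0, 17, 7451) (.node .leaf (61308, 0, 17, 250714) .leaf))) (61309, 0, 14, 100980) (.node (.node (.node .leaf (61310, 0, 18, 125444) .leaf) (61311, 0, 18, 68194) (.node .leaf (61312, 0, 17, 107972) .leaf)) (61313, 0, 16, 261354) (.node (.node .leaf (61314, 0, 17, 227475) .leaf) (61315, 0, 17, 235765) .leaf)))))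

/-- part of the orbit tree -/
def itp1_435 : Tree := (.node itp1_431 (60933, 0, 18, 246925) itp1_432)

/-- part of the orbit tree -/
def itp1_436 : Tree := (.node itp1_433 (61197, 0, 15, 186626) itp1_434)

/-- part of the orbit tree -/
def itp1_437 : Tree := (.node itp1_429 (60555, 0, 17, 7371) itp1_430)

/-- part of the orbit tree -/
def itp1_438 : Tree := (.node itp1_435 (61069, 0, 17, 102024) itp1_436)

/-- part of the orbit tree -/
def itp1_439 : Tree := (.node itp1_423 (59789, 0, 18, 123571) itp1_424)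

/-- part of the orbit tree -/
def itp1_440 : Tree := (.node itp1_437 (60810, 0, 15, 94587) itp1_438)

/-- part of the orbit tree -/
def itp1_441 : Tree := (.node itp1_409 (58253, 0, 15, 139680) itp1_410)

/-- part of the orbit tree -/
def itp1_442 : Tree := (.node itp1_439 (60297, 0, 17, 128992) itp1_440)

/-- part of the orbit tree -/
def itp1_443 : Tree := (.node (.node (.node (.node (.node (.node .leaf (61317, 0, 15, 99319) .leaf) (61318, 0, 17, 213424) (.node .leaf (61319, 0, 16, 158597) .leaf)) (61328, 0, 17, 250674) (.node (.node .leaf (61329, 0, 11, 45189) .leaf) (61330, 0, 17, 65734) (.node .leaf (61331, 0, 18, 156270) .leaf))) (61332, 0, 16, 27072) (.node (.node (.node .leaf (61333, 0, 6, 259329) .leaf) (61334, 0, 13, 148573) (.node .leaf (61335, 0, 17, 7539) .leaf)) (61344, 0, 18, 74563) (.node (.node .leaf (61345, 0, 14, 164320) .leaf) (61346, 0, 16, 209084) (.node .leaf (61347, 0, 17, 92562) .leaf)))) (61348, 0, 14, 174035) (.node (.node (.node (.node .leaf (61349, 0, 14, 65277) .leaf)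 (61350, 0, 16, 19013) (.node .leaf (61351, 0, 15, 43555) .leaf)) (61360, 0, 16, 175672) (.node (.node .leaf (61361, 0, 16, 63254) .leaf) (61362, 0, 13, 133939) (.node .leaf (61363, 0, 16, 191317) .leaf))) (61364, 0, 16, 221749) (.node (.node (.node .leaf (61365, 0, 17, 165899) .leaf) (61366, 0, 8, 211287) (.node .leaf (61367, 0, 16, 90233) .leaf)) (61376, 0, 15, 82480) (.node (.node .leaf (61377, 0, 16, 238688) .leaf) (61378, 0, 19, 4629) (.node .leaf (61379, 0, 17, 19474) .leaf))))) (61380, 0, 18, 97043) (.node (.node (.node (.node (.node .leaf (61381, 0, 16, 121725) .leaf) (61382, 0, 16, 11062) (.node .leaf (61383, 0, 17, 144143) .leaf)) (61392, 0, 17, 211557) (.node (.node .leaf (61393, 0, 18, 252419) .leaf) (61394, 0, 14, 158272) (.node .leaf (61395, 0, 17, 146148) .leaf))) (61396, 0, 16, 128165) (.node (.node (.node .leaf (61397, 0, 16, 241035) .leaf) (61398, 0, 17, 138455) (.node .leaf (61399, 0, 16, 17913) .leaf)) (61408, 0, 15, 149957) (.node (.node .leaf (61409, 0, 16, 174499) .leaf) (61410,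 0, 17, 223286) (.node .leaf (61411, 0, 17, 260486) .leaf)))) (61412, 0, 12, 159974) (.node (.node (.node (.node .leaf (61413, 0, 16, 42615) .leaf) (61414, 0, 17, 204995) (.node .leaf (61415, 0, 15, 216581) .leaf)) (61424, 0, 15, 12688) (.node (.node .leaf (61425, 0, 16, 44956) .leaf) (61426, 0, 11, 73408) (.node .leaf (61427, 0, 17, 98771) .leaf))) (61428, 0, 13, 2227) (.node (.node (.node .leaf (61429, 0, 18, 184449) .leaf) (61430, 0, 14, 88214) (.node .leaf (61431, 0, 15, 80115) .leaf)) (61440, 0, 11, 28124) (.node (.node .leaf (61443, 0, 18, 61533) .leaf) (61445, 0, 16, 104795) (.node .leaf (61446, 0, 8, 10520) .leaf))))))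

/-- part of the orbit tree -/
def itp1_444 : Tree := (.node (.node (.node (.node (.node (.node .leaf (61451, 0, 13, 185797) .leaf) (61453, 0, 18, 244931) (.node .leaf (61454, 0, 14, 134272) .leaf)) (61456, 0, 16, 138026) (.node (.node .leaf (61459, 0, 17, 165896) .leaf) (61461, 0, 14, 254222) (.node .leaf (61462, 0, 18, 232517) .leaf))) (61464, 0, 16, 73171) (.node (.node (.node .leaf (61467, 0, 14, 44432) .leaf) (61469, 0, 16, 186245) (.node .leaf (61470, 0, 18, 29909) .leaf)) (61472, 0, 14, 69846) (.node (.node .leaf (61475, 0, 18, 41354) .leaf) (61477, 0, 16, 168622) (.node .leaf (61478, 0, 14, 205549) .leaf)))) (61480, 0, 13, 129610) (.node (.node (.node (.node .leaf (61483, 0, 17, 19222) .leaf) (61485, 0, 11, 121977) (.node .leaf (61486, 0, 15, 27941) .leaf)) (61488, 0, 15, 13246) (.node (.node .leaf (61491, 0, 16, 99325) .leaf) (61493, 0, 18, 213011) (.node .leaf (61494, 0, 9, 88760) .leaf))) (61496, 0, 17, 232636) (.node (.node (.node .leaf (61499, 0, 17, 239205) .leaf) (61501, 0, 16, 184163)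 (.node .leaf (61502, 0, 18, 138195) .leaf)) (61504, 0, 14, 141976) (.node (.node .leaf (61507, 0, 16, 236251) .leaf) (61509, 0, 15, 193501) (.node .leaf (61510, 0, 16, 213918) .leaf))))) (61512, 0, 17, 57290) (.node (.node (.node (.node (.node .leaf (61515, 0, 14, 93846) .leaf) (61517, 0, 16, 54853) (.node .leaf (61518, 0, 16, 84133) .leaf)) (61520, 0, 16, 21197) (.node (.node .leaf (61523, 0, 14, 258812) .leaf) (61525, 0, 12, 35720) (.node .leaf (61526, 0, 15, 251087) .leaf))) (61528, 0, 8, 161621) (.node (.node (.node .leaf (61531, 0, 14, 247574) .leaf) (61533, 0, 17, 175632) (.node .leaf (61534, 0, 15, 204371) .leaf)) (61536, 0, 18, 84060) (.node (.node .leaf (61539, 0, 16, 37166) .leaf) (61541, 0, 15, 93807) (.node .leaf (61542, 0, 11, 57139) .leaf)))) (61544, 0, 17, 107200) (.node (.node (.node (.node .leaf (61547, 0, 15, 177334) .leaf) (61549, 0, 18, 99571) (.node .leaf (61550, 0, 12, 159219) .leaf)) (61552, 0, 15, 212650) (.node (.node .leaf (61555, 0, 15, 167926) .leaf) (61557, 0, 18, 202905)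 (.node .leaf (61558, 0, 16, 143422) .leaf))) (61560, 0, 16, 97440) (.node (.node (.node .leaf (61563, 0, 17, 157034) .leaf) (61565, 0, 18, 258565) (.node .leaf (61566, 0, 18, 148313) .leaf)) (61569, 0, 14, 99483) (.node (.node .leaf (61570, 0, 17, 13767) .leaf) (61572, 0, 12, 107176) (.node .leaf (61575, 0, 17, 155252) .leaf))))))

/-- part of the orbit tree -/
def itp1_445 : Tree := (.node (.node (.node (.node (.node (.node .leaf (61578, 0, 13, 57179) .leaf) (61580, 0, 15, 117679) (.node .leaf (61583, 0, 13, 31724) .leaf)) (61585, 0, 10, 258669) (.node (.node .leaf (61586, 0, 18, 65380) .leaf) (61588, 0, 15, 104034) (.node .leaf (61591, 0, 17, 156930) .leaf))) (61593, 0, 14, 202993) (.node (.node (.node .leaf (61594, 0, 16, 187132) .leaf) (61596, 0, 14, 242682) (.node .leaf (61599, 0, 16, 132025) .leaf)) (61601, 0, 16, 63889) (.node (.node .leaf (61602, 0, 17, 101572) .leaf) (61604, 0, 16, 58818) (.node .leaf (61607, 0, 18, 93950) .leaf)))) (61609, 0, 17, 4877) (.node (.node (.node (.node .leaf (61610,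 0, 16, 107089) .leaf) (61612, 0, 17, 180314) (.node .leaf (61615, 0, 15, 99426) .leaf)) (61617, 0, 17, 167783) (.node (.node .leaf (61618, 0, 16, 259217) .leaf) (61620, 0, 16, 174420) (.node .leaf (61623, 0, 15, 208340) .leaf))) (61625, 0, 16, 24906) (.node (.node (.node .leaf (61626, 0, 17, 251047) .leaf) (61628, 0, 16, 148424) (.node .leaf (61631, 0, 18, 258708) .leaf)) (61633, 0, 15, 24052) (.node (.node .leaf (61634, 0, 15, 126391) .leaf) (61636, 0, 15, 33969) (.node .leaf (61639, 0, 17, 79090) .leaf))))) (61641, 0, 17, 79501) (.node (.node (.node (.node (.node .leaf (61642, 0, 16, 247855) .leaf) (61644, 0, 15, 69822) (.node .leaf (61647, 0, 17, 41442) .leaf)) (61649, 0, 14, 240359) (.node (.node .leaf (61650, 0, 17, 138171) .leaf) (61652, 0, 14, 195812) (.node .leaf (61655, 0, 16, 216231) .leaf))) (61657, 0, 16, 57) (.node (.node (.node .leaf (61658, 0, 16, 192807) .leaf) (61660, 0, 16, 222792) (.node .leaf (61663, 0, 16, 92479) .leaf)) (61665, 0, 18, 218625) (.node (.node .leaf (61666, 0, 15,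 190018) .leaf) (61668, 0, 13, 34600) (.node .leaf (61671, 0, 18, 147207) .leaf)))) (61673, 0, 16, 95129) (.node (.node (.node (.node .leaf (61674, 0, 15, 50138) .leaf) (61676, 0, 17, 109276) (.node .leaf (61679, 0, 17, 122088) .leaf)) (61681, 0, 17, 186349) (.node (.node .leaf (61682, 0, 15, 222897) .leaf) (61684, 0, 16, 192990) (.node .leaf (61687, 0, 16, 18258) .leaf))) (61689, 0, 12, 146801) (.node (.node (.node .leaf (61690, 0, 16, 232493) .leaf) (61692, 0, 14, 138050) (.node .leaf (61695, 0, 18, 240158) .leaf)) (61697, 0, 15, 185105) (.node (.node .leaf (61698, 0, 17, 221773) .leaf) (61700, 0, 16, 187209) (.node .leaf (61703, 0, 17, 214142) .leaf))))))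

/-- part of the orbit tree -/
def itp1_446 : Tree := (.node (.node (.node (.node (.node (.node .leaf (61706, 0, 16, 231633) .leaf) (61708, 0, 15, 139198) (.node .leaf (61711, 0, 16, 241378) .leaf)) (61713, 0, 13, 31321) (.node (.node .leaf (61714, 0, 18, 70843) .leaf) (61716, 0, 15, 33748) (.node .leaf (61719, 0, 14, 70495) .leaf))) (61721, 0, 18, 155585) (.node (.node (.node .leaf (61722, 0, 16, 130599) .leaf) (61724, 0, 18, 165508) (.node .leaf (61727, 0, 13, 120852) .leaf)) (61729, 0, 18, 241179) (.node (.node .leaf (61730, 0, 17, 47546) .leaf) (61732, 0, 16, 118972) (.node .leaf (61735, 0, 16, 145780) .leaf)))) (61737, 0, 17, 214151) (.node (.node (.node (.node .leaf (61738, 0, 16, 194011) .leaf) (61740, 0, 15, 259364) (.node .leaf (61743, 0, 17, 185320) .leaf)) (61745, 0, 15, 225708) (.node (.node .leaf (61746, 0, 16, 180719) .leaf) (61748, 0, 17, 239849) (.node .leaf (61751, 0, 17, 137386) .leaf))) (61753, 0, 16, 87092) (.node (.node (.node .leaf (61754, 0, 17, 33581) .leaf) (61756, 0, 15,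 101745) (.node .leaf (61759, 0, 13, 15666) .leaf)) (61761, 0, 14, 92298) (.node (.node .leaf (61762, 0, 18, 211655) .leaf) (61764, 0, 16, 111055) (.node .leaf (61767, 0, 10, 204020) .leaf))))) (61769, 0, 19, 155911) (.node (.node (.node (.node (.node .leaf (61770, 0, 12, 195921) .leaf) (61772, 0, 17, 149300) (.node .leaf (61775, 0, 11, 259688) .leaf)) (61777, 0, 14, 200927) (.node (.node .leaf (61778, 0, 15, 85041) .leaf) (61780, 0, 11, 56158) (.node .leaf (61783, 0, 14, 92674) .leaf))) (61785, 0, 16, 79175) (.node (.node (.node .leaf (61786, 0, 14, 34052) .leaf) (61788, 0, 16, 12738) (.node .leaf (61791, 0, 15, 23617) .leaf)) (61793, 0, 15, 259729) (.node (.node .leaf (61794, 0, 16, 149453) .leaf) (61796, 0, 16, 178746) (.node .leaf (61799, 0, 14, 199289) .leaf)))) (61801, 0, 17, 18151) (.node (.node (.node (.node .leaf (61802, 0, 13, 128676) .leaf) (61804, 0, 17, 211518) (.node .leaf (61807, 0, 14, 166754) .leaf)) (61809, 0, 15, 98407) (.node (.node .leaf (61810, 0, 16, 109417) .leaf) (61812, 0,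 15, 49775) (.node .leaf (61815, 0, 14, 94764) .leaf))) (61817, 0, 15, 92923) (.node (.node (.node .leaf (61818, 0, 16, 56231) .leaf) (61820, 0, 16, 190455) (.node .leaf (61823, 0, 17, 219060) .leaf)) (61824, 0, 14, 211542) (.node (.node .leaf (61827, 0, 14, 116003) .leaf) (61829, 0, 15, 44069) (.node .leaf (61830, 0, 14, 72806) .leaf))))))

/-- part of the orbit tree -/
def itp1_447 : Tree := (.node itp1_443 (61448, 0, 19, 222598) itp1_444)

/-- part of the orbit tree -/
def itp1_448 : Tree := (.node itp1_445 (61705, 0, 17, 145805) itp1_446)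

/-- part of the orbit tree -/
def itp1_449 : Tree := (.node (.node (.node (.node (.node (.node .leaf (61835, 0, 16, 254139) .leaf) (61837, 0, 18, 259833) (.node .leaf (61838, 0, 16, 211454) .leaf)) (61840, 0, 15, 85152) (.node (.node .leaf (61843, 0, 12, 65020) .leaf) (61845, 0, 16, 92819) (.node .leaf (61846, 0, 14, 222259) .leaf))) (61848, 0, 16, 10413) (.node (.node (.node .leaf (61851, 0, 14, 5984) .leaf) (61853, 0, 18, 98319) (.node .leaf (61854, 0, 17, 12627) .leaf)) (61856, 0, 14, 229013) (.node (.node .leaf (61859, 0, 18, 259584) .leaf) (61861, 0, 15, 156015) (.node .leaf (61862, 0, 15, 137107) .leaf)))) (61864, 0, 17, 175552) (.node (.node (.node (.node .leaf (61867, 0, 15, 203932) .leaf) (61869, 0, 11, 166899) (.node .leaf (61870, 0, 14, 211631) .leaf)) (61872, 0, 16, 12714) (.node (.node .leaf (61875, 0, 16, 46723) .leaf) (61877, 0, 14, 122757) (.node .leaf (61878, 0, 18, 108229) .leaf))) (61880, 0, 16, 205656) (.node (.node (.node .leaf (61883, 0, 15, 168731) .leaf) (61885, 0, 14, 260637)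 (.node .leaf (61886, 0, 14, 85081) .leaf)) (61888, 0, 16, 204774) (.node (.node .leaf (61891, 0, 14, 185216) .leaf) (61893, 0, 14, 247459) (.node .leaf (61894, 0, 16, 161504) .leaf))))) (61896, 0, 16, 80510) (.node (.node (.node (.node (.node .leaf (61899, 0, 14, 35389) .leaf) (61901, 0, 15, 123707) (.node .leaf (61902, 0, 14, 139055) .leaf)) (61904, 0, 17, 92083) (.node (.node .leaf (61907, 0, 18, 55280) .leaf) (61909, 0, 13, 78361) (.node .leaf (61910, 0, 17, 33605) .leaf))) (61912, 0, 17, 130742) (.node (.node (.node .leaf (61915, 0, 16, 193128) .leaf) (61917, 0, 18, 120965) (.node .leaf (61918, 0, 15, 27097) .leaf)) (61920, 0, 12, 5139) (.node (.node .leaf (61923, 0, 15, 107600) .leaf) (61925, 0, 18, 52566) (.node .leaf (61926, 0, 15, 231609) .leaf)))) (61928, 0, 18, 193866) (.node (.node (.node (.node .leaf (61931, 0, 13, 214038) .leaf) (61933, 0, 16, 185209) (.node .leaf (61934, 0, 16, 221733) .leaf)) (61936, 0, 17, 158790) (.node (.node .leaf (61939, 0, 15, 120956) .leaf) (61941, 0, 18, 177411)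 (.node .leaf (61942, 0, 16, 197952) .leaf))) (61944, 0, 13, 33724) (.node (.node (.node .leaf (61947, 0, 16, 129437) .leaf) (61949, 0, 17, 37019) (.node .leaf (61950, 0, 17, 70867) .leaf)) (61954, 0, 18, 15435) (.node (.node .leaf (61955, 0, 15, 56365) .leaf) (61956, 0, 17, 137197) (.node .leaf (61957, 0, 14, 20163) .leaf))))))

/-- part of the orbit tree -/
def itp1_450 : Tree := (.node (.node (.node (.node (.node (.node .leaf (61963, 0, 14, 78640) .leaf) (61964, 0, 15, 195953) (.node .leaf (61965, 0, 17, 233651) .leaf)) (61970, 0, 14, 128628) (.node (.node .leaf (61971, 0, 18, 173176) .leaf) (61972, 0, 18, 24859) (.node .leaf (61973, 0, 14, 145461) .leaf))) (61978, 0, 17, 24966) (.node (.node (.node .leaf (61979, 0, 14, 214470) .leaf) (61980, 0, 16, 67712) (.node .leaf (61981, 0, 17, 185001) .leaf)) (61986, 0, 15, 210878) (.node (.node .leaf (61987, 0, 19, 251864) .leaf) (61988, 0, 13, 223975) (.node .leaf (61989, 0, 14, 78793) .leaf)))) (61994, 0, 17, 70182) (.node (.node (.node (.node .leaf (61995,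 0, 14, 127552) .leaf) (61996, 0, 14, 31520) (.node .leaf (61997, 0, 15, 121173) .leaf)) (62002, 0, 17, 35710) (.node (.node .leaf (62003, 0, 11, 184912) .leaf) (62004, 0, 15, 9965) (.node .leaf (62005, 0, 15, 50827) .leaf))) (62010, 0, 16, 223859) (.node (.node (.node .leaf (62011, 0, 16, 231957) .leaf) (62012, 0, 15, 131957) (.node .leaf (62013, 0, 17, 241571) .leaf)) (62018, 0, 15, 218829) (.node (.node .leaf (62019, 0, 16, 98598) .leaf) (62020, 0, 16, 151399) (.node .leaf (62021, 0, 16, 188333) .leaf))))) (62026, 0, 16, 209556) (.node (.node (.node (.node (.node .leaf (62027, 0, 18, 103219) .leaf) (62028, 0, 14, 173563) (.node .leaf (62029, 0, 18, 64053) .leaf)) (62034, 0, 18, 110334) (.node (.node .leaf (62035, 0, 17, 260048) .leaf) (62036, 0, 16, 18334) (.node .leaf (62037, 0, 14, 43000) .leaf))) (62042, 0, 16, 199424) (.node (.node (.node .leaf (62043, 0, 19, 256870) .leaf) (62044, 0, 16, 54029) (.node .leaf (62045, 0, 15, 166435) .leaf)) (62050, 0, 17, 23864) (.node (.node .leaf (62051, 0,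 17, 64556) .leaf) (62052, 0, 16, 209517) (.node .leaf (62053, 0, 16, 119896) .leaf)))) (62058, 0, 13, 151454) (.node (.node (.node (.node .leaf (62059, 0, 14, 5808) .leaf) (62060, 0, 15, 252145) (.node .leaf (62061, 0, 17, 258496) .leaf)) (62066, 0, 15, 54260) (.node (.node .leaf (62067, 0, 17, 166618) .leaf) (62068, 0, 16, 216171) (.node .leaf (62069, 0, 17, 240653) .leaf))) (62074, 0, 15, 245) (.node (.node (.node .leaf (62075, 0, 15, 57491) .leaf) (62076, 0, 15, 92659) (.node .leaf (62077, 0, 16, 259881) .leaf)) (62080, 0, 15, 252057) (.node (.node .leaf (62081, 0, 16, 98743) .leaf) (62086, 0, 16, 168546) (.node .leaf (62087, 0, 17, 5848) .leaf))))))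

/-- part of the orbit tree -/
def itp1_451 : Tree := (.node (.node (.node (.node (.node (.node .leaf (62089, 0, 13, 81562) .leaf) (62094, 0, 15, 47098) (.node .leaf (62095, 0, 17, 22428) .leaf)) (62096, 0, 15, 110191) (.node (.node .leaf (62097, 0, 18, 90967) .leaf) (62102, 0, 15, 14592) (.node .leaf (62103, 0, 13, 2641) .leaf))) (62104, 0, 17, 83187) (.node (.node (.node .leaf (62105, 0, 18, 204253) .leaf) (62110, 0, 17, 184239) (.node .leaf (62111, 0, 18, 166578) .leaf)) (62112, 0, 11, 61585) (.node (.node .leaf (62113, 0, 17, 4343) .leaf) (62118, 0, 18, 209660) (.node .leaf (62119, 0, 14, 96753) .leaf)))) (62120, 0, 17, 151311) (.node (.node (.node (.node .leaf (62121, 0, 17, 144751) .leaf) (62126, 0, 18, 244751) (.node .leaf (62127, 0, 15, 98638) .leaf)) (62128, 0, 15, 54117) (.node (.node .leaf (62129, 0, 13, 166475) .leaf) (62134, 0, 16, 254402) (.node .leaf (62135, 0, 14, 204068) .leaf))) (62136, 0, 18, 44380) (.node (.node (.node .leaf (62137, 0, 17, 155863) .leaf) (62142, 0, 12, 115802)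 (.node .leaf (62143, 0, 15, 74812) .leaf)) (62144, 0, 18, 229395) (.node (.node .leaf (62145, 0, 15, 121149) .leaf) (62150, 0, 16, 137084) (.node .leaf (62151, 0, 12, 71810) .leaf))))) (62152, 0, 16, 223887) (.node (.node (.node (.node (.node .leaf (62153, 0, 15, 78753) .leaf) (62158, 0, 16, 196064) (.node .leaf (62159, 0, 13, 212250) .leaf)) (62160, 0, 13, 190903) (.node (.node .leaf (62161, 0, 17, 241611) .leaf) (62166, 0, 10, 24970) (.node .leaf (62167, 0, 13, 221399) .leaf))) (62168, 0, 17, 52271) (.node (.node (.node .leaf (62169, 0, 18, 11337) .leaf) (62174, 0, 17, 35606) (.node .leaf (62175, 0, 16, 83279) .leaf)) (62176, 0, 17, 236055) (.node (.node .leaf (62177, 0, 18, 227953) .leaf) (62182, 0, 18, 223862) (.node .leaf (62183, 0, 16, 78680) .leaf)))) (62184, 0, 15, 114575) (.node (.node (.node (.node .leaf (62185, 0, 15, 20139) .leaf) (62190, 0, 18, 229610) (.node .leaf (62191, 0, 16, 121284) .leaf)) (62192, 0, 14, 123458) (.node (.node .leaf (62193, 0, 17, 185025) .leaf) (62198, 0, 16, 72832)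 (.node .leaf (62199, 0, 15, 214446) .leaf))) (62200, 0, 15, 247770) (.node (.node (.node .leaf (62201, 0, 17, 206780) .leaf) (62206, 0, 15, 128540) (.node .leaf (62207, 0, 15, 151226) .leaf)) (62208, 0, 16, 183834) (.node (.node .leaf (62209, 0, 15, 142972) .leaf) (62214, 0, 17, 239388) (.node .leaf (62215, 0, 16, 214906) .leaf))))))

/-- part of the orbit tree -/
def itp1_452 : Tree := (.node (.node (.node (.node (.node (.node .leaf (62217, 0, 15, 146593) .leaf) (62222, 0, 19, 98948) (.node .leaf (62223, 0, 15, 90850) .leaf)) (62224, 0, 14, 195045) (.node (.node .leaf (62225, 0, 18, 41163) .leaf) (62230, 0, 15, 224906) (.node .leaf (62231, 0, 15, 79780) .leaf))) (62232, 0, 14, 168919) (.node (.node (.node .leaf (62233, 0, 9, 19031) .leaf) (62238, 0, 17, 260817) (.node .leaf (62239, 0, 17, 122168) .leaf)) (62240, 0, 17, 116207) (.node (.node .leaf (62241, 0, 17, 75145) .leaf) (62246, 0, 17, 25974) (.node .leaf (62247, 0, 17, 19599) .leaf)))) (62248, 0, 16, 254071) (.node (.node (.node (.node .leaf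 (62249, 0, 16, 213419) .leaf) (62254, 0, 15, 36842) (.node .leaf (62255, 0, 18, 157975) .leaf)) (62256, 0, 14, 230639) (.node (.node .leaf (62257, 0, 14, 122305) .leaf) (62262, 0, 16, 136064) (.node .leaf (62263, 0, 15, 19118) .leaf))) (62264, 0, 17, 224883) (.node (.node (.node .leaf (62265, 0, 16, 96324) .leaf) (62270, 0, 14, 194844) (.node .leaf (62271, 0, 11, 41010) .leaf)) (62272, 0, 17, 107676) (.node (.node .leaf (62273, 0, 16, 167607) .leaf) (62278, 0, 15, 82166) (.node .leaf (62279, 0, 17, 11772) .leaf))))) (62280, 0, 19, 229636) (.node (.node (.node (.node (.node .leaf (62281, 0, 12, 156715) .leaf) (62286, 0, 15, 190466) (.node .leaf (62287, 0, 17, 258884) .leaf)) (62288, 0, 12, 253129) (.node (.node .leaf (62289, 0, 16, 63553) .leaf) (62294, 0, 14, 210432) (.node .leaf (62295, 0, 14, 93998) .leaf))) (62296, 0, 16, 129361) (.node (.node (.node .leaf (62297, 0, 11, 4829) .leaf) (62302, 0, 18, 36951) (.node .leaf (62303, 0, 18, 28721) .leaf)) (62304, 0, 15, 175977) (.node (.node .leaf (62305,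 0, 17, 151311) .leaf) (62310, 0, 17, 15868) (.node .leaf (62311, 0, 15, 156882) .leaf)))) (62312, 0, 17, 81935) (.node (.node (.node (.node .leaf (62313, 0, 17, 203041) .leaf) (62318, 0, 15, 55136) (.node .leaf (62319, 0, 14, 66449) .leaf)) (62320, 0, 14, 55100) (.node (.node .leaf (62321, 0, 17, 99659) .leaf) (62326, 0, 11, 114234) (.node .leaf (62327, 0, 17, 4644) .leaf))) (62328, 0, 16, 193188) (.node (.node (.node .leaf (62329, 0, 16, 135874) .leaf) (62334, 0, 14, 236450) (.node .leaf (62335, 0, 10, 228292) .leaf)) (62338, 0, 16, 67893) (.node (.node .leaf (62339, 0, 11, 167462) .leaf) (62340, 0, 15, 82023) .leaf)))))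

/-- part of the orbit tree -/
def itp1_453 : Tree := (.node itp1_449 (61962, 0, 15, 137683) itp1_450)

/-- part of the orbit tree -/
def itp1_454 : Tree := (.node itp1_451 (62216, 0, 14, 60290) itp1_452)

/-- part of the orbit tree -/
def itp1_455 : Tree := (.node itp1_447 (61577, 0, 15, 93703) itp1_448)

/-- part of the orbit tree -/
def itp1_456 : Tree := (.node itp1_453 (62088, 0, 16, 209413) itp1_454)

/-- part of the orbit tree -/
def itp1_457 : Tree := (.node (.node (.node (.node (.node (.node .leaf (62346, 0, 17, 15764) .leaf) (62347, 0, 15, 156858) (.node .leaf (62348, 0, 15, 148907) .leaf)) (62349, 0, 16, 173517) (.node (.node .leaf (62354, 0, 13, 225632) .leaf) (62355, 0, 10, 63696) (.node .leaf (62356, 0, 18, 137318) .leaf))) (62357, 0, 13, 94143) (.node (.node (.node .leaf (62362, 0, 16, 87288) .leaf) (62363, 0, 17, 4684) (.node .leaf (62364, 0, 15, 252941) .leaf)) (62365, 0, 17, 56728) (.node (.node .leaf (62370, 0, 11, 109058) .leaf) (62371, 0, 16, 258860) (.node .leaf (62372, 0, 14,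 224198) .leaf)))) (62373, 0, 12, 232352) (.node (.node (.node (.node .leaf (62378, 0, 14, 10072) .leaf) (62379, 0, 14, 51006) (.node .leaf (62380, 0, 19, 55281) .leaf)) (62381, 0, 14, 167647) (.node (.node .leaf (62386, 0, 14, 31381) .leaf) (62387, 0, 15, 99802) (.node .leaf (62388, 0, 18, 150427) .leaf))) (62389, 0, 17, 4789) (.node (.node (.node .leaf (62394, 0, 17, 155405) .leaf) (62395, 0, 17, 94022) (.node .leaf (62396, 0, 17, 210443) .leaf)) (62397, 0, 15, 63529) (.node (.node .leaf (62402, 0, 16, 156595) .leaf) (62403, 0, 18, 164821) (.node .leaf (62404, 0, 16, 71917) .leaf))))) (62405, 0, 12, 213443) (.node (.node (.node (.node (.node .leaf (62410, 0, 15, 25886) .leaf) (62411, 0, 18, 42573) (.node .leaf (62412, 0, 13, 127601) .leaf)) (62413, 0, 17, 240479) (.node (.node .leaf (62418, 0, 12, 7142) .leaf) (62419, 0, 17, 41050) (.node .leaf (62420, 0, 14, 224795) .leaf))) (62421, 0, 9, 79669) (.node (.node (.node .leaf (62426, 0, 13, 147070) .leaf) (62427, 0, 16, 19142) (.node .leaf (62428, 0,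 12, 219000) .leaf)) (62429, 0, 16, 243486) (.node (.node .leaf (62434, 0, 16, 92230) .leaf) (62435, 0, 15, 100384) (.node .leaf (62436, 0, 16, 320) .leaf)))) (62437, 0, 17, 146633) (.node (.node (.node (.node .leaf (62442, 0, 15, 216542) .leaf) (62443, 0, 17, 213306) (.node .leaf (62444, 0, 16, 36731) .leaf)) (62445, 0, 15, 185941) (.node (.node .leaf (62450, 0, 17, 230526) .leaf) (62451, 0, 17, 122192) (.node .leaf (62452, 0, 14, 162069) .leaf))) (62453, 0, 11, 19007) (.node (.node (.node .leaf (62458, 0, 15, 224994) .leaf) (62459, 0, 15, 120301) (.node .leaf (62460, 0, 18, 194957) .leaf)) (62461, 0, 19, 48363) (.node (.node .leaf (62465, 0, 16, 80134) .leaf) (62467, 0, 17, 125685) (.node .leaf (62468, 0, 17, 25493) .leaf))))))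

/-- part of the orbit tree -/
def itp1_458 : Tree := (.node (.node (.node (.node (.node (.node .leaf (62473, 0, 16, 171848) .leaf) (62475, 0, 12, 249709) (.node .leaf (62476, 0, 17, 128425) .leaf)) (62478, 0, 15, 202280) (.node (.node .leaf (62481, 0, 14, 217072) .leaf) (62483, 0, 19, 42882) (.node .leaf (62484, 0, 17, 138176) .leaf))) (62486, 0, 13, 216037) (.node (.node (.node .leaf (62489, 0, 14, 59165) .leaf) (62491, 0, 15, 112440) (.node .leaf (62492, 0, 15, 15960) .leaf)) (62494, 0, 15, 27437) (.node (.node .leaf (62497, 0, 13, 241957) .leaf) (62499, 0, 15, 240766) (.node .leaf (62500, 0, 15, 223328) .leaf)))) (62502, 0, 14, 232013) (.node (.node (.node (.node .leaf (62505, 0, 18, 44688) .leaf) (62507, 0, 17, 214754) (.node .leaf (62508, 0, 19, 85496) .leaf)) (62510, 0, 18, 7645) (.node (.node .leaf (62513, 0, 13, 117104) .leaf) (62515, 0, 16, 121480) (.node .leaf (62516, 0, 16, 69685) .leaf))) (62518, 0, 16, 130235) (.node (.node (.node .leaf (62521, 0, 15, 257256) .leaf) (62523, 0, 17, 77844)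 (.node .leaf (62524, 0, 15, 210349) .leaf)) (62526, 0, 18, 157064) (.node (.node .leaf (62529, 0, 13, 90508) .leaf) (62531, 0, 18, 166398) (.node .leaf (62532, 0, 12, 198931) .leaf))))) (62534, 0, 15, 153910) (.node (.node (.node (.node (.node .leaf (62537, 0, 16, 101136) .leaf) (62539, 0, 17, 156514) (.node .leaf (62540, 0, 16, 76939) .leaf)) (62542, 0, 17, 31918) (.node (.node .leaf (62545, 0, 16, 108547) .leaf) (62547, 0, 17, 63526) (.node .leaf (62548, 0, 18, 94534) .leaf))) (62550, 0, 13, 55611) (.node (.node (.node .leaf (62553, 0, 16, 261606) .leaf) (62555, 0, 11, 5524) (.node .leaf (62556, 0, 17, 218334) .leaf)) (62558, 0, 17, 13223) (.node (.node .leaf (62561, 0, 17, 7302) .leaf) (62563, 0, 17, 101254) (.node .leaf (62564, 0, 13, 15029) .leaf)))) (62566, 0, 16, 250567) (.node (.node (.node (.node .leaf (62569, 0, 14, 63002) .leaf) (62571, 0, 14, 241182) (.node .leaf (62572, 0, 15, 141182) .leaf)) (62574, 0, 17, 211035) (.node (.node .leaf (62577, 0, 16, 158320) .leaf) (62579, 0, 17, 259027)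 (.node .leaf (62580, 0, 16, 150595) .leaf))) (62582, 0, 14, 107569) (.node (.node (.node .leaf (62585, 0, 17, 164076) .leaf) (62587, 0, 15, 120395) (.node .leaf (62588, 0, 17, 173791) .leaf)) (62590, 0, 15, 69390) (.node (.node .leaf (62592, 0, 16, 53313) .leaf) (62594, 0, 15, 210995) (.node .leaf (62597, 0, 15, 63090) .leaf))))))

/-- part of the orbit tree -/
def itp1_459 : Tree := (.node (.node (.node (.node (.node (.node .leaf (62600, 0, 15, 59428) .leaf) (62602, 0, 17, 112641) (.node .leaf (62605, 0, 10, 12641) .leaf)) (62607, 0, 13, 259228) (.node (.node .leaf (62608, 0, 10, 46569) .leaf) (62610, 0, 17, 85701) (.node .leaf (62613, 0, 16, 163972) .leaf))) (62615, 0, 16, 81033) (.node (.node (.node .leaf (62616, 0, 16, 168049) .leaf) (62618, 0, 16, 245844) (.node .leaf (62621, 0, 11, 158232) .leaf)) (62623, 0, 17, 203025) (.node (.node .leaf (62624, 0, 17, 116297) .leaf) (62626, 0, 13, 38508) (.node .leaf (62629, 0, 14, 73484) .leaf)))) (62631, 0, 17, 156426) (.node (.node (.node (.node .leaf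 (62632, 0, 17, 83927) .leaf) (62634, 0, 13, 177140) (.node .leaf (62637, 0, 17, 211604) .leaf)) (62639, 0, 16, 158385) (.node (.node .leaf (62640, 0, 16, 252861) .leaf) (62642, 0, 15, 13263) (.node .leaf (62645, 0, 11, 223065) .leaf))) (62647, 0, 18, 145276) (.node (.node (.node .leaf (62648, 0, 18, 209185) .leaf) (62650, 0, 17, 55635) (.node .leaf (62653, 0, 16, 82625) .leaf)) (62655, 0, 11, 65376) (.node (.node .leaf (62656, 0, 17, 35019) .leaf) (62658, 0, 17, 63263) (.node .leaf (62661, 0, 15, 44792) .leaf))))) (62663, 0, 16, 11866) (.node (.node (.node (.node (.node .leaf (62664, 0, 17, 25175) .leaf) (62666, 0, 15, 184967) (.node .leaf (62669, 0, 16, 220135) .leaf)) (62671, 0, 18, 134082) (.node (.node .leaf (62672, 0, 18, 253807) .leaf) (62674, 0, 16, 167754) (.node .leaf (62677, 0, 17, 198186) .leaf))) (62679, 0, 16, 153103) (.node (.node (.node .leaf (62680, 0, 14, 136353) .leaf) (62682, 0, 16, 43730) (.node .leaf (62685, 0, 15, 74674) .leaf)) (62687, 0, 17, 121568) (.node (.node .leaf (62688,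 0, 16, 128449) .leaf) (62690, 0, 16, 261354) (.node .leaf (62693, 0, 16, 161162) .leaf)))) (62695, 0, 18, 146304) (.node (.node (.node (.node .leaf (62696, 0, 16, 73565) .leaf) (62698, 0, 16, 194351) (.node .leaf (62701, 0, 15, 20498) .leaf)) (62703, 0, 15, 184604) (.node (.node .leaf (62704, 0, 16, 230199) .leaf) (62706, 0, 17, 99519) (.node .leaf (62709, 0, 17, 238852) .leaf))) (62711, 0, 16, 89594) (.node (.node (.node .leaf (62712, 0, 15, 223659) .leaf) (62714, 0, 16, 33241) (.node .leaf (62717, 0, 13, 216984) .leaf)) (62719, 0, 17, 42986) (.node (.node .leaf (62720, 0, 16, 260290) .leaf) (62722, 0, 13, 28601) (.node .leaf (62725, 0, 17, 238072) .leaf))))))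

/-- part of the orbit tree -/
def itp1_460 : Tree := (.node (.node (.node (.node (.node (.node .leaf (62728, 0, 14, 122202) .leaf) (62730, 0, 16, 36223) (.node .leaf (62733, 0, 6, 66591) .leaf)) (62735, 0, 18, 41750) (.node (.node .leaf (62736, 0, 18, 98455) .leaf) (62738, 0, 14, 137551) (.node .leaf (62741, 0, 18, 88530) .leaf))) (62743, 0, 15, 147324) (.node (.node (.node .leaf (62744, 0, 15, 238863) .leaf) (62746, 0, 16, 193834) (.node .leaf (62749, 0, 16, 81298) .leaf)) (62751, 0, 16, 142447) (.node (.node .leaf (62752, 0, 16, 62263) .leaf) (62754, 0, 18, 107282) (.node .leaf (62757, 0, 18, 187634) .leaf)))) (62759, 0, 17, 96855) (.node (.node (.node (.node .leaf (62760, 0, 15, 135261) .leaf) (62762, 0, 16, 231050) (.node .leaf (62765, 0, 17, 145006) .leaf)) (62767, 0, 12, 122396) (.node (.node .leaf (62768, 0, 14, 166754) .leaf) (62770, 0, 15, 222277) (.node .leaf (62773, 0, 17, 43524) .leaf))) (62775, 0, 16, 197122) (.node (.node (.node .leaf (62776, 0, 14, 44794) .leaf) (62778, 0, 16, 233177)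 (.node .leaf (62781, 0, 14, 30655) .leaf)) (62783, 0, 15, 75674) (.node (.node .leaf (62784, 0, 13, 253761) .leaf) (62786, 0, 16, 115297) (.node .leaf (62789, 0, 14, 19201) .leaf))))) (62791, 0, 16, 72484) (.node (.node (.node (.node (.node .leaf (62792, 0, 14, 210397) .leaf) (62794, 0, 16, 255993) (.node .leaf (62797, 0, 18, 201710) .leaf)) (62799, 0, 16, 64412) (.node (.node .leaf (62800, 0, 14, 108983) .leaf) (62802, 0, 16, 244276) (.node .leaf (62805, 0, 14, 102276) .leaf))) (62807, 0, 16, 157686) (.node (.node (.node .leaf (62808, 0, 13, 82731) .leaf) (62810, 0, 17, 174937) (.node .leaf (62813, 0, 16, 5836) .leaf)) (62815, 0, 18, 167274) (.node (.node .leaf (62816, 0, 17, 235953) .leaf) (62818, 0, 16, 84537) (.node .leaf (62821, 0, 18, 213236) .leaf)))) (62823, 0, 15, 135377) (.node (.node (.node (.node .leaf (62824, 0, 15, 113705) .leaf) (62826, 0, 17, 60428) (.node .leaf (62829, 0, 18, 91500) .leaf)) (62831, 0, 16, 13641) (.node (.node .leaf (62832, 0, 14, 123364) .leaf) (62834, 0, 18, 212175)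 (.node .leaf (62837, 0, 16, 62094) .leaf))) (62839, 0, 14, 203516) (.node (.node (.node .leaf (62840, 0, 15, 246908) .leaf) (62842, 0, 13, 251475) (.node .leaf (62845, 0, 17, 6162) .leaf)) (62847, 0, 15, 258144) (.node (.node .leaf (62849, 0, 16, 159372) .leaf) (62851, 0, 15, 100094) (.node .leaf (62852, 0, 14, 149695) .leaf))))))

/-- part of the orbit tree -/
def itp1_461 : Tree := (.node itp1_457 (62470, 0, 17, 78768) itp1_458)

/-- part of the orbit tree -/
def itp1_462 : Tree := (.node itp1_459 (62727, 0, 17, 18826) itp1_460)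

/-- part of the orbit tree -/
def itp1_463 : Tree := (.node (.node (.node (.node (.node (.node .leaf (62857, 0, 16, 164880) .leaf) (62859, 0, 12, 195091) (.node .leaf (62860, 0, 16, 226163) .leaf)) (62862, 0, 18, 84561) (.node (.node .leaf (62865, 0, 14, 6266) .leaf) (62867, 0, 13, 258056) (.node .leaf (62868, 0, 15, 208574) .leaf))) (62870, 0, 16, 163483) (.node (.node (.node .leaf (62873, 0, 18, 119395) .leaf) (62875, 0, 18, 33350) (.node .leaf (62876, 0, 14, 68390) .leaf)) (62878, 0, 14, 23299) (.node (.node .leaf (62881, 0, 14, 201606) .leaf) (62883, 0, 15, 64500) (.node .leaf (62884, 0, 16, 210357) .leaf)))) (62886, 0, 14, 199995) (.node (.node (.node (.node .leaf (62889, 0, 16, 260378) .leaf) (62891, 0, 17, 127462) (.node .leaf (62892, 0, 16, 253737) .leaf)) (62894, 0, 13, 14171) (.node (.node .leaf (62897, 0, 18, 91504) .leaf) (62899, 0, 16, 167170) (.node .leaf (62900, 0, 17, 82755) .leaf))) (62902, 0, 17, 95598) (.node (.node (.node .leaf (62905, 0, 18, 102380) .leaf) (62907, 0, 15, 231859)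 (.node .leaf (62908, 0, 16, 131283) .leaf)) (62910, 0, 17, 147885) (.node (.node .leaf (62913, 0, 16, 189736) .leaf) (62915, 0, 14, 122484) (.node .leaf (62916, 0, 15, 135221) .leaf))))) (62918, 0, 18, 129095) (.node (.node (.node (.node (.node .leaf (62921, 0, 16, 187546) .leaf) (62923, 0, 17, 79080) (.node .leaf (62924, 0, 15, 195241) .leaf)) (62926, 0, 18, 84432) (.node (.node .leaf (62929, 0, 16, 16624) .leaf) (62931, 0, 14, 239746) (.node .leaf (62932, 0, 17, 17464) .leaf))) (62934, 0, 17, 233137) (.node (.node (.node .leaf (62937, 0, 12, 43628) .leaf) (62939, 0, 14, 256192) (.node .leaf (62940, 0, 17, 35935) .leaf)) (62942, 0, 16, 222253) (.node (.node .leaf (62945, 0, 16, 215820) .leaf) (62947, 0, 17, 48888) (.node .leaf (62948, 0, 15, 79768) .leaf)))) (62950, 0, 15, 26557) (.node (.node (.node (.node .leaf (62953, 0, 16, 248645) .leaf) (62955, 0, 16, 170848) (.node .leaf (62956, 0, 15, 231331) .leaf)) (62958, 0, 16, 148005) (.node (.node .leaf (62961, 0, 17, 81402) .leaf) (62963, 0, 13, 185736)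 (.node .leaf (62964, 0, 16, 72649) .leaf))) (62966, 0, 15, 193467) (.node (.node (.node .leaf (62969, 0, 11, 111376) .leaf) (62971, 0, 15, 147220) (.node .leaf (62972, 0, 13, 92757) .leaf)) (62974, 0, 13, 137511) (.node (.node .leaf (62976, 0, 17, 30406) .leaf) (62977, 0, 16, 80938) (.node .leaf (62978, 0, 17, 36214) .leaf))))))

/-- part of the orbit tree -/
def itp1_464 : Tree := (.node (.node (.node (.node (.node (.node .leaf (62984, 0, 15, 233368) .leaf) (62985, 0, 14, 176952) (.node .leaf (62986, 0, 14, 197499) .leaf)) (62987, 0, 15, 147140) (.node (.node .leaf (62992, 0, 16, 134803) .leaf) (62993, 0, 13, 192245) (.node .leaf (62994, 0, 17, 195456) .leaf))) (62995, 0, 17, 41646) (.node (.node (.node .leaf (63000, 0, 16, 11019) .leaf) (63001, 0, 14, 237632) (.node .leaf (63002, 0, 13, 97070) .leaf)) (63003, 0, 13, 18482) (.node (.node .leaf (63008, 0, 16, 228659) .leaf) (63009, 0, 16, 16672) (.node .leaf (63010, 0, 13, 142614) .leaf)))) (63011, 0, 17, 239954) (.node (.node (.node (.node .leaf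 (63016, 0, 18, 88235) .leaf) (63017, 0, 15, 43964) (.node .leaf (63018, 0, 15, 2190) .leaf)) (63019, 0, 17, 213966) (.node (.node .leaf (63024, 0, 13, 66918) .leaf) (63025, 0, 7, 124160) (.node .leaf (63026, 0, 15, 21827) .leaf))) (63027, 0, 18, 46373) (.node (.node (.node .leaf (63032, 0, 17, 33892) .leaf) (63033, 0, 17, 187722) (.node .leaf (63034, 0, 15, 159963) .leaf)) (63035, 0, 11, 79160) (.node (.node .leaf (63040, 0, 17, 212366) .leaf) (63041, 0, 17, 261158) (.node .leaf (63042, 0, 16, 54780) .leaf))))) (63043, 0, 15, 167122) (.node (.node (.node (.node (.node .leaf (63048, 0, 17, 80344) .leaf) (63049, 0, 15, 121278) (.node .leaf (63050, 0, 17, 27133) .leaf)) (63051, 0, 15, 35227) (.node (.node .leaf (63056, 0, 18, 84856) .leaf) (63057, 0, 17, 99443) (.node .leaf (63058, 0, 18, 172810) .leaf))) (63059, 0, 13, 54358) (.node (.node (.node .leaf (63064, 0, 17, 106980) .leaf) (63065, 0, 14, 260298) (.node .leaf (63066, 0, 16, 135592) .leaf)) (63067, 0, 17, 4280) (.node (.node .leaf (63072, 0,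 14, 147588) .leaf) (63073, 0, 15, 63443) (.node .leaf (63074, 0, 13, 83856) .leaf)))) (63075, 0, 18, 108534) (.node (.node (.node (.node .leaf (63080, 0, 18, 174616) .leaf) (63081, 0, 16, 184907) (.node .leaf (63082, 0, 17, 221704) .leaf)) (63083, 0, 17, 229998) (.node (.node .leaf (63088, 0, 17, 159712) .leaf) (63089, 0, 16, 167814) (.node .leaf (63090, 0, 14, 253440) .leaf))) (63091, 0, 16, 100142) (.node (.node (.node .leaf (63096, 0, 17, 56558) .leaf) (63097, 0, 18, 43550) (.node .leaf (63098, 0, 17, 72285) .leaf)) (63099, 0, 18, 129595) (.node (.node .leaf (63108, 0, 13, 174704) .leaf) (63109, 0, 13, 145545) (.node .leaf (63110, 0, 14, 231626) .leaf))))))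

/-- part of the orbit tree -/
def itp1_465 : Tree := (.node (.node (.node (.node (.node (.node .leaf (63116, 0, 17, 64887) .leaf) (63117, 0, 17, 7441) (.node .leaf (63118, 0, 15, 108702) .leaf)) (63119, 0, 18, 85300) (.node (.node .leaf (63124, 0, 15, 41146) .leaf) (63125, 0, 16, 165288) (.node .leaf (63126, 0, 17, 210164) .leaf))) (63127, 0, 15, 93658) (.node (.node (.node .leaf (63132, 0, 18, 165154) .leaf) (63133, 0, 16, 159540) (.node .leaf (63134, 0, 15, 253544) .leaf)) (63135, 0, 17, 100166) (.node (.node .leaf (63140, 0, 16, 251770) .leaf) (63141, 0, 17, 78716) (.node .leaf (63142, 0, 17, 16136) .leaf)))) (63143, 0, 13, 157222) (.node (.node (.node (.node .leaf (63148, 0, 19, 259714) .leaf) (63149, 0, 14, 91336) (.node .leaf (63150, 0, 17, 54676) .leaf)) (63151, 0, 16, 167098) (.node (.node .leaf (63156, 0, 17, 106892) .leaf) (63157, 0, 17, 260258) (.node .leaf (63158, 0, 17, 150014) .leaf))) (63159, 0, 13, 4304) (.node (.node (.node .leaf (63164, 0, 18, 102103) .leaf) (63165, 0, 17, 93873)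 (.node .leaf (63166, 0, 14, 172898) .leaf)) (63167, 0, 19, 16020) (.node (.node .leaf (63172, 0, 15, 193274) .leaf) (63173, 0, 14, 86543) (.node .leaf (63174, 0, 16, 72328) .leaf))))) (63175, 0, 15, 213926) (.node (.node (.node (.node (.node .leaf (63180, 0, 18, 137318) .leaf) (63181, 0, 16, 227223) (.node .leaf (63182, 0, 16, 182228) .leaf)) (63183, 0, 17, 239930) (.node (.node .leaf (63188, 0, 17, 248380) .leaf) (63189, 0, 16, 207450) (.node .leaf (63190, 0, 18, 170521) .leaf))) (63191, 0, 16, 79184) (.node (.node (.node .leaf (63196, 0, 16, 126884) .leaf) (63197, 0, 17, 69570) (.node .leaf (63198, 0, 13, 49025) .leaf)) (63199, 0, 13, 122828) (.node (.node .leaf (63204, 0, 15, 178588) .leaf) (63205, 0, 14, 120542) (.node .leaf (63206, 0, 16, 256441) .leaf)))) (63207, 0, 14, 199135) (.node (.node (.node (.node .leaf (63212, 0, 15, 222572) .leaf) (63213, 0, 15, 31842) (.node .leaf (63214, 0, 10, 117793) .leaf)) (63215, 0, 16, 76871) (.node (.node .leaf (63220, 0, 16, 49609) .leaf) (63221, 0, 17, 237608)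 (.node .leaf (63222, 0, 18, 102892) .leaf))) (63223, 0, 17, 94602) (.node (.node (.node .leaf (63228, 0, 13, 189521) .leaf) (63229, 0, 15, 132151) (.node .leaf (63230, 0, 17, 195560) .leaf)) (63231, 0, 15, 218130) (.node (.node .leaf (63236, 0, 17, 257425) .leaf) (63237, 0, 17, 200183) (.node .leaf (63238, 0, 14, 179636) .leaf))))))

/-- part of the orbit tree -/
def itp1_466 : Tree := (.node (.node (.node (.node (.node (.node .leaf (63244, 0, 8, 116745) .leaf) (63245, 0, 17, 75887) (.node .leaf (63246, 0, 16, 196372) .leaf)) (63247, 0, 17, 42554) (.node (.node .leaf (63252, 0, 17, 232204) .leaf) (63253, 0, 16, 95650) (.node .leaf (63254, 0, 15, 25470) .leaf))) (63255, 0, 13, 146000) (.node (.node (.node .leaf (63260, 0, 17, 241756) .leaf) (63261, 0, 13, 80062) (.node .leaf (63262, 0, 14, 188537) .leaf)) (63263, 0, 16, 184524) (.node (.node .leaf (63268, 0, 17, 58980) .leaf) (63269, 0, 13, 1538) (.node .leaf (63270, 0, 15, 112193) .leaf)))) (63271, 0, 17, 78252) (.node (.node (.node (.node .leaf (63276,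 0, 18, 27244) .leaf) (63277, 0, 13, 144194) (.node .leaf (63278, 0, 16, 229918) .leaf)) (63279, 0, 18, 121648) (.node (.node .leaf (63284, 0, 17, 194054) .leaf) (63285, 0, 16, 44840) (.node .leaf (63286, 0, 14, 73332) .leaf))) (63287, 0, 16, 208498) (.node (.node (.node .leaf (63292, 0, 16, 138394) .leaf) (63293, 0, 15, 23503) (.node .leaf (63294, 0, 15, 125836) .leaf)) (63295, 0, 18, 68586) (.node (.node .leaf (63300, 0, 18, 34583) .leaf) (63301, 0, 17, 26481) (.node .leaf (63302, 0, 14, 150786) .leaf))))) (63303, 0, 15, 79700) (.node (.node (.node (.node (.node .leaf (63308, 0, 16, 85996) .leaf) (63309, 0, 16, 202434) (.node .leaf (63310, 0, 16, 258730) .leaf)) (63311, 0, 17, 65200) (.node (.node .leaf (63316, 0, 17, 250758) .leaf) (63317, 0, 16, 101032) (.node .leaf (63318, 0, 15, 241511) .leaf))) (63319, 0, 18, 216833) (.node (.node (.node .leaf (63324, 0, 15, 211226) .leaf) (63325, 0, 18, 15036) (.node .leaf (63326, 0, 17, 101119) .leaf)) (63327, 0, 16, 92825) (.node (.node .leaf (63332, 0, 16,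 232674) .leaf) (63333, 0, 18, 224388) (.node .leaf (63334, 0, 15, 208904) .leaf)))) (63335, 0, 15, 146593) (.node (.node (.node (.node .leaf (63340, 0, 16, 13030) .leaf) (63341, 0, 14, 84252) (.node .leaf (63342, 0, 16, 252564) .leaf)) (63343, 0, 16, 99258) (.node (.node .leaf (63348, 0, 16, 128183) .leaf) (63349, 0, 17, 70865) (.node .leaf (63350, 0, 16, 83710) .leaf))) (63351, 0, 17, 17652) (.node (.node (.node .leaf (63356, 0, 17, 148496) .leaf) (63357, 0, 18, 7486) (.node .leaf (63358, 0, 17, 164106) .leaf)) (63359, 0, 16, 259404) (.node (.node .leaf (63360, 0, 17, 12942) .leaf) (63361, 0, 16, 158624) .leaf)))))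

/-- part of the orbit tree -/
def itp1_467 : Tree := (.node itp1_463 (62979, 0, 19, 116357) itp1_464)

/-- part of the orbit tree -/
def itp1_468 : Tree := (.node itp1_465 (63239, 0, 18, 155090) itp1_466)

/-- part of the orbit tree -/
def itp1_469 : Tree := (.node itp1_461 (62599, 0, 14, 214236) itp1_462)

/-- part of the orbit tree -/
def itp1_470 : Tree := (.node itp1_467 (63111, 0, 17, 203564) itp1_468)

/-- part of the orbit tree -/
def itp1_471 : Tree := (.node itp1_455 (61832, 0, 17, 151800) itp1_456)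

/-- part of the orbit tree -/
def itp1_472 : Tree := (.node itp1_469 (62854, 0, 13, 106701) itp1_470)

/-- part of the orbit tree -/
def itp1_473 : Tree := (.node (.node (.node (.node (.node (.node .leaf (63363, 0, 16, 62459) .leaf) (63368, 0, 18, 222752) (.node .leaf (63369, 0, 15, 230982) .leaf)) (63370, 0, 13, 208992) (.node (.node .leaf (63371, 0, 17, 185955) .leaf) (63376, 0, 18, 148600) (.node .leaf (63377, 0, 16, 7510) .leaf))) (63378, 0, 15, 158664) (.node (.node (.node .leaf (63379, 0, 15, 259364) .leaf) (63384, 0, 16, 73333) (.node .leaf (63385, 0, 14, 130579) .leaf)) (63386, 0, 17, 83606) (.node (.node .leaf (63387, 0, 17, 204728) .leaf) (63392, 0, 17, 149581) (.node .leaf (63393, 0, 16, 174123) .leaf)))) (63394, 0, 17, 174070) (.node (.node (.node (.node .leaf (63395, 0, 15, 260110) .leaf) (63400, 0, 16, 107800) (.node .leaf (63401, 0, 16, 36275) .leaf)) (63402, 0, 16, 150890) (.node (.node .leaf (63403, 0, 12, 5188) .leaf) (63408, 0, 14, 12312) (.node .leaf (63409, 0, 13, 53374) .leaf)))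 (63410, 0, 16, 90173) (.node (.node (.node .leaf (63411, 0, 16, 165934) .leaf) (63416, 0, 16, 136576) (.node .leaf (63417, 0, 16, 194022) .leaf)) (63418, 0, 17, 15260) (.node (.node .leaf (63419, 0, 17, 156338) .leaf) (63424, 0, 17, 141630) (.node .leaf (63425, 0, 16, 182616) .leaf))))) (63426, 0, 16, 230006) (.node (.node (.node (.node (.node .leaf (63427, 0, 16, 121688) .leaf) (63432, 0, 11, 32920) (.node .leaf (63433, 0, 11, 60608) .leaf)) (63434, 0, 14, 223466) (.node (.node .leaf (63435, 0, 15, 78276) .leaf) (63440, 0, 16, 20843) (.node .leaf (63441, 0, 17, 17884) .leaf))) (63442, 0, 16, 65870) (.node (.node (.node .leaf (63443, 0, 14, 123176) .leaf) (63448, 0, 16, 194158) (.node .leaf (63449, 0, 16, 169109) .leaf)) (63450, 0, 17, 206038) (.node (.node .leaf (63451, 0, 15, 214834) .leaf) (63456, 0, 15, 71438) (.node .leaf (63457, 0, 16, 115373) .leaf)))) (63458, 0, 19, 29422) (.node (.node (.node (.node .leaf (63459, 0, 16, 42578) .leaf) (63464, 0, 16, 198483) (.node .leaf (63465, 0, 12, 255797)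 .leaf)) (63466, 0, 16, 153462) (.node (.node .leaf (63467, 0, 16, 177936) .leaf) (63472, 0, 17, 219806) (.node .leaf (63473, 0, 18, 80086) .leaf))) (63474, 0, 18, 133819) (.node (.node (.node .leaf (63475, 0, 15, 191197) .leaf) (63480, 0, 16, 232292) (.node .leaf (63481, 0, 17, 119370) .leaf)) (63482, 0, 16, 25366) (.node (.node .leaf (63483, 0, 18, 53061) .leaf) (63489, 0, 15, 253540) (.node .leaf (63490, 0, 17, 245905) .leaf))))))

/-- part of the orbit tree -/
def itp1_474 : Tree := (.node (.node (.node (.node (.node (.node .leaf (63494, 0, 16, 153348) .leaf) (63497, 0, 16, 130044) (.node .leaf (63498, 0, 16, 19391) .leaf)) (63501, 0, 17, 115423) (.node (.node .leaf (63502, 0, 15, 29340) .leaf) (63505, 0, 14, 108081) (.node .leaf (63506, 0, 13, 5746) .leaf))) (63509, 0, 16, 106258) (.node (.node (.node .leaf (63510, 0, 16, 248186) .leaf) (63513, 0, 17, 60839) (.node .leaf (63514, 0, 14, 144362) .leaf)) (63517, 0, 15, 244362) (.node (.node .leaf (63518, 0, 16, 133833) .leaf) (63521, 0, 15, 199879)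 (.node .leaf (63522, 0, 17, 91602) .leaf)))) (63525, 0, 16, 60594) (.node (.node (.node (.node .leaf (63526, 0, 16, 49798) .leaf) (63529, 0, 14, 192521) (.node .leaf (63530, 0, 17, 213066) .leaf)) (63533, 0, 12, 104774) (.node (.node .leaf (63534, 0, 13, 10266) .leaf) (63537, 0, 13, 175556) (.node .leaf (63538, 0, 14, 204167) .leaf))) (63541, 0, 12, 169191) (.node (.node (.node .leaf (63542, 0, 16, 177264) .leaf) (63545, 0, 16, 102573) (.node .leaf (63546, 0, 14, 8689) .leaf)) (63549, 0, 15, 257968) (.node (.node .leaf (63550, 0, 15, 65852) .leaf) (63553, 0, 15, 141639) (.node .leaf (63554, 0, 17, 66721) .leaf))))) (63557, 0, 14, 36289) (.node (.node (.node (.node (.node .leaf (63558, 0, 13, 81282) .leaf) (63561, 0, 12, 181211) (.node .leaf (63562, 0, 16, 225927) .leaf)) (63565, 0, 16, 48326) (.node (.node .leaf (63566, 0, 16, 69018) .leaf) (63569, 0, 14, 183479) (.node .leaf (63570, 0, 15, 126701) .leaf))) (63573, 0, 19, 193940) (.node (.node (.node .leaf (63574, 0, 15, 214487) .leaf) (63577, 0,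 16, 59695) (.node .leaf (63578, 0, 18, 88428) .leaf)) (63581, 0, 15, 182832) (.node (.node .leaf (63582, 0, 17, 228204) .leaf) (63585, 0, 14, 245527) (.node .leaf (63586, 0, 17, 189713) .leaf)))) (63589, 0, 15, 76624) (.node (.node (.node (.node .leaf (63590, 0, 17, 39436) .leaf) (63593, 0, 17, 105103) (.node .leaf (63594, 0, 17, 135053) .leaf)) (63597, 0, 10, 115148) (.node (.node .leaf (63598, 0, 15, 28816) .leaf) (63601, 0, 17, 74427) (.node .leaf (63602, 0, 18, 30465) .leaf))) (63605, 0, 13, 130657) (.node (.node (.node .leaf (63606, 0, 17, 191738) .leaf) (63609, 0, 15, 254682) (.node .leaf (63610, 0, 16, 31099) .leaf)) (63613, 0, 14, 243514) (.node (.node .leaf (63614, 0, 15, 132710) .leaf) (63616, 0, 16, 108808) (.node .leaf (63619, 0, 14, 141782) .leaf))))))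

/-- part of the orbit tree -/
def itp1_475 : Tree := (.node (.node (.node (.node (.node (.node .leaf (63623, 0, 16, 8296) .leaf) (63624, 0, 14, 232592) (.node .leaf (63627, 0, 16, 146643) .leaf)) (63628, 0, 16, 243123) (.node (.node .leaf (63631, 0, 18, 48215) .leaf) (63632, 0, 18, 126588) (.node .leaf (63635, 0, 13, 24352) .leaf))) (63636, 0, 14, 256126) (.node (.node (.node .leaf (63639, 0, 16, 139325) .leaf) (63640, 0, 16, 66784) (.node .leaf (63643, 0, 13, 46524) .leaf)) (63644, 0, 14, 118246) (.node (.node .leaf (63647, 0, 15, 32165) .leaf) (63648, 0, 18, 172797) (.node .leaf (63651, 0, 13, 201406) .leaf)))) (63652, 0, 13, 39581) (.node (.node (.node (.node .leaf (63655, 0, 16, 207773) .leaf) (63656, 0, 18, 34661) (.node .leaf (63659, 0, 12, 79654) .leaf)) (63660, 0, 15, 28673) (.node (.node .leaf (63663, 0, 18, 115037) .leaf) (63664, 0, 11, 55976) (.node .leaf (63667, 0, 18, 74282) .leaf))) (63668, 0, 18, 58251) (.node (.node (.node .leaf (63671, 0, 16, 220471) .leaf) (63672, 0, 18, 196400)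 (.node .leaf (63675, 0, 7, 116918) .leaf)) (63676, 0, 17, 181779) (.node (.node .leaf (63679, 0, 17, 226896) .leaf) (63680, 0, 15, 245760) (.node .leaf (63683, 0, 16, 226253) .leaf))))) (63684, 0, 12, 114461) (.node (.node (.node (.node (.node .leaf (63687, 0, 17, 215790) .leaf) (63688, 0, 10, 207516) (.node .leaf (63691, 0, 15, 170944) .leaf)) (63692, 0, 17, 57141) (.node (.node .leaf (63695, 0, 12, 94070) .leaf) (63696, 0, 9, 48091) (.node .leaf (63699, 0, 18, 1962) .leaf))) (63700, 0, 17, 248299) (.node (.node (.node .leaf (63703, 0, 18, 161975) .leaf) (63704, 0, 17, 89194) (.node .leaf (63707, 0, 17, 208384) .leaf)) (63708, 0, 14, 205687) (.node (.node .leaf (63711, 0, 15, 168491) .leaf) (63712, 0, 14, 179466) (.node .leaf (63715, 0, 10, 30776) .leaf)))) (63716, 0, 13, 127320) (.node (.node (.node (.node .leaf (63719, 0, 15, 95051) .leaf) (63720, 0, 17, 153494) (.node .leaf (63723, 0, 16, 155040) .leaf)) (63724, 0, 16, 10379) (.node (.node .leaf (63727, 0, 17, 156803) .leaf) (63728, 0, 15, 52220)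 (.node .leaf (63731, 0, 14, 96928) .leaf))) (63732, 0, 17, 231693) (.node (.node (.node .leaf (63735, 0, 17, 145742) .leaf) (63736, 0, 16, 103862) (.node .leaf (63739, 0, 15, 9717) .leaf)) (63740, 0, 16, 109717) (.node (.node .leaf (63743, 0, 13, 7382) .leaf) (63744, 0, 16, 52992) (.node .leaf (63747, 0, 18, 97884) .leaf))))))

/-- part of the orbit tree -/
def itp1_476 : Tree := (.node (.node (.node (.node (.node (.node .leaf (63751, 0, 14, 70934) .leaf) (63752, 0, 15, 178670) (.node .leaf (63755, 0, 18, 103616) .leaf)) (63756, 0, 14, 164045) (.node (.node .leaf (63759, 0, 13, 256989) .leaf) (63760, 0, 16, 189475) (.node .leaf (63763, 0, 16, 198826) .leaf))) (63764, 0, 15, 50923) (.node (.node (.node .leaf (63767, 0, 14, 96183) .leaf) (63768, 0, 17, 152426) (.node .leaf (63771, 0, 16, 94712) .leaf)) (63772, 0, 17, 63640) (.node (.node .leaf (63775, 0, 17, 105771) .leaf) (63776, 0, 17, 111114) (.node .leaf (63779, 0, 14, 854) .leaf)))) (63780, 0, 14, 241312) (.node (.node (.node (.node .leaf (63783,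 0, 14, 138979) .leaf) (63784, 0, 14, 88214) (.node .leaf (63787, 0, 13, 600) .leaf)) (63788, 0, 16, 206731) (.node (.node .leaf (63791, 0, 17, 169687) .leaf) (63792, 0, 17, 126934) (.node .leaf (63795, 0, 18, 161184) .leaf))) (63796, 0, 17, 113633) (.node (.node (.node .leaf (63799, 0, 17, 2749) .leaf) (63800, 0, 15, 248398) (.node .leaf (63803, 0, 16, 171836) .leaf)) (63804, 0, 15, 86397) (.node (.node .leaf (63807, 0, 17, 57377) .leaf) (63808, 0, 18, 259824) (.node .leaf (63811, 0, 16, 75478) .leaf))))) (63812, 0, 17, 249811) (.node (.node (.node (.node (.node .leaf (63815, 0, 11, 219595) .leaf) (63816, 0, 15, 32022) (.node .leaf (63819, 0, 17, 117834) .leaf)) (63820, 0, 17, 131595) (.node (.node .leaf (63823, 0, 11, 242519) .leaf) (63824, 0, 17, 188796) (.node .leaf (63827, 0, 12, 16102) .leaf))) (63828, 0, 19, 112518) (.node (.node (.node .leaf (63831, 0, 17, 1989) .leaf) (63832, 0, 16, 240445) (.node .leaf (63835, 0, 17, 138110) .leaf)) (63836, 0, 15, 234014) (.node (.node .leaf (63839, 0, 17,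 139869) .leaf) (63840, 0, 16, 125568) (.node .leaf (63843, 0, 16, 23516) .leaf)))) (63844, 0, 17, 50214) (.node (.node (.node (.node .leaf (63847, 0, 16, 95333) .leaf) (63848, 0, 13, 65564) (.node .leaf (63851, 0, 17, 223454) .leaf)) (63852, 0, 16, 188862) (.node (.node .leaf (63855, 0, 18, 183901) .leaf) (63856, 0, 16, 165200) (.node .leaf (63859, 0, 16, 210195) .leaf))) (63860, 0, 15, 123755) (.node (.node (.node .leaf (63863, 0, 18, 199728) .leaf) (63864, 0, 16, 227050) (.node .leaf (63867, 0, 11, 182198) .leaf)) (63868, 0, 15, 39403) (.node (.node .leaf (63871, 0, 17, 76200) .leaf) (63873, 0, 16, 75335) (.node .leaf (63874, 0, 15, 219993) .leaf))))))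

/-- part of the orbit tree -/
def itp1_477 : Tree := (.node itp1_473 (63493, 0, 16, 3792) itp1_474)

/-- part of the orbit tree -/
def itp1_478 : Tree := (.node itp1_475 (63748, 0, 16, 42325) itp1_476)

/-- part of the orbit tree -/
def itp1_479 : Tree := (.node (.node (.node (.node (.node (.node .leaf (63878, 0, 15, 190470) .leaf) (63881, 0, 15, 117979) (.node .leaf (63882, 0, 15, 97985) .leaf)) (63885, 0, 14, 242630) (.node (.node .leaf (63886, 0, 15, 83938) .leaf) (63889, 0, 15, 37711) (.node .leaf (63890, 0, 17, 188909) .leaf))) (63893, 0, 12, 43628) (.node (.node (.node .leaf (63894, 0, 16, 72239) .leaf) (63897, 0, 17, 244269) (.node .leaf (63898, 0, 18, 134001) .leaf)) (63901, 0, 10, 116016) (.node (.node .leaf (63902, 0, 17, 212919) .leaf) (63905, 0, 16, 123119) (.node .leaf (63906, 0, 18, 125457) .leaf)))) (63909, 0, 19, 140368) (.node (.node (.node (.node .leaf (63910, 0, 17, 234764) .leaf) (63913, 0, 17, 45521) (.node .leaf (63914, 0, 18, 65677) .leaf)) (63917, 0, 15, 184012) (.node (.node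 .leaf (63918, 0, 19, 229264) .leaf) (63921, 0, 16, 235706) (.node .leaf (63922, 0, 17, 236775) .leaf))) (63925, 0, 14, 237977) (.node (.node (.node .leaf (63926, 0, 16, 123898) .leaf) (63929, 0, 17, 113954) (.node .leaf (63930, 0, 15, 226939) .leaf)) (63933, 0, 16, 47162) (.node (.node .leaf (63934, 0, 17, 67942) .leaf) (63937, 0, 17, 98716) (.node .leaf (63938, 0, 16, 53137) .leaf))))) (63941, 0, 15, 197072) (.node (.node (.node (.node (.node .leaf (63942, 0, 14, 176268) .leaf) (63945, 0, 18, 238596) (.node .leaf (63946, 0, 15, 9485) .leaf)) (63949, 0, 18, 256844) (.node (.node .leaf (63950, 0, 16, 154128) .leaf) (63953, 0, 15, 260553) (.node .leaf (63954, 0, 19, 149898) .leaf))) (63957, 0, 15, 245994) (.node (.node (.node .leaf (63958, 0, 15, 159913) .leaf) (63961, 0, 14, 121937) (.node .leaf (63962, 0, 18, 152571) .leaf)) (63965, 0, 16, 124274) (.node (.node .leaf (63966, 0, 17, 11494) .leaf) (63969, 0, 16, 166505) (.node .leaf (63970, 0, 17, 211498) .leaf)))) (63973, 0, 16, 163034) (.node (.node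 (.node (.node .leaf (63974, 0, 11, 249222) .leaf) (63977, 0, 14, 59739) (.node .leaf (63978, 0, 17, 88071) .leaf)) (63981, 0, 17, 38610) (.node (.node .leaf (63982, 0, 17, 75409) .leaf) (63985, 0, 15, 161073) (.node .leaf (63986, 0, 17, 246893) .leaf))) (63989, 0, 16, 51999) (.node (.node (.node .leaf (63990, 0, 16, 97116) .leaf) (63993, 0, 18, 171949) (.node .leaf (63994, 0, 17, 223207) .leaf)) (63997, 0, 16, 192135) (.node (.node .leaf (63998, 0, 15, 86508) .leaf) (64000, 0, 14, 11727) (.node .leaf (64001, 0, 14, 160993) .leaf))))))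

/-- part of the orbit tree -/
def itp1_480 : Tree := (.node (.node (.node (.node (.node (.node .leaf (64005, 0, 16, 248631) .leaf) (64008, 0, 18, 79850) (.node .leaf (64009, 0, 17, 171645) .leaf)) (64012, 0, 16, 178254) (.node (.node .leaf (64013, 0, 14, 126639) .leaf) (64016, 0, 16, 92711) (.node .leaf (64017, 0, 17, 535) .leaf))) (64020, 0, 18, 9252) (.node (.node (.node .leaf (64021, 0, 14, 163082) .leaf) (64024, 0, 15, 217023) (.node .leaf (64025, 0, 19, 59531) .leaf)) (64028, 0, 13, 226972) (.node (.node .leaf (64029, 0, 16, 169878) .leaf) (64032, 0, 16, 6535) (.node .leaf (64033, 0, 15, 199147) .leaf)))) (64036, 0, 17, 208856) (.node (.node (.node (.node .leaf (64037, 0, 17, 49346) .leaf) (64040, 0, 17, 146463) (.node .leaf (64041, 0, 15, 254839) .leaf)) (64044, 0, 16, 132412) (.node (.node .leaf (64045, 0, 17, 189786) .leaf) (64048, 0, 18, 206387) (.node .leaf (64049, 0, 17, 164276) .leaf))) (64052, 0, 16, 153841) (.node (.node (.node .leaf (64053, 0, 17, 178327) .leaf) (64056, 0, 17, 17482)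 (.node .leaf (64057, 0, 17, 42028) .leaf)) (64060, 0, 16, 32105) (.node (.node .leaf (64061, 0, 12, 256668) .leaf) (64064, 0, 17, 30021) (.node .leaf (64065, 0, 17, 142443) .leaf))))) (64068, 0, 18, 133720) (.node (.node (.node (.node (.node .leaf (64069, 0, 17, 41393) .leaf) (64072, 0, 17, 154988) (.node .leaf (64073, 0, 14, 179466) .leaf)) (64076, 0, 18, 188612) (.node (.node .leaf (64077, 0, 15, 164905) .leaf) (64080, 0, 17, 132019) (.node .leaf (64081, 0, 17, 23197) .leaf))) (64084, 0, 17, 31918) (.node (.node (.node .leaf (64085, 0, 16, 140672) .leaf) (64088, 0, 19, 9529) (.node .leaf (64089, 0, 18, 50527) .leaf)) (64092, 0, 14, 7194) (.node (.node .leaf (64093, 0, 15, 64636) .leaf) (64096, 0, 14, 226049) (.node .leaf (64097, 0, 17, 217441) .leaf)))) (64100, 0, 18, 215586) (.node (.node (.node (.node .leaf (64101, 0, 17, 77436) .leaf) (64104, 0, 15, 123603) (.node .leaf (64105, 0, 18, 112383) .leaf)) (64108, 0, 17, 94138) (.node (.node .leaf (64109, 0, 18, 102364) .leaf) (64112, 0, 15, 229049)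 (.node .leaf (64113, 0, 12, 125746) .leaf))) (64116, 0, 14, 78455) (.node (.node (.node .leaf (64117, 0, 17, 219274) .leaf) (64120, 0, 15, 234533) (.node .leaf (64121, 0, 16, 118027) .leaf)) (64124, 0, 16, 202735) (.node (.node .leaf (64125, 0, 14, 259977) .leaf) (64130, 0, 16, 30164) (.node .leaf (64131, 0, 19, 13627) .leaf))))))

/-- part of the orbit tree -/
def itp1_481 : Tree := (.node (.node (.node (.node (.node (.node .leaf (64135, 0, 17, 3096) .leaf) (64138, 0, 18, 40776) (.node .leaf (64139, 0, 15, 181862) .leaf)) (64142, 0, 16, 182758) (.node (.node .leaf (64143, 0, 14, 141696) .leaf) (64146, 0, 17, 175368) (.node .leaf (64147, 0, 17, 23052) .leaf))) (64150, 0, 15, 169003) (.node (.node (.node .leaf (64151, 0, 14, 140561) .leaf) (64154, 0, 17, 190910) (.node .leaf (64155, 0, 17, 26870) .leaf)) (64158, 0, 15, 45491) (.node (.node .leaf (64159, 0, 17, 20949) .leaf) (64162, 0, 14, 67806) (.node .leaf (64163, 0, 17, 217584) .leaf)))) (64166, 0, 15, 227267) (.node (.node (.node (.node .leaf (64167,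 0, 16, 77549) .leaf) (64170, 0, 14, 123458) (.node .leaf (64171, 0, 13, 244588) .leaf)) (64174, 0, 14, 236895) (.node (.node .leaf (64175, 0, 15, 115825) .leaf) (64178, 0, 16, 228904) (.node .leaf (64179, 0, 16, 83611) .leaf))) (64182, 0, 15, 65845) (.node (.node (.node .leaf (64183, 0, 14, 98232) .leaf) (64186, 0, 16, 230245) (.node .leaf (64187, 0, 15, 221955) .leaf)) (64190, 0, 16, 244294) (.node (.node .leaf (64191, 0, 18, 242311) .leaf) (64194, 0, 9, 245723) (.node .leaf (64195, 0, 16, 160880) .leaf))))) (64198, 0, 16, 231160) (.node (.node (.node (.node (.node .leaf (64199, 0, 13, 222878) .leaf) (64202, 0, 18, 105027) (.node .leaf (64203, 0, 14, 171756) .leaf)) (64206, 0, 12, 107360) (.node (.node .leaf (64207, 0, 16, 57841) .leaf) (64210, 0, 13, 116622) (.node .leaf (64211, 0, 13, 646) .leaf))) (64214, 0, 15, 9397) (.node (.node (.node .leaf (64215, 0, 15, 73419) .leaf) (64218, 0, 17, 254486) (.node .leaf (64219, 0, 15, 59418) .leaf)) (64222, 0, 16, 252725) (.node (.node .leaf (64223, 0, 17,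 169735) .leaf) (64226, 0, 15, 46126) (.node .leaf (64227, 0, 14, 21576) .leaf)))) (64230, 0, 17, 208713) (.node (.node (.node (.node .leaf (64231, 0, 15, 28011) .leaf) (64234, 0, 17, 113352) (.node .leaf (64235, 0, 16, 160208) .leaf)) (64238, 0, 16, 247253) (.node (.node .leaf (64239, 0, 18, 105723) .leaf) (64242, 0, 15, 183419) (.node .leaf (64243, 0, 15, 98188) .leaf))) (64246, 0, 18, 193880) (.node (.node (.node .leaf (64247, 0, 16, 196753) .leaf) (64250, 0, 16, 248894) (.node .leaf (64251, 0, 17, 103696) .leaf)) (64254, 0, 17, 111395) (.node (.node .leaf (64255, 0, 16, 256525) .leaf) (64258, 0, 16, 205406) (.node .leaf (64259, 0, 17, 97136) .leaf))))))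

/-- part of the orbit tree -/
def itp1_482 : Tree := (.node (.node (.node (.node (.node (.node .leaf (64263, 0, 14, 80230) .leaf) (64266, 0, 12, 247227) (.node .leaf (64267, 0, 17, 206301) .leaf)) (64270, 0, 19, 261272) (.node (.node .leaf (64271, 0, 13, 204030) .leaf) (64274, 0, 16, 235638) (.node .leaf (64275, 0, 17, 200070) .leaf))) (64278, 0, 17, 237909) (.node (.node (.node .leaf (64279, 0, 15, 213299) .leaf) (64282, 0, 16, 114228) (.node .leaf (64283, 0, 18, 255770) .leaf)) (64286, 0, 17, 246057) (.node (.node .leaf (64287, 0, 17, 104455) .leaf) (64290, 0, 16, 191446) (.node .leaf (64291, 0, 13, 1658) .leaf)))) (64294, 0, 17, 8265) (.node (.node (.node (.node .leaf (64295, 0, 14, 144019) .leaf) (64298, 0, 16, 52814) (.node .leaf (64299, 0, 17, 11816) .leaf)) (64302, 0, 15, 63341) (.node (.node .leaf (64303, 0, 16, 168955) .leaf) (64306, 0, 14, 37763) (.node .leaf (64307, 0, 17, 29669) .leaf))) (64310, 0, 15, 43680) (.node (.node (.node .leaf (64311, 0, 15, 3985) .leaf) (64314, 0, 19, 49982)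 (.node .leaf (64315, 0, 16, 170512) .leaf)) (64318, 0, 16, 179235) (.node (.node .leaf (64319, 0, 15, 159582) .leaf) (64322, 0, 19, 228052) (.node .leaf (64323, 0, 17, 74746) .leaf))))) (64326, 0, 15, 67017) (.node (.node (.node (.node (.node .leaf (64327, 0, 16, 220391) .leaf) (64330, 0, 17, 44861) (.node .leaf (64331, 0, 15, 20315) .leaf)) (64334, 0, 17, 38430) (.node (.node .leaf (64335, 0, 14, 30328) .leaf) (64338, 0, 15, 62192) (.node .leaf (64339, 0, 19, 4758) .leaf))) (64342, 0, 17, 52179) (.node (.node (.node .leaf (64343, 0, 17, 76305) .leaf) (64346, 0, 18, 124606) (.node .leaf (64347, 0, 18, 245648) .leaf)) (64350, 0, 18, 235939) (.node (.node .leaf (64351, 0, 18, 134701) .leaf) (64354, 0, 16, 98640) (.node .leaf (64355, 0, 15, 24304) .leaf)))) (64358, 0, 18, 112755) (.node (.node (.node (.node .leaf (64359, 0, 14, 88085) .leaf) (64362, 0, 16, 238792) (.node .leaf (64363, 0, 16, 46188) .leaf)) (64366, 0, 18, 37471) (.node (.node .leaf (64367, 0, 17, 228749) .leaf) (64370, 0, 18, 260357)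 (.node .leaf (64371, 0, 15, 203107) .leaf))) (64374, 0, 12, 245798) (.node (.node (.node .leaf (64375, 0, 12, 204864) .leaf) (64378, 0, 16, 39860) (.node .leaf (64379, 0, 15, 180890) .leaf)) (64382, 0, 13, 124350) (.node (.node .leaf (64383, 0, 16, 48519) .leaf) (64384, 0, 16, 141068) .leaf)))))

/-- part of the orbit tree -/
def itp1_483 : Tree := (.node itp1_479 (64004, 0, 19, 207697) itp1_480)

/-- part of the orbit tree -/
def itp1_484 : Tree := (.node itp1_481 (64262, 0, 16, 121088) itp1_482)

/-- part of the orbit tree -/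
def itp1_485 : Tree := (.node itp1_477 (63620, 0, 16, 102443) itp1_478)

/-- part of the orbit tree -/
def itp1_486 : Tree := (.node itp1_483 (64134, 0, 16, 60542) itp1_484)

/-- part of the orbit tree -/
def itp1_487 : Tree := (.node (.node (.node (.node (.node (.node .leaf (64388, 0, 17, 66904) .leaf) (64389, 0, 16, 220278) (.node .leaf (64392, 0, 17, 660) .leaf)) (64393, 0, 17, 58098) (.node (.node .leaf (64396, 0, 16, 126916) .leaf) (64397, 0, 17, 56273) (.node .leaf (64400, 0, 14, 68787) .leaf))) (64401, 0, 18, 48959) (.node (.node (.node .leaf (64404, 0, 17, 226222) .leaf) (64405, 0, 17, 76416) (.node .leaf (64408, 0, 15, 162497) .leaf)) (64409, 0, 11, 170663) (.node (.node .leaf (64412, 0, 15, 235826) .leaf) (64413, 0, 17, 114716) (.node .leaf (64416, 0, 17, 132943) .leaf)))) (64417, 0, 16, 117919) (.node (.node (.node (.node .leaf (64420, 0, 15, 30802) .leaf) (64421, 0, 15, 139644) (.node .leaf (64424, 0, 15, 191955) .leaf)) (64425, 0, 14, 46333) (.node (.node .leaf (64428, 0, 17, 37582) .leaf)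 (64429, 0, 17, 183264) (.node .leaf (64432, 0, 15, 218284) .leaf))) (64433, 0, 14, 141463) (.node (.node (.node .leaf (64436, 0, 17, 224655) .leaf) (64437, 0, 16, 232937) (.node .leaf (64440, 0, 17, 39717) .leaf)) (64441, 0, 17, 180747) (.node (.node .leaf (64444, 0, 17, 189496) .leaf) (64445, 0, 14, 108657) (.node .leaf (64448, 0, 18, 85386) .leaf))))) (64449, 0, 16, 110060) (.node (.node (.node (.node (.node .leaf (64452, 0, 17, 89554) .leaf) (64453, 0, 14, 103631) (.node .leaf (64456, 0, 16, 223250) .leaf)) (64457, 0, 18, 102781) (.node (.node .leaf (64460, 0, 14, 217393) .leaf) (64461, 0, 12, 257632) (.node .leaf (64464, 0, 17, 210399) .leaf))) (64465, 0, 18, 251321) (.node (.node (.node .leaf (64468, 0, 15, 207652) .leaf) (64469, 0, 14, 94730) (.node .leaf (64472, 0, 18, 114341) .leaf)) (64473, 0, 16, 127009) (.node (.node .leaf (64476, 0, 17, 76132) .leaf) (64477, 0, 17, 104598) (.node .leaf (64480, 0, 16, 149119) .leaf)))) (64481, 0, 16, 173593) (.node (.node (.node (.node .leaf (64484, 0,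 12, 163676) .leaf) (64485, 0, 17, 162294) (.node .leaf (64488, 0, 15, 25575) .leaf)) (64489, 0, 16, 60535) (.node (.node .leaf (64492, 0, 11, 23236) .leaf) (64493, 0, 16, 47778) (.node .leaf (64496, 0, 17, 10547) .leaf))) (64497, 0, 16, 159773) (.node (.node (.node .leaf (64500, 0, 14, 153134) .leaf) (64501, 0, 14, 59247) (.node .leaf (64504, 0, 16, 50095) .leaf)) (64505, 0, 14, 170625) (.node (.node .leaf (64508, 0, 12, 179378) .leaf) (64509, 0, 18, 58780) (.node .leaf (64512, 0, 16, 140458) .leaf))))))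

/-- part of the orbit tree -/
def itp1_488 : Tree := (.node (.node (.node (.node (.node (.node .leaf (64516, 0, 17, 88586) .leaf) (64518, 0, 16, 176760) (.node .leaf (64520, 0, 17, 249739) .leaf)) (64522, 0, 17, 86295) (.node (.node .leaf (64524, 0, 17, 110742) .leaf) (64526, 0, 18, 92212) (.node .leaf (64528, 0, 16, 87009) .leaf))) (64530, 0, 13, 68826) (.node (.node (.node .leaf (64532, 0, 16, 26076) .leaf) (64534, 0, 16, 50318) (.node .leaf (64536, 0, 17, 162151) .leaf)) (64538, 0, 17, 207170) (.node (.node .leaf (64540, 0, 17, 147524) .leaf) (64542, 0, 15, 200801) (.node .leaf (64544, 0, 17, 77663) .leaf)))) (64546, 0, 17, 110703) (.node (.node (.node (.node .leaf (64548, 0, 14, 71292) .leaf) (64550, 0, 15, 18009) (.node .leaf (64552, 0, 16, 176769) .leaf)) (64554, 0, 15, 88819) (.node (.node .leaf (64556, 0, 16, 52636) .leaf) (64558, 0, 13, 206318) (.node .leaf (64560, 0, 16, 12011) .leaf))) (64562, 0, 18, 247449) (.node (.node (.node .leaf (64564, 0, 11, 224809) .leaf) (64566, 0, 16, 113028)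 (.node .leaf (64568, 0, 17, 50295) .leaf)) (64570, 0, 15, 8887) (.node (.node .leaf (64572, 0, 17, 84913) .leaf) (64574, 0, 16, 7060) (.node .leaf (64576, 0, 16, 85548) .leaf))))) (64578, 0, 17, 38383) (.node (.node (.node (.node (.node .leaf (64580, 0, 16, 66176) .leaf) (64582, 0, 17, 10026) (.node .leaf (64584, 0, 17, 235265) .leaf)) (64586, 0, 15, 32627) (.node (.node .leaf (64588, 0, 17, 217751) .leaf) (64590, 0, 19, 131182) (.node .leaf (64592, 0, 18, 68459) .leaf))) (64594, 0, 18, 157276) (.node (.node (.node .leaf (64596, 0, 17, 226422) .leaf) (64598, 0, 18, 39940) (.node .leaf (64600, 0, 13, 123383) .leaf)) (64602, 0, 18, 17348) (.node (.node .leaf (64604, 0, 13, 237290) .leaf) (64606, 0, 11, 31463) (.node .leaf (64608, 0, 16, 148953) .leaf)))) (64610, 0, 15, 125157) (.node (.node (.node (.node .leaf (64612, 0, 18, 32650) .leaf) (64614, 0, 17, 208095) (.node .leaf (64616, 0, 15, 24641) .leaf)) (64618, 0, 15, 77924) (.node (.node .leaf (64620, 0, 15, 38166) .leaf) (64622, 0, 17, 67911) (.node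 .leaf (64624, 0, 18, 15756) .leaf))) (64626, 0, 16, 237075) (.node (.node (.node .leaf (64628, 0, 14, 1199) .leaf) (64630, 0, 18, 123150) (.node .leaf (64632, 0, 13, 137236) .leaf)) (64634, 0, 15, 226447) (.node (.node .leaf (64636, 0, 14, 189408) .leaf) (64638, 0, 16, 68498) (.node .leaf (64641, 0, 16, 21446) .leaf))))))

/-- part of the orbit tree -/
def itp1_489 : Tree := (.node (.node (.node (.node (.node (.node .leaf (64645, 0, 11, 27365) .leaf) (64647, 0, 16, 219967) (.node .leaf (64649, 0, 14, 161374) .leaf)) (64651, 0, 16, 118462) (.node (.node .leaf (64653, 0, 14, 22993) .leaf) (64655, 0, 17, 204632) (.node .leaf (64657, 0, 17, 142227) .leaf))) (64659, 0, 17, 228278) (.node (.node (.node .leaf (64661, 0, 17, 135856) .leaf) (64663, 0, 17, 77257) (.node .leaf (64665, 0, 17, 3595) .leaf)) (64667, 0, 14, 243784) (.node (.node .leaf (64669, 0, 15, 143143) .leaf) (64671, 0, 17, 116565) (.node .leaf (64673, 0, 13, 242010) .leaf)))) (64675, 0, 15, 133142) (.node (.node (.node (.node .leaf (64677,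 0, 16, 221456) .leaf) (64679, 0, 16, 140853) (.node .leaf (64681, 0, 17, 97707) .leaf)) (64683, 0, 17, 11662) (.node (.node .leaf (64685, 0, 17, 83080) .leaf) (64687, 0, 16, 5293) (.node .leaf (64689, 0, 14, 116652) .leaf))) (64691, 0, 17, 143326) (.node (.node (.node .leaf (64693, 0, 15, 243889) .leaf) (64695, 0, 14, 20675) (.node .leaf (64697, 0, 16, 77104) .leaf)) (64699, 0, 17, 153051) (.node (.node .leaf (64701, 0, 17, 217645) .leaf) (64703, 0, 17, 47711) (.node .leaf (64705, 0, 17, 169178) .leaf))))) (64707, 0, 18, 97448) (.node (.node (.node (.node (.node .leaf (64709, 0, 13, 196707) .leaf) (64711, 0, 17, 151622) (.node .leaf (64713, 0, 19, 72920) .leaf)) (64715, 0, 15, 103988) (.node (.node .leaf (64717, 0, 18, 75259) .leaf) (64719, 0, 16, 30174) (.node .leaf (64721, 0, 17, 82197) .leaf))) (64723, 0, 16, 199262) (.node (.node (.node .leaf (64725, 0, 18, 171313) .leaf) (64727, 0, 18, 95555) (.node .leaf (64729, 0, 15, 222349) .leaf)) (64731, 0, 18, 254146) (.node (.node .leaf (64733, 0, 14,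 161709) .leaf) (64735, 0, 13, 134539) (.node .leaf (64737, 0, 18, 12981) .leaf)))) (64739, 0, 13, 418) (.node (.node (.node (.node .leaf (64741, 0, 15, 2966) .leaf) (64743, 0, 17, 89011) (.node .leaf (64745, 0, 16, 137005) .leaf)) (64747, 0, 15, 214792) (.node (.node .leaf (64749, 0, 18, 142862) .leaf) (64751, 0, 16, 168995) (.node .leaf (64753, 0, 13, 150240) .leaf))) (64755, 0, 17, 161620) (.node (.node (.node .leaf (64757, 0, 15, 160707) .leaf) (64759, 0, 15, 2121) (.node .leaf (64761, 0, 17, 95674) .leaf)) (64763, 0, 17, 171464) (.node (.node .leaf (64765, 0, 16, 22107) .leaf) (64767, 0, 15, 58069) (.node .leaf (64769, 0, 15, 91832) .leaf))))))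

/-- part of the orbit tree -/
def itp1_490 : Tree := (.node (.node (.node (.node (.node (.node .leaf (64773, 0, 16, 255175) .leaf) (64775, 0, 16, 3253) (.node .leaf (64777, 0, 18, 94534) .leaf)) (64779, 0, 17, 170292) (.node (.node .leaf (64781, 0, 17, 200283) .leaf) (64783, 0, 15, 141862) (.node .leaf (64785, 0, 15, 257324) .leaf))) (64787, 0, 17, 1374) (.node (.node (.node .leaf (64789, 0, 15, 102961) .leaf) (64791, 0, 12, 162371) (.node .leaf (64793, 0, 16, 80757) .leaf)) (64795, 0, 18, 27472) (.node (.node .leaf (64797, 0, 16, 96429) .leaf) (64799, 0, 14, 21107) (.node .leaf (64801, 0, 15, 159053) .leaf)))) (64803, 0, 16, 212328) (.node (.node (.node (.node .leaf (64805, 0, 16, 152686) .leaf) (64807, 0, 16, 197707) (.node .leaf (64809, 0, 15, 18645) .leaf)) (64811, 0, 15, 255038) (.node (.node .leaf (64813, 0, 12, 29174) .leaf) (64815, 0, 15, 74195) (.node .leaf (64817, 0, 17, 5400) .leaf))) (64819, 0, 17, 96340) (.node (.node (.node .leaf (64821, 0, 16, 61243) .leaf) (64823, 0, 17, 198473) (.node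 .leaf (64825, 0, 16, 143488) .leaf)) (64827, 0, 15, 103112) (.node (.node .leaf (64829, 0, 12, 1447) .leaf) (64831, 0, 16, 219526) (.node .leaf (64833, 0, 15, 134206) .leaf))))) (64835, 0, 18, 142114) (.node (.node (.node (.node (.node .leaf (64837, 0, 13, 144669) .leaf) (64839, 0, 16, 21567) (.node .leaf (64841, 0, 17, 10662) .leaf)) (64843, 0, 19, 96643) (.node (.node .leaf (64845, 0, 18, 218833) .leaf) (64847, 0, 12, 48803) (.node .leaf (64849, 0, 18, 29803) .leaf))) (64851, 0, 15, 74830) (.node (.node (.node .leaf (64853, 0, 17, 19784) .leaf) (64855, 0, 15, 73069) (.node .leaf (64857, 0, 17, 152051) .leaf)) (64859, 0, 14, 46920) (.node (.node .leaf (64861, 0, 16, 73767) .leaf) (64863, 0, 14, 182357) (.node .leaf (64865, 0, 15, 48730) .leaf)))) (64867, 0, 15, 218664) (.node (.node (.node (.node .leaf (64869, 0, 16, 81640) .leaf) (64871, 0, 15, 76085) (.node .leaf (64873, 0, 18, 205395) .leaf)) (64875, 0, 13, 160374) (.node (.node .leaf (64877, 0, 18, 142299) .leaf) (64879, 0, 15, 150357) (.node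 .leaf (64881, 0, 17, 182444) .leaf))) (64883, 0, 18, 143291) (.node (.node (.node .leaf (64885, 0, 16, 47025) .leaf) (64887, 0, 16, 136856) (.node .leaf (64889, 0, 15, 139824) .leaf)) (64891, 0, 17, 117314) (.node (.node .leaf (64893, 0, 17, 90917) .leaf) (64895, 0, 16, 243039) (.node .leaf (64896, 0, 17, 29341) .leaf))))))

/-- part of the orbit tree -/
def itp1_491 : Tree := (.node itp1_487 (64514, 0, 15, 226447) itp1_488)

/-- part of the orbit tree -/
def itp1_492 : Tree := (.node itp1_489 (64771, 0, 14, 13981) itp1_490)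

/-- part of the orbit tree -/
def itp1_493 : Tree := (.node (.node (.node (.node (.node (.node .leaf (64900, 0, 13, 207095) .leaf) (64902, 0, 17, 124402) (.node .leaf (64904, 0, 11, 78924) .leaf)) (64906, 0, 14, 225395) (.node (.node .leaf (64908, 0, 15, 190236) .leaf) (64910, 0, 14, 69486) (.node .leaf (64912, 0, 10, 132203) .leaf))) (64914, 0, 14, 125977) (.node (.node (.node .leaf (64916, 0, 16, 31606) .leaf) (64918, 0, 16, 135) (.node .leaf (64920, 0, 13, 216089) .leaf)) (64922, 0, 13, 138300) (.node (.node .leaf (64924, 0, 14, 226618) .leaf) (64926, 0, 15, 227736) (.node .leaf (64928, 0, 17, 6689) .leaf)))) (64930, 0, 14, 190437) (.node (.node (.node (.node .leaf (64932, 0, 15, 8962) .leaf) (64934, 0, 14, 39160) (.node .leaf (64936, 0, 13, 124171) .leaf)) (64938, 0, 16, 225180) (.node (.node .leaf (64940, 0, 14, 132762) .leaf) (64942, 0, 11, 29284) (.node .leaf (64944, 0, 16, 227681) .leaf))) (64946, 0, 15, 37139) (.node (.node (.node .leaf (64948, 0, 14, 67196) .leaf) (64950, 0, 16, 199538)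 (.node .leaf (64952, 0, 13, 234493) .leaf)) (64954, 0, 16, 31631) (.node (.node .leaf (64956, 0, 13, 126176) .leaf) (64958, 0, 16, 77546) (.node .leaf (64960, 0, 18, 10775) .leaf))))) (64962, 0, 18, 76663) (.node (.node (.node (.node (.node .leaf (64964, 0, 17, 152842) .leaf) (64966, 0, 19, 114040) (.node .leaf (64968, 0, 11, 155338) .leaf)) (64970, 0, 17, 207097) (.node (.node .leaf (64972, 0, 17, 180118) .leaf) (64974, 0, 16, 210892) (.node .leaf (64976, 0, 17, 131847) .leaf))) (64978, 0, 17, 217890) (.node (.node (.node .leaf (64980, 0, 12, 9212) .leaf) (64982, 0, 18, 223745) (.node .leaf (64984, 0, 18, 9887) .leaf)) (64986, 0, 17, 95930) (.node (.node .leaf (64988, 0, 11, 51552) .leaf) (64990, 0, 15, 85913) (.node .leaf (64992, 0, 10, 225447) .leaf)))) (64994, 0, 17, 139394) (.node (.node (.node (.node .leaf (64996, 0, 17, 206848) .leaf) (64998, 0, 18, 137633) (.node .leaf (65000, 0, 17, 114049) .leaf)) (65002, 0, 17, 1306) (.node (.node .leaf (65004, 0, 14, 246428) .leaf) (65006, 0, 17, 15417)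 (.node .leaf (65008, 0, 16, 205291) .leaf))) (65010, 0, 17, 51609) (.node (.node (.node .leaf (65012, 0, 16, 78289) .leaf) (65014, 0, 15, 25076) (.node .leaf (65016, 0, 12, 248695) .leaf)) (65018, 0, 16, 163151) (.node (.node .leaf (65020, 0, 11, 201801) .leaf) (65022, 0, 16, 148588) (.node .leaf (65152, 0, 15, 36946) .leaf))))))

/-- part of the orbit tree -/
def itp1_494 : Tree := (.node (.node (.node (.node (.node (.node .leaf (65154, 0, 14, 227360) .leaf) (65155, 0, 16, 77715) (.node .leaf (65156, 0, 16, 192335) .leaf)) (65157, 0, 16, 46689) (.node (.node .leaf (65158, 0, 14, 67389) .leaf) (65159, 0, 13, 220691) (.node .leaf (65160, 0, 15, 178760) .leaf))) (65161, 0, 16, 140256) (.node (.node (.node .leaf (65162, 0, 18, 256621) .leaf) (65163, 0, 15, 199179) (.node .leaf (65164, 0, 15, 164715) .leaf)) (65165, 0, 14, 23805) (.node (.node .leaf (65166, 0, 11, 126369) .leaf) (65167, 0, 16, 242831) (.node .leaf (65168, 0, 16, 190341) .leaf)))) (65169, 0, 16, 49034) (.node (.node (.node (.node .leaf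 (65170, 0, 16, 243616) .leaf) (65171, 0, 14, 219078) (.node .leaf (65172, 0, 16, 188070) .leaf)) (65173, 0, 18, 147136) (.node (.node .leaf (65174, 0, 16, 225739) .leaf) (65175, 0, 15, 76005) (.node .leaf (65176, 0, 17, 134200) .leaf))) (65177, 0, 15, 21782) (.node (.node (.node .leaf (65178, 0, 15, 102968) .leaf) (65179, 0, 15, 245092) (.node .leaf (65180, 0, 15, 29477) .leaf)) (65181, 0, 14, 141835) (.node (.node .leaf (65182, 0, 17, 109339) .leaf) (65183, 0, 16, 115321) (.node .leaf (65184, 0, 15, 234533) .leaf))))) (65185, 0, 15, 242806) (.node (.node (.node (.node (.node .leaf (65186, 0, 15, 132394) .leaf) (65187, 0, 17, 140390) (.node .leaf (65188, 0, 17, 234053) .leaf)) (65189, 0, 17, 216416) (.node (.node .leaf (65190, 0, 18, 31287) .leaf) (65191, 0, 13, 140057) (.node .leaf (65192, 0, 18, 111037) .leaf))) (65193, 0, 17, 86491) (.node (.node (.node .leaf (65194, 0, 16, 57752) .leaf) (65195, 0, 15, 46744) (.node .leaf (65196, 0, 17, 227545) .leaf)) (65197, 0, 17, 92408) (.node (.node .leaf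 (65198, 0, 16, 37035) .leaf) (65199, 0, 14, 182661) (.node .leaf (65200, 0, 16, 236462) .leaf)))) (65201, 0, 15, 115328) (.node (.node (.node (.node .leaf (65202, 0, 16, 29660) .leaf) (65203, 0, 15, 23603) (.node .leaf (65204, 0, 16, 124083) .leaf)) (65205, 0, 19, 245149) (.node (.node .leaf (65206, 0, 13, 134337) .leaf) (65207, 0, 16, 21999) (.node .leaf (65208, 0, 18, 248296) .leaf))) (65209, 0, 17, 75804) (.node (.node (.node .leaf (65210, 0, 15, 39232) .leaf) (65211, 0, 14, 162219) (.node .leaf (65212, 0, 13, 69167) .leaf)) (65213, 0, 15, 200877) (.node (.node .leaf (65214, 0, 18, 190045) .leaf) (65215, 0, 15, 147592) (.node .leaf (65216, 0, 17, 51416) .leaf))))))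

/-- part of the orbit tree -/
def itp1_495 : Tree := (.node (.node (.node (.node (.node (.node .leaf (65218, 0, 16, 204970) .leaf) (65219, 0, 15, 96644) (.node .leaf (65220, 0, 15, 248949) .leaf)) (65221, 0, 17, 207891) (.node (.node .leaf (65222, 0, 15, 90039) .leaf) (65223, 0, 12, 162870) (.node .leaf (65224, 0, 16, 118990) .leaf))) (65225, 0, 17, 77992) (.node (.node (.node .leaf (65226, 0, 15, 33003) .leaf) (65227, 0, 16, 24717) (.node .leaf (65228, 0, 18, 125421) .leaf)) (65229, 0, 17, 67979) (.node (.node .leaf (65230, 0, 17, 111915) .leaf) (65231, 0, 15, 22958) (.node .leaf (65232, 0, 13, 179758) .leaf)))) (65233, 0, 17, 93541) (.node (.node (.node (.node .leaf (65234, 0, 14, 56614) .leaf) (65235, 0, 15, 200562) (.node .leaf (65236, 0, 14, 111648) .leaf)) (65237, 0, 15, 87110) (.node (.node .leaf (65238, 0, 15, 207169) .leaf) (65239, 0, 17, 1123) (.node .leaf (65240, 0, 16, 152754) .leaf))) (65241, 0, 18, 3484) (.node (.node (.node .leaf (65242, 0, 17, 113856) .leaf) (65243, 0, 15, 255470)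 (.node .leaf (65244, 0, 17, 11183) .leaf)) (65245, 0, 18, 225758) (.node (.node .leaf (65246, 0, 17, 246749) .leaf) (65247, 0, 15, 105203) (.node .leaf (65248, 0, 18, 112082) .leaf))))) (65249, 0, 16, 7877) (.node (.node (.node (.node (.node .leaf (65250, 0, 16, 155040) .leaf) (65251, 0, 13, 85728) (.node .leaf (65252, 0, 15, 51072) .leaf)) (65253, 0, 12, 10214) (.node (.node .leaf (65254, 0, 17, 8893) .leaf) (65255, 0, 16, 96195) (.node .leaf (65256, 0, 17, 89934) .leaf))) (65257, 0, 15, 198240) (.node (.node (.node .leaf (65258, 0, 16, 177980) .leaf) (65259, 0, 14, 60946) (.node .leaf (65260, 0, 16, 188952) .leaf)) (65261, 0, 17, 96637) (.node (.node .leaf (65262, 0, 17, 51233) .leaf) (65263, 0, 16, 217691) (.node .leaf (65264, 0, 16, 246564) .leaf)))) (65265, 0, 18, 104970) (.node (.node (.node (.node .leaf (65266, 0, 16, 11094) .leaf) (65267, 0, 19, 160376) (.node .leaf (65268, 0, 16, 180181) .leaf)) (65269, 0, 16, 255255) (.node (.node .leaf (65270, 0, 17, 152651) .leaf) (65271, 0, 14, 3429)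 (.node .leaf (65272, 0, 15, 41838) .leaf))) (65273, 0, 16, 17160) (.node (.node (.node .leaf (65274, 0, 15, 49610) .leaf) (65275, 0, 14, 70445) (.node .leaf (65276, 0, 16, 87717) .leaf)) (65277, 0, 13, 31275) (.node (.node .leaf (65278, 0, 12, 179927) .leaf) (65279, 0, 17, 59385) (.node .leaf (65280, 0, 12, 109230) .leaf))))))

/-- part of the orbit tree -/
def itp1_496 : Tree := (.node (.node (.node (.node (.node (.node .leaf (65282, 0, 14, 12202) .leaf) (65283, 0, 16, 6893) (.node .leaf (65284, 0, 15, 103309) .leaf)) (65285, 0, 17, 95211) (.node (.node .leaf (65286, 0, 17, 50088) .leaf) (65287, 0, 18, 2457) (.node .leaf (65288, 0, 16, 208196) .leaf))) (65289, 0, 15, 225104) (.node (.node (.node .leaf (65290, 0, 17, 50486) .leaf) (65291, 0, 18, 171032) (.node .leaf (65292, 0, 18, 86617) .leaf)) (65293, 0, 15, 199543) (.node (.node .leaf (65294, 0, 16, 190000) .leaf) (65295, 0, 14, 132694) (.node .leaf (65296, 0, 15, 250619) .leaf)))) (65297, 0, 17, 209565) (.node (.node (.node (.node .leaf (65298,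 0, 18, 153948) .leaf) (65299, 0, 17, 156344) (.node .leaf (65300, 0, 15, 249395) .leaf)) (65301, 0, 13, 104221) (.node (.node .leaf (65302, 0, 15, 9793) .leaf) (65303, 0, 15, 163695) (.node .leaf (65304, 0, 10, 128867) .leaf))) (65305, 0, 16, 197276) (.node (.node (.node .leaf (65306, 0, 13, 42822) .leaf) (65307, 0, 15, 18208) (.node .leaf (65308, 0, 18, 205999) .leaf)) (65309, 0, 16, 97665) (.node (.node .leaf (65310, 0, 16, 40549) .leaf) (65311, 0, 14, 32259) (.node .leaf (65312, 0, 13, 172379) .leaf))))) (65313, 0, 17, 147773) (.node (.node (.node (.node (.node .leaf (65314, 0, 18, 258430) .leaf) (65315, 0, 17, 199566) (.node .leaf (65316, 0, 16, 170104) .leaf)) (65317, 0, 14, 171233) (.node (.node .leaf (65318, 0, 15, 208317) .leaf) (65319, 0, 16, 206907) (.node .leaf (65320, 0, 14, 151630) .leaf))) (65321, 0, 17, 2400) (.node (.node (.node .leaf (65322, 0, 17, 112700) .leaf) (65323, 0, 16, 254226) (.node .leaf (65324, 0, 16, 12115) .leaf)) (65325, 0, 16, 161405) (.node (.node .leaf (65326, 0,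 17, 126405) .leaf) (65327, 0, 16, 105999) (.node .leaf (65328, 0, 16, 55566) .leaf)))) (65329, 0, 17, 14696) (.node (.node (.node (.node .leaf (65330, 0, 17, 100651) .leaf) (65331, 0, 12, 92493) (.node .leaf (65332, 0, 15, 57389) .leaf)) (65333, 0, 14, 59927) (.node (.node .leaf (65334, 0, 15, 110600) .leaf) (65335, 0, 14, 197221) (.node .leaf (65336, 0, 17, 9912) .leaf))) (65337, 0, 17, 163734) (.node (.node (.node .leaf (65338, 0, 16, 249546) .leaf) (65339, 0, 18, 104420) (.node .leaf (65340, 0, 17, 181685) .leaf)) (65341, 0, 14, 139) (.node (.node .leaf (65342, 0, 18, 234896) .leaf) (65343, 0, 16, 226806) .leaf)))))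

/-- part of the orbit tree -/
def itp1_497 : Tree := (.node itp1_493 (65153, 0, 16, 32694) itp1_494)

/-- part of the orbit tree -/
def itp1_498 : Tree := (.node itp1_495 (65281, 0, 18, 106230) itp1_496)

/-- part of the orbit tree -/
def itp1_499 : Tree := (.node itp1_491 (64643, 0, 15, 74786) itp1_492)

/-- part of the orbit tree -/
def itp1_500 : Tree := (.node itp1_497 (65217, 0, 18, 168438) itp1_498)

/-- part of the orbit tree -/
def itp1_501 : Tree := (.node itp1_485 (63877, 0, 17, 184889) itp1_486)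

/-- part of the orbit tree -/
def itp1_502 : Tree := (.node itp1_499 (64898, 0, 16, 236271) itp1_500)

/-- part of the orbit tree -/
def itp1_503 : Tree := (.node itp1_471 (62341, 0, 16, 203081) itp1_472)

/-- part of the orbit tree -/
def itp1_504 : Tree := (.node itp1_501 (64385, 0, 14, 74603) itp1_502)

/-- part of the orbit tree -/
def itp1_505 : Tree := (.node itp1_441 (59274, 0, 14, 188949) itp1_442)

/-- part of the orbit tree -/
def itp1_506 : Tree := (.node itp1_503 (63362, 0, 17, 5021) itp1_504)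

/-- part of the orbit tree -/
def itp1_507 : Tree := (.node itp1_379 (53140, 0, 16, 145172) itp1_380)

/-- part of the orbit tree -/
def itp1_508 : Tree := (.node itp1_505 (61316, 0, 18, 252633) itp1_506)

/-- part of the orbit tree -/
def itp1_509 : Tree := (.node itp1_253 (40872, 0, 16, 8560) itp1_254)

/-- part of the orbit tree -/
def itp1_510 : Tree := (.node itp1_507 (57224, 0, 16, 198166) itp1_508)

/-- part of the orbit tree -/
def itr_1 : Tree := (.node itp1_509 (49040, 0, 15, 92665) itp1_510)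

end Cfsg.Agent.Lib.Helper28.J3IsoData
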