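import Cfsg.Agent.Lib.Helper28.BSGSF4

/-!
# The orbit of the triple cover of `J₃` on isotropic vectors: part 2 of the orbit tree

Generated by a script.
-/

set_option autoImplicit false

namespace Cfsg.Agent.Lib.Helper28.J3IsoData

open Cfsg.Agent.Lib.Helper28.BSGSMat (Tree)

/-- part of the orbit tree -/
def itp2_1 : Tree := (.node (.node (.node (.node (.node (.node .leaf (65345, 0, 14, 116348) .leaf) (65346, 0, 14, 30496) (.node .leaf (65347, 0, 18, 142862) .leaf)) (65348, 0, 18, 122959) (.node (.node .leaf (65349, 0, 15, 244065) .leaf) (65350, 0, 14, 133181) (.node .leaf (65351, 0, 16, 215368) .leaf))) (65352, 0, 15, 58800) (.node (.node (.node .leaf (65353, 0, 17, 77024) .leaf) (65354, 0, 18, 40380) (.node .leaf (65355, 0, 10, 87539) .leaf)) (65356, 0, 15, 56467) (.node (.node .leaf (65357, 0, 15, 15605) .leaf) (65358, 0, 13, 189089) (.node .leaf (65359, 0, 16, 48015) .leaf)))) (65360, 0, 17, 47229) (.node (.node (.node (.node .leaf (65361, 0, 14, 22555) .leaf) (65362, 0, 14, 125016) (.node .leaf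 (65363, 0, 13, 22776) .leaf)) (65364, 0, 15, 33118) (.node (.node .leaf (65365, 0, 12, 24888) .leaf) (65366, 0, 18, 32459) (.node .leaf (65367, 0, 10, 141285) .leaf))) (65368, 0, 17, 171493) (.node (.node (.node .leaf (65369, 0, 16, 219670) .leaf) (65370, 0, 16, 191306) (.node .leaf (65371, 0, 13, 208294) .leaf)) (65372, 0, 14, 228389) (.node (.node .leaf (65373, 0, 17, 75019) .leaf) (65374, 0, 18, 37975) (.node .leaf (65375, 0, 18, 183673) .leaf))))) (65376, 0, 10, 117725) (.node (.node (.node (.node (.node .leaf (65377, 0, 17, 76731) .leaf) (65378, 0, 15, 39928) (.node .leaf (65379, 0, 16, 31646) .leaf)) (65380, 0, 17, 40261) (.node (.node .leaf (65381, 0, 9, 181355) .leaf) (65382, 0, 18, 41691) (.node .leaf (65383, 0, 15, 76825) .leaf))) (65384, 0, 17, 257605) (.node (.node (.node .leaf (65385, 0, 14, 20970) .leaf) (65386, 0, 16, 179808) (.node .leaf (65387, 0, 18, 244120) .leaf)) (65388, 0, 16, 30681) (.node (.node .leaf (65389, 0, 10, 210688) .leaf) (65390, 0, 17, 237483) (.node .leaf (65391,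 0, 18, 157477) .leaf)))) (65392, 0, 16, 38062) (.node (.node (.node (.node .leaf (65393, 0, 17, 183680) .leaf) (65394, 0, 16, 189357) (.node .leaf (65395, 0, 17, 132043) .leaf)) (65396, 0, 12, 232107) (.node (.node .leaf (65397, 0, 16, 223949) .leaf) (65398, 0, 17, 66497) (.node .leaf (65399, 0, 14, 146152) .leaf))) (65400, 0, 14, 32306) (.node (.node (.node .leaf (65401, 0, 18, 141084) .leaf) (65402, 0, 15, 50741) (.node .leaf (65403, 0, 14, 118638) .leaf)) (65404, 0, 17, 131375) (.node (.node .leaf (65405, 0, 16, 22529) .leaf) (65406, 0, 16, 65302) (.node .leaf (65407, 0, 14, 241779) .leaf))))))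

/-- part of the orbit tree -/
def itp2_2 : Tree := (.node (.node (.node (.node (.node (.node .leaf (65538, 0, 16, 119662) .leaf) (65540, 0, 18, 72901) (.node .leaf (65543, 0, 16, 44441) .leaf)) (65544, 0, 16, 231748) (.node (.node .leaf (65547, 0, 15, 202384) .leaf) (65549, 0, 16, 241527) (.node .leaf (65550, 0, 16, 249813) .leaf))) (65552, 0, 18, 70958) (.node (.node (.node .leaf (65555, 0, 17, 215901) .leaf) (65557, 0, 14, 139867) (.node .leaf (65558, 0, 15, 234008) .leaf)) (65561, 0, 18, 16096) (.node (.node .leaf (65562, 0, 16, 102051) .leaf) (65564, 0, 12, 59301) (.node .leaf (65567, 0, 18, 88038) .leaf)))) (65568, 0, 13, 138962) (.node (.node (.node (.node .leaf (65571, 0, 17, 241550) .leaf) (65573, 0, 13, 145633) (.node .leaf (65574, 0, 15, 231869) .leaf)) (65577, 0, 13, 44384) (.node (.node .leaf (65578, 0, 15, 64771) .leaf) (65580, 0, 18, 35667) (.node .leaf (65583, 0, 13, 80399) .leaf))) (65585, 0, 17, 143626) (.node (.node (.node .leaf (65586, 0, 19, 229462) .leaf) (65588, 0, 16, 137017)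 (.node .leaf (65591, 0, 16, 31115) .leaf)) (65592, 0, 17, 33464) (.node (.node .leaf (65595, 0, 14, 156976) .leaf) (65597, 0, 14, 199734) (.node .leaf (65598, 0, 17, 71127) .leaf))))) (65600, 0, 17, 211794) (.node (.node (.node (.node (.node .leaf (65603, 0, 16, 153998) .leaf) (65605, 0, 17, 204129) (.node .leaf (65606, 0, 12, 175165) .leaf)) (65609, 0, 17, 76851) (.node (.node .leaf (65610, 0, 15, 14780) .leaf) (65612, 0, 17, 110291) (.node .leaf (65615, 0, 17, 8079) .leaf))) (65617, 0, 12, 201866) (.node (.node (.node .leaf (65618, 0, 11, 49597) .leaf) (65620, 0, 16, 209593) (.node .leaf (65623, 0, 19, 6392) .leaf)) (65624, 0, 17, 242688) (.node (.node .leaf (65627, 0, 14, 132163) .leaf) (65629, 0, 15, 224581) (.node .leaf (65630, 0, 14, 12375) .leaf)))) (65633, 0, 14, 8054) (.node (.node (.node (.node .leaf (65634, 0, 15, 110122) .leaf) (65636, 0, 15, 14661) (.node .leaf (65639, 0, 17, 93016) .leaf)) (65640, 0, 16, 182176) (.node (.node .leaf (65643, 0, 14, 204184) .leaf) (65645, 0, 14, 166647)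 (.node .leaf (65646, 0, 14, 211883) .leaf))) (65648, 0, 18, 170605) (.node (.node (.node .leaf (65651, 0, 15, 98802) .leaf) (65653, 0, 14, 148264) (.node .leaf (65654, 0, 14, 108481) .leaf)) (65657, 0, 17, 164636) (.node (.node .leaf (65658, 0, 18, 209472) .leaf) (65660, 0, 14, 34518) (.node .leaf (65663, 0, 17, 79509) .leaf))))))

/-- part of the orbit tree -/
def itp2_3 : Tree := (.node (.node (.node (.node (.node (.node .leaf (65666, 0, 15, 211907) .leaf) (65668, 0, 17, 142690) (.node .leaf (65671, 0, 18, 236833) .leaf)) (65672, 0, 17, 12761) (.node (.node .leaf (65675, 0, 17, 100465) .leaf) (65677, 0, 17, 59548) (.node .leaf (65678, 0, 17, 88287) .leaf))) (65680, 0, 16, 27668) (.node (.node (.node .leaf (65683, 0, 16, 201755) .leaf) (65685, 0, 16, 46417) (.node .leaf (65686, 0, 16, 66834) .leaf)) (65689, 0, 17, 174570) (.node (.node .leaf (65690, 0, 19, 203177) .leaf) (65692, 0, 16, 12486) (.node .leaf (65695, 0, 14, 245996) .leaf)))) (65696, 0, 16, 110267) (.node (.node (.node (.node .leaf (65699,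 0, 18, 45047) .leaf) (65701, 0, 16, 100488) (.node .leaf (65702, 0, 15, 30386) .leaf)) (65705, 0, 18, 204041) (.node (.node .leaf (65706, 0, 13, 158217) .leaf) (65708, 0, 13, 197391) (.node .leaf (65711, 0, 17, 166502) .leaf))) (65713, 0, 18, 231303) (.node (.node (.node .leaf (65714, 0, 9, 12351) .leaf) (65716, 0, 18, 220866) (.node .leaf (65719, 0, 17, 5644) .leaf)) (65720, 0, 16, 209617) (.node (.node .leaf (65723, 0, 17, 62010) .leaf) (65725, 0, 16, 105276) (.node .leaf (65726, 0, 17, 11135) .leaf))))) (65728, 0, 13, 97991) (.node (.node (.node (.node (.node .leaf (65731, 0, 14, 80487) .leaf) (65733, 0, 18, 108418) (.node .leaf (65734, 0, 16, 72788) .leaf)) (65737, 0, 13, 145545) (.node (.node .leaf (65738, 0, 16, 231893) .leaf) (65740, 0, 15, 138938) (.node .leaf (65743, 0, 17, 241638) .leaf))) (65745, 0, 17, 255732) (.node (.node (.node .leaf (65746, 0, 14, 71103) .leaf) (65748, 0, 15, 212913) (.node .leaf (65751, 0, 18, 167922) .leaf)) (65752, 0, 15, 137041) (.node (.node .leaf (65755, 0, 16,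 37705) .leaf) (65757, 0, 12, 129615) (.node .leaf (65758, 0, 15, 229438) .leaf)))) (65761, 0, 17, 241439) (.node (.node (.node (.node .leaf (65762, 0, 16, 138819) .leaf) (65764, 0, 17, 231724) (.node .leaf (65767, 0, 16, 261202) .leaf)) (65768, 0, 16, 72877) (.node (.node .leaf (65771, 0, 13, 123113) .leaf) (65773, 0, 19, 35311) (.node .leaf (65774, 0, 15, 80300) .leaf))) (65776, 0, 17, 229575) (.node (.node (.node .leaf (65779, 0, 14, 143771) .leaf) (65781, 0, 11, 239348) (.node .leaf (65782, 0, 15, 137128) .leaf)) (65785, 0, 12, 182425) (.node (.node .leaf (65786, 0, 11, 33321) .leaf) (65788, 0, 17, 135644) (.node .leaf (65791, 0, 16, 237983) .leaf))))))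

/-- part of the orbit tree -/
def itp2_4 : Tree := (.node (.node (.node (.node (.node (.node .leaf (65795, 0, 16, 168316) .leaf) (65797, 0, 15, 260218) (.node .leaf (65798, 0, 16, 136020) .leaf)) (65801, 0, 15, 79753) (.node (.node .leaf (65802, 0, 15, 34517) .leaf) (65804, 0, 16, 70074) (.node .leaf (65807, 0, 13, 36295) .leaf))) (65809, 0, 15, 112908) (.node (.node (.node .leaf (65810, 0, 13, 137919) .leaf) (65812, 0, 15, 232912) (.node .leaf (65815, 0, 16, 146572) .leaf)) (65816, 0, 17, 71761) (.node (.node .leaf (65819, 0, 17, 43277) .leaf) (65821, 0, 18, 81506) (.node .leaf (65822, 0, 17, 136692) .leaf)))) (65825, 0, 16, 51884) (.node (.node (.node (.node .leaf (65826, 0, 16, 69955) .leaf) (65828, 0, 19, 34348) (.node .leaf (65831, 0, 17, 79728) .leaf)) (65832, 0, 16, 134994) (.node (.node .leaf (65835, 0, 16, 245521) .leaf) (65837, 0, 11, 185879) (.node .leaf (65838, 0, 14, 222804) .leaf))) (65840, 0, 15, 36807) (.node (.node (.node .leaf (65843, 0, 15, 254684) .leaf) (65845, 0, 14, 43508)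 (.node .leaf (65846, 0, 15, 211865) .leaf)) (65849, 0, 16, 146549) (.node (.node .leaf (65850, 0, 15, 232745) .leaf) (65852, 0, 14, 137798) (.node .leaf (65855, 0, 15, 130663) .leaf))))) (65857, 0, 16, 99743) (.node (.node (.node (.node (.node .leaf (65858, 0, 16, 13507) .leaf) (65860, 0, 13, 29338) (.node .leaf (65863, 0, 14, 115417) .leaf)) (65864, 0, 13, 210477) (.node (.node .leaf (65867, 0, 13, 253538) .leaf) (65869, 0, 11, 178020) (.node .leaf (65870, 0, 15, 172354) .leaf))) (65872, 0, 11, 144364) (.node (.node (.node .leaf (65875, 0, 17, 6939) .leaf) (65877, 0, 13, 191145) (.node .leaf (65878, 0, 15, 219882) .leaf)) (65881, 0, 18, 62994) (.node (.node .leaf (65882, 0, 15, 174249) .leaf) (65884, 0, 11, 212934) (.node .leaf (65887, 0, 16, 106260) .leaf)))) (65888, 0, 16, 213068) (.node (.node (.node (.node .leaf (65891, 0, 16, 192527) .leaf) (65893, 0, 14, 165768) (.node .leaf (65894, 0, 14, 141642) .leaf)) (65897, 0, 14, 4617) (.node (.node .leaf (65898, 0, 18, 13809) .leaf) (65900, 0, 13, 89335)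 (.node .leaf (65903, 0, 14, 60596) .leaf))) (65905, 0, 15, 167523) (.node (.node (.node .leaf (65906, 0, 13, 212799) .leaf) (65908, 0, 16, 65850) (.node .leaf (65911, 0, 17, 203020) .leaf)) (65912, 0, 16, 204161) (.node (.node .leaf (65915, 0, 16, 101517) .leaf) (65917, 0, 16, 7138) (.node .leaf (65918, 0, 17, 109246) .leaf))))))

/-- part of the orbit tree -/
def itp2_5 : Tree := (.node itp2_1 (65537, 0, 17, 25389) itp2_2)

/-- part of the orbit tree -/
def itp2_6 : Tree := (.node itp2_3 (65792, 0, 16, 205119) itp2_4)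

/-- part of the orbit tree -/
def itp2_7 : Tree := (.node (.node (.node (.node (.node (.node .leaf (65923, 0, 15, 99598) .leaf) (65925, 0, 14, 94064) (.node .leaf (65926, 0, 11, 57139) .leaf)) (65929, 0, 14, 165856) (.node (.node .leaf (65930, 0, 18, 210620) .leaf) (65932, 0, 15, 240270) (.node .leaf (65935, 0, 13, 200847) .leaf))) (65937, 0, 18, 7050) (.node (.node (.node .leaf (65938, 0, 17, 171589) .leaf) (65940, 0, 13, 15801) (.node .leaf (65943, 0, 14, 101605) .leaf)) (65944, 0, 15, 174136) (.node (.node .leaf (65947, 0, 15, 23483) .leaf) (65949, 0, 16, 167435) (.node .leaf (65950, 0, 18, 33534) .leaf)))) (65953, 0, 14, 200822) (.node (.node (.node (.node .leaf (65954, 0, 17, 172330) .leaf) (65956, 0, 17, 210501) (.node .leaf (65959, 0, 18, 165657) .leaf)) (65960, 0, 15, 107460) (.node (.node .leaf (65963, 0, 16, 4760) .leaf) (65965, 0, 16, 16669) (.node .leaf (65966, 0, 15, 13483) .leaf))) (65968, 0, 17, 212910) (.node (.node (.node .leaf (65971, 0, 17, 95702) .leaf) (65973, 0, 17, 203165)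 (.node .leaf (65974, 0, 16, 109715) .leaf)) (65977, 0, 15, 131179) (.node (.node .leaf (65978, 0, 18, 241704) .leaf) (65980, 0, 16, 109103) (.node .leaf (65983, 0, 12, 7027) .leaf))))) (65985, 0, 16, 146645) (.node (.node (.node (.node (.node .leaf (65986, 0, 18, 232598) .leaf) (65988, 0, 17, 136133) (.node .leaf (65991, 0, 17, 218579) .leaf)) (65992, 0, 14, 63787) (.node (.node .leaf (65995, 0, 15, 84328) .leaf) (65997, 0, 15, 41079) (.node .leaf (65998, 0, 14, 102445) .leaf))) (66000, 0, 15, 42214) (.node (.node (.node .leaf (66003, 0, 15, 70821) .leaf) (66005, 0, 17, 32163) (.node .leaf (66006, 0, 17, 118240) .leaf)) (66009, 0, 15, 43420) (.node (.node .leaf (66010, 0, 17, 71872) .leaf) (66012, 0, 17, 36783) (.node .leaf (66015, 0, 18, 81651) .leaf)))) (66016, 0, 14, 70098) (.node (.node (.node (.node .leaf (66019, 0, 12, 26373) .leaf) (66021, 0, 18, 69123) (.node .leaf (66022, 0, 16, 34493) .leaf)) (66025, 0, 14, 201400) (.node (.node .leaf (66026, 0, 17, 172795) .leaf) (66028, 0, 11, 248829)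 (.node .leaf (66031, 0, 16, 144655) .leaf))) (66033, 0, 16, 216949) (.node (.node (.node .leaf (66034, 0, 18, 36694) .leaf) (66036, 0, 17, 235056) (.node .leaf (66039, 0, 17, 43365) .leaf)) (66040, 0, 17, 232888) (.node (.node .leaf (66043, 0, 18, 15048) .leaf) (66045, 0, 18, 86990) (.node .leaf (66046, 0, 16, 58253) .leaf))))))

/-- part of the orbit tree -/
def itp2_8 : Tree := (.node (.node (.node (.node (.node (.node .leaf (66049, 0, 15, 20317) .leaf) (66054, 0, 15, 116285) (.node .leaf (66055, 0, 16, 75355) .leaf)) (66058, 0, 17, 25626) (.node (.node .leaf (66059, 0, 18, 146740) .leaf) (66060, 0, 18, 177024) (.node .leaf (66061, 0, 14, 240219) .leaf))) (66066, 0, 18, 194672) (.node (.node (.node .leaf (66067, 0, 16, 223021) .leaf) (66068, 0, 14, 225055) (.node .leaf (66069, 0, 16, 134699) .leaf)) (66072, 0, 17, 62198) (.node (.node .leaf (66073, 0, 17, 4752) .leaf) (66078, 0, 16, 28145) (.node .leaf (66079, 0, 16, 144607) .leaf)))) (66082, 0, 18, 127884) (.node (.node (.node (.node .leaf (66083,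 0, 16, 136333) .leaf) (66084, 0, 19, 237037) (.node .leaf (66085, 0, 14, 228747) .leaf)) (66088, 0, 16, 98646) (.node (.node .leaf (66089, 0, 16, 43084) .leaf) (66094, 0, 16, 222733) (.node .leaf (66095, 0, 16, 2102) .leaf))) (66096, 0, 15, 27912) (.node (.node (.node .leaf (66097, 0, 17, 81149) .leaf) (66102, 0, 15, 129639) (.node .leaf (66103, 0, 16, 238409) .leaf)) (66106, 0, 16, 225254) (.node (.node .leaf (66107, 0, 14, 79560) .leaf) (66108, 0, 16, 194697) (.node .leaf (66109, 0, 16, 204870) .leaf))))) (66114, 0, 16, 54796) (.node (.node (.node (.node (.node .leaf (66115, 0, 15, 161278) .leaf) (66116, 0, 17, 82275) (.node .leaf (66117, 0, 18, 202829) .leaf)) (66120, 0, 15, 251106) (.node (.node .leaf (66121, 0, 17, 65603) .leaf) (66126, 0, 14, 148365) (.node .leaf (66127, 0, 16, 6819) .leaf))) (66128, 0, 16, 114152) (.node (.node (.node .leaf (66129, 0, 16, 89486) .leaf) (66134, 0, 16, 54510) (.node .leaf (66135, 0, 14, 165577) .leaf)) (66138, 0, 14, 182357) (.node (.node .leaf (66139, 0, 17,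 4936) .leaf) (66140, 0, 18, 253193) (.node .leaf (66141, 0, 18, 213301) .leaf)))) (66144, 0, 16, 148340) (.node (.node (.node (.node .leaf (66145, 0, 18, 11822) .leaf) (66150, 0, 14, 108366) (.node .leaf (66151, 0, 16, 101685) .leaf)) (66154, 0, 13, 82330) (.node (.node .leaf (66155, 0, 16, 202932) .leaf) (66156, 0, 16, 55029) (.node .leaf (66157, 0, 19, 144021) .leaf))) (66162, 0, 13, 253424) (.node (.node (.node .leaf (66163, 0, 16, 198238) .leaf) (66164, 0, 14, 150175) (.node .leaf (66165, 0, 17, 159576) .leaf)) (66168, 0, 17, 57118) (.node (.node .leaf (66169, 0, 16, 29667) .leaf) (66174, 0, 18, 129667) (.node .leaf (66175, 0, 14, 72421) .leaf))))))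

/-- part of the orbit tree -/
def itp2_9 : Tree := (.node (.node (.node (.node (.node (.node .leaf (66177, 0, 16, 167859) .leaf) (66182, 0, 18, 217399) (.node .leaf (66183, 0, 15, 242001) .leaf)) (66186, 0, 17, 85388) (.node (.node .leaf (66187, 0, 15, 101725) .leaf) (66188, 0, 18, 9354) (.node .leaf (66189, 0, 18, 6706) .leaf))) (66194, 0, 16, 83993) (.node (.node (.node .leaf (66195, 0, 16, 127015) .leaf) (66196, 0, 16, 57206) (.node .leaf (66197, 0, 16, 165464) .leaf)) (66200, 0, 14, 150263) (.node (.node .leaf (66201, 0, 16, 5081) .leaf) (66206, 0, 17, 253336) (.node .leaf (66207, 0, 15, 99510) .leaf)))) (66210, 0, 15, 148453) (.node (.node (.node (.node .leaf (66211, 0, 17, 33671) .leaf) (66212, 0, 18, 68327) (.node .leaf (66213, 0, 18, 101796) .leaf)) (66216, 0, 13, 202332) (.node (.node .leaf (66217, 0, 13, 202789) .leaf) (66222, 0, 15, 163674) (.node .leaf (66223, 0, 16, 167754) .leaf))) (66224, 0, 17, 215953) (.node (.node (.node .leaf (66225, 0, 15, 240631) .leaf) (66230, 0, 17, 139927)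 (.node .leaf (66231, 0, 16, 180977) .leaf)) (66234, 0, 15, 15916) (.node (.node .leaf (66235, 0, 14, 165537) .leaf) (66236, 0, 14, 84192) (.node .leaf (66237, 0, 13, 112460) .leaf))))) (66242, 0, 16, 222821) (.node (.node (.node (.node (.node .leaf (66243, 0, 16, 81739) .leaf) (66244, 0, 16, 192778) (.node .leaf (66245, 0, 17, 101362) .leaf)) (66248, 0, 18, 227119) (.node (.node .leaf (66249, 0, 17, 235337) .leaf) (66254, 0, 16, 138793) (.node .leaf (66255, 0, 15, 240330) .leaf))) (66256, 0, 15, 207586) (.node (.node (.node .leaf (66257, 0, 17, 41423) .leaf) (66262, 0, 18, 225166) (.node .leaf (66263, 0, 18, 79520) .leaf)) (66266, 0, 17, 24415) (.node (.node .leaf (66267, 0, 15, 238369) .leaf) (66268, 0, 17, 28000) (.node .leaf (66269, 0, 16, 120383) .leaf)))) (66272, 0, 16, 153922) (.node (.node (.node (.node .leaf (66273, 0, 17, 178468) .leaf) (66278, 0, 15, 25714) (.node .leaf (66279, 0, 18, 249890) .leaf)) (66282, 0, 16, 193011) (.node (.node .leaf (66283, 0, 18, 43229) .leaf) (66284, 0, 16, 222876)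 (.node .leaf (66285, 0, 13, 81842) .leaf))) (66290, 0, 17, 28057) (.node (.node (.node .leaf (66291, 0, 18, 144567) .leaf) (66292, 0, 17, 129782) (.node .leaf (66293, 0, 16, 63570) .leaf)) (66296, 0, 13, 132239) (.node (.node .leaf (66297, 0, 17, 79449) .leaf) (66302, 0, 14, 194584) (.node .leaf (66303, 0, 17, 232943) .leaf))))))

/-- part of the orbit tree -/
def itp2_10 : Tree := (.node (.node (.node (.node (.node (.node .leaf (66307, 0, 17, 179468) .leaf) (66308, 0, 13, 130570) (.node .leaf (66309, 0, 17, 250890) .leaf)) (66312, 0, 17, 224139) (.node (.node .leaf (66313, 0, 15, 116913) .leaf) (66318, 0, 13, 16849) (.node .leaf (66319, 0, 17, 41399) .leaf))) (66320, 0, 18, 128993) (.node (.node (.node .leaf (66321, 0, 15, 103804) .leaf) (66326, 0, 17, 7196) (.node .leaf (66327, 0, 16, 64634) .leaf)) (66330, 0, 16, 193807) (.node (.node .leaf (66331, 0, 12, 44065) .leaf) (66332, 0, 15, 221792) (.node .leaf (66333, 0, 17, 80718) .leaf)))) (66336, 0, 16, 195613) (.node (.node (.node (.node .leaf (66337,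 0, 17, 59100) .leaf) (66342, 0, 18, 94140) (.node .leaf (66343, 0, 16, 78428) .leaf)) (66346, 0, 13, 130803) (.node (.node .leaf (66347, 0, 16, 234337) .leaf) (66348, 0, 16, 137729) (.node .leaf (66349, 0, 13, 195175) .leaf))) (66354, 0, 18, 221849) (.node (.node (.node .leaf (66355, 0, 15, 249516) .leaf) (66356, 0, 17, 149452) (.node .leaf (66357, 0, 15, 44248) .leaf)) (66360, 0, 17, 23415) (.node (.node .leaf (66361, 0, 17, 47889) .leaf) (66366, 0, 18, 128792) (.node .leaf (66367, 0, 16, 241206) .leaf))))) (66368, 0, 15, 26569) (.node (.node (.node (.node (.node .leaf (66369, 0, 17, 98483) .leaf) (66374, 0, 13, 69327) (.node .leaf (66375, 0, 16, 126633) .leaf)) (66378, 0, 17, 201332) (.node (.node .leaf (66379, 0, 16, 258578) .leaf) (66380, 0, 15, 85020) (.node .leaf (66381, 0, 16, 170772) .leaf))) (66386, 0, 16, 149273) (.node (.node (.node .leaf (66387, 0, 18, 7735) .leaf) (66388, 0, 14, 249974) (.node .leaf (66389, 0, 17, 100696) .leaf)) (66392, 0, 16, 83447) (.node (.node .leaf (66393, 0, 15,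 203993) .leaf) (66398, 0, 14, 86786) (.node .leaf (66399, 0, 16, 111460) .leaf)))) (66402, 0, 15, 85221) (.node (.node (.node (.node .leaf (66403, 0, 17, 202187) .leaf) (66404, 0, 18, 218399) (.node .leaf (66405, 0, 14, 243065) .leaf)) (66408, 0, 16, 84388) (.node (.node .leaf (66409, 0, 17, 5925) .leaf) (66414, 0, 17, 8354) (.node .leaf (66415, 0, 17, 98378) .leaf))) (66416, 0, 17, 70761) (.node (.node (.node .leaf (66417, 0, 17, 128015) .leaf) (66422, 0, 14, 32111) (.node .leaf (66423, 0, 17, 40201) .leaf)) (66426, 0, 13, 249999) (.node (.node .leaf (66427, 0, 16, 164274) .leaf) (66428, 0, 17, 198866) .leaf)))))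

/-- part of the orbit tree -/
def itp2_11 : Tree := (.node itp2_7 (66048, 0, 17, 222964) itp2_8)

/-- part of the orbit tree -/
def itp2_12 : Tree := (.node itp2_9 (66306, 0, 13, 154986) itp2_10)

/-- part of the orbit tree -/
def itp2_13 : Tree := (.node itp2_5 (65665, 0, 18, 193575) itp2_6)

/-- part of the orbit tree -/
def itp2_14 : Tree := (.node itp2_11 (66176, 0, 15, 145457) itp2_12)

/-- part of the orbit tree -/
def itp2_15 : Tree := (.node (.node (.node (.node (.node (.node .leaf (66434, 0, 17, 252172) .leaf) (66435, 0, 17, 10758) (.node .leaf (66436, 0, 18, 151139) .leaf)) (66437, 0, 11, 82688) (.node (.node .leaf (66440, 0, 14, 56290) .leaf) (66441, 0, 15, 221115) (.node .leaf (66446, 0, 17, 85133) .leaf))) (66447, 0, 16, 145085) (.node (.node (.node .leaf (66448, 0, 16, 149384) .leaf) (66449, 0, 13, 197238) (.node .leaf (66454, 0, 17, 250087) .leaf)) (66455, 0, 15, 158576) (.node (.node .leaf (66458, 0, 16, 38829) .leaf) (66459, 0, 9, 30667) (.node .leaf (66460, 0, 13, 130731) .leaf))))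 (66461, 0, 14, 73421) (.node (.node (.node (.node .leaf (66464, 0, 13, 168368) .leaf) (66465, 0, 13, 160214) (.node .leaf (66470, 0, 17, 260278) .leaf)) (66471, 0, 18, 202960) (.node (.node .leaf (66474, 0, 15, 151194) .leaf) (66475, 0, 16, 6068) (.node .leaf (66476, 0, 16, 252405) .leaf))) (66477, 0, 16, 28013) (.node (.node (.node .leaf (66482, 0, 16, 113088) .leaf) (66483, 0, 14, 166878) (.node .leaf (66484, 0, 12, 53446) .leaf)) (66485, 0, 12, 203953) (.node (.node .leaf (66488, 0, 16, 249886) .leaf) (66489, 0, 16, 100656) (.node .leaf (66494, 0, 11, 238971) .leaf))))) (66495, 0, 14, 214301) (.node (.node (.node (.node (.node .leaf (66496, 0, 16, 27124) .leaf) (66497, 0, 16, 135333) (.node .leaf (66502, 0, 16, 235973) .leaf)) (66503, 0, 16, 239541) (.node (.node .leaf (66506, 0, 15, 224026) .leaf) (66507, 0, 18, 91416) (.node .leaf (66508, 0, 18, 60536) .leaf))) (66509, 0, 15, 3102) (.node (.node (.node .leaf (66514, 0, 17, 128880) .leaf) (66515, 0, 15, 241246) (.node .leaf (66516, 0, 14, 45493)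 .leaf)) (66517, 0, 17, 20947) (.node (.node .leaf (66520, 0, 17, 175374) .leaf) (66521, 0, 18, 44208) (.node .leaf (66526, 0, 17, 221937) .leaf)))) (66527, 0, 15, 205934) (.node (.node (.node (.node .leaf (66530, 0, 15, 195724) .leaf) (66531, 0, 18, 19317) (.node .leaf (66532, 0, 16, 224227) .leaf)) (66533, 0, 13, 74355) (.node (.node .leaf (66536, 0, 16, 253614) .leaf) (66537, 0, 15, 239436) (.node .leaf (66542, 0, 15, 178088) .leaf))) (66543, 0, 16, 153550) (.node (.node (.node .leaf (66544, 0, 13, 230243) .leaf) (66545, 0, 16, 221957) (.node .leaf (66550, 0, 17, 193895) .leaf)) (66551, 0, 18, 133635) (.node (.node .leaf (66554, 0, 14, 63198) .leaf) (66555, 0, 17, 145864) (.node .leaf (66556, 0, 16, 128905) .leaf))))))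

/-- part of the orbit tree -/
def itp2_16 : Tree := (.node (.node (.node (.node (.node (.node .leaf (66560, 0, 8, 104931) .leaf) (66562, 0, 15, 231006) (.node .leaf (66565, 0, 17, 18463) .leaf)) (66567, 0, 18, 237677) (.node (.node .leaf (66569, 0, 14, 187806) .leaf) (66571, 0, 17, 134200) (.node .leaf (66572, 0, 14, 195501) .leaf))) (66574, 0, 10, 185725) (.node (.node (.node .leaf (66577, 0, 15, 197072) .leaf) (66579, 0, 19, 152053) (.node .leaf (66580, 0, 16, 26567) .leaf)) (66582, 0, 17, 233397) (.node (.node .leaf (66584, 0, 14, 193094) .leaf) (66586, 0, 17, 72244) (.node .leaf (66589, 0, 18, 185461) .leaf)))) (66591, 0, 5, 80903) (.node (.node (.node (.node .leaf (66593, 0, 17, 215560) .leaf) (66595, 0, 12, 41594) (.node .leaf (66596, 0, 14, 224315) .leaf)) (66598, 0, 15, 260880) (.node (.node .leaf (66600, 0, 17, 46990) .leaf) (66602, 0, 14, 135624) (.node .leaf (66605, 0, 16, 28363) .leaf))) (66607, 0, 16, 81646) (.node (.node (.node .leaf (66608, 0, 13, 222672) .leaf) (66610, 0, 16, 113254)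 (.node .leaf (66613, 0, 16, 13062) .leaf)) (66615, 0, 14, 90915) (.node (.node .leaf (66617, 0, 13, 143293) .leaf) (66619, 0, 15, 146960) (.node .leaf (66620, 0, 17, 127057) .leaf))))) (66622, 0, 18, 137251) (.node (.node (.node (.node (.node .leaf (66625, 0, 18, 159624) .leaf) (66627, 0, 14, 100346) (.node .leaf (66628, 0, 18, 182854) .leaf)) (66630, 0, 17, 236131) (.node (.node .leaf (66632, 0, 14, 55037) .leaf) (66634, 0, 13, 209992) (.node .leaf (66637, 0, 15, 4024) .leaf))) (66639, 0, 16, 90013) (.node (.node (.node .leaf (66640, 0, 14, 35632) .leaf) (66642, 0, 16, 108578) (.node .leaf (66645, 0, 11, 21109) .leaf)) (66647, 0, 17, 66128) (.node (.node .leaf (66649, 0, 16, 151246) .leaf) (66651, 0, 12, 204523) (.node .leaf (66652, 0, 17, 54737) .leaf)))) (66654, 0, 14, 247726) (.node (.node (.node (.node .leaf (66656, 0, 17, 129168) .leaf) (66658, 0, 17, 173022) (.node .leaf (66661, 0, 17, 74197) .leaf)) (66663, 0, 15, 165357) (.node (.node .leaf (66665, 0, 15, 212334) .leaf) (66667, 0, 17, 159051)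 (.node .leaf (66668, 0, 15, 253485) .leaf))) (66670, 0, 19, 177166) (.node (.node (.node .leaf (66673, 0, 18, 221347) .leaf) (66675, 0, 17, 143494) (.node .leaf (66676, 0, 15, 244198) .leaf)) (66678, 0, 15, 174645) (.node (.node .leaf (66680, 0, 16, 107869) .leaf) (66682, 0, 16, 62840) (.node .leaf (66685, 0, 12, 258549) .leaf))))))

/-- part of the orbit tree -/
def itp2_17 : Tree := (.node (.node (.node (.node (.node (.node .leaf (66688, 0, 17, 253509) .leaf) (66690, 0, 15, 13879) (.node .leaf (66693, 0, 17, 260214) .leaf)) (66695, 0, 17, 165769) (.node (.node .leaf (66697, 0, 16, 117527) .leaf) (66699, 0, 14, 39730) (.node .leaf (66700, 0, 17, 84932) .leaf))) (66702, 0, 17, 172982) (.node (.node (.node .leaf (66705, 0, 16, 104154) .leaf) (66707, 0, 13, 6639) (.node .leaf (66708, 0, 17, 85919) .leaf)) (66710, 0, 14, 16348) (.node (.node .leaf (66712, 0, 12, 82479) .leaf) (66714, 0, 17, 131841) (.node .leaf (66717, 0, 16, 232033) .leaf)))) (66719, 0, 16, 186948) (.node (.node (.node (.node .leaf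 (66721, 0, 16, 58746) .leaf) (66723, 0, 12, 111967) (.node .leaf (66724, 0, 18, 15423) .leaf)) (66726, 0, 17, 209952) (.node (.node .leaf (66728, 0, 15, 139396) .leaf) (66730, 0, 9, 106913) (.node .leaf (66733, 0, 17, 159712) .leaf))) (66735, 0, 16, 100242) (.node (.node (.node .leaf (66736, 0, 14, 54713) .leaf) (66738, 0, 17, 208236) (.node .leaf (66741, 0, 18, 173068) .leaf)) (66743, 0, 14, 259113) (.node (.node .leaf (66745, 0, 16, 47287) .leaf) (66747, 0, 16, 102009) (.node .leaf (66748, 0, 16, 147512) .leaf))))) (66750, 0, 16, 108618) (.node (.node (.node (.node (.node .leaf (66753, 0, 15, 33801) .leaf) (66755, 0, 18, 119852) (.node .leaf (66756, 0, 15, 23884) .leaf)) (66758, 0, 9, 68969) (.node (.node .leaf (66760, 0, 15, 147959) .leaf) (66762, 0, 15, 201170) (.node .leaf (66765, 0, 17, 215648) .leaf))) (66767, 0, 17, 41490) (.node (.node (.node .leaf (66768, 0, 16, 127033) .leaf) (66770, 0, 15, 216095) (.node .leaf (66773, 0, 18, 120330) .leaf)) (66775, 0, 19, 147064) (.node (.node .leaf (66777,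 0, 14, 213899) .leaf) (66779, 0, 15, 100833) (.node .leaf (66780, 0, 15, 129) .leaf)))) (66782, 0, 14, 36298) (.node (.node (.node (.node .leaf (66784, 0, 15, 225178) .leaf) (66786, 0, 14, 147391) (.node .leaf (66789, 0, 16, 187894) .leaf)) (66791, 0, 18, 79236) (.node (.node .leaf (66793, 0, 18, 18551) .leaf) (66795, 0, 18, 237573) (.node .leaf (66796, 0, 18, 28228) .leaf))) (66798, 0, 16, 230966) (.node (.node (.node .leaf (66801, 0, 14, 128937) .leaf) (66803, 0, 16, 81007) (.node .leaf (66804, 0, 14, 77548) .leaf)) (66806, 0, 16, 72284) (.node (.node .leaf (66808, 0, 17, 209495) .leaf) (66810, 0, 16, 233437) (.node .leaf (66813, 0, 16, 16796) .leaf))))))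

/-- part of the orbit tree -/
def itp2_18 : Tree := (.node (.node (.node (.node (.node (.node .leaf (66817, 0, 17, 184545) .leaf) (66819, 0, 16, 80019) (.node .leaf (66820, 0, 12, 131764) .leaf)) (66822, 0, 15, 217745) (.node (.node .leaf (66824, 0, 16, 7695) .leaf) (66826, 0, 15, 232225) (.node .leaf (66829, 0, 15, 51018) .leaf))) (66831, 0, 16, 104303) (.node (.node (.node .leaf (66832, 0, 15, 196409) .leaf) (66834, 0, 15, 70631) (.node .leaf (66837, 0, 16, 39559) .leaf)) (66839, 0, 16, 78200) (.node (.node .leaf (66841, 0, 15, 19595) .leaf) (66843, 0, 18, 238841) (.node .leaf (66844, 0, 12, 155513) .leaf)))) (66846, 0, 15, 200540) (.node (.node (.node (.node .leaf (66848, 0, 18, 128197) .leaf) (66850, 0, 12, 138423) (.node .leaf (66853, 0, 13, 119542) .leaf)) (66855, 0, 17, 146052) (.node (.node .leaf (66857, 0, 16, 259484) .leaf) (66859, 0, 16, 173497) (.node .leaf (66860, 0, 16, 221508) .leaf))) (66862, 0, 15, 35126) (.node (.node (.node .leaf (66865, 0, 13, 121629) .leaf) (66867, 0, 17, 144239)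 (.node .leaf (66868, 0, 18, 225556) .leaf)) (66870, 0, 13, 136540) (.node (.node .leaf (66872, 0, 16, 93615) .leaf) (66874, 0, 17, 32989) (.node .leaf (66877, 0, 17, 111850) .leaf))))) (66879, 0, 18, 42734) (.node (.node (.node (.node (.node .leaf (66880, 0, 12, 53573) .leaf) (66882, 0, 17, 211255) (.node .leaf (66885, 0, 16, 100436) .leaf)) (66887, 0, 16, 55409) (.node (.node .leaf (66889, 0, 18, 234735) .leaf) (66891, 0, 15, 181450) (.node .leaf (66892, 0, 17, 148676) .leaf))) (66894, 0, 17, 109750) (.node (.node (.node .leaf (66897, 0, 15, 65181) .leaf) (66899, 0, 17, 170247) (.node .leaf (66900, 0, 16, 200807) .leaf)) (66902, 0, 16, 147522) (.node (.node .leaf (66904, 0, 16, 68828) .leaf) (66906, 0, 16, 107869) (.node .leaf (66909, 0, 16, 120217) .leaf)))) (66911, 0, 18, 34236) (.node (.node (.node (.node .leaf (66913, 0, 17, 259425) .leaf) (66915, 0, 18, 7443) (.node .leaf (66916, 0, 13, 156615) .leaf)) (66918, 0, 12, 209890) (.node (.node .leaf (66920, 0, 16, 83667) .leaf) (66922, 0, 16, 77657)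 (.node .leaf (66925, 0, 15, 42553) .leaf))) (66927, 0, 15, 128540) (.node (.node (.node .leaf (66928, 0, 16, 252601) .leaf) (66930, 0, 15, 13003) (.node .leaf (66933, 0, 14, 261258) .leaf)) (66935, 0, 17, 109521) (.node (.node .leaf (66937, 0, 11, 190287) .leaf) (66939, 0, 15, 243562) (.node .leaf (66940, 0, 13, 85816) .leaf))))))

/-- part of the orbit tree -/
def itp2_19 : Tree := (.node itp2_15 (66557, 0, 18, 241319) itp2_16)

/-- part of the orbit tree -/
def itp2_20 : Tree := (.node itp2_17 (66815, 0, 16, 178999) itp2_18)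

/-- part of the orbit tree -/
def itp2_21 : Tree := (.node (.node (.node (.node (.node (.node .leaf (66945, 0, 14, 90248) .leaf) (66947, 0, 15, 72926) (.node .leaf (66948, 0, 14, 38334) .leaf)) (66950, 0, 11, 175817) (.node (.node .leaf (66952, 0, 16, 166149) .leaf) (66954, 0, 18, 252192) (.node .leaf (66957, 0, 17, 259337) .leaf))) (66959, 0, 17, 196709) (.node (.node (.node .leaf (66960, 0, 16, 185544) .leaf) (66962, 0, 17, 230637) (.node .leaf (66965, 0, 18, 134541) .leaf)) (66967, 0, 15, 220584) (.node (.node .leaf (66969, 0, 18, 261346) .leaf) (66971, 0, 15, 5264) (.node .leaf (66972, 0, 12, 252625) .leaf)))) (66974, 0, 16, 12963) (.node (.node (.node (.node .leaf (66976, 0, 13, 239464) .leaf) (66978, 0, 16, 194381) (.node .leaf (66981, 0, 16, 228909) .leaf)) (66983, 0, 17, 142856) (.node (.node .leaf (66985, 0, 15, 63262) .leaf) (66987, 0, 17, 204652) (.node .leaf (66988, 0, 14, 53549) .leaf))) (66990, 0, 15, 60406) (.node (.node (.node .leaf (66993, 0, 17, 81755) .leaf) (66995, 0, 16, 99078)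 (.node .leaf (66996, 0, 17, 124446) .leaf)) (66998, 0, 16, 107829) (.node (.node .leaf (67000, 0, 13, 55494) .leaf) (67002, 0, 18, 174720) (.node .leaf (67005, 0, 15, 205792) .leaf))))) (67007, 0, 17, 160709) (.node (.node (.node (.node (.node .leaf (67008, 0, 18, 247323) .leaf) (67010, 0, 15, 35166) (.node .leaf (67013, 0, 15, 214815) .leaf)) (67015, 0, 15, 151419) (.node (.node .leaf (67017, 0, 14, 66533) .leaf) (67019, 0, 14, 146156) (.node .leaf (67020, 0, 18, 121504) .leaf))) (67022, 0, 16, 35461) (.node (.node (.node .leaf (67025, 0, 18, 216820) .leaf) (67027, 0, 17, 42630) (.node .leaf (67028, 0, 14, 100205) .leaf)) (67030, 0, 17, 55112) (.node (.node .leaf (67032, 0, 16, 130374) .leaf) (67034, 0, 10, 136500) (.node .leaf (67037, 0, 16, 213651) .leaf)))) (67039, 0, 13, 144135) (.node (.node (.node (.node .leaf (67041, 0, 14, 11656) .leaf) (67043, 0, 18, 97709) (.node .leaf (67044, 0, 17, 62669) .leaf)) (67046, 0, 13, 107752) (.node (.node .leaf (67048, 0, 14, 194234) .leaf) (67050, 0, 16, 243795)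 (.node .leaf (67053, 0, 16, 184457) .leaf))) (67055, 0, 13, 221462) (.node (.node (.node .leaf (67056, 0, 13, 27344) .leaf) (67058, 0, 19, 230050) (.node .leaf (67061, 0, 17, 19683) .leaf)) (67063, 0, 17, 212187) (.node (.node .leaf (67065, 0, 16, 28741) .leaf) (67067, 0, 17, 78096) (.node .leaf (67068, 0, 14, 196433) .leaf))))))

/-- part of the orbit tree -/
def itp2_22 : Tree := (.node (.node (.node (.node (.node (.node .leaf (67076, 0, 16, 101552) .leaf) (67077, 0, 17, 93398) (.node .leaf (67078, 0, 15, 56469) .leaf)) (67079, 0, 17, 238913) (.node (.node .leaf (67080, 0, 17, 233483) .leaf) (67081, 0, 16, 225389) (.node .leaf (67082, 0, 16, 180270) .leaf))) (67083, 0, 13, 139336) (.node (.node (.node .leaf (67088, 0, 18, 138742) .leaf) (67089, 0, 17, 208288) (.node .leaf (67090, 0, 16, 128388) .leaf)) (67091, 0, 14, 240810) (.node (.node .leaf (67100, 0, 16, 34935) .leaf) (67101, 0, 16, 184665) (.node .leaf (67102, 0, 18, 221189) .leaf)))) (67103, 0, 14, 24894) (.node (.node (.node (.node .leaf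 (67104, 0, 17, 179814) .leaf) (67105, 0, 16, 216868) (.node .leaf (67106, 0, 18, 257603) .leaf)) (67107, 0, 16, 42838) (.node (.node .leaf (67116, 0, 16, 230283) .leaf) (67117, 0, 17, 17083) (.node .leaf (67118, 0, 17, 127736) .leaf))) (67119, 0, 15, 70302) (.node (.node (.node .leaf (67124, 0, 16, 65296) .leaf) (67125, 0, 14, 8054) (.node .leaf (67126, 0, 17, 194451) .leaf)) (67127, 0, 16, 44733) (.node (.node .leaf (67128, 0, 14, 232032) .leaf) (67129, 0, 16, 119630) (.node .leaf (67130, 0, 13, 25106) .leaf))))) (67131, 0, 16, 146236) (.node (.node (.node (.node (.node .leaf (67136, 0, 15, 188181) .leaf) (67137, 0, 18, 147315) (.node .leaf (67138, 0, 17, 233264) .leaf)) (67139, 0, 12, 225110) (.node (.node .leaf (67148, 0, 16, 50094) .leaf) (67149, 0, 15, 65317) (.node .leaf (67150, 0, 16, 85625) .leaf))) (67151, 0, 18, 95213) (.node (.node (.node .leaf (67156, 0, 17, 40547) .leaf) (67157, 0, 16, 32261) (.node .leaf (67158, 0, 16, 118342) .leaf)) (67159, 0, 15, 101181) (.node (.node .leaf (67160,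 0, 17, 176096) .leaf) (67161, 0, 15, 156350) (.node .leaf (67162, 0, 18, 83858) .leaf)))) (67163, 0, 17, 204476) (.node (.node (.node (.node .leaf (67172, 0, 10, 209309) .leaf) (67173, 0, 17, 69029) (.node .leaf (67174, 0, 16, 55791) .leaf)) (67175, 0, 14, 164033) (.node (.node .leaf (67176, 0, 15, 107548) .leaf) (67177, 0, 15, 261426) (.node .leaf (67178, 0, 17, 150638) .leaf))) (67179, 0, 14, 147771) (.node (.node (.node .leaf (67184, 0, 16, 211062) .leaf) (67185, 0, 16, 90456) (.node .leaf (67186, 0, 12, 195728) .leaf)) (67187, 0, 17, 166186) (.node (.node .leaf (67196, 0, 13, 110071) .leaf) (67197, 0, 17, 86120) (.node .leaf (67198, 0, 16, 148869) .leaf))))))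

/-- part of the orbit tree -/
def itp2_23 : Tree := (.node (.node (.node (.node (.node (.node .leaf (67204, 0, 17, 203706) .leaf) (67205, 0, 17, 261466) (.node .leaf (67206, 0, 10, 150534) .leaf)) (67207, 0, 12, 5416) (.node (.node .leaf (67208, 0, 13, 209397) .leaf) (67209, 0, 19, 92379) (.node .leaf (67210, 0, 14, 22308) .leaf))) (67211, 0, 13, 164009) (.node (.node (.node .leaf (67216, 0, 16, 109983) .leaf) (67217, 0, 18, 259249) (.node .leaf (67218, 0, 18, 2793) .leaf)) (67219, 0, 14, 7363) (.node (.node .leaf (67228, 0, 17, 214647) .leaf) (67229, 0, 17, 239121) (.node .leaf (67230, 0, 16, 136786) .leaf)))) (67231, 0, 18, 194100) (.node (.node (.node (.node .leaf (67232, 0, 17, 173667) .leaf) (67233, 0, 16, 65357) (.node .leaf (67234, 0, 16, 85521) .leaf)) (67235, 0, 14, 202559) (.node (.node .leaf (67244, 0, 18, 144855) .leaf) (67245, 0, 16, 158412) (.node .leaf (67246, 0, 15, 222706) .leaf))) (67247, 0, 17, 230804) (.node (.node (.node .leaf (67252, 0, 17, 176008) .leaf) (67253, 0, 14, 166012)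 (.node .leaf (67254, 0, 15, 83962) .leaf)) (67255, 0, 13, 251993) (.node (.node .leaf (67256, 0, 17, 14857) .leaf) (67257, 0, 16, 38087) (.node .leaf (67258, 0, 16, 250491) .leaf))))) (67259, 0, 10, 115938) (.node (.node (.node (.node (.node .leaf (67264, 0, 17, 18463) .leaf) (67265, 0, 13, 43129) (.node .leaf (67266, 0, 17, 71738) .leaf)) (67267, 0, 13, 144063) (.node (.node .leaf (67276, 0, 15, 152740) .leaf) (67277, 0, 17, 216908) (.node .leaf (67278, 0, 14, 196112) .leaf))) (67279, 0, 17, 255207) (.node (.node (.node .leaf (67284, 0, 15, 231944) .leaf) (67285, 0, 17, 119590) (.node .leaf (67286, 0, 18, 219468) .leaf)) (67287, 0, 17, 244010) (.node (.node .leaf (67288, 0, 15, 5586) .leaf) (67289, 0, 17, 214695) (.node .leaf (67290, 0, 16, 83447) .leaf)))) (67291, 0, 18, 44757) (.node (.node (.node (.node .leaf (67300, 0, 18, 228041) .leaf) (67301, 0, 16, 236207) (.node .leaf (67302, 0, 18, 223622) .leaf)) (67303, 0, 17, 77992) (.node (.node .leaf (67304, 0, 17, 136309) .leaf) (67305, 0, 17, 19803)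 (.node .leaf (67306, 0, 16, 13911) .leaf))) (67307, 0, 17, 54833) (.node (.node (.node .leaf (67312, 0, 14, 80831) .leaf) (67313, 0, 14, 121817) (.node .leaf (67314, 0, 12, 221293) .leaf)) (67315, 0, 16, 80195) (.node (.node .leaf (67324, 0, 17, 206596) .leaf) (67325, 0, 15, 17584) (.node .leaf (67326, 0, 17, 161569) .leaf))))))

/-- part of the orbit tree -/
def itp2_24 : Tree := (.node (.node (.node (.node (.node (.node .leaf (67328, 0, 14, 137191) .leaf) (67329, 0, 15, 194433) (.node .leaf (67330, 0, 15, 222353) .leaf)) (67331, 0, 9, 239524) (.node (.node .leaf (67340, 0, 16, 2908) .leaf) (67341, 0, 17, 60218) (.node .leaf (67342, 0, 14, 88953) .leaf))) (67343, 0, 16, 113439) (.node (.node (.node .leaf (67348, 0, 16, 34056) .leaf) (67349, 0, 16, 187430) (.node .leaf (67350, 0, 16, 224634) .leaf)) (67351, 0, 17, 78932) (.node (.node .leaf (67352, 0, 14, 135305) .leaf) (67353, 0, 15, 18855) (.node .leaf (67354, 0, 17, 203279) .leaf)))) (67355, 0, 18, 238037) (.node (.node (.node (.node .leaf (67364,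 0, 17, 75057) .leaf) (67365, 0, 16, 116055) (.node .leaf (67366, 0, 17, 26246) .leaf)) (67367, 0, 16, 38258) (.node (.node .leaf (67368, 0, 15, 72565) .leaf) (67369, 0, 18, 252396) (.node .leaf (67370, 0, 16, 158127) .leaf))) (67371, 0, 16, 166345) (.node (.node (.node .leaf (67376, 0, 14, 231199) .leaf) (67377, 0, 15, 230433) (.node .leaf (67378, 0, 17, 144482) .leaf)) (67379, 0, 17, 144963) (.node (.node .leaf (67388, 0, 15, 70302) .leaf) (67389, 0, 13, 104602) (.node .leaf (67390, 0, 17, 195308) .leaf))))) (67391, 0, 16, 41922) (.node (.node (.node (.node (.node .leaf (67396, 0, 17, 174964) .leaf) (67397, 0, 17, 62042) (.node .leaf (67398, 0, 10, 5223) .leaf)) (67399, 0, 17, 62465) (.node (.node .leaf (67400, 0, 16, 219385) .leaf) (67401, 0, 16, 243871) (.node .leaf (67402, 0, 18, 251527) .leaf))) (67403, 0, 16, 102313) (.node (.node (.node .leaf (67408, 0, 11, 172703) .leaf) (67409, 0, 15, 64433) (.node .leaf (67410, 0, 16, 84717) .leaf)) (67411, 0, 14, 177527) (.node (.node .leaf (67420, 0, 13,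 14110) .leaf) (67421, 0, 14, 129513) (.node .leaf (67422, 0, 11, 18858) .leaf)))) (67423, 0, 18, 43468) (.node (.node (.node (.node .leaf (67424, 0, 18, 161428) .leaf) (67425, 0, 18, 169714) (.node .leaf (67426, 0, 18, 206513) .leaf)) (67427, 0, 15, 6207) (.node (.node .leaf (67436, 0, 15, 212194) .leaf) (67437, 0, 16, 35401) (.node .leaf (67438, 0, 15, 54416) .leaf))) (67439, 0, 14, 167358) (.node (.node (.node .leaf (67444, 0, 16, 106632) .leaf) (67445, 0, 17, 55172) (.node .leaf (67446, 0, 15, 92103) .leaf)) (67447, 0, 13, 100257) (.node (.node .leaf (67448, 0, 16, 210185) .leaf) (67449, 0, 14, 183103) .leaf)))))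

/-- part of the orbit tree -/
def itp2_25 : Tree := (.node itp2_21 (67070, 0, 12, 71459) itp2_22)

/-- part of the orbit tree -/
def itp2_26 : Tree := (.node itp2_23 (67327, 0, 16, 169799) itp2_24)

/-- part of the orbit tree -/
def itp2_27 : Tree := (.node itp2_19 (66687, 0, 15, 11325) itp2_20)

/-- part of the orbit tree -/
def itp2_28 : Tree := (.node itp2_25 (67199, 0, 17, 77) itp2_26)

/-- part of the orbit tree -/
def itp2_29 : Tree := (.node itp2_13 (65920, 0, 18, 112181) itp2_14)

/-- part of the orbit tree -/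
def itp2_30 : Tree := (.node itp2_27 (66942, 0, 18, 224815) itp2_28)

/-- part of the orbit tree -/
def itp2_31 : Tree := (.node (.node (.node (.node (.node (.node .leaf (67451, 0, 17, 164949) .leaf) (67456, 0, 15, 212106) (.node .leaf (67457, 0, 13, 24715) .leaf)) (67458, 0, 17, 118984) (.node (.node .leaf (67459, 0, 15, 167382) .leaf) (67468, 0, 15, 108811) (.node .leaf (67469, 0, 18, 258085) .leaf))) (67470, 0, 18, 248947) (.node (.node (.node .leaf (67471, 0, 16, 6231) .leaf) (67476, 0, 17, 180635) (.node .leaf (67477, 0, 15, 139773) .leaf)) (67478, 0, 15, 56595) (.node (.node .leaf (67479, 0, 17, 225752) .leaf) (67480, 0, 16, 106720) (.node .leaf (67481, 0, 18, 260558) .leaf)))) (67482, 0, 16, 149650) (.node (.node (.node (.node .leaf (67483, 0, 17, 4540) .leaf) (67492, 0, 13, 242235) (.node .leaf (67493, 0, 14, 157619) .leaf)) (67494, 0, 15, 188958) (.node (.node .leaf (67495, 0, 15, 102337) .leaf) (67496, 0, 17, 110208) (.node .leaf (67497, 0, 17, 85734) .leaf))) (67498, 0, 13, 82798) (.node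 (.node (.node .leaf (67499, 0, 18, 203328) .leaf) (67504, 0, 16, 127821) (.node .leaf (67505, 0, 15, 70443) .leaf)) (67506, 0, 16, 253700) (.node (.node .leaf (67507, 0, 17, 17166) .leaf) (67516, 0, 17, 172791) (.node .leaf (67517, 0, 16, 200592) .leaf))))) (67518, 0, 12, 180179) (.node (.node (.node (.node (.node .leaf (67519, 0, 15, 155573) .leaf) (67524, 0, 18, 250696) (.node .leaf (67525, 0, 15, 213555) .leaf)) (67526, 0, 15, 193391) (.node (.node .leaf (67527, 0, 19, 43585) .leaf) (67528, 0, 17, 233116) (.node .leaf (67529, 0, 17, 120754) .leaf))) (67530, 0, 14, 40918) (.node (.node (.node .leaf (67531, 0, 16, 32688) .leaf) (67536, 0, 18, 102974) (.node .leaf (67537, 0, 11, 94808) .leaf)) (67538, 0, 15, 49691) (.node (.node .leaf (67539, 0, 13, 41898) .leaf) (67548, 0, 14, 233093) (.node .leaf (67549, 0, 12, 122457) .leaf)))) (67550, 0, 12, 188064) (.node (.node (.node (.node .leaf (67551, 0, 15, 144939) .leaf) (67552, 0, 16, 57758) (.node .leaf (67553, 0, 17, 504) .leaf)) (67554, 0, 17, 127352)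 (.node (.node .leaf (67555, 0, 17, 86493) .leaf) (67564, 0, 15, 35979) (.node .leaf (67565, 0, 17, 185765) .leaf))) (67566, 0, 16, 240896) (.node (.node (.node .leaf (67567, 0, 16, 81367) .leaf) (67572, 0, 16, 135393) (.node .leaf (67573, 0, 15, 18895) .leaf)) (67574, 0, 15, 129171) (.node (.node .leaf (67575, 0, 16, 200875) .leaf) (67576, 0, 15, 34144) (.node .leaf (67577, 0, 15, 23605) .leaf))))))

/-- part of the orbit tree -/
def itp2_32 : Tree := (.node (.node (.node (.node (.node (.node .leaf (67579, 0, 12, 78908) .leaf) (67584, 0, 16, 206567) (.node .leaf (67587, 0, 11, 169915) .leaf)) (67588, 0, 18, 181364) (.node (.node .leaf (67591, 0, 16, 226359) .leaf) (67593, 0, 15, 103765) (.node .leaf (67594, 0, 17, 9225) .leaf))) (67597, 0, 17, 256584) (.node (.node (.node .leaf (67598, 0, 18, 154388) .leaf) (67601, 0, 13, 198975) (.node .leaf (67602, 0, 17, 178275) .leaf)) (67605, 0, 16, 95778) (.node (.node .leaf (67606, 0, 18, 125956) .leaf) (67608, 0, 16, 113293) (.node .leaf (67611, 0, 18, 3025)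 .leaf)))) (67612, 0, 17, 247184) (.node (.node (.node (.node .leaf (67615, 0, 17, 207354) .leaf) (67617, 0, 17, 707) (.node .leaf (67618, 0, 18, 42631) .leaf)) (67621, 0, 17, 163294) (.node (.node .leaf (67622, 0, 17, 40868) .leaf) (67624, 0, 17, 250682) (.node .leaf (67627, 0, 17, 196653) .leaf))) (67628, 0, 16, 256537) (.node (.node (.node .leaf (67631, 0, 16, 98096) .leaf) (67632, 0, 16, 233207) (.node .leaf (67635, 0, 17, 147124) .leaf)) (67636, 0, 17, 243668) (.node (.node .leaf (67639, 0, 17, 254810) .leaf) (67641, 0, 17, 171689) (.node .leaf (67642, 0, 17, 208885) .leaf))))) (67645, 0, 16, 57780) (.node (.node (.node (.node (.node .leaf (67646, 0, 17, 86248) .leaf) (67649, 0, 6, 75587) (.node .leaf (67650, 0, 18, 51188) .leaf)) (67653, 0, 18, 85652) (.node (.node .leaf (67654, 0, 18, 190722) .leaf) (67656, 0, 15, 234737) (.node .leaf (67659, 0, 18, 140717) .leaf))) (67660, 0, 18, 232298) (.node (.node (.node .leaf (67663, 0, 14, 146217) .leaf) (67664, 0, 16, 67739) (.node .leaf (67667, 0, 17,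 47559) .leaf)) (67668, 0, 17, 227206) (.node (.node .leaf (67671, 0, 15, 181978) .leaf) (67673, 0, 14, 244521) (.node .leaf (67674, 0, 17, 39481) .leaf)))) (67677, 0, 16, 115764) (.node (.node (.node (.node .leaf (67678, 0, 16, 41754) .leaf) (67680, 0, 16, 171044) (.node .leaf (67683, 0, 13, 242235) .leaf)) (67684, 0, 15, 31866) (.node (.node .leaf (67687, 0, 16, 118054) .leaf) (67689, 0, 16, 45269) (.node .leaf (67690, 0, 13, 125337) .leaf))) (67693, 0, 13, 184264) (.node (.node (.node .leaf (67694, 0, 17, 229012) .leaf) (67697, 0, 14, 1047) (.node .leaf (67698, 0, 15, 237027) .leaf)) (67701, 0, 18, 21410) (.node (.node .leaf (67702, 0, 15, 123646) .leaf) (67704, 0, 16, 40717) (.node .leaf (67707, 0, 17, 225706) .leaf))))))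

/-- part of the orbit tree -/
def itp2_33 : Tree := (.node (.node (.node (.node (.node (.node .leaf (67711, 0, 17, 215177) .leaf) (67712, 0, 15, 27229) (.node .leaf (67715, 0, 16, 75730) .leaf)) (67716, 0, 16, 190867) (.node (.node .leaf (67719, 0, 17, 123709) .leaf) (67721, 0, 16, 140604) (.node .leaf (67722, 0, 17, 204768) .leaf))) (67725, 0, 17, 23073) (.node (.node (.node .leaf (67726, 0, 18, 125821) .leaf) (67729, 0, 18, 47446) (.node .leaf (67730, 0, 18, 213549) .leaf)) (67733, 0, 16, 181835) (.node (.node .leaf (67734, 0, 15, 227095) .leaf) (67736, 0, 17, 133860) (.node .leaf (67739, 0, 15, 244664) .leaf)))) (67740, 0, 18, 3763) (.node (.node (.node (.node .leaf (67743, 0, 18, 114416) .leaf) (67745, 0, 13, 242346) (.node .leaf (67746, 0, 14, 132086) .leaf)) (67749, 0, 16, 243949) (.node (.node .leaf (67750, 0, 15, 31979) .leaf) (67752, 0, 13, 82992) (.node .leaf (67755, 0, 18, 45124) .leaf))) (67756, 0, 16, 97555) (.node (.node (.node .leaf (67759, 0, 16, 52560) .leaf) (67760, 0, 14, 236914)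 (.node .leaf (67763, 0, 14, 142382) .leaf)) (67764, 0, 18, 73950) (.node (.node .leaf (67767, 0, 11, 21299) .leaf) (67769, 0, 16, 252931) (.node .leaf (67770, 0, 17, 158784) .leaf))))) (67773, 0, 14, 255264) (.node (.node (.node (.node (.node .leaf (67774, 0, 18, 188545) .leaf) (67777, 0, 16, 169770) (.node .leaf (67778, 0, 16, 206454) .leaf)) (67781, 0, 13, 252318) (.node (.node .leaf (67782, 0, 16, 88427) .leaf) (67784, 0, 17, 75075) (.node .leaf (67787, 0, 17, 103876) .leaf))) (67788, 0, 17, 154501) (.node (.node (.node .leaf (67791, 0, 17, 44067) .leaf) (67792, 0, 13, 178418) (.node .leaf (67795, 0, 14, 51405) .leaf)) (67796, 0, 18, 82349) (.node (.node .leaf (67799, 0, 17, 61934) .leaf) (67801, 0, 17, 245104) (.node .leaf (67802, 0, 15, 113180) .leaf)))) (67805, 0, 17, 160861) (.node (.node (.node (.node .leaf (67806, 0, 13, 247041) .leaf) (67808, 0, 12, 111374) (.node .leaf (67811, 0, 16, 594) .leaf)) (67812, 0, 14, 12813) (.node (.node .leaf (67815, 0, 16, 163151) .leaf) (67817, 0, 18, 184016)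 (.node .leaf (67818, 0, 15, 176608) .leaf))) (67821, 0, 16, 98209) (.node (.node (.node .leaf (67822, 0, 14, 214960) .leaf) (67825, 0, 15, 105686) (.node .leaf (67826, 0, 15, 205662) .leaf)) (67829, 0, 18, 174654) (.node (.node .leaf (67830, 0, 18, 152215) .leaf) (67832, 0, 13, 208740) (.node .leaf (67835, 0, 17, 124576) .leaf))))))

/-- part of the orbit tree -/
def itp2_34 : Tree := (.node (.node (.node (.node (.node (.node .leaf (67839, 0, 14, 122755) .leaf) (67841, 0, 16, 114501) (.node .leaf (67842, 0, 14, 3846) .leaf)) (67845, 0, 16, 99942) (.node (.node .leaf (67846, 0, 17, 153195) .leaf) (67848, 0, 17, 228027) (.node .leaf (67851, 0, 13, 170692) .leaf))) (67852, 0, 17, 213912) (.node (.node (.node .leaf (67855, 0, 17, 58841) .leaf) (67856, 0, 13, 206710) (.node .leaf (67859, 0, 18, 1710) .leaf)) (67860, 0, 15, 204373) (.node (.node .leaf (67863, 0, 15, 162227) .leaf) (67865, 0, 15, 197696) (.node .leaf (67866, 0, 17, 177436) .leaf)))) (67869, 0, 14, 121771) (.node (.node (.node (.node .leaf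 (67870, 0, 15, 27624) .leaf) (67872, 0, 17, 179214) (.node .leaf (67875, 0, 18, 255125) .leaf)) (67876, 0, 18, 159221) (.node (.node .leaf (67879, 0, 17, 94799) .leaf) (67881, 0, 16, 37160) (.node .leaf (67882, 0, 17, 114400) .leaf))) (67885, 0, 13, 159905) (.node (.node (.node .leaf (67886, 0, 14, 246269) .leaf) (67889, 0, 17, 52453) (.node .leaf (67890, 0, 15, 97446) .leaf)) (67893, 0, 15, 60619) (.node (.node .leaf (67894, 0, 14, 83333) .leaf) (67896, 0, 14, 8292) (.node .leaf (67899, 0, 18, 102712) .leaf))))) (67900, 0, 12, 155513) (.node (.node (.node (.node (.node .leaf (67903, 0, 17, 229499) .leaf) (67904, 0, 17, 235918) (.node .leaf (67907, 0, 15, 141522) .leaf)) (67908, 0, 14, 124563) (.node (.node .leaf (67911, 0, 16, 22479) .leaf) (67913, 0, 15, 61531) (.node .leaf (67914, 0, 16, 81944) .leaf))) (67917, 0, 17, 51576) (.node (.node (.node .leaf (67918, 0, 17, 96571) .leaf) (67921, 0, 18, 243286) (.node .leaf (67922, 0, 16, 132874) .leaf)) (67925, 0, 14, 117067) (.node (.node .leaf (67926,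 0, 14, 74998) .leaf) (67928, 0, 14, 157800) (.node .leaf (67931, 0, 16, 46264) .leaf)))) (67932, 0, 15, 151883) (.node (.node (.node (.node .leaf (67935, 0, 15, 254216) .leaf) (67937, 0, 16, 122422) (.node .leaf (67938, 0, 16, 68854) .leaf)) (67941, 0, 11, 124693) (.node (.node .leaf (67942, 0, 16, 22358) .leaf) (67944, 0, 16, 134680) (.node .leaf (67947, 0, 14, 245572) .leaf))) (67948, 0, 15, 28933) (.node (.node (.node .leaf (67951, 0, 14, 114777) .leaf) (67952, 0, 15, 214533) (.node .leaf (67955, 0, 18, 194118) .leaf)) (67956, 0, 12, 229158) (.node (.node .leaf (67959, 0, 10, 184165) .leaf) (67961, 0, 13, 139712) (.node .leaf (67962, 0, 13, 13240) .leaf))))))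

/-- part of the orbit tree -/
def itp2_35 : Tree := (.node itp2_31 (67578, 0, 15, 224530) itp2_32)

/-- part of the orbit tree -/
def itp2_36 : Tree := (.node itp2_33 (67836, 0, 16, 86137) itp2_34)

/-- part of the orbit tree -/
def itp2_37 : Tree := (.node (.node (.node (.node (.node (.node .leaf (67966, 0, 17, 126849) .leaf) (67969, 0, 16, 206927) (.node .leaf (67970, 0, 16, 169996) .leaf)) (67973, 0, 17, 201068) (.node (.node .leaf (67974, 0, 14, 124418) .leaf) (67976, 0, 14, 39921) (.node .leaf (67979, 0, 16, 24050) .leaf))) (67980, 0, 14, 189676) (.node (.node (.node .leaf (67983, 0, 15, 218544) .leaf) (67984, 0, 17, 110716) (.node .leaf (67987, 0, 16, 63) .leaf)) (67988, 0, 17, 100703) (.node (.node .leaf (67991, 0, 16, 14620) .leaf) (67993, 0, 16, 46121) (.node .leaf (67994, 0, 15, 66933) .leaf)))) (67997, 0, 17, 216225) (.node (.node (.node (.node .leaf (67998, 0, 17, 227944) .leaf) (68000, 0, 13, 50140) (.node .leaf (68003, 0, 18, 48443) .leaf)) (68004, 0, 17, 226170) (.node (.node .leaf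 (68007, 0, 17, 180774) .leaf) (68009, 0, 11, 245717) (.node .leaf (68010, 0, 17, 243297) .leaf))) (68013, 0, 16, 147201) (.node (.node (.node .leaf (68014, 0, 13, 233282) .leaf) (68017, 0, 18, 74687) (.node .leaf (68018, 0, 16, 256940) .leaf)) (68021, 0, 16, 220322) (.node (.node .leaf (68022, 0, 17, 191998) .leaf) (68024, 0, 17, 233485) (.node .leaf (68027, 0, 16, 139601) .leaf))))) (68028, 0, 16, 126736) (.node (.node (.node (.node (.node .leaf (68031, 0, 17, 71537) .leaf) (68032, 0, 15, 10727) (.node .leaf (68035, 0, 19, 104635) .leaf)) (68036, 0, 13, 153338) (.node (.node .leaf (68039, 0, 16, 255910) .leaf) (68041, 0, 12, 170581) (.node .leaf (68042, 0, 16, 207625) .leaf))) (68045, 0, 14, 155250) (.node (.node (.node .leaf (68046, 0, 18, 257585) .leaf) (68049, 0, 18, 1599) (.node .leaf (68050, 0, 16, 232159) .leaf)) (68053, 0, 16, 132031) (.node (.node .leaf (68054, 0, 15, 247934) .leaf) (68056, 0, 16, 65378) (.node .leaf (68059, 0, 15, 85793) .leaf)))) (68060, 0, 14, 50753) (.node (.node (.node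 (.node .leaf (68063, 0, 17, 95746) .leaf) (68065, 0, 17, 215356) (.node .leaf (68066, 0, 15, 179359) .leaf)) (68069, 0, 16, 94942) (.node (.node .leaf (68070, 0, 17, 50050) .leaf) (68072, 0, 15, 114289) (.node .leaf (68075, 0, 16, 3885) .leaf))) (68076, 0, 17, 112097) (.node (.node (.node .leaf (68079, 0, 17, 1442) .leaf) (68080, 0, 15, 205339) (.node .leaf (68083, 0, 17, 168775) .leaf)) (68084, 0, 18, 124972) (.node (.node .leaf (68087, 0, 18, 60506) .leaf) (68089, 0, 18, 102825) (.node .leaf (68090, 0, 17, 173234) .leaf))))))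

/-- part of the orbit tree -/
def itp2_38 : Tree := (.node (.node (.node (.node (.node (.node .leaf (68094, 0, 15, 171409) .leaf) (68098, 0, 17, 229634) (.node .leaf (68099, 0, 17, 221540) .leaf)) (68102, 0, 17, 177316) (.node (.node .leaf (68103, 0, 16, 60810) .leaf) (68104, 0, 12, 62655) (.node .leaf (68105, 0, 15, 5337) .leaf))) (68108, 0, 16, 52636) (.node (.node (.node .leaf (68109, 0, 16, 11770) .leaf) (68112, 0, 18, 87357) (.node .leaf (68113, 0, 15, 199699) .leaf)) (68116, 0, 17, 207392) (.node (.node .leaf (68117, 0, 17, 28727) .leaf) (68122, 0, 15, 253135) (.node .leaf (68123, 0, 18, 3837) .leaf)))) (68126, 0, 15, 10446) (.node (.node (.node (.node .leaf (68127, 0, 13, 198026) .leaf) (68128, 0, 11, 155329) (.node .leaf (68129, 0, 16, 80564) .leaf)) (68132, 0, 18, 8668) (.node (.node .leaf (68133, 0, 16, 66455) .leaf) (68138, 0, 18, 89135) (.node .leaf (68139, 0, 15, 197889) .leaf))) (68142, 0, 9, 169548) (.node (.node (.node .leaf (68143, 0, 14, 161322) .leaf) (68146, 0, 17, 193186) (.node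 .leaf (68147, 0, 17, 104811) .leaf)) (68150, 0, 17, 183169) (.node (.node .leaf (68151, 0, 16, 142311) .leaf) (68152, 0, 17, 49835) (.node .leaf (68153, 0, 11, 170885) .leaf))))) (68156, 0, 18, 114236) (.node (.node (.node (.node (.node .leaf (68157, 0, 12, 58520) .leaf) (68160, 0, 14, 113569) (.node .leaf (68161, 0, 17, 74351) .leaf)) (68164, 0, 18, 66652) (.node (.node .leaf (68165, 0, 18, 220530) .leaf) (68170, 0, 17, 183836) (.node .leaf (68171, 0, 13, 142970) .leaf))) (68174, 0, 16, 132786) (.node (.node (.node .leaf (68175, 0, 14, 24476) .leaf) (68178, 0, 17, 168913) (.node .leaf (68179, 0, 16, 160695) .leaf)) (68182, 0, 15, 39640) (.node (.node .leaf (68183, 0, 12, 181238) .leaf) (68184, 0, 17, 124715) (.node .leaf (68185, 0, 16, 245253) .leaf)))) (68188, 0, 16, 235574) (.node (.node (.node (.node .leaf (68189, 0, 18, 114968) .leaf) (68194, 0, 17, 126521) (.node .leaf (68195, 0, 17, 243479) .leaf)) (68198, 0, 18, 233764) (.node (.node .leaf (68199, 0, 13, 116746) .leaf) (68200, 0, 17, 191703)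 (.node .leaf (68201, 0, 19, 46585) .leaf))) (68204, 0, 15, 44271) (.node (.node (.node .leaf (68205, 0, 15, 19593) .leaf) (68208, 0, 17, 28861) (.node .leaf (68209, 0, 16, 10343) .leaf)) (68212, 0, 18, 135072) (.node (.node .leaf (68213, 0, 14, 4420) .leaf) (68218, 0, 14, 245180) (.node .leaf (68219, 0, 15, 220634) .leaf))))))

/-- part of the orbit tree -/
def itp2_39 : Tree := (.node (.node (.node (.node (.node (.node .leaf (68223, 0, 17, 218208) .leaf) (68226, 0, 17, 71176) (.node .leaf (68227, 0, 15, 74494) .leaf)) (68230, 0, 17, 77611) (.node (.node .leaf (68231, 0, 17, 118605) .leaf) (68232, 0, 16, 31038) (.node .leaf (68233, 0, 15, 139280) .leaf))) (68236, 0, 18, 132643) (.node (.node (.node .leaf (68237, 0, 15, 24333) .leaf) (68240, 0, 17, 189780) (.node .leaf (68241, 0, 15, 187934) .leaf)) (68244, 0, 15, 132955) (.node (.node .leaf (68245, 0, 7, 190269) .leaf) (68250, 0, 15, 84933) (.node .leaf (68251, 0, 16, 245396) .leaf)))) (68254, 0, 17, 94950) (.node (.node (.node (.node .leaf (68255,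 0, 16, 115081) .leaf) (68256, 0, 14, 216536) (.node .leaf (68257, 0, 15, 243590) .leaf)) (68260, 0, 11, 233909) (.node (.node .leaf (68261, 0, 17, 116891) .leaf) (68266, 0, 14, 191558) (.node .leaf (68267, 0, 16, 46440) .leaf))) (68270, 0, 16, 37723) (.node (.node (.node .leaf (68271, 0, 16, 57632) .leaf) (68274, 0, 18, 28716) (.node .leaf (68275, 0, 16, 34254) .leaf)) (68278, 0, 17, 134961) (.node (.node .leaf (68279, 0, 15, 22047) .leaf) (68280, 0, 17, 225986) (.node .leaf (68281, 0, 11, 258163) .leaf))))) (68284, 0, 15, 207158) (.node (.node (.node (.node (.node .leaf (68285, 0, 17, 218353) .leaf) (68288, 0, 17, 52008) (.node .leaf (68289, 0, 16, 168454) .leaf)) (68292, 0, 15, 202120) (.node (.node .leaf (68293, 0, 18, 60699) .leaf) (68298, 0, 17, 248262) (.node .leaf (68299, 0, 14, 102632) .leaf))) (68302, 0, 13, 112347) (.node (.node (.node .leaf (68303, 0, 16, 32851) .leaf) (68306, 0, 14, 1243) (.node .leaf (68307, 0, 17, 199810) .leaf)) (68310, 0, 17, 15864) (.node (.node .leaf (68311, 0, 18,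 56734) .leaf) (68312, 0, 16, 153410) (.node .leaf (68313, 0, 11, 233728) .leaf)))) (68316, 0, 17, 10335) (.node (.node (.node (.node .leaf (68317, 0, 17, 160113) .leaf) (68322, 0, 16, 155216) (.node .leaf (68323, 0, 13, 104221) .leaf)) (68326, 0, 18, 85592) (.node (.node .leaf (68327, 0, 17, 161891) .leaf) (68328, 0, 18, 89278) (.node .leaf (68329, 0, 18, 198032) .leaf))) (68332, 0, 15, 146405) (.node (.node (.node .leaf (68333, 0, 17, 96909) .leaf) (68336, 0, 16, 245972) (.node .leaf (68337, 0, 14, 104954) .leaf)) (68340, 0, 17, 114633) (.node (.node .leaf (68341, 0, 13, 165454) .leaf) (68346, 0, 18, 49722) (.node .leaf (68347, 0, 16, 117456) .leaf))))))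

/-- part of the orbit tree -/
def itp2_40 : Tree := (.node (.node (.node (.node (.node (.node .leaf (68351, 0, 16, 58377) .leaf) (68352, 0, 15, 246824) (.node .leaf (68353, 0, 15, 105734) .leaf)) (68356, 0, 16, 84592) (.node (.node .leaf (68357, 0, 16, 254491) .leaf) (68362, 0, 18, 50886) (.node .leaf (68363, 0, 17, 172008) .leaf))) (68366, 0, 15, 147405) (.node (.node (.node .leaf (68367, 0, 17, 188331) .leaf) (68370, 0, 15, 154284) (.node .leaf (68371, 0, 15, 898) .leaf)) (68374, 0, 11, 156160) (.node (.node .leaf (68375, 0, 18, 164454) .leaf) (68376, 0, 16, 77470) (.node .leaf (68377, 0, 12, 196972) .leaf)))) (68380, 0, 13, 71613) (.node (.node (.node (.node .leaf (68381, 0, 14, 97905) .leaf) (68386, 0, 16, 206979) (.node .leaf (68387, 0, 16, 198782) .leaf)) (68390, 0, 13, 208461) (.node (.node .leaf (68391, 0, 16, 258502) .leaf) (68392, 0, 17, 152510) (.node .leaf (68393, 0, 17, 2704) .leaf))) (68396, 0, 16, 25629) (.node (.node (.node .leaf (68397, 0, 18, 33915) .leaf) (68400, 0, 13, 53204)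 (.node .leaf (68401, 0, 17, 169722) .leaf)) (68404, 0, 17, 176329) (.node (.node .leaf (68405, 0, 18, 59879) .leaf) (68410, 0, 17, 226638) (.node .leaf (68411, 0, 17, 103444) .leaf))))) (68414, 0, 16, 111143) (.node (.node (.node (.node (.node .leaf (68415, 0, 15, 256777) .leaf) (68418, 0, 14, 215536) (.node .leaf (68419, 0, 15, 142846) .leaf)) (68422, 0, 14, 225491) (.node (.node .leaf (68423, 0, 17, 233653) .leaf) (68424, 0, 16, 15437) (.node .leaf (68425, 0, 14, 56363) .leaf))) (68428, 0, 19, 1390) (.node (.node (.node .leaf (68429, 0, 16, 58632) .leaf) (68432, 0, 13, 125524) (.node .leaf (68433, 0, 16, 33254) .leaf)) (68436, 0, 15, 22691) (.node (.node .leaf (68437, 0, 16, 117863) .leaf) (68442, 0, 15, 201789) (.node .leaf (68443, 0, 15, 45460) .leaf)))) (68446, 0, 15, 38823) (.node (.node (.node (.node .leaf (68447, 0, 18, 249208) .leaf) (68448, 0, 15, 188840) (.node .leaf (68449, 0, 15, 127558) .leaf)) (68452, 0, 16, 40629) (.node (.node .leaf (68453, 0, 17, 182171) .leaf) (68458, 0, 17, 123718)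 (.node .leaf (68459, 0, 17, 165883) .leaf))) (68462, 0, 17, 236635) (.node (.node (.node .leaf (68463, 0, 16, 116085) .leaf) (68466, 0, 13, 146000) (.node .leaf (68467, 0, 18, 75266) .leaf)) (68470, 0, 17, 131955) (.node (.node .leaf (68471, 0, 16, 219423) .leaf) (68472, 0, 15, 32194) .leaf)))))

/-- part of the orbit tree -/
def itp2_41 : Tree := (.node itp2_37 (68093, 0, 17, 257716) itp2_38)

/-- part of the orbit tree -/
def itp2_42 : Tree := (.node itp2_39 (68350, 0, 17, 70549) itp2_40)

/-- part of the orbit tree -/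
def itp2_43 : Tree := (.node itp2_35 (67708, 0, 14, 188432) itp2_36)

/-- part of the orbit tree -/
def itp2_44 : Tree := (.node itp2_41 (68222, 0, 14, 68942) itp2_42)

/-- part of the orbit tree -/
def itp2_45 : Tree := (.node (.node (.node (.node (.node (.node .leaf (68476, 0, 17, 131807) .leaf) (68477, 0, 15, 104104) (.node .leaf (68480, 0, 11, 29761) .leaf)) (68481, 0, 18, 197695) (.node (.node .leaf (68484, 0, 17, 133980) .leaf) (68485, 0, 16, 212252) (.node .leaf (68490, 0, 14, 37348) .leaf))) (68491, 0, 17, 29058) (.node (.node (.node .leaf (68494, 0, 13, 43207) .leaf) (68495, 0, 16, 18593) (.node .leaf (68498, 0, 15, 125637) .leaf)) (68499, 0, 14, 11343) (.node (.node .leaf (68502, 0, 13, 234968) .leaf) (68503, 0, 16, 118006) (.node .leaf (68504, 0, 17, 244116) .leaf)))) (68505, 0, 15, 219634) (.node (.node (.node (.node .leaf (68508, 0, 17, 229559) .leaf) (68509, 0, 18, 221393) (.node .leaf (68514, 0, 11, 114569) .leaf)) (68515, 0, 15, 90095) (.node (.node .leaf (68518, 0, 16, 40484) .leaf)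 (68519, 0, 16, 91852) (.node .leaf (68520, 0, 15, 123863) .leaf))) (68521, 0, 19, 244473) (.node (.node (.node .leaf (68524, 0, 16, 236746) .leaf) (68525, 0, 15, 116196) (.node .leaf (68528, 0, 15, 229309) .leaf)) (68529, 0, 18, 161695) (.node (.node .leaf (68532, 0, 17, 65696) .leaf) (68533, 0, 17, 219534) (.node .leaf (68538, 0, 17, 123460) .leaf))))) (68539, 0, 16, 140413) (.node (.node (.node (.node (.node .leaf (68542, 0, 14, 121703) .leaf) (68543, 0, 17, 80641) (.node .leaf (68546, 0, 14, 122618) .leaf)) (68547, 0, 15, 81564) (.node (.node .leaf (68550, 0, 15, 113572) .leaf) (68551, 0, 16, 67519) (.node .leaf (68552, 0, 17, 174919) .leaf))) (68553, 0, 17, 171897) (.node (.node (.node .leaf (68556, 0, 15, 168548) .leaf) (68557, 0, 18, 160258) (.node .leaf (68560, 0, 16, 194186) .leaf)) (68561, 0, 15, 787) (.node (.node .leaf (68564, 0, 15, 9504) .leaf) (68565, 0, 17, 143311) (.node .leaf (68570, 0, 16, 99127) .leaf)))) (68571, 0, 16, 90961) (.node (.node (.node (.node .leaf (68574, 0, 13, 113172)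 .leaf) (68575, 0, 17, 88690) (.node .leaf (68576, 0, 15, 230698) .leaf)) (68577, 0, 18, 198895) (.node (.node .leaf (68580, 0, 17, 208604) .leaf) (68581, 0, 16, 220271) (.node .leaf (68586, 0, 17, 152367) .leaf))) (68587, 0, 14, 4337) (.node (.node (.node .leaf (68590, 0, 17, 51636) .leaf) (68591, 0, 16, 10706) (.node .leaf (68594, 0, 18, 53061) .leaf)) (68595, 0, 15, 169579) (.node (.node .leaf (68598, 0, 14, 38009) .leaf) (68599, 0, 13, 59766) (.node .leaf (68600, 0, 16, 249259) .leaf))))))

/-- part of the orbit tree -/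
def itp2_46 : Tree := (.node (.node (.node (.node (.node (.node .leaf (68604, 0, 15, 254404) .leaf) (68605, 0, 17, 197026) (.node .leaf (68609, 0, 17, 160317) .leaf)) (68611, 0, 17, 153532) (.node (.node .leaf (68613, 0, 18, 3360) .leaf) (68615, 0, 18, 159391) (.node .leaf (68616, 0, 13, 115303) .leaf))) (68618, 0, 16, 207357) (.node (.node (.node .leaf (68620, 0, 17, 179858) .leaf) (68622, 0, 16, 43873) (.node .leaf (68624, 0, 11, 155109) .leaf)) (68626, 0, 17, 112023) (.node (.node .leaf (68628, 0, 16, 8952) .leaf) (68630, 0, 19, 248458) (.node .leaf (68633, 0, 16, 219732) .leaf)))) (68635, 0, 9, 133745) (.node (.node (.node (.node .leaf (68637, 0, 17, 222071) .leaf) (68639, 0, 15, 96568) (.node .leaf (68640, 0, 16, 87577) .leaf)) (68642, 0, 16, 179819) (.node (.node .leaf (68644, 0, 15, 54569) .leaf) (68646, 0, 13, 49526) (.node .leaf (68649, 0, 16, 255403) .leaf))) (68651, 0, 12, 3545) (.node (.node (.node .leaf (68653, 0, 14, 135383) .leaf) (68655, 0, 18, 213234) (.node .leaf (68657, 0, 16, 96705)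 .leaf)) (68659, 0, 16, 205852) (.node (.node .leaf (68661, 0, 17, 198364) .leaf) (68663, 0, 16, 61102) (.node .leaf (68664, 0, 12, 45511) .leaf))))) (68666, 0, 16, 8705) (.node (.node (.node (.node (.node .leaf (68668, 0, 16, 111982) .leaf) (68670, 0, 16, 154908) (.node .leaf (68672, 0, 16, 29593) .leaf)) (68674, 0, 14, 236523) (.node (.node .leaf (68676, 0, 17, 46170) .leaf) (68678, 0, 12, 124031) (.node .leaf (68681, 0, 17, 149639) .leaf))) (68683, 0, 13, 202914) (.node (.node (.node .leaf (68685, 0, 16, 48950) .leaf) (68687, 0, 18, 205185) (.node .leaf (68689, 0, 15, 23617) .leaf)) (68691, 0, 17, 242739) (.node (.node .leaf (68693, 0, 16, 140124) .leaf) (68695, 0, 18, 117550) (.node .leaf (68696, 0, 16, 53428) .leaf)))) (68698, 0, 14, 67457) (.node (.node (.node (.node .leaf (68700, 0, 17, 37102) .leaf) (68702, 0, 14, 113074) (.node .leaf (68705, 0, 16, 222954) .leaf)) (68707, 0, 15, 49103) (.node (.node .leaf (68709, 0, 17, 75936) .leaf) (68711, 0, 16, 180434) (.node .leaf (68712, 0, 18, 107284)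 .leaf))) (68714, 0, 15, 62257) (.node (.node (.node .leaf (68716, 0, 15, 105015) .leaf) (68718, 0, 15, 29536) (.node .leaf (68720, 0, 17, 227429) .leaf)) (68722, 0, 15, 36887) (.node (.node .leaf (68724, 0, 17, 67448) .leaf) (68726, 0, 17, 192266) (.node .leaf (68729, 0, 18, 211751) .leaf))))))

/-- part of the orbit tree -/
def itp2_47 : Tree := (.node (.node (.node (.node (.node (.node .leaf (68733, 0, 16, 197124) .leaf) (68735, 0, 13, 23736) (.node .leaf (68737, 0, 17, 102547) .leaf)) (68739, 0, 12, 49334) (.node (.node .leaf (68741, 0, 16, 108976) .leaf) (68743, 0, 13, 63893) (.node .leaf (68744, 0, 18, 218477) .leaf))) (68746, 0, 17, 39316) (.node (.node (.node .leaf (68748, 0, 17, 69371) .leaf) (68750, 0, 18, 146539) (.node .leaf (68752, 0, 17, 198816) .leaf)) (68754, 0, 17, 153733) (.node (.node .leaf (68756, 0, 15, 209283) .leaf) (68758, 0, 16, 31459) (.node .leaf (68761, 0, 16, 220734) .leaf)))) (68763, 0, 16, 46668) (.node (.node (.node (.node .leaf (68765, 0, 16, 128125) .leaf) (68767,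 0, 14, 182609) (.node .leaf (68768, 0, 16, 162560) .leaf)) (68770, 0, 17, 207653) (.node (.node .leaf (68772, 0, 17, 148003) .leaf) (68774, 0, 17, 201222) (.node .leaf (68777, 0, 17, 21954) .leaf))) (68779, 0, 16, 126683) (.node (.node (.node .leaf (68781, 0, 15, 34781) .leaf) (68783, 0, 15, 120824) (.node .leaf (68785, 0, 12, 58163) .leaf)) (68787, 0, 13, 111382) (.node (.node .leaf (68789, 0, 15, 46773) .leaf) (68791, 0, 15, 220871) (.node .leaf (68792, 0, 16, 31258) .leaf))))) (68794, 0, 14, 227048) (.node (.node (.node (.node (.node .leaf (68796, 0, 18, 139246) .leaf) (68798, 0, 11, 126325) (.node .leaf (68800, 0, 18, 246768) .leaf)) (68802, 0, 11, 11138) (.node (.node .leaf (68804, 0, 17, 140112) .leaf) (68806, 0, 17, 226165) (.node .leaf (68809, 0, 15, 94274) .leaf))) (68811, 0, 17, 102312) (.node (.node (.node .leaf (68813, 0, 18, 200543) .leaf) (68815, 0, 10, 59181) (.node .leaf (68817, 0, 8, 33344) .leaf)) (68819, 0, 16, 119397) (.node (.node .leaf (68821, 0, 15, 47971) .leaf) (68823, 0,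 15, 162631) (.node .leaf (68824, 0, 18, 90010) .leaf)))) (68826, 0, 12, 202651) (.node (.node (.node (.node .leaf (68828, 0, 15, 204935) .leaf) (68830, 0, 16, 51445) (.node .leaf (68833, 0, 17, 59348) .leaf)) (68835, 0, 16, 41413) (.node (.node .leaf (68837, 0, 16, 116931) .leaf) (68839, 0, 13, 39142) (.node .leaf (68840, 0, 16, 209950) .leaf))) (68842, 0, 17, 113684) (.node (.node (.node .leaf (68844, 0, 8, 11131) .leaf) (68846, 0, 17, 154904) (.node .leaf (68848, 0, 17, 223699) .leaf)) (68850, 0, 15, 204926) (.node (.node .leaf (68852, 0, 16, 217328) .leaf) (68854, 0, 15, 89955) (.node .leaf (68857, 0, 16, 109613) .leaf))))))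

/-- part of the orbit tree -/
def itp2_48 : Tree := (.node (.node (.node (.node (.node (.node .leaf (68861, 0, 15, 103694) .leaf) (68863, 0, 17, 50475) (.node .leaf (68864, 0, 15, 17803) .leaf)) (68866, 0, 17, 71086) (.node (.node .leaf (68868, 0, 17, 177133) .leaf) (68870, 0, 13, 76941) (.node .leaf (68873, 0, 14, 163650) .leaf))) (68875, 0, 16, 104240) (.node (.node (.node .leaf (68877, 0, 17, 95) .leaf) (68879, 0, 16, 256371) (.node .leaf (68881, 0, 10, 187832) .leaf)) (68883, 0, 18, 199514) (.node (.node .leaf (68885, 0, 14, 189595) .leaf) (68887, 0, 17, 242878) (.node .leaf (68888, 0, 16, 151706) .leaf)))) (68890, 0, 16, 84067) (.node (.node (.node (.node .leaf (68892, 0, 16, 8549) .leaf) (68894, 0, 15, 94528) (.node .leaf (68897, 0, 15, 256212) .leaf)) (68899, 0, 13, 166) (.node (.node .leaf (68901, 0, 12, 235323) .leaf) (68903, 0, 16, 182046) (.node .leaf (68904, 0, 14, 88934) .leaf))) (68906, 0, 9, 15299) (.node (.node (.node .leaf (68908, 0, 12, 205947) .leaf) (68910, 0, 15, 736) (.node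 .leaf (68912, 0, 14, 247564) .leaf)) (68914, 0, 18, 26126) (.node (.node .leaf (68916, 0, 17, 112657) .leaf) (68918, 0, 16, 151651) (.node .leaf (68921, 0, 15, 95422) .leaf))))) (68923, 0, 16, 173040) (.node (.node (.node (.node (.node .leaf (68925, 0, 17, 199587) .leaf) (68927, 0, 16, 170707) (.node .leaf (68929, 0, 18, 183636) .leaf)) (68931, 0, 15, 75046) (.node (.node .leaf (68933, 0, 18, 45641) .leaf) (68935, 0, 18, 219707) (.node .leaf (68936, 0, 8, 68245) .leaf))) (68938, 0, 16, 235156) (.node (.node (.node .leaf (68940, 0, 16, 78774) .leaf) (68942, 0, 13, 25491) (.node .leaf (68944, 0, 18, 87896) .leaf)) (68946, 0, 18, 68350) (.node (.node .leaf (68948, 0, 15, 93819) .leaf) (68950, 0, 18, 15966) (.node .leaf (68953, 0, 18, 234150) .leaf)))) (68955, 0, 16, 244044) (.node (.node (.node (.node .leaf (68957, 0, 18, 240517) .leaf) (68959, 0, 13, 116305) (.node .leaf (68960, 0, 16, 125296) .leaf)) (68962, 0, 14, 95453) (.node (.node .leaf (68964, 0, 6, 7643) .leaf) (68966, 0, 16, 32287) (.node .leaf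 (68969, 0, 8, 219842) .leaf))) (68971, 0, 18, 45744) (.node (.node (.node .leaf (68973, 0, 16, 186405) .leaf) (68975, 0, 16, 231424) (.node .leaf (68977, 0, 18, 116392) .leaf)) (68979, 0, 17, 257262) (.node (.node .leaf (68981, 0, 17, 165352) .leaf) (68983, 0, 17, 20935) (.node .leaf (68984, 0, 16, 31029) .leaf))))))

/-- part of the orbit tree -/
def itp2_49 : Tree := (.node itp2_45 (68601, 0, 18, 103557) itp2_46)

/-- part of the orbit tree -/
def itp2_50 : Tree := (.node itp2_47 (68859, 0, 18, 103372) itp2_48)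

/-- part of the orbit tree -/
def itp2_51 : Tree := (.node (.node (.node (.node (.node (.node .leaf (68988, 0, 14, 16406) .leaf) (68990, 0, 17, 189045) (.node .leaf (68992, 0, 15, 228505) .leaf)) (68994, 0, 16, 38123) (.node (.node .leaf (68996, 0, 19, 66436) .leaf) (68998, 0, 17, 191478) (.node .leaf (69001, 0, 13, 118571) .leaf))) (69003, 0, 12, 83802) (.node (.node (.node .leaf (69005, 0, 13, 11868) .leaf) (69007, 0, 15, 97913) (.node .leaf (69009, 0, 18, 217921) .leaf)) (69011, 0, 17, 47923) (.node (.node .leaf (69013, 0, 18, 76892) .leaf) (69015, 0, 16, 74676) (.node .leaf (69016, 0, 17, 167756) .leaf)))) (69018, 0, 15, 133249) (.node (.node (.node (.node .leaf (69020, 0, 18, 237550) .leaf) (69022, 0, 15, 30620) (.node .leaf (69025, 0, 17, 22717) .leaf)) (69027, 0, 17, 26935) (.node (.node .leaf (69029, 0, 16, 141216) .leaf) (69031, 0, 17, 118738) (.node .leaf (69032, 0, 14, 261356) .leaf))) (69034, 0, 17, 175305) (.node (.node (.node .leaf (69036, 0, 12, 247247) .leaf) (69038, 0, 17, 228448)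 (.node .leaf (69040, 0, 18, 237857) .leaf)) (69042, 0, 12, 237335) (.node (.node .leaf (69044, 0, 19, 235522) .leaf) (69046, 0, 8, 182311) (.node .leaf (69049, 0, 17, 181463) .leaf))))) (69051, 0, 16, 13562) (.node (.node (.node (.node (.node .leaf (69053, 0, 13, 89596) .leaf) (69055, 0, 12, 3545) (.node .leaf (69057, 0, 17, 97597) .leaf)) (69059, 0, 16, 2116) (.node (.node .leaf (69061, 0, 17, 90434) .leaf) (69063, 0, 16, 12647) (.node .leaf (69064, 0, 14, 249487) .leaf))) (69066, 0, 16, 183738) (.node (.node (.node .leaf (69068, 0, 15, 110994) .leaf) (69070, 0, 18, 193689) (.node .leaf (69072, 0, 18, 86757) .leaf)) (69074, 0, 16, 168055) (.node (.node .leaf (69076, 0, 18, 208376) .leaf) (69078, 0, 16, 174420) (.node .leaf (69081, 0, 15, 66988) .leaf)))) (69083, 0, 17, 2341) (.node (.node (.node (.node .leaf (69085, 0, 16, 81039) .leaf) (69087, 0, 16, 27818) (.node .leaf (69088, 0, 15, 177138) .leaf)) (69090, 0, 11, 254935) (.node (.node .leaf (69092, 0, 14, 9732) .leaf) (69094, 0, 15, 252660) (.node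 .leaf (69097, 0, 16, 30220) .leaf))) (69099, 0, 16, 75305) (.node (.node (.node .leaf (69101, 0, 14, 20271) .leaf) (69103, 0, 16, 97732) (.node .leaf (69105, 0, 15, 11201) .leaf)) (69107, 0, 17, 97252) (.node (.node .leaf (69109, 0, 16, 2524) .leaf) (69111, 0, 16, 82631) (.node .leaf (69112, 0, 18, 192063) .leaf))))))

/-- part of the orbit tree -/
def itp2_52 : Tree := (.node (.node (.node (.node (.node (.node .leaf (69116, 0, 16, 186140) .leaf) (69118, 0, 17, 231225) (.node .leaf (69120, 0, 18, 248719) .leaf)) (69121, 0, 14, 207849) (.node (.node .leaf (69122, 0, 17, 247373) .leaf) (69123, 0, 17, 162764) (.node .leaf (69124, 0, 14, 258732) .leaf))) (69125, 0, 17, 201418) (.node (.node (.node .leaf (69126, 0, 14, 172681) .leaf) (69127, 0, 15, 254078) (.node .leaf (69144, 0, 17, 176725) .leaf)) (69145, 0, 14, 60283) (.node (.node .leaf (69146, 0, 15, 181863) .leaf) (69147, 0, 16, 197385) (.node .leaf (69148, 0, 16, 52552) .leaf)))) (69149, 0, 18, 169062) (.node (.node (.node (.node .leaf (69150, 0,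 16, 206138) .leaf) (69151, 0, 17, 97300) (.node .leaf (69160, 0, 17, 189922) .leaf)) (69161, 0, 15, 254087) (.node (.node .leaf (69162, 0, 14, 152027) .leaf) (69163, 0, 16, 218529) (.node .leaf (69164, 0, 14, 187585) .leaf))) (69165, 0, 16, 106394) (.node (.node (.node .leaf (69166, 0, 12, 11974) .leaf) (69167, 0, 12, 161768) (.node .leaf (69168, 0, 15, 178223) .leaf)) (69169, 0, 17, 153673) (.node (.node .leaf (69170, 0, 14, 256010) .leaf) (69171, 0, 15, 198764) (.node .leaf (69172, 0, 16, 88798) .leaf))))) (69173, 0, 16, 156010) (.node (.node (.node (.node (.node .leaf (69174, 0, 18, 176812) .leaf) (69175, 0, 14, 60290) (.node .leaf (69192, 0, 13, 165009) .leaf)) (69193, 0, 15, 156919) (.node (.node .leaf (69194, 0, 16, 226395) .leaf) (69195, 0, 15, 210130) (.node .leaf (69196, 0, 17, 179634) .leaf))) (69197, 0, 17, 155092) (.node (.node (.node .leaf (69198, 0, 15, 68422) .leaf) (69199, 0, 14, 217704) (.node .leaf (69200, 0, 16, 131139) .leaf)) (69201, 0, 17, 22893) (.node (.node .leaf (69202, 0,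 16, 231801) .leaf) (69203, 0, 15, 223519) (.node .leaf (69204, 0, 15, 188543) .leaf)))) (69205, 0, 15, 131097) (.node (.node (.node (.node .leaf (69206, 0, 19, 235308) .leaf) (69207, 0, 16, 118274) (.node .leaf (69216, 0, 16, 240380) .leaf)) (69217, 0, 15, 217745) (.node (.node .leaf (69218, 0, 16, 189389) .leaf) (69219, 0, 13, 137919) (.node .leaf (69220, 0, 15, 234463) .leaf))) (69221, 0, 17, 226233) (.node (.node (.node .leaf (69222, 0, 16, 181242) .leaf) (69223, 0, 19, 181758) (.node .leaf (69240, 0, 15, 259889) .leaf)) (69241, 0, 18, 118523) (.node (.node .leaf (69242, 0, 15, 173844) .leaf) (69243, 0, 16, 149362) (.node .leaf (69244, 0, 16, 249362) .leaf))))))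

/-- part of the orbit tree -/
def itp2_53 : Tree := (.node (.node (.node (.node (.node (.node .leaf (69246, 0, 17, 171575) .leaf) (69247, 0, 12, 163409) (.node .leaf (69248, 0, 16, 89221) .leaf)) (69249, 0, 16, 113891) (.node (.node .leaf (69250, 0, 14, 3232) .leaf) (69251, 0, 13, 60614) (.node .leaf (69252, 0, 17, 91558) .leaf))) (69253, 0, 16, 243813) (.node (.node (.node .leaf (69254, 0, 13, 133433) .leaf) (69255, 0, 15, 20503) (.node .leaf (69272, 0, 14, 65864) .leaf)) (69273, 0, 17, 219922) (.node (.node .leaf (69274, 0, 10, 191054) .leaf) (69275, 0, 10, 45920) (.node .leaf (69276, 0, 13, 79979) .leaf)))) (69277, 0, 17, 74767) (.node (.node (.node (.node .leaf (69278, 0, 17, 38227) .leaf) (69279, 0, 16, 183421) (.node .leaf (69288, 0, 16, 29416) .leaf)) (69289, 0, 17, 20718) (.node (.node .leaf (69290, 0, 16, 123314) .leaf) (69291, 0, 15, 243868) (.node .leaf (69292, 0, 17, 19403) .leaf))) (69293, 0, 16, 143347) (.node (.node (.node .leaf (69294, 0, 15, 237231) .leaf) (69295, 0, 15, 129928)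 (.node .leaf (69296, 0, 15, 12069) .leaf)) (69297, 0, 16, 53059) (.node (.node .leaf (69298, 0, 15, 98048) .leaf) (69299, 0, 13, 106342) (.node .leaf (69300, 0, 18, 5638) .leaf))))) (69301, 0, 14, 45977) (.node (.node (.node (.node (.node .leaf (69302, 0, 16, 83491) .leaf) (69303, 0, 16, 220139) (.node .leaf (69320, 0, 16, 5019) .leaf)) (69321, 0, 17, 95598) (.node (.node .leaf (69322, 0, 14, 82878) .leaf) (69323, 0, 17, 107480) (.node .leaf (69324, 0, 17, 86877) .leaf))) (69325, 0, 18, 51934) (.node (.node (.node .leaf (69326, 0, 16, 178991) .leaf) (69327, 0, 12, 57857) (.node .leaf (69328, 0, 13, 20054) .leaf)) (69329, 0, 16, 44592) (.node (.node .leaf (69330, 0, 14, 153688) .leaf) (69331, 0, 11, 374) (.node .leaf (69332, 0, 15, 249655) .leaf)))) (69333, 0, 17, 38675) (.node (.node (.node (.node .leaf (69334, 0, 17, 10053) .leaf) (69335, 0, 14, 116534) (.node .leaf (69344, 0, 16, 81398) .leaf)) (69345, 0, 13, 122256) (.node (.node .leaf (69346, 0, 17, 28115) .leaf) (69347, 0, 17, 36277) (.node .leaf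 (69348, 0, 16, 50379) .leaf))) (69349, 0, 16, 124083) (.node (.node (.node .leaf (69350, 0, 16, 208057) .leaf) (69351, 0, 17, 95639) (.node .leaf (69368, 0, 14, 10172) .leaf)) (69369, 0, 18, 98397) (.node (.node .leaf (69370, 0, 17, 12318) .leaf) (69371, 0, 16, 53368) (.node .leaf (69372, 0, 16, 153761) .leaf))))))

/-- part of the orbit tree -/
def itp2_54 : Tree := (.node (.node (.node (.node (.node (.node .leaf (69374, 0, 17, 2365) .leaf) (69375, 0, 14, 59739) (.node .leaf (69384, 0, 18, 150627) .leaf)) (69385, 0, 16, 175109) (.node (.node .leaf (69386, 0, 16, 248626) .leaf) (69387, 0, 15, 102940) (.node .leaf (69388, 0, 17, 161088) .leaf))) (69389, 0, 18, 1395) (.node (.node (.node .leaf (69390, 0, 14, 206181) .leaf) (69391, 0, 17, 247043) (.node .leaf (69392, 0, 17, 180010) .leaf)) (69393, 0, 16, 192968) (.node (.node .leaf (69394, 0, 18, 87896) .leaf) (69395, 0, 16, 200310) (.node .leaf (69396, 0, 16, 49207) .leaf)))) (69397, 0, 16, 182507) (.node (.node (.node (.node .leaf (69398, 0, 17, 206917)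 .leaf) (69399, 0, 15, 94571) (.node .leaf (69408, 0, 17, 111830) .leaf)) (69409, 0, 15, 257528) (.node (.node .leaf (69410, 0, 16, 154788) .leaf) (69411, 0, 17, 184909) (.node .leaf (69412, 0, 14, 248779) .leaf))) (69413, 0, 16, 103141) (.node (.node (.node .leaf (69414, 0, 14, 9145) .leaf) (69415, 0, 19, 162455) (.node .leaf (69432, 0, 14, 207036) .leaf)) (69433, 0, 15, 253861) (.node (.node .leaf (69434, 0, 15, 159718) .leaf) (69435, 0, 16, 167808) (.node .leaf (69436, 0, 15, 87969) .leaf))))) (69437, 0, 16, 255622) (.node (.node (.node (.node (.node .leaf (69438, 0, 12, 180179) .leaf) (69439, 0, 14, 177827) (.node .leaf (69440, 0, 16, 197501) .leaf)) (69441, 0, 18, 254747) (.node (.node .leaf (69442, 0, 15, 152408) .leaf) (69443, 0, 16, 73738) (.node .leaf (69444, 0, 18, 211550) .leaf))) (69445, 0, 15, 252472) (.node (.node (.node .leaf (69446, 0, 16, 158331) .leaf) (69447, 0, 16, 220951) (.node .leaf (69464, 0, 15, 220848) .leaf)) (69465, 0, 15, 245462) (.node (.node .leaf (69466, 0, 15, 134805)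 .leaf) (69467, 0, 15, 244832) (.node .leaf (69468, 0, 12, 29217) .leaf)))) (69469, 0, 16, 142095) (.node (.node (.node (.node .leaf (69470, 0, 17, 236115) .leaf) (69471, 0, 17, 186320) (.node .leaf (69480, 0, 18, 142608) .leaf)) (69481, 0, 16, 183670) (.node (.node .leaf (69482, 0, 10, 192178) .leaf) (69483, 0, 17, 47004) (.node .leaf (69484, 0, 13, 136243) .leaf))) (69485, 0, 16, 73971) (.node (.node (.node .leaf (69486, 0, 13, 214038) .leaf) (69487, 0, 14, 182401) (.node .leaf (69488, 0, 14, 236202) .leaf)) (69489, 0, 15, 168123) (.node (.node .leaf (69490, 0, 16, 205048) .leaf) (69491, 0, 16, 245918) .leaf)))))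

/-- part of the orbit tree -/
def itp2_55 : Tree := (.node itp2_51 (69114, 0, 16, 245274) itp2_52)

/-- part of the orbit tree -/
def itp2_56 : Tree := (.node itp2_53 (69373, 0, 16, 113022) itp2_54)

/-- part of the orbit tree -/
def itp2_57 : Tree := (.node itp2_49 (68731, 0, 16, 158466) itp2_50)

/-- part of the orbit tree -/
def itp2_58 : Tree := (.node itp2_55 (69245, 0, 14, 208500) itp2_56)

/-- part of the orbit tree -/
def itp2_59 : Tree := (.node itp2_43 (67965, 0, 17, 113368) itp2_44)

/-- part of the orbit tree -/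
def itp2_60 : Tree := (.node itp2_57 (68986, 0, 17, 40296) itp2_58)

/-- part of the orbit tree -/
def itp2_61 : Tree := (.node itp2_29 (66429, 0, 17, 256180) itp2_30)

/-- part of the orbit tree -/
def itp2_62 : Tree := (.node itp2_59 (68473, 0, 17, 140524) itp2_60)

/-- part of the orbit tree -/
def itp2_63 : Tree := (.node (.node (.node (.node (.node (.node .leaf (69493, 0, 15, 244889) .leaf) (69494, 0, 14, 203227) (.node .leaf (69495, 0, 18, 21739) .leaf)) (69512, 0, 15, 56169) (.node (.node .leaf (69513, 0, 13, 117255) .leaf) (69514, 0, 17, 101196) (.node .leaf (69515, 0, 17, 139893) .leaf))) (69516, 0, 16, 57930) (.node (.node (.node .leaf (69517, 0, 15, 556) .leaf) (69518, 0, 16, 111215) (.node .leaf (69519, 0, 18, 86537) .leaf)) (69520, 0, 17, 34468) (.node (.node .leaf (69521, 0, 18, 218733) .leaf) (69522, 0, 16, 190257) (.node .leaf (69523, 0, 18, 48671) .leaf)))) (69524, 0, 18, 49031) (.node (.node (.node (.node .leaf (69525, 0, 15, 76144) .leaf) (69526, 0, 13, 126882) (.node .leaf (69527,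 0, 17, 180482) .leaf)) (69536, 0, 15, 132287) (.node (.node .leaf (69537, 0, 16, 71010) .leaf) (69538, 0, 13, 42273) (.node .leaf (69539, 0, 18, 17735) .leaf))) (69540, 0, 17, 31650) (.node (.node (.node .leaf (69541, 0, 13, 139916) .leaf) (69542, 0, 18, 39938) (.node .leaf (69543, 0, 16, 31844) .leaf)) (69560, 0, 16, 108745) (.node (.node .leaf (69561, 0, 14, 84143) .leaf) (69562, 0, 10, 225447) (.node .leaf (69563, 0, 13, 6282) .leaf))))) (69564, 0, 15, 190408) (.node (.node (.node (.node (.node .leaf (69565, 0, 16, 94604) .leaf) (69566, 0, 11, 69562) (.node .leaf (69567, 0, 15, 218772) .leaf)) (69568, 0, 16, 205119) (.node (.node .leaf (69569, 0, 16, 95249) .leaf) (69570, 0, 16, 51533) (.node .leaf (69571, 0, 14, 168035) .leaf))) (69572, 0, 16, 109908) (.node (.node (.node .leaf (69573, 0, 15, 198412) .leaf) (69574, 0, 14, 177744) (.node .leaf (69575, 0, 14, 7447) .leaf)) (69592, 0, 8, 117178) (.node (.node .leaf (69593, 0, 16, 76252) .leaf) (69594, 0, 17, 152871) (.node .leaf (69595, 0, 9, 3081)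 .leaf)))) (69596, 0, 16, 246344) (.node (.node (.node (.node .leaf (69597, 0, 13, 105318) .leaf) (69598, 0, 17, 41148) (.node .leaf (69599, 0, 17, 160532) .leaf)) (69608, 0, 18, 177833) (.node (.node .leaf (69609, 0, 16, 23164) .leaf) (69610, 0, 17, 89819) (.node .leaf (69611, 0, 17, 68185) .leaf))) (69612, 0, 15, 33593) (.node (.node (.node .leaf (69613, 0, 15, 168090) .leaf) (69614, 0, 16, 119580) (.node .leaf (69615, 0, 16, 96488) .leaf)) (69616, 0, 15, 59351) (.node (.node .leaf (69617, 0, 12, 160749) .leaf) (69618, 0, 15, 112626) (.node .leaf (69619, 0, 17, 87956) .leaf))))))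

/-- part of the orbit tree -/
def itp2_64 : Tree := (.node (.node (.node (.node (.node (.node .leaf (69621, 0, 16, 3312) .leaf) (69622, 0, 15, 102097) (.node .leaf (69623, 0, 13, 255106) .leaf)) (69632, 0, 16, 176557) (.node (.node .leaf (69635, 0, 18, 9754) .leaf) (69637, 0, 17, 85788) (.node .leaf (69638, 0, 19, 65375) .leaf))) (69640, 0, 12, 154417) (.node (.node (.node .leaf (69643, 0, 17, 131970) .leaf) (69645, 0, 16, 223876) (.node .leaf (69646, 0, 15, 187079) .leaf)) (69649, 0, 12, 200298) (.node (.node .leaf (69650, 0, 15, 208681) .leaf) (69652, 0, 12, 178246) (.node .leaf (69655, 0, 18, 157548) .leaf)))) (69657, 0, 16, 161001) (.node (.node (.node (.node .leaf (69658, 0, 16, 39857) .leaf) (69660, 0, 18, 127671) (.node .leaf (69663, 0, 17, 254854) .leaf)) (69665, 0, 14, 103817) (.node (.node .leaf (69666, 0, 15, 9429) .leaf) (69668, 0, 15, 111546) (.node .leaf (69671, 0, 16, 201932) .leaf))) (69673, 0, 19, 22610) (.node (.node (.node .leaf (69674, 0, 16, 52809) .leaf) (69676, 0, 18, 33047)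 (.node .leaf (69679, 0, 16, 59514) .leaf)) (69680, 0, 16, 58873) (.node (.node .leaf (69683, 0, 18, 87482) .leaf) (69685, 0, 15, 105570) (.node .leaf (69686, 0, 17, 101631) .leaf))))) (69688, 0, 16, 86221) (.node (.node (.node (.node (.node .leaf (69691, 0, 18, 57745) .leaf) (69693, 0, 12, 137508) (.node .leaf (69694, 0, 17, 51106) .leaf)) (69697, 0, 18, 45065) (.node (.node .leaf (69698, 0, 14, 65877) .leaf) (69700, 0, 17, 38458) (.node .leaf (69703, 0, 17, 226751) .leaf))) (69705, 0, 13, 14625) (.node (.node (.node .leaf (69706, 0, 15, 125897) .leaf) (69708, 0, 17, 31910) (.node .leaf (69711, 0, 18, 118266) .leaf)) (69712, 0, 15, 40913) (.node (.node .leaf (69715, 0, 15, 77453) .leaf) (69717, 0, 15, 47586) (.node .leaf (69718, 0, 18, 126348) .leaf)))) (69720, 0, 18, 30029) (.node (.node (.node (.node .leaf (69723, 0, 16, 201041) .leaf) (69725, 0, 17, 161879) (.node .leaf (69726, 0, 16, 123426) .leaf)) (69728, 0, 17, 234541) (.node (.node .leaf (69731, 0, 15, 18281) .leaf) (69733, 0, 16, 77423) (.node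 .leaf (69734, 0, 18, 40492) .leaf))) (69736, 0, 12, 229041) (.node (.node (.node .leaf (69739, 0, 16, 184301) .leaf) (69741, 0, 15, 219266) (.node .leaf (69742, 0, 13, 190942) .leaf)) (69745, 0, 17, 225049) (.node (.node .leaf (69746, 0, 16, 188250) .leaf) (69748, 0, 15, 236998) (.node .leaf (69751, 0, 13, 132639) .leaf))))))

/-- part of the orbit tree -/
def itp2_65 : Tree := (.node (.node (.node (.node (.node (.node .leaf (69754, 0, 10, 64194) .leaf) (69756, 0, 16, 227162) (.node .leaf (69759, 0, 18, 9095) .leaf)) (69760, 0, 18, 65988) (.node (.node .leaf (69763, 0, 16, 176400) .leaf) (69765, 0, 17, 251926) (.node .leaf (69766, 0, 17, 157781) .leaf))) (69768, 0, 16, 74955) (.node (.node (.node .leaf (69771, 0, 17, 38024) .leaf) (69773, 0, 16, 130446) (.node .leaf (69774, 0, 16, 31799) .leaf)) (69777, 0, 15, 104800) (.node (.node .leaf (69778, 0, 13, 10531) .leaf) (69780, 0, 17, 67631) (.node .leaf (69783, 0, 7, 47475) .leaf)))) (69785, 0, 16, 115840) (.node (.node (.node (.node .leaf (69786, 0,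 16, 30172) .leaf) (69788, 0, 17, 222653) (.node .leaf (69791, 0, 16, 21487) .leaf)) (69793, 0, 16, 60096) (.node (.node .leaf (69794, 0, 16, 88707) .leaf) (69796, 0, 17, 13189) (.node .leaf (69799, 0, 16, 242319) .leaf))) (69801, 0, 17, 184152) (.node (.node (.node .leaf (69802, 0, 15, 229147) .leaf) (69804, 0, 17, 136733) (.node .leaf (69807, 0, 16, 219155) .leaf)) (69808, 0, 13, 160499) (.node (.node .leaf (69811, 0, 15, 246448) .leaf) (69813, 0, 17, 175030) (.node .leaf (69814, 0, 16, 236887) .leaf))))) (69816, 0, 17, 22379) (.node (.node (.node (.node (.node .leaf (69819, 0, 17, 124712) .leaf) (69821, 0, 16, 181911) (.node .leaf (69822, 0, 14, 227275) .leaf)) (69825, 0, 13, 35763) (.node (.node .leaf (69826, 0, 18, 80880) .leaf) (69828, 0, 16, 21238) (.node .leaf (69831, 0, 17, 123573) .leaf))) (69833, 0, 14, 256764) (.node (.node (.node .leaf (69834, 0, 14, 154528) .leaf) (69836, 0, 16, 249039) (.node .leaf (69839, 0, 15, 163219) .leaf)) (69840, 0, 16, 136064) (.node (.node .leaf (69843, 0, 14,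 238531) .leaf) (69845, 0, 11, 199051) (.node .leaf (69846, 0, 13, 227974) .leaf)))) (69848, 0, 15, 247076) (.node (.node (.node (.node .leaf (69851, 0, 16, 160888) .leaf) (69853, 0, 15, 61277) (.node .leaf (69854, 0, 17, 152139) .leaf)) (69856, 0, 14, 9284) (.node (.node .leaf (69859, 0, 15, 103704) .leaf) (69861, 0, 16, 244069) (.node .leaf (69862, 0, 17, 111403) .leaf))) (69864, 0, 18, 83384) (.node (.node (.node .leaf (69867, 0, 15, 98180) .leaf) (69869, 0, 18, 105725) (.node .leaf (69870, 0, 16, 11454) .leaf)) (69873, 0, 15, 129043) (.node (.node .leaf (69874, 0, 17, 113344) .leaf) (69876, 0, 15, 74070) (.node .leaf (69879, 0, 16, 37141) .leaf))))))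

/-- part of the orbit tree -/
def itp2_66 : Tree := (.node (.node (.node (.node (.node (.node .leaf (69882, 0, 14, 86108) .leaf) (69884, 0, 10, 50995) (.node .leaf (69887, 0, 15, 177293) .leaf)) (69889, 0, 16, 3936) (.node (.node .leaf (69890, 0, 18, 114236) .leaf) (69892, 0, 17, 10579) (.node .leaf (69895, 0, 16, 245069) .leaf))) (69897, 0, 12, 58876) (.node (.node (.node .leaf (69898, 0, 17, 87200) .leaf) (69900, 0, 11, 10390) (.node .leaf (69903, 0, 16, 94867) .leaf)) (69904, 0, 16, 8376) (.node (.node .leaf (69907, 0, 16, 102884) .leaf) (69909, 0, 17, 38205) (.node .leaf (69910, 0, 11, 112599) .leaf)))) (69912, 0, 14, 158176) (.node (.node (.node (.node .leaf (69915, 0, 17, 97144) .leaf) (69917, 0, 17, 60439) (.node .leaf (69918, 0, 16, 89419) .leaf)) (69920, 0, 18, 81880) (.node (.node .leaf (69923, 0, 9, 170520) .leaf) (69925, 0, 18, 200055) (.node .leaf (69926, 0, 16, 22238) .leaf))) (69928, 0, 17, 246232) (.node (.node (.node .leaf (69931, 0, 17, 159876) .leaf) (69933, 0, 17, 255979) (.node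 .leaf (69934, 0, 15, 160582) .leaf)) (69937, 0, 13, 239595) (.node (.node .leaf (69938, 0, 15, 137128) .leaf) (69940, 0, 16, 205487) (.node .leaf (69943, 0, 5, 168947) .leaf))))) (69945, 0, 13, 98931) (.node (.node (.node (.node (.node .leaf (69946, 0, 17, 12848) .leaf) (69948, 0, 16, 88886) (.node .leaf (69951, 0, 18, 162159) .leaf)) (69952, 0, 16, 89771) (.node (.node .leaf (69955, 0, 15, 61160) .leaf) (69957, 0, 16, 100334) (.node .leaf (69958, 0, 17, 235947) .leaf))) (69960, 0, 17, 189528) (.node (.node (.node .leaf (69963, 0, 15, 183152) .leaf) (69965, 0, 15, 180843) (.node .leaf (69966, 0, 14, 135733) .leaf)) (69969, 0, 17, 247448) (.node (.node .leaf (69970, 0, 17, 161499) .leaf) (69972, 0, 15, 204765) (.node .leaf (69975, 0, 17, 176030) .leaf)))) (69977, 0, 16, 183168) (.node (.node (.node (.node .leaf (69978, 0, 18, 21315) .leaf) (69980, 0, 17, 191923) (.node .leaf (69983, 0, 16, 35334) .leaf)) (69985, 0, 16, 76512) (.node (.node .leaf (69986, 0, 17, 39868) .leaf) (69988, 0, 17, 158845) (.node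 .leaf (69991, 0, 15, 48527) .leaf))) (69993, 0, 15, 37024) (.node (.node (.node .leaf (69994, 0, 10, 73955) .leaf) (69996, 0, 8, 124495) (.node .leaf (69999, 0, 16, 129446) .leaf)) (70000, 0, 16, 11531) (.node (.node .leaf (70003, 0, 10, 46180) .leaf) (70005, 0, 17, 74507) (.node .leaf (70006, 0, 16, 82957) .leaf))))))

/-- part of the orbit tree -/
def itp2_67 : Tree := (.node itp2_63 (69620, 0, 17, 153054) itp2_64)

/-- part of the orbit tree -/
def itp2_68 : Tree := (.node itp2_65 (69881, 0, 18, 253323) itp2_66)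

/-- part of the orbit tree -/
def itp2_69 : Tree := (.node (.node (.node (.node (.node (.node .leaf (70011, 0, 16, 24312) .leaf) (70013, 0, 17, 184790) (.node .leaf (70014, 0, 15, 221589) .leaf)) (70017, 0, 12, 245513) (.node (.node .leaf (70018, 0, 14, 134741) .leaf) (70020, 0, 17, 39428) (.node .leaf (70023, 0, 17, 76359) .leaf))) (70025, 0, 15, 157401) (.node (.node (.node .leaf (70026, 0, 6, 189641) .leaf) (70028, 0, 18, 226214) (.node .leaf (70031, 0, 17, 200671) .leaf)) (70032, 0, 14, 233681) (.node (.node .leaf (70035, 0, 18, 224049) .leaf) (70037, 0, 16, 131639) (.node .leaf (70038, 0, 16, 133054) .leaf)))) (70040, 0, 16, 227917) (.node (.node (.node (.node .leaf (70043, 0, 17, 85673) .leaf) (70045, 0, 16, 220286) (.node .leaf (70046, 0, 16, 104428) .leaf)) (70048, 0, 11, 39725) (.node (.node .leaf (70051, 0, 16, 76401) .leaf) (70053, 0, 17, 225687) (.node .leaf (70054, 0, 15, 180692) .leaf))) (70056, 0, 14, 29105) (.node (.node (.node .leaf (70059, 0, 17, 114925) .leaf) (70061, 0, 14, 87055)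 (.node .leaf (70062, 0, 15, 124638) .leaf)) (70065, 0, 16, 46325) (.node (.node .leaf (70066, 0, 16, 66985) .leaf) (70068, 0, 15, 37574) (.node .leaf (70071, 0, 17, 23015) .leaf))))) (70073, 0, 18, 202105) (.node (.node (.node (.node (.node .leaf (70074, 0, 15, 126773) .leaf) (70076, 0, 16, 248892) (.node .leaf (70079, 0, 15, 116998) .leaf)) (70080, 0, 17, 248225) (.node (.node .leaf (70083, 0, 17, 4081) .leaf) (70085, 0, 17, 200932) (.node .leaf (70086, 0, 17, 10690) .leaf))) (70088, 0, 12, 126009) (.node (.node (.node .leaf (70091, 0, 17, 58733) .leaf) (70093, 0, 16, 79228) (.node .leaf (70094, 0, 18, 50014) .leaf)) (70097, 0, 16, 86418) (.node (.node .leaf (70098, 0, 13, 57809) .leaf) (70100, 0, 14, 100567) (.node .leaf (70103, 0, 19, 14484) .leaf)))) (70105, 0, 16, 97257) (.node (.node (.node (.node .leaf (70106, 0, 18, 51893) .leaf) (70108, 0, 16, 240975) (.node .leaf (70111, 0, 17, 138508) .leaf)) (70113, 0, 17, 170633) (.node (.node .leaf (70114, 0, 17, 207829) .leaf) (70116, 0, 13, 64375)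 (.node .leaf (70119, 0, 18, 84788) .leaf))) (70121, 0, 11, 159765) (.node (.node (.node .leaf (70122, 0, 16, 246089) .leaf) (70124, 0, 15, 153126) (.node .leaf (70127, 0, 16, 224940) .leaf)) (70128, 0, 16, 177489) (.node (.node .leaf (70131, 0, 17, 199234) .leaf) (70133, 0, 17, 156484) (.node .leaf (70134, 0, 15, 250631) .leaf))))))

/-- part of the orbit tree -/
def itp2_70 : Tree := (.node (.node (.node (.node (.node (.node .leaf (70139, 0, 17, 77786) .leaf) (70141, 0, 18, 18140) (.node .leaf (70142, 0, 15, 128671) .leaf)) (70146, 0, 15, 59916) (.node (.node .leaf (70147, 0, 15, 198109) .leaf) (70148, 0, 18, 52124) (.node .leaf (70149, 0, 17, 90988) .leaf))) (70154, 0, 17, 184212) (.node (.node (.node .leaf (70155, 0, 15, 257857) .leaf) (70156, 0, 15, 239250) (.node .leaf (70157, 0, 14, 214772) .leaf)) (70160, 0, 13, 246396) (.node (.node .leaf (70161, 0, 15, 170841) .leaf) (70166, 0, 10, 87320) (.node .leaf (70167, 0, 14, 199734) .leaf)))) (70168, 0, 15, 10475) (.node (.node (.node (.node .leaf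 (70169, 0, 18, 160197) .leaf) (70174, 0, 14, 36578) (.node .leaf (70175, 0, 17, 255658) .leaf)) (70176, 0, 14, 248203) (.node (.node .leaf (70177, 0, 17, 151994) .leaf) (70182, 0, 16, 155364) (.node .leaf (70183, 0, 16, 211132) .leaf))) (70184, 0, 17, 205591) (.node (.node (.node .leaf (70185, 0, 13, 29730) .leaf) (70190, 0, 18, 130370) (.node .leaf (70191, 0, 15, 72996) .leaf)) (70194, 0, 16, 153359) (.node (.node .leaf (70195, 0, 18, 3617) .leaf) (70196, 0, 16, 245856) (.node .leaf (70197, 0, 15, 104782) .leaf))))) (70202, 0, 14, 179603) (.node (.node (.node (.node (.node .leaf (70203, 0, 17, 220242) .leaf) (70204, 0, 15, 207612) (.node .leaf (70205, 0, 11, 95186) .leaf)) (70208, 0, 13, 191499) (.node (.node .leaf (70209, 0, 13, 143561) .leaf) (70214, 0, 13, 228196) (.node .leaf (70215, 0, 16, 74314) .leaf))) (70216, 0, 17, 62775) (.node (.node (.node .leaf (70217, 0, 16, 5457) .leaf) (70222, 0, 15, 233976) (.node .leaf (70223, 0, 16, 116950) .leaf)) (70226, 0, 19, 129247) (.node (.node .leaf (70227,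 0, 17, 71865) .leaf) (70228, 0, 18, 37337) (.node .leaf (70229, 0, 17, 48334) .leaf)))) (70234, 0, 17, 235539) (.node (.node (.node (.node .leaf (70235, 0, 17, 115005) .leaf) (70236, 0, 15, 135036) (.node .leaf (70237, 0, 16, 152615) .leaf)) (70242, 0, 18, 31091) (.node (.node .leaf (70243, 0, 17, 27417) .leaf) (70244, 0, 16, 123513) (.node .leaf (70245, 0, 16, 243506) .leaf))) (70250, 0, 18, 175847) (.node (.node (.node .leaf (70251, 0, 16, 151169) .leaf) (70252, 0, 18, 66688) (.node .leaf (70253, 0, 15, 206727) .leaf)) (70256, 0, 18, 238351) (.node (.node .leaf (70257, 0, 17, 213865) .leaf) (70262, 0, 15, 28824) (.node .leaf (70263, 0, 13, 141750) .leaf))))))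

/-- part of the orbit tree -/
def itp2_71 : Tree := (.node (.node (.node (.node (.node (.node .leaf (70265, 0, 18, 218181) .leaf) (70270, 0, 12, 61329) (.node .leaf (70271, 0, 13, 4087) .leaf)) (70274, 0, 18, 191642) (.node (.node .leaf (70275, 0, 15, 171360) .leaf) (70276, 0, 15, 201728) (.node .leaf (70277, 0, 16, 74459) .leaf))) (70282, 0, 17, 22686) (.node (.node (.node .leaf (70283, 0, 16, 47352) .leaf) (70284, 0, 17, 233833) (.node .leaf (70285, 0, 16, 119294) .leaf)) (70288, 0, 15, 87414) (.node (.node .leaf (70289, 0, 15, 76592) .leaf) (70294, 0, 17, 15472) (.node .leaf (70295, 0, 16, 48223) .leaf)))) (70296, 0, 15, 235650) (.node (.node (.node (.node .leaf (70297, 0, 12, 233608) .leaf) (70302, 0, 14, 137704) (.node .leaf (70303, 0, 14, 194958) .leaf)) (70304, 0, 16, 31202) (.node (.node .leaf (70305, 0, 18, 139468) .leaf) (70310, 0, 18, 126605) (.node .leaf (70311, 0, 15, 110518) .leaf))) (70312, 0, 16, 131918) (.node (.node (.node .leaf (70313, 0, 17, 182864) .leaf) (70318, 0, 16, 66577)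 (.node .leaf (70319, 0, 12, 220479) .leaf)) (70322, 0, 14, 124774) (.node (.node .leaf (70323, 0, 17, 245320) .leaf) (70324, 0, 18, 157600) (.node .leaf (70325, 0, 16, 141607) .leaf))))) (70330, 0, 17, 76606) (.node (.node (.node (.node (.node .leaf (70331, 0, 18, 218324) .leaf) (70332, 0, 19, 39573) (.node .leaf (70333, 0, 17, 181179) .leaf)) (70336, 0, 17, 18341) (.node (.node .leaf (70337, 0, 14, 42947) .leaf) (70342, 0, 16, 51981) (.node .leaf (70343, 0, 15, 168483) .leaf))) (70344, 0, 18, 112382) (.node (.node (.node .leaf (70345, 0, 17, 258000) .leaf) (70350, 0, 15, 8593) (.node .leaf (70351, 0, 15, 256861) .leaf)) (70354, 0, 18, 225237) (.node (.node .leaf (70355, 0, 14, 233395) .leaf) (70356, 0, 16, 87433) (.node .leaf (70357, 0, 13, 190133) .leaf)))) (70362, 0, 12, 10362) (.node (.node (.node (.node .leaf (70363, 0, 18, 109099) .leaf) (70364, 0, 18, 9035) (.node .leaf (70365, 0, 16, 255547) .leaf)) (70370, 0, 16, 138357) (.node (.node .leaf (70371, 0, 17, 102452) .leaf) (70372, 0, 16, 226675)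 (.node .leaf (70373, 0, 17, 1883) .leaf))) (70378, 0, 15, 205702) (.node (.node (.node .leaf (70379, 0, 15, 96936) .leaf) (70380, 0, 18, 177385) (.node .leaf (70381, 0, 17, 60871) .leaf)) (70384, 0, 16, 78853) (.node (.node .leaf (70385, 0, 14, 119907) .leaf) (70390, 0, 17, 23811) (.node .leaf (70391, 0, 17, 48485) .leaf))))))

/-- part of the orbit tree -/
def itp2_72 : Tree := (.node (.node (.node (.node (.node (.node .leaf (70393, 0, 17, 58412) .leaf) (70398, 0, 17, 207469) (.node .leaf (70399, 0, 13, 95043) .leaf)) (70400, 0, 18, 137309) (.node (.node .leaf (70401, 0, 15, 194619) .leaf) (70406, 0, 15, 246797) (.node .leaf (70407, 0, 16, 233789) .leaf))) (70408, 0, 12, 178686) (.node (.node (.node .leaf (70409, 0, 11, 57552) .leaf) (70414, 0, 17, 87235) (.node .leaf (70415, 0, 18, 96191) .leaf)) (70418, 0, 17, 249318) (.node (.node .leaf (70419, 0, 18, 103624) .leaf) (70420, 0, 13, 22827) (.node .leaf (70421, 0, 18, 935) .leaf)))) (70426, 0, 13, 202165) (.node (.node (.node (.node .leaf (70427,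 0, 16, 259539) .leaf) (70428, 0, 14, 176149) (.node .leaf (70429, 0, 15, 59707) .leaf)) (70434, 0, 15, 17293) (.node (.node .leaf (70435, 0, 16, 41963) .leaf) (70436, 0, 17, 86389) (.node .leaf (70437, 0, 5, 198747) .leaf))) (70442, 0, 14, 157205) (.node (.node (.node .leaf (70443, 0, 14, 161192) .leaf) (70444, 0, 16, 113641) (.node .leaf (70445, 0, 13, 254663) .leaf)) (70448, 0, 16, 224253) (.node (.node .leaf (70449, 0, 17, 197040) .leaf) (70454, 0, 17, 131835) (.node .leaf (70455, 0, 16, 169695) .leaf))))) (70456, 0, 16, 111106) (.node (.node (.node (.node (.node .leaf (70457, 0, 16, 256812) .leaf) (70462, 0, 12, 10083) (.node .leaf (70463, 0, 17, 162883) .leaf)) (70466, 0, 16, 8958) (.node (.node .leaf (70467, 0, 15, 244404) .leaf) (70468, 0, 14, 84984) (.node .leaf (70469, 0, 15, 142811) .leaf))) (70474, 0, 18, 67846) (.node (.node (.node .leaf (70475, 0, 14, 217128) .leaf) (70476, 0, 17, 40553) (.node .leaf (70477, 0, 17, 182087) .leaf)) (70480, 0, 17, 199310) (.node (.node .leaf (70481, 0,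 18, 256744) .leaf) (70486, 0, 16, 156552) (.node .leaf (70487, 0, 16, 164846) .leaf)))) (70488, 0, 17, 38786) (.node (.node (.node (.node .leaf (70489, 0, 17, 118640) .leaf) (70494, 0, 16, 17936) (.node .leaf (70495, 0, 13, 42614) .leaf)) (70496, 0, 15, 162094) (.node (.node .leaf (70497, 0, 17, 77772) .leaf) (70502, 0, 17, 188813) (.node .leaf (70503, 0, 15, 47267) .leaf))) (70504, 0, 18, 23734) (.node (.node (.node .leaf (70505, 0, 16, 48336) .leaf) (70510, 0, 18, 79280) (.node .leaf (70511, 0, 14, 120278) .leaf)) (70514, 0, 15, 86366) (.node (.node .leaf (70515, 0, 14, 110904) .leaf) (70516, 0, 16, 229129) .leaf)))))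

/-- part of the orbit tree -/
def itp2_73 : Tree := (.node itp2_69 (70136, 0, 16, 155597) itp2_70)

/-- part of the orbit tree -/
def itp2_74 : Tree := (.node itp2_71 (70392, 0, 16, 201117) itp2_72)

/-- part of the orbit tree -/
def itp2_75 : Tree := (.node itp2_67 (69753, 0, 18, 84609) itp2_68)

/-- part of the orbit tree -/
def itp2_76 : Tree := (.node itp2_73 (70264, 0, 17, 99991) itp2_74)

/-- part of the orbit tree -/
def itp2_77 : Tree := (.node (.node (.node (.node (.node (.node .leaf (70522, 0, 17, 226502) .leaf) (70523, 0, 14, 234656) (.node .leaf (70524, 0, 17, 234901) .leaf)) (70525, 0, 11, 117947) (.node (.node .leaf (70528, 0, 16, 36695) .leaf) (70529, 0, 12, 28465) (.node .leaf (70534, 0, 17, 29796) .leaf))) (70535, 0, 17, 67127) (.node (.node (.node .leaf (70536, 0, 17, 174799) .leaf) (70537, 0, 12, 217273) (.node .leaf (70542, 0, 16, 246729) .leaf)) (70543, 0, 17, 205743) (.node (.node .leaf (70546, 0, 16, 32143) .leaf) (70547, 0, 18, 140449) (.node .leaf (70548, 0, 15, 125664) .leaf))))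 (70549, 0, 16, 142919) (.node (.node (.node (.node .leaf (70554, 0, 17, 38675) .leaf) (70555, 0, 18, 90841) (.node .leaf (70556, 0, 15, 65660) .leaf)) (70557, 0, 15, 219474) (.node (.node .leaf (70562, 0, 17, 185479) .leaf) (70563, 0, 18, 77661) (.node .leaf (70564, 0, 15, 245121) .leaf))) (70565, 0, 16, 220647) (.node (.node (.node .leaf (70570, 0, 14, 236783) .leaf) (70571, 0, 16, 4473) (.node .leaf (70572, 0, 17, 134016) .leaf)) (70573, 0, 18, 96383) (.node (.node .leaf (70576, 0, 16, 130295) .leaf) (70577, 0, 16, 45529) (.node .leaf (70582, 0, 15, 38385) .leaf))))) (70583, 0, 15, 75446) (.node (.node (.node (.node (.node .leaf (70584, 0, 18, 252271) .leaf) (70585, 0, 17, 211209) (.node .leaf (70590, 0, 16, 176233) .leaf)) (70591, 0, 16, 117802) (.node (.node .leaf (70594, 0, 16, 177652) .leaf) (70595, 0, 16, 2781) (.node .leaf (70596, 0, 12, 253170) .leaf))) (70597, 0, 15, 105906) (.node (.node (.node .leaf (70602, 0, 16, 36972) .leaf) (70603, 0, 17, 28682) (.node .leaf (70604, 0, 16, 129386)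 .leaf)) (70605, 0, 15, 71948) (.node (.node .leaf (70608, 0, 13, 249207) .leaf) (70609, 0, 14, 97762) (.node .leaf (70614, 0, 13, 154136) .leaf)))) (70615, 0, 16, 822) (.node (.node (.node (.node .leaf (70616, 0, 17, 206827) .leaf) (70617, 0, 11, 97989) (.node .leaf (70622, 0, 17, 176260) .leaf)) (70623, 0, 17, 143740) (.node (.node .leaf (70624, 0, 15, 50827) .leaf) (70625, 0, 16, 3650) (.node .leaf (70630, 0, 15, 100130) .leaf))) (70631, 0, 14, 91972) (.node (.node (.node .leaf (70632, 0, 15, 183228) .leaf) (70633, 0, 16, 161081) (.node .leaf (70638, 0, 11, 238266) .leaf)) (70639, 0, 16, 254550) (.node (.node .leaf (70642, 0, 15, 247380) .leaf) (70643, 0, 13, 206386) (.node .leaf (70644, 0, 15, 175954) .leaf))))))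

/-- part of the orbit tree -/
def itp2_78 : Tree := (.node (.node (.node (.node (.node (.node .leaf (70650, 0, 15, 123852) .leaf) (70651, 0, 16, 66474) (.node .leaf (70652, 0, 15, 35530) .leaf)) (70653, 0, 15, 27308) (.node (.node .leaf (70657, 0, 16, 255351) .leaf) (70659, 0, 17, 81074) (.node .leaf (70660, 0, 12, 46546) .leaf))) (70662, 0, 13, 124407) (.node (.node (.node .leaf (70665, 0, 15, 149775) .leaf) (70667, 0, 17, 59289) (.node .leaf (70668, 0, 17, 168010) .leaf)) (70670, 0, 16, 245871) (.node (.node .leaf (70672, 0, 16, 193700) .leaf) (70674, 0, 16, 238721) (.node .leaf (70677, 0, 16, 257180) .leaf)))) (70679, 0, 14, 228804) (.node (.node (.node (.node .leaf (70680, 0, 18, 204851) .leaf) (70682, 0, 16, 51265) (.node .leaf (70685, 0, 16, 198144) .leaf)) (70687, 0, 14, 61042) (.node (.node .leaf (70688, 0, 15, 231172) .leaf) (70690, 0, 17, 207137) (.node .leaf (70693, 0, 16, 220737) .leaf))) (70695, 0, 17, 200466) (.node (.node (.node .leaf (70696, 0, 15, 11215) .leaf) (70698, 0, 18, 62137)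 (.node .leaf (70701, 0, 16, 3580) .leaf)) (70703, 0, 16, 255374) (.node (.node .leaf (70705, 0, 17, 61067) .leaf) (70707, 0, 13, 198393) (.node .leaf (70708, 0, 15, 51384) .leaf))))) (70710, 0, 16, 38487) (.node (.node (.node (.node (.node .leaf (70713, 0, 14, 211631) .leaf) (70715, 0, 16, 158346) (.node .leaf (70716, 0, 17, 8740) .leaf)) (70718, 0, 17, 248406) (.node (.node .leaf (70720, 0, 17, 255607) .leaf) (70722, 0, 17, 134305) (.node .leaf (70725, 0, 16, 212786) .leaf))) (70727, 0, 18, 141970) (.node (.node (.node .leaf (70728, 0, 15, 69199) .leaf) (70730, 0, 17, 37834) (.node .leaf (70733, 0, 16, 72362) .leaf)) (70735, 0, 18, 19087) (.node (.node .leaf (70737, 0, 16, 117515) .leaf) (70739, 0, 18, 140153) (.node .leaf (70740, 0, 15, 108289) .leaf)))) (70742, 0, 16, 132426) (.node (.node (.node (.node .leaf (70745, 0, 16, 220124) .leaf) (70747, 0, 16, 134137) (.node .leaf (70748, 0, 14, 67492) .leaf)) (70750, 0, 17, 192470) (.node (.node .leaf (70753, 0, 18, 3556) .leaf) (70755, 0, 18, 75909)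 (.node .leaf (70756, 0, 18, 54433) .leaf))) (70758, 0, 17, 69302) (.node (.node (.node .leaf (70761, 0, 16, 141931) .leaf) (70763, 0, 16, 115225) (.node .leaf (70764, 0, 12, 192825) .leaf)) (70766, 0, 15, 237852) (.node (.node .leaf (70768, 0, 15, 192303) .leaf) (70770, 0, 15, 67421) (.node .leaf (70773, 0, 16, 182556) .leaf))))))

/-- part of the orbit tree -/
def itp2_79 : Tree := (.node (.node (.node (.node (.node (.node .leaf (70776, 0, 17, 45135) .leaf) (70778, 0, 14, 122986) (.node .leaf (70781, 0, 17, 26890) .leaf)) (70783, 0, 15, 80175) (.node (.node .leaf (70785, 0, 15, 21790) .leaf) (70787, 0, 18, 245100) (.node .leaf (70788, 0, 14, 29485) .leaf))) (70790, 0, 14, 226045) (.node (.node (.node .leaf (70793, 0, 16, 56837) .leaf) (70795, 0, 17, 101920) (.node .leaf (70796, 0, 15, 39345) .leaf)) (70798, 0, 17, 87909) (.node (.node .leaf (70800, 0, 17, 25518) .leaf) (70802, 0, 15, 78731) (.node .leaf (70805, 0, 16, 23797) .leaf)))) (70807, 0, 17, 125646) (.node (.node (.node (.node .leaf (70808,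 0, 17, 36954) .leaf) (70810, 0, 14, 202259) (.node .leaf (70813, 0, 16, 46697) .leaf)) (70815, 0, 13, 249686) (.node (.node .leaf (70816, 0, 16, 69646) .leaf) (70818, 0, 16, 39240) (.node .leaf (70821, 0, 14, 117067) .leaf))) (70823, 0, 18, 39278) (.node (.node (.node .leaf (70824, 0, 16, 236454) .leaf) (70826, 0, 16, 29652) (.node .leaf (70829, 0, 18, 257235) .leaf)) (70831, 0, 13, 179446) (.node (.node .leaf (70833, 0, 16, 231485) .leaf) (70835, 0, 16, 46736) (.node .leaf (70836, 0, 17, 217464) .leaf))))) (70838, 0, 18, 37027) (.node (.node (.node (.node (.node .leaf (70841, 0, 17, 109989) .leaf) (70843, 0, 17, 23564) (.node .leaf (70844, 0, 15, 95456) .leaf)) (70846, 0, 17, 31295) (.node (.node .leaf (70848, 0, 17, 152762) .leaf) (70850, 0, 18, 113864) (.node .leaf (70853, 0, 15, 108600) .leaf))) (70855, 0, 14, 105211) (.node (.node (.node .leaf (70856, 0, 17, 218341) .leaf) (70858, 0, 15, 87636) (.node .leaf (70861, 0, 17, 170005) .leaf)) (70863, 0, 16, 94311) (.node (.node .leaf (70865, 0, 16,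 256334) .leaf) (70867, 0, 16, 178539) (.node .leaf (70868, 0, 14, 154961) .leaf)))) (70870, 0, 17, 155694) (.node (.node (.node (.node .leaf (70873, 0, 17, 117974) .leaf) (70875, 0, 15, 96652) (.node .leaf (70876, 0, 13, 71059) .leaf)) (70878, 0, 18, 17846) (.node (.node .leaf (70881, 0, 13, 94366) .leaf) (70883, 0, 17, 170220) (.node .leaf (70884, 0, 12, 148395) .leaf))) (70886, 0, 19, 179935) (.node (.node (.node .leaf (70889, 0, 14, 104962) .leaf) (70891, 0, 17, 126803) (.node .leaf (70892, 0, 17, 26163) .leaf)) (70894, 0, 15, 79382) (.node (.node .leaf (70896, 0, 16, 89926) .leaf) (70898, 0, 17, 86776) (.node .leaf (70901, 0, 16, 56216) .leaf))))))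

/-- part of the orbit tree -/
def itp2_80 : Tree := (.node (.node (.node (.node (.node (.node .leaf (70904, 0, 18, 141125) .leaf) (70906, 0, 16, 227168) (.node .leaf (70909, 0, 16, 103401) .leaf)) (70911, 0, 13, 162715) (.node (.node .leaf (70912, 0, 16, 208517) .leaf) (70914, 0, 17, 163488) (.node .leaf (70917, 0, 16, 97673) .leaf))) (70919, 0, 15, 169467) (.node (.node (.node .leaf (70920, 0, 15, 68381) .leaf) (70922, 0, 18, 23352) (.node .leaf (70925, 0, 17, 104213) .leaf)) (70927, 0, 14, 163687) (.node (.node .leaf (70929, 0, 15, 112310) .leaf) (70931, 0, 16, 171024) (.node .leaf (70932, 0, 17, 94195) .leaf)))) (70934, 0, 13, 16342) (.node (.node (.node (.node .leaf (70937, 0, 12, 234286) .leaf) (70939, 0, 15, 161420) (.node .leaf (70940, 0, 16, 112845) .leaf)) (70942, 0, 15, 151743) (.node (.node .leaf (70945, 0, 16, 50454) .leaf) (70947, 0, 16, 104428) (.node .leaf (70948, 0, 17, 154029) .leaf))) (70950, 0, 17, 85110) (.node (.node (.node .leaf (70953, 0, 15, 169218) .leaf) (70955, 0, 16, 241835)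 (.node .leaf (70956, 0, 18, 176945) .leaf)) (70958, 0, 17, 88899) (.node (.node .leaf (70960, 0, 17, 151622) .leaf) (70962, 0, 16, 199936) (.node .leaf (70965, 0, 12, 164960) .leaf))))) (70967, 0, 16, 250949) (.node (.node (.node (.node (.node .leaf (70968, 0, 18, 30909) .leaf) (70970, 0, 17, 86696) (.node .leaf (70973, 0, 19, 41464) .leaf)) (70975, 0, 14, 127453) (.node (.node .leaf (70977, 0, 18, 42085) .leaf) (70979, 0, 18, 45676) (.node .leaf (70980, 0, 17, 228397) .leaf))) (70982, 0, 17, 37983) (.node (.node (.node .leaf (70985, 0, 15, 241794) .leaf) (70987, 0, 17, 250328) (.node .leaf (70988, 0, 18, 153784) .leaf)) (70990, 0, 18, 198813) (.node (.node .leaf (70992, 0, 16, 226758) .leaf) (70994, 0, 17, 224371) (.node .leaf (70997, 0, 17, 189715) .leaf)))) (70999, 0, 15, 48007) (.node (.node (.node (.node .leaf (71000, 0, 14, 6606) .leaf) (71002, 0, 14, 84459) (.node .leaf (71005, 0, 15, 49291) .leaf)) (71007, 0, 17, 20763) (.node (.node .leaf (71008, 0, 12, 217078) .leaf) (71010, 0, 15, 235080)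 (.node .leaf (71013, 0, 16, 22537) .leaf))) (71015, 0, 15, 241787) (.node (.node (.node .leaf (71016, 0, 17, 92782) .leaf) (71018, 0, 16, 14923) (.node .leaf (71021, 0, 17, 111403) .leaf)) (71023, 0, 17, 58126) (.node (.node .leaf (71025, 0, 18, 120773) .leaf) (71027, 0, 13, 34784) (.node .leaf (71028, 0, 17, 69248) .leaf))))))

/-- part of the orbit tree -/
def itp2_81 : Tree := (.node itp2_77 (70645, 0, 16, 151348) itp2_78)

/-- part of the orbit tree -/
def itp2_82 : Tree := (.node itp2_79 (70903, 0, 14, 168199) itp2_80)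

/-- part of the orbit tree -/
def itp2_83 : Tree := (.node (.node (.node (.node (.node (.node .leaf (71033, 0, 17, 47998) .leaf) (71035, 0, 11, 172664) (.node .leaf (71036, 0, 15, 40269) .leaf)) (71038, 0, 14, 162621) (.node (.node .leaf (71040, 0, 15, 191443) .leaf) (71042, 0, 14, 66465) (.node .leaf (71045, 0, 15, 90314) .leaf))) (71047, 0, 15, 75154) (.node (.node (.node .leaf (71048, 0, 16, 236567) .leaf) (71050, 0, 15, 125245) (.node .leaf (71053, 0, 16, 141180) .leaf)) (71055, 0, 14, 118542) (.node (.node .leaf (71057, 0, 13, 205244) .leaf) (71059, 0, 12, 76921) (.node .leaf (71060, 0, 16, 260345) .leaf)))) (71062, 0, 18, 68170) (.node (.node (.node (.node .leaf (71065, 0, 14, 142999) .leaf) (71067, 0, 18, 21505) (.node .leaf (71068, 0, 13, 122209) .leaf)) (71070, 0, 17, 36164) (.node (.node .leaf (71073, 0, 15, 118775) .leaf) (71075, 0, 15, 197177) (.node .leaf (71076, 0, 16, 125380) .leaf))) (71078, 0, 14, 131510) (.node (.node (.node .leaf (71081, 0, 19, 75115) .leaf) (71083, 0, 16, 183577)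 (.node .leaf (71084, 0, 17, 66392) .leaf)) (71086, 0, 16, 191274) (.node (.node .leaf (71088, 0, 17, 51759) .leaf) (71090, 0, 18, 104970) (.node .leaf (71093, 0, 17, 116252) .leaf))))) (71095, 0, 16, 82767) (.node (.node (.node (.node (.node .leaf (71096, 0, 17, 192439) .leaf) (71098, 0, 15, 245650) (.node .leaf (71101, 0, 18, 145138) .leaf)) (71103, 0, 13, 222935) (.node (.node .leaf (71105, 0, 17, 144239) .leaf) (71107, 0, 12, 197125) (.node .leaf (71108, 0, 17, 191018) .leaf))) (71110, 0, 16, 244239) (.node (.node (.node .leaf (71113, 0, 15, 235) .leaf) (71115, 0, 15, 83666) (.node .leaf (71116, 0, 16, 53170) .leaf)) (71118, 0, 16, 106391) (.node (.node .leaf (71120, 0, 17, 50607) .leaf) (71122, 0, 8, 129913) (.node .leaf (71125, 0, 16, 29209) .leaf)))) (71127, 0, 16, 74300) (.node (.node (.node (.node .leaf (71128, 0, 17, 12083) .leaf) (71130, 0, 16, 247617) (.node .leaf (71133, 0, 16, 153473) .leaf)) (71135, 0, 18, 254322) (.node (.node .leaf (71136, 0, 16, 121084) .leaf) (71138, 0, 19, 9761)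 (.node .leaf (71141, 0, 16, 65977) .leaf))) (71143, 0, 13, 20892) (.node (.node (.node .leaf (71144, 0, 14, 261476) .leaf) (71146, 0, 17, 52413) (.node .leaf (71149, 0, 18, 205857) .leaf)) (71151, 0, 16, 60046) (.node (.node .leaf (71153, 0, 15, 254347) .leaf) (71155, 0, 13, 2553) (.node .leaf (71156, 0, 17, 235914) .leaf))))))

/-- part of the orbit tree -/
def itp2_84 : Tree := (.node (.node (.node (.node (.node (.node .leaf (71161, 0, 15, 199447) .leaf) (71163, 0, 14, 13682) (.node .leaf (71164, 0, 14, 113682) .leaf)) (71166, 0, 13, 50518) (.node (.node .leaf (71168, 0, 11, 41089) .leaf) (71169, 0, 15, 254043) (.node .leaf (71170, 0, 17, 127140) .leaf))) (71171, 0, 18, 2089) (.node (.node (.node .leaf (71176, 0, 16, 165145) .leaf) (71177, 0, 16, 157055) (.node .leaf (71178, 0, 18, 179099) .leaf)) (71179, 0, 17, 210266) (.node (.node .leaf (71188, 0, 13, 188919) .leaf) (71189, 0, 15, 256432) (.node .leaf (71190, 0, 17, 153836) .leaf)))) (71191, 0, 16, 450) (.node (.node (.node (.node .leaf (71196,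 0, 17, 50287) .leaf) (71197, 0, 17, 9225) (.node .leaf (71198, 0, 13, 176752) .leaf)) (71199, 0, 15, 60254) (.node (.node .leaf (71204, 0, 18, 234071) .leaf) (71205, 0, 16, 225841) (.node .leaf (71206, 0, 16, 86800) .leaf))) (71207, 0, 17, 199230) (.node (.node (.node .leaf (71212, 0, 17, 112591) .leaf) (71213, 0, 16, 87977) (.node .leaf (71214, 0, 14, 59370) .leaf)) (71215, 0, 18, 1932) (.node (.node .leaf (71216, 0, 16, 119585) .leaf) (71217, 0, 16, 78663) (.node .leaf (71218, 0, 18, 88827) .leaf))))) (71219, 0, 15, 25442) (.node (.node (.node (.node (.node .leaf (71224, 0, 14, 153621) .leaf) (71225, 0, 14, 202463) (.node .leaf (71226, 0, 18, 173724) .leaf)) (71227, 0, 18, 256329) (.node (.node .leaf (71236, 0, 18, 258852) .leaf) (71237, 0, 17, 116684) (.node .leaf (71238, 0, 17, 172801) .leaf))) (71239, 0, 17, 143294) (.node (.node (.node .leaf (71244, 0, 15, 226430) .leaf) (71245, 0, 13, 77136) (.node .leaf (71246, 0, 14, 39948) .leaf)) (71247, 0, 17, 181538) (.node (.node .leaf (71248, 0, 11,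 111186) .leaf) (71249, 0, 15, 86580) (.node .leaf (71250, 0, 16, 57975) .leaf)))) (71251, 0, 17, 529) (.node (.node (.node (.node .leaf (71256, 0, 15, 235466) .leaf) (71257, 0, 16, 227244) (.node .leaf (71258, 0, 15, 38375) .leaf)) (71259, 0, 17, 141193) (.node (.node .leaf (71264, 0, 15, 40181) .leaf) (71265, 0, 18, 181723) (.node .leaf (71266, 0, 15, 226439) .leaf))) (71267, 0, 16, 77225) (.node (.node (.node .leaf (71272, 0, 17, 30313) .leaf) (71273, 0, 15, 143175) (.node .leaf (71274, 0, 16, 242767) .leaf)) (71275, 0, 16, 116533) (.node (.node .leaf (71284, 0, 16, 38174) .leaf) (71285, 0, 15, 155874) (.node .leaf (71286, 0, 17, 228716) .leaf))))))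

/-- part of the orbit tree -/
def itp2_85 : Tree := (.node (.node (.node (.node (.node (.node .leaf (71292, 0, 13, 42268) .leaf) (71293, 0, 16, 17786) (.node .leaf (71294, 0, 17, 235504) .leaf)) (71295, 0, 16, 118494) (.node (.node .leaf (71296, 0, 18, 133404) .leaf) (71297, 0, 17, 186349) (.node .leaf (71298, 0, 17, 223150) .leaf))) (71299, 0, 12, 243776) (.node (.node (.node .leaf (71304, 0, 18, 4627) .leaf) (71305, 0, 18, 47790) (.node .leaf (71306, 0, 14, 82486) .leaf)) (71307, 0, 18, 217820) (.node (.node .leaf (71316, 0, 15, 131319) .leaf) (71317, 0, 19, 23001) (.node .leaf (71318, 0, 15, 75480) .leaf)))) (71319, 0, 17, 242091) (.node (.node (.node (.node .leaf (71324, 0, 16, 152421) .leaf) (71325, 0, 15, 45893) (.node .leaf (71326, 0, 18, 66073) .leaf)) (71327, 0, 16, 254758) (.node (.node .leaf (71332, 0, 17, 66909) .leaf) (71333, 0, 17, 124219) (.node .leaf (71334, 0, 13, 21880) .leaf))) (71335, 0, 14, 47703) (.node (.node (.node .leaf (71340, 0, 14, 204997) .leaf) (71341, 0, 14, 245923)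 (.node .leaf (71342, 0, 16, 133605) .leaf)) (71343, 0, 16, 20683) (.node (.node .leaf (71344, 0, 17, 66272) .leaf) (71345, 0, 18, 238669) (.node .leaf (71346, 0, 17, 136206) .leaf))))) (71347, 0, 17, 193640) (.node (.node (.node (.node (.node .leaf (71352, 0, 16, 125052) .leaf) (71353, 0, 16, 242002) (.node .leaf (71354, 0, 16, 12694) .leaf)) (71355, 0, 13, 53744) (.node (.node .leaf (71364, 0, 18, 91182) .leaf) (71365, 0, 16, 99400) (.node .leaf (71366, 0, 19, 13323) .leaf))) (71367, 0, 17, 54381) (.node (.node (.node .leaf (71372, 0, 11, 50199) .leaf) (71373, 0, 18, 171321) (.node .leaf (71374, 0, 16, 207973) .leaf)) (71375, 0, 16, 193013) (.node (.node .leaf (71376, 0, 18, 206168) .leaf) (71377, 0, 17, 163406) (.node .leaf (71378, 0, 17, 161149) .leaf)))) (71379, 0, 18, 169243) (.node (.node (.node (.node .leaf (71384, 0, 14, 65728) .leaf) (71385, 0, 18, 123046) (.node .leaf (71386, 0, 16, 20709) .leaf)) (71387, 0, 16, 97440) (.node (.node .leaf (71392, 0, 17, 208028) .leaf) (71393, 0, 17, 177822)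 (.node .leaf (71394, 0, 17, 50414) .leaf))) (71395, 0, 14, 255675) (.node (.node (.node .leaf (71400, 0, 15, 29536) .leaf) (71401, 0, 16, 37638) (.node .leaf (71402, 0, 13, 74565) .leaf)) (71403, 0, 15, 161628) (.node (.node .leaf (71412, 0, 16, 6030) .leaf) (71413, 0, 17, 63464) (.node .leaf (71414, 0, 15, 83883) .leaf))))))

/-- part of the orbit tree -/
def itp2_86 : Tree := (.node (.node (.node (.node (.node (.node .leaf (71420, 0, 15, 143894) .leaf) (71421, 0, 16, 184944) (.node .leaf (71422, 0, 15, 10137) .leaf)) (71423, 0, 16, 229973) (.node (.node .leaf (71428, 0, 15, 211926) .leaf) (71429, 0, 17, 252848) (.node .leaf (71430, 0, 8, 51705) .leaf))) (71431, 0, 13, 166805) (.node (.node (.node .leaf (71436, 0, 18, 73294) .leaf) (71437, 0, 18, 130600) (.node .leaf (71438, 0, 14, 9061) .leaf)) (71439, 0, 12, 162379) (.node (.node .leaf (71440, 0, 14, 96928) .leaf) (71441, 0, 12, 105158) (.node .leaf (71442, 0, 16, 49170) .leaf)))) (71443, 0, 16, 170300) (.node (.node (.node (.node .leaf (71448,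 0, 16, 220984) .leaf) (71449, 0, 16, 245598) (.node .leaf (71450, 0, 18, 134941) .leaf)) (71451, 0, 12, 192379) (.node (.node .leaf (71456, 0, 18, 2304) .leaf) (71457, 0, 15, 162482) (.node .leaf (71458, 0, 13, 248814) .leaf))) (71459, 0, 11, 103104) (.node (.node (.node .leaf (71464, 0, 14, 142488) .leaf) (71465, 0, 17, 183550) (.node .leaf (71466, 0, 15, 205170) .leaf)) (71467, 0, 16, 236763) (.node (.node .leaf (71476, 0, 16, 149622) .leaf) (71477, 0, 14, 160601) (.node .leaf (71478, 0, 18, 202835) .leaf))))) (71479, 0, 17, 260149) (.node (.node (.node (.node (.node .leaf (71484, 0, 15, 49387) .leaf) (71485, 0, 17, 170437) (.node .leaf (71486, 0, 15, 81355) .leaf)) (71487, 0, 15, 94647) (.node (.node .leaf (71488, 0, 15, 26739) .leaf) (71489, 0, 16, 34837) (.node .leaf (71490, 0, 15, 192110) .leaf))) (71491, 0, 18, 46912) (.node (.node (.node .leaf (71496, 0, 15, 126080) .leaf) (71497, 0, 13, 175501) (.node .leaf (71498, 0, 16, 132338) .leaf)) (71499, 0, 15, 24028) (.node (.node .leaf (71508, 0,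 13, 141573) .leaf) (71509, 0, 17, 218841) (.node .leaf (71510, 0, 16, 190341) .leaf)))) (71511, 0, 15, 48811) (.node (.node (.node (.node .leaf (71516, 0, 15, 124267) .leaf) (71517, 0, 17, 60667) (.node .leaf (71518, 0, 14, 134425) .leaf)) (71519, 0, 13, 21559) (.node (.node .leaf (71524, 0, 17, 219813) .leaf) (71525, 0, 16, 23845) (.node .leaf (71526, 0, 18, 133760) .leaf))) (71527, 0, 18, 191206) (.node (.node (.node .leaf (71532, 0, 16, 192151) .leaf) (71533, 0, 17, 106331) (.node .leaf (71534, 0, 16, 12056) .leaf)) (71535, 0, 18, 221131) (.node (.node .leaf (71536, 0, 18, 134624) .leaf) (71537, 0, 16, 21710) .leaf)))))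

/-- part of the orbit tree -/
def itp2_87 : Tree := (.node itp2_83 (71158, 0, 14, 12234) itp2_84)

/-- part of the orbit tree -/
def itp2_88 : Tree := (.node itp2_85 (71415, 0, 15, 108493) itp2_86)

/-- part of the orbit tree -/
def itp2_89 : Tree := (.node itp2_81 (70775, 0, 15, 203959) itp2_82)

/-- part of the orbit tree -/
def itp2_90 : Tree := (.node itp2_87 (71287, 0, 15, 74818) itp2_88)

/-- part of the orbit tree -/
def itp2_91 : Tree := (.node itp2_75 (70008, 0, 15, 133267) itp2_76)

/-- part of the orbit tree -/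
def itp2_92 : Tree := (.node itp2_89 (71030, 0, 15, 24229) itp2_90)

/-- part of the orbit tree -/
def itp2_93 : Tree := (.node (.node (.node (.node (.node (.node .leaf (71539, 0, 18, 43920) .leaf) (71544, 0, 19, 190332) (.node .leaf (71545, 0, 14, 48722) .leaf)) (71546, 0, 15, 69390) (.node (.node .leaf (71547, 0, 16, 218656) .leaf) (71556, 0, 17, 109788) (.node .leaf (71557, 0, 17, 85178) .leaf))) (71558, 0, 18, 64761) (.node (.node (.node .leaf (71559, 0, 12, 7327) .leaf) (71564, 0, 16, 231748) (.node .leaf (71565, 0, 17, 223522) .leaf)) (71566, 0, 17, 186721) (.node (.node .leaf (71567, 0, 15, 117282) .leaf) (71568, 0, 15, 257450) (.node .leaf (71569, 0, 17, 180519) .leaf)))) (71570, 0, 14, 225403) (.node (.node (.node (.node .leaf (71571, 0, 16, 155113) .leaf) (71576, 0, 17, 29333) (.node .leaf (71577, 0, 15, 142267) .leaf)) (71578, 0, 12, 236263) (.node (.node .leaf (71579, 0, 15, 30833) .leaf) (71584, 0, 16, 234485) (.node .leaf (71585, 0, 16, 117467) .leaf))) (71586, 0, 16, 249391) (.node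 (.node (.node .leaf (71587, 0, 15, 139945) .leaf) (71592, 0, 15, 227689) (.node .leaf (71593, 0, 16, 73799) .leaf)) (71594, 0, 17, 125879) (.node (.node .leaf (71595, 0, 16, 68561) .leaf) (71604, 0, 18, 236062) (.node .leaf (71605, 0, 13, 16154) .leaf))))) (71606, 0, 17, 29292) (.node (.node (.node (.node (.node .leaf (71607, 0, 17, 94015) .leaf) (71612, 0, 14, 195300) (.node .leaf (71613, 0, 12, 76204) .leaf)) (71614, 0, 14, 240321) (.node (.node .leaf (71615, 0, 14, 215719) .leaf) (71616, 0, 16, 196473) (.node .leaf (71617, 0, 11, 139039) .leaf))) (71618, 0, 17, 241500) (.node (.node (.node .leaf (71619, 0, 14, 198441) .leaf) (71624, 0, 16, 56033) (.node .leaf (71625, 0, 18, 14983) .leaf)) (71626, 0, 14, 111771) (.node (.node .leaf (71627, 0, 15, 257461) .leaf) (71636, 0, 16, 180126) (.node .leaf (71637, 0, 17, 59056) .leaf)))) (71638, 0, 18, 126506) (.node (.node (.node (.node .leaf (71639, 0, 14, 200386) .leaf) (71644, 0, 18, 152834) (.node .leaf (71645, 0, 15, 3116) .leaf)) (71646, 0, 17, 248754)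 (.node (.node .leaf (71647, 0, 17, 255070) .leaf) (71652, 0, 16, 111714) (.node .leaf (71653, 0, 17, 77257) .leaf))) (71654, 0, 17, 40330) (.node (.node (.node .leaf (71655, 0, 13, 1342) .leaf) (71660, 0, 16, 89854) (.node .leaf (71661, 0, 17, 198737) .leaf)) (71662, 0, 13, 178194) (.node (.node .leaf (71663, 0, 17, 61346) .leaf) (71664, 0, 12, 114057) (.node .leaf (71665, 0, 16, 255143) .leaf))))))

/-- part of the orbit tree -/
def itp2_94 : Tree := (.node (.node (.node (.node (.node (.node .leaf (71667, 0, 14, 3285) .leaf) (71672, 0, 14, 108865) (.node .leaf (71673, 0, 17, 84263) .leaf)) (71674, 0, 15, 180071) (.node (.node .leaf (71675, 0, 17, 6402) .leaf) (71681, 0, 18, 198691) (.node .leaf (71682, 0, 18, 72928) .leaf))) (71685, 0, 17, 184993) (.node (.node (.node .leaf (71686, 0, 15, 222205) .leaf) (71689, 0, 15, 18208) (.node .leaf (71690, 0, 15, 128636) .leaf)) (71693, 0, 18, 70808) (.node (.node .leaf (71694, 0, 14, 231777) .leaf) (71696, 0, 13, 33380) (.node .leaf (71699, 0, 17, 8275) .leaf))))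 (71700, 0, 17, 195961) (.node (.node (.node (.node .leaf (71703, 0, 16, 216101) .leaf) (71704, 0, 17, 26872) (.node .leaf (71707, 0, 18, 121252) .leaf)) (71708, 0, 17, 232619) (.node (.node .leaf (71711, 0, 16, 239289) .leaf) (71712, 0, 17, 58288) (.node .leaf (71715, 0, 15, 87027) .leaf))) (71716, 0, 14, 55955) (.node (.node (.node .leaf (71719, 0, 18, 92880) .leaf) (71720, 0, 16, 181800) (.node .leaf (71723, 0, 10, 226923) .leaf)) (71724, 0, 16, 72729) (.node (.node .leaf (71727, 0, 11, 216904) .leaf) (71729, 0, 14, 162691) (.node .leaf (71730, 0, 16, 136988) .leaf))))) (71733, 0, 17, 121181) (.node (.node (.node (.node (.node .leaf (71734, 0, 15, 26625) .leaf) (71737, 0, 17, 24091) (.node .leaf (71738, 0, 16, 195968) .leaf)) (71741, 0, 17, 78785) (.node (.node .leaf (71742, 0, 16, 33437) .leaf) (71744, 0, 17, 175128) (.node .leaf (71747, 0, 15, 78464) .leaf))) (71748, 0, 17, 48096) (.node (.node (.node .leaf (71751, 0, 16, 68515) .leaf) (71752, 0, 16, 173915) (.node .leaf (71755, 0, 16, 202520)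 .leaf)) (71756, 0, 16, 171640) (.node (.node .leaf (71759, 0, 16, 100549) .leaf) (71761, 0, 16, 164800) (.node .leaf (71762, 0, 16, 209564) .leaf)))) (71765, 0, 14, 140243) (.node (.node (.node (.node .leaf (71766, 0, 15, 234384) .leaf) (71769, 0, 16, 158044) (.node .leaf (71770, 0, 12, 251904) .leaf)) (71773, 0, 15, 5697) (.node (.node .leaf (71774, 0, 14, 108317) .leaf) (71777, 0, 19, 100412) (.node .leaf (71778, 0, 16, 186643) .leaf))) (71781, 0, 16, 259873) (.node (.node (.node .leaf (71782, 0, 19, 188464) .leaf) (71785, 0, 17, 90784) (.node .leaf (71786, 0, 17, 64651) .leaf)) (71789, 0, 16, 204221) (.node (.node .leaf (71790, 0, 15, 50600) .leaf) (71792, 0, 15, 108516) (.node .leaf (71795, 0, 16, 16672) .leaf))))))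

/-- part of the orbit tree -/
def itp2_95 : Tree := (.node (.node (.node (.node (.node (.node .leaf (71799, 0, 16, 30723) .leaf) (71800, 0, 17, 85368) (.node .leaf (71803, 0, 15, 64548) .leaf)) (71804, 0, 17, 209509) (.node (.node .leaf (71807, 0, 15, 155035) .leaf) (71809, 0, 17, 204245) (.node .leaf (71810, 0, 11, 12138) .leaf))) (71813, 0, 16, 90824) (.node (.node (.node .leaf (71814, 0, 17, 54164) .leaf) (71817, 0, 18, 259913) (.node .leaf (71818, 0, 17, 149013) .leaf)) (71821, 0, 12, 230290) (.node (.node .leaf (71822, 0, 15, 14600) .leaf) (71824, 0, 16, 209421) (.node .leaf (71827, 0, 18, 164689) .leaf)))) (71828, 0, 17, 212537) (.node (.node (.node (.node .leaf (71831, 0, 17, 167546) .leaf) (71832, 0, 16, 74370) (.node .leaf (71835, 0, 16, 158157) .leaf)) (71836, 0, 18, 108428) (.node (.node .leaf (71839, 0, 15, 44002) .leaf) (71840, 0, 15, 14833) (.node .leaf (71843, 0, 17, 247033) .leaf))) (71844, 0, 17, 150937) (.node (.node (.node .leaf (71847, 0, 15, 261594) .leaf) (71848, 0, 16, 54125)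 (.node .leaf (71851, 0, 18, 90673) .leaf)) (71852, 0, 15, 26625) (.node (.node .leaf (71855, 0, 17, 120898) .leaf) (71857, 0, 18, 60553) (.node .leaf (71858, 0, 17, 89290) .leaf))))) (71861, 0, 19, 54698) (.node (.node (.node (.node (.node .leaf (71862, 0, 17, 252008) .leaf) (71865, 0, 16, 64693) (.node .leaf (71866, 0, 12, 85481) .leaf)) (71869, 0, 17, 164776) (.node (.node .leaf (71870, 0, 17, 209652) .leaf) (71872, 0, 16, 72817) (.node .leaf (71875, 0, 17, 44333) .leaf))) (71876, 0, 15, 142570) (.node (.node (.node .leaf (71879, 0, 16, 184880) .leaf) (71880, 0, 17, 12369) (.node .leaf (71883, 0, 13, 18353) .leaf)) (71884, 0, 15, 231920) (.node (.node .leaf (71887, 0, 16, 145580) .leaf) (71889, 0, 18, 36346) (.node .leaf (71890, 0, 16, 33525) .leaf)))) (71893, 0, 16, 46297) (.node (.node (.node (.node .leaf (71894, 0, 13, 196072) .leaf) (71897, 0, 16, 174178) (.node .leaf (71898, 0, 14, 26729) .leaf)) (71901, 0, 19, 239144) (.node (.node .leaf (71902, 0, 17, 137076) .leaf) (71905, 0, 17, 145493)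 (.node .leaf (71906, 0, 16, 19993) .leaf))) (71909, 0, 16, 18248) (.node (.node (.node .leaf (71910, 0, 16, 128532) .leaf) (71913, 0, 18, 185033) (.node .leaf (71914, 0, 14, 158593) .leaf)) (71917, 0, 15, 254689) (.node (.node .leaf (71918, 0, 14, 72840) .leaf) (71920, 0, 18, 222825) (.node .leaf (71923, 0, 15, 185898) .leaf))))))

/-- part of the orbit tree -/
def itp2_96 : Tree := (.node (.node (.node (.node (.node (.node .leaf (71927, 0, 16, 192265) .leaf) (71928, 0, 18, 82929) (.node .leaf (71931, 0, 15, 62386) .leaf)) (71932, 0, 16, 96978) (.node (.node .leaf (71935, 0, 16, 51857) .leaf) (71936, 0, 17, 18993) (.node .leaf (71939, 0, 18, 129650) .leaf))) (71940, 0, 17, 27756) (.node (.node (.node .leaf (71943, 0, 14, 115537) .leaf) (71944, 0, 15, 195053) (.node .leaf (71947, 0, 18, 253930) .leaf)) (71948, 0, 14, 34544) (.node (.node .leaf (71951, 0, 17, 79788) .leaf) (71953, 0, 15, 184834) (.node .leaf (71954, 0, 17, 232949) .leaf)))) (71957, 0, 16, 17332) (.node (.node (.node (.node .leaf (71958,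 0, 17, 220002) .leaf) (71961, 0, 13, 185909) (.node .leaf (71962, 0, 17, 223081) .leaf)) (71965, 0, 14, 43304) (.node (.node .leaf (71966, 0, 16, 71796) .leaf) (71969, 0, 17, 79701) (.node .leaf (71970, 0, 16, 34313) .leaf))) (71973, 0, 17, 215112) (.node (.node (.node .leaf (71974, 0, 16, 194836) .leaf) (71977, 0, 11, 122313) (.node .leaf (71978, 0, 14, 13433) .leaf)) (71981, 0, 15, 238292) (.node (.node .leaf (71982, 0, 16, 3418) .leaf) (71984, 0, 13, 71821) (.node .leaf (71987, 0, 15, 43473) .leaf))))) (71988, 0, 10, 65714) (.node (.node (.node (.node (.node .leaf (71991, 0, 16, 45297) .leaf) (71992, 0, 18, 127505) (.node .leaf (71995, 0, 16, 17229) .leaf)) (71996, 0, 17, 206122) (.node (.node .leaf (71999, 0, 18, 169321) .leaf) (72001, 0, 18, 245969) (.node .leaf (72002, 0, 19, 159890) .leaf))) (72005, 0, 17, 159176) (.node (.node (.node .leaf (72006, 0, 18, 253076) .leaf) (72009, 0, 13, 63561) (.node .leaf (72010, 0, 15, 21770) .leaf)) (72013, 0, 16, 121962) (.node (.node .leaf (72014, 0, 14,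 27689) .leaf) (72016, 0, 16, 15629) (.node .leaf (72019, 0, 17, 101457) .leaf)))) (72020, 0, 14, 147984) (.node (.node (.node (.node .leaf (72023, 0, 16, 258892) .leaf) (72024, 0, 13, 55185) (.node .leaf (72027, 0, 17, 183609) .leaf)) (72028, 0, 13, 214105) (.node (.node .leaf (72031, 0, 18, 193562) .leaf) (72032, 0, 14, 11074) (.node .leaf (72035, 0, 18, 105217) .leaf))) (72036, 0, 18, 84460) (.node (.node (.node .leaf (72039, 0, 12, 63664) .leaf) (72040, 0, 9, 253037) (.node .leaf (72043, 0, 14, 159025) .leaf)) (72044, 0, 15, 145401) (.node (.node .leaf (72047, 0, 13, 231354) .leaf) (72049, 0, 17, 177009) (.node .leaf (72050, 0, 16, 197426) .leaf))))))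

/-- part of the orbit tree -/
def itp2_97 : Tree := (.node itp2_93 (71666, 0, 14, 153083) itp2_94)

/-- part of the orbit tree -/
def itp2_98 : Tree := (.node itp2_95 (71924, 0, 18, 26768) itp2_96)

/-- part of the orbit tree -/
def itp2_99 : Tree := (.node (.node (.node (.node (.node (.node .leaf (72054, 0, 7, 55144) .leaf) (72057, 0, 16, 258997) (.node .leaf (72058, 0, 17, 75434) .leaf)) (72061, 0, 16, 45002) (.node (.node .leaf (72062, 0, 18, 15860) .leaf) (72064, 0, 11, 107288) (.node .leaf (72067, 0, 16, 4676) .leaf))) (72068, 0, 17, 252933) (.node (.node (.node .leaf (72071, 0, 12, 159065) .leaf) (72072, 0, 14, 63651) (.node .leaf (72075, 0, 14, 84192) .leaf)) (72076, 0, 17, 49536) (.node (.node .leaf (72079, 0, 16, 94659) .leaf) (72081, 0, 14, 101568) (.node .leaf (72082, 0, 16, 15772) .leaf)))) (72085, 0, 15, 259037) (.node (.node (.node (.node .leaf (72086, 0, 15, 148097) .leaf) (72089, 0, 16, 155792) (.node .leaf (72090, 0, 16, 55040) .leaf)) (72093, 0, 18, 203073) (.node (.node .leaf (72094,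 0, 16, 174109) .leaf) (72097, 0, 16, 79528) (.node .leaf (72098, 0, 16, 210528) .leaf))) (72101, 0, 16, 63521) (.node (.node (.node .leaf (72102, 0, 17, 49096) .leaf) (72105, 0, 18, 201520) (.node .leaf (72106, 0, 15, 253180) .leaf)) (72109, 0, 15, 207379) (.node (.node .leaf (72110, 0, 15, 170576) .leaf) (72112, 0, 18, 174308) (.node .leaf (72115, 0, 16, 203192) .leaf))))) (72116, 0, 16, 55289) (.node (.node (.node (.node (.node .leaf (72119, 0, 17, 91813) .leaf) (72120, 0, 16, 101123) (.node .leaf (72123, 0, 18, 258852) .leaf)) (72124, 0, 16, 111136) (.node (.node .leaf (72127, 0, 18, 611) .leaf) (72129, 0, 17, 88027) (.node .leaf (72130, 0, 16, 59288) .leaf))) (72133, 0, 15, 122273) (.node (.node (.node .leaf (72134, 0, 16, 57019) .leaf) (72137, 0, 17, 215072) (.node .leaf (72138, 0, 17, 180736) .leaf)) (72141, 0, 16, 79677) (.node (.node .leaf (72142, 0, 16, 34401) .leaf) (72144, 0, 16, 249832) (.node .leaf (72147, 0, 14, 163755) .leaf)))) (72148, 0, 16, 259787) (.node (.node (.node (.node .leaf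 (72151, 0, 14, 17189) .leaf) (72152, 0, 14, 223224) (.node .leaf (72155, 0, 17, 23091) .leaf)) (72156, 0, 17, 71909) (.node (.node .leaf (72159, 0, 15, 43449) .leaf) (72160, 0, 12, 34456) (.node .leaf (72163, 0, 14, 199691) .leaf))) (72164, 0, 16, 194949) (.node (.node (.node .leaf (72167, 0, 16, 215257) .leaf) (72168, 0, 15, 27652) (.node .leaf (72171, 0, 18, 122200) .leaf)) (72172, 0, 15, 41203) (.node (.node .leaf (72175, 0, 14, 238149) .leaf) (72177, 0, 14, 9339) (.node .leaf (72178, 0, 16, 103480) .leaf))))))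

/-- part of the orbit tree -/
def itp2_100 : Tree := (.node (.node (.node (.node (.node (.node .leaf (72182, 0, 16, 109851) .leaf) (72185, 0, 13, 131555) (.node .leaf (72186, 0, 18, 127616) .leaf)) (72189, 0, 16, 146625) (.node (.node .leaf (72190, 0, 18, 231555) .leaf) (72192, 0, 15, 192958) (.node .leaf (72193, 0, 13, 205907) .leaf))) (72196, 0, 17, 36515) (.node (.node (.node .leaf (72197, 0, 15, 186253) .leaf) (72200, 0, 15, 138018) (.node .leaf (72201, 0, 16, 16908) .leaf)) (72204, 0, 16, 120974) (.node (.node .leaf (72205, 0, 15, 146705) .leaf) (72210, 0, 17, 225082) (.node .leaf (72211, 0, 14, 3107) .leaf)))) (72214, 0, 17, 69671) (.node (.node (.node (.node .leaf (72215, 0, 17, 13568) .leaf) (72218, 0, 16, 182749) (.node .leaf (72219, 0, 16, 141755) .leaf)) (72222, 0, 18, 129723) (.node (.node .leaf (72223, 0, 17, 238485) .leaf) (72226, 0, 19, 25798) (.node .leaf (72227, 0, 16, 146920) .leaf))) (72230, 0, 13, 108230) (.node (.node (.node .leaf (72231, 0, 15, 17141) .leaf) (72234, 0, 15, 244349)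 (.node .leaf (72235, 0, 18, 219675) .leaf)) (72238, 0, 18, 192839) (.node (.node .leaf (72239, 0, 15, 222008) .leaf) (72240, 0, 15, 129602) (.node .leaf (72241, 0, 14, 153587) .leaf))))) (72244, 0, 16, 230751) (.node (.node (.node (.node (.node .leaf (72245, 0, 17, 121969) .leaf) (72248, 0, 17, 37389) (.node .leaf (72249, 0, 14, 215536) .leaf)) (72252, 0, 16, 43822) (.node (.node .leaf (72253, 0, 14, 79597) .leaf) (72258, 0, 17, 130710) (.node .leaf (72259, 0, 18, 73456) .leaf))) (72262, 0, 16, 212571) (.node (.node (.node .leaf (72263, 0, 18, 75731) .leaf) (72266, 0, 17, 252686) (.node .leaf (72267, 0, 16, 258804) .leaf)) (72270, 0, 14, 251079) (.node (.node .leaf (72271, 0, 15, 197195) .leaf) (72272, 0, 13, 186086) (.node .leaf (72273, 0, 17, 145024) .leaf)))) (72276, 0, 16, 192453) (.node (.node (.node (.node .leaf (72277, 0, 16, 63985) .leaf) (72280, 0, 15, 62334) (.node .leaf (72281, 0, 17, 4888) .leaf)) (72284, 0, 15, 150083) (.node (.node .leaf (72285, 0, 16, 4973) .leaf) (72288, 0, 16, 250942)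 (.node .leaf (72289, 0, 16, 214304) .leaf))) (72292, 0, 15, 109347) (.node (.node (.node .leaf (72293, 0, 16, 228355) .leaf) (72296, 0, 15, 98526) (.node .leaf (72297, 0, 13, 90296) .leaf)) (72300, 0, 12, 113149) (.node (.node .leaf (72301, 0, 15, 202897) .leaf) (72306, 0, 14, 36150) (.node .leaf (72307, 0, 17, 5012) .leaf))))))

/-- part of the orbit tree -/
def itp2_101 : Tree := (.node (.node (.node (.node (.node (.node .leaf (72311, 0, 15, 21619) .leaf) (72314, 0, 15, 172070) (.node .leaf (72315, 0, 16, 149704) .leaf)) (72318, 0, 17, 57147) (.node (.node .leaf (72319, 0, 17, 165397) .leaf) (72320, 0, 13, 86847) (.node .leaf (72321, 0, 16, 203001) .leaf))) (72324, 0, 15, 212682) (.node (.node (.node .leaf (72325, 0, 16, 100986) .leaf) (72328, 0, 15, 109387) (.node .leaf (72329, 0, 17, 235201) .leaf)) (72332, 0, 17, 250966) (.node (.node .leaf (72333, 0, 17, 241634) .leaf) (72338, 0, 15, 57171) (.node .leaf (72339, 0, 14, 165501) .leaf)))) (72342, 0, 16, 148076) (.node (.node (.node (.node .leaf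 (72343, 0, 17, 172554) .leaf) (72346, 0, 16, 13775) (.node .leaf (72347, 0, 19, 158945) .leaf)) (72350, 0, 13, 150226) (.node (.node .leaf (72351, 0, 15, 34706) .leaf) (72354, 0, 17, 251055) (.node .leaf (72355, 0, 16, 256137) .leaf))) (72358, 0, 17, 109490) (.node (.node (.node .leaf (72359, 0, 14, 258716) .leaf) (72362, 0, 15, 212531) (.node .leaf (72363, 0, 15, 118033) .leaf)) (72366, 0, 16, 82222) (.node (.node .leaf (72367, 0, 11, 202752) .leaf) (72368, 0, 12, 8351) (.node .leaf (72369, 0, 15, 4869) .leaf))))) (72372, 0, 15, 6588) (.node (.node (.node (.node (.node .leaf (72373, 0, 19, 63962) .leaf) (72376, 0, 17, 172215) (.node .leaf (72377, 0, 18, 63897) .leaf)) (72380, 0, 17, 146468) (.node (.node .leaf (72381, 0, 17, 187458) .leaf) (72386, 0, 14, 223644) (.node .leaf (72387, 0, 13, 43009) .leaf))) (72390, 0, 15, 217279) (.node (.node (.node .leaf (72391, 0, 16, 186140) .leaf) (72394, 0, 17, 138163) (.node .leaf (72395, 0, 18, 109666) .leaf)) (72398, 0, 18, 25774) (.node (.node .leaf (72399,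 0, 15, 103745) .leaf) (72400, 0, 10, 225195) (.node .leaf (72401, 0, 18, 79493) .leaf)))) (72404, 0, 17, 69814) (.node (.node (.node (.node .leaf (72405, 0, 18, 215448) .leaf) (72408, 0, 18, 156788) (.node .leaf (72409, 0, 18, 164882) .leaf)) (72412, 0, 18, 154967) (.node (.node .leaf (72413, 0, 18, 238340) .leaf) (72416, 0, 16, 25687) (.node .leaf (72417, 0, 15, 119338) .leaf))) (72420, 0, 14, 138058) (.node (.node (.node .leaf (72421, 0, 13, 16996) .leaf) (72424, 0, 18, 202708) (.node .leaf (72425, 0, 17, 186341) .leaf)) (72428, 0, 14, 208631) (.node (.node .leaf (72429, 0, 18, 249489) .leaf) (72434, 0, 16, 137788) (.node .leaf (72435, 0, 15, 238589) .leaf))))))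

/-- part of the orbit tree -/
def itp2_102 : Tree := (.node (.node (.node (.node (.node (.node .leaf (72439, 0, 17, 181113) .leaf) (72442, 0, 18, 16292) (.node .leaf (72443, 0, 14, 57282) .leaf)) (72446, 0, 16, 225106) (.node (.node .leaf (72447, 0, 18, 79484) .leaf) (72450, 0, 17, 130607) (.node .leaf (72451, 0, 11, 120322) .leaf))) (72454, 0, 17, 69447) (.node (.node (.node .leaf (72455, 0, 15, 120860) .leaf) (72458, 0, 17, 70835) (.node .leaf (72459, 0, 15, 258970) .leaf)) (72462, 0, 17, 207583) (.node (.node .leaf (72463, 0, 13, 248505) .leaf) (72464, 0, 15, 24747) (.node .leaf (72465, 0, 17, 145797) .leaf)))) (72468, 0, 16, 141111) (.node (.node (.node (.node .leaf (72469, 0, 17, 182097) .leaf) (72472, 0, 17, 35383) (.node .leaf (72473, 0, 15, 185113) .leaf)) (72476, 0, 16, 193834) (.node (.node .leaf (72477, 0, 17, 44036) .leaf) (72480, 0, 18, 224692) (.node .leaf (72481, 0, 16, 232914) .leaf))) (72484, 0, 15, 218263) (.node (.node (.node .leaf (72485, 0, 15, 216420) .leaf) (72488, 0, 14, 229835)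 (.node .leaf (72489, 0, 15, 121061) .leaf)) (72492, 0, 16, 94479) (.node (.node .leaf (72493, 0, 16, 102761) .leaf) (72498, 0, 17, 17860) (.node .leaf (72499, 0, 16, 44285) .leaf))))) (72502, 0, 17, 35534) (.node (.node (.node (.node (.node .leaf (72503, 0, 16, 185312) .leaf) (72506, 0, 17, 155740) (.node .leaf (72507, 0, 16, 18017) .leaf)) (72510, 0, 15, 24658) (.node (.node .leaf (72511, 0, 18, 178457) .leaf) (72512, 0, 15, 199879) (.node .leaf (72513, 0, 16, 257185) .leaf))) (72516, 0, 19, 210404) (.node (.node (.node .leaf (72517, 0, 16, 157924) .leaf) (72520, 0, 18, 76127) (.node .leaf (72521, 0, 15, 117049) .leaf)) (72524, 0, 17, 69756) (.node (.node .leaf (72525, 0, 19, 164472) .leaf) (72530, 0, 16, 249939) (.node .leaf (72531, 0, 16, 100733) .leaf)))) (72534, 0, 17, 7572) (.node (.node (.node (.node .leaf (72535, 0, 18, 259680) .leaf) (72538, 0, 16, 211663) (.node .leaf (72539, 0, 16, 188745) .leaf)) (72542, 0, 17, 145420) (.node (.node .leaf (72543, 0, 15, 186474) .leaf) (72546, 0, 14, 87831)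 (.node .leaf (72547, 0, 16, 112497) .leaf))) (72550, 0, 17, 93748) (.node (.node (.node .leaf (72551, 0, 15, 64924) .leaf) (72554, 0, 19, 225935) (.node .leaf (72555, 0, 18, 234217) .leaf)) (72558, 0, 16, 151086) (.node (.node .leaf (72559, 0, 16, 240586) .leaf) (72560, 0, 14, 163687) .leaf)))))

/-- part of the orbit tree -/
def itp2_103 : Tree := (.node itp2_99 (72181, 0, 14, 7512) itp2_100)

/-- part of the orbit tree -/
def itp2_104 : Tree := (.node itp2_101 (72438, 0, 15, 140063) itp2_102)

/-- part of the orbit tree -/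
def itp2_105 : Tree := (.node itp2_97 (71796, 0, 15, 116800) itp2_98)

/-- part of the orbit tree -/
def itp2_106 : Tree := (.node itp2_103 (72310, 0, 15, 13735) itp2_104)

/-- part of the orbit tree -/
def itp2_107 : Tree := (.node (.node (.node (.node (.node (.node .leaf (72564, 0, 15, 149060) .leaf) (72565, 0, 14, 90904) (.node .leaf (72568, 0, 16, 110519) .leaf)) (72569, 0, 16, 259737) (.node (.node .leaf (72572, 0, 16, 25564) .leaf) (72573, 0, 18, 33722) (.node .leaf (72578, 0, 15, 151110) .leaf))) (72579, 0, 16, 213256) (.node (.node (.node .leaf (72582, 0, 16, 12635) .leaf) (72583, 0, 14, 157813) (.node .leaf (72586, 0, 15, 173274) .leaf)) (72587, 0, 17, 91280) (.node (.node .leaf (72590, 0, 17, 56263) .leaf) (72591, 0, 16, 164585) (.node .leaf (72592, 0, 15, 250050) .leaf)))) (72593, 0, 13, 27000) (.node (.node (.node (.node .leaf (72596, 0, 18, 45117) .leaf) (72597, 0, 16, 20571) (.node .leaf (72600, 0, 17, 175238) .leaf)) (72601, 0, 17, 90992) (.node (.node .leaf (72604, 0, 17, 169381) .leaf)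 (72605, 0, 16, 203885) (.node .leaf (72608, 0, 15, 129726) .leaf))) (72609, 0, 19, 164368) (.node (.node (.node .leaf (72612, 0, 15, 173091) .leaf) (72613, 0, 17, 74747) (.node .leaf (72616, 0, 16, 12706) .leaf)) (72617, 0, 16, 157836) (.node (.node .leaf (72620, 0, 18, 151231) .leaf) (72621, 0, 17, 6033) (.node .leaf (72626, 0, 15, 185038) .leaf))))) (72627, 0, 17, 144040) (.node (.node (.node (.node (.node .leaf (72630, 0, 13, 191469) .leaf) (72631, 0, 9, 134027) (.node .leaf (72634, 0, 16, 63318) .leaf)) (72635, 0, 15, 259592) (.node (.node .leaf (72638, 0, 14, 249915) .leaf) (72639, 0, 14, 11795) (.node .leaf (72640, 0, 15, 130750) .leaf))) (72641, 0, 16, 97195) (.node (.node (.node .leaf (72644, 0, 12, 229795) .leaf) (72645, 0, 18, 120973) (.node .leaf (72648, 0, 16, 245333) .leaf)) (72649, 0, 15, 216332) (.node (.node .leaf (72652, 0, 17, 224063) .leaf) (72653, 0, 17, 78353) (.node .leaf (72658, 0, 12, 177085) .leaf)))) (72659, 0, 17, 145684) (.node (.node (.node (.node .leaf (72662, 0, 15,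 139047) .leaf) (72663, 0, 17, 17929) (.node .leaf (72666, 0, 17, 35494) .leaf)) (72667, 0, 13, 185224) (.node (.node .leaf (72670, 0, 18, 193979) .leaf) (72671, 0, 11, 20320) (.node .leaf (72674, 0, 14, 224198) .leaf))) (72675, 0, 15, 78568) (.node (.node (.node .leaf (72678, 0, 16, 260414) .leaf) (72679, 0, 17, 203096) (.node .leaf (72682, 0, 16, 124293) .leaf)) (72683, 0, 19, 120948) (.node (.node .leaf (72686, 0, 17, 130631) .leaf) (72687, 0, 17, 81088) (.node .leaf (72688, 0, 16, 59501) .leaf))))))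

/-- part of the orbit tree -/
def itp2_108 : Tree := (.node (.node (.node (.node (.node (.node .leaf (72692, 0, 17, 35423) .leaf) (72693, 0, 16, 12584) (.node .leaf (72696, 0, 17, 139230) .leaf)) (72697, 0, 17, 18160) (.node (.node .leaf (72700, 0, 13, 24771) .leaf) (72701, 0, 16, 136368) (.node .leaf (72704, 0, 17, 129382) .leaf))) (72706, 0, 15, 238280) (.node (.node (.node .leaf (72708, 0, 17, 183246) .leaf) (72710, 0, 14, 236523) (.node .leaf (72712, 0, 16, 70650) .leaf)) (72714, 0, 14, 100176) (.node (.node .leaf (72716, 0, 13, 61014) .leaf) (72718, 0, 18, 33941) (.node .leaf (72721, 0, 16, 120510) .leaf)))) (72723, 0, 18, 147148) (.node (.node (.node (.node .leaf (72725, 0, 14, 240035) .leaf) (72727, 0, 13, 16849) (.node .leaf (72729, 0, 15, 80930) .leaf)) (72731, 0, 16, 185424) (.node (.node .leaf (72733, 0, 16, 161381) .leaf) (72735, 0, 17, 43853) (.node .leaf (72737, 0, 17, 187714) .leaf))) (72739, 0, 17, 79152) (.node (.node (.node .leaf (72741, 0, 15, 41567) .leaf) (72743, 0, 13, 215597)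 (.node .leaf (72745, 0, 17, 145374) .leaf)) (72747, 0, 17, 122796) (.node (.node .leaf (72749, 0, 16, 18627) .leaf) (72751, 0, 14, 153056) (.node .leaf (72752, 0, 14, 193178) .leaf))))) (72754, 0, 18, 184680) (.node (.node (.node (.node (.node .leaf (72756, 0, 14, 243822) .leaf) (72758, 0, 17, 222709) (.node .leaf (72760, 0, 17, 107733) .leaf)) (72762, 0, 17, 62704) (.node (.node .leaf (72764, 0, 16, 105974) .leaf) (72766, 0, 17, 52691) (.node .leaf (72769, 0, 16, 260290) .leaf))) (72771, 0, 13, 10280) (.node (.node (.node .leaf (72773, 0, 15, 100319) .leaf) (72775, 0, 15, 4363) (.node .leaf (72777, 0, 17, 201310) .leaf)) (72779, 0, 17, 64044) (.node (.node .leaf (72781, 0, 12, 222390) .leaf) (72783, 0, 15, 165169) (.node .leaf (72784, 0, 13, 254014) .leaf)))) (72786, 0, 15, 176155) (.node (.node (.node (.node .leaf (72788, 0, 15, 108551) .leaf) (72790, 0, 15, 147573) (.node .leaf (72792, 0, 16, 212358) .leaf)) (72794, 0, 16, 38275) (.node (.node .leaf (72796, 0, 16, 130181) .leaf) (72798, 0, 17,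 44192) (.node .leaf (72800, 0, 17, 56550) .leaf))) (72802, 0, 16, 246715) (.node (.node (.node .leaf (72804, 0, 15, 173051) .leaf) (72806, 0, 13, 260760) (.node .leaf (72808, 0, 17, 13946) .leaf)) (72810, 0, 17, 124451) (.node (.node .leaf (72812, 0, 18, 36645) .leaf) (72814, 0, 11, 122624) (.node .leaf (72817, 0, 15, 62270) .leaf))))))

/-- part of the orbit tree -/
def itp2_109 : Tree := (.node (.node (.node (.node (.node (.node .leaf (72821, 0, 17, 12942) .leaf) (72823, 0, 17, 90795) (.node .leaf (72825, 0, 16, 142901) .leaf)) (72827, 0, 14, 258512) (.node (.node .leaf (72829, 0, 17, 157375) .leaf) (72831, 0, 17, 214835) (.node .leaf (72832, 0, 15, 149775) .leaf))) (72834, 0, 17, 79298) (.node (.node (.node .leaf (72836, 0, 15, 13842) .leaf) (72838, 0, 16, 253536) (.node .leaf (72840, 0, 13, 147583) .leaf)) (72842, 0, 16, 200794) (.node (.node .leaf (72844, 0, 14, 162140) .leaf) (72846, 0, 14, 210172) (.node .leaf (72849, 0, 17, 157399) .leaf)))) (72851, 0, 16, 241137) (.node (.node (.node (.node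 .leaf (72853, 0, 17, 6602) .leaf) (72855, 0, 17, 258488) (.node .leaf (72857, 0, 18, 166987) .leaf)) (72859, 0, 16, 91193) (.node (.node .leaf (72861, 0, 13, 57711) .leaf) (72863, 0, 18, 110922) (.node .leaf (72865, 0, 16, 93483) .leaf))) (72867, 0, 18, 165209) (.node (.node (.node .leaf (72869, 0, 11, 243543) .leaf) (72871, 0, 15, 190322) (.node .leaf (72873, 0, 15, 109548) .leaf)) (72875, 0, 19, 64457) (.node (.node .leaf (72877, 0, 15, 260266) .leaf) (72879, 0, 18, 4312) (.node .leaf (72880, 0, 18, 71239) .leaf))))) (72882, 0, 14, 174721) (.node (.node (.node (.node (.node .leaf (72884, 0, 16, 212462) .leaf) (72886, 0, 16, 32577) (.node .leaf (72888, 0, 15, 209887) .leaf)) (72890, 0, 17, 156666) (.node (.node .leaf (72892, 0, 13, 199420) .leaf) (72894, 0, 16, 16128) (.node .leaf (72897, 0, 17, 257799) .leaf))) (72899, 0, 12, 237785) (.node (.node (.node .leaf (72901, 0, 17, 251428) .leaf) (72903, 0, 17, 165377) (.node .leaf (72905, 0, 13, 117407) .leaf)) (72907, 0, 17, 39610) (.node (.node .leaf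 (72909, 0, 18, 127932) .leaf) (72911, 0, 17, 79192) (.node .leaf (72912, 0, 18, 96052) .leaf)))) (72914, 0, 17, 10001) (.node (.node (.node (.node .leaf (72916, 0, 18, 137326) .leaf) (72918, 0, 14, 127004) (.node .leaf (72920, 0, 18, 36335) .leaf)) (72922, 0, 15, 131721) (.node (.node .leaf (72924, 0, 17, 224143) .leaf) (72926, 0, 14, 72320) (.node .leaf (72928, 0, 17, 1172) .leaf))) (72930, 0, 16, 34045) (.node (.node (.node .leaf (72932, 0, 12, 15799) .leaf) (72934, 0, 16, 93586) (.node .leaf (72936, 0, 17, 139532) .leaf)) (72938, 0, 16, 225577) (.node (.node .leaf (72940, 0, 17, 129294) .leaf) (72942, 0, 16, 135548) (.node .leaf (72945, 0, 14, 171175) .leaf))))))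

/-- part of the orbit tree -/
def itp2_110 : Tree := (.node (.node (.node (.node (.node (.node .leaf (72949, 0, 18, 80970) .leaf) (72951, 0, 15, 185400) (.node .leaf (72953, 0, 18, 240075) .leaf)) (72955, 0, 16, 16825) (.node (.node .leaf (72957, 0, 15, 32796) .leaf) (72959, 0, 17, 118841) (.node .leaf (72961, 0, 13, 110847) .leaf))) (72963, 0, 13, 57562) (.node (.node (.node .leaf (72965, 0, 15, 100828) .leaf) (72967, 0, 16, 55801) (.node .leaf (72969, 0, 19, 240951) .leaf)) (72971, 0, 18, 17733) (.node (.node .leaf (72973, 0, 15, 119338) .leaf) (72975, 0, 17, 195681) (.node .leaf (72976, 0, 16, 223347) .leaf)))) (72978, 0, 18, 162025) (.node (.node (.node (.node .leaf (72980, 0, 17, 71534) .leaf) (72982, 0, 17, 147914) (.node .leaf (72984, 0, 16, 68948) .leaf)) (72986, 0, 16, 23921) (.node (.node .leaf (72988, 0, 17, 78967) .leaf) (72990, 0, 14, 25682) (.node .leaf (72992, 0, 16, 25487) .leaf))) (72994, 0, 14, 232445) (.node (.node (.node .leaf (72996, 0, 14, 156239) .leaf) (72998, 0, 17, 128224)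 (.node .leaf (73000, 0, 14, 35091) .leaf)) (73002, 0, 18, 221537) (.node (.node .leaf (73004, 0, 13, 194062) .leaf) (73006, 0, 15, 71666) (.node .leaf (73009, 0, 17, 19543) .leaf))))) (73011, 0, 15, 103290) (.node (.node (.node (.node (.node .leaf (73013, 0, 17, 144202) .leaf) (73015, 0, 15, 109145) (.node .leaf (73017, 0, 18, 190151) .leaf)) (73019, 0, 15, 216761) (.node (.node .leaf (73021, 0, 14, 188388) .leaf) (73023, 0, 15, 78244) (.node .leaf (73024, 0, 13, 83471) .leaf))) (73026, 0, 15, 175741) (.node (.node (.node .leaf (73028, 0, 16, 211218) .leaf) (73030, 0, 15, 217881) (.node .leaf (73032, 0, 9, 8071) .leaf)) (73034, 0, 11, 148705) (.node (.node .leaf (73036, 0, 17, 9892) .leaf) (73038, 0, 15, 15356) (.node .leaf (73041, 0, 17, 41516) .leaf)))) (73043, 0, 18, 164261) (.node (.node (.node (.node .leaf (73045, 0, 17, 202442) .leaf) (73047, 0, 18, 117546) (.node .leaf (73049, 0, 15, 165812) .leaf)) (73051, 0, 18, 158521) (.node (.node .leaf (73053, 0, 19, 179863) .leaf) (73055, 0, 13, 257714)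 (.node .leaf (73057, 0, 16, 119180) .leaf))) (73059, 0, 19, 100953) (.node (.node (.node .leaf (73061, 0, 15, 125103) .leaf) (73063, 0, 16, 259396) (.node .leaf (73065, 0, 14, 166071) .leaf)) (73067, 0, 17, 90309) (.node (.node .leaf (73069, 0, 14, 249143) .leaf) (73071, 0, 16, 171282) (.node .leaf (73072, 0, 17, 215487) .leaf))))))

/-- part of the orbit tree -/
def itp2_111 : Tree := (.node itp2_107 (72689, 0, 16, 2059) itp2_108)

/-- part of the orbit tree -/
def itp2_112 : Tree := (.node itp2_109 (72947, 0, 18, 43813) itp2_110)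

/-- part of the orbit tree -/
def itp2_113 : Tree := (.node (.node (.node (.node (.node (.node .leaf (73076, 0, 17, 13038) .leaf) (73078, 0, 18, 139449) (.node .leaf (73080, 0, 17, 173935) .leaf)) (73082, 0, 13, 15362) (.node (.node .leaf (73084, 0, 18, 55410) .leaf) (73086, 0, 18, 208896) (.node .leaf (73089, 0, 15, 206837) .leaf))) (73091, 0, 15, 204720) (.node (.node (.node .leaf (73093, 0, 17, 204502) .leaf) (73095, 0, 16, 151283) (.node .leaf (73097, 0, 17, 7518) .leaf)) (73099, 0, 16, 21064) (.node (.node .leaf (73101, 0, 17, 156227) .leaf) (73103, 0, 17, 27499) (.node .leaf (73104, 0, 19, 114630) .leaf)))) (73106, 0, 17, 209000) (.node (.node (.node (.node .leaf (73108, 0, 19, 173831) .leaf) (73110, 0, 15, 85877) (.node .leaf (73112, 0, 14, 236126) .leaf)) (73114, 0, 15, 252660) (.node (.node .leaf (73116, 0, 16, 150939) .leaf) (73118, 0, 17, 193368) (.node .leaf (73120, 0, 18, 52326) .leaf))) (73122, 0, 16, 15252) (.node (.node (.node .leaf (73124, 0, 13, 109819) .leaf) (73126, 0, 14, 148617)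 (.node .leaf (73128, 0, 15, 190974) .leaf)) (73130, 0, 16, 244187) (.node (.node .leaf (73132, 0, 15, 184541) .leaf) (73134, 0, 17, 175637) (.node .leaf (73137, 0, 17, 261182) .leaf))))) (73139, 0, 16, 5196) (.node (.node (.node (.node (.node .leaf (73141, 0, 15, 159094) .leaf) (73143, 0, 17, 158545) (.node .leaf (73145, 0, 17, 202402) .leaf)) (73147, 0, 14, 65232) (.node (.node .leaf (73149, 0, 14, 92607) .leaf) (73151, 0, 14, 71883) (.node .leaf (73152, 0, 14, 194150) .leaf))) (73154, 0, 16, 73236) (.node (.node (.node .leaf (73156, 0, 14, 37942) .leaf) (73158, 0, 16, 115731) (.node .leaf (73160, 0, 16, 166029) .leaf)) (73162, 0, 15, 252072) (.node (.node .leaf (73164, 0, 15, 25575) .leaf) (73166, 0, 15, 254347) (.node .leaf (73169, 0, 15, 144678) .leaf)))) (73171, 0, 15, 222467) (.node (.node (.node (.node .leaf (73173, 0, 17, 134149) .leaf) (73175, 0, 17, 220192) (.node .leaf (73177, 0, 13, 4286) .leaf)) (73179, 0, 19, 121680) (.node (.node .leaf (73181, 0, 16, 10653) .leaf) (73183, 0, 18, 238669)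 (.node .leaf (73185, 0, 15, 119362) .leaf))) (73187, 0, 15, 145968) (.node (.node (.node .leaf (73189, 0, 16, 229285) .leaf) (73191, 0, 16, 17709) (.node .leaf (73193, 0, 16, 90910) .leaf)) (73195, 0, 15, 184492) (.node (.node .leaf (73197, 0, 16, 214979) .leaf) (73199, 0, 17, 44977) (.node .leaf (73200, 0, 18, 130458) .leaf))))))

/-- part of the orbit tree -/
def itp2_114 : Tree := (.node (.node (.node (.node (.node (.node .leaf (73204, 0, 18, 230023) .leaf) (73206, 0, 18, 47027) (.node .leaf (73208, 0, 9, 71430) .leaf)) (73210, 0, 16, 196468) (.node (.node .leaf (73212, 0, 16, 223259) .leaf) (73214, 0, 15, 168491) (.node .leaf (73232, 0, 16, 42696) .leaf))) (73233, 0, 17, 18094) (.node (.node (.node .leaf (73234, 0, 15, 25294) .leaf) (73235, 0, 18, 146400) (.node .leaf (73236, 0, 15, 128417) .leaf)) (73237, 0, 17, 32653) (.node (.node .leaf (73238, 0, 15, 118734) .leaf) (73239, 0, 12, 17661) (.node .leaf (73240, 0, 17, 164688) .leaf)))) (73241, 0, 16, 80142) (.node (.node (.node (.node .leaf (73242,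 0, 17, 250741) .leaf) (73243, 0, 17, 209683) (.node .leaf (73244, 0, 16, 178803) .leaf)) (73245, 0, 16, 154133) (.node (.node .leaf (73246, 0, 18, 256598) .leaf) (73247, 0, 16, 44641) (.node .leaf (73248, 0, 16, 33088) .leaf))) (73249, 0, 14, 186478) (.node (.node (.node .leaf (73250, 0, 17, 34125) .leaf) (73251, 0, 16, 25899) (.node .leaf (73252, 0, 17, 126027) .leaf)) (73253, 0, 15, 68653) (.node (.node .leaf (73254, 0, 18, 48238) .leaf) (73255, 0, 18, 216833) (.node .leaf (73256, 0, 14, 27612) .leaf))))) (73257, 0, 15, 200854) (.node (.node (.node (.node (.node .leaf (73258, 0, 14, 230318) .leaf) (73259, 0, 17, 147635) (.node .leaf (73260, 0, 18, 248275) .leaf)) (73261, 0, 16, 19951) (.node (.node .leaf (73262, 0, 16, 130227) .leaf) (73263, 0, 17, 162192) (.node .leaf (73280, 0, 16, 107712) .leaf))) (73281, 0, 15, 87165) (.node (.node (.node .leaf (73282, 0, 17, 150706) .leaf) (73283, 0, 16, 5532) (.node .leaf (73284, 0, 15, 101688) .leaf)) (73285, 0, 15, 99059) (.node (.node .leaf (73286, 0, 16,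 13231) .leaf) (73287, 0, 16, 158337) (.node .leaf (73288, 0, 17, 233859) .leaf)))) (73289, 0, 14, 202610) (.node (.node (.node (.node .leaf (73290, 0, 13, 173614) .leaf) (73291, 0, 13, 65280) (.node .leaf (73292, 0, 14, 239776) .leaf)) (73293, 0, 15, 215238) (.node (.node .leaf (73294, 0, 17, 194693) .leaf) (73295, 0, 17, 137443) (.node .leaf (73328, 0, 17, 175932) .leaf))) (73329, 0, 15, 10205) (.node (.node (.node .leaf (73330, 0, 14, 104350) .leaf) (73331, 0, 19, 204384) (.node .leaf (73332, 0, 13, 53281) .leaf)) (73333, 0, 15, 7934) (.node (.node .leaf (73334, 0, 10, 211027) .leaf) (73335, 0, 17, 85723) (.node .leaf (73336, 0, 15, 148896) .leaf))))))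

/-- part of the orbit tree -/
def itp2_115 : Tree := (.node (.node (.node (.node (.node (.node .leaf (73338, 0, 16, 242182) .leaf) (73339, 0, 16, 259324) (.node .leaf (73340, 0, 15, 187136) .leaf)) (73341, 0, 11, 146278) (.node (.node .leaf (73342, 0, 16, 250575) .leaf) (73343, 0, 12, 224067) (.node .leaf (73360, 0, 17, 15061) .leaf))) (73361, 0, 18, 156667) (.node (.node (.node .leaf (73362, 0, 16, 250535) .leaf) (73363, 0, 15, 101257) (.node .leaf (73364, 0, 17, 133345) .leaf)) (73365, 0, 17, 190599) (.node (.node .leaf (73366, 0, 13, 219332) .leaf) (73367, 0, 18, 243874) (.node .leaf (73368, 0, 17, 53321) .leaf)))) (73369, 0, 16, 62524) (.node (.node (.node (.node .leaf (73370, 0, 18, 83071) .leaf) (73371, 0, 16, 90389) (.node .leaf (73372, 0, 16, 175956) .leaf)) (73373, 0, 18, 52511) (.node (.node .leaf (73374, 0, 15, 97628) .leaf) (73375, 0, 16, 105786) (.node .leaf (73376, 0, 17, 209193) .leaf))) (73377, 0, 16, 92167) (.node (.node (.node .leaf (73378, 0, 15, 55643) .leaf) (73379, 0, 17, 163957)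 (.node .leaf (73380, 0, 13, 85556) .leaf)) (73381, 0, 16, 236327) (.node (.node .leaf (73382, 0, 13, 173638) .leaf) (73383, 0, 17, 183042) (.node .leaf (73384, 0, 15, 92154) .leaf))))) (73385, 0, 17, 100252) (.node (.node (.node (.node (.node .leaf (73386, 0, 18, 13255) .leaf) (73387, 0, 14, 158441) (.node .leaf (73388, 0, 17, 89817) .leaf)) (73389, 0, 17, 114367) (.node (.node .leaf (73390, 0, 16, 3836) .leaf) (73391, 0, 14, 5620) (.node .leaf (73408, 0, 10, 205585) .leaf))) (73409, 0, 16, 246647) (.node (.node (.node .leaf (73410, 0, 14, 130267) .leaf) (73411, 0, 16, 168786) (.node .leaf (73412, 0, 15, 27572) .leaf)) (73413, 0, 18, 144026) (.node (.node .leaf (73414, 0, 17, 150039) .leaf) (73415, 0, 17, 121576) (.node .leaf (73416, 0, 19, 196149) .leaf)))) (73417, 0, 17, 42779) (.node (.node (.node (.node .leaf (73418, 0, 17, 22188) .leaf) (73419, 0, 14, 46794) (.node .leaf (73420, 0, 15, 33064) .leaf)) (73421, 0, 13, 122828) (.node (.node .leaf (73422, 0, 15, 223578) .leaf) (73423, 0, 18, 77940)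 (.node .leaf (73456, 0, 17, 151729) .leaf))) (73457, 0, 14, 214651) (.node (.node (.node .leaf (73458, 0, 16, 196756) .leaf) (73459, 0, 11, 44553) (.node .leaf (73460, 0, 17, 158098) .leaf)) (73461, 0, 14, 80230) (.node (.node .leaf (73462, 0, 17, 34874) .leaf) (73463, 0, 16, 184596) (.node .leaf (73464, 0, 17, 128457) .leaf))))))

/-- part of the orbit tree -/
def itp2_116 : Tree := (.node (.node (.node (.node (.node (.node .leaf (73466, 0, 17, 138683) .leaf) (73467, 0, 18, 116074) (.node .leaf (73468, 0, 16, 19466) .leaf)) (73469, 0, 15, 119802) (.node (.node .leaf (73470, 0, 15, 72751) .leaf) (73471, 0, 14, 146312) (.node .leaf (73472, 0, 17, 72617) .leaf))) (73473, 0, 15, 105615) (.node (.node (.node .leaf (73474, 0, 17, 11468) .leaf) (73475, 0, 19, 43765) (.node .leaf (73476, 0, 12, 222388) .leaf)) (73477, 0, 14, 107948) (.node (.node .leaf (73478, 0, 17, 36038) .leaf) (73479, 0, 17, 62857) (.node .leaf (73480, 0, 13, 127285) .leaf)))) (73481, 0, 15, 243991) (.node (.node (.node (.node .leaf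 (73482, 0, 17, 133460) .leaf) (73483, 0, 11, 16489) (.node .leaf (73484, 0, 13, 233000) .leaf)) (73485, 0, 16, 120582) (.node (.node .leaf (73486, 0, 15, 143479) .leaf) (73487, 0, 15, 147316) (.node .leaf (73520, 0, 16, 135253) .leaf))) (73521, 0, 14, 61231) (.node (.node (.node .leaf (73522, 0, 17, 89964) .leaf) (73523, 0, 16, 237833) (.node .leaf (73524, 0, 16, 13930) .leaf)) (73525, 0, 16, 54796) (.node (.node .leaf (73526, 0, 15, 91727) .leaf) (73527, 0, 16, 122388) (.node .leaf (73528, 0, 17, 195273) .leaf))))) (73529, 0, 16, 41959) (.node (.node (.node (.node (.node .leaf (73530, 0, 17, 228084) .leaf) (73531, 0, 17, 236178) (.node .leaf (73532, 0, 17, 34260) .leaf)) (73533, 0, 16, 187642) (.node (.node .leaf (73534, 0, 14, 213975) .leaf) (73535, 0, 15, 238513) (.node .leaf (73552, 0, 18, 210389) .leaf))) (73553, 0, 15, 93435) (.node (.node (.node .leaf (73554, 0, 15, 56743) .leaf) (73555, 0, 15, 122489) (.node .leaf (73556, 0, 15, 22297) .leaf)) (73557, 0, 16, 201702) (.node (.node .leaf (73558,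 0, 14, 172730) .leaf) (73559, 0, 17, 124762) (.node .leaf (73560, 0, 9, 253769) .leaf)))) (73561, 0, 16, 175044) (.node (.node (.node (.node .leaf (73562, 0, 17, 203655) .leaf) (73563, 0, 16, 159253) (.node .leaf (73564, 0, 18, 160385) .leaf)) (73565, 0, 15, 260474) (.node (.node .leaf (73566, 0, 16, 205476) .leaf) (73567, 0, 18, 246466) (.node .leaf (73568, 0, 15, 15913) .leaf))) (73569, 0, 12, 130556) (.node (.node (.node .leaf (73570, 0, 14, 251483) .leaf) (73571, 0, 16, 102261) (.node .leaf (73572, 0, 16, 74937) .leaf)) (73573, 0, 18, 115935) (.node (.node .leaf (73574, 0, 14, 29852) .leaf) (73575, 0, 10, 258152) .leaf)))))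

/-- part of the orbit tree -/
def itp2_117 : Tree := (.node itp2_113 (73202, 0, 16, 36496) itp2_114)

/-- part of the orbit tree -/
def itp2_118 : Tree := (.node itp2_115 (73465, 0, 18, 38223) itp2_116)

/-- part of the orbit tree -/
def itp2_119 : Tree := (.node itp2_111 (72819, 0, 13, 203596) itp2_112)

/-- part of the orbit tree -/
def itp2_120 : Tree := (.node itp2_117 (73337, 0, 15, 7310) itp2_118)

/-- part of the orbit tree -/
def itp2_121 : Tree := (.node itp2_105 (72053, 0, 16, 166482) itp2_106)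

/-- part of the orbit tree -/
def itp2_122 : Tree := (.node itp2_119 (73074, 0, 18, 137626) itp2_120)

/-- part of the orbit tree -/
def itp2_123 : Tree := (.node itp2_91 (70517, 0, 16, 55358) itp2_92)

/-- part of the orbit tree -/
def itp2_124 : Tree := (.node itp2_121 (72561, 0, 17, 171777) itp2_122)

/-- part of the orbit tree -/
def itp2_125 : Tree := (.node itp2_61 (67450, 0, 17, 228220) itp2_62)

/-- part of the orbit tree -/
def itp2_126 : Tree := (.node itp2_123 (71538, 0, 15, 19446) itp2_124)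

/-- part of the orbit tree -/
def itp2_127 : Tree := (.node (.node (.node (.node (.node (.node .leaf (73577, 0, 18, 252004) .leaf) (73578, 0, 14, 157735) (.node .leaf (73579, 0, 17, 91625) .leaf)) (73580, 0, 16, 175016) (.node (.node .leaf (73581, 0, 17, 62086) .leaf) (73582, 0, 15, 82906) (.node .leaf (73583, 0, 16, 176482) .leaf))) (73600, 0, 17, 256995) (.node (.node (.node .leaf (73601, 0, 9, 199557) .leaf) (73602, 0, 16, 82866) (.node .leaf (73603, 0, 14, 154528) .leaf)) (73604, 0, 14, 54493) (.node (.node .leaf (73605, 0, 18, 209574) .leaf) (73606, 0, 15, 164581) (.node .leaf (73607, 0, 17, 156291) .leaf)))) (73608, 0, 16, 118395) (.node (.node (.node (.node .leaf (73609, 0, 18, 77341) .leaf) (73610, 0, 15, 108846) (.node .leaf (73611, 0, 9, 32312) .leaf)) (73612, 0, 16, 128856) (.node (.node .leaf (73613, 0, 16, 157551) .leaf) (73614, 0, 15, 42877) (.node .leaf (73615, 0, 16, 102173) .leaf))) (73648, 0, 15, 106556) (.node (.node (.node .leaf (73649, 0, 17, 161829) .leaf) (73650, 0, 17, 149582)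 (.node .leaf (73651, 0, 13, 4448) .leaf)) (73652, 0, 16, 253729) (.node (.node .leaf (73653, 0, 9, 147718) .leaf) (73654, 0, 16, 258373) (.node .leaf (73655, 0, 15, 159357) .leaf))))) (73656, 0, 18, 48603) (.node (.node (.node (.node (.node .leaf (73657, 0, 17, 23997) .leaf) (73658, 0, 17, 172754) (.node .leaf (73659, 0, 13, 64508) .leaf)) (73660, 0, 14, 210365) (.node (.node .leaf (73661, 0, 15, 25758) .leaf) (73662, 0, 16, 56783) (.node .leaf (73663, 0, 16, 79035) .leaf))) (73680, 0, 17, 194864) (.node (.node (.node .leaf (73681, 0, 18, 137558) .leaf) (73682, 0, 16, 239893) (.node .leaf (73683, 0, 13, 79072) .leaf)) (73684, 0, 16, 195233) (.node (.node .leaf (73685, 0, 18, 41871) .leaf) (73686, 0, 15, 70355) (.node .leaf (73687, 0, 17, 216061) .leaf)))) (73688, 0, 15, 56488) (.node (.node (.node (.node .leaf (73689, 0, 14, 15566) .leaf) (73690, 0, 16, 101517) (.node .leaf (73691, 0, 17, 122492) .leaf)) (73692, 0, 14, 135229) (.node (.node .leaf (73693, 0, 13, 18707) .leaf) (73694, 0, 15, 129103)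 (.node .leaf (73695, 0, 14, 237921) .leaf))) (73696, 0, 17, 232080) (.node (.node (.node .leaf (73697, 0, 16, 223990) .leaf) (73698, 0, 18, 26162) (.node .leaf (73699, 0, 15, 146131) .leaf)) (73700, 0, 16, 242611) (.node (.node .leaf (73701, 0, 17, 239731) .leaf) (73702, 0, 16, 137519) (.node .leaf (73703, 0, 18, 16385) .leaf))))))

/-- part of the orbit tree -/
def itp2_128 : Tree := (.node (.node (.node (.node (.node (.node .leaf (73705, 0, 15, 81394) .leaf) (73706, 0, 17, 65325) (.node .leaf (73707, 0, 15, 185728) .leaf)) (73708, 0, 17, 72641) (.node (.node .leaf (73709, 0, 14, 95821) .leaf) (73710, 0, 18, 193459) (.node .leaf (73711, 0, 17, 9832) .leaf))) (73728, 0, 11, 63715) (.node (.node (.node .leaf (73731, 0, 18, 84415) .leaf) (73733, 0, 19, 166194) (.node .leaf (73734, 0, 17, 94092) .leaf)) (73737, 0, 17, 38281) (.node (.node .leaf (73738, 0, 15, 75210) .leaf) (73740, 0, 17, 159074) (.node .leaf (73743, 0, 15, 130191) .leaf)))) (73744, 0, 16, 167445) (.node (.node (.node (.node .leaf (73747,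 0, 17, 212809) .leaf) (73749, 0, 15, 61799) (.node .leaf (73750, 0, 15, 203130) .leaf)) (73753, 0, 12, 191964) (.node (.node .leaf (73754, 0, 15, 220575) .leaf) (73756, 0, 15, 144537) (.node .leaf (73759, 0, 18, 109256) .leaf))) (73761, 0, 13, 253127) (.node (.node (.node .leaf (73762, 0, 17, 2983) .leaf) (73764, 0, 10, 90785) (.node .leaf (73767, 0, 15, 53986) .leaf)) (73768, 0, 13, 94069) (.node (.node .leaf (73771, 0, 17, 183897) .leaf) (73773, 0, 16, 239455) (.node .leaf (73774, 0, 15, 63514) .leaf))))) (73777, 0, 12, 109105) (.node (.node (.node (.node (.node .leaf (73778, 0, 14, 160754) .leaf) (73780, 0, 18, 203508) (.node .leaf (73783, 0, 15, 15710) .leaf)) (73784, 0, 15, 203139) (.node (.node .leaf (73787, 0, 14, 174303) .leaf) (73789, 0, 16, 212912) (.node .leaf (73790, 0, 18, 167660) .leaf))) (73793, 0, 15, 194887) (.node (.node (.node .leaf (73794, 0, 17, 215067) .leaf) (73796, 0, 16, 188276) (.node .leaf (73799, 0, 15, 224808) .leaf)) (73800, 0, 17, 19189) (.node (.node .leaf (73803, 0,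 16, 129961) .leaf) (73805, 0, 16, 247340) (.node .leaf (73806, 0, 17, 161391) .leaf)))) (73809, 0, 15, 238274) (.node (.node (.node (.node .leaf (73810, 0, 15, 135809) .leaf) (73812, 0, 15, 43394) (.node .leaf (73815, 0, 11, 183236) .leaf)) (73816, 0, 16, 146435) (.node (.node .leaf (73819, 0, 14, 232799) .leaf) (73821, 0, 14, 114297) (.node .leaf (73822, 0, 16, 240492) .leaf))) (73824, 0, 16, 122211) (.node (.node (.node .leaf (73827, 0, 15, 27711) .leaf) (73829, 0, 17, 190529) (.node .leaf (73830, 0, 16, 219138) .leaf)) (73833, 0, 16, 224977) (.node (.node .leaf (73834, 0, 16, 83129) .leaf) (73836, 0, 16, 215266) (.node .leaf (73839, 0, 16, 105980) .leaf))))))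

/-- part of the orbit tree -/
def itp2_129 : Tree := (.node (.node (.node (.node (.node (.node .leaf (73843, 0, 15, 129298) .leaf) (73845, 0, 14, 36884) (.node .leaf (73846, 0, 12, 73815) .leaf)) (73849, 0, 19, 167087) (.node (.node .leaf (73850, 0, 17, 43387) .leaf) (73852, 0, 16, 81428) (.node .leaf (73855, 0, 14, 255401) .leaf))) (73856, 0, 17, 51069) (.node (.node (.node .leaf (73859, 0, 16, 96062) .leaf) (73861, 0, 18, 224953) (.node .leaf (73862, 0, 17, 188389) .leaf)) (73865, 0, 13, 131715) (.node (.node .leaf (73866, 0, 17, 242368) .leaf) (73868, 0, 13, 122123) (.node .leaf (73871, 0, 17, 224133) .leaf)))) (73872, 0, 17, 81532) (.node (.node (.node (.node .leaf (73875, 0, 13, 36640) .leaf) (73877, 0, 12, 157293) (.node .leaf (73878, 0, 18, 43283) .leaf)) (73881, 0, 16, 31446) (.node (.node .leaf (73882, 0, 16, 117397) .leaf) (73884, 0, 15, 41875) (.node .leaf (73887, 0, 14, 70608) .leaf))) (73889, 0, 15, 208110) (.node (.node (.node .leaf (73890, 0, 17, 171181) .leaf) (73892, 0, 18, 259499)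 (.node .leaf (73895, 0, 15, 129985) .leaf)) (73896, 0, 15, 188188) (.node (.node .leaf (73899, 0, 17, 224832) .leaf) (73901, 0, 15, 77909) (.node .leaf (73902, 0, 11, 32790) .leaf))))) (73905, 0, 16, 87227) (.node (.node (.node (.node (.node .leaf (73906, 0, 13, 58616) .leaf) (73908, 0, 18, 101886) (.node .leaf (73911, 0, 13, 232759) .leaf)) (73912, 0, 18, 233797) (.node (.node .leaf (73915, 0, 18, 71862) .leaf) (73917, 0, 13, 36825) (.node .leaf (73918, 0, 17, 81541) .leaf))) (73921, 0, 14, 84270) (.node (.node (.node .leaf (73922, 0, 14, 196062) .leaf) (73924, 0, 17, 93981) (.node .leaf (73927, 0, 17, 56897) .leaf)) (73928, 0, 16, 260764) (.node (.node .leaf (73931, 0, 13, 150464) .leaf) (73933, 0, 15, 86310) (.node .leaf (73934, 0, 12, 159219) .leaf)))) (73937, 0, 17, 212952) (.node (.node (.node (.node .leaf (73938, 0, 16, 167556) .leaf) (73940, 0, 17, 126093) (.node .leaf (73943, 0, 15, 174263) .leaf)) (73944, 0, 18, 258102) (.node (.node .leaf (73947, 0, 15, 147573) .leaf) (73949, 0, 15, 109145)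 (.node .leaf (73950, 0, 17, 6917) .leaf))) (73952, 0, 15, 158986) (.node (.node (.node .leaf (73955, 0, 9, 253014) .leaf) (73957, 0, 15, 32587) (.node .leaf (73958, 0, 18, 260709) .leaf)) (73961, 0, 15, 57016) (.node (.node .leaf (73962, 0, 17, 94180) .leaf) (73964, 0, 15, 178869) (.node .leaf (73967, 0, 15, 84439) .leaf))))))

/-- part of the orbit tree -/
def itp2_130 : Tree := (.node (.node (.node (.node (.node (.node .leaf (73971, 0, 15, 109216) .leaf) (73973, 0, 17, 132894) (.node .leaf (73974, 0, 12, 101523) .leaf)) (73977, 0, 11, 174158) (.node (.node .leaf (73978, 0, 19, 203026) .leaf) (73980, 0, 18, 49888) (.node .leaf (73983, 0, 17, 94883) .leaf))) (73985, 0, 17, 70245) (.node (.node (.node .leaf (73986, 0, 17, 259954) .leaf) (73988, 0, 16, 117536) (.node .leaf (73991, 0, 17, 250177) .leaf)) (73992, 0, 15, 62876) (.node (.node .leaf (73995, 0, 16, 83136) .leaf) (73997, 0, 16, 200414) (.node .leaf (73998, 0, 17, 179869) .leaf)))) (74001, 0, 17, 223792) (.node (.node (.node (.node .leaf (74002,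 0, 18, 98692) .leaf) (74004, 0, 16, 5867) (.node .leaf (74007, 0, 16, 108471) .leaf)) (74008, 0, 16, 110542) (.node (.node .leaf (74011, 0, 14, 209462) .leaf) (74013, 0, 16, 95883) (.node .leaf (74014, 0, 17, 50888) .leaf))) (74016, 0, 18, 90634) (.node (.node (.node .leaf (74019, 0, 17, 54102) .leaf) (74021, 0, 14, 139443) (.node .leaf (74022, 0, 15, 233712) .leaf)) (74025, 0, 16, 250296) (.node (.node .leaf (74026, 0, 17, 101451) .leaf) (74028, 0, 17, 58701) (.node .leaf (74031, 0, 15, 87310) .leaf))))) (74032, 0, 15, 33187) (.node (.node (.node (.node (.node .leaf (74035, 0, 18, 173472) .leaf) (74037, 0, 15, 22758) (.node .leaf (74038, 0, 19, 125093) .leaf)) (74041, 0, 13, 148573) (.node (.node .leaf (74042, 0, 17, 5650) .leaf) (74044, 0, 13, 98685) (.node .leaf (74047, 0, 17, 12321) .leaf))) (74048, 0, 17, 18314) (.node (.node (.node .leaf (74051, 0, 18, 207046) .leaf) (74053, 0, 15, 147904) (.node .leaf (74054, 0, 15, 258435) .leaf)) (74057, 0, 11, 23931) (.node (.node .leaf (74058, 0, 19, 214372)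 .leaf) (74060, 0, 16, 33854) (.node .leaf (74063, 0, 7, 78973) .leaf)))) (74064, 0, 11, 57552) (.node (.node (.node (.node .leaf (74067, 0, 16, 229408) .leaf) (74069, 0, 14, 14741) (.node .leaf (74070, 0, 14, 100822) .leaf)) (74073, 0, 11, 33486) (.node (.node .leaf (74074, 0, 16, 234861) .leaf) (74076, 0, 18, 195691) (.node .leaf (74079, 0, 16, 71073) .leaf))) (74081, 0, 14, 222126) (.node (.node (.node .leaf (74082, 0, 16, 185074) .leaf) (74084, 0, 15, 109139) (.node .leaf (74087, 0, 17, 193729) .leaf)) (74088, 0, 16, 118812) (.node (.node .leaf (74091, 0, 18, 24896) .leaf) (74093, 0, 18, 225197) (.node .leaf (74094, 0, 17, 18291) .leaf))))))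

/-- part of the orbit tree -/
def itp2_131 : Tree := (.node itp2_127 (73704, 0, 17, 222428) itp2_128)

/-- part of the orbit tree -/
def itp2_132 : Tree := (.node itp2_129 (73968, 0, 17, 187995) itp2_130)

/-- part of the orbit tree -/
def itp2_133 : Tree := (.node (.node (.node (.node (.node (.node .leaf (74098, 0, 17, 178944) .leaf) (74100, 0, 16, 250374) (.node .leaf (74103, 0, 18, 156229) .leaf)) (74104, 0, 18, 239338) (.node (.node .leaf (74107, 0, 15, 32510) .leaf) (74109, 0, 14, 229593) (.node .leaf (74110, 0, 17, 42939) .leaf))) (74113, 0, 16, 128583) (.node (.node (.node .leaf (74114, 0, 16, 144684) .leaf) (74116, 0, 15, 118900) (.node .leaf (74119, 0, 16, 191593) .leaf)) (74120, 0, 18, 214517) (.node (.node .leaf (74123, 0, 13, 193705) .leaf) (74125, 0, 17, 104916) (.node .leaf (74126, 0, 16, 184986) .leaf)))) (74129, 0, 15, 229553) (.node (.node (.node (.node .leaf (74130, 0, 14, 143853) .leaf) (74132, 0, 18, 74879) (.node .leaf (74135, 0, 17, 37948) .leaf)) (74136, 0, 18, 211140) (.node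 (.node .leaf (74139, 0, 18, 166023) .leaf) (74141, 0, 14, 254337) (.node .leaf (74142, 0, 17, 42092) .leaf))) (74144, 0, 16, 28412) (.node (.node (.node .leaf (74147, 0, 14, 122559) .leaf) (74149, 0, 18, 193616) (.node .leaf (74150, 0, 14, 214284) .leaf)) (74153, 0, 17, 174850) (.node (.node .leaf (74154, 0, 17, 203585) .leaf) (74156, 0, 13, 18402) (.node .leaf (74159, 0, 14, 128702) .leaf))))) (74160, 0, 16, 42133) (.node (.node (.node (.node (.node .leaf (74163, 0, 16, 71113) .leaf) (74165, 0, 16, 184300) (.node .leaf (74166, 0, 12, 78842) .leaf)) (74169, 0, 18, 54103) (.node (.node .leaf (74170, 0, 16, 90900) .leaf) (74172, 0, 14, 143636) (.node .leaf (74175, 0, 17, 113233) .leaf))) (74176, 0, 16, 3983) (.node (.node (.node .leaf (74179, 0, 16, 149183) .leaf) (74181, 0, 16, 250320) (.node .leaf (74182, 0, 18, 91785) .leaf)) (74185, 0, 16, 83025) (.node (.node .leaf (74186, 0, 7, 62733) .leaf) (74188, 0, 15, 135988) (.node .leaf (74191, 0, 17, 238455) .leaf)))) (74192, 0, 16, 98581) (.node (.node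 (.node (.node .leaf (74195, 0, 14, 247705) .leaf) (74197, 0, 16, 108326) (.node .leaf (74198, 0, 14, 204508) .leaf)) (74201, 0, 14, 209575) (.node (.node .leaf (74202, 0, 17, 66151) .leaf) (74204, 0, 16, 201876) (.node .leaf (74207, 0, 15, 173512) .leaf))) (74209, 0, 9, 54215) (.node (.node (.node .leaf (74210, 0, 16, 90779) .leaf) (74212, 0, 15, 212313) (.node .leaf (74215, 0, 11, 83112) .leaf)) (74216, 0, 17, 155765) (.node (.node .leaf (74219, 0, 17, 37281) .leaf) (74221, 0, 16, 149062) (.node .leaf (74222, 0, 15, 18660) .leaf))))))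

/-- part of the orbit tree -/
def itp2_134 : Tree := (.node (.node (.node (.node (.node (.node .leaf (74226, 0, 16, 201837) .leaf) (74228, 0, 17, 164610) (.node .leaf (74231, 0, 17, 62799) .leaf)) (74232, 0, 17, 5763) (.node (.node .leaf (74235, 0, 16, 108511) .leaf) (74237, 0, 16, 12464) (.node .leaf (74238, 0, 14, 143537) .leaf))) (74242, 0, 17, 207906) (.node (.node (.node .leaf (74243, 0, 16, 85139) .leaf) (74244, 0, 15, 148772) (.node .leaf (74245, 0, 11, 173378) .leaf)) (74248, 0, 18, 22943) (.node (.node .leaf (74249, 0, 17, 151165) .leaf) (74254, 0, 17, 98364) (.node .leaf (74255, 0, 15, 119039) .leaf)))) (74258, 0, 15, 87159) (.node (.node (.node (.node .leaf (74259, 0, 16, 111633) .leaf) (74260, 0, 16, 15729) (.node .leaf (74261, 0, 16, 56599) .leaf)) (74264, 0, 16, 156069) (.node (.node .leaf (74265, 0, 11, 180652) .leaf) (74270, 0, 15, 259786) (.node .leaf (74271, 0, 13, 239786) .leaf))) (74272, 0, 17, 98501) (.node (.node (.node .leaf (74273, 0, 16, 252395) .leaf) (74278, 0, 16, 6058)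 (.node .leaf (74279, 0, 17, 151172) .leaf)) (74282, 0, 17, 131663) (.node (.node .leaf (74283, 0, 18, 188969) .leaf) (74284, 0, 17, 202052) (.node .leaf (74285, 0, 16, 232239) .leaf))))) (74288, 0, 17, 200615) (.node (.node (.node (.node (.node .leaf (74289, 0, 17, 110365) .leaf) (74294, 0, 19, 155996) (.node .leaf (74295, 0, 16, 14450) .leaf)) (74298, 0, 16, 62685) (.node (.node .leaf (74299, 0, 17, 175603) .leaf) (74300, 0, 15, 70428) (.node .leaf (74301, 0, 17, 211612) .leaf))) (74304, 0, 15, 42309) (.node (.node (.node .leaf (74305, 0, 16, 128743) .leaf) (74310, 0, 15, 78378) (.node .leaf (74311, 0, 13, 40929) .leaf)) (74314, 0, 15, 239531) (.node (.node .leaf (74315, 0, 15, 164698) .leaf) (74316, 0, 17, 199226) (.node .leaf (74317, 0, 17, 256604) .leaf)))) (74320, 0, 18, 185267) (.node (.node (.node (.node .leaf (74321, 0, 17, 35485) .leaf) (74326, 0, 14, 214236) (.node .leaf (74327, 0, 17, 73202) .leaf)) (74330, 0, 18, 7017) (.node (.node .leaf (74331, 0, 12, 231539) .leaf) (74332, 0, 16, 94831)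 (.node .leaf (74333, 0, 17, 139036) .leaf))) (74338, 0, 16, 143421) (.node (.node (.node .leaf (74339, 0, 17, 26899) .leaf) (74340, 0, 16, 239442) (.node .leaf (74341, 0, 18, 181297) .leaf)) (74344, 0, 16, 78547) (.node (.node .leaf (74345, 0, 16, 224253) .leaf) (74350, 0, 17, 42428) (.node .leaf (74351, 0, 16, 110988) .leaf))))))

/-- part of the orbit tree -/
def itp2_135 : Tree := (.node (.node (.node (.node (.node (.node .leaf (74355, 0, 12, 120162) .leaf) (74356, 0, 13, 119204) (.node .leaf (74357, 0, 15, 231562) .leaf)) (74360, 0, 16, 214053) (.node (.node .leaf (74361, 0, 18, 172255) .leaf) (74366, 0, 15, 207295) (.node .leaf (74367, 0, 8, 248281) .leaf))) (74370, 0, 15, 42452) (.node (.node (.node .leaf (74371, 0, 16, 88910) .leaf) (74372, 0, 15, 53806) (.node .leaf (74373, 0, 13, 12872) .leaf)) (74376, 0, 16, 239418) (.node (.node .leaf (74377, 0, 18, 143091) .leaf) (74382, 0, 17, 143445) (.node .leaf (74383, 0, 17, 215029) .leaf)))) (74386, 0, 16, 246653) (.node (.node (.node (.node .leaf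 (74387, 0, 16, 205595) .leaf) (74388, 0, 12, 214093) (.node .leaf (74389, 0, 18, 150045) .leaf)) (74392, 0, 13, 119244) (.node (.node .leaf (74393, 0, 13, 22182) .leaf) (74398, 0, 17, 122822) (.node .leaf (74399, 0, 18, 81824) .leaf))) (74400, 0, 18, 254200) (.node (.node (.node .leaf (74401, 0, 16, 27010) .leaf) (74406, 0, 18, 166398) (.node .leaf (74407, 0, 14, 158104) .leaf)) (74410, 0, 17, 78402) (.node (.node .leaf (74411, 0, 15, 29987) .leaf) (74412, 0, 18, 130115) (.node .leaf (74413, 0, 16, 72741) .leaf))))) (74416, 0, 16, 104621) (.node (.node (.node (.node (.node .leaf (74417, 0, 14, 139124) .leaf) (74422, 0, 16, 61867) (.node .leaf (74423, 0, 16, 4557) .leaf)) (74426, 0, 15, 214196) (.node (.node .leaf (74427, 0, 16, 73114) .leaf) (74428, 0, 18, 230422) (.node .leaf (74429, 0, 13, 222320) .leaf))) (74432, 0, 17, 229771) (.node (.node (.node .leaf (74433, 0, 17, 84994) .leaf) (74438, 0, 13, 164419) (.node .leaf (74439, 0, 15, 133355) .leaf)) (74442, 0, 17, 62518) (.node (.node .leaf (74443,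 0, 16, 5200) .leaf) (74444, 0, 18, 98477) (.node .leaf (74445, 0, 19, 252291) .leaf)))) (74448, 0, 16, 91098) (.node (.node (.node (.node .leaf (74449, 0, 17, 72120) .leaf) (74454, 0, 12, 62645) (.node .leaf (74455, 0, 14, 28862) .leaf)) (74458, 0, 16, 167011) (.node (.node .leaf (74459, 0, 15, 158725) .leaf) (74460, 0, 15, 255333) (.node .leaf (74461, 0, 15, 197891) .leaf))) (74466, 0, 14, 98388) (.node (.node (.node .leaf (74467, 0, 15, 80445) .leaf) (74468, 0, 16, 5947) (.node .leaf (74469, 0, 17, 21307) .leaf)) (74472, 0, 18, 176102) (.node (.node .leaf (74473, 0, 12, 151424) .leaf) (74478, 0, 17, 247520) (.node .leaf (74479, 0, 13, 85243) .leaf))))))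

/-- part of the orbit tree -/
def itp2_136 : Tree := (.node (.node (.node (.node (.node (.node .leaf (74483, 0, 16, 110476) .leaf) (74484, 0, 15, 183048) (.node .leaf (74485, 0, 16, 142190) .leaf)) (74488, 0, 15, 55219) (.node (.node .leaf (74489, 0, 12, 14293) .leaf) (74494, 0, 14, 90915) (.node .leaf (74495, 0, 16, 211469) .leaf))) (74496, 0, 16, 122483) (.node (.node (.node .leaf (74497, 0, 16, 81429) .leaf) (74502, 0, 14, 46965) (.node .leaf (74503, 0, 17, 250989) .leaf)) (74506, 0, 15, 175054) (.node (.node .leaf (74507, 0, 16, 150440) .leaf) (74508, 0, 17, 167853) (.node .leaf (74509, 0, 17, 54915) .leaf)))) (74512, 0, 11, 239142) (.node (.node (.node (.node .leaf (74513, 0, 17, 13812) .leaf) (74518, 0, 17, 261045) (.node .leaf (74519, 0, 14, 107163) .leaf)) (74522, 0, 16, 54171) (.node (.node .leaf (74523, 0, 16, 13309) .leaf) (74524, 0, 18, 63835) (.node .leaf (74525, 0, 17, 172149) .leaf))) (74530, 0, 15, 230819) (.node (.node (.node .leaf (74531, 0, 17, 222661) .leaf) (74532, 0, 17, 202811)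 (.node .leaf (74533, 0, 17, 82197) .leaf)) (74536, 0, 19, 61470) (.node (.node .leaf (74537, 0, 13, 4216) .leaf) (74542, 0, 17, 6869) (.node .leaf (74543, 0, 17, 148475) .leaf))))) (74546, 0, 17, 130550) (.node (.node (.node (.node (.node .leaf (74547, 0, 18, 172172) .leaf) (74548, 0, 14, 93901) (.node .leaf (74549, 0, 15, 29846) .leaf)) (74552, 0, 17, 260940) (.node (.node .leaf (74553, 0, 17, 157741) .leaf) (74558, 0, 15, 254285) (.node .leaf (74559, 0, 15, 13581) .leaf))) (74562, 0, 16, 240340) (.node (.node (.node .leaf (74563, 0, 17, 197814) .leaf) (74564, 0, 15, 167382) (.node .leaf (74565, 0, 12, 159152) .leaf)) (74568, 0, 16, 43066) (.node (.node .leaf (74569, 0, 17, 28939) .leaf) (74574, 0, 18, 81749) (.node .leaf (74575, 0, 14, 222843) .leaf)))) (74578, 0, 16, 105605) (.node (.node (.node (.node .leaf (74579, 0, 16, 97507) .leaf) (74580, 0, 16, 62851) (.node .leaf (74581, 0, 17, 135779) .leaf)) (74584, 0, 16, 188108) (.node (.node .leaf (74585, 0, 12, 34786) .leaf) (74590, 0, 15, 229438)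 (.node .leaf (74591, 0, 17, 221272) .leaf))) (74592, 0, 16, 114432) (.node (.node (.node .leaf (74593, 0, 16, 222850) .leaf) (74598, 0, 16, 43203) (.node .leaf (74599, 0, 14, 13920) .leaf)) (74602, 0, 15, 182973) (.node (.node .leaf (74603, 0, 13, 142043) .leaf) (74604, 0, 11, 238523) .leaf)))))

/-- part of the orbit tree -/
def itp2_137 : Tree := (.node itp2_133 (74225, 0, 15, 105545) itp2_134)

/-- part of the orbit tree -/
def itp2_138 : Tree := (.node itp2_135 (74482, 0, 14, 238094) itp2_136)

/-- part of the orbit tree -/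
def itp2_139 : Tree := (.node itp2_131 (73840, 0, 14, 18769) itp2_132)

/-- part of the orbit tree -/
def itp2_140 : Tree := (.node itp2_137 (74354, 0, 16, 18123) itp2_138)

/-- part of the orbit tree -/
def itp2_141 : Tree := (.node (.node (.node (.node (.node (.node .leaf (74608, 0, 16, 247637) .leaf) (74609, 0, 16, 69748) (.node .leaf (74614, 0, 13, 175699) .leaf)) (74615, 0, 16, 34587) (.node (.node .leaf (74618, 0, 17, 19380) .leaf) (74619, 0, 17, 135834) (.node .leaf (74620, 0, 18, 122075) .leaf))) (74621, 0, 15, 80776) (.node (.node (.node .leaf (74624, 0, 17, 215417) .leaf) (74625, 0, 15, 127851) (.node .leaf (74630, 0, 12, 146730) .leaf)) (74631, 0, 17, 25604) (.node (.node .leaf (74634, 0, 16, 43179) .leaf) (74635, 0, 17, 56482) (.node .leaf (74636, 0, 18, 87490) .leaf)))) (74637, 0, 14, 112036) (.node (.node (.node (.node .leaf (74640, 0, 15, 78124) .leaf) (74641, 0, 16, 119114) (.node .leaf (74646, 0, 16, 19420) .leaf)) (74647, 0, 17, 135922) (.node (.node .leaf (74650, 0, 18, 187997)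 .leaf) (74651, 0, 16, 173303) (.node .leaf (74652, 0, 12, 208279) .leaf))) (74653, 0, 19, 249329) (.node (.node (.node .leaf (74658, 0, 16, 81725) .leaf) (74659, 0, 15, 127695) (.node .leaf (74660, 0, 16, 43090) .leaf)) (74661, 0, 17, 39881) (.node (.node .leaf (74664, 0, 13, 146899) .leaf) (74665, 0, 15, 25853) (.node .leaf (74670, 0, 14, 200210) .leaf))))) (74671, 0, 11, 127890) (.node (.node (.node (.node (.node .leaf (74674, 0, 14, 223996) .leaf) (74675, 0, 16, 232090) (.node .leaf (74676, 0, 15, 188068) .leaf)) (74677, 0, 17, 34698) (.node (.node .leaf (74680, 0, 17, 19237) .leaf) (74681, 0, 17, 65319) (.node .leaf (74686, 0, 18, 121930) .leaf))) (74687, 0, 17, 230756) (.node (.node (.node .leaf (74690, 0, 17, 6845) .leaf) (74691, 0, 15, 103356) (.node .leaf (74692, 0, 16, 6876) .leaf)) (74693, 0, 17, 64186) (.node (.node .leaf (74696, 0, 18, 202835) .leaf) (74697, 0, 14, 82301) (.node .leaf (74702, 0, 16, 167740) .leaf)))) (74703, 0, 13, 233223) (.node (.node (.node (.node .leaf (74706, 0, 18,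 199567) .leaf) (74707, 0, 15, 13669) (.node .leaf (74708, 0, 10, 260900) .leaf)) (74709, 0, 16, 107018) (.node (.node .leaf (74712, 0, 14, 32306) .leaf) (74713, 0, 14, 40532) (.node .leaf (74718, 0, 16, 63946) .leaf))) (74719, 0, 14, 128850) (.node (.node (.node .leaf (74720, 0, 16, 167877) .leaf) (74721, 0, 15, 247916) (.node .leaf (74726, 0, 16, 147724) .leaf)) (74727, 0, 18, 172394) (.node (.node .leaf (74730, 0, 18, 23991) .leaf) (74731, 0, 16, 48593) (.node .leaf (74732, 0, 9, 6724) .leaf))))))

/-- part of the orbit tree -/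
def itp2_142 : Tree := (.node (.node (.node (.node (.node (.node .leaf (74736, 0, 18, 86111) .leaf) (74737, 0, 16, 172061) (.node .leaf (74742, 0, 18, 14681) .leaf)) (74743, 0, 15, 210802) (.node (.node .leaf (74746, 0, 16, 140770) .leaf) (74747, 0, 16, 181636) (.node .leaf (74748, 0, 13, 216292) .leaf))) (74749, 0, 15, 13724) (.node (.node (.node .leaf (74753, 0, 15, 109625) .leaf) (74755, 0, 16, 148555) (.node .leaf (74756, 0, 15, 100874) .leaf)) (74758, 0, 16, 140249) (.node (.node .leaf (74760, 0, 17, 204683) .leaf) (74762, 0, 18, 63481) (.node .leaf (74765, 0, 16, 211384) .leaf)))) (74767, 0, 16, 58919) (.node (.node (.node (.node .leaf (74769, 0, 15, 252623) .leaf) (74771, 0, 12, 33481) (.node .leaf (74772, 0, 17, 261372) .leaf)) (74774, 0, 16, 23436) (.node (.node .leaf (74776, 0, 17, 202514) .leaf) (74778, 0, 18, 164111) (.node .leaf (74781, 0, 15, 85838) .leaf))) (74783, 0, 15, 173884) (.node (.node (.node .leaf (74784, 0, 14, 16682) .leaf) (74786, 0, 14, 90223) (.node .leaf (74789, 0, 16,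 175662) .leaf)) (74791, 0, 10, 116810) (.node (.node .leaf (74793, 0, 17, 165076) .leaf) (74795, 0, 14, 250845) (.node .leaf (74796, 0, 14, 7580) .leaf))))) (74798, 0, 18, 200116) (.node (.node (.node (.node (.node .leaf (74800, 0, 13, 145791) .leaf) (74802, 0, 15, 223578) (.node .leaf (74805, 0, 15, 188474) .leaf)) (74807, 0, 16, 241695) (.node (.node .leaf (74809, 0, 17, 64641) .leaf) (74811, 0, 17, 107819) (.node .leaf (74812, 0, 14, 158570) .leaf))) (74814, 0, 17, 99096) (.node (.node (.node .leaf (74816, 0, 17, 8281) .leaf) (74818, 0, 14, 94332) (.node .leaf (74821, 0, 17, 232366) .leaf)) (74823, 0, 15, 108857) (.node (.node .leaf (74825, 0, 16, 189863) .leaf) (74827, 0, 17, 194141) (.node .leaf (74828, 0, 17, 146658) .leaf)))) (74830, 0, 14, 224455) (.node (.node (.node (.node .leaf (74832, 0, 14, 153612) .leaf) (74834, 0, 16, 198697) (.node .leaf (74837, 0, 17, 130392) .leaf)) (74839, 0, 16, 136490) (.node (.node .leaf (74841, 0, 17, 40434) .leaf) (74843, 0, 15, 32939) (.node .leaf (74844,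 0, 18, 17591) .leaf))) (74846, 0, 15, 42648) (.node (.node (.node .leaf (74849, 0, 17, 35257) .leaf) (74851, 0, 17, 221643) (.node .leaf (74852, 0, 14, 201359) .leaf)) (74854, 0, 17, 215032) (.node (.node .leaf (74856, 0, 17, 69172) .leaf) (74858, 0, 16, 24081) (.node .leaf (74861, 0, 16, 120689) .leaf))))))

/-- part of the orbit tree -/
def itp2_143 : Tree := (.node (.node (.node (.node (.node (.node .leaf (74865, 0, 17, 196431) .leaf) (74867, 0, 15, 58298) (.node .leaf (74868, 0, 14, 92890) .leaf)) (74870, 0, 18, 15103) (.node (.node .leaf (74872, 0, 16, 226913) .leaf) (74874, 0, 17, 238735) (.node .leaf (74877, 0, 15, 241444) .leaf))) (74879, 0, 17, 230076) (.node (.node (.node .leaf (74881, 0, 15, 81331) .leaf) (74883, 0, 14, 128034) (.node .leaf (74884, 0, 17, 124150) .leaf)) (74886, 0, 17, 119313) (.node (.node .leaf (74888, 0, 12, 260173) .leaf) (74890, 0, 17, 214928) (.node .leaf (74893, 0, 17, 35281) .leaf)))) (74895, 0, 15, 221603) (.node (.node (.node (.node .leaf (74897, 0, 18, 214502)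 .leaf) (74899, 0, 18, 136643) (.node .leaf (74900, 0, 18, 19605) .leaf)) (74902, 0, 14, 183430) (.node (.node .leaf (74904, 0, 17, 98328) .leaf) (74906, 0, 18, 53309) (.node .leaf (74909, 0, 17, 196391) .leaf))) (74911, 0, 18, 71509) (.node (.node (.node .leaf (74912, 0, 19, 79988) .leaf) (74914, 0, 17, 230917) (.node .leaf (74917, 0, 14, 135013) .leaf)) (74919, 0, 16, 194101) (.node (.node .leaf (74921, 0, 16, 232390) .leaf) (74923, 0, 17, 82939) (.node .leaf (74924, 0, 15, 241141) .leaf))))) (74926, 0, 17, 105150) (.node (.node (.node (.node (.node .leaf (74928, 0, 12, 216706) .leaf) (74930, 0, 15, 130640) (.node .leaf (74933, 0, 15, 223409) .leaf)) (74935, 0, 16, 32963) (.node (.node .leaf (74937, 0, 15, 158603) .leaf) (74939, 0, 17, 211886) (.node .leaf (74940, 0, 18, 121603) .leaf))) (74942, 0, 18, 144241) (.node (.node (.node .leaf (74944, 0, 16, 7668) .leaf) (74946, 0, 18, 259462) (.node .leaf (74949, 0, 19, 159254) .leaf)) (74951, 0, 15, 212531) (.node (.node .leaf (74953, 0, 16, 175686) .leaf)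 (74955, 0, 15, 83508) (.node .leaf (74956, 0, 15, 166005) .leaf)))) (74958, 0, 16, 90119) (.node (.node (.node (.node .leaf (74960, 0, 16, 158466) .leaf) (74962, 0, 17, 106275) (.node .leaf (74965, 0, 17, 5699) .leaf)) (74967, 0, 16, 83558) (.node (.node .leaf (74969, 0, 16, 133880) .leaf) (74971, 0, 18, 209090) (.node .leaf (74972, 0, 16, 185277) .leaf))) (74974, 0, 14, 230296) (.node (.node (.node .leaf (74977, 0, 17, 89280) .leaf) (74979, 0, 16, 53666) (.node .leaf (74980, 0, 14, 99717) .leaf)) (74982, 0, 16, 54688) (.node (.node .leaf (74984, 0, 17, 100962) .leaf) (74986, 0, 12, 182555) (.node .leaf (74989, 0, 17, 213115) .leaf))))))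

/-- part of the orbit tree -/
def itp2_144 : Tree := (.node (.node (.node (.node (.node (.node .leaf (74993, 0, 18, 85798) .leaf) (74995, 0, 16, 160944) (.node .leaf (74996, 0, 15, 92437) .leaf)) (74998, 0, 13, 164199) (.node (.node .leaf (75000, 0, 15, 261268) .leaf) (75002, 0, 15, 45390) (.node .leaf (75005, 0, 15, 79918) .leaf))) (75007, 0, 17, 13013) (.node (.node (.node .leaf (75008, 0, 16, 59563) .leaf) (75010, 0, 13, 112782) (.node .leaf (75013, 0, 16, 12782) .leaf)) (75015, 0, 12, 90571) (.node (.node .leaf (75017, 0, 16, 142677) .leaf) (75019, 0, 16, 228720) (.node .leaf (75020, 0, 18, 193552) .leaf)))) (75022, 0, 17, 159495) (.node (.node (.node (.node .leaf (75024, 0, 16, 91138) .leaf) (75026, 0, 14, 167024) (.node .leaf (75029, 0, 18, 149947) .leaf)) (75031, 0, 17, 203166) (.node (.node .leaf (75033, 0, 7, 251824) .leaf) (75035, 0, 14, 66853) (.node .leaf (75036, 0, 15, 258435) .leaf))) (75038, 0, 15, 121952) (.node (.node (.node .leaf (75041, 0, 13, 14032) .leaf) (75043, 0, 14, 152349)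 (.node .leaf (75044, 0, 17, 252541) .leaf)) (75046, 0, 14, 166488) (.node (.node .leaf (75048, 0, 17, 165218) .leaf) (75050, 0, 17, 38627) (.node .leaf (75053, 0, 15, 73603) .leaf))))) (75055, 0, 14, 20390) (.node (.node (.node (.node (.node .leaf (75057, 0, 16, 147494) .leaf) (75059, 0, 16, 108628) (.node .leaf (75060, 0, 14, 157205) .leaf)) (75062, 0, 18, 101991) (.node (.node .leaf (75064, 0, 16, 245395) .leaf) (75066, 0, 14, 192182) (.node .leaf (75069, 0, 14, 54695) .leaf))) (75071, 0, 15, 212437) (.node (.node (.node .leaf (75073, 0, 17, 221771) .leaf) (75075, 0, 16, 143982) (.node .leaf (75076, 0, 14, 79203) .leaf)) (75078, 0, 11, 191275) (.node (.node .leaf (75080, 0, 14, 237794) .leaf) (75082, 0, 18, 18576) (.node .leaf (75085, 0, 16, 98032) .leaf)))) (75087, 0, 18, 11989) (.node (.node (.node (.node .leaf (75089, 0, 16, 222630) .leaf) (75091, 0, 16, 19003) (.node .leaf (75092, 0, 17, 213909) .leaf)) (75094, 0, 15, 44007) (.node (.node .leaf (75096, 0, 15, 120340) .leaf) (75098, 0, 16, 167877)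 (.node .leaf (75101, 0, 16, 127015) .leaf))) (75103, 0, 15, 137301) (.node (.node (.node .leaf (75104, 0, 14, 35288) .leaf) (75106, 0, 18, 122630) (.node .leaf (75109, 0, 17, 20637) .leaf)) (75111, 0, 17, 65720) (.node (.node .leaf (75113, 0, 12, 33990) .leaf) (75115, 0, 18, 224436) (.node .leaf (75116, 0, 18, 41717) .leaf))))))

/-- part of the orbit tree -/
def itp2_145 : Tree := (.node itp2_141 (74733, 0, 17, 148330) itp2_142)

/-- part of the orbit tree -/
def itp2_146 : Tree := (.node itp2_143 (74991, 0, 17, 148515) itp2_144)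

/-- part of the orbit tree -/
def itp2_147 : Tree := (.node (.node (.node (.node (.node (.node .leaf (75120, 0, 13, 16770) .leaf) (75122, 0, 14, 240112) (.node .leaf (75125, 0, 16, 26545) .leaf)) (75127, 0, 15, 227565) (.node (.node .leaf (75129, 0, 17, 193072) .leaf) (75131, 0, 14, 91222) (.node .leaf (75132, 0, 18, 60726) .leaf))) (75134, 0, 18, 113939) (.node (.node (.node .leaf (75136, 0, 17, 41629) .leaf) (75138, 0, 12, 215791) (.node .leaf (75141, 0, 16, 33966) .leaf)) (75143, 0, 18, 259777) (.node (.node .leaf (75145, 0, 16, 135471) .leaf) (75147, 0, 16, 125562) (.node .leaf (75148, 0, 17, 145180) .leaf)))) (75150, 0, 17, 122734) (.node (.node (.node (.node .leaf (75152, 0, 15, 2036) .leaf) (75154, 0, 14, 88017) (.node .leaf (75157, 0, 17, 193112) .leaf)) (75159, 0, 14, 102036) (.node (.node .leaf (75161, 0, 18, 180746) .leaf) (75163, 0, 18, 233387) (.node .leaf (75164, 0, 15, 16874) .leaf))) (75166, 0, 13, 215914) (.node (.node (.node .leaf (75169, 0, 16, 103474) .leaf) (75171, 0, 11, 50199)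 (.node .leaf (75172, 0, 14, 85367) .leaf)) (75174, 0, 16, 18680) (.node (.node .leaf (75176, 0, 14, 217548) .leaf) (75178, 0, 15, 187769) (.node .leaf (75181, 0, 14, 231561) .leaf))))) (75183, 0, 19, 195402) (.node (.node (.node (.node (.node .leaf (75185, 0, 15, 257127) .leaf) (75187, 0, 15, 179266) (.node .leaf (75188, 0, 16, 210210) .leaf)) (75190, 0, 14, 156935) (.node (.node .leaf (75192, 0, 17, 214013) .leaf) (75194, 0, 18, 31164) (.node .leaf (75197, 0, 17, 127196) .leaf))) (75199, 0, 15, 36284) (.node (.node (.node .leaf (75201, 0, 16, 128321) .leaf) (75203, 0, 14, 42340) (.node .leaf (75204, 0, 17, 76804) .leaf)) (75206, 0, 17, 31777) (.node (.node .leaf (75208, 0, 18, 209087) .leaf) (75210, 0, 14, 155802) (.node .leaf (75213, 0, 18, 14008) .leaf)))) (75215, 0, 13, 253642) (.node (.node (.node (.node .leaf (75217, 0, 14, 54735) .leaf) (75219, 0, 17, 187697) (.node .leaf (75220, 0, 17, 218193) .leaf)) (75222, 0, 13, 132212) (.node (.node .leaf (75224, 0, 16, 84202) .leaf) (75226, 0, 16, 6351)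 (.node .leaf (75229, 0, 15, 147534) .leaf))) (75231, 0, 17, 49546) (.node (.node (.node .leaf (75232, 0, 13, 138962) .leaf) (75234, 0, 14, 216823) (.node .leaf (75237, 0, 16, 106798) .leaf)) (75239, 0, 17, 235442) (.node (.node .leaf (75241, 0, 17, 210095) .leaf) (75243, 0, 12, 56541) (.node .leaf (75244, 0, 16, 617) .leaf))))))

/-- part of the orbit tree -/
def itp2_148 : Tree := (.node (.node (.node (.node (.node (.node .leaf (75248, 0, 18, 26247) .leaf) (75250, 0, 16, 79522) (.node .leaf (75253, 0, 16, 49090) .leaf)) (75255, 0, 15, 16298) (.node (.node .leaf (75257, 0, 13, 172921) .leaf) (75259, 0, 17, 258908) (.node .leaf (75260, 0, 15, 162364) .leaf))) (75262, 0, 14, 166936) (.node (.node (.node .leaf (75264, 0, 16, 222895) .leaf) (75265, 0, 16, 231113) (.node .leaf (75266, 0, 17, 145034) .leaf)) (75267, 0, 16, 186092) (.node (.node .leaf (75276, 0, 13, 91578) .leaf) (75277, 0, 16, 212116) (.node .leaf (75278, 0, 18, 10801) .leaf)))) (75279, 0, 18, 51799) (.node (.node (.node (.node .leaf (75280,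 0, 14, 100045) .leaf) (75281, 0, 17, 253923) (.node .leaf (75282, 0, 16, 20191) .leaf)) (75283, 0, 16, 14225) (.node (.node .leaf (75292, 0, 15, 201548) .leaf) (75293, 0, 14, 254503) (.node .leaf (75294, 0, 17, 152164) .leaf))) (75295, 0, 15, 176642) (.node (.node (.node .leaf (75300, 0, 15, 61996) .leaf) (75301, 0, 17, 46111) (.node .leaf (75302, 0, 15, 203358) .leaf)) (75303, 0, 16, 82800) (.node (.node .leaf (75304, 0, 15, 149698) .leaf) (75305, 0, 15, 16003) (.node .leaf (75306, 0, 17, 202983) .leaf))))) (75307, 0, 15, 251633) (.node (.node (.node (.node (.node .leaf (75316, 0, 13, 165082) .leaf) (75317, 0, 16, 56820) (.node .leaf (75318, 0, 17, 93352) .leaf)) (75319, 0, 12, 236655) (.node (.node .leaf (75320, 0, 16, 4443) .leaf) (75321, 0, 19, 149621) (.node .leaf (75322, 0, 16, 90290) .leaf))) (75323, 0, 17, 98516) (.node (.node (.node .leaf (75332, 0, 16, 120748) .leaf) (75333, 0, 17, 54636) (.node .leaf (75334, 0, 17, 91439) .leaf)) (75335, 0, 15, 26352) (.node (.node .leaf (75336, 0, 13,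 141745) .leaf) (75337, 0, 12, 72451) (.node .leaf (75338, 0, 17, 43615) .leaf)))) (75339, 0, 14, 193393) (.node (.node (.node (.node .leaf (75348, 0, 16, 237914) .leaf) (75349, 0, 18, 175417) (.node .leaf (75350, 0, 17, 204154) .leaf)) (75351, 0, 15, 261404) (.node (.node .leaf (75352, 0, 16, 79067) .leaf) (75353, 0, 17, 224757) (.node .leaf (75354, 0, 15, 187561) .leaf))) (75355, 0, 15, 34183) (.node (.node (.node .leaf (75360, 0, 17, 185787) .leaf) (75361, 0, 17, 35989) (.node .leaf (75362, 0, 18, 153593) .leaf)) (75363, 0, 16, 222439) (.node (.node .leaf (75372, 0, 16, 16442) .leaf) (75373, 0, 16, 129793) (.node .leaf (75374, 0, 13, 239688) .leaf))))))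

/-- part of the orbit tree -/
def itp2_149 : Tree := (.node (.node (.node (.node (.node (.node .leaf (75376, 0, 15, 98185) .leaf) (75377, 0, 17, 195171) (.node .leaf (75378, 0, 17, 12204) .leaf)) (75379, 0, 16, 70161) (.node (.node .leaf (75388, 0, 17, 145100) .leaf) (75389, 0, 15, 28642) (.node .leaf (75390, 0, 16, 122558) .leaf))) (75391, 0, 16, 231312) (.node (.node (.node .leaf (75392, 0, 15, 16466) .leaf) (75393, 0, 17, 137596) (.node .leaf (75394, 0, 13, 41344) .leaf)) (75395, 0, 16, 16870) (.node (.node .leaf (75404, 0, 14, 185811) .leaf) (75405, 0, 16, 36093) (.node .leaf (75406, 0, 13, 179515) .leaf)))) (75407, 0, 14, 222351) (.node (.node (.node (.node .leaf (75408, 0, 15, 231920) .leaf) (75409, 0, 16, 28554) (.node .leaf (75410, 0, 15, 122582) .leaf)) (75411, 0, 17, 231416) (.node (.node .leaf (75420, 0, 15, 103755) .leaf) (75421, 0, 16, 95533) (.node .leaf (75422, 0, 19, 50542) .leaf))) (75423, 0, 18, 9480) (.node (.node (.node .leaf (75428, 0, 17, 181107) .leaf) (75429, 0, 17, 140053)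 (.node .leaf (75430, 0, 17, 234326) .leaf)) (75431, 0, 16, 226096) (.node (.node .leaf (75432, 0, 16, 120772) .leaf) (75433, 0, 17, 233194) (.node .leaf (75434, 0, 16, 102381) .leaf))))) (75435, 0, 18, 26264) (.node (.node (.node (.node (.node .leaf (75444, 0, 11, 79027) .leaf) (75445, 0, 15, 23360) (.node .leaf (75446, 0, 14, 187585) .leaf)) (75447, 0, 18, 68453) (.node (.node .leaf (75448, 0, 16, 237874) .leaf) (75449, 0, 17, 149499) (.node .leaf (75450, 0, 16, 18752) .leaf))) (75451, 0, 16, 202718) (.node (.node (.node .leaf (75460, 0, 16, 172544) .leaf) (75461, 0, 16, 16107) (.node .leaf (75462, 0, 16, 258597) .leaf)) (75463, 0, 17, 251545) (.node (.node .leaf (75464, 0, 17, 62020) .leaf) (75465, 0, 16, 174954) (.node .leaf (75466, 0, 17, 203318) .leaf)))) (75467, 0, 15, 69368) (.node (.node (.node (.node .leaf (75476, 0, 17, 55893) .leaf) (75477, 0, 14, 149533) (.node .leaf (75478, 0, 15, 100976) .leaf)) (75479, 0, 19, 106607) (.node (.node .leaf (75480, 0, 14, 165042) .leaf) (75481, 0, 14, 140936)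 (.node .leaf (75482, 0, 13, 235211) .leaf))) (75483, 0, 17, 210414) (.node (.node (.node .leaf (75488, 0, 17, 102614) .leaf) (75489, 0, 6, 212220) (.node .leaf (75490, 0, 17, 49395) .leaf)) (75491, 0, 16, 8341) (.node (.node .leaf (75500, 0, 18, 258131) .leaf) (75501, 0, 16, 108925) (.node .leaf (75502, 0, 13, 187464) .leaf))))))

/-- part of the orbit tree -/
def itp2_150 : Tree := (.node (.node (.node (.node (.node (.node .leaf (75504, 0, 16, 201508) .leaf) (75505, 0, 18, 84490) (.node .leaf (75506, 0, 15, 178342) .leaf)) (75507, 0, 11, 172664) (.node (.node .leaf (75516, 0, 15, 128056) .leaf) (75517, 0, 16, 253835) (.node .leaf (75518, 0, 17, 42013) .leaf))) (75519, 0, 16, 14329) (.node (.node (.node .leaf (75524, 0, 13, 65016) .leaf) (75525, 0, 15, 7582) (.node .leaf (75526, 0, 16, 164023) .leaf)) (75527, 0, 12, 85435) (.node (.node .leaf (75528, 0, 16, 188739) .leaf) (75529, 0, 17, 131365) (.node .leaf (75530, 0, 18, 5430) .leaf)))) (75531, 0, 14, 150552) (.node (.node (.node (.node .leaf (75540,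 0, 16, 165293) .leaf) (75541, 0, 17, 83741) (.node .leaf (75542, 0, 17, 251272) .leaf)) (75543, 0, 17, 210414) (.node (.node .leaf (75544, 0, 18, 101298) .leaf) (75545, 0, 17, 250524) (.node .leaf (75546, 0, 15, 117043) .leaf))) (75547, 0, 16, 15086) (.node (.node (.node .leaf (75552, 0, 14, 249646) .leaf) (75553, 0, 17, 208712) (.node .leaf (75554, 0, 17, 98976) .leaf)) (75555, 0, 18, 163693) (.node (.node .leaf (75564, 0, 14, 65363) .leaf) (75565, 0, 11, 78835) (.node .leaf (75566, 0, 17, 33712) .leaf))))) (75567, 0, 15, 85519) (.node (.node (.node (.node (.node .leaf (75568, 0, 17, 7204) .leaf) (75569, 0, 15, 87837) (.node .leaf (75570, 0, 17, 259158) .leaf)) (75571, 0, 15, 1848) (.node (.node .leaf (75580, 0, 17, 166309) .leaf) (75581, 0, 17, 53387) (.node .leaf (75582, 0, 17, 90583) .leaf))) (75583, 0, 13, 138115) (.node (.node (.node .leaf (75584, 0, 18, 216914) .leaf) (75585, 0, 14, 71292) (.node .leaf (75586, 0, 19, 42784) .leaf)) (75587, 0, 5, 138782) (.node (.node .leaf (75596, 0, 16, 111334)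 .leaf) (75597, 0, 15, 86656) (.node .leaf (75598, 0, 18, 144033) .leaf)))) (75599, 0, 17, 677) (.node (.node (.node (.node .leaf (75600, 0, 16, 80292) .leaf) (75601, 0, 16, 79470) (.node .leaf (75602, 0, 16, 34349) .leaf)) (75603, 0, 15, 26187) (.node (.node .leaf (75612, 0, 14, 248499) .leaf) (75613, 0, 16, 207573) (.node .leaf (75614, 0, 16, 170646) .leaf))) (75615, 0, 16, 138617) (.node (.node (.node .leaf (75620, 0, 19, 19781) .leaf) (75621, 0, 15, 31981) (.node .leaf (75622, 0, 18, 238903) .leaf)) (75623, 0, 18, 77000) (.node (.node .leaf (75624, 0, 13, 186564) .leaf) (75625, 0, 12, 155734) .leaf)))))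

/-- part of the orbit tree -/
def itp2_151 : Tree := (.node itp2_147 (75246, 0, 15, 86604) itp2_148)

/-- part of the orbit tree -/
def itp2_152 : Tree := (.node itp2_149 (75503, 0, 17, 147727) itp2_150)

/-- part of the orbit tree -/
def itp2_153 : Tree := (.node itp2_145 (74863, 0, 18, 34644) itp2_146)

/-- part of the orbit tree -/
def itp2_154 : Tree := (.node itp2_151 (75375, 0, 17, 127334) itp2_152)

/-- part of the orbit tree -/
def itp2_155 : Tree := (.node itp2_139 (74097, 0, 15, 199491) itp2_140)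

/-- part of the orbit tree -/
def itp2_156 : Tree := (.node itp2_153 (75118, 0, 16, 247110) itp2_154)

/-- part of the orbit tree -/
def itp2_157 : Tree := (.node (.node (.node (.node (.node (.node .leaf (75627, 0, 12, 223640) .leaf) (75636, 0, 15, 146355) (.node .leaf (75637, 0, 12, 132280) .leaf)) (75638, 0, 16, 119745) (.node (.node .leaf (75639, 0, 17, 232175) .leaf) (75640, 0, 16, 63589) (.node .leaf (75641, 0, 18, 6147) .leaf))) (75642, 0, 17, 214592) (.node (.node (.node .leaf (75643, 0, 14, 84006) .leaf) (75652, 0, 19, 158450) (.node .leaf (75653, 0, 16, 166548) .leaf)) (75654, 0, 14, 78046) (.node (.node .leaf (75655, 0, 14, 223728) .leaf) (75656, 0, 16, 19757) (.node .leaf (75657, 0, 15, 38447) .leaf)))) (75658, 0, 16, 238943) (.node (.node (.node (.node .leaf (75659, 0, 17, 130161) .leaf) (75668, 0, 16, 4775) (.node .leaf (75669, 0, 16, 62145) .leaf)) (75670, 0, 18, 214568) (.node (.node .leaf (75671, 0, 18, 107236) .leaf) (75672, 0, 18, 146395) (.node .leaf (75673, 0, 17, 25333) .leaf)))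 (75674, 0, 14, 220729) (.node (.node (.node .leaf (75675, 0, 15, 245343) .leaf) (75680, 0, 17, 121531) (.node .leaf (75681, 0, 16, 112706) .leaf)) (75682, 0, 15, 144073) (.node (.node .leaf (75683, 0, 15, 27623) .leaf) (75692, 0, 13, 214175) (.node .leaf (75693, 0, 14, 71188) .leaf))))) (75694, 0, 17, 136378) (.node (.node (.node (.node (.node .leaf (75695, 0, 14, 196198) .leaf) (75696, 0, 16, 240717) (.node .leaf (75697, 0, 17, 128355) .leaf)) (75698, 0, 14, 17471) (.node (.node .leaf (75699, 0, 15, 167986) .leaf) (75708, 0, 16, 81098) (.node .leaf (75709, 0, 16, 122028) .leaf))) (75710, 0, 16, 27887) (.node (.node (.node .leaf (75711, 0, 17, 35977) .leaf) (75712, 0, 16, 80215) (.node .leaf (75713, 0, 17, 121137) .leaf)) (75714, 0, 15, 26994) (.node (.node .leaf (75715, 0, 15, 85607) .leaf) (75724, 0, 16, 158394) (.node .leaf (75725, 0, 17, 13204) .leaf)))) (75726, 0, 16, 99016) (.node (.node (.node (.node .leaf (75727, 0, 16, 252902) .leaf) (75728, 0, 18, 166349) (.node .leaf (75729, 0, 17, 237924)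 .leaf)) (75730, 0, 15, 135463) (.node (.node .leaf (75731, 0, 17, 211089) .leaf) (75740, 0, 16, 89529) (.node .leaf (75741, 0, 17, 114143) .leaf))) (75742, 0, 13, 259134) (.node (.node (.node .leaf (75743, 0, 17, 109840) .leaf) (75748, 0, 17, 261420) (.node .leaf (75749, 0, 13, 107522) .leaf)) (75750, 0, 16, 220068) (.node (.node .leaf (75751, 0, 13, 244674) .leaf) (75752, 0, 15, 92333) (.node .leaf (75753, 0, 15, 209283) .leaf))))))

/-- part of the orbit tree -/
def itp2_158 : Tree := (.node (.node (.node (.node (.node (.node .leaf (75755, 0, 18, 108409) .leaf) (75764, 0, 14, 101338) (.node .leaf (75765, 0, 18, 250612) .leaf)) (75766, 0, 17, 74737) (.node (.node .leaf (75767, 0, 17, 14982) .leaf) (75768, 0, 15, 159599) (.node .leaf (75769, 0, 15, 167689) .leaf))) (75770, 0, 16, 63017) (.node (.node (.node .leaf (75771, 0, 17, 175879) .leaf) (75777, 0, 16, 52749) (.node .leaf (75778, 0, 15, 218542) .leaf)) (75781, 0, 17, 63278) (.node (.node .leaf (75782, 0, 15, 76467) .leaf) (75784, 0, 18, 22336)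 (.node .leaf (75787, 0, 16, 124444) .leaf)))) (75788, 0, 17, 141405) (.node (.node (.node (.node .leaf (75791, 0, 18, 235777) .leaf) (75793, 0, 14, 177752) (.node .leaf (75794, 0, 16, 198171) .leaf)) (75797, 0, 16, 191769) (.node (.node .leaf (75798, 0, 17, 212792) .leaf) (75800, 0, 14, 139702) (.node .leaf (75803, 0, 17, 233706) .leaf))) (75804, 0, 16, 19077) (.node (.node (.node .leaf (75807, 0, 17, 126967) .leaf) (75808, 0, 16, 114902) (.node .leaf (75811, 0, 14, 169437) .leaf)) (75812, 0, 15, 245707) (.node (.node .leaf (75815, 0, 16, 134807) .leaf) (75817, 0, 16, 122976) (.node .leaf (75818, 0, 18, 180792) .leaf))))) (75821, 0, 17, 121155) (.node (.node (.node (.node (.node .leaf (75822, 0, 17, 26880) .leaf) (75824, 0, 15, 243232) (.node .leaf (75827, 0, 16, 60808) .leaf)) (75828, 0, 16, 91368) (.node (.node .leaf (75831, 0, 14, 54443) .leaf) (75833, 0, 15, 235573) (.node .leaf (75834, 0, 17, 141430) .leaf))) (75837, 0, 18, 237846) (.node (.node (.node .leaf (75838, 0, 17, 135509) .leaf) (75840,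 0, 12, 214253) (.node .leaf (75843, 0, 18, 87050) .leaf)) (75844, 0, 14, 228814) (.node (.node .leaf (75847, 0, 16, 183693) .leaf) (75849, 0, 15, 98579) (.node .leaf (75850, 0, 16, 12624) .leaf)))) (75853, 0, 15, 10745) (.node (.node (.node (.node .leaf (75854, 0, 17, 104613) .leaf) (75856, 0, 14, 168864) (.node .leaf (75859, 0, 17, 36091) .leaf)) (75860, 0, 16, 66971) (.node (.node .leaf (75863, 0, 16, 46552) .leaf) (75865, 0, 16, 260422) (.node .leaf (75866, 0, 18, 102734) .leaf))) (75869, 0, 18, 155407) (.node (.node (.node .leaf (75870, 0, 17, 257619) .leaf) (75873, 0, 16, 246130) (.node .leaf (75874, 0, 17, 73533) .leaf)) (75877, 0, 17, 114287) (.node (.node .leaf (75878, 0, 18, 75294) .leaf) (75880, 0, 16, 94912) (.node .leaf (75883, 0, 16, 50076) .leaf))))))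

/-- part of the orbit tree -/
def itp2_159 : Tree := (.node (.node (.node (.node (.node (.node .leaf (75887, 0, 16, 179329) .leaf) (75889, 0, 15, 186155) (.node .leaf (75890, 0, 13, 1752) .leaf)) (75893, 0, 17, 192008) (.node (.node .leaf (75894, 0, 16, 162245) .leaf) (75896, 0, 16, 197686) (.node .leaf (75899, 0, 14, 177514) .leaf))) (75900, 0, 17, 97067) (.node (.node (.node .leaf (75903, 0, 17, 51831) .leaf) (75905, 0, 11, 153863) (.node .leaf (75906, 0, 17, 58823) .leaf)) (75909, 0, 17, 207750) (.node (.node .leaf (75910, 0, 17, 249959) .leaf) (75912, 0, 15, 255785) (.node .leaf (75915, 0, 15, 76986) .leaf)))) (75916, 0, 16, 42458) (.node (.node (.node (.node .leaf (75919, 0, 15, 71065) .leaf) (75921, 0, 16, 8530) (.node .leaf (75922, 0, 14, 168753) .leaf)) (75925, 0, 17, 6257) (.node (.node .leaf (75926, 0, 14, 108594) .leaf) (75928, 0, 17, 102879) (.node .leaf (75931, 0, 14, 218351) .leaf))) (75932, 0, 16, 257730) (.node (.node (.node .leaf (75935, 0, 11, 224716) .leaf) (75936, 0, 16, 111252)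 (.node .leaf (75939, 0, 16, 727) .leaf)) (75940, 0, 17, 4002) (.node (.node .leaf (75943, 0, 14, 114430) .leaf) (75945, 0, 18, 227178) (.node .leaf (75946, 0, 18, 94801) .leaf))))) (75949, 0, 16, 216649) (.node (.node (.node (.node (.node .leaf (75950, 0, 18, 200012) .leaf) (75952, 0, 18, 1609) (.node .leaf (75955, 0, 18, 112405) .leaf)) (75956, 0, 17, 259042) (.node (.node .leaf (75959, 0, 18, 247816) .leaf) (75961, 0, 15, 69439) (.node .leaf (75962, 0, 18, 197799) .leaf))) (75965, 0, 13, 51942) (.node (.node (.node .leaf (75966, 0, 18, 34399) .leaf) (75968, 0, 16, 119783) (.node .leaf (75971, 0, 14, 189539) .leaf)) (75972, 0, 14, 125636) (.node (.node .leaf (75975, 0, 16, 23175) .leaf) (75977, 0, 18, 202265) (.node .leaf (75978, 0, 14, 22481) .leaf)))) (75981, 0, 14, 208698) (.node (.node (.node (.node .leaf (75982, 0, 17, 171897) .leaf) (75984, 0, 15, 74697) (.node .leaf (75987, 0, 18, 138225) .leaf)) (75988, 0, 16, 220372) (.node (.node .leaf (75991, 0, 16, 139986) .leaf) (75993, 0, 17, 93772)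 (.node .leaf (75994, 0, 11, 139559) .leaf))) (75997, 0, 15, 126822) (.node (.node (.node .leaf (75998, 0, 17, 24122) .leaf) (76001, 0, 16, 28955) (.node .leaf (76002, 0, 9, 231479) .leaf)) (76005, 0, 14, 134662) (.node (.node .leaf (76006, 0, 17, 245594) .leaf) (76008, 0, 15, 64906) (.node .leaf (76011, 0, 14, 85449) .leaf))))))

/-- part of the orbit tree -/
def itp2_160 : Tree := (.node (.node (.node (.node (.node (.node .leaf (76015, 0, 16, 95466) .leaf) (76017, 0, 16, 16417) (.node .leaf (76018, 0, 16, 127074) .leaf)) (76021, 0, 14, 30978) (.node (.node .leaf (76022, 0, 13, 117164) .leaf) (76024, 0, 16, 165343) (.node .leaf (76027, 0, 17, 210332) .leaf))) (76028, 0, 15, 183106) (.node (.node (.node .leaf (76031, 0, 17, 199871) .leaf) (76032, 0, 18, 23103) (.node .leaf (76035, 0, 17, 146524) .leaf)) (76036, 0, 16, 243004) (.node (.node .leaf (76039, 0, 15, 132479) .leaf) (76041, 0, 14, 190861) (.node .leaf (76042, 0, 18, 219345) .leaf)))) (76045, 0, 16, 38544) (.node (.node (.node (.node .leaf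 (76046, 0, 17, 75724) .leaf) (76048, 0, 18, 142537) (.node .leaf (76051, 0, 14, 17417) .leaf)) (76052, 0, 14, 118121) (.node (.node .leaf (76055, 0, 17, 123528) .leaf) (76057, 0, 15, 40827) (.node .leaf (76058, 0, 15, 164343) .leaf))) (76061, 0, 13, 198807) (.node (.node (.node .leaf (76062, 0, 14, 178388) .leaf) (76065, 0, 17, 26508) (.node .leaf (76066, 0, 16, 184135) .leaf)) (76069, 0, 17, 65798) (.node (.node .leaf (76070, 0, 15, 126700) .leaf) (76072, 0, 15, 118185) (.node .leaf (76075, 0, 13, 31989) .leaf))))) (76076, 0, 15, 242356) (.node (.node (.node (.node (.node .leaf (76079, 0, 18, 132072) .leaf) (76081, 0, 14, 139225) (.node .leaf (76082, 0, 15, 241562) .leaf)) (76085, 0, 14, 227312) (.node (.node .leaf (76086, 0, 15, 235193) .leaf) (76088, 0, 16, 55847) (.node .leaf (76091, 0, 16, 92772) .leaf))) (76092, 0, 15, 115778) (.node (.node (.node .leaf (76095, 0, 15, 29982) .leaf) (76097, 0, 17, 154523) (.node .leaf (76098, 0, 15, 112316) .leaf)) (76101, 0, 14, 16348) (.node (.node .leaf (76102,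 0, 13, 102303) .leaf) (76104, 0, 13, 59433) (.node .leaf (76107, 0, 16, 226114) .leaf)))) (76108, 0, 17, 195106) (.node (.node (.node (.node .leaf (76111, 0, 17, 206440) .leaf) (76113, 0, 15, 163498) (.node .leaf (76114, 0, 16, 249577) .leaf)) (76117, 0, 17, 149385) (.node (.node .leaf (76118, 0, 17, 260042) .leaf) (76120, 0, 7, 47956) (.node .leaf (76123, 0, 19, 68375) .leaf))) (76124, 0, 16, 33399) (.node (.node (.node .leaf (76127, 0, 17, 86174) .leaf) (76128, 0, 16, 257388) (.node .leaf (76131, 0, 16, 52963) .leaf)) (76132, 0, 16, 250959) (.node (.node .leaf (76135, 0, 15, 156684) .leaf) (76137, 0, 11, 248845) (.node .leaf (76138, 0, 16, 163153) .leaf))))))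

/-- part of the orbit tree -/
def itp2_161 : Tree := (.node itp2_157 (75754, 0, 18, 83743) itp2_158)

/-- part of the orbit tree -/
def itp2_162 : Tree := (.node itp2_159 (76012, 0, 17, 50345) itp2_160)

/-- part of the orbit tree -/
def itp2_163 : Tree := (.node (.node (.node (.node (.node (.node .leaf (76142, 0, 9, 588) .leaf) (76144, 0, 14, 103737) (.node .leaf (76147, 0, 17, 178197) .leaf)) (76148, 0, 15, 95828) (.node (.node .leaf (76151, 0, 17, 50952) .leaf) (76153, 0, 17, 113403) (.node .leaf (76154, 0, 14, 188548) .leaf))) (76157, 0, 16, 247270) (.node (.node (.node .leaf (76158, 0, 17, 186791) .leaf) (76160, 0, 18, 256598) (.node .leaf (76163, 0, 18, 154378) .leaf)) (76164, 0, 15, 103755) (.node (.node .leaf (76167, 0, 18, 9239) .leaf) (76169, 0, 15, 88548) (.node .leaf (76170, 0, 16, 159400) .leaf)))) (76173, 0, 16, 206585) (.node (.node (.node (.node .leaf (76174, 0, 13, 153483) .leaf) (76176, 0, 11, 105632) (.node .leaf (76179, 0, 17, 11772) .leaf)) (76180, 0, 16, 219747) (.node (.node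 .leaf (76183, 0, 17, 191008) .leaf) (76185, 0, 16, 108222) (.node .leaf (76186, 0, 16, 5885) .leaf))) (76189, 0, 15, 106397) (.node (.node (.node .leaf (76190, 0, 16, 12254) .leaf) (76193, 0, 17, 192646) (.node .leaf (76194, 0, 16, 98094) .leaf)) (76197, 0, 15, 182693) (.node (.node .leaf (76198, 0, 17, 196659) .leaf) (76200, 0, 16, 163264) (.node .leaf (76203, 0, 13, 248988) .leaf))))) (76204, 0, 11, 3163) (.node (.node (.node (.node (.node .leaf (76207, 0, 14, 111489) .leaf) (76209, 0, 16, 178308) (.node .leaf (76210, 0, 18, 199128) .leaf)) (76213, 0, 17, 51097) (.node (.node .leaf (76214, 0, 16, 95941) .leaf) (76216, 0, 18, 150829) (.node .leaf (76219, 0, 15, 261486) .leaf))) (76220, 0, 15, 160782) (.node (.node (.node .leaf (76223, 0, 18, 247159) .leaf) (76225, 0, 16, 168437) (.node .leaf (76226, 0, 15, 205238) .leaf)) (76229, 0, 17, 174294) (.node (.node .leaf (76230, 0, 15, 140723) .leaf) (76232, 0, 17, 21515) (.node .leaf (76235, 0, 14, 123976) .leaf)))) (76236, 0, 17, 75613) (.node (.node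 (.node (.node .leaf (76239, 0, 17, 122219) .leaf) (76241, 0, 17, 236804) (.node .leaf (76242, 0, 16, 88547) .leaf)) (76245, 0, 16, 123417) (.node (.node .leaf (76246, 0, 15, 21317) .leaf) (76248, 0, 13, 142430) (.node .leaf (76251, 0, 15, 236573) .leaf))) (76252, 0, 15, 136573) (.node (.node (.node .leaf (76255, 0, 16, 188663) .leaf) (76256, 0, 18, 96870) (.node .leaf (76259, 0, 17, 51749) .leaf)) (76260, 0, 15, 45259) (.node (.node .leaf (76263, 0, 15, 65943) .leaf) (76265, 0, 15, 245656) (.node .leaf (76266, 0, 16, 118072) .leaf))))))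

/-- part of the orbit tree -/
def itp2_164 : Tree := (.node (.node (.node (.node (.node (.node .leaf (76270, 0, 17, 242213) .leaf) (76272, 0, 17, 47392) (.node .leaf (76275, 0, 13, 176752) .leaf)) (76276, 0, 15, 211728) (.node (.node .leaf (76279, 0, 16, 166739) .leaf) (76281, 0, 15, 116685) (.node .leaf (76282, 0, 18, 30606) .leaf))) (76285, 0, 17, 130798) (.node (.node (.node .leaf (76286, 0, 15, 20141) .leaf) (76288, 0, 15, 539) (.node .leaf (76289, 0, 17, 57981) .leaf)) (76292, 0, 17, 182253) (.node (.node .leaf (76293, 0, 11, 56158) .leaf) (76298, 0, 17, 227238) (.node .leaf (76299, 0, 17, 123696) .leaf)))) (76302, 0, 16, 115971) (.node (.node (.node (.node .leaf (76303, 0, 18, 236589) .leaf) (76304, 0, 16, 183814) (.node .leaf (76305, 0, 16, 170536) .leaf)) (76308, 0, 13, 148333) (.node (.node .leaf (76309, 0, 16, 190517) .leaf) (76314, 0, 18, 69619) (.node .leaf (76315, 0, 10, 126869) .leaf))) (76318, 0, 16, 242677) (.node (.node (.node .leaf (76319, 0, 15, 120502) .leaf) (76322, 0, 15, 154059)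 (.node .leaf (76323, 0, 17, 178605) .leaf)) (76326, 0, 18, 21141) (.node (.node .leaf (76327, 0, 16, 134075) .leaf) (76328, 0, 17, 77670) (.node .leaf (76329, 0, 13, 226888) .leaf))))) (76332, 0, 14, 217211) (.node (.node (.node (.node (.node .leaf (76333, 0, 15, 67925) .leaf) (76338, 0, 16, 23422) (.node .leaf (76339, 0, 17, 49656) .leaf)) (76342, 0, 18, 140387) (.node (.node .leaf (76343, 0, 15, 32077) .leaf) (76344, 0, 15, 219536) (.node .leaf (76345, 0, 17, 242757) .leaf))) (76348, 0, 17, 75405) (.node (.node (.node .leaf (76349, 0, 16, 232806) .leaf) (76354, 0, 16, 198664) (.node .leaf (76355, 0, 15, 86310) .leaf)) (76358, 0, 18, 96021) (.node (.node .leaf (76359, 0, 16, 208443) .leaf) (76360, 0, 14, 2790) (.node .leaf (76361, 0, 15, 109923) .leaf)))) (76364, 0, 14, 95270) (.node (.node (.node (.node .leaf (76365, 0, 17, 11477) .leaf) (76370, 0, 17, 98046) (.node .leaf (76371, 0, 15, 206800) .leaf)) (76374, 0, 16, 197091) (.node (.node .leaf (76375, 0, 17, 39336) .leaf) (76376, 0, 16, 162832)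 (.node .leaf (76377, 0, 15, 251190) .leaf))) (76380, 0, 13, 199795) (.node (.node (.node .leaf (76381, 0, 15, 257045) .leaf) (76384, 0, 15, 105840) (.node .leaf (76385, 0, 15, 246878) .leaf)) (76388, 0, 16, 23115) (.node (.node .leaf (76389, 0, 15, 47661) .leaf) (76394, 0, 17, 202453) (.node .leaf (76395, 0, 18, 50864) .leaf))))))

/-- part of the orbit tree -/
def itp2_165 : Tree := (.node (.node (.node (.node (.node (.node .leaf (76399, 0, 17, 178605) .leaf) (76400, 0, 17, 256902) (.node .leaf (76401, 0, 15, 195419) .leaf)) (76404, 0, 16, 139806) (.node (.node .leaf (76405, 0, 17, 180856) .leaf) (76410, 0, 14, 59752) (.node .leaf (76411, 0, 15, 176198) .leaf))) (76414, 0, 16, 169589) (.node (.node (.node .leaf (76415, 0, 11, 53083) .leaf) (76416, 0, 16, 198809) (.node .leaf (76417, 0, 17, 161143) .leaf)) (76420, 0, 17, 175154) (.node (.node .leaf (76421, 0, 16, 150612) .leaf) (76426, 0, 14, 2679) (.node .leaf (76427, 0, 17, 65738) .leaf)))) (76430, 0, 13, 121231) (.node (.node (.node (.node .leaf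 (76431, 0, 15, 80361) .leaf) (76432, 0, 15, 60740) (.node .leaf (76433, 0, 18, 206657) .leaf)) (76436, 0, 17, 54375) (.node (.node .leaf (76437, 0, 18, 13313) .leaf) (76442, 0, 16, 162945) (.node .leaf (76443, 0, 17, 227487) .leaf))) (76446, 0, 16, 238042) (.node (.node (.node .leaf (76447, 0, 11, 213436) .leaf) (76450, 0, 19, 52929) (.node .leaf (76451, 0, 16, 11943) .leaf)) (76454, 0, 15, 254716) (.node (.node .leaf (76455, 0, 15, 6020) .leaf) (76456, 0, 14, 171791) (.node .leaf (76457, 0, 15, 219930) .leaf))))) (76460, 0, 17, 57362) (.node (.node (.node (.node (.node .leaf (76461, 0, 16, 221753) .leaf) (76466, 0, 15, 256791) (.node .leaf (76467, 0, 14, 153330) .leaf)) (76470, 0, 17, 103434) (.node (.node .leaf (76471, 0, 15, 159697) .leaf) (76472, 0, 15, 59897) (.node .leaf (76473, 0, 15, 74575) .leaf))) (76476, 0, 14, 129546) (.node (.node (.node .leaf (76477, 0, 13, 72300) .leaf) (76482, 0, 18, 44978) (.node .leaf (76483, 0, 17, 20436) .leaf)) (76486, 0, 16, 38545) (.node (.node .leaf (76487,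 0, 13, 40530) .leaf) (76488, 0, 16, 244367) (.node .leaf (76489, 0, 14, 123809) .leaf)))) (76492, 0, 17, 254764) (.node (.node (.node (.node .leaf (76493, 0, 15, 236732) .leaf) (76498, 0, 17, 186343) (.node .leaf (76499, 0, 17, 38841) .leaf)) (76502, 0, 19, 45450) (.node (.node .leaf (76503, 0, 12, 134818) .leaf) (76504, 0, 16, 107098) (.node .leaf (76505, 0, 17, 82492) .leaf))) (76508, 0, 13, 242532) (.node (.node (.node .leaf (76509, 0, 17, 125514) .leaf) (76512, 0, 15, 193634) (.node .leaf (76513, 0, 16, 136196) .leaf)) (76516, 0, 15, 183617) (.node (.node .leaf (76517, 0, 18, 142631) .leaf) (76522, 0, 18, 77815) (.node .leaf (76523, 0, 17, 90553) .leaf))))))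

/-- part of the orbit tree -/
def itp2_166 : Tree := (.node (.node (.node (.node (.node (.node .leaf (76527, 0, 14, 68036) .leaf) (76528, 0, 16, 35895) (.node .leaf (76529, 0, 13, 131777) .leaf)) (76532, 0, 17, 140530) (.node (.node .leaf (76533, 0, 17, 21874) .leaf) (76538, 0, 15, 219393) (.node .leaf (76539, 0, 14, 65583) .leaf))) (76542, 0, 15, 245929) (.node (.node (.node .leaf (76543, 0, 15, 229170) .leaf) (76546, 0, 16, 192586) (.node .leaf (76547, 0, 19, 126543) .leaf)) (76550, 0, 16, 182633) (.node (.node .leaf (76551, 0, 15, 233810) .leaf) (76552, 0, 14, 46479) (.node .leaf (76553, 0, 16, 191649) .leaf)))) (76556, 0, 16, 182930) (.node (.node (.node (.node .leaf (76557, 0, 16, 89266) .leaf) (76562, 0, 17, 115095) (.node .leaf (76563, 0, 15, 26745) .leaf)) (76566, 0, 17, 245386) (.node (.node .leaf (76567, 0, 11, 124836) .leaf) (76568, 0, 14, 261538) (.node .leaf (76569, 0, 12, 204228) .leaf))) (76572, 0, 16, 246913) (.node (.node (.node .leaf (76573, 0, 16, 206055) .leaf) (76576, 0, 12,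 74265) (.node .leaf (76577, 0, 15, 228151) .leaf)) (76580, 0, 15, 220420) (.node (.node .leaf (76581, 0, 15, 66602) .leaf) (76586, 0, 15, 139511) (.node .leaf (76587, 0, 17, 212545) .leaf))))) (76590, 0, 16, 255748) (.node (.node (.node (.node (.node .leaf (76591, 0, 13, 132804) .leaf) (76592, 0, 14, 218351) (.node .leaf (76593, 0, 17, 144297) .leaf)) (76596, 0, 13, 191212) (.node (.node .leaf (76597, 0, 14, 133770) .leaf) (76602, 0, 18, 22017) (.node .leaf (76603, 0, 17, 134959) .leaf))) (76606, 0, 16, 141596) (.node (.node (.node .leaf (76607, 0, 15, 28722) .leaf) (76608, 0, 16, 51945) (.node .leaf (76609, 0, 17, 155319) .leaf)) (76612, 0, 16, 62410) (.node (.node .leaf (76613, 0, 17, 5036) .leaf) (76618, 0, 17, 198007) (.node .leaf (76619, 0, 17, 89177) .leaf)))) (76622, 0, 18, 96874) (.node (.node (.node (.node .leaf (76623, 0, 18, 205636) .leaf) (76624, 0, 14, 176828) (.node .leaf (76625, 0, 14, 10305) .leaf)) (76628, 0, 16, 166815) (.node (.node .leaf (76629, 0, 17, 153436) .leaf) (76634, 0,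 9, 95105) (.node .leaf (76635, 0, 13, 207535) .leaf))) (76638, 0, 17, 130594) (.node (.node (.node .leaf (76639, 0, 16, 73284) .leaf) (76642, 0, 15, 168249) (.node .leaf (76643, 0, 16, 52175) .leaf)) (76646, 0, 17, 174106) (.node (.node .leaf (76647, 0, 14, 149628) .leaf) (76648, 0, 18, 102415) .leaf)))))

/-- part of the orbit tree -/
def itp2_167 : Tree := (.node itp2_163 (76269, 0, 18, 131961) itp2_164)

/-- part of the orbit tree -/
def itp2_168 : Tree := (.node itp2_165 (76526, 0, 16, 217322) itp2_166)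

/-- part of the orbit tree -/
def itp2_169 : Tree := (.node itp2_161 (75884, 0, 17, 200157) itp2_162)

/-- part of the orbit tree -/
def itp2_170 : Tree := (.node itp2_167 (76398, 0, 19, 57475) itp2_168)

/-- part of the orbit tree -/
def itp2_171 : Tree := (.node (.node (.node (.node (.node (.node .leaf (76652, 0, 17, 122279) .leaf) (76653, 0, 14, 81345) (.node .leaf (76658, 0, 18, 58391) .leaf)) (76659, 0, 16, 2314) (.node (.node .leaf (76662, 0, 17, 170762) .leaf) (76663, 0, 17, 49700) (.node .leaf (76664, 0, 14, 236753) .leaf))) (76665, 0, 9, 228535) (.node (.node (.node .leaf (76668, 0, 18, 104932) .leaf) (76669, 0, 16, 214420) (.node .leaf (76674, 0, 13, 1800) .leaf)) (76675, 0, 13, 155174) (.node (.node .leaf (76678, 0, 16, 24163) .leaf) (76679, 0, 15, 48645) (.node .leaf (76680, 0, 18, 198118) .leaf)))) (76681, 0, 17, 89288) (.node (.node (.node (.node .leaf (76684, 0, 17, 207838) .leaf) (76685, 0, 16, 248760) (.node .leaf (76690, 0, 16, 160254) .leaf)) (76691, 0, 16, 196467) (.node (.node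 .leaf (76694, 0, 16, 3811) .leaf) (76695, 0, 17, 181840) (.node .leaf (76696, 0, 17, 92840) .leaf))) (76697, 0, 14, 207422) (.node (.node (.node .leaf (76700, 0, 17, 86923) .leaf) (76701, 0, 17, 111597) (.node .leaf (76704, 0, 17, 168560) .leaf)) (76705, 0, 17, 187638) (.node (.node .leaf (76708, 0, 17, 60781) .leaf) (76709, 0, 14, 189909) (.node .leaf (76714, 0, 17, 102558) .leaf))))) (76715, 0, 16, 108875) (.node (.node (.node (.node (.node .leaf (76718, 0, 17, 257923) .leaf) (76719, 0, 15, 102504) (.node .leaf (76720, 0, 15, 17605) .leaf)) (76721, 0, 16, 179624) (.node (.node .leaf (76724, 0, 16, 32230) .leaf) (76725, 0, 17, 49845) (.node .leaf (76730, 0, 15, 209272) .leaf))) (76731, 0, 16, 250142) (.node (.node (.node .leaf (76734, 0, 5, 198747) .leaf) (76735, 0, 17, 245851) (.node .leaf (76736, 0, 17, 243696) .leaf)) (76737, 0, 17, 126686) (.node (.node .leaf (76740, 0, 16, 116973) .leaf) (76741, 0, 16, 165030) (.node .leaf (76746, 0, 16, 46366) .leaf)))) (76747, 0, 14, 191536) (.node (.node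 (.node (.node .leaf (76750, 0, 15, 182787) .leaf) (76751, 0, 17, 127259) (.node .leaf (76752, 0, 17, 9654) .leaf)) (76753, 0, 17, 235560) (.node (.node .leaf (76756, 0, 13, 7317) .leaf) (76757, 0, 13, 124725) (.node .leaf (76762, 0, 17, 181224) .leaf))) (76763, 0, 16, 39622) (.node (.node (.node .leaf (76766, 0, 16, 48373) .leaf) (76767, 0, 13, 189915) (.node .leaf (76770, 0, 17, 74376) .leaf)) (76771, 0, 12, 58965) (.node (.node .leaf (76774, 0, 17, 220565) .leaf) (76775, 0, 16, 57206) (.node .leaf (76776, 0, 14, 226190) .leaf))))))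

/-- part of the orbit tree -/
def itp2_172 : Tree := (.node (.node (.node (.node (.node (.node .leaf (76780, 0, 13, 24443) .leaf) (76781, 0, 17, 132693) (.node .leaf (76786, 0, 17, 218238) .leaf)) (76787, 0, 17, 171520) (.node (.node .leaf (76790, 0, 17, 76643) .leaf) (76791, 0, 17, 225869) (.node .leaf (76792, 0, 17, 68571) .leaf))) (76793, 0, 15, 135102) (.node (.node (.node .leaf (76796, 0, 10, 141709) .leaf) (76797, 0, 16, 28835) (.node .leaf (76800, 0, 12, 79043) .leaf)) (76802, 0, 13, 25830) (.node (.node .leaf (76804, 0, 16, 69088) .leaf) (76806, 0, 13, 24005) (.node .leaf (76809, 0, 17, 66458) .leaf)))) (76811, 0, 14, 191464) (.node (.node (.node (.node .leaf (76813, 0, 17, 228487) .leaf) (76815, 0, 15, 38133) (.node .leaf (76816, 0, 14, 116446) .leaf)) (76818, 0, 18, 138419) (.node (.node .leaf (76820, 0, 13, 244163) .leaf) (76822, 0, 17, 20913) (.node .leaf (76825, 0, 14, 226668) .leaf))) (76827, 0, 15, 40222) (.node (.node (.node .leaf (76829, 0, 17, 68209) .leaf) (76831, 0, 15, 188931)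 (.node .leaf (76833, 0, 18, 188240) .leaf)) (76835, 0, 16, 228478) (.node (.node .leaf (76837, 0, 17, 190067) .leaf) (76839, 0, 18, 66403) (.node .leaf (76840, 0, 17, 6830) .leaf))))) (76842, 0, 15, 118732) (.node (.node (.node (.node (.node .leaf (76844, 0, 15, 22691) .leaf) (76846, 0, 13, 241873) (.node .leaf (76849, 0, 17, 189178) .leaf)) (76851, 0, 16, 128800) (.node (.node .leaf (76853, 0, 18, 40486) .leaf) (76855, 0, 13, 118275) (.node .leaf (76856, 0, 14, 20808) .leaf))) (76858, 0, 14, 244026) (.node (.node (.node .leaf (76860, 0, 15, 142933) .leaf) (76862, 0, 17, 116263) (.node .leaf (76865, 0, 16, 110988) .leaf)) (76867, 0, 17, 257542) (.node (.node .leaf (76869, 0, 17, 165632) .leaf) (76871, 0, 15, 251685) (.node .leaf (76872, 0, 17, 31709) .leaf)))) (76874, 0, 18, 59980) (.node (.node (.node (.node .leaf (76876, 0, 12, 17150) .leaf) (76878, 0, 19, 70363) (.node .leaf (76881, 0, 15, 50806) .leaf)) (76883, 0, 18, 104019) (.node (.node .leaf (76885, 0, 13, 65365) .leaf) (76887, 0, 14, 151573)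 (.node .leaf (76888, 0, 14, 95432) .leaf))) (76890, 0, 17, 171194) (.node (.node (.node .leaf (76892, 0, 17, 199637) .leaf) (76894, 0, 18, 58279) (.node .leaf (76896, 0, 17, 87472) .leaf)) (76898, 0, 16, 97754) (.node (.node .leaf (76900, 0, 17, 60085) .leaf) (76902, 0, 17, 197319) (.node .leaf (76905, 0, 10, 233550) .leaf))))))

/-- part of the orbit tree -/
def itp2_173 : Tree := (.node (.node (.node (.node (.node (.node .leaf (76909, 0, 11, 153863) .leaf) (76911, 0, 16, 194888) (.node .leaf (76912, 0, 15, 208357) .leaf)) (76914, 0, 16, 163264) (.node (.node .leaf (76916, 0, 15, 171075) .leaf) (76918, 0, 17, 95281) (.node .leaf (76921, 0, 11, 151788) .leaf))) (76923, 0, 15, 47166) (.node (.node (.node .leaf (76925, 0, 17, 119096) .leaf) (76927, 0, 14, 247683) (.node .leaf (76928, 0, 18, 238537) .leaf)) (76930, 0, 17, 193516) (.node (.node .leaf (76932, 0, 12, 163676) .leaf) (76934, 0, 14, 182991) (.node .leaf (76937, 0, 17, 177139) .leaf)))) (76939, 0, 15, 13842) (.node (.node (.node (.node .leaf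 (76941, 0, 12, 89876) .leaf) (76943, 0, 16, 3889) (.node .leaf (76944, 0, 18, 161463) .leaf)) (76946, 0, 16, 35769) (.node (.node .leaf (76948, 0, 18, 2474) .leaf) (76950, 0, 13, 254424) (.node .leaf (76953, 0, 16, 50437) .leaf))) (76955, 0, 17, 151111) (.node (.node (.node .leaf (76957, 0, 18, 206657) .leaf) (76959, 0, 17, 161636) (.node .leaf (76961, 0, 18, 205925) .leaf)) (76963, 0, 16, 52247) (.node (.node .leaf (76965, 0, 17, 88952) .leaf) (76967, 0, 18, 176906) (.node .leaf (76968, 0, 17, 167332) .leaf))))) (76970, 0, 16, 253313) (.node (.node (.node (.node (.node .leaf (76972, 0, 16, 256202) .leaf) (76974, 0, 17, 255138) (.node .leaf (76977, 0, 15, 143375) .leaf)) (76979, 0, 17, 221226) (.node (.node .leaf (76981, 0, 18, 133420) .leaf) (76983, 0, 15, 50684) (.node .leaf (76984, 0, 16, 254241) .leaf))) (76986, 0, 14, 107988) (.node (.node (.node .leaf (76988, 0, 14, 52434) .leaf) (76990, 0, 19, 105719) (.node .leaf (76993, 0, 15, 131557) .leaf)) (76995, 0, 17, 96524) (.node (.node .leaf (76997,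 0, 16, 4106) .leaf) (76999, 0, 17, 235146) (.node .leaf (77000, 0, 17, 45655) .leaf)))) (77002, 0, 15, 244978) (.node (.node (.node (.node .leaf (77004, 0, 18, 183626) .leaf) (77006, 0, 17, 230865) (.node .leaf (77009, 0, 17, 30483) .leaf)) (77011, 0, 17, 196953) (.node (.node .leaf (77013, 0, 14, 157791) .leaf) (77015, 0, 14, 211066) (.node .leaf (77016, 0, 18, 181409) .leaf))) (77018, 0, 17, 115879) (.node (.node (.node .leaf (77020, 0, 15, 44449) .leaf) (77022, 0, 16, 130436) (.node .leaf (77024, 0, 16, 246458) .leaf)) (77026, 0, 19, 168607) (.node (.node .leaf (77028, 0, 16, 261017) .leaf) (77030, 0, 15, 175036) (.node .leaf (77033, 0, 17, 235123) .leaf))))))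

/-- part of the orbit tree -/
def itp2_174 : Tree := (.node (.node (.node (.node (.node (.node .leaf (77037, 0, 17, 125294) .leaf) (77039, 0, 17, 131356) (.node .leaf (77040, 0, 16, 217911) .leaf)) (77042, 0, 17, 47941) (.node (.node .leaf (77044, 0, 16, 76842) .leaf) (77046, 0, 17, 181336) (.node .leaf (77049, 0, 18, 123013) .leaf))) (77051, 0, 16, 143156) (.node (.node (.node .leaf (77053, 0, 16, 237464) .leaf) (77055, 0, 16, 30698) (.node .leaf (77057, 0, 17, 69349) .leaf)) (77059, 0, 17, 206580) (.node (.node .leaf (77061, 0, 18, 151538) .leaf) (77063, 0, 11, 39306) (.node .leaf (77064, 0, 16, 45871) .leaf)))) (77066, 0, 15, 21797) (.node (.node (.node (.node .leaf (77068, 0, 16, 115274) .leaf) (77070, 0, 17, 121385) (.node .leaf (77073, 0, 17, 227347) .leaf)) (77075, 0, 15, 36961) (.node (.node .leaf (77077, 0, 15, 67342) .leaf) (77079, 0, 14, 92034) (.node .leaf (77080, 0, 13, 183162) .leaf))) (77082, 0, 14, 140243) (.node (.node (.node .leaf (77084, 0, 18, 242876) .leaf) (77086, 0, 17, 23758)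 (.node .leaf (77088, 0, 17, 105794) .leaf)) (77090, 0, 15, 52583) (.node (.node .leaf (77092, 0, 19, 21980) .leaf) (77094, 0, 13, 62532) (.node .leaf (77097, 0, 13, 39283) .leaf))))) (77099, 0, 17, 225537) (.node (.node (.node (.node (.node .leaf (77101, 0, 16, 190062) .leaf) (77103, 0, 17, 69148) (.node .leaf (77104, 0, 15, 23607) .leaf)) (77106, 0, 15, 177458) (.node (.node .leaf (77108, 0, 18, 140074) .leaf) (77110, 0, 18, 117592) (.node .leaf (77113, 0, 16, 73961) .leaf))) (77115, 0, 17, 67575) (.node (.node (.node .leaf (77117, 0, 16, 37016) .leaf) (77119, 0, 18, 227562) (.node .leaf (77120, 0, 17, 200513) .leaf)) (77122, 0, 14, 44052) (.node (.node .leaf (77124, 0, 18, 115986) .leaf) (77126, 0, 15, 38199) (.node .leaf (77129, 0, 15, 113907) .leaf)))) (77131, 0, 18, 158186) (.node (.node (.node (.node .leaf (77133, 0, 16, 196844) .leaf) (77135, 0, 17, 151753) (.node .leaf (77136, 0, 12, 96695) .leaf)) (77138, 0, 15, 185409) (.node (.node .leaf (77140, 0, 16, 245063) .leaf) (77142, 0, 17, 61144)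 (.node .leaf (77145, 0, 12, 248325) .leaf))) (77147, 0, 17, 8823) (.node (.node (.node .leaf (77149, 0, 17, 96441) .leaf) (77151, 0, 13, 154986) (.node .leaf (77153, 0, 17, 11109) .leaf)) (77155, 0, 17, 214919) (.node (.node .leaf (77157, 0, 15, 142977) .leaf) (77159, 0, 16, 229028) (.node .leaf (77160, 0, 18, 170199) .leaf))))))

/-- part of the orbit tree -/
def itp2_175 : Tree := (.node itp2_171 (76777, 0, 15, 31048) itp2_172)

/-- part of the orbit tree -/
def itp2_176 : Tree := (.node itp2_173 (77035, 0, 10, 32257) itp2_174)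

/-- part of the orbit tree -/
def itp2_177 : Tree := (.node (.node (.node (.node (.node (.node .leaf (77164, 0, 16, 60287) .leaf) (77166, 0, 15, 200632) (.node .leaf (77169, 0, 15, 155027) .leaf)) (77171, 0, 17, 112097) (.node (.node .leaf (77173, 0, 17, 22228) .leaf) (77175, 0, 15, 67313) (.node .leaf (77176, 0, 18, 60961) .leaf))) (77178, 0, 15, 260652) (.node (.node (.node .leaf (77180, 0, 16, 168252) .leaf) (77182, 0, 17, 96590) (.node .leaf (77185, 0, 14, 179852) .leaf)) (77187, 0, 11, 111102) (.node (.node .leaf (77189, 0, 17, 55544) .leaf) (77191, 0, 10, 207331) (.node .leaf (77192, 0, 16, 140325) .leaf)))) (77194, 0, 14, 255308) (.node (.node (.node (.node .leaf (77196, 0, 17, 160291) .leaf) (77198, 0, 17, 105041) (.node .leaf (77201, 0, 16, 51322) .leaf)) (77203, 0, 12, 204808) (.node (.node .leaf (77205, 0, 14, 172205) .leaf) (77207, 0, 15, 89877) (.node .leaf (77208, 0, 14, 162760) .leaf))) (77210, 0, 17, 68693) (.node (.node (.node .leaf (77212, 0, 17, 25939) .leaf) (77214, 0, 17, 79222)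 (.node .leaf (77216, 0, 16, 105128) .leaf)) (77218, 0, 15, 154221) (.node (.node .leaf (77220, 0, 15, 209771) .leaf) (77222, 0, 16, 3527) (.node .leaf (77225, 0, 15, 118710) .leaf))))) (77227, 0, 17, 49512) (.node (.node (.node (.node (.node .leaf (77229, 0, 17, 87559) .leaf) (77231, 0, 11, 42672) (.node .leaf (77232, 0, 17, 94749) .leaf)) (77234, 0, 16, 1068) (.node (.node .leaf (77236, 0, 18, 84798) .leaf) (77238, 0, 17, 6939) (.node .leaf (77241, 0, 14, 243683) .leaf))) (77243, 0, 15, 178078) (.node (.node (.node .leaf (77245, 0, 11, 205041) .leaf) (77247, 0, 18, 51331) (.node .leaf (77248, 0, 13, 224059) .leaf)) (77250, 0, 17, 146206) (.node (.node .leaf (77252, 0, 14, 180277) .leaf) (77254, 0, 17, 75847) (.node .leaf (77257, 0, 16, 134298) .leaf)))) (77259, 0, 17, 124136) (.node (.node (.node (.node .leaf (77261, 0, 17, 29575) .leaf) (77263, 0, 16, 51139) (.node .leaf (77264, 0, 19, 70510) .leaf)) (77266, 0, 14, 74156) (.node (.node .leaf (77268, 0, 14, 46787) .leaf) (77270, 0, 16, 220849) (.node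 .leaf (77273, 0, 17, 251536) .leaf))) (77275, 0, 15, 234014) (.node (.node (.node .leaf (77277, 0, 15, 257971) .leaf) (77279, 0, 16, 126211) (.node .leaf (77281, 0, 17, 32936) .leaf)) (77283, 0, 15, 29566) (.node (.node .leaf (77285, 0, 15, 123921) .leaf) (77287, 0, 15, 125358) (.node .leaf (77288, 0, 15, 148822) .leaf))))))

/-- part of the orbit tree -/
def itp2_178 : Tree := (.node (.node (.node (.node (.node (.node .leaf (77292, 0, 17, 219043) .leaf) (77294, 0, 17, 49105) (.node .leaf (77297, 0, 15, 194813) .leaf)) (77299, 0, 17, 132488) (.node (.node .leaf (77301, 0, 14, 234215) .leaf) (77303, 0, 14, 31381) (.node .leaf (77304, 0, 14, 15619) .leaf))) (77306, 0, 18, 46650) (.node (.node (.node .leaf (77308, 0, 15, 74069) .leaf) (77310, 0, 17, 182567) (.node .leaf (77320, 0, 16, 212267) .leaf)) (77321, 0, 16, 67254) (.node (.node .leaf (77322, 0, 13, 158990) .leaf) (77323, 0, 16, 167272) (.node .leaf (77324, 0, 18, 197640) .leaf)))) (77325, 0, 16, 255086) (.node (.node (.node (.node .leaf (77326,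 0, 15, 152621) .leaf) (77327, 0, 17, 177227) (.node .leaf (77336, 0, 10, 76142) .leaf)) (77337, 0, 16, 107800) (.node (.node .leaf (77338, 0, 16, 180508) .leaf) (77339, 0, 15, 62781) (.node .leaf (77340, 0, 17, 97373) .leaf))) (77341, 0, 17, 69469) (.node (.node (.node .leaf (77342, 0, 14, 48641) .leaf) (77343, 0, 16, 190255) (.node .leaf (77344, 0, 16, 182286) .leaf)) (77345, 0, 16, 37152) (.node (.node .leaf (77346, 0, 14, 213859) .leaf) (77347, 0, 17, 227666) (.node .leaf (77348, 0, 15, 141925) .leaf))))) (77349, 0, 15, 182787) (.node (.node (.node (.node (.node .leaf (77350, 0, 17, 221025) .leaf) (77351, 0, 16, 236070) (.node .leaf (77360, 0, 16, 27411) .leaf)) (77361, 0, 13, 35701) (.node (.node .leaf (77362, 0, 18, 218762) .leaf) (77363, 0, 18, 69540) (.node .leaf (77364, 0, 16, 180709) .leaf))) (77365, 0, 15, 45654) (.node (.node (.node .leaf (77366, 0, 17, 66069) .leaf) (77367, 0, 15, 123507) (.node .leaf (77376, 0, 15, 257422) .leaf)) (77377, 0, 17, 168531) (.node (.node .leaf (77378, 0,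 15, 1532) .leaf) (77379, 0, 15, 246390) (.node .leaf (77380, 0, 15, 150294) .leaf)))) (77381, 0, 17, 174960) (.node (.node (.node (.node .leaf (77382, 0, 14, 162529) .leaf) (77383, 0, 16, 9167) (.node .leaf (77392, 0, 18, 105336) .leaf)) (77393, 0, 16, 59910) (.node (.node .leaf (77394, 0, 17, 88645) .leaf) (77395, 0, 16, 10788) (.node .leaf (77396, 0, 17, 255077) .leaf))) (77397, 0, 16, 54053) (.node (.node (.node .leaf (77398, 0, 17, 90982) .leaf) (77399, 0, 16, 152889) (.node .leaf (77416, 0, 15, 162328) .leaf)) (77417, 0, 17, 9014) (.node (.node .leaf (77418, 0, 16, 134269) .leaf) (77419, 0, 16, 191515) (.node .leaf (77420, 0, 14, 222587) .leaf))))))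

/-- part of the orbit tree -/
def itp2_179 : Tree := (.node (.node (.node (.node (.node (.node .leaf (77422, 0, 14, 257399) .leaf) (77423, 0, 15, 111705) (.node .leaf (77432, 0, 16, 3310) .leaf)) (77433, 0, 15, 115819) (.node (.node .leaf (77434, 0, 16, 255132) .leaf) (77435, 0, 16, 37966) (.node .leaf (77436, 0, 16, 73006) .leaf))) (77437, 0, 13, 130376) (.node (.node (.node .leaf (77438, 0, 15, 105345) .leaf) (77439, 0, 17, 44397) (.node .leaf (77448, 0, 14, 109089) .leaf)) (77449, 0, 19, 84551) (.node (.node .leaf (77450, 0, 18, 198531) .leaf) (77451, 0, 17, 89773) (.node .leaf (77452, 0, 16, 168172) .leaf)))) (77453, 0, 14, 95076) (.node (.node (.node (.node .leaf (77454, 0, 16, 49959) .leaf) (77455, 0, 14, 205232) (.node .leaf (77464, 0, 17, 170247) .leaf)) (77465, 0, 14, 209426) (.node (.node .leaf (77466, 0, 18, 164433) .leaf) (77467, 0, 14, 156215) (.node .leaf (77468, 0, 15, 58906) .leaf))) (77469, 0, 10, 199473) (.node (.node (.node .leaf (77470, 0, 15, 179058) .leaf) (77471, 0, 18, 154388)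 (.node .leaf (77472, 0, 17, 33868) .leaf)) (77473, 0, 15, 25642) (.node (.node .leaf (77474, 0, 14, 119913) .leaf) (77475, 0, 16, 51515) (.node .leaf (77476, 0, 16, 198522) .leaf))))) (77477, 0, 17, 89684) (.node (.node (.node (.node (.node .leaf (77478, 0, 16, 61192) .leaf) (77479, 0, 13, 68908) (.node .leaf (77488, 0, 16, 195609) .leaf)) (77489, 0, 17, 138367) (.node (.node .leaf (77490, 0, 16, 240700) .leaf) (77491, 0, 16, 216154) (.node .leaf (77492, 0, 15, 181562) .leaf))) (77493, 0, 18, 140636) (.node (.node (.node .leaf (77494, 0, 17, 170494) .leaf) (77495, 0, 17, 49360) (.node .leaf (77504, 0, 17, 58687) .leaf)) (77505, 0, 14, 132297) (.node (.node .leaf (77506, 0, 14, 243093) .leaf) (77507, 0, 16, 126139) (.node .leaf (77508, 0, 16, 140026) .leaf)))) (77509, 0, 15, 31700) (.node (.node (.node (.node .leaf (77510, 0, 15, 117384) .leaf) (77511, 0, 16, 93279) (.node .leaf (77520, 0, 16, 142097) .leaf)) (77521, 0, 18, 163084) (.node (.node .leaf (77522, 0, 16, 249167) .leaf) (77523, 0, 16, 208169)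 (.node .leaf (77524, 0, 17, 173129) .leaf))) (77525, 0, 18, 148527) (.node (.node (.node .leaf (77526, 0, 15, 244862) .leaf) (77527, 0, 17, 201738) (.node .leaf (77544, 0, 18, 117586) .leaf)) (77545, 0, 14, 76596) (.node (.node .leaf (77546, 0, 15, 139779) .leaf) (77547, 0, 17, 31505) (.node .leaf (77548, 0, 13, 127601) .leaf))))))

/-- part of the orbit tree -/
def itp2_180 : Tree := (.node (.node (.node (.node (.node (.node .leaf (77550, 0, 16, 41556) .leaf) (77551, 0, 17, 132144) (.node .leaf (77560, 0, 16, 244871) .leaf)) (77561, 0, 17, 124329) (.node (.node .leaf (77562, 0, 17, 189218) .leaf) (77563, 0, 18, 134619) (.node .leaf (77564, 0, 11, 231972) .leaf))) (77565, 0, 9, 236212) (.node (.node (.node .leaf (77566, 0, 18, 186881) .leaf) (77567, 0, 17, 29382) (.node .leaf (77568, 0, 16, 217831) .leaf)) (77569, 0, 18, 68553) (.node (.node .leaf (77570, 0, 18, 256738) .leaf) (77571, 0, 16, 199300) (.node .leaf (77572, 0, 17, 164836) .leaf)))) (77573, 0, 18, 156546) (.node (.node (.node (.node .leaf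 (77574, 0, 15, 181640) .leaf) (77575, 0, 15, 40102) (.node .leaf (77584, 0, 16, 74769) .leaf)) (77585, 0, 17, 228671) (.node (.node .leaf (77586, 0, 11, 183395) .leaf) (77587, 0, 18, 94929) (.node .leaf (77588, 0, 15, 64433) .leaf))) (77589, 0, 16, 7127) (.node (.node (.node .leaf (77590, 0, 17, 109460) .leaf) (77591, 0, 12, 84978) (.node .leaf (77608, 0, 18, 181617) .leaf)) (77609, 0, 16, 40031) (.node (.node .leaf (77610, 0, 17, 181391) .leaf) (77611, 0, 16, 226349) (.node .leaf (77612, 0, 16, 47724) .leaf))))) (77613, 0, 17, 189250) (.node (.node (.node (.node (.node .leaf (77614, 0, 16, 196012) .leaf) (77615, 0, 14, 68400) (.node .leaf (77624, 0, 16, 45959) .leaf)) (77625, 0, 13, 191145) (.node (.node .leaf (77626, 0, 17, 48346) .leaf) (77627, 0, 15, 23740) (.node .leaf (77628, 0, 16, 183450) .leaf))) (77629, 0, 18, 79290) (.node (.node (.node .leaf (77630, 0, 18, 74984) .leaf) (77631, 0, 17, 26015) (.node .leaf (77640, 0, 15, 254193) .leaf)) (77641, 0, 16, 202175) (.node (.node .leaf (77642,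 0, 17, 2179) .leaf) (77643, 0, 16, 151981) (.node .leaf (77644, 0, 16, 249082) .leaf)))) (77645, 0, 13, 247490) (.node (.node (.node (.node .leaf (77646, 0, 16, 171231) .leaf) (77647, 0, 15, 11952) (.node .leaf (77656, 0, 18, 103943) .leaf)) (77657, 0, 15, 93674) (.node (.node .leaf (77658, 0, 17, 163445) .leaf) (77659, 0, 11, 10075) (.node .leaf (77660, 0, 17, 256282) .leaf))) (77661, 0, 17, 87241) (.node (.node (.node .leaf (77662, 0, 17, 360) .leaf) (77663, 0, 16, 1260) (.node .leaf (77664, 0, 13, 161639) .leaf)) (77665, 0, 15, 11849) (.node (.node .leaf (77666, 0, 18, 106261) .leaf) (77667, 0, 15, 247355) .leaf)))))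

/-- part of the orbit tree -/
def itp2_181 : Tree := (.node itp2_177 (77290, 0, 12, 202099) itp2_178)

/-- part of the orbit tree -/
def itp2_182 : Tree := (.node itp2_179 (77549, 0, 15, 70167) itp2_180)

/-- part of the orbit tree -/
def itp2_183 : Tree := (.node itp2_175 (76907, 0, 17, 249448) itp2_176)

/-- part of the orbit tree -/
def itp2_184 : Tree := (.node itp2_181 (77421, 0, 13, 230685) itp2_182)

/-- part of the orbit tree -/
def itp2_185 : Tree := (.node itp2_169 (76141, 0, 11, 111376) itp2_170)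

/-- part of the orbit tree -/
def itp2_186 : Tree := (.node itp2_183 (77162, 0, 12, 94373) itp2_184)

/-- part of the orbit tree -/
def itp2_187 : Tree := (.node itp2_155 (74605, 0, 17, 213981) itp2_156)

/-- part of the orbit tree -/
def itp2_188 : Tree := (.node itp2_185 (76649, 0, 15, 66786) itp2_186)

/-- part of the orbit tree -/
def itp2_189 : Tree := (.node (.node (.node (.node (.node (.node .leaf (77669, 0, 16, 151892) .leaf) (77670, 0, 16, 253960) (.node .leaf (77671, 0, 18, 217812) .leaf)) (77680, 0, 17, 401) (.node (.node .leaf (77681, 0, 14, 17287) .leaf) (77682, 0, 15, 256483) (.node .leaf (77683, 0, 17, 110797) .leaf))) (77684, 0, 16, 39618) (.node (.node (.node .leaf (77685, 0, 17, 10146) .leaf) (77686, 0, 13, 104190) (.node .leaf (77687, 0, 17, 249808) .leaf)) (77696, 0, 16, 57998) (.node (.node .leaf (77697, 0, 17, 52651) .leaf) (77698, 0, 13, 199420) (.node .leaf (77699, 0, 13, 86994) .leaf)))) (77700, 0, 14, 5358) (.node (.node (.node (.node .leaf (77701, 0, 16, 62600) .leaf) (77702,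 0, 16, 83147) (.node .leaf (77703, 0, 16, 107693) .leaf)) (77712, 0, 17, 169080) (.node (.node .leaf (77713, 0, 16, 177662) .leaf) (77714, 0, 17, 97290) (.node .leaf (77715, 0, 15, 255451) .leaf))) (77716, 0, 16, 60261) (.node (.node (.node .leaf (77717, 0, 17, 176715) .leaf) (77718, 0, 16, 197399) (.node .leaf (77719, 0, 17, 253176) .leaf)) (77736, 0, 14, 66464) (.node (.node .leaf (77737, 0, 12, 207926) .leaf) (77738, 0, 18, 171370) (.node .leaf (77739, 0, 14, 46051) .leaf))))) (77740, 0, 17, 80515) (.node (.node (.node (.node (.node .leaf (77741, 0, 13, 121573) .leaf) (77742, 0, 16, 57975) (.node .leaf (77743, 0, 18, 35520) .leaf)) (77752, 0, 17, 228341) (.node (.node .leaf (77753, 0, 19, 236435) .leaf) (77754, 0, 14, 60316) (.node .leaf (77755, 0, 14, 176818) .leaf))) (77756, 0, 15, 97523) (.node (.node (.node .leaf (77757, 0, 16, 238256) .leaf) (77758, 0, 16, 169089) (.node .leaf (77759, 0, 15, 193173) .leaf)) (77768, 0, 11, 20632) (.node (.node .leaf (77769, 0, 12, 98997) .leaf) (77770, 0, 17,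 13046) (.node .leaf (77771, 0, 18, 123332) .leaf)))) (77772, 0, 16, 89072) (.node (.node (.node (.node .leaf (77773, 0, 16, 113558) .leaf) (77774, 0, 15, 116727) (.node .leaf (77775, 0, 12, 60339) .leaf)) (77784, 0, 16, 203398) (.node (.node .leaf (77785, 0, 17, 32576) .leaf) (77786, 0, 16, 150179) (.node .leaf (77787, 0, 9, 174789) .leaf))) (77788, 0, 14, 22899) (.node (.node (.node .leaf (77789, 0, 16, 246723) .leaf) (77790, 0, 17, 241921) (.node .leaf (77791, 0, 17, 168934) .leaf)) (77792, 0, 15, 19646) (.node (.node .leaf (77793, 0, 15, 44248) .leaf) (77794, 0, 12, 143228) (.node .leaf (77795, 0, 17, 30290) .leaf))))))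

/-- part of the orbit tree -/
def itp2_190 : Tree := (.node (.node (.node (.node (.node (.node .leaf (77797, 0, 16, 38395) .leaf) (77798, 0, 14, 20577) (.node .leaf (77799, 0, 17, 133455) .leaf)) (77808, 0, 15, 242168) (.node (.node .leaf (77809, 0, 9, 185485) .leaf) (77810, 0, 16, 222414) (.node .leaf (77811, 0, 17, 230568) .leaf))) (77812, 0, 17, 118501) (.node (.node (.node .leaf (77813, 0, 16, 191918) .leaf) (77814, 0, 14, 140951) (.node .leaf (77815, 0, 17, 32697) .leaf)) (77825, 0, 16, 226232) (.node (.node .leaf (77826, 0, 16, 180964) .leaf) (77828, 0, 17, 228422) (.node .leaf (77831, 0, 13, 183301) .leaf)))) (77833, 0, 14, 98459) (.node (.node (.node (.node .leaf (77834, 0, 19, 141432) .leaf) (77836, 0, 14, 245527) (.node .leaf (77839, 0, 17, 59805) .leaf)) (77841, 0, 18, 66894) (.node (.node .leaf (77842, 0, 18, 46098) .leaf) (77844, 0, 16, 74621) (.node .leaf (77847, 0, 17, 37409) .leaf))) (77849, 0, 15, 260302) (.node (.node (.node .leaf (77850, 0, 13, 24206) .leaf) (77852, 0, 16, 205195)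 (.node .leaf (77855, 0, 14, 168392) .leaf)) (77856, 0, 17, 22428) (.node (.node .leaf (77859, 0, 17, 130771) .leaf) (77861, 0, 16, 38869) (.node .leaf (77862, 0, 18, 114931) .leaf))))) (77864, 0, 14, 158472) (.node (.node (.node (.node (.node .leaf (77867, 0, 17, 252747) .leaf) (77869, 0, 17, 176717) (.node .leaf (77870, 0, 18, 197134) .leaf)) (77872, 0, 14, 145093) (.node (.node .leaf (77875, 0, 17, 233526) .leaf) (77877, 0, 18, 132953) (.node .leaf (77878, 0, 16, 221123) .leaf))) (77880, 0, 17, 4957) (.node (.node (.node .leaf (77883, 0, 11, 107294) .leaf) (77885, 0, 16, 51736) (.node .leaf (77886, 0, 14, 96859) .leaf)) (77888, 0, 16, 94748) (.node (.node .leaf (77891, 0, 16, 106400) .leaf) (77893, 0, 17, 87087) (.node .leaf (77894, 0, 14, 83685) .leaf)))) (77896, 0, 17, 133755) (.node (.node (.node (.node .leaf (77899, 0, 16, 244280) .leaf) (77901, 0, 15, 114355) (.node .leaf (77902, 0, 16, 222077) .leaf)) (77904, 0, 14, 153526) (.node (.node .leaf (77907, 0, 18, 255989) .leaf) (77909, 0, 14, 167667)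 (.node .leaf (77910, 0, 13, 168837) .leaf))) (77912, 0, 15, 29230) (.node (.node (.node .leaf (77915, 0, 17, 115309) .leaf) (77917, 0, 16, 247877) (.node .leaf (77918, 0, 13, 162073) .leaf)) (77921, 0, 17, 246896) (.node (.node .leaf (77922, 0, 17, 255844) .leaf) (77924, 0, 14, 159755) (.node .leaf (77927, 0, 16, 175478) .leaf))))))

/-- part of the orbit tree -/
def itp2_191 : Tree := (.node (.node (.node (.node (.node (.node .leaf (77930, 0, 16, 20907) .leaf) (77932, 0, 13, 80045) (.node .leaf (77935, 0, 17, 207819) .leaf)) (77937, 0, 14, 113701) (.node (.node .leaf (77938, 0, 18, 102802) .leaf) (77940, 0, 17, 91488) (.node .leaf (77943, 0, 16, 54563) .leaf))) (77945, 0, 17, 51794) (.node (.node (.node .leaf (77946, 0, 15, 97038) .leaf) (77948, 0, 16, 213240) (.node .leaf (77951, 0, 17, 89405) .leaf)) (77953, 0, 16, 50129) (.node (.node .leaf (77954, 0, 17, 33354) .leaf) (77956, 0, 15, 58850) (.node .leaf (77959, 0, 15, 87230) .leaf)))) (77961, 0, 18, 10573) (.node (.node (.node (.node .leaf (77962,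 0, 19, 104465) .leaf) (77964, 0, 14, 249556) (.node .leaf (77967, 0, 16, 163479) .leaf)) (77969, 0, 17, 177447) (.node (.node .leaf (77970, 0, 18, 197755) .leaf) (77972, 0, 13, 234265) (.node .leaf (77975, 0, 16, 140122) .leaf))) (77977, 0, 16, 94148) (.node (.node (.node .leaf (77978, 0, 17, 257767) .leaf) (77980, 0, 15, 162184) (.node .leaf (77983, 0, 16, 248020) .leaf)) (77984, 0, 14, 186778) (.node (.node .leaf (77987, 0, 17, 153257) .leaf) (77989, 0, 17, 131295) (.node .leaf (77990, 0, 16, 241820) .leaf))))) (77992, 0, 16, 64514) (.node (.node (.node (.node (.node .leaf (77995, 0, 17, 179253) .leaf) (77997, 0, 16, 9543) (.node .leaf (77998, 0, 17, 103684) .leaf)) (78000, 0, 17, 41423) (.node (.node .leaf (78003, 0, 17, 8287) .leaf) (78005, 0, 18, 30858) (.node .leaf (78006, 0, 11, 1644) .leaf))) (78008, 0, 15, 97183) (.node (.node (.node .leaf (78011, 0, 17, 209940) .leaf) (78013, 0, 15, 89516) (.node .leaf (78014, 0, 14, 60656) .leaf)) (78016, 0, 17, 180853) (.node (.node .leaf (78019, 0, 16,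 198826) .leaf) (78021, 0, 15, 156076) (.node .leaf (78022, 0, 14, 218394) .leaf)))) (78024, 0, 15, 40305) (.node (.node (.node (.node .leaf (78027, 0, 15, 235957) .leaf) (78029, 0, 15, 134874) (.node .leaf (78030, 0, 17, 245638) .leaf)) (78032, 0, 18, 46211) (.node (.node .leaf (78035, 0, 14, 67039) .leaf) (78037, 0, 13, 37552) (.node .leaf (78038, 0, 10, 74732) .leaf))) (78040, 0, 13, 24095) (.node (.node (.node .leaf (78043, 0, 18, 218471) .leaf) (78045, 0, 17, 30764) (.node .leaf (78046, 0, 13, 117104) .leaf)) (78049, 0, 17, 86906) (.node (.node .leaf (78050, 0, 17, 22285) .leaf) (78052, 0, 16, 100927) (.node .leaf (78055, 0, 18, 14972) .leaf))))))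

/-- part of the orbit tree -/
def itp2_192 : Tree := (.node (.node (.node (.node (.node (.node .leaf (78058, 0, 15, 181921) .leaf) (78060, 0, 13, 241575) (.node .leaf (78063, 0, 16, 39842) .leaf)) (78065, 0, 17, 207663) (.node (.node .leaf (78066, 0, 16, 170860) .leaf) (78068, 0, 14, 258666) (.node .leaf (78071, 0, 15, 133064) .leaf))) (78073, 0, 17, 227899) (.node (.node (.node .leaf (78074, 0, 17, 183143) .leaf) (78076, 0, 15, 120818) (.node .leaf (78079, 0, 16, 26545) .leaf)) (78080, 0, 15, 59153) (.node (.node .leaf (78083, 0, 16, 31785) .leaf) (78085, 0, 11, 15956) (.node .leaf (78086, 0, 16, 23066) .leaf)))) (78088, 0, 16, 75753) (.node (.node (.node (.node .leaf (78091, 0, 12, 225994) .leaf) (78093, 0, 16, 138188) (.node .leaf (78094, 0, 17, 240527) .leaf)) (78096, 0, 16, 171844) (.node (.node .leaf (78099, 0, 17, 133855) .leaf) (78101, 0, 16, 236976) (.node .leaf (78102, 0, 17, 259650) .leaf))) (78104, 0, 17, 217375) (.node (.node (.node .leaf (78107, 0, 17, 68255) .leaf) (78109, 0, 11, 25497)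 (.node .leaf (78110, 0, 18, 119770) .leaf)) (78113, 0, 17, 199810) (.node (.node .leaf (78114, 0, 16, 219149) .leaf) (78116, 0, 17, 184162) (.node .leaf (78119, 0, 15, 157060) .leaf))))) (78121, 0, 16, 76058) (.node (.node (.node (.node (.node .leaf (78122, 0, 15, 39257) .leaf) (78124, 0, 14, 140798) (.node .leaf (78127, 0, 18, 234658) .leaf)) (78129, 0, 16, 95447) (.node (.node .leaf (78130, 0, 19, 50324) .leaf) (78132, 0, 17, 109970) (.node .leaf (78135, 0, 17, 7633) .leaf))) (78137, 0, 17, 30011) (.node (.node (.node .leaf (78138, 0, 16, 188684) .leaf) (78140, 0, 16, 21256) (.node .leaf (78143, 0, 18, 123476) .leaf)) (78145, 0, 15, 224753) (.node (.node .leaf (78146, 0, 15, 163213) .leaf) (78148, 0, 16, 242868) (.node .leaf (78151, 0, 17, 132343) .leaf)))) (78153, 0, 17, 206413) (.node (.node (.node (.node .leaf (78154, 0, 18, 63530) .leaf) (78156, 0, 17, 102700) (.node .leaf (78159, 0, 19, 176418) .leaf)) (78161, 0, 17, 71076) (.node (.node .leaf (78162, 0, 16, 42471) .leaf) (78164, 0, 15, 117985)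 (.node .leaf (78167, 0, 18, 31906) .leaf))) (78169, 0, 17, 86203) (.node (.node (.node .leaf (78170, 0, 13, 163967) .leaf) (78172, 0, 15, 256377) (.node .leaf (78175, 0, 15, 51156) .leaf)) (78176, 0, 11, 59637) (.node (.node .leaf (78179, 0, 17, 88489) .leaf) (78181, 0, 16, 24359) (.node .leaf (78182, 0, 19, 126820) .leaf))))))

/-- part of the orbit tree -/
def itp2_193 : Tree := (.node itp2_189 (77796, 0, 16, 243731) itp2_190)

/-- part of the orbit tree -/
def itp2_194 : Tree := (.node itp2_191 (78057, 0, 17, 227042) itp2_192)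

/-- part of the orbit tree -/
def itp2_195 : Tree := (.node (.node (.node (.node (.node (.node .leaf (78187, 0, 13, 111413) .leaf) (78189, 0, 16, 9306) (.node .leaf (78190, 0, 17, 103686) .leaf)) (78192, 0, 17, 171523) (.node (.node .leaf (78195, 0, 17, 216692) .leaf) (78197, 0, 14, 178224) (.node .leaf (78198, 0, 16, 199020) .leaf))) (78200, 0, 15, 56239) (.node (.node (.node .leaf (78203, 0, 15, 247235) .leaf) (78205, 0, 15, 746) (.node .leaf (78206, 0, 18, 254960) .leaf)) (78208, 0, 16, 163100) (.node (.node .leaf (78211, 0, 18, 245848) .leaf) (78213, 0, 15, 154415) (.node .leaf (78214, 0, 14, 256627) .leaf)))) (78216, 0, 15, 169856) (.node (.node (.node (.node .leaf (78219, 0, 17, 124352) .leaf) (78221, 0, 17, 36038) (.node .leaf (78222, 0, 16, 81029) .leaf)) (78224, 0, 17, 2126) (.node (.node .leaf (78227, 0, 15, 112653) .leaf) (78229, 0, 17, 53515) (.node .leaf (78230, 0, 16, 90440) .leaf))) (78232, 0, 19, 57718) (.node (.node (.node .leaf (78235, 0, 18, 236949) .leaf) (78237, 0, 18, 51013)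 (.node .leaf (78238, 0, 18, 95769) .leaf)) (78241, 0, 16, 88376) (.node (.node .leaf (78242, 0, 17, 11211) .leaf) (78244, 0, 14, 98059) (.node .leaf (78247, 0, 16, 62094) .leaf))))) (78249, 0, 13, 111524) (.node (.node (.node (.node (.node .leaf (78250, 0, 17, 760) .leaf) (78252, 0, 16, 223061) (.node .leaf (78255, 0, 17, 186134) .leaf)) (78257, 0, 18, 254941) (.node (.node .leaf (78258, 0, 16, 171666) .leaf) (78260, 0, 17, 211608) (.node .leaf (78263, 0, 18, 178337) .leaf))) (78265, 0, 14, 116293) (.node (.node (.node .leaf (78266, 0, 15, 160782) .leaf) (78268, 0, 18, 73472) (.node .leaf (78271, 0, 17, 152125) .leaf)) (78273, 0, 16, 31928) (.node (.node .leaf (78274, 0, 10, 19128) .leaf) (78276, 0, 14, 23179) (.node .leaf (78279, 0, 14, 125911) .leaf)))) (78281, 0, 15, 253795) (.node (.node (.node (.node .leaf (78282, 0, 11, 159520) .leaf) (78284, 0, 16, 45079) (.node .leaf (78287, 0, 14, 177765) .leaf)) (78289, 0, 15, 133710) (.node (.node .leaf (78290, 0, 14, 244498) .leaf) (78292, 0, 16, 220139)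 (.node .leaf (78295, 0, 18, 191400) .leaf))) (78297, 0, 17, 188626) (.node (.node (.node .leaf (78298, 0, 15, 6005) .leaf) (78300, 0, 18, 181985) (.node .leaf (78303, 0, 18, 52784) .leaf)) (78304, 0, 17, 135528) (.node (.node .leaf (78307, 0, 16, 237867) .leaf) (78309, 0, 18, 229039) (.node .leaf (78310, 0, 18, 227438) .leaf))))))

/-- part of the orbit tree -/
def itp2_196 : Tree := (.node (.node (.node (.node (.node (.node .leaf (78315, 0, 19, 99507) .leaf) (78317, 0, 17, 234547) (.node .leaf (78318, 0, 16, 89590) .leaf)) (78320, 0, 16, 26941) (.node (.node .leaf (78323, 0, 19, 40758) .leaf) (78325, 0, 15, 67673) (.node .leaf (78326, 0, 15, 65595) .leaf))) (78328, 0, 18, 150693) (.node (.node (.node .leaf (78331, 0, 17, 261350) .leaf) (78333, 0, 9, 123589) (.node .leaf (78334, 0, 15, 21401) .leaf)) (78336, 0, 15, 77754) (.node (.node .leaf (78337, 0, 10, 226964) .leaf) (78342, 0, 16, 131091) (.node .leaf (78343, 0, 15, 188923) .leaf)))) (78344, 0, 17, 85133) (.node (.node (.node (.node .leaf (78345,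 0, 17, 236552) .leaf) (78350, 0, 15, 21065) (.node .leaf (78351, 0, 16, 50669) .leaf)) (78352, 0, 17, 69952) (.node (.node .leaf (78353, 0, 16, 65634) .leaf) (78358, 0, 15, 30790) (.node .leaf (78359, 0, 13, 38669) .leaf))) (78360, 0, 13, 242640) (.node (.node (.node .leaf (78361, 0, 12, 125694) .leaf) (78366, 0, 15, 155102) (.node .leaf (78367, 0, 16, 179640) .leaf)) (78370, 0, 17, 244418) (.node (.node .leaf (78371, 0, 13, 119459) .leaf) (78372, 0, 16, 23491) (.node .leaf (78373, 0, 16, 48037) .leaf))))) (78378, 0, 14, 217182) (.node (.node (.node (.node (.node .leaf (78379, 0, 16, 67952) .leaf) (78380, 0, 17, 163419) (.node .leaf (78381, 0, 17, 171581) .leaf)) (78386, 0, 17, 215696) (.node (.node .leaf (78387, 0, 13, 240374) .leaf) (78388, 0, 18, 23387) (.node .leaf (78389, 0, 15, 181232) .leaf))) (78394, 0, 17, 75432) (.node (.node (.node .leaf (78395, 0, 15, 102254) .leaf) (78396, 0, 12, 45511) (.node .leaf (78397, 0, 15, 58984) .leaf)) (78402, 0, 16, 86966) (.node (.node .leaf (78403, 0, 18,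 111568) .leaf) (78404, 0, 13, 198701) (.node .leaf (78405, 0, 14, 56022) .leaf)))) (78410, 0, 17, 161246) (.node (.node (.node (.node .leaf (78411, 0, 15, 235080) .leaf) (78412, 0, 17, 254641) (.node .leaf (78413, 0, 13, 196430) .leaf)) (78418, 0, 18, 207843) (.node (.node .leaf (78419, 0, 16, 176282) .leaf) (78420, 0, 16, 148197) (.node .leaf (78421, 0, 15, 206837) .leaf))) (78426, 0, 17, 69243) (.node (.node (.node .leaf (78427, 0, 18, 126493) .leaf) (78428, 0, 15, 26493) (.node .leaf (78429, 0, 16, 34587) .leaf)) (78432, 0, 18, 2618) (.node (.node .leaf (78433, 0, 18, 256000) .leaf) (78438, 0, 18, 105813) (.node .leaf (78439, 0, 16, 246907) .leaf))))))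

/-- part of the orbit tree -/
def itp2_197 : Tree := (.node (.node (.node (.node (.node (.node .leaf (78441, 0, 16, 118168) .leaf) (78446, 0, 18, 96201) (.node .leaf (78447, 0, 15, 208615) .leaf)) (78448, 0, 15, 163020) (.node (.node .leaf (78449, 0, 17, 102485) .leaf) (78454, 0, 14, 6453) (.node .leaf (78455, 0, 13, 63827) .leaf))) (78456, 0, 10, 218539) (.node (.node (.node .leaf (78457, 0, 16, 243149) .leaf) (78462, 0, 13, 146605) (.node .leaf (78463, 0, 15, 88081) .leaf)) (78464, 0, 14, 130591) (.node (.node .leaf (78465, 0, 16, 50941) .leaf) (78470, 0, 16, 198844) (.node .leaf (78471, 0, 16, 86418) .leaf)))) (78472, 0, 17, 252807) (.node (.node (.node (.node .leaf (78473, 0, 17, 11361) .leaf) (78478, 0, 16, 176769) (.node .leaf (78479, 0, 11, 152295) .leaf)) (78480, 0, 17, 59685) (.node (.node .leaf (78481, 0, 11, 222764) .leaf) (78486, 0, 16, 192332) (.node .leaf (78487, 0, 14, 206692) .leaf))) (78488, 0, 19, 953) (.node (.node (.node .leaf (78489, 0, 15, 154263) .leaf) (78494, 0, 15, 103638)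 (.node .leaf (78495, 0, 14, 10930) .leaf)) (78498, 0, 17, 2731) (.node (.node .leaf (78499, 0, 14, 214441) .leaf) (78500, 0, 17, 105924) (.node .leaf (78501, 0, 15, 142511) .leaf))))) (78506, 0, 15, 98391) (.node (.node (.node (.node (.node .leaf (78507, 0, 16, 90161) .leaf) (78508, 0, 16, 59729) (.node .leaf (78509, 0, 17, 208502) .leaf)) (78514, 0, 17, 162909) (.node (.node .leaf (78515, 0, 16, 9587) .leaf) (78516, 0, 15, 46236) (.node .leaf (78517, 0, 17, 21754) .leaf))) (78522, 0, 16, 260098) (.node (.node (.node .leaf (78523, 0, 19, 53231) .leaf) (78524, 0, 17, 168196) (.node .leaf (78525, 0, 18, 160098) .leaf)) (78530, 0, 9, 246972) (.node (.node .leaf (78531, 0, 15, 206042) .leaf) (78532, 0, 15, 47172) (.node .leaf (78533, 0, 18, 188778) .leaf)))) (78538, 0, 17, 123172) (.node (.node (.node (.node .leaf (78539, 0, 15, 236697) .leaf) (78540, 0, 16, 34850) (.node .leaf (78541, 0, 15, 26692) .leaf)) (78546, 0, 12, 219613) (.node (.node .leaf (78547, 0, 15, 65779) .leaf) (78548, 0, 17, 54767) (.node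 .leaf (78549, 0, 15, 13705) .leaf))) (78554, 0, 16, 242497) (.node (.node (.node .leaf (78555, 0, 18, 227607) .leaf) (78556, 0, 16, 192631) (.node .leaf (78557, 0, 14, 135185) .leaf)) (78560, 0, 19, 244307) (.node (.node .leaf (78561, 0, 17, 98058) .leaf) (78566, 0, 18, 63082) (.node .leaf (78567, 0, 15, 29714) .leaf))))))

/-- part of the orbit tree -/
def itp2_198 : Tree := (.node (.node (.node (.node (.node (.node .leaf (78569, 0, 17, 219794) .leaf) (78574, 0, 16, 182176) (.node .leaf (78575, 0, 14, 40590) .leaf)) (78576, 0, 14, 117925) (.node (.node .leaf (78577, 0, 16, 234891) .leaf) (78582, 0, 18, 23498) (.node .leaf (78583, 0, 18, 131812) .leaf))) (78584, 0, 18, 115361) (.node (.node (.node .leaf (78585, 0, 16, 74439) .leaf) (78590, 0, 15, 45398) (.node .leaf (78591, 0, 15, 190584) .leaf)) (78594, 0, 15, 139307) (.node (.node .leaf (78595, 0, 18, 97058) .leaf) (78596, 0, 16, 62018) (.node .leaf (78597, 0, 17, 126570) .leaf)))) (78602, 0, 15, 245468) (.node (.node (.node (.node .leaf (78603,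 0, 17, 220858) .leaf) (78604, 0, 14, 220632) (.node .leaf (78605, 0, 13, 145340) .leaf)) (78610, 0, 17, 22237) (.node (.node .leaf (78611, 0, 16, 135155) .leaf) (78612, 0, 14, 115122) (.node .leaf (78613, 0, 14, 235676) .leaf))) (78618, 0, 15, 48193) (.node (.node (.node .leaf (78619, 0, 18, 189807) .leaf) (78620, 0, 17, 76590) (.node .leaf (78621, 0, 16, 20457) .leaf)) (78624, 0, 17, 46419) (.node (.node .leaf (78625, 0, 15, 191613) .leaf) (78630, 0, 13, 174482) (.node .leaf (78631, 0, 16, 150004) .leaf))))) (78632, 0, 17, 24527) (.node (.node (.node (.node (.node .leaf (78633, 0, 17, 66922) .leaf) (78638, 0, 18, 35850) (.node .leaf (78639, 0, 16, 233870) .leaf)) (78640, 0, 13, 181157) (.node (.node .leaf (78641, 0, 13, 39563) .leaf) (78646, 0, 18, 218314) (.node .leaf (78647, 0, 15, 12705) .leaf))) (78648, 0, 19, 236889) (.node (.node (.node .leaf (78649, 0, 17, 228671) .leaf) (78654, 0, 19, 245334) (.node .leaf (78655, 0, 17, 136249) .leaf)) (78656, 0, 14, 238055) (.node (.node .leaf (78657, 0,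 18, 213377) .leaf) (78662, 0, 15, 182497) (.node .leaf (78663, 0, 15, 141447) .leaf)))) (78664, 0, 16, 99455) (.node (.node (.node (.node .leaf (78665, 0, 18, 205665) .leaf) (78670, 0, 17, 60793) (.node .leaf (78671, 0, 17, 3359) .leaf)) (78672, 0, 16, 121266) (.node (.node .leaf (78673, 0, 17, 80340) .leaf) (78678, 0, 18, 160074) (.node .leaf (78679, 0, 12, 10340) .leaf))) (78680, 0, 15, 261162) (.node (.node (.node .leaf (78681, 0, 15, 87447) .leaf) (78686, 0, 17, 170966) (.node .leaf (78687, 0, 16, 49912) .leaf)) (78690, 0, 15, 198059) (.node (.node .leaf (78691, 0, 16, 89221) .leaf) (78692, 0, 8, 37681) .leaf)))))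

/-- part of the orbit tree -/
def itp2_199 : Tree := (.node itp2_195 (78312, 0, 12, 13552) itp2_196)

/-- part of the orbit tree -/
def itp2_200 : Tree := (.node itp2_197 (78568, 0, 14, 244468) itp2_198)

/-- part of the orbit tree -/
def itp2_201 : Tree := (.node itp2_193 (77929, 0, 17, 123368) itp2_194)

/-- part of the orbit tree -/
def itp2_202 : Tree := (.node itp2_199 (78440, 0, 17, 57510) itp2_200)

/-- part of the orbit tree -/
def itp2_203 : Tree := (.node (.node (.node (.node (.node (.node .leaf (78698, 0, 17, 257847) .leaf) (78699, 0, 17, 212937) (.node .leaf (78700, 0, 17, 161880) .leaf)) (78701, 0, 15, 8566) (.node (.node .leaf (78706, 0, 17, 229986) .leaf) (78707, 0, 12, 207475) (.node .leaf (78708, 0, 15, 58418) .leaf))) (78709, 0, 14, 179484) (.node (.node (.node .leaf (78714, 0, 16, 108538) .leaf) (78715, 0, 17, 83868) (.node .leaf (78716, 0, 16, 52988) .leaf)) (78717, 0, 13, 153472) (.node (.node .leaf (78722, 0, 15, 199758) .leaf) (78723, 0, 17, 257064) (.node .leaf (78724, 0,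 14, 157000) .leaf)))) (78725, 0, 13, 155139) (.node (.node (.node (.node .leaf (78730, 0, 16, 76246) .leaf) (78731, 0, 14, 117168) (.node .leaf (78732, 0, 18, 60849) .leaf)) (78733, 0, 16, 177311) (.node (.node .leaf (78738, 0, 18, 95259) .leaf) (78739, 0, 16, 103549) (.node .leaf (78740, 0, 16, 7453) .leaf))) (78741, 0, 16, 10485) (.node (.node (.node .leaf (78746, 0, 17, 199720) .leaf) (78747, 0, 17, 87302) (.node .leaf (78748, 0, 16, 145541) .leaf)) (78749, 0, 17, 186595) (.node (.node .leaf (78752, 0, 16, 87966) .leaf) (78753, 0, 14, 89108) (.node .leaf (78758, 0, 17, 16024) .leaf))))) (78759, 0, 18, 57086) (.node (.node (.node (.node (.node .leaf (78760, 0, 14, 257958) .leaf) (78761, 0, 17, 234080) (.node .leaf (78766, 0, 15, 137984) .leaf)) (78767, 0, 12, 195430) (.node (.node .leaf (78768, 0, 16, 208843) .leaf) (78769, 0, 15, 207586) (.node .leaf (78774, 0, 15, 58531) .leaf))) (78775, 0, 15, 173739) (.node (.node (.node .leaf (78776, 0, 13, 104784) .leaf) (78777, 0, 16, 125493) (.node .leaf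 (78782, 0, 14, 25429) .leaf)) (78783, 0, 17, 33587) (.node (.node .leaf (78784, 0, 14, 79597) .leaf) (78785, 0, 16, 31124) (.node .leaf (78790, 0, 14, 24555) .leaf)))) (78791, 0, 16, 126715) (.node (.node (.node (.node .leaf (78792, 0, 16, 182822) .leaf) (78793, 0, 13, 37640) (.node .leaf (78798, 0, 16, 220489) .leaf)) (78799, 0, 16, 66663) (.node (.node .leaf (78800, 0, 15, 22092) .leaf) (78801, 0, 12, 241374) (.node .leaf (78806, 0, 16, 114979) .leaf))) (78807, 0, 16, 235533) (.node (.node (.node .leaf (78808, 0, 14, 92960) .leaf) (78809, 0, 18, 189950) (.node .leaf (78814, 0, 8, 550) .leaf)) (78815, 0, 17, 57920) (.node (.node .leaf (78818, 0, 14, 46530) .leaf) (78819, 0, 17, 232795) (.node .leaf (78820, 0, 16, 132155) .leaf))))))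

/-- part of the orbit tree -/
def itp2_204 : Tree := (.node (.node (.node (.node (.node (.node .leaf (78826, 0, 16, 84133) .leaf) (78827, 0, 16, 108739) (.node .leaf (78828, 0, 16, 116785) .leaf)) (78829, 0, 18, 233759) (.node (.node .leaf (78834, 0, 17, 181044) .leaf) (78835, 0, 10, 128270) (.node .leaf (78836, 0, 15, 218203) .leaf))) (78837, 0, 18, 68981) (.node (.node (.node .leaf (78842, 0, 11, 141736) .leaf) (78843, 0, 17, 28806) (.node .leaf (78844, 0, 17, 245447) .leaf)) (78845, 0, 17, 124905) (.node (.node .leaf (78848, 0, 16, 155597) .leaf) (78850, 0, 17, 200680) (.node .leaf (78853, 0, 15, 131409) .leaf)))) (78855, 0, 16, 251565) (.node (.node (.node (.node .leaf (78856, 0, 14, 31317) .leaf) (78858, 0, 18, 75148) (.node .leaf (78861, 0, 15, 191437) .leaf)) (78863, 0, 15, 66495) (.node (.node .leaf (78864, 0, 14, 10136) .leaf) (78866, 0, 15, 244198) (.node .leaf (78869, 0, 17, 30631) .leaf))) (78871, 0, 14, 237525) (.node (.node (.node .leaf (78872, 0, 16, 47880) .leaf) (78874, 0, 16, 217978)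 (.node .leaf (78877, 0, 17, 187205) .leaf)) (78879, 0, 18, 226633) (.node (.node .leaf (78881, 0, 14, 66374) .leaf) (78883, 0, 17, 58491) (.node .leaf (78884, 0, 16, 93467) .leaf))))) (78886, 0, 17, 15678) (.node (.node (.node (.node (.node .leaf (78889, 0, 16, 125402) .leaf) (78891, 0, 15, 180707) (.node .leaf (78892, 0, 17, 118761) .leaf)) (78894, 0, 16, 137382) (.node (.node .leaf (78897, 0, 15, 226736) .leaf) (78899, 0, 16, 40386) (.node .leaf (78900, 0, 16, 202062) .leaf))) (78902, 0, 18, 48113) (.node (.node (.node .leaf (78905, 0, 16, 125331) .leaf) (78907, 0, 17, 47542) (.node .leaf (78908, 0, 11, 78038) .leaf)) (78910, 0, 18, 24819) (.node (.node .leaf (78913, 0, 13, 9926) .leaf) (78915, 0, 16, 34056) (.node .leaf (78916, 0, 15, 245) .leaf)))) (78918, 0, 17, 256135) (.node (.node (.node (.node .leaf (78921, 0, 16, 52314) .leaf) (78923, 0, 17, 172176) (.node .leaf (78924, 0, 10, 207344) .leaf)) (78926, 0, 17, 197147) (.node (.node .leaf (78929, 0, 18, 241016) .leaf) (78931, 0, 16, 112706)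 (.node .leaf (78932, 0, 16, 161283) .leaf))) (78934, 0, 17, 106097) (.node (.node (.node .leaf (78937, 0, 17, 178860) .leaf) (78939, 0, 17, 86750) (.node .leaf (78940, 0, 16, 171167) .leaf)) (78942, 0, 15, 384) (.node (.node .leaf (78944, 0, 17, 147134) .leaf) (78946, 0, 15, 224923) (.node .leaf (78949, 0, 18, 190459) .leaf))))))

/-- part of the orbit tree -/
def itp2_205 : Tree := (.node (.node (.node (.node (.node (.node .leaf (78952, 0, 14, 256126) .leaf) (78954, 0, 14, 84739) (.node .leaf (78957, 0, 17, 49763) .leaf)) (78959, 0, 13, 102982) (.node (.node .leaf (78960, 0, 18, 18155) .leaf) (78962, 0, 17, 71374) (.node .leaf (78965, 0, 14, 40878) .leaf))) (78967, 0, 16, 178773) (.node (.node (.node .leaf (78968, 0, 14, 106120) .leaf) (78970, 0, 15, 161530) (.node .leaf (78973, 0, 6, 112827) .leaf)) (78975, 0, 17, 151753) (.node (.node .leaf (78976, 0, 17, 51399) .leaf) (78978, 0, 13, 163705) (.node .leaf (78981, 0, 14, 110904) .leaf)))) (78983, 0, 12, 153930) (.node (.node (.node (.node .leaf (78984,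 0, 15, 97687) .leaf) (78986, 0, 16, 169445) (.node .leaf (78989, 0, 17, 144410) .leaf)) (78991, 0, 16, 177110) (.node (.node .leaf (78992, 0, 17, 254461) .leaf) (78994, 0, 15, 2447) (.node .leaf (78997, 0, 17, 158167) .leaf))) (78999, 0, 15, 211442) (.node (.node (.node .leaf (79000, 0, 18, 199521) .leaf) (79002, 0, 18, 58131) (.node .leaf (79005, 0, 17, 19535) .leaf)) (79007, 0, 17, 50464) (.node (.node .leaf (79009, 0, 15, 176943) .leaf) (79011, 0, 16, 88925) (.node .leaf (79012, 0, 12, 260625) .leaf))))) (79014, 0, 14, 174644) (.node (.node (.node (.node (.node .leaf (79017, 0, 16, 67276) .leaf) (79019, 0, 14, 111041) (.node .leaf (79020, 0, 15, 163712) .leaf)) (79022, 0, 17, 104434) (.node (.node .leaf (79025, 0, 14, 50649) .leaf) (79027, 0, 10, 208299) (.node .leaf (79028, 0, 14, 58346) .leaf))) (79030, 0, 18, 53857) (.node (.node (.node .leaf (79033, 0, 15, 229017) .leaf) (79035, 0, 15, 143036) (.node .leaf (79036, 0, 11, 2422) .leaf)) (79038, 0, 16, 194553) (.node (.node .leaf (79041, 0, 15,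 213543) .leaf) (79043, 0, 11, 135682) (.node .leaf (79044, 0, 16, 241820) .leaf)))) (79046, 0, 15, 22766) (.node (.node (.node (.node .leaf (79049, 0, 17, 92095) .leaf) (79051, 0, 17, 37953) (.node .leaf (79052, 0, 17, 219648) .leaf)) (79054, 0, 18, 61151) (.node (.node .leaf (79057, 0, 14, 122969) .leaf) (79059, 0, 14, 133163) (.node .leaf (79060, 0, 13, 123703) .leaf))) (79062, 0, 18, 45842) (.node (.node (.node .leaf (79065, 0, 18, 204778) .leaf) (79067, 0, 15, 189111) (.node .leaf (79068, 0, 18, 77046) .leaf)) (79070, 0, 15, 169610) (.node (.node .leaf (79072, 0, 12, 45707) .leaf) (79074, 0, 16, 219897) (.node .leaf (79077, 0, 16, 28913) .leaf))))))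

/-- part of the orbit tree -/
def itp2_206 : Tree := (.node (.node (.node (.node (.node (.node .leaf (79080, 0, 16, 166956) .leaf) (79082, 0, 18, 252937) (.node .leaf (79085, 0, 18, 32292) .leaf)) (79087, 0, 15, 235094) (.node (.node .leaf (79088, 0, 18, 184801) .leaf) (79090, 0, 16, 76815) (.node .leaf (79093, 0, 17, 133284) .leaf))) (79095, 0, 19, 219265) (.node (.node (.node .leaf (79096, 0, 17, 143073) .leaf) (79098, 0, 14, 116371) (.node .leaf (79101, 0, 14, 11580) .leaf)) (79103, 0, 16, 97561) (.node (.node .leaf (79105, 0, 18, 39343) .leaf) (79107, 0, 14, 19962) (.node .leaf (79108, 0, 17, 49052) .leaf)))) (79110, 0, 15, 219118) (.node (.node (.node (.node .leaf (79113, 0, 16, 211015) .leaf) (79115, 0, 14, 157794) (.node .leaf (79116, 0, 17, 21760) .leaf)) (79118, 0, 14, 176423) (.node (.node .leaf (79121, 0, 17, 222602) .leaf) (79123, 0, 17, 67371) (.node .leaf (79124, 0, 16, 182634) .leaf))) (79126, 0, 15, 191722) (.node (.node (.node .leaf (79129, 0, 16, 81938) .leaf) (79131, 0, 15, 126391)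 (.node .leaf (79132, 0, 16, 140278) .leaf)) (79134, 0, 17, 117636) (.node (.node .leaf (79136, 0, 15, 194124) .leaf) (79138, 0, 18, 239209) (.node .leaf (79141, 0, 17, 236472) .leaf))))) (79143, 0, 17, 29642) (.node (.node (.node (.node (.node .leaf (79144, 0, 18, 54228) .leaf) (79146, 0, 16, 99313) (.node .leaf (79149, 0, 12, 225572) .leaf)) (79151, 0, 17, 39254) (.node (.node .leaf (79152, 0, 16, 36377) .leaf) (79154, 0, 18, 122428) (.node .leaf (79157, 0, 18, 22364) .leaf))) (79159, 0, 15, 67449) (.node (.node (.node .leaf (79160, 0, 10, 74209) .leaf) (79162, 0, 15, 261028) (.node .leaf (79165, 0, 16, 67538) .leaf)) (79167, 0, 18, 205537) (.node (.node .leaf (79168, 0, 17, 169995) .leaf) (79170, 0, 15, 94329) (.node .leaf (79173, 0, 17, 151162) .leaf)))) (79175, 0, 15, 87626) (.node (.node (.node (.node .leaf (79176, 0, 13, 45735) .leaf) (79178, 0, 15, 105189) (.node .leaf (79181, 0, 15, 152740) .leaf)) (79183, 0, 16, 113878) (.node (.node .leaf (79184, 0, 15, 61290) .leaf) (79186, 0, 16, 198287)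 (.node .leaf (79189, 0, 12, 13871) .leaf))) (79191, 0, 14, 91658) (.node (.node (.node .leaf (79192, 0, 16, 183026) .leaf) (79194, 0, 18, 236247) (.node .leaf (79197, 0, 16, 8786) .leaf)) (79199, 0, 15, 213906) (.node (.node .leaf (79201, 0, 17, 113711) .leaf) (79203, 0, 13, 11401) (.node .leaf (79204, 0, 19, 104988) .leaf))))))

/-- part of the orbit tree -/
def itp2_207 : Tree := (.node itp2_203 (78821, 0, 17, 189533) itp2_204)

/-- part of the orbit tree -/
def itp2_208 : Tree := (.node itp2_205 (79079, 0, 14, 228554) itp2_206)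

/-- part of the orbit tree -/
def itp2_209 : Tree := (.node (.node (.node (.node (.node (.node .leaf (79209, 0, 14, 219444) .leaf) (79211, 0, 17, 179905) (.node .leaf (79212, 0, 18, 94336) .leaf)) (79214, 0, 15, 184404) (.node (.node .leaf (79217, 0, 17, 248537) .leaf) (79219, 0, 17, 152796) (.node .leaf (79220, 0, 17, 253372) .leaf))) (79222, 0, 16, 167321) (.node (.node (.node .leaf (79225, 0, 15, 74081) .leaf) (79227, 0, 15, 51255) (.node .leaf (79228, 0, 15, 198262) .leaf)) (79230, 0, 13, 43009) (.node (.node .leaf (79233, 0, 11, 232149) .leaf) (79235, 0, 16, 49588) (.node .leaf (79236, 0, 17, 200693) .leaf)))) (79238, 0, 16, 132021) (.node (.node (.node (.node .leaf (79241, 0, 16, 110413) .leaf) (79243, 0, 15, 11048) (.node .leaf (79244, 0, 16, 255337) .leaf)) (79246, 0, 17, 9773) (.node (.node .leaf (79249, 0, 17, 89904) .leaf) (79251, 0, 18, 41637) (.node .leaf (79252, 0, 17, 76741) .leaf))) (79254, 0, 17, 168305) (.node (.node (.node .leaf (79257, 0, 17, 112044) .leaf) (79259, 0, 15, 155102)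 (.node .leaf (79260, 0, 14, 200285) .leaf)) (79262, 0, 16, 162797) (.node (.node .leaf (79264, 0, 17, 24902) .leaf) (79266, 0, 16, 255376) (.node .leaf (79269, 0, 16, 47107) .leaf))))) (79271, 0, 14, 124966) (.node (.node (.node (.node (.node .leaf (79272, 0, 15, 148702) .leaf) (79274, 0, 17, 201979) (.node .leaf (79277, 0, 14, 171419) .leaf)) (79279, 0, 17, 207167) (.node (.node .leaf (79280, 0, 17, 137491) .leaf) (79282, 0, 13, 103270) (.node .leaf (79285, 0, 14, 154919) .leaf))) (79287, 0, 19, 233587) (.node (.node (.node .leaf (79288, 0, 18, 168328) .leaf) (79290, 0, 17, 96762) (.node .leaf (79293, 0, 14, 178107) .leaf)) (79295, 0, 15, 90057) (.node (.node .leaf (79296, 0, 18, 75874) .leaf) (79298, 0, 16, 180240) (.node .leaf (79301, 0, 18, 69201) .leaf)))) (79303, 0, 16, 189987) (.node (.node (.node (.node .leaf (79304, 0, 17, 115454) .leaf) (79306, 0, 15, 141964) (.node .leaf (79309, 0, 15, 124109) .leaf)) (79311, 0, 16, 240845) (.node (.node .leaf (79312, 0, 15, 220820) .leaf) (79314, 0, 17,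 206917) (.node .leaf (79317, 0, 12, 172325) .leaf))) (79319, 0, 16, 258304) (.node (.node (.node .leaf (79320, 0, 17, 242696) .leaf) (79322, 0, 17, 69085) (.node .leaf (79325, 0, 18, 234043) .leaf)) (79327, 0, 16, 119960) (.node (.node .leaf (79329, 0, 17, 134214) .leaf) (79331, 0, 15, 123956) (.node .leaf (79332, 0, 18, 141941) .leaf))))))

/-- part of the orbit tree -/
def itp2_210 : Tree := (.node (.node (.node (.node (.node (.node .leaf (79337, 0, 13, 118334) .leaf) (79339, 0, 17, 40475) (.node .leaf (79340, 0, 17, 180457) .leaf)) (79342, 0, 15, 75931) (.node (.node .leaf (79345, 0, 18, 31408) .leaf) (79347, 0, 16, 234178) (.node .leaf (79348, 0, 16, 84662) .leaf))) (79350, 0, 18, 6803) (.node (.node (.node .leaf (79353, 0, 18, 243307) .leaf) (79355, 0, 15, 227422) (.node .leaf (79356, 0, 12, 225070) .leaf)) (79358, 0, 18, 220781) (.node (.node .leaf (79364, 0, 12, 150174) .leaf) (79365, 0, 18, 174840) (.node .leaf (79366, 0, 17, 242977) .leaf)))) (79367, 0, 13, 260829) (.node (.node (.node (.node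 .leaf (79372, 0, 18, 47055) .leaf) (79373, 0, 17, 36704) (.node .leaf (79374, 0, 17, 81699) .leaf)) (79375, 0, 15, 122693) (.node (.node .leaf (79380, 0, 15, 13003) .leaf) (79381, 0, 17, 29323) (.node .leaf (79382, 0, 14, 115671) .leaf))) (79383, 0, 19, 236281) (.node (.node (.node .leaf (79388, 0, 15, 137043) .leaf) (79389, 0, 17, 194357) (.node .leaf (79390, 0, 16, 214902) .leaf)) (79391, 0, 17, 225381) (.node (.node .leaf (79392, 0, 15, 220996) .leaf) (79393, 0, 18, 104494) (.node .leaf (79394, 0, 17, 10349) .leaf))))) (79395, 0, 15, 51211) (.node (.node (.node (.node (.node .leaf (79400, 0, 16, 220624) .leaf) (79401, 0, 16, 126198) (.node .leaf (79402, 0, 14, 134645) .leaf)) (79403, 0, 14, 191891) (.node (.node .leaf (79408, 0, 17, 196637) .leaf) (79409, 0, 19, 225436) (.node .leaf (79410, 0, 17, 180672) .leaf))) (79411, 0, 16, 176222) (.node (.node (.node .leaf (79416, 0, 17, 75141) .leaf) (79417, 0, 13, 116195) (.node .leaf (79418, 0, 15, 30112) .leaf)) (79419, 0, 16, 38342) (.node (.node .leaf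 (79424, 0, 17, 71995) .leaf) (79425, 0, 17, 9194) (.node .leaf (79426, 0, 18, 103094) .leaf)))) (79427, 0, 11, 248728) (.node (.node (.node (.node .leaf (79432, 0, 17, 212131) .leaf) (79433, 0, 16, 253125) (.node .leaf (79434, 0, 14, 158854) .leaf)) (79435, 0, 17, 205060) (.node (.node .leaf (79440, 0, 17, 221550) .leaf) (79441, 0, 15, 229640) (.node .leaf (79442, 0, 15, 143691) .leaf))) (79443, 0, 18, 184621) (.node (.node (.node .leaf (79448, 0, 15, 83190) .leaf) (79449, 0, 16, 180096) (.node .leaf (79450, 0, 17, 5331) .leaf)) (79451, 0, 12, 62645) (.node (.node .leaf (79460, 0, 17, 96467) .leaf) (79461, 0, 17, 205309) (.node .leaf (79462, 0, 14, 168097) .leaf))))))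

/-- part of the orbit tree -/
def itp2_211 : Tree := (.node (.node (.node (.node (.node (.node .leaf (79468, 0, 17, 3701) .leaf) (79469, 0, 13, 248673) (.node .leaf (79470, 0, 15, 89680) .leaf)) (79471, 0, 17, 8979) (.node (.node .leaf (79476, 0, 17, 200229) .leaf) (79477, 0, 17, 46046) (.node .leaf (79478, 0, 10, 58967) .leaf))) (79479, 0, 16, 180089) (.node (.node (.node .leaf (79484, 0, 17, 255161) .leaf) (79485, 0, 18, 169542) (.node .leaf (79486, 0, 18, 3275) .leaf)) (79487, 0, 16, 153061) (.node (.node .leaf (79492, 0, 16, 257338) .leaf) (79493, 0, 17, 111636) (.node .leaf (79494, 0, 17, 101809) .leaf)))) (79495, 0, 17, 93655) (.node (.node (.node (.node .leaf (79500, 0, 14, 194572) .leaf) (79501, 0, 16, 89736) (.node .leaf (79502, 0, 17, 61396) .leaf)) (79503, 0, 14, 177914) (.node (.node .leaf (79508, 0, 16, 105420) .leaf) (79509, 0, 16, 246498) (.node .leaf (79510, 0, 15, 259556) .leaf))) (79511, 0, 17, 202114) (.node (.node (.node .leaf (79516, 0, 13, 32857) .leaf) (79517, 0, 15, 24639)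 (.node .leaf (79518, 0, 17, 170274) .leaf)) (79519, 0, 14, 77850) (.node (.node .leaf (79520, 0, 17, 61229) .leaf) (79521, 0, 16, 177667) (.node .leaf (79522, 0, 15, 180071) .leaf))))) (79523, 0, 15, 155393) (.node (.node (.node (.node (.node .leaf (79528, 0, 15, 117466) .leaf) (79529, 0, 15, 76476) (.node .leaf (79530, 0, 17, 257475) .leaf)) (79531, 0, 13, 111853) (.node (.node .leaf (79536, 0, 15, 104215) .leaf) (79537, 0, 16, 96113) (.node .leaf (79538, 0, 16, 94633) .leaf))) (79539, 0, 17, 10068) (.node (.node (.node .leaf (79544, 0, 16, 242319) .leaf) (79545, 0, 11, 217833) (.node .leaf (79546, 0, 18, 105269) .leaf)) (79547, 0, 17, 131788) (.node (.node .leaf (79552, 0, 17, 117421) .leaf) (79553, 0, 15, 224855) (.node .leaf (79554, 0, 16, 139999) .leaf)))) (79555, 0, 14, 147058) (.node (.node (.node (.node .leaf (79560, 0, 13, 73777) .leaf) (79561, 0, 12, 84943) (.node .leaf (79562, 0, 16, 182339) .leaf)) (79563, 0, 17, 7146) (.node (.node .leaf (79568, 0, 18, 244827) .leaf) (79569, 0, 16, 124277)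 (.node .leaf (79570, 0, 19, 21545) .leaf))) (79571, 0, 17, 17959) (.node (.node (.node .leaf (79576, 0, 17, 250876) .leaf) (79577, 0, 16, 209818) (.node .leaf (79578, 0, 15, 164825) .leaf)) (79579, 0, 13, 156607) (.node (.node .leaf (79588, 0, 17, 48359) .leaf) (79589, 0, 16, 37268) (.node .leaf (79590, 0, 17, 126146) .leaf))))))

/-- part of the orbit tree -/
def itp2_212 : Tree := (.node (.node (.node (.node (.node (.node .leaf (79596, 0, 16, 170367) .leaf) (79597, 0, 13, 162073) (.node .leaf (79598, 0, 18, 248154) .leaf)) (79599, 0, 17, 207164) (.node (.node .leaf (79604, 0, 17, 181426) .leaf) (79605, 0, 15, 140500) (.node .leaf (79606, 0, 18, 234647) .leaf))) (79607, 0, 17, 226545) (.node (.node (.node .leaf (79612, 0, 18, 21712) .leaf) (79613, 0, 15, 134654) (.node .leaf (79614, 0, 14, 244898) .leaf)) (79615, 0, 16, 86377) (.node (.node .leaf (79616, 0, 18, 119241) .leaf) (79617, 0, 17, 40067) (.node .leaf (79618, 0, 17, 77279) .leaf)))) (79619, 0, 10, 24970) (.node (.node (.node (.node .leaf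 (79624, 0, 15, 143153) .leaf) (79625, 0, 15, 30239) (.node .leaf (79626, 0, 16, 116547) .leaf)) (79627, 0, 14, 148498) (.node (.node .leaf (79632, 0, 13, 45915) .leaf) (79633, 0, 14, 191093) (.node .leaf (79634, 0, 16, 219945) .leaf))) (79635, 0, 16, 137695) (.node (.node (.node .leaf (79640, 0, 14, 101380) .leaf) (79641, 0, 14, 93282) (.node .leaf (79642, 0, 16, 242101) .leaf)) (79643, 0, 15, 125083) (.node (.node .leaf (79652, 0, 17, 116666) .leaf) (79653, 0, 18, 131961) (.node .leaf (79654, 0, 11, 143304) .leaf))))) (79655, 0, 16, 30438) (.node (.node (.node (.node (.node .leaf (79660, 0, 14, 77094) .leaf) (79661, 0, 16, 226312) (.node .leaf (79662, 0, 15, 181588) .leaf)) (79663, 0, 16, 95940) (.node (.node .leaf (79668, 0, 16, 241996) .leaf) (79669, 0, 8, 125026) (.node .leaf (79670, 0, 17, 117615) .leaf))) (79671, 0, 16, 131088) (.node (.node (.node .leaf (79676, 0, 17, 220112) .leaf) (79677, 0, 15, 66302) (.node .leaf (79678, 0, 15, 257783) .leaf)) (79679, 0, 17, 191116) (.node (.node .leaf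 (79684, 0, 13, 57914) .leaf) (79685, 0, 17, 156170) (.node .leaf (79686, 0, 15, 250441) .leaf)))) (79687, 0, 15, 86886) (.node (.node (.node (.node .leaf (79692, 0, 17, 42996) .leaf) (79693, 0, 16, 18322) (.node .leaf (79694, 0, 15, 254164) .leaf)) (79695, 0, 18, 71607) (.node (.node .leaf (79700, 0, 14, 169164) .leaf) (79701, 0, 16, 6751) (.node .leaf (79702, 0, 16, 109084) .leaf))) (79703, 0, 17, 84602) (.node (.node (.node .leaf (79708, 0, 12, 188321) .leaf) (79709, 0, 17, 147399) (.node .leaf (79710, 0, 18, 103970) .leaf)) (79711, 0, 15, 225250) (.node (.node .leaf (79712, 0, 17, 253997) .leaf) (79713, 0, 16, 86236) .leaf)))))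

/-- part of the orbit tree -/
def itp2_213 : Tree := (.node itp2_209 (79334, 0, 17, 115207) itp2_210)

/-- part of the orbit tree -/
def itp2_214 : Tree := (.node itp2_211 (79591, 0, 18, 68772) itp2_212)

/-- part of the orbit tree -/
def itp2_215 : Tree := (.node itp2_207 (78951, 0, 14, 243678) itp2_208)

/-- part of the orbit tree -/
def itp2_216 : Tree := (.node itp2_213 (79463, 0, 16, 51599) itp2_214)

/-- part of the orbit tree -/
def itp2_217 : Tree := (.node itp2_201 (78184, 0, 16, 617) itp2_202)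

/-- part of the orbit tree -/
def itp2_218 : Tree := (.node itp2_215 (79206, 0, 15, 160366) itp2_216)

/-- part of the orbit tree -/
def itp2_219 : Tree := (.node (.node (.node (.node (.node (.node .leaf (79715, 0, 16, 151921) .leaf) (79720, 0, 16, 234786) (.node .leaf (79721, 0, 14, 86943) .leaf)) (79722, 0, 15, 181511) (.node (.node .leaf (79723, 0, 16, 140641) .leaf) (79728, 0, 16, 248047) (.node .leaf (79729, 0, 15, 249845) .leaf))) (79730, 0, 12, 170186) (.node (.node (.node .leaf (79731, 0, 16, 10119) .leaf) (79736, 0, 17, 126327) (.node .leaf (79737, 0, 11, 68881) .leaf)) (79738, 0, 16, 48466) (.node (.node .leaf (79739, 0, 15, 23860) .leaf) (79744, 0, 15, 214723) (.node .leaf (79745, 0, 15, 208106) .leaf)))) (79746, 0, 16, 136934) (.node (.node (.node (.node .leaf (79747, 0, 16, 194176) .leaf) (79752, 0, 14, 90971) (.node .leaf (79753, 0, 14, 247414) .leaf)) (79754, 0, 15, 13182) (.node (.node .leaf (79755, 0, 11, 11780) .leaf) (79760, 0, 16, 197426) (.node .leaf (79761, 0, 17, 122608) .leaf)))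 (79762, 0, 16, 28339) (.node (.node (.node .leaf (79763, 0, 13, 36565) .leaf) (79768, 0, 14, 203534) (.node .leaf (79769, 0, 17, 260968) .leaf)) (79770, 0, 15, 150315) (.node (.node .leaf (79771, 0, 12, 174925) .leaf) (79780, 0, 14, 161747) (.node .leaf (79781, 0, 17, 38003) .leaf))))) (79782, 0, 14, 74800) (.node (.node (.node (.node (.node .leaf (79783, 0, 14, 247439) .leaf) (79788, 0, 16, 171343) (.node .leaf (79789, 0, 17, 176619) .leaf)) (79790, 0, 16, 95549) (.node (.node .leaf (79791, 0, 17, 207891) .leaf) (79796, 0, 17, 293) (.node .leaf (79797, 0, 18, 191526) .leaf))) (79798, 0, 13, 256343) (.node (.node (.node .leaf (79799, 0, 13, 110713) .leaf) (79804, 0, 16, 10712) (.node .leaf (79805, 0, 13, 51646) .leaf)) (79806, 0, 16, 197579) (.node (.node .leaf (79807, 0, 15, 104859) .leaf) (79812, 0, 17, 5478) (.node .leaf (79813, 0, 16, 68477) .leaf)))) (79814, 0, 18, 83267) (.node (.node (.node (.node .leaf (79815, 0, 16, 107813) .leaf) (79820, 0, 16, 143614) (.node .leaf (79821, 0, 15, 184472)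 .leaf)) (79822, 0, 15, 20669) (.node (.node .leaf (79823, 0, 18, 229565) .leaf) (79828, 0, 15, 74917) (.node .leaf (79829, 0, 13, 167253) .leaf))) (79830, 0, 14, 212246) (.node (.node (.node .leaf (79831, 0, 15, 253296) .leaf) (79836, 0, 13, 118329) (.node .leaf (79837, 0, 18, 43213) .leaf)) (79838, 0, 16, 71822) (.node (.node .leaf (79839, 0, 14, 129256) .leaf) (79840, 0, 18, 20548) (.node .leaf (79841, 0, 17, 133482) .leaf))))))

/-- part of the orbit tree -/
def itp2_220 : Tree := (.node (.node (.node (.node (.node (.node .leaf (79843, 0, 15, 123160) .leaf) (79848, 0, 17, 66088) (.node .leaf (79849, 0, 17, 189430) .leaf)) (79850, 0, 17, 21005) (.node (.node .leaf (79851, 0, 14, 45675) .leaf) (79856, 0, 14, 90085) (.node .leaf (79857, 0, 14, 32668) .leaf))) (79858, 0, 17, 4032) (.node (.node (.node .leaf (79859, 0, 17, 235502) .leaf) (79864, 0, 19, 227965) (.node .leaf (79865, 0, 14, 236059) .leaf)) (79866, 0, 15, 141912) (.node (.node .leaf (79867, 0, 15, 182846) .leaf) (79872, 0, 16, 94121) (.node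 .leaf (79875, 0, 16, 57077) .leaf)))) (79876, 0, 15, 66138) (.node (.node (.node (.node .leaf (79879, 0, 13, 45593) .leaf) (79880, 0, 15, 99637) (.node .leaf (79883, 0, 17, 175778) .leaf)) (79884, 0, 17, 206786) (.node (.node .leaf (79887, 0, 13, 169857) .leaf) (79888, 0, 13, 213804) (.node .leaf (79891, 0, 15, 193391) .leaf))) (79892, 0, 13, 91714) (.node (.node (.node .leaf (79895, 0, 18, 182860) .leaf) (79896, 0, 17, 259011) (.node .leaf (79899, 0, 17, 55031) .leaf)) (79900, 0, 17, 90007) (.node (.node .leaf (79903, 0, 17, 15746) .leaf) (79905, 0, 15, 150413) (.node .leaf (79906, 0, 16, 221353) .leaf))))) (79909, 0, 15, 190921) (.node (.node (.node (.node (.node .leaf (79910, 0, 17, 99788) .leaf) (79913, 0, 17, 172305) (.node .leaf (79914, 0, 17, 83249) .leaf)) (79917, 0, 16, 56844) (.node (.node .leaf (79918, 0, 14, 94032) .leaf) (79921, 0, 18, 43199) (.node .leaf (79922, 0, 15, 101415) .leaf))) (79925, 0, 18, 148070) (.node (.node (.node .leaf (79926, 0, 16, 74207) .leaf) (79929, 0, 16, 167207)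 (.node .leaf (79930, 0, 16, 91835) .leaf)) (79933, 0, 14, 174330) (.node (.node .leaf (79934, 0, 16, 197703) .leaf) (79937, 0, 7, 224781) (.node .leaf (79938, 0, 16, 188241) .leaf)))) (79941, 0, 15, 166074) (.node (.node (.node (.node .leaf (79942, 0, 15, 41036) .leaf) (79945, 0, 15, 230545) (.node .leaf (79946, 0, 15, 74818) .leaf)) (79949, 0, 17, 129932) (.node (.node .leaf (79950, 0, 14, 19152) .leaf) (79953, 0, 16, 71931) (.node .leaf (79954, 0, 17, 96655) .leaf))) (79957, 0, 18, 61679) (.node (.node (.node .leaf (79958, 0, 19, 186042) .leaf) (79961, 0, 14, 127591) (.node .leaf (79962, 0, 16, 220183) .leaf)) (79965, 0, 16, 232826) (.node (.node .leaf (79966, 0, 17, 222516) .leaf) (79968, 0, 17, 88586) (.node .leaf (79971, 0, 18, 129909) .leaf))))))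

/-- part of the orbit tree -/
def itp2_221 : Tree := (.node (.node (.node (.node (.node (.node .leaf (79975, 0, 13, 54122) .leaf) (79976, 0, 17, 41141) (.node .leaf (79979, 0, 12, 70121) .leaf)) (79980, 0, 12, 214705) (.node (.node .leaf (79983, 0, 13, 225012) .leaf) (79984, 0, 16, 205407) (.node .leaf (79987, 0, 17, 232835) .leaf))) (79988, 0, 18, 203644) (.node (.node (.node .leaf (79991, 0, 15, 127646) .leaf) (79992, 0, 18, 185923) (.node .leaf (79995, 0, 17, 46980) .leaf)) (79996, 0, 17, 81636) (.node (.node .leaf (79999, 0, 14, 36519) .leaf) (80000, 0, 15, 240755) (.node .leaf (80003, 0, 14, 224924) .leaf)))) (80004, 0, 11, 41181) (.node (.node (.node (.node .leaf (80007, 0, 13, 70017) .leaf) (80008, 0, 16, 144732) (.node .leaf (80011, 0, 18, 14760) .leaf)) (80012, 0, 16, 19009) (.node (.node .leaf (80015, 0, 14, 139) .leaf) (80016, 0, 19, 119846) (.node .leaf (80019, 0, 15, 25701) .leaf))) (80020, 0, 15, 185899) (.node (.node (.node .leaf (80023, 0, 17, 223095) .leaf) (80024, 0, 17, 17322)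 (.node .leaf (80027, 0, 14, 127734) .leaf)) (80028, 0, 16, 247965) (.node (.node .leaf (80031, 0, 16, 162014) .leaf) (80033, 0, 18, 18400) (.node .leaf (80034, 0, 10, 19128) .leaf))))) (80037, 0, 14, 230649) (.node (.node (.node (.node (.node .leaf (80038, 0, 17, 144805) .leaf) (80041, 0, 16, 70008) (.node .leaf (80042, 0, 17, 40996) .leaf)) (80045, 0, 12, 224869) (.node (.node .leaf (80046, 0, 16, 256792) .leaf) (80049, 0, 14, 232722) (.node .leaf (80050, 0, 16, 146510) .leaf))) (80053, 0, 17, 132758) (.node (.node (.node .leaf (80054, 0, 15, 17235) .leaf) (80057, 0, 17, 223118) (.node .leaf (80058, 0, 16, 186066) .leaf)) (80061, 0, 18, 8974) (.node (.node .leaf (80062, 0, 12, 43471) .leaf) (80065, 0, 14, 56932) (.node .leaf (80066, 0, 18, 104144) .leaf)))) (80069, 0, 15, 8112) (.node (.node (.node (.node .leaf (80070, 0, 16, 200741) .leaf) (80073, 0, 18, 13560) (.node .leaf (80074, 0, 13, 99748) .leaf)) (80077, 0, 16, 145960) (.node (.node .leaf (80078, 0, 18, 260793) .leaf) (80081, 0, 17, 155334)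 (.node .leaf (80082, 0, 15, 203214) .leaf))) (80085, 0, 17, 157669) (.node (.node (.node .leaf (80086, 0, 17, 91859) .leaf) (80089, 0, 18, 31582) (.node .leaf (80090, 0, 13, 117533) .leaf)) (80093, 0, 18, 17021) (.node (.node .leaf (80094, 0, 16, 101455) .leaf) (80096, 0, 13, 260672) (.node .leaf (80099, 0, 18, 163139) .leaf))))))

/-- part of the orbit tree -/
def itp2_222 : Tree := (.node (.node (.node (.node (.node (.node .leaf (80103, 0, 18, 13313) .leaf) (80104, 0, 16, 200924) (.node .leaf (80107, 0, 17, 172416) .leaf)) (80108, 0, 16, 119227) (.node (.node .leaf (80111, 0, 16, 25080) .leaf) (80112, 0, 18, 101558) (.node .leaf (80115, 0, 14, 15850) .leaf))) (80116, 0, 16, 258987) (.node (.node (.node .leaf (80119, 0, 15, 15413) .leaf) (80120, 0, 14, 233677) (.node .leaf (80123, 0, 16, 55158) .leaf)) (80124, 0, 15, 203063) (.node (.node .leaf (80127, 0, 17, 137645) .leaf) (80129, 0, 16, 162155) (.node .leaf (80130, 0, 15, 248104) .leaf)))) (80133, 0, 15, 110201) (.node (.node (.node (.node .leaf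 (80134, 0, 15, 258059) .leaf) (80137, 0, 16, 211960) (.node .leaf (80138, 0, 16, 126128) .leaf)) (80141, 0, 18, 26064) (.node (.node .leaf (80142, 0, 15, 120211) .leaf) (80145, 0, 13, 108434) (.node .leaf (80146, 0, 17, 110973) .leaf))) (80149, 0, 15, 252047) (.node (.node (.node .leaf (80150, 0, 15, 100446) .leaf) (80153, 0, 16, 140454) (.node .leaf (80154, 0, 17, 234725) .leaf)) (80157, 0, 15, 209427) (.node (.node .leaf (80158, 0, 18, 164687) .leaf) (80160, 0, 12, 103160) (.node .leaf (80163, 0, 15, 82972) .leaf))))) (80164, 0, 17, 109531) (.node (.node (.node (.node (.node .leaf (80167, 0, 11, 7064) .leaf) (80168, 0, 16, 8156) (.node .leaf (80171, 0, 17, 110208) .leaf)) (80172, 0, 14, 155841) (.node (.node .leaf (80175, 0, 14, 146944) .leaf) (80176, 0, 15, 256685) (.node .leaf (80179, 0, 18, 154350) .leaf))) (80180, 0, 18, 250766) (.node (.node (.node .leaf (80183, 0, 14, 85495) .leaf) (80184, 0, 18, 118581) (.node .leaf (80187, 0, 14, 252022) .leaf)) (80188, 0, 15, 5687) (.node (.node .leaf (80191,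 0, 16, 108395) .leaf) (80192, 0, 17, 127883) (.node .leaf (80195, 0, 15, 24988) .leaf)))) (80196, 0, 18, 241629) (.node (.node (.node (.node .leaf (80199, 0, 14, 138881) .leaf) (80200, 0, 11, 251411) (.node .leaf (80203, 0, 17, 35584) .leaf)) (80204, 0, 17, 257840) (.node (.node .leaf (80207, 0, 16, 155507) .leaf) (80208, 0, 17, 239158) (.node .leaf (80211, 0, 13, 146333) .leaf))) (80212, 0, 17, 242429) (.node (.node (.node .leaf (80215, 0, 15, 131774) .leaf) (80216, 0, 17, 110150) (.node .leaf (80219, 0, 17, 196086) .leaf)) (80220, 0, 14, 104293) (.node (.node .leaf (80223, 0, 13, 10022) .leaf) (80225, 0, 16, 193764) (.node .leaf (80226, 0, 17, 239707) .leaf))))))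

/-- part of the orbit tree -/
def itp2_223 : Tree := (.node itp2_219 (79842, 0, 16, 243766) itp2_220)

/-- part of the orbit tree -/
def itp2_224 : Tree := (.node itp2_221 (80100, 0, 18, 99677) itp2_222)

/-- part of the orbit tree -/
def itp2_225 : Tree := (.node (.node (.node (.node (.node (.node .leaf (80230, 0, 13, 80549) .leaf) (80233, 0, 17, 138872) (.node .leaf (80234, 0, 15, 241444) .leaf)) (80237, 0, 17, 1187) (.node (.node .leaf (80238, 0, 15, 111840) .leaf) (80241, 0, 13, 24653) (.node .leaf (80242, 0, 18, 118798) .leaf))) (80245, 0, 15, 195855) (.node (.node (.node .leaf (80246, 0, 12, 216147) .leaf) (80249, 0, 17, 26766) (.node .leaf (80250, 0, 19, 259478) .leaf)) (80253, 0, 15, 137107) (.node (.node .leaf (80254, 0, 17, 239311) .leaf) (80257, 0, 15, 61025) (.node .leaf (80258, 0, 16, 118865) .leaf)))) (80261, 0, 15, 55106) (.node (.node (.node (.node .leaf (80262, 0, 16, 241484) .leaf) (80265, 0, 13, 35729) (.node .leaf (80266, 0, 13, 228282) .leaf)) (80269, 0, 16, 193676) (.node (.node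 .leaf (80270, 0, 17, 214480) .leaf) (80273, 0, 17, 169524) (.node .leaf (80274, 0, 16, 206455) .leaf))) (80277, 0, 17, 175895) (.node (.node (.node .leaf (80278, 0, 13, 121274) .leaf) (80281, 0, 15, 195943) (.node .leaf (80282, 0, 17, 66543) .leaf)) (80285, 0, 11, 35471) (.node (.node .leaf (80286, 0, 14, 78630) .leaf) (80288, 0, 14, 198130) (.node .leaf (80291, 0, 13, 177585) .leaf))))) (80292, 0, 15, 80436) (.node (.node (.node (.node (.node .leaf (80295, 0, 15, 167058) .leaf) (80296, 0, 12, 241589) (.node .leaf (80299, 0, 17, 36905) .leaf)) (80300, 0, 14, 72009) (.node (.node .leaf (80303, 0, 15, 25076) .leaf) (80304, 0, 15, 97703) (.node .leaf (80307, 0, 9, 52708) .leaf))) (80308, 0, 17, 216258) (.node (.node (.node .leaf (80311, 0, 14, 195998) .leaf) (80312, 0, 17, 219199) (.node .leaf (80315, 0, 16, 190588) .leaf)) (80316, 0, 17, 239198) (.node (.node .leaf (80319, 0, 17, 136962) .leaf) (80320, 0, 14, 222337) (.node .leaf (80323, 0, 14, 185538) .leaf)))) (80324, 0, 15, 220578) (.node (.node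 (.node (.node .leaf (80327, 0, 16, 191969) .leaf) (80328, 0, 17, 166453) (.node .leaf (80331, 0, 15, 61786) .leaf)) (80332, 0, 16, 62760) (.node (.node .leaf (80335, 0, 19, 51321) .leaf) (80336, 0, 18, 5727) (.node .leaf (80339, 0, 15, 108291) .leaf))) (80340, 0, 16, 158018) (.node (.node (.node .leaf (80343, 0, 14, 251934) .leaf) (80344, 0, 16, 211276) (.node .leaf (80347, 0, 15, 166159) .leaf)) (80348, 0, 14, 196719) (.node (.node .leaf (80351, 0, 14, 176172) .leaf) (80353, 0, 15, 83085) (.node .leaf (80354, 0, 15, 81745) .leaf))))))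

/-- part of the orbit tree -/
def itp2_226 : Tree := (.node (.node (.node (.node (.node (.node .leaf (80358, 0, 13, 67186) .leaf) (80361, 0, 14, 110097) (.node .leaf (80362, 0, 16, 8013) .leaf)) (80365, 0, 10, 250124) (.node (.node .leaf (80366, 0, 15, 155728) .leaf) (80369, 0, 17, 209531) (.node .leaf (80370, 0, 16, 214788) .leaf))) (80373, 0, 16, 85350) (.node (.node (.node .leaf (80374, 0, 16, 64570) .leaf) (80377, 0, 17, 252135) (.node .leaf (80378, 0, 17, 90780) .leaf)) (80381, 0, 16, 108538) (.node (.node .leaf (80382, 0, 12, 5798) .leaf) (80386, 0, 17, 18220) (.node .leaf (80387, 0, 13, 42826) .leaf)))) (80390, 0, 16, 32271) (.node (.node (.node (.node .leaf (80391, 0, 15, 173252) .leaf) (80394, 0, 14, 157803) (.node .leaf (80395, 0, 16, 164562) .leaf)) (80398, 0, 19, 6006) (.node (.node .leaf (80399, 0, 12, 151128) .leaf) (80402, 0, 15, 147321) (.node .leaf (80403, 0, 18, 188191) .leaf))) (80406, 0, 15, 132698) (.node (.node (.node .leaf (80407, 0, 18, 190012) .leaf) (80410, 0, 17, 7837)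 (.node .leaf (80411, 0, 18, 149427) .leaf)) (80414, 0, 7, 156032) (.node (.node .leaf (80415, 0, 16, 14510) .leaf) (80416, 0, 16, 6031) (.node .leaf (80417, 0, 16, 151201) .leaf))))) (80420, 0, 15, 140767) (.node (.node (.node (.node (.node .leaf (80421, 0, 16, 12732) .leaf) (80424, 0, 17, 14692) (.node .leaf (80425, 0, 17, 173117) .leaf)) (80428, 0, 14, 71) (.node (.node .leaf (80429, 0, 16, 56096) .leaf) (80432, 0, 16, 25769) (.node .leaf (80433, 0, 12, 33999) .leaf))) (80436, 0, 14, 23946) (.node (.node (.node .leaf (80437, 0, 16, 149322) .leaf) (80440, 0, 13, 147761) (.node .leaf (80441, 0, 17, 53963) .leaf)) (80444, 0, 16, 62712) (.node (.node .leaf (80445, 0, 14, 170100) .leaf) (80448, 0, 17, 163215) (.node .leaf (80449, 0, 13, 224033) .leaf)))) (80452, 0, 17, 148652) (.node (.node (.node (.node .leaf (80453, 0, 17, 173258) .leaf) (80456, 0, 15, 120979) (.node .leaf (80457, 0, 17, 47217) .leaf)) (80460, 0, 13, 24884) (.node (.node .leaf (80461, 0, 17, 33106) .leaf) (80464, 0, 16, 1498) (.node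 .leaf (80465, 0, 16, 58812) .leaf))) (80468, 0, 17, 80868) (.node (.node (.node .leaf (80469, 0, 17, 56479) .leaf) (80472, 0, 15, 241253) (.node .leaf (80473, 0, 16, 180260) .leaf)) (80476, 0, 17, 137569) (.node (.node .leaf (80477, 0, 13, 194823) .leaf) (80482, 0, 17, 9823) (.node .leaf (80483, 0, 15, 130649) .leaf))))))

/-- part of the orbit tree -/
def itp2_227 : Tree := (.node (.node (.node (.node (.node (.node .leaf (80487, 0, 13, 229700) .leaf) (80490, 0, 18, 132039) (.node .leaf (80491, 0, 14, 189345) .leaf)) (80494, 0, 17, 146148) (.node (.node .leaf (80495, 0, 18, 224216) .leaf) (80498, 0, 15, 155146) (.node .leaf (80499, 0, 14, 231599) .leaf))) (80502, 0, 12, 241308) (.node (.node (.node .leaf (80503, 0, 17, 128946) .leaf) (80506, 0, 14, 80669) (.node .leaf (80507, 0, 18, 221747) .leaf)) (80510, 0, 15, 214016) (.node (.node .leaf (80511, 0, 15, 41687) .leaf) (80514, 0, 16, 78494) (.node .leaf (80515, 0, 16, 224176) .leaf)))) (80518, 0, 13, 216451) (.node (.node (.node (.node .leaf (80519,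 0, 18, 133475) .leaf) (80522, 0, 15, 120834) (.node .leaf (80523, 0, 17, 229676) .leaf)) (80526, 0, 18, 239391) (.node (.node .leaf (80527, 0, 15, 130609) .leaf) (80530, 0, 16, 43123) (.node .leaf (80531, 0, 16, 73030) .leaf))) (80534, 0, 16, 80757) (.node (.node (.node .leaf (80535, 0, 12, 221787) .leaf) (80538, 0, 15, 167403) (.node .leaf (80539, 0, 16, 128986) .leaf)) (80542, 0, 18, 119273) (.node (.node .leaf (80543, 0, 15, 152750) .leaf) (80544, 0, 15, 239590) (.node .leaf (80545, 0, 8, 130760) .leaf))))) (80548, 0, 12, 121083) (.node (.node (.node (.node (.node .leaf (80549, 0, 12, 229845) .leaf) (80552, 0, 15, 175726) (.node .leaf (80553, 0, 16, 70740) .leaf)) (80556, 0, 17, 169805) (.node (.node .leaf (80557, 0, 16, 161579) .leaf) (80560, 0, 17, 119056) (.node .leaf (80561, 0, 17, 231486) .leaf))) (80564, 0, 15, 182912) (.node (.node (.node .leaf (80565, 0, 14, 142054) .leaf) (80568, 0, 17, 80780) (.node .leaf (80569, 0, 14, 221858) .leaf)) (80572, 0, 16, 214161) (.node (.node .leaf (80573,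 0, 15, 73151) .leaf) (80576, 0, 15, 60037) (.node .leaf (80577, 0, 17, 56136) .leaf)))) (80580, 0, 17, 54182) (.node (.node (.node (.node .leaf (80581, 0, 16, 13248) .leaf) (80584, 0, 17, 157946) (.node .leaf (80585, 0, 15, 12756) .leaf)) (80588, 0, 15, 6119) (.node (.node .leaf (80589, 0, 12, 136792) .leaf) (80592, 0, 11, 62608) (.node .leaf (80593, 0, 17, 175550) .leaf))) (80596, 0, 17, 166797) (.node (.node (.node .leaf (80597, 0, 19, 53923) .leaf) (80600, 0, 14, 46920) (.node .leaf (80601, 0, 12, 149282) .leaf)) (80604, 0, 18, 36459) (.node (.node .leaf (80605, 0, 16, 14399) .leaf) (80610, 0, 16, 176469) (.node .leaf (80611, 0, 17, 151088) .leaf))))))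

/-- part of the orbit tree -/
def itp2_228 : Tree := (.node (.node (.node (.node (.node (.node .leaf (80615, 0, 17, 12589) .leaf) (80618, 0, 17, 64898) (.node .leaf (80619, 0, 17, 29867) .leaf)) (80622, 0, 12, 164511) (.node (.node .leaf (80623, 0, 14, 56241) .leaf) (80626, 0, 14, 51456) (.node .leaf (80627, 0, 17, 10598) .leaf))) (80630, 0, 16, 7925) (.node (.node (.node .leaf (80631, 0, 12, 149467) .leaf) (80634, 0, 15, 166772) (.node .leaf (80635, 0, 18, 53850) .leaf)) (80638, 0, 15, 62569) (.node (.node .leaf (80639, 0, 18, 144861) .leaf) (80640, 0, 3, 177533) (.node .leaf (80641, 0, 16, 152859) .leaf)))) (80644, 0, 13, 258683) (.node (.node (.node (.node .leaf (80645, 0, 17, 158776) .leaf) (80648, 0, 15, 92154) (.node .leaf (80649, 0, 15, 28803) .leaf)) (80652, 0, 17, 202983) (.node (.node .leaf (80653, 0, 12, 82377) .leaf) (80656, 0, 18, 52520) (.node .leaf (80657, 0, 12, 11598) .leaf))) (80660, 0, 13, 62475) (.node (.node (.node .leaf (80661, 0, 19, 5229) .leaf) (80664, 0, 15, 200972) (.node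 .leaf (80665, 0, 16, 84002) .leaf)) (80668, 0, 19, 184723) (.node (.node .leaf (80669, 0, 13, 143861) .leaf) (80674, 0, 15, 202782) (.node .leaf (80675, 0, 15, 3787) .leaf))))) (80678, 0, 16, 55182) (.node (.node (.node (.node (.node .leaf (80679, 0, 15, 212525) .leaf) (80682, 0, 18, 183093) (.node .leaf (80683, 0, 14, 109484) .leaf)) (80686, 0, 17, 193046) (.node (.node .leaf (80687, 0, 17, 251057) .leaf) (80690, 0, 14, 93928) (.node .leaf (80691, 0, 16, 210886) .leaf))) (80694, 0, 17, 201205) (.node (.node (.node .leaf (80695, 0, 17, 84187) .leaf) (80698, 0, 10, 45920) (.node .leaf (80699, 0, 15, 21254) .leaf)) (80702, 0, 17, 260969) (.node (.node .leaf (80703, 0, 16, 27173) .leaf) (80706, 0, 17, 36830) (.node .leaf (80707, 0, 15, 28600) .leaf)))) (80710, 0, 15, 17027) (.node (.node (.node (.node .leaf (80711, 0, 15, 22171) .leaf) (80714, 0, 16, 186114) (.node .leaf (80715, 0, 14, 150048) .leaf)) (80718, 0, 16, 168805) (.node (.node .leaf (80719, 0, 15, 192817) .leaf) (80722, 0, 15, 194443) (.node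 .leaf (80723, 0, 15, 135750) .leaf))) (80726, 0, 18, 183976) (.node (.node (.node .leaf (80727, 0, 16, 27995) .leaf) (80730, 0, 16, 41460) (.node .leaf (80731, 0, 13, 12917) .leaf)) (80734, 0, 14, 60208) (.node (.node .leaf (80735, 0, 15, 34759) .leaf) (80736, 0, 13, 185358) .leaf)))))

/-- part of the orbit tree -/
def itp2_229 : Tree := (.node itp2_225 (80357, 0, 18, 211856) itp2_226)

/-- part of the orbit tree -/
def itp2_230 : Tree := (.node itp2_227 (80614, 0, 17, 166006) itp2_228)

/-- part of the orbit tree -/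
def itp2_231 : Tree := (.node itp2_223 (79972, 0, 17, 144692) itp2_224)

/-- part of the orbit tree -/
def itp2_232 : Tree := (.node itp2_229 (80486, 0, 15, 8060) itp2_230)

/-- part of the orbit tree -/
def itp2_233 : Tree := (.node (.node (.node (.node (.node (.node .leaf (80740, 0, 16, 191789) .leaf) (80741, 0, 13, 36565) (.node .leaf (80744, 0, 15, 61846) .leaf)) (80745, 0, 15, 4592) (.node (.node .leaf (80748, 0, 16, 146791) .leaf) (80749, 0, 17, 25673) (.node .leaf (80752, 0, 9, 187920) .leaf))) (80753, 0, 17, 19517) (.node (.node (.node .leaf (80756, 0, 16, 41229) .leaf) (80757, 0, 15, 29982) (.node .leaf (80760, 0, 18, 166339) .leaf)) (80761, 0, 15, 28066) (.node (.node .leaf (80764, 0, 13, 176352) .leaf) (80765, 0, 16, 135871) (.node .leaf (80768, 0, 16, 146703) .leaf)))) (80769, 0, 18, 25633) (.node (.node (.node (.node .leaf (80772, 0, 15, 16914) .leaf) (80773, 0, 15, 64306) (.node .leaf (80776, 0, 14, 186259) .leaf)) (80777, 0, 14, 190345) (.node (.node .leaf (80780, 0, 16, 43150) .leaf)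 (80781, 0, 17, 188074) (.node .leaf (80784, 0, 15, 154146) .leaf))) (80785, 0, 16, 135895) (.node (.node (.node .leaf (80788, 0, 17, 144612) .leaf) (80789, 0, 17, 28106) (.node .leaf (80792, 0, 13, 32698) .leaf)) (80793, 0, 18, 40924) (.node (.node .leaf (80796, 0, 15, 18073) .leaf) (80797, 0, 17, 42751) (.node .leaf (80802, 0, 8, 162215) .leaf))))) (80803, 0, 15, 170433) (.node (.node (.node (.node (.node .leaf (80806, 0, 14, 147588) .leaf) (80807, 0, 16, 36420) (.node .leaf (80810, 0, 17, 17131) .leaf)) (80811, 0, 15, 138181) (.node (.node .leaf (80814, 0, 15, 25884) .leaf) (80815, 0, 16, 34170) (.node .leaf (80818, 0, 17, 188033) .leaf))) (80819, 0, 16, 57748) (.node (.node (.node .leaf (80822, 0, 18, 41372) .leaf) (80823, 0, 18, 55479) (.node .leaf (80826, 0, 16, 144413) .leaf)) (80827, 0, 15, 181260) (.node (.node .leaf (80830, 0, 16, 138569) .leaf) (80831, 0, 13, 195887) (.node .leaf (80834, 0, 17, 137428) .leaf)))) (80835, 0, 18, 194738) (.node (.node (.node (.node .leaf (80838, 0, 16, 139767)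 .leaf) (80839, 0, 17, 109508) (.node .leaf (80842, 0, 17, 92011) .leaf)) (80843, 0, 15, 56618) (.node (.node .leaf (80846, 0, 15, 1135) .leaf) (80847, 0, 16, 58377) (.node .leaf (80850, 0, 16, 24705) .leaf))) (80851, 0, 15, 107055) (.node (.node (.node .leaf (80854, 0, 17, 99356) .leaf) (80855, 0, 16, 47556) (.node .leaf (80858, 0, 14, 148761) .leaf)) (80859, 0, 18, 173439) (.node (.node .leaf (80862, 0, 13, 162874) .leaf) (80863, 0, 16, 210862) (.node .leaf (80864, 0, 15, 202895) .leaf))))))

/-- part of the orbit tree -/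
def itp2_234 : Tree := (.node (.node (.node (.node (.node (.node .leaf (80868, 0, 16, 92050) .leaf) (80869, 0, 18, 39489) (.node .leaf (80872, 0, 16, 157340) .leaf)) (80873, 0, 14, 165626) (.node (.node .leaf (80876, 0, 14, 155583) .leaf) (80877, 0, 16, 250912) (.node .leaf (80880, 0, 17, 93817) .leaf))) (80881, 0, 16, 187191) (.node (.node (.node .leaf (80884, 0, 15, 201060) .leaf) (80885, 0, 16, 84042) (.node .leaf (80888, 0, 15, 99557) .leaf)) (80889, 0, 15, 65199) (.node (.node .leaf (80892, 0, 16, 10218) .leaf) (80893, 0, 17, 107222) (.node .leaf (80897, 0, 16, 49591) .leaf)))) (80899, 0, 18, 102802) (.node (.node (.node (.node .leaf (80901, 0, 14, 148590) .leaf) (80903, 0, 4, 109596) (.node .leaf (80905, 0, 17, 53743) .leaf)) (80907, 0, 17, 242698) (.node (.node .leaf (80909, 0, 17, 187660) .leaf) (80911, 0, 15, 83584) (.node .leaf (80913, 0, 7, 178658) .leaf))) (80915, 0, 19, 256455) (.node (.node (.node .leaf (80917, 0, 14, 164033) .leaf) (80919, 0, 17, 250084) (.node .leaf (80921, 0, 17,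 40058) .leaf)) (80923, 0, 17, 85867) (.node (.node .leaf (80925, 0, 16, 55300) .leaf) (80927, 0, 17, 209014) (.node .leaf (80928, 0, 15, 207396) .leaf))))) (80930, 0, 14, 63269) (.node (.node (.node (.node (.node .leaf (80932, 0, 12, 90186) .leaf) (80934, 0, 16, 148258) (.node .leaf (80936, 0, 15, 259531) .leaf)) (80938, 0, 15, 7609) (.node (.node .leaf (80940, 0, 15, 79519) .leaf) (80942, 0, 17, 156324) (.node .leaf (80944, 0, 15, 86641) .leaf))) (80946, 0, 17, 596) (.node (.node (.node .leaf (80948, 0, 16, 202428) .leaf) (80950, 0, 14, 15223) (.node .leaf (80952, 0, 17, 227305) .leaf)) (80954, 0, 16, 158543) (.node (.node .leaf (80956, 0, 15, 216778) .leaf) (80958, 0, 15, 5202) (.node .leaf (80960, 0, 14, 146135) .leaf)))) (80962, 0, 18, 138098) (.node (.node (.node (.node .leaf (80964, 0, 18, 17866) .leaf) (80966, 0, 18, 241080) (.node .leaf (80968, 0, 16, 184395) .leaf)) (80970, 0, 17, 16106) (.node (.node .leaf (80972, 0, 18, 44886) .leaf) (80974, 0, 15, 214820) (.node .leaf (80976, 0, 16, 78594)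 .leaf))) (80978, 0, 18, 238675) (.node (.node (.node .leaf (80980, 0, 16, 144188) .leaf) (80982, 0, 18, 23044) (.node .leaf (80984, 0, 16, 202394) .leaf)) (80986, 0, 14, 216783) (.node (.node .leaf (80988, 0, 17, 208825) .leaf) (80990, 0, 15, 78290) (.node .leaf (80993, 0, 12, 73459) .leaf))))))

/-- part of the orbit tree -/
def itp2_235 : Tree := (.node (.node (.node (.node (.node (.node .leaf (80997, 0, 18, 221678) .leaf) (80999, 0, 15, 35228) (.node .leaf (81001, 0, 18, 128111) .leaf)) (81003, 0, 14, 251257) (.node (.node .leaf (81005, 0, 16, 232306) .leaf) (81007, 0, 15, 25344) (.node .leaf (81009, 0, 17, 223237) .leaf))) (81011, 0, 16, 32887) (.node (.node (.node .leaf (81013, 0, 17, 71448) .leaf) (81015, 0, 16, 242071) (.node .leaf (81017, 0, 17, 230041) .leaf)) (81019, 0, 18, 27371) (.node (.node .leaf (81021, 0, 16, 50218) .leaf) (81023, 0, 15, 136694) (.node .leaf (81025, 0, 18, 153277) .leaf)))) (81027, 0, 15, 25448) (.node (.node (.node (.node .leaf (81029, 0, 15, 128007) .leaf) (81031,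 0, 16, 138357) (.node .leaf (81033, 0, 15, 221574) .leaf)) (81035, 0, 12, 35316) (.node (.node .leaf (81037, 0, 15, 18950) .leaf) (81039, 0, 15, 194281) (.node .leaf (81041, 0, 16, 130540) .leaf))) (81043, 0, 15, 136606) (.node (.node (.node .leaf (81045, 0, 15, 6091) .leaf) (81047, 0, 16, 27267) (.node .leaf (81049, 0, 16, 134000) .leaf)) (81051, 0, 14, 196354) (.node (.node .leaf (81053, 0, 12, 143955) .leaf) (81055, 0, 15, 32799) (.node .leaf (81056, 0, 19, 44862) .leaf))))) (81058, 0, 15, 60683) (.node (.node (.node (.node (.node .leaf (81060, 0, 15, 99341) .leaf) (81062, 0, 16, 54312) (.node .leaf (81064, 0, 13, 235702) .leaf)) (81066, 0, 17, 241104) (.node (.node .leaf (81068, 0, 12, 146111) .leaf) (81070, 0, 17, 119501) (.node .leaf (81072, 0, 16, 186824) .leaf))) (81074, 0, 16, 78266) (.node (.node (.node .leaf (81076, 0, 16, 42709) .leaf) (81078, 0, 14, 175229) (.node .leaf (81080, 0, 14, 144212) .leaf)) (81082, 0, 18, 121638) (.node (.node .leaf (81084, 0, 15, 19529) .leaf) (81086, 0, 17,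 35301) (.node .leaf (81088, 0, 16, 121949) .leaf)))) (81090, 0, 18, 156364) (.node (.node (.node (.node .leaf (81092, 0, 17, 259491) .leaf) (81094, 0, 17, 46427) (.node .leaf (81096, 0, 15, 90146) .leaf)) (81098, 0, 15, 174560) (.node (.node .leaf (81100, 0, 14, 245990) .leaf) (81102, 0, 16, 168131) (.node .leaf (81104, 0, 17, 261192) .leaf))) (81106, 0, 18, 193581) (.node (.node (.node .leaf (81108, 0, 16, 236843) .leaf) (81110, 0, 14, 158503) (.node .leaf (81112, 0, 13, 202452) .leaf)) (81114, 0, 19, 65190) (.node (.node .leaf (81116, 0, 18, 92617) .leaf) (81118, 0, 14, 59542) (.node .leaf (81121, 0, 12, 175770) .leaf))))))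

/-- part of the orbit tree -/
def itp2_236 : Tree := (.node (.node (.node (.node (.node (.node .leaf (81125, 0, 14, 53639) .leaf) (81127, 0, 19, 220872) (.node .leaf (81129, 0, 16, 148486) .leaf)) (81131, 0, 13, 109684) (.node (.node .leaf (81133, 0, 13, 15131) .leaf) (81135, 0, 15, 250729) (.node .leaf (81137, 0, 18, 20379) .leaf))) (81139, 0, 16, 208926) (.node (.node (.node .leaf (81141, 0, 18, 30392) .leaf) (81143, 0, 16, 85763) (.node .leaf (81145, 0, 18, 13040) .leaf)) (81147, 0, 15, 252546) (.node (.node .leaf (81149, 0, 16, 151021) .leaf) (81151, 0, 18, 197381) (.node .leaf (81152, 0, 16, 165310) .leaf)))) (81154, 0, 13, 93644) (.node (.node (.node (.node .leaf (81156, 0, 18, 244358) .leaf) (81158, 0, 16, 201425) (.node .leaf (81160, 0, 17, 108093) .leaf)) (81162, 0, 14, 100176) (.node (.node .leaf (81164, 0, 15, 4159) .leaf) (81166, 0, 12, 260173) (.node .leaf (81168, 0, 16, 130032) .leaf))) (81170, 0, 17, 43989) (.node (.node (.node .leaf (81172, 0, 12, 166997) .leaf) (81174, 0, 19, 91175)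 (.node .leaf (81176, 0, 15, 253544) .leaf)) (81178, 0, 15, 258470) (.node (.node .leaf (81180, 0, 14, 157385) .leaf) (81182, 0, 17, 178030) (.node .leaf (81185, 0, 16, 26678) .leaf))))) (81187, 0, 16, 79891) (.node (.node (.node (.node (.node .leaf (81189, 0, 12, 253575) .leaf) (81191, 0, 12, 14069) (.node .leaf (81193, 0, 17, 150958) .leaf)) (81195, 0, 15, 172916) (.node (.node .leaf (81197, 0, 17, 160909) .leaf) (81199, 0, 18, 56425) (.node .leaf (81201, 0, 13, 135267) .leaf))) (81203, 0, 13, 213062) (.node (.node (.node .leaf (81205, 0, 13, 141632) .leaf) (81207, 0, 11, 227685) (.node .leaf (81209, 0, 16, 212464) .leaf)) (81211, 0, 19, 91614) (.node (.node .leaf (81213, 0, 15, 3288) .leaf) (81215, 0, 15, 89341) (.node .leaf (81217, 0, 16, 33818) .leaf)))) (81219, 0, 16, 224360) (.node (.node (.node (.node .leaf (81221, 0, 16, 195335) .leaf) (81223, 0, 17, 70517) (.node .leaf (81225, 0, 15, 28294) .leaf)) (81227, 0, 14, 228600) (.node (.node .leaf (81229, 0, 15, 136702) .leaf) (81231, 0, 14, 129513)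 (.node .leaf (81233, 0, 15, 160016) .leaf))) (81235, 0, 14, 72350) (.node (.node (.node .leaf (81237, 0, 18, 149555) .leaf) (81239, 0, 17, 222595) (.node .leaf (81241, 0, 15, 137328) .leaf)) (81243, 0, 17, 126978) (.node (.node .leaf (81245, 0, 17, 28075) .leaf) (81247, 0, 14, 81294) (.node .leaf (81248, 0, 15, 237630) .leaf))))))

/-- part of the orbit tree -/
def itp2_237 : Tree := (.node itp2_233 (80865, 0, 14, 41826) itp2_234)

/-- part of the orbit tree -/
def itp2_238 : Tree := (.node itp2_235 (81123, 0, 16, 223211) itp2_236)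

/-- part of the orbit tree -/
def itp2_239 : Tree := (.node (.node (.node (.node (.node (.node .leaf (81252, 0, 15, 252917) .leaf) (81254, 0, 16, 145233) (.node .leaf (81256, 0, 16, 215714) .leaf)) (81258, 0, 16, 38763) (.node (.node .leaf (81260, 0, 14, 130669) .leaf) (81262, 0, 16, 44616) (.node .leaf (81264, 0, 15, 105091) .leaf))) (81266, 0, 12, 51878) (.node (.node (.node .leaf (81268, 0, 19, 240085) .leaf) (81270, 0, 15, 16807) (.node .leaf (81272, 0, 17, 80980) .leaf)) (81274, 0, 13, 192318) (.node (.node .leaf (81276, 0, 15, 213833) .leaf) (81278, 0, 15, 43835) (.node .leaf (81280, 0, 14, 70831) .leaf)))) (81282, 0, 12, 187813) (.node (.node (.node (.node .leaf (81284, 0, 18, 77196) .leaf) (81286, 0, 15, 32169) (.node .leaf (81288, 0, 13, 209207) .leaf)) (81290, 0, 17, 155922) (.node (.node .leaf (81292, 0, 13, 237654) .leaf) (81294, 0, 13, 18468) (.node .leaf (81296, 0, 17, 213793) .leaf))) (81298, 0, 15, 43859) (.node (.node (.node .leaf (81300, 0, 16, 80956) .leaf) (81302, 0, 16, 132604)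 (.node .leaf (81304, 0, 15, 84322) .leaf)) (81306, 0, 15, 16847) (.node (.node .leaf (81308, 0, 16, 120480) .leaf) (81310, 0, 14, 8292) (.node .leaf (81313, 0, 17, 196412) .leaf))))) (81315, 0, 16, 129409) (.node (.node (.node (.node (.node .leaf (81317, 0, 18, 28398) .leaf) (81319, 0, 17, 231068) (.node .leaf (81321, 0, 17, 55972) .leaf)) (81323, 0, 16, 70429) (.node (.node .leaf (81325, 0, 13, 58247) .leaf) (81327, 0, 17, 111522) (.node .leaf (81329, 0, 12, 26373) .leaf))) (81331, 0, 14, 233335) (.node (.node (.node .leaf (81333, 0, 18, 137240) .leaf) (81335, 0, 16, 127082) (.node .leaf (81337, 0, 15, 36249) .leaf)) (81339, 0, 16, 258772) (.node (.node .leaf (81341, 0, 10, 170962) .leaf) (81343, 0, 15, 248823) (.node .leaf (81345, 0, 13, 210035) .leaf)))) (81347, 0, 15, 249450) (.node (.node (.node (.node .leaf (81349, 0, 18, 173932) .leaf) (81351, 0, 15, 172828) (.node .leaf (81353, 0, 17, 253679) .leaf)) (81355, 0, 14, 13981) (.node (.node .leaf (81357, 0, 18, 106994) .leaf) (81359, 0, 18, 119505)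 (.node .leaf (81361, 0, 15, 58906) .leaf))) (81363, 0, 19, 174839) (.node (.node (.node .leaf (81365, 0, 15, 57145) .leaf) (81367, 0, 15, 102172) (.node .leaf (81369, 0, 16, 108569) .leaf)) (81371, 0, 15, 147563) (.node (.node .leaf (81373, 0, 16, 195233) .leaf) (81375, 0, 17, 240260) (.node .leaf (81376, 0, 14, 4183) .leaf))))))

/-- part of the orbit tree -/
def itp2_240 : Tree := (.node (.node (.node (.node (.node (.node .leaf (81380, 0, 17, 159562) .leaf) (81382, 0, 18, 7386) (.node .leaf (81384, 0, 15, 64203) .leaf)) (81386, 0, 15, 131169) (.node (.node .leaf (81388, 0, 17, 223591) .leaf) (81390, 0, 17, 93604) (.node .leaf (81392, 0, 16, 200073) .leaf))) (81394, 0, 14, 155052) (.node (.node (.node .leaf (81396, 0, 15, 6588) .leaf) (81398, 0, 15, 258510) (.node .leaf (81400, 0, 14, 166973) .leaf)) (81402, 0, 16, 91215) (.node (.node .leaf (81404, 0, 16, 69938) .leaf) (81406, 0, 16, 203602) (.node .leaf (81408, 0, 16, 157553) .leaf)))) (81409, 0, 11, 15967) (.node (.node (.node (.node .leaf (81410,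 0, 15, 89476) .leaf) (81411, 0, 17, 114146) (.node .leaf (81412, 0, 18, 13442) .leaf)) (81413, 0, 16, 147778) (.node (.node .leaf (81414, 0, 15, 258078) .leaf) (81415, 0, 18, 99521) (.node .leaf (81416, 0, 17, 141369) .leaf))) (81417, 0, 16, 54467) (.node (.node (.node .leaf (81418, 0, 17, 227356) .leaf) (81419, 0, 18, 212145) (.node .leaf (81420, 0, 15, 62192) .leaf)) (81421, 0, 16, 175070) (.node (.node .leaf (81422, 0, 12, 213311) .leaf) (81423, 0, 16, 82860) (.node .leaf (81424, 0, 14, 4487) .leaf))))) (81425, 0, 17, 169362) (.node (.node (.node (.node (.node .leaf (81426, 0, 16, 206289) .leaf) (81427, 0, 17, 247223) (.node .leaf (81428, 0, 15, 159386) .leaf)) (81429, 0, 15, 14260) (.node (.node .leaf (81430, 0, 15, 204018) .leaf) (81431, 0, 14, 253894) (.node .leaf (81432, 0, 19, 64283) .leaf))) (81433, 0, 17, 172597) (.node (.node (.node .leaf (81434, 0, 17, 201577) .leaf) (81435, 0, 18, 122927) (.node .leaf (81436, 0, 15, 26959) .leaf)) (81437, 0, 14, 35113) (.node (.node .leaf (81438, 0, 16,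 80234) .leaf) (81439, 0, 17, 210266) (.node .leaf (81504, 0, 13, 213745) .leaf)))) (81505, 0, 12, 72671) (.node (.node (.node (.node .leaf (81506, 0, 17, 81143) .leaf) (81507, 0, 15, 193453) (.node .leaf (81508, 0, 17, 22001) .leaf)) (81509, 0, 17, 46487) (.node (.node .leaf (81510, 0, 14, 185758) .leaf) (81511, 0, 17, 36016) (.node .leaf (81512, 0, 15, 149834) .leaf))) (81513, 0, 17, 174380) (.node (.node (.node .leaf (81514, 0, 14, 203119) .leaf) (81515, 0, 17, 137521) (.node .leaf (81516, 0, 16, 120688) .leaf)) (81517, 0, 17, 233054) (.node (.node .leaf (81518, 0, 17, 147202) .leaf) (81519, 0, 17, 26156) (.node .leaf (81520, 0, 17, 78855) .leaf))))))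

/-- part of the orbit tree -/
def itp2_241 : Tree := (.node (.node (.node (.node (.node (.node .leaf (81522, 0, 15, 214178) .leaf) (81523, 0, 15, 34139) (.node .leaf (81524, 0, 16, 215834) .leaf)) (81525, 0, 17, 70196) (.node (.node .leaf (81526, 0, 16, 41832) .leaf) (81527, 0, 16, 237031) (.node .leaf (81528, 0, 16, 122523) .leaf))) (81529, 0, 12, 231349) (.node (.node (.node .leaf (81530, 0, 17, 145129) .leaf) (81531, 0, 14, 28615) (.node .leaf (81532, 0, 16, 237958) .leaf)) (81533, 0, 14, 59482) (.node (.node .leaf (81534, 0, 18, 18932) .leaf) (81535, 0, 15, 135386) (.node .leaf (81536, 0, 13, 120600) .leaf)))) (81537, 0, 17, 233014) (.node (.node (.node (.node .leaf (81538, 0, 17, 248462) .leaf) (81539, 0, 14, 207592) (.node .leaf (81540, 0, 18, 172936) .leaf)) (81541, 0, 16, 148462) (.node (.node .leaf (81542, 0, 17, 258989) .leaf) (81543, 0, 10, 137561) (.node .leaf (81544, 0, 18, 48947) .leaf))) (81545, 0, 16, 24405) (.node (.node (.node .leaf (81546, 0, 16, 126742) .leaf) (81547, 0, 15, 69488)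 (.node .leaf (81548, 0, 17, 213657) .leaf)) (81549, 0, 10, 72631) (.node (.node .leaf (81550, 0, 17, 120373) .leaf) (81551, 0, 14, 193477) (.node .leaf (81552, 0, 18, 58110) .leaf))))) (81553, 0, 17, 129216) (.node (.node (.node (.node (.node .leaf (81554, 0, 17, 111323) .leaf) (81555, 0, 18, 86717) (.node .leaf (81556, 0, 13, 122611) .leaf)) (81557, 0, 16, 15291) (.node (.node .leaf (81558, 0, 17, 145025) .leaf) (81559, 0, 17, 93086) (.node .leaf (81560, 0, 13, 182118) .leaf))) (81561, 0, 15, 141056) (.node (.node (.node .leaf (81562, 0, 12, 41728) .leaf) (81563, 0, 17, 195118) (.node .leaf (81564, 0, 14, 78959) .leaf)) (81565, 0, 17, 224577) (.node (.node .leaf (81566, 0, 18, 187421) .leaf) (81567, 0, 19, 216582) (.node .leaf (81632, 0, 17, 195544) .leaf)))) (81633, 0, 16, 138174) (.node (.node (.node (.node .leaf (81634, 0, 17, 240637) .leaf) (81635, 0, 14, 82884) (.node .leaf (81636, 0, 16, 167301) .leaf)) (81637, 0, 14, 54443) (.node (.node .leaf (81638, 0, 18, 91639) .leaf) (81639, 0, 14, 212185)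 (.node .leaf (81640, 0, 15, 6148) .leaf))) (81641, 0, 16, 147754) (.node (.node (.node .leaf (81642, 0, 14, 258166) .leaf) (81643, 0, 17, 108888) (.node .leaf (81644, 0, 17, 59235) .leaf)) (81645, 0, 15, 15927) (.node (.node .leaf (81646, 0, 15, 102251) .leaf) (81647, 0, 15, 87840) (.node .leaf (81648, 0, 16, 164974) .leaf))))))

/-- part of the orbit tree -/
def itp2_242 : Tree := (.node (.node (.node (.node (.node (.node .leaf (81650, 0, 17, 93212) .leaf) (81651, 0, 17, 78798) (.node .leaf (81652, 0, 16, 64371) .leaf)) (81653, 0, 17, 23240) (.node (.node .leaf (81654, 0, 10, 125579) .leaf) (81655, 0, 18, 68333) (.node .leaf (81656, 0, 18, 159474) .leaf))) (81657, 0, 15, 149107) (.node (.node (.node .leaf (81658, 0, 14, 99968) .leaf) (81659, 0, 17, 202326) (.node .leaf (81660, 0, 12, 171830) .leaf)) (81661, 0, 14, 163664) (.node (.node .leaf (81662, 0, 15, 260509) .leaf) (81663, 0, 12, 208757) (.node .leaf (81696, 0, 16, 42016) .leaf)))) (81697, 0, 16, 107702) (.node (.node (.node (.node .leaf (81698,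 0, 16, 5610) .leaf) (81699, 0, 16, 150724) (.node .leaf (81700, 0, 16, 98949) .leaf)) (81701, 0, 17, 252843) (.node (.node .leaf (81702, 0, 15, 158455) .leaf) (81703, 0, 15, 13273) (.node .leaf (81704, 0, 17, 202500) .leaf))) (81705, 0, 17, 85546) (.node (.node (.node .leaf (81706, 0, 18, 250269) .leaf) (81707, 0, 18, 173656) (.node .leaf (81708, 0, 14, 92185) .leaf)) (81709, 0, 13, 209207) (.node (.node .leaf (81710, 0, 18, 256190) .leaf) (81711, 0, 15, 55621) (.node .leaf (81712, 0, 18, 187509) .leaf))))) (81713, 0, 15, 250432) (.node (.node (.node (.node (.node .leaf (81714, 0, 18, 232528) .leaf) (81715, 0, 17, 14898) (.node .leaf (81716, 0, 17, 189782) .leaf)) (81717, 0, 17, 132400) (.node (.node .leaf (81718, 0, 16, 7169) .leaf) (81719, 0, 13, 148783) (.node .leaf (81720, 0, 17, 90610) .leaf))) (81721, 0, 18, 211164) (.node (.node (.node .leaf (81722, 0, 16, 109000) .leaf) (81723, 0, 17, 84398) (.node .leaf (81724, 0, 18, 49358) .leaf)) (81725, 0, 15, 8360) (.node (.node .leaf (81726, 0, 17,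 102635) .leaf) (81727, 0, 16, 94349) (.node .leaf (81728, 0, 16, 50515) .leaf)))) (81729, 0, 17, 33078) (.node (.node (.node (.node .leaf (81730, 0, 17, 77930) .leaf) (81731, 0, 17, 95504) (.node .leaf (81732, 0, 18, 42757) .leaf)) (81733, 0, 18, 7190) (.node (.node .leaf (81734, 0, 16, 216951) .leaf) (81735, 0, 16, 85043) (.node .leaf (81736, 0, 16, 144004) .leaf))) (81737, 0, 14, 27562) (.node (.node (.node .leaf (81738, 0, 18, 121590) .leaf) (81739, 0, 15, 217224) (.node .leaf (81740, 0, 17, 19865) .leaf)) (81741, 0, 18, 136375) (.node (.node .leaf (81742, 0, 15, 231885) .leaf) (81743, 0, 15, 223659) .leaf)))))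

/-- part of the orbit tree -/
def itp2_243 : Tree := (.node itp2_239 (81378, 0, 16, 260133) itp2_240)

/-- part of the orbit tree -/
def itp2_244 : Tree := (.node itp2_241 (81649, 0, 10, 56640) itp2_242)

/-- part of the orbit tree -/
def itp2_245 : Tree := (.node itp2_237 (80995, 0, 14, 194177) itp2_238)

/-- part of the orbit tree -/
def itp2_246 : Tree := (.node itp2_243 (81521, 0, 16, 193761) itp2_244)

/-- part of the orbit tree -/
def itp2_247 : Tree := (.node itp2_231 (80229, 0, 15, 139579) itp2_232)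

/-- part of the orbit tree -/
def itp2_248 : Tree := (.node itp2_245 (81250, 0, 15, 176883) itp2_246)

/-- part of the orbit tree -/
def itp2_249 : Tree := (.node itp2_217 (78693, 0, 15, 52202) itp2_218)

/-- part of the orbit tree -/
def itp2_250 : Tree := (.node itp2_247 (80737, 0, 16, 192968) itp2_248)

/-- part of the orbit tree -/
def itp2_251 : Tree := (.node itp2_187 (75626, 0, 12, 78006) itp2_188)

/-- part of the orbit tree -/
def itp2_252 : Tree := (.node itp2_249 (79714, 0, 16, 57503) itp2_250)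

/-- part of the orbit tree -/
def itp2_253 : Tree := (.node itp2_125 (69492, 0, 17, 150014) itp2_126)

/-- part of the orbit tree -/
def itp2_254 : Tree := (.node itp2_251 (77668, 0, 16, 2170) itp2_252)

/-- part of the orbit tree -/
def itp2_255 : Tree := (.node (.node (.node (.node (.node (.node .leaf (81745, 0, 14, 154976) .leaf) (81746, 0, 15, 214684) (.node .leaf (81747, 0, 18, 200005) .leaf)) (81748, 0, 13, 164901) (.node (.node .leaf (81749, 0, 17, 156739) .leaf) (81750, 0, 12, 250880) (.node .leaf (81751, 0, 16, 210022) .leaf))) (81752, 0, 14, 39070) (.node (.node (.node .leaf (81753, 0, 16, 138588) .leaf) (81754, 0, 13, 116923) (.node .leaf (81755, 0, 16, 75997) .leaf)) (81756, 0, 15, 146287) (.node (.node .leaf (81757, 0, 18, 25153) .leaf) (81758, 0, 15, 119581) (.node .leaf (81759, 0, 16, 70142) .leaf)))) (81824, 0, 17, 144170) (.node (.node (.node (.node .leaf (81825, 0, 15, 136415) .leaf) (81826, 0, 14, 221967) (.node .leaf (81827, 0, 15, 230249) .leaf)) (81828, 0, 17, 133641) (.node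 (.node .leaf (81829, 0, 18, 27586) .leaf) (81830, 0, 15, 121502) (.node .leaf (81831, 0, 18, 230320) .leaf))) (81832, 0, 14, 5810) (.node (.node (.node .leaf (81833, 0, 18, 63188) .leaf) (81834, 0, 17, 83607) (.node .leaf (81835, 0, 15, 108273) .leaf)) (81836, 0, 16, 186480) (.node (.node .leaf (81837, 0, 15, 33118) .leaf) (81838, 0, 16, 98228) (.node .leaf (81839, 0, 13, 223532) .leaf))))) (81840, 0, 16, 146183) (.node (.node (.node (.node (.node .leaf (81841, 0, 16, 25129) .leaf) (81842, 0, 12, 119669) (.node .leaf (81843, 0, 14, 129852) .leaf)) (81844, 0, 16, 17434) (.node (.node .leaf (81845, 0, 17, 37434) .leaf) (81846, 0, 19, 74361) (.node .leaf (81847, 0, 18, 128326) .leaf))) (81848, 0, 2, 184731) (.node (.node (.node .leaf (81849, 0, 17, 34997) .leaf) (81850, 0, 15, 80361) (.node .leaf (81851, 0, 16, 253604) .leaf)) (81852, 0, 17, 44678) (.node (.node .leaf (81853, 0, 13, 178082) .leaf) (81854, 0, 14, 214772) (.node .leaf (81855, 0, 17, 73690) .leaf)))) (81856, 0, 16, 92273) (.node (.node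 (.node (.node .leaf (81857, 0, 14, 209247) .leaf) (81858, 0, 14, 163843) (.node .leaf (81859, 0, 15, 254490) .leaf)) (81860, 0, 17, 202604) (.node (.node .leaf (81861, 0, 18, 166684) .leaf) (81862, 0, 17, 211807) (.node .leaf (81863, 0, 18, 252729) .leaf))) (81864, 0, 15, 99053) (.node (.node (.node .leaf (81865, 0, 14, 252867) .leaf) (81866, 0, 18, 75748) (.node .leaf (81867, 0, 17, 116610) .leaf)) (81868, 0, 13, 261616) (.node (.node .leaf (81869, 0, 16, 107742) .leaf) (81870, 0, 18, 73415) (.node .leaf (81871, 0, 17, 150700) .leaf))))))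

/-- part of the orbit tree -/
def itp2_256 : Tree := (.node (.node (.node (.node (.node (.node .leaf (81873, 0, 16, 51818) .leaf) (81874, 0, 18, 96809) (.node .leaf (81875, 0, 18, 105039) .leaf)) (81876, 0, 16, 4911) (.node (.node .leaf (81877, 0, 13, 62281) .leaf) (81878, 0, 16, 166376) (.node .leaf (81879, 0, 12, 53446) .leaf))) (81880, 0, 17, 259099) (.node (.node (.node .leaf (81881, 0, 17, 192498) .leaf) (81882, 0, 15, 7273) (.node .leaf (81883, 0, 16, 148807) .leaf)) (81884, 0, 18, 101126) (.node (.node .leaf (81885, 0, 17, 186065) .leaf) (81886, 0, 10, 222866) (.node .leaf (81887, 0, 17, 14938) .leaf)))) (81920, 0, 12, 2918) (.node (.node (.node (.node .leaf (81923, 0, 18, 119437) .leaf) (81925, 0, 17, 11605) (.node .leaf (81926, 0, 17, 105481) .leaf)) (81929, 0, 14, 178388) (.node (.node .leaf (81930, 0, 17, 199048) .leaf) (81932, 0, 17, 163445) (.node .leaf (81935, 0, 16, 208827) .leaf))) (81937, 0, 11, 9406) (.node (.node (.node .leaf (81938, 0, 15, 103906) .leaf) (81940, 0, 15, 653) (.node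 .leaf (81943, 0, 18, 111569) .leaf)) (81944, 0, 15, 169740) (.node (.node .leaf (81947, 0, 15, 102208) .leaf) (81949, 0, 15, 58950) (.node .leaf (81950, 0, 13, 196707) .leaf))))) (81952, 0, 17, 95852) (.node (.node (.node (.node (.node .leaf (81955, 0, 16, 50992) .leaf) (81957, 0, 18, 86111) (.node .leaf (81958, 0, 17, 131133) .leaf)) (81961, 0, 14, 247262) (.node (.node .leaf (81962, 0, 17, 7302) .leaf) (81964, 0, 16, 254957) (.node .leaf (81967, 0, 17, 152241) .leaf))) (81969, 0, 15, 127240) (.node (.node (.node .leaf (81970, 0, 16, 16715) .leaf) (81972, 0, 16, 75853) (.node .leaf (81975, 0, 17, 38926) .leaf)) (81976, 0, 18, 210166) (.node (.node .leaf (81979, 0, 17, 165045) .leaf) (81981, 0, 17, 257459) (.node .leaf (81982, 0, 14, 163177) .leaf)))) (81985, 0, 16, 256046) (.node (.node (.node (.node .leaf (81986, 0, 19, 244638) .leaf) (81988, 0, 16, 142577) (.node .leaf (81991, 0, 14, 164136) .leaf)) (81992, 0, 19, 47472) (.node (.node .leaf (81995, 0, 17, 67628) .leaf) (81997, 0, 16, 40771) (.node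 .leaf (81998, 0, 17, 77343) .leaf))) (82000, 0, 16, 140570) (.node (.node (.node .leaf (82003, 0, 16, 234566) .leaf) (82005, 0, 13, 131881) (.node .leaf (82006, 0, 16, 242293) .leaf)) (82009, 0, 17, 38568) (.node (.node .leaf (82010, 0, 15, 75764) .leaf) (82012, 0, 17, 45211) (.node .leaf (82015, 0, 17, 187621) .leaf))))))

/-- part of the orbit tree -/
def itp2_257 : Tree := (.node (.node (.node (.node (.node (.node .leaf (82018, 0, 16, 86936) .leaf) (82020, 0, 15, 217595) (.node .leaf (82023, 0, 14, 188583) .leaf)) (82024, 0, 17, 115834) (.node (.node .leaf (82027, 0, 16, 29990) .leaf) (82029, 0, 15, 196448) (.node .leaf (82030, 0, 15, 21269) .leaf))) (82032, 0, 18, 219152) (.node (.node (.node .leaf (82035, 0, 16, 248747) .leaf) (82037, 0, 15, 228899) (.node .leaf (82038, 0, 15, 201454) .leaf)) (82041, 0, 18, 48662) (.node (.node .leaf (82042, 0, 16, 69205) .leaf) (82044, 0, 14, 118161) (.node .leaf (82047, 0, 15, 31949) .leaf)))) (82048, 0, 16, 193988) (.node (.node (.node (.node .leaf (82051,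 0, 15, 133715) .leaf) (82053, 0, 17, 236860) (.node .leaf (82054, 0, 12, 142432) .leaf)) (82057, 0, 15, 67773) (.node (.node .leaf (82058, 0, 16, 98425) .leaf) (82060, 0, 16, 59775) (.node .leaf (82063, 0, 16, 40914) .leaf))) (82065, 0, 18, 234711) (.node (.node (.node .leaf (82066, 0, 15, 140683) .leaf) (82068, 0, 15, 46258) (.node .leaf (82071, 0, 15, 66801) .leaf)) (82072, 0, 16, 75621) (.node (.node .leaf (82075, 0, 18, 202826) .leaf) (82077, 0, 16, 65878) (.node .leaf (82078, 0, 19, 246031) .leaf))))) (82080, 0, 15, 130609) (.node (.node (.node (.node (.node .leaf (82083, 0, 16, 20082) .leaf) (82085, 0, 16, 75636) (.node .leaf (82086, 0, 18, 38711) .leaf)) (82089, 0, 17, 211919) (.node (.node .leaf (82090, 0, 15, 166796) .leaf) (82092, 0, 18, 254602) (.node .leaf (82095, 0, 18, 123608) .leaf))) (82097, 0, 16, 222722) (.node (.node (.node .leaf (82098, 0, 17, 185921) .leaf) (82100, 0, 15, 184302) (.node .leaf (82103, 0, 16, 229042) .leaf)) (82104, 0, 16, 107516) (.node (.node .leaf (82107, 0,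 15, 5055) .leaf) (82109, 0, 17, 31836) (.node .leaf (82110, 0, 16, 51962) .leaf)))) (82113, 0, 16, 113323) (.node (.node (.node (.node .leaf (82114, 0, 17, 53095) .leaf) (82116, 0, 16, 105624) (.node .leaf (82119, 0, 14, 5666) .leaf)) (82120, 0, 14, 244442) (.node (.node .leaf (82123, 0, 16, 178245) .leaf) (82125, 0, 17, 222111) (.node .leaf (82126, 0, 16, 171638) .leaf))) (82128, 0, 18, 103795) (.node (.node (.node .leaf (82131, 0, 15, 9263) .leaf) (82133, 0, 15, 111424) (.node .leaf (82134, 0, 18, 167441) .leaf)) (82137, 0, 13, 74473) (.node (.node .leaf (82138, 0, 17, 37546) .leaf) (82140, 0, 15, 129964) (.node .leaf (82143, 0, 16, 176558) .leaf))))))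

/-- part of the orbit tree -/
def itp2_258 : Tree := (.node (.node (.node (.node (.node (.node .leaf (82146, 0, 15, 95997) .leaf) (82148, 0, 16, 57746) (.node .leaf (82151, 0, 15, 86222) .leaf)) (82152, 0, 15, 160787) (.node (.node .leaf (82155, 0, 14, 65900) .leaf) (82157, 0, 17, 152096) (.node .leaf (82158, 0, 18, 120873) .leaf))) (82160, 0, 15, 60642) (.node (.node (.node .leaf (82163, 0, 17, 88357) .leaf) (82165, 0, 15, 13735) (.node .leaf (82166, 0, 14, 99812) .leaf)) (82169, 0, 16, 141596) (.node (.node .leaf (82170, 0, 14, 235871) .leaf) (82172, 0, 15, 163320) (.node .leaf (82175, 0, 18, 213018) .leaf)))) (82177, 0, 18, 177579) (.node (.node (.node (.node .leaf (82178, 0, 17, 168095) .leaf) (82180, 0, 13, 168856) (.node .leaf (82183, 0, 13, 149978) .leaf)) (82184, 0, 16, 1561) (.node (.node .leaf (82187, 0, 16, 21857) .leaf) (82189, 0, 16, 80999) (.node .leaf (82190, 0, 9, 35876) .leaf))) (82192, 0, 10, 112879) (.node (.node (.node .leaf (82195, 0, 17, 207663) .leaf) (82197, 0, 16, 90538)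 (.node .leaf (82198, 0, 19, 53737) .leaf)) (82201, 0, 17, 10689) (.node (.node .leaf (82202, 0, 16, 183634) .leaf) (82204, 0, 15, 4082) (.node .leaf (82207, 0, 14, 114350) .leaf))))) (82209, 0, 19, 11049) (.node (.node (.node (.node (.node .leaf (82210, 0, 18, 105322) .leaf) (82212, 0, 16, 62060) (.node .leaf (82215, 0, 12, 82479) .leaf)) (82216, 0, 18, 97043) (.node (.node .leaf (82219, 0, 15, 220820) .leaf) (82221, 0, 11, 89376) (.node .leaf (82222, 0, 15, 60540) .leaf))) (82224, 0, 16, 176922) (.node (.node (.node .leaf (82227, 0, 16, 153125) .leaf) (82229, 0, 14, 246090) (.node .leaf (82230, 0, 16, 252444) .leaf)) (82233, 0, 18, 30436) (.node (.node .leaf (82234, 0, 14, 116391) .leaf) (82236, 0, 18, 44961) (.node .leaf (82239, 0, 17, 50084) .leaf)))) (82240, 0, 14, 46095) (.node (.node (.node (.node .leaf (82243, 0, 18, 72319) .leaf) (82245, 0, 17, 37436) (.node .leaf (82246, 0, 17, 74592) .leaf)) (82249, 0, 15, 159682) (.node (.node .leaf (82250, 0, 17, 243425) .leaf) (82252, 0, 17, 177799) (.node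 .leaf (82255, 0, 16, 198340) .leaf))) (82257, 0, 15, 143887) (.node (.node (.node .leaf (82258, 0, 17, 229964) .leaf) (82260, 0, 16, 191306) (.node .leaf (82263, 0, 17, 68792) .leaf)) (82264, 0, 16, 141413) (.node (.node .leaf (82267, 0, 16, 235833) .leaf) (82269, 0, 17, 11956) (.node .leaf (82270, 0, 16, 106231) .leaf))))))

/-- part of the orbit tree -/
def itp2_259 : Tree := (.node itp2_255 (81872, 0, 15, 204423) itp2_256)

/-- part of the orbit tree -/
def itp2_260 : Tree := (.node itp2_257 (82145, 0, 14, 51105) itp2_258)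

/-- part of the orbit tree -/
def itp2_261 : Tree := (.node (.node (.node (.node (.node (.node .leaf (82275, 0, 16, 30809) .leaf) (82277, 0, 17, 126774) (.node .leaf (82278, 0, 17, 24170) .leaf)) (82281, 0, 19, 91191) (.node (.node .leaf (82282, 0, 14, 54388) .leaf) (82284, 0, 17, 220292) (.node .leaf (82287, 0, 13, 191960) .leaf))) (82289, 0, 16, 124637) (.node (.node (.node .leaf (82290, 0, 14, 22401) .leaf) (82292, 0, 16, 114926) (.node .leaf (82295, 0, 16, 29106) .leaf)) (82296, 0, 16, 218479) (.node (.node .leaf (82299, 0, 15, 189491) .leaf) (82301, 0, 13, 226140) (.node .leaf (82302, 0, 15, 169218) .leaf)))) (82305, 0, 16, 67010) (.node (.node (.node (.node .leaf (82306, 0, 18, 46238) .leaf) (82308, 0, 17, 74737) (.node .leaf (82311, 0, 16, 37549) .leaf)) (82312, 0, 12, 225832) (.node (.node .leaf (82315, 0, 15, 180843) .leaf) (82317, 0, 18, 240493) (.node .leaf (82318, 0, 16, 138030) .leaf))) (82320, 0, 18, 208869) (.node (.node (.node .leaf (82323, 0, 17, 39750) .leaf) (82325, 0, 17, 68649)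 (.node .leaf (82326, 0, 10, 48501) .leaf)) (82329, 0, 17, 125467) (.node (.node .leaf (82330, 0, 12, 23128) .leaf) (82332, 0, 15, 245659) (.node .leaf (82335, 0, 15, 33565) .leaf))))) (82337, 0, 16, 30920) (.node (.node (.node (.node (.node .leaf (82338, 0, 16, 117140) .leaf) (82340, 0, 17, 157030) (.node .leaf (82343, 0, 16, 126887) .leaf)) (82344, 0, 13, 183162) (.node (.node .leaf (82347, 0, 18, 227878) .leaf) (82349, 0, 17, 191817) (.node .leaf (82350, 0, 17, 69851) .leaf))) (82352, 0, 13, 22288) (.node (.node (.node .leaf (82355, 0, 18, 124492) .leaf) (82357, 0, 18, 64853) (.node .leaf (82358, 0, 18, 85270) .leaf)) (82361, 0, 16, 189602) (.node (.node .leaf (82362, 0, 17, 217517) .leaf) (82364, 0, 14, 145579) (.node .leaf (82367, 0, 16, 226253) .leaf)))) (82368, 0, 17, 197734) (.node (.node (.node (.node .leaf (82371, 0, 16, 177466) .leaf) (82373, 0, 18, 205397) (.node .leaf (82374, 0, 16, 218160) .leaf)) (82377, 0, 11, 63688) (.node (.node .leaf (82378, 0, 17, 84107) .leaf) (82380, 0, 17, 8589)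 (.node .leaf (82383, 0, 17, 102862) .leaf))) (82385, 0, 16, 42245) (.node (.node (.node .leaf (82386, 0, 17, 170722) .leaf) (82388, 0, 18, 31808) (.node .leaf (82391, 0, 18, 117763) .leaf)) (82392, 0, 18, 104460) (.node (.node .leaf (82395, 0, 17, 250040) .leaf) (82397, 0, 13, 178622) (.node .leaf (82398, 0, 18, 3939) .leaf))))))

/-- part of the orbit tree -/
def itp2_262 : Tree := (.node (.node (.node (.node (.node (.node .leaf (82403, 0, 15, 34432) .leaf) (82405, 0, 18, 126854) (.node .leaf (82406, 0, 17, 257539) .leaf)) (82409, 0, 18, 51934) (.node (.node .leaf (82410, 0, 14, 97154) .leaf) (82412, 0, 17, 207480) (.node .leaf (82415, 0, 17, 170555) .leaf))) (82417, 0, 18, 153268) (.node (.node (.node .leaf (82418, 0, 19, 138931) .leaf) (82420, 0, 15, 159879) (.node .leaf (82423, 0, 17, 246235) .leaf)) (82424, 0, 16, 58630) (.node (.node .leaf (82427, 0, 17, 87130) .leaf) (82429, 0, 17, 111179) (.node .leaf (82430, 0, 18, 94825) .leaf)))) (82434, 0, 17, 255544) (.node (.node (.node (.node .leaf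 (82435, 0, 17, 114454) .leaf) (82436, 0, 18, 160087) (.node .leaf (82437, 0, 17, 38907) .leaf)) (82440, 0, 15, 158502) (.node (.node .leaf (82441, 0, 17, 166720) .leaf) (82446, 0, 16, 95161) (.node .leaf (82447, 0, 17, 254534) .leaf))) (82448, 0, 15, 145131) (.node (.node (.node .leaf (82449, 0, 16, 185997) .leaf) (82454, 0, 16, 258003) (.node .leaf (82455, 0, 11, 245643) .leaf)) (82458, 0, 17, 82774) (.node (.node .leaf (82459, 0, 15, 205692) .leaf) (82460, 0, 13, 60733) (.node .leaf (82461, 0, 15, 51766) .leaf))))) (82466, 0, 18, 136558) (.node (.node (.node (.node (.node .leaf (82467, 0, 15, 193800) .leaf) (82468, 0, 15, 228456) (.node .leaf (82469, 0, 16, 236558) .leaf)) (82472, 0, 19, 104924) (.node (.node .leaf (82473, 0, 16, 246002) .leaf) (82478, 0, 18, 3763) (.node .leaf (82479, 0, 11, 153501) .leaf))) (82480, 0, 14, 198070) (.node (.node (.node .leaf (82481, 0, 17, 89240) .leaf) (82486, 0, 13, 21528) (.node .leaf (82487, 0, 12, 46206) .leaf)) (82490, 0, 15, 149667) (.node (.node .leaf (82491,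 0, 17, 174277) .leaf) (82492, 0, 16, 102455) (.node .leaf (82493, 0, 16, 248089) .leaf)))) (82496, 0, 17, 22208) (.node (.node (.node (.node .leaf (82497, 0, 15, 246878) .leaf) (82502, 0, 18, 150846) (.node .leaf (82503, 0, 15, 175448) .leaf)) (82506, 0, 13, 218158) (.node (.node .leaf (82507, 0, 16, 45539) .leaf) (82508, 0, 15, 80003) (.node .leaf (82509, 0, 15, 121061) .leaf))) (82514, 0, 14, 3144) (.node (.node (.node .leaf (82515, 0, 17, 233834) .leaf) (82516, 0, 20, 24363) (.node .leaf (82517, 0, 12, 99624) .leaf)) (82520, 0, 15, 227829) (.node (.node .leaf (82521, 0, 17, 37764) .leaf) (82526, 0, 17, 135411) (.node .leaf (82527, 0, 18, 192661) .leaf))))))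

/-- part of the orbit tree -/
def itp2_263 : Tree := (.node (.node (.node (.node (.node (.node .leaf (82529, 0, 12, 226020) .leaf) (82534, 0, 17, 48293) (.node .leaf (82535, 0, 11, 189835) .leaf)) (82538, 0, 18, 219760) (.node (.node .leaf (82539, 0, 15, 244246) .leaf) (82540, 0, 15, 144246) (.node .leaf (82541, 0, 16, 185104) .leaf))) (82546, 0, 18, 46414) (.node (.node (.node .leaf (82547, 0, 17, 255963) .leaf) (82548, 0, 17, 74273) (.node .leaf (82549, 0, 17, 228111) .leaf)) (82552, 0, 16, 243616) (.node (.node .leaf (82553, 0, 17, 37478) .leaf) (82558, 0, 18, 72454) (.node .leaf (82559, 0, 17, 129888) .leaf)))) (82562, 0, 17, 231825) (.node (.node (.node (.node .leaf (82563, 0, 13, 135039) .leaf) (82564, 0, 15, 188567) (.node .leaf (82565, 0, 16, 235536) .leaf)) (82568, 0, 17, 218303) (.node (.node .leaf (82569, 0, 18, 7242) .leaf) (82574, 0, 15, 181200) (.node .leaf (82575, 0, 14, 95564) .leaf))) (82576, 0, 17, 41441) (.node (.node (.node .leaf (82577, 0, 15, 16775) .leaf) (82582, 0, 16, 24506)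 (.node .leaf (82583, 0, 12, 75905) .leaf)) (82586, 0, 14, 182843) (.node (.node .leaf (82587, 0, 15, 37653) .leaf) (82588, 0, 16, 179546) (.node .leaf (82589, 0, 17, 66682) .leaf))))) (82594, 0, 13, 33380) (.node (.node (.node (.node (.node .leaf (82595, 0, 17, 225909) .leaf) (82596, 0, 13, 48180) (.node .leaf (82597, 0, 17, 68356) .leaf)) (82600, 0, 16, 141749) (.node (.node .leaf (82601, 0, 12, 202687) .leaf) (82606, 0, 16, 171743) (.node .leaf (82607, 0, 16, 163513) .leaf))) (82608, 0, 16, 46559) (.node (.node (.node .leaf (82609, 0, 15, 191729) .leaf) (82614, 0, 16, 181010) (.node .leaf (82615, 0, 14, 228254) .leaf)) (82618, 0, 15, 243505) (.node (.node .leaf (82619, 0, 18, 126495) .leaf) (82620, 0, 14, 139358) (.node .leaf (82621, 0, 17, 87753) .leaf)))) (82624, 0, 17, 255657) (.node (.node (.node (.node .leaf (82625, 0, 15, 86868) .leaf) (82630, 0, 17, 55860) (.node .leaf (82631, 0, 15, 10472) .leaf)) (82634, 0, 16, 58439) (.node (.node .leaf (82635, 0, 18, 179561) .leaf) (82636, 0, 16, 95016)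 (.node .leaf (82637, 0, 18, 217071) .leaf))) (82642, 0, 14, 170818) (.node (.node (.node .leaf (82643, 0, 10, 162596) .leaf) (82644, 0, 17, 258628) (.node .leaf (82645, 0, 19, 112236) .leaf)) (82648, 0, 16, 126719) (.node (.node .leaf (82649, 0, 18, 205805) .leaf) (82654, 0, 18, 60844) (.node .leaf (82655, 0, 15, 26527) .leaf))))))

/-- part of the orbit tree -/
def itp2_264 : Tree := (.node (.node (.node (.node (.node (.node .leaf (82657, 0, 16, 153761) .leaf) (82662, 0, 14, 250305) (.node .leaf (82663, 0, 12, 209319) .leaf)) (82666, 0, 15, 118138) (.node (.node .leaf (82667, 0, 15, 245859) .leaf) (82668, 0, 15, 3618) (.node .leaf (82669, 0, 16, 17434) .leaf))) (82674, 0, 17, 102583) (.node (.node (.node .leaf (82675, 0, 18, 94417) .leaf) (82676, 0, 15, 168520) (.node .leaf (82677, 0, 15, 6615) .leaf)) (82680, 0, 17, 189706) (.node (.node .leaf (82681, 0, 16, 155367) .leaf) (82686, 0, 18, 232460) (.node .leaf (82687, 0, 14, 248200) .leaf)))) (82688, 0, 10, 257226) (.node (.node (.node (.node .leaf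 (82689, 0, 15, 176263) .leaf) (82694, 0, 18, 165324) (.node .leaf (82695, 0, 15, 157098) .leaf)) (82698, 0, 15, 256839) (.node (.node .leaf (82699, 0, 14, 30993) .leaf) (82700, 0, 14, 127089) (.node .leaf (82701, 0, 13, 9478) .leaf))) (82706, 0, 18, 50362) (.node (.node (.node .leaf (82707, 0, 12, 208387) .leaf) (82708, 0, 15, 57410) (.node .leaf (82709, 0, 15, 85466) .leaf)) (82712, 0, 17, 241927) (.node (.node .leaf (82713, 0, 17, 217441) .leaf) (82718, 0, 17, 254636) (.node .leaf (82719, 0, 17, 113538) .leaf))))) (82720, 0, 16, 59199) (.node (.node (.node (.node (.node .leaf (82721, 0, 14, 249229) .leaf) (82726, 0, 15, 101945) (.node .leaf (82727, 0, 16, 93791) .leaf)) (82730, 0, 14, 169549) (.node (.node .leaf (82731, 0, 12, 226020) .leaf) (82732, 0, 14, 195460) (.node .leaf (82733, 0, 13, 88076) .leaf))) (82738, 0, 17, 2599) (.node (.node (.node .leaf (82739, 0, 15, 208681) .leaf) (82740, 0, 17, 173641) (.node .leaf (82741, 0, 18, 149039) .leaf)) (82744, 0, 13, 198857) (.node (.node .leaf (82745,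 0, 16, 23188) .leaf) (82750, 0, 18, 119796) (.node .leaf (82751, 0, 16, 50824) .leaf)))) (82754, 0, 17, 120425) (.node (.node (.node (.node .leaf (82755, 0, 16, 79375) .leaf) (82756, 0, 16, 49007) (.node .leaf (82757, 0, 18, 24329) .leaf)) (82760, 0, 14, 23487) (.node (.node .leaf (82761, 0, 16, 148402) .leaf) (82766, 0, 17, 117968) (.node .leaf (82767, 0, 15, 207540) .leaf))) (82768, 0, 18, 182229) (.node (.node (.node .leaf (82769, 0, 11, 138879) .leaf) (82774, 0, 16, 235295) (.node .leaf (82775, 0, 18, 227193) .leaf)) (82778, 0, 15, 116027) (.node (.node .leaf (82779, 0, 12, 93122) .leaf) (82780, 0, 16, 58018) .leaf)))))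

/-- part of the orbit tree -/
def itp2_265 : Tree := (.node itp2_261 (82400, 0, 15, 162156) itp2_262)

/-- part of the orbit tree -/
def itp2_266 : Tree := (.node itp2_263 (82656, 0, 14, 178375) itp2_264)

/-- part of the orbit tree -/
def itp2_267 : Tree := (.node itp2_259 (82017, 0, 15, 58331) itp2_260)

/-- part of the orbit tree -/
def itp2_268 : Tree := (.node itp2_265 (82528, 0, 13, 12237) itp2_266)

/-- part of the orbit tree -/
def itp2_269 : Tree := (.node (.node (.node (.node (.node (.node .leaf (82786, 0, 14, 140379) .leaf) (82787, 0, 17, 146938) (.node .leaf (82788, 0, 16, 242484) .leaf)) (82789, 0, 17, 125466) (.node (.node .leaf (82792, 0, 16, 75445) .leaf) (82793, 0, 17, 84039) (.node .leaf (82798, 0, 12, 49447) .leaf))) (82799, 0, 16, 190708) (.node (.node (.node .leaf (82800, 0, 15, 244447) .leaf) (82801, 0, 16, 71050) (.node .leaf (82806, 0, 17, 142768) .leaf)) (82807, 0, 18, 29854) (.node (.node .leaf (82810, 0, 16, 163921) .leaf) (82811, 0, 17, 155703) (.node .leaf (82812, 0,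 13, 256343) .leaf)))) (82813, 0, 18, 226928) (.node (.node (.node (.node .leaf (82816, 0, 16, 219584) .leaf) (82817, 0, 16, 65774) (.node .leaf (82822, 0, 15, 183983) .leaf)) (82823, 0, 12, 62112) (.node (.node .leaf (82826, 0, 19, 23342) .leaf) (82827, 0, 19, 192027) (.node .leaf (82828, 0, 15, 223099) .leaf))) (82829, 0, 16, 234863) (.node (.node (.node .leaf (82834, 0, 16, 152496) .leaf) (82835, 0, 12, 40554) (.node .leaf (82836, 0, 18, 211638) .leaf)) (82837, 0, 17, 252624) (.node (.node .leaf (82840, 0, 14, 116138) .leaf) (82841, 0, 17, 236676) (.node .leaf (82846, 0, 15, 21189) .leaf))))) (82847, 0, 12, 134123) (.node (.node (.node (.node (.node .leaf (82848, 0, 14, 159797) .leaf) (82849, 0, 15, 32228) (.node .leaf (82854, 0, 17, 242597) .leaf)) (82855, 0, 10, 125579) (.node (.node .leaf (82858, 0, 16, 75300) .leaf) (82859, 0, 16, 124398) (.node .leaf (82860, 0, 15, 45387) .leaf))) (82861, 0, 16, 36072) (.node (.node (.node .leaf (82866, 0, 15, 244302) .leaf) (82867, 0, 18, 112675) (.node .leaf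 (82868, 0, 16, 12611) .leaf)) (82869, 0, 17, 29711) (.node (.node .leaf (82872, 0, 17, 47264) .leaf) (82873, 0, 15, 183710) (.node .leaf (82878, 0, 13, 77775) .leaf)))) (82879, 0, 15, 238744) (.node (.node (.node (.node .leaf (82882, 0, 13, 59704) .leaf) (82883, 0, 13, 237829) (.node .leaf (82884, 0, 13, 97879) .leaf)) (82885, 0, 15, 206713) (.node (.node .leaf (82888, 0, 11, 13534) .leaf) (82889, 0, 18, 54456) (.node .leaf (82894, 0, 16, 163001) .leaf))) (82895, 0, 16, 9623) (.node (.node (.node .leaf (82896, 0, 16, 96188) .leaf) (82897, 0, 16, 35189) (.node .leaf (82902, 0, 15, 65557) .leaf)) (82903, 0, 16, 122995) (.node (.node .leaf (82906, 0, 14, 203950) .leaf) (82907, 0, 17, 11388) (.node .leaf (82908, 0, 14, 161192) .leaf))))))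

/-- part of the orbit tree -/
def itp2_270 : Tree := (.node (.node (.node (.node (.node (.node .leaf (82914, 0, 16, 103474) .leaf) (82915, 0, 14, 43760) (.node .leaf (82916, 0, 14, 861) .leaf)) (82917, 0, 15, 115702) (.node (.node .leaf (82920, 0, 15, 212779) .leaf) (82921, 0, 15, 53234) (.node .leaf (82926, 0, 16, 197043) .leaf))) (82927, 0, 18, 88221) (.node (.node (.node .leaf (82928, 0, 17, 2742) .leaf) (82929, 0, 17, 152472) (.node .leaf (82934, 0, 17, 105945) .leaf)) (82935, 0, 16, 191366) (.node (.node .leaf (82938, 0, 17, 5979) .leaf) (82939, 0, 16, 63293) (.node .leaf (82940, 0, 14, 171831) .leaf)))) (82941, 0, 17, 50713) (.node (.node (.node (.node .leaf (82945, 0, 18, 90044) .leaf) (82947, 0, 11, 51237) (.node .leaf (82948, 0, 17, 96655) .leaf)) (82950, 0, 13, 4448) (.node (.node .leaf (82952, 0, 16, 220670) .leaf) (82954, 0, 17, 1148) (.node .leaf (82957, 0, 15, 230587) .leaf))) (82959, 0, 16, 8783) (.node (.node (.node .leaf (82960, 0, 17, 196659) .leaf) (82962, 0, 16, 151574) (.node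 .leaf (82965, 0, 16, 252278) .leaf)) (82967, 0, 14, 166227) (.node (.node .leaf (82969, 0, 13, 246742) .leaf) (82971, 0, 16, 11172) (.node .leaf (82972, 0, 14, 72840) .leaf))))) (82974, 0, 18, 19629) (.node (.node (.node (.node (.node .leaf (82977, 0, 17, 8886) .leaf) (82979, 0, 16, 246736) (.node .leaf (82980, 0, 15, 1157) .leaf)) (82982, 0, 11, 203413) (.node (.node .leaf (82984, 0, 14, 22027) .leaf) (82986, 0, 15, 96630) (.node .leaf (82989, 0, 17, 36686) .leaf))) (82991, 0, 17, 122731) (.node (.node (.node .leaf (82992, 0, 12, 3438) .leaf) (82994, 0, 16, 255260) (.node .leaf (82997, 0, 16, 11101) .leaf)) (82999, 0, 19, 246575) (.node (.node .leaf (83001, 0, 16, 183864) .leaf) (83003, 0, 15, 87726) (.node .leaf (83004, 0, 16, 137085) .leaf)))) (83006, 0, 16, 94365) (.node (.node (.node (.node .leaf (83008, 0, 17, 220696) .leaf) (83010, 0, 18, 46698) (.node .leaf (83013, 0, 17, 183205) .leaf)) (83015, 0, 18, 36953) (.node (.node .leaf (83017, 0, 18, 55070) .leaf) (83019, 0, 15, 100155) (.node .leaf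 (83020, 0, 16, 3675) .leaf))) (83022, 0, 16, 140267) (.node (.node (.node .leaf (83025, 0, 15, 35539) .leaf) (83027, 0, 18, 39346) (.node .leaf (83028, 0, 11, 219123) .leaf)) (83030, 0, 13, 49025) (.node (.node .leaf (83032, 0, 19, 151341) .leaf) (83034, 0, 12, 141824) (.node .leaf (83037, 0, 17, 169576) .leaf))))))

/-- part of the orbit tree -/
def itp2_271 : Tree := (.node (.node (.node (.node (.node (.node .leaf (83040, 0, 17, 140050) .leaf) (83042, 0, 16, 18736) (.node .leaf (83045, 0, 15, 114768) .leaf)) (83047, 0, 14, 126291) (.node (.node .leaf (83049, 0, 15, 37024) .leaf) (83051, 0, 16, 227538) (.node .leaf (83052, 0, 13, 46739) .leaf))) (83054, 0, 17, 152971) (.node (.node (.node .leaf (83057, 0, 13, 229670) .leaf) (83059, 0, 14, 184579) (.node .leaf (83060, 0, 18, 219235) .leaf)) (83062, 0, 18, 133190) (.node (.node .leaf (83064, 0, 12, 83160) .leaf) (83066, 0, 18, 5373) (.node .leaf (83069, 0, 18, 39243) .leaf)))) (83071, 0, 17, 52664) (.node (.node (.node (.node .leaf (83073, 0, 17, 200458)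 .leaf) (83075, 0, 16, 67495) (.node .leaf (83076, 0, 16, 182758) .leaf)) (83078, 0, 19, 165482) (.node (.node .leaf (83080, 0, 16, 23655) .leaf) (83082, 0, 11, 39633) (.node .leaf (83085, 0, 14, 31316) .leaf))) (83087, 0, 17, 17300) (.node (.node (.node .leaf (83088, 0, 18, 104249) .leaf) (83090, 0, 18, 75903) (.node .leaf (83093, 0, 17, 190014) .leaf)) (83095, 0, 16, 7769) (.node (.node .leaf (83097, 0, 18, 29631) .leaf) (83099, 0, 17, 131810) (.node .leaf (83100, 0, 17, 232322) .leaf))))) (83102, 0, 18, 187303) (.node (.node (.node (.node (.node .leaf (83105, 0, 16, 1279) .leaf) (83107, 0, 12, 31405) (.node .leaf (83108, 0, 17, 242924) .leaf)) (83110, 0, 16, 23710) (.node (.node .leaf (83112, 0, 10, 180481) .leaf) (83114, 0, 15, 182559) (.node .leaf (83117, 0, 12, 67422) .leaf))) (83119, 0, 16, 192300) (.node (.node (.node .leaf (83120, 0, 17, 171212) .leaf) (83122, 0, 13, 249065) (.node .leaf (83125, 0, 14, 236340) .leaf)) (83127, 0, 14, 29510) (.node (.node .leaf (83129, 0, 15, 69301) .leaf) (83131,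 0, 16, 67863) (.node .leaf (83132, 0, 16, 32887) .leaf)))) (83134, 0, 16, 180468) (.node (.node (.node (.node .leaf (83136, 0, 15, 61041) .leaf) (83138, 0, 16, 120271) (.node .leaf (83141, 0, 16, 23727) .leaf)) (83143, 0, 14, 204848) (.node (.node .leaf (83145, 0, 18, 155075) .leaf) (83147, 0, 15, 200753) (.node .leaf (83148, 0, 16, 162800) .leaf))) (83150, 0, 18, 103298) (.node (.node (.node .leaf (83153, 0, 14, 49577) .leaf) (83155, 0, 17, 207323) (.node .leaf (83156, 0, 17, 59290) .leaf)) (83158, 0, 17, 200680) (.node (.node .leaf (83160, 0, 11, 55335) .leaf) (83162, 0, 14, 100354) (.node .leaf (83165, 0, 17, 152616) .leaf))))))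

/-- part of the orbit tree -/
def itp2_272 : Tree := (.node (.node (.node (.node (.node (.node .leaf (83168, 0, 15, 232991) .leaf) (83170, 0, 15, 162569) (.node .leaf (83173, 0, 18, 111944) .leaf)) (83175, 0, 13, 132991) (.node (.node .leaf (83177, 0, 15, 205001) .leaf) (83179, 0, 15, 51387) (.node .leaf (83180, 0, 10, 198394) .leaf))) (83182, 0, 14, 49793) (.node (.node (.node .leaf (83185, 0, 18, 71212) .leaf) (83187, 0, 16, 152785) (.node .leaf (83188, 0, 12, 118633) .leaf)) (83190, 0, 14, 160482) (.node (.node .leaf (83192, 0, 16, 200465) .leaf) (83194, 0, 16, 164855) (.node .leaf (83197, 0, 19, 207138) .leaf)))) (83199, 0, 16, 154290) (.node (.node (.node (.node .leaf (83200, 0, 13, 186898) .leaf) (83202, 0, 18, 231991) (.node .leaf (83205, 0, 14, 131927) .leaf)) (83207, 0, 17, 12080) (.node (.node .leaf (83209, 0, 14, 8172) .leaf) (83211, 0, 18, 178865) (.node .leaf (83212, 0, 16, 50857) .leaf))) (83214, 0, 15, 171138) (.node (.node (.node .leaf (83217, 0, 15, 249513) .leaf) (83219, 0, 17,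 9947) (.node .leaf (83220, 0, 16, 256154) .leaf)) (83222, 0, 17, 117569) (.node (.node .leaf (83224, 0, 15, 97563) .leaf) (83226, 0, 16, 251898) (.node .leaf (83229, 0, 14, 88872) .leaf))))) (83231, 0, 16, 200383) (.node (.node (.node (.node (.node .leaf (83232, 0, 15, 171131) .leaf) (83234, 0, 18, 33218) (.node .leaf (83237, 0, 15, 67746) .leaf)) (83239, 0, 16, 22663) (.node (.node .leaf (83241, 0, 16, 201753) .leaf) (83243, 0, 15, 247739) (.node .leaf (83244, 0, 17, 2554) .leaf))) (83246, 0, 17, 254344) (.node (.node (.node .leaf (83249, 0, 16, 215508) .leaf) (83251, 0, 14, 137713) (.node .leaf (83252, 0, 12, 169360) .leaf)) (83254, 0, 14, 97762) (.node (.node .leaf (83256, 0, 17, 101418) .leaf) (83258, 0, 17, 56335) (.node .leaf (83261, 0, 17, 9762) .leaf)))) (83263, 0, 17, 1354) (.node (.node (.node (.node .leaf (83265, 0, 17, 86258) .leaf) (83267, 0, 17, 133287) (.node .leaf (83268, 0, 16, 116454) .leaf)) (83270, 0, 12, 55698) (.node (.node .leaf (83272, 0, 14, 217959) .leaf) (83274, 0, 14, 47893)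 (.node .leaf (83277, 0, 16, 216137) .leaf))) (83279, 0, 15, 138348) (.node (.node (.node .leaf (83280, 0, 18, 248001) .leaf) (83282, 0, 14, 141183) (.node .leaf (83285, 0, 18, 201092) .leaf)) (83287, 0, 15, 147873) (.node (.node .leaf (83289, 0, 17, 68927) .leaf) (83291, 0, 13, 23834) (.node .leaf (83292, 0, 18, 119930) .leaf))))))

/-- part of the orbit tree -/
def itp2_273 : Tree := (.node itp2_269 (82909, 0, 12, 169422) itp2_270)

/-- part of the orbit tree -/
def itp2_274 : Tree := (.node itp2_271 (83167, 0, 16, 113754) itp2_272)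

/-- part of the orbit tree -/
def itp2_275 : Tree := (.node (.node (.node (.node (.node (.node .leaf (83297, 0, 16, 40415) .leaf) (83299, 0, 17, 226733) (.node .leaf (83300, 0, 14, 164418) .leaf)) (83302, 0, 15, 218014) (.node (.node .leaf (83304, 0, 16, 40697) .leaf) (83306, 0, 15, 118492) (.node .leaf (83309, 0, 17, 133214) .leaf))) (83311, 0, 16, 71577) (.node (.node (.node .leaf (83312, 0, 15, 49972) .leaf) (83314, 0, 15, 219765) (.node .leaf (83317, 0, 18, 6769) .leaf)) (83319, 0, 17, 228422) (.node (.node .leaf (83321, 0, 16, 132810) .leaf) (83323, 0, 11, 125383) (.node .leaf (83324, 0, 16, 188303) .leaf)))) (83326, 0, 15, 233386) (.node (.node (.node (.node .leaf (83328, 0, 13, 19736) .leaf) (83330, 0, 15, 73021) (.node .leaf (83333, 0, 13, 30507) .leaf)) (83335, 0, 15, 237401) (.node (.node .leaf (83337, 0, 15, 166118) .leaf) (83339, 0, 15, 252099) (.node .leaf (83340, 0, 14, 181401) .leaf))) (83342, 0, 11, 77035) (.node (.node (.node .leaf (83345, 0, 14, 32448) .leaf) (83347, 0, 15, 235186)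 (.node .leaf (83348, 0, 5, 22771) .leaf)) (83350, 0, 14, 241793) (.node (.node .leaf (83352, 0, 12, 183666) .leaf) (83354, 0, 16, 82160) (.node .leaf (83357, 0, 18, 191297) .leaf))))) (83359, 0, 16, 66355) (.node (.node (.node (.node (.node .leaf (83360, 0, 16, 214765) .leaf) (83362, 0, 15, 181344) (.node .leaf (83365, 0, 17, 68129) .leaf)) (83367, 0, 17, 189011) (.node (.node .leaf (83369, 0, 17, 99091) .leaf) (83371, 0, 9, 54070) (.node .leaf (83372, 0, 15, 244115) .leaf))) (83374, 0, 17, 20961) (.node (.node (.node .leaf (83377, 0, 16, 66506) .leaf) (83379, 0, 16, 36603) (.node .leaf (83380, 0, 14, 75257) .leaf)) (83382, 0, 19, 22462) (.node (.node .leaf (83384, 0, 17, 203552) .leaf) (83386, 0, 16, 150277) (.node .leaf (83389, 0, 16, 235083) .leaf)))) (83391, 0, 17, 32313) (.node (.node (.node (.node .leaf (83393, 0, 15, 151740) .leaf) (83395, 0, 16, 169949) (.node .leaf (83396, 0, 15, 204477) .leaf)) (83398, 0, 15, 106237) (.node (.node .leaf (83400, 0, 16, 66054) .leaf) (83402, 0, 16, 21027)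 (.node .leaf (83405, 0, 13, 121667) .leaf))) (83407, 0, 17, 35686) (.node (.node (.node .leaf (83408, 0, 13, 163684) .leaf) (83410, 0, 16, 104214) (.node .leaf (83413, 0, 14, 99982) .leaf)) (83415, 0, 13, 110885) (.node (.node .leaf (83417, 0, 15, 52438) .leaf) (83419, 0, 18, 205988) (.node .leaf (83420, 0, 16, 213872) .leaf))))))

/-- part of the orbit tree -/
def itp2_276 : Tree := (.node (.node (.node (.node (.node (.node .leaf (83425, 0, 17, 52237) .leaf) (83427, 0, 14, 50628) (.node .leaf (83428, 0, 9, 199557) .leaf)) (83430, 0, 18, 83309) (.node (.node .leaf (83432, 0, 14, 133619) .leaf) (83434, 0, 15, 219606) (.node .leaf (83437, 0, 17, 112695) .leaf))) (83439, 0, 17, 229523) (.node (.node (.node .leaf (83440, 0, 14, 152638) .leaf) (83442, 0, 12, 197659) (.node .leaf (83445, 0, 11, 205917) .leaf)) (83447, 0, 15, 253278) (.node (.node .leaf (83449, 0, 15, 37312) .leaf) (83451, 0, 15, 154030) (.node .leaf (83452, 0, 10, 18565) .leaf)))) (83454, 0, 16, 71840) (.node (.node (.node (.node .leaf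 (83456, 0, 15, 87062) .leaf) (83457, 0, 18, 111728) (.node .leaf (83458, 0, 18, 60364) .leaf)) (83459, 0, 16, 176866) (.node (.node .leaf (83468, 0, 17, 215213) .leaf) (83469, 0, 17, 249617) (.node .leaf (83470, 0, 17, 163405) .leaf))) (83471, 0, 12, 10083) (.node (.node (.node .leaf (83476, 0, 16, 202080) .leaf) (83477, 0, 16, 86907) (.node .leaf (83478, 0, 14, 57895) .leaf)) (83479, 0, 18, 178953) (.node (.node .leaf (83480, 0, 16, 68059) .leaf) (83481, 0, 15, 247546) (.node .leaf (83482, 0, 17, 161702) .leaf))))) (83483, 0, 16, 47512) (.node (.node (.node (.node (.node .leaf (83488, 0, 17, 155619) .leaf) (83489, 0, 18, 180101) (.node .leaf (83490, 0, 17, 200646) .leaf)) (83491, 0, 15, 257952) (.node (.node .leaf (83500, 0, 17, 60213) .leaf) (83501, 0, 17, 176667) (.node .leaf (83502, 0, 12, 70525) .leaf))) (83503, 0, 13, 127771) (.node (.node (.node .leaf (83508, 0, 14, 7829) .leaf) (83509, 0, 15, 11889) (.node .leaf (83510, 0, 16, 106285) .leaf)) (83511, 0, 17, 247299) (.node (.node .leaf (83512,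 0, 16, 131630) .leaf) (83513, 0, 17, 179184) (.node .leaf (83514, 0, 13, 217611) .leaf)))) (83515, 0, 13, 242285) (.node (.node (.node (.node .leaf (83524, 0, 18, 74793) .leaf) (83525, 0, 16, 228615) (.node .leaf (83526, 0, 15, 183387) .leaf)) (83527, 0, 16, 38261) (.node (.node .leaf (83528, 0, 17, 242088) .leaf) (83529, 0, 17, 125062) (.node .leaf (83530, 0, 17, 84781) .leaf))) (83531, 0, 15, 109387) (.node (.node (.node .leaf (83536, 0, 17, 18117) .leaf) (83537, 0, 14, 226540) (.node .leaf (83538, 0, 18, 71392) .leaf)) (83539, 0, 13, 40094) (.node (.node .leaf (83548, 0, 16, 154238) .leaf) (83549, 0, 15, 123245) (.node .leaf (83550, 0, 16, 199259) .leaf))))))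

/-- part of the orbit tree -/
def itp2_277 : Tree := (.node (.node (.node (.node (.node (.node .leaf (83556, 0, 13, 68678) .leaf) (83557, 0, 17, 125984) (.node .leaf (83558, 0, 15, 242001) .leaf)) (83559, 0, 15, 125055) (.node (.node .leaf (83560, 0, 17, 200957) .leaf) (83561, 0, 17, 38284) (.node .leaf (83562, 0, 17, 74960) .leaf))) (83563, 0, 13, 228862) (.node (.node (.node .leaf (83568, 0, 15, 20680) .leaf) (83569, 0, 9, 240982) (.node .leaf (83570, 0, 14, 138517) .leaf)) (83571, 0, 17, 123284) (.node (.node .leaf (83580, 0, 17, 181577) .leaf) (83581, 0, 16, 111085) (.node .leaf (83582, 0, 18, 77115) .leaf)))) (83583, 0, 13, 57800) (.node (.node (.node (.node .leaf (83584, 0, 14, 246556) .leaf) (83585, 0, 16, 205690) (.node .leaf (83586, 0, 18, 220069) .leaf)) (83587, 0, 16, 66187) (.node (.node .leaf (83596, 0, 17, 140886) .leaf) (83597, 0, 15, 81857) (.node .leaf (83598, 0, 14, 118308) .leaf))) (83599, 0, 19, 235274) (.node (.node (.node .leaf (83604, 0, 17, 47676) .leaf) (83605, 0, 12, 189202)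 (.node .leaf (83606, 0, 16, 53839) .leaf)) (83607, 0, 16, 68448) (.node (.node .leaf (83608, 0, 13, 143293) .leaf) (83609, 0, 10, 30355) (.node .leaf (83610, 0, 15, 116687) .leaf))))) (83611, 0, 15, 142994) (.node (.node (.node (.node (.node .leaf (83616, 0, 16, 118493) .leaf) (83617, 0, 19, 10383) (.node .leaf (83618, 0, 18, 140975) .leaf)) (83619, 0, 17, 32641) (.node (.node .leaf (83628, 0, 13, 219996) .leaf) (83629, 0, 14, 66162) (.node .leaf (83630, 0, 17, 45870) .leaf))) (83631, 0, 15, 222225) (.node (.node (.node .leaf (83636, 0, 14, 116534) .leaf) (83637, 0, 15, 237080) (.node .leaf (83638, 0, 13, 252346) .leaf)) (83639, 0, 14, 30314) (.node (.node .leaf (83640, 0, 17, 217783) .leaf) (83641, 0, 16, 68505) (.node .leaf (83642, 0, 15, 47813) .leaf)))) (83643, 0, 18, 189419) (.node (.node (.node (.node .leaf (83652, 0, 17, 169024) .leaf) (83653, 0, 17, 52590) (.node .leaf (83654, 0, 15, 97330) .leaf)) (83655, 0, 14, 206108) (.node (.node .leaf (83656, 0, 16, 166914) .leaf) (83657, 0, 15, 158820)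 (.node .leaf (83658, 0, 16, 252967) .leaf))) (83659, 0, 18, 110749) (.node (.node (.node .leaf (83664, 0, 18, 171435) .leaf) (83665, 0, 14, 50309) (.node .leaf (83666, 0, 14, 229866) .leaf)) (83667, 0, 15, 208119) (.node (.node .leaf (83676, 0, 16, 2090) .leaf) (83677, 0, 15, 11538) (.node .leaf (83678, 0, 18, 254040) .leaf))))))

/-- part of the orbit tree -/
def itp2_278 : Tree := (.node (.node (.node (.node (.node (.node .leaf (83684, 0, 13, 236364) .leaf) (83685, 0, 13, 110692) (.node .leaf (83686, 0, 18, 183145) .leaf)) (83687, 0, 16, 142095) (.node (.node .leaf (83688, 0, 18, 100343) .leaf) (83689, 0, 17, 206309) (.node .leaf (83690, 0, 17, 169145) .leaf))) (83691, 0, 15, 52631) (.node (.node (.node .leaf (83696, 0, 18, 254113) .leaf) (83697, 0, 16, 113039) (.node .leaf (83698, 0, 16, 2259) .leaf)) (83699, 0, 18, 27257) (.node (.node .leaf (83708, 0, 19, 95520) .leaf) (83709, 0, 16, 206567) (.node .leaf (83710, 0, 15, 171346) .leaf)))) (83711, 0, 13, 50300) (.node (.node (.node (.node .leaf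 (83716, 0, 11, 184129) .leaf) (83717, 0, 15, 143143) (.node .leaf (83718, 0, 17, 160562) .leaf)) (83719, 0, 15, 229122) (.node (.node .leaf (83720, 0, 14, 200385) .leaf) (83721, 0, 15, 13212) (.node .leaf (83722, 0, 19, 99295) .leaf))) (83723, 0, 18, 180125) (.node (.node (.node .leaf (83728, 0, 15, 36407) .leaf) (83729, 0, 18, 28241) (.node .leaf (83730, 0, 15, 162521) .leaf)) (83731, 0, 16, 9207) (.node (.node .leaf (83740, 0, 16, 198442) .leaf) (83741, 0, 16, 160490) (.node .leaf (83742, 0, 16, 61272) .leaf))))) (83743, 0, 17, 177782) (.node (.node (.node (.node (.node .leaf (83748, 0, 18, 58954) .leaf) (83749, 0, 17, 180068) (.node .leaf (83750, 0, 15, 38033) .leaf)) (83751, 0, 15, 87830) (.node (.node .leaf (83752, 0, 15, 251919) .leaf) (83753, 0, 16, 211049) (.node .leaf (83754, 0, 16, 105401) .leaf))) (83755, 0, 15, 246423) (.node (.node (.node .leaf (83760, 0, 15, 61345) .leaf) (83761, 0, 16, 222628) (.node .leaf (83762, 0, 16, 185831) .leaf)) (83763, 0, 18, 89853) (.node (.node .leaf (83772,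 0, 16, 104825) .leaf) (83773, 0, 17, 96543) (.node .leaf (83774, 0, 16, 102994) .leaf)))) (83775, 0, 17, 10554) (.node (.node (.node (.node .leaf (83776, 0, 14, 105700) .leaf) (83777, 0, 11, 124409) (.node .leaf (83778, 0, 17, 21669) .leaf)) (83779, 0, 13, 134539) (.node (.node .leaf (83788, 0, 18, 76118) .leaf) (83789, 0, 18, 225400) (.node .leaf (83790, 0, 13, 180516) .leaf))) (83791, 0, 17, 143388) (.node (.node (.node .leaf (83796, 0, 13, 253330) .leaf) (83797, 0, 17, 125970) (.node .leaf (83798, 0, 15, 167351) .leaf)) (83799, 0, 18, 132192) (.node (.node .leaf (83800, 0, 14, 73917) .leaf) (83801, 0, 8, 74063) .leaf)))))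

/-- part of the orbit tree -/
def itp2_279 : Tree := (.node itp2_275 (83422, 0, 16, 197271) itp2_276)

/-- part of the orbit tree -/
def itp2_280 : Tree := (.node itp2_277 (83679, 0, 15, 97591) itp2_278)

/-- part of the orbit tree -/
def itp2_281 : Tree := (.node itp2_273 (83039, 0, 17, 247373) itp2_274)

/-- part of the orbit tree -/
def itp2_282 : Tree := (.node itp2_279 (83551, 0, 15, 133407) itp2_280)

/-- part of the orbit tree -/
def itp2_283 : Tree := (.node itp2_267 (82272, 0, 16, 116997) itp2_268)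

/-- part of the orbit tree -/
def itp2_284 : Tree := (.node itp2_281 (83294, 0, 16, 33887) itp2_282)

/-- part of the orbit tree -/
def itp2_285 : Tree := (.node (.node (.node (.node (.node (.node .leaf (83803, 0, 15, 29034) .leaf) (83808, 0, 16, 180701) (.node .leaf (83809, 0, 14, 161655) .leaf)) (83810, 0, 15, 247604) (.node (.node .leaf (83811, 0, 16, 206674) .leaf) (83820, 0, 13, 21596) (.node .leaf (83821, 0, 15, 27596) .leaf))) (83822, 0, 13, 244782) (.node (.node (.node .leaf (83823, 0, 7, 124160) .leaf) (83828, 0, 16, 54887) (.node .leaf (83829, 0, 15, 13825) .leaf)) (83830, 0, 17, 73796) (.node (.node .leaf (83831, 0, 15, 227690) .leaf) (83832, 0, 17, 183004) (.node .leaf (83833, 0, 16, 132249) .leaf)))) (83834, 0, 18, 243141) (.node (.node (.node (.node .leaf (83835, 0, 17, 126187) .leaf) (83844, 0, 17, 22603) (.node .leaf (83845, 0, 17, 29191) .leaf)) (83846, 0, 18, 115547) (.node (.node .leaf (83847, 0, 17, 236149) .leaf) (83848, 0, 12, 148720) (.node .leaf (83849, 0, 15, 173206) .leaf)))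 (83850, 0, 17, 218842) (.node (.node (.node .leaf (83851, 0, 15, 259251) .leaf) (83856, 0, 12, 139970) (.node .leaf (83857, 0, 13, 31724) .leaf)) (83858, 0, 17, 117424) (.node (.node .leaf (83859, 0, 17, 234398) .leaf) (83868, 0, 16, 1414) (.node .leaf (83869, 0, 17, 192109) .leaf))))) (83870, 0, 15, 87459) (.node (.node (.node (.node (.node .leaf (83871, 0, 15, 67103) .leaf) (83876, 0, 16, 218046) (.node .leaf (83877, 0, 17, 242648) .leaf)) (83878, 0, 13, 48721) (.node (.node .leaf (83879, 0, 15, 189437) .leaf) (83880, 0, 19, 115618) (.node .leaf (83881, 0, 16, 110435) .leaf))) (83882, 0, 16, 142288) (.node (.node (.node .leaf (83883, 0, 14, 29438) .leaf) (83888, 0, 19, 221128) (.node .leaf (83889, 0, 13, 127662) .leaf)) (83890, 0, 15, 17133) (.node (.node .leaf (83891, 0, 15, 192148) .leaf) (83900, 0, 17, 200307) (.node .leaf (83901, 0, 17, 257557) .leaf)))) (83902, 0, 15, 139835) (.node (.node (.node (.node .leaf (83903, 0, 16, 179760) .leaf) (83904, 0, 18, 3262) (.node .leaf (83905, 0, 16, 256904)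 .leaf)) (83906, 0, 13, 255180) (.node (.node .leaf (83907, 0, 17, 114146) .leaf) (83916, 0, 14, 170303) (.node .leaf (83917, 0, 16, 128819) .leaf))) (83918, 0, 14, 94541) (.node (.node (.node .leaf (83919, 0, 13, 206947) .leaf) (83924, 0, 15, 1365) (.node .leaf (83925, 0, 16, 154747) .leaf)) (83926, 0, 17, 6845) (.node (.node .leaf (83927, 0, 16, 64219) .leaf) (83928, 0, 17, 168148) (.node .leaf (83929, 0, 18, 51706) .leaf))))))

/-- part of the orbit tree -/
def itp2_286 : Tree := (.node (.node (.node (.node (.node (.node .leaf (83931, 0, 13, 205192) .leaf) (83936, 0, 13, 27) (.node .leaf (83937, 0, 16, 57469) .leaf)) (83938, 0, 14, 170438) (.node (.node .leaf (83939, 0, 14, 110680) .leaf) (83948, 0, 15, 255029) (.node .leaf (83949, 0, 16, 195782) .leaf))) (83950, 0, 16, 216197) (.node (.node (.node .leaf (83951, 0, 14, 240867) .leaf) (83956, 0, 17, 96351) (.node .leaf (83957, 0, 15, 172299) .leaf)) (83958, 0, 10, 167981) (.node (.node .leaf (83959, 0, 11, 258350) .leaf) (83960, 0, 16, 24022) (.node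 .leaf (83961, 0, 16, 48560) .leaf)))) (83962, 0, 14, 1452) (.node (.node (.node (.node .leaf (83963, 0, 16, 154754) .leaf) (83969, 0, 17, 137079) (.node .leaf (83970, 0, 12, 239147) .leaf)) (83973, 0, 17, 26730) (.node (.node .leaf (83974, 0, 16, 226772) .leaf) (83976, 0, 14, 42181) (.node .leaf (83979, 0, 15, 71065) .leaf))) (83980, 0, 18, 105) (.node (.node (.node .leaf (83983, 0, 16, 223876) .leaf) (83984, 0, 16, 145583) (.node .leaf (83987, 0, 12, 231923) .leaf)) (83988, 0, 18, 18354) (.node (.node .leaf (83991, 0, 17, 128750) .leaf) (83993, 0, 15, 35613) (.node .leaf (83994, 0, 14, 80449) .leaf))))) (83997, 0, 18, 193536) (.node (.node (.node (.node (.node .leaf (83998, 0, 15, 206873) .leaf) (84001, 0, 16, 128833) (.node .leaf (84002, 0, 15, 187169) .leaf)) (84005, 0, 13, 71008) (.node (.node .leaf (84006, 0, 13, 42044) .leaf) (84008, 0, 16, 121295) (.node .leaf (84011, 0, 18, 26771) .leaf))) (84012, 0, 18, 199580) (.node (.node (.node .leaf (84015, 0, 12, 179167) .leaf) (84016, 0, 17, 225138)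 (.node .leaf (84019, 0, 16, 193785) .leaf)) (84020, 0, 16, 218705) (.node (.node .leaf (84023, 0, 16, 189970) .leaf) (84025, 0, 13, 109196) (.node .leaf (84026, 0, 16, 18251) .leaf)))) (84029, 0, 11, 231690) (.node (.node (.node (.node .leaf (84030, 0, 17, 9196) .leaf) (84032, 0, 15, 95828) (.node .leaf (84035, 0, 15, 108431) .leaf)) (84036, 0, 16, 85879) (.node (.node .leaf (84039, 0, 16, 65332) .leaf) (84041, 0, 16, 242602) (.node .leaf (84042, 0, 15, 201789) .leaf))) (84045, 0, 16, 55932) (.node (.node (.node .leaf (84046, 0, 14, 92960) .leaf) (84049, 0, 18, 257639) (.node .leaf (84050, 0, 14, 100439) .leaf)) (84053, 0, 18, 251716) (.node (.node .leaf (84054, 0, 16, 259914) .leaf) (84056, 0, 15, 76697) (.node .leaf (84059, 0, 16, 211941) .leaf))))))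

/-- part of the orbit tree -/
def itp2_287 : Tree := (.node (.node (.node (.node (.node (.node .leaf (84063, 0, 16, 41721) .leaf) (84064, 0, 14, 93145) (.node .leaf (84067, 0, 15, 249314) .leaf)) (84068, 0, 14, 148610) (.node (.node .leaf (84071, 0, 17, 259265) .leaf) (84073, 0, 17, 252011) (.node .leaf (84074, 0, 18, 158007) .leaf))) (84077, 0, 17, 108406) (.node (.node (.node .leaf (84078, 0, 14, 5674) .leaf) (84081, 0, 18, 58770) (.node .leaf (84082, 0, 17, 62813) .leaf)) (84085, 0, 17, 56497) (.node (.node .leaf (84086, 0, 12, 166464) .leaf) (84088, 0, 9, 139372) (.node .leaf (84091, 0, 14, 233519) .leaf)))) (84092, 0, 14, 137551) (.node (.node (.node (.node .leaf (84095, 0, 16, 14834) .leaf) (84097, 0, 16, 27582) (.node .leaf (84098, 0, 14, 5698) .leaf)) (84101, 0, 10, 251907) (.node (.node .leaf (84102, 0, 16, 123614) .leaf) (84104, 0, 17, 175680) (.node .leaf (84107, 0, 16, 204291) .leaf))) (84108, 0, 15, 93105) (.node (.node (.node .leaf (84111, 0, 14, 206624) .leaf) (84112, 0, 17, 193421)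 (.node .leaf (84115, 0, 17, 213966) .leaf)) (84116, 0, 15, 260059) (.node (.node .leaf (84119, 0, 18, 228077) .leaf) (84121, 0, 17, 211828) (.node .leaf (84122, 0, 17, 166440) .leaf))))) (84125, 0, 16, 83049) (.node (.node (.node (.node (.node .leaf (84126, 0, 17, 114451) .leaf) (84129, 0, 17, 221259) (.node .leaf (84130, 0, 14, 184328) .leaf)) (84133, 0, 15, 219496) (.node (.node .leaf (84134, 0, 17, 190763) .leaf) (84136, 0, 17, 158118) (.node .leaf (84139, 0, 16, 252154) .leaf))) (84140, 0, 16, 105622) (.node (.node (.node .leaf (84143, 0, 13, 108519) .leaf) (84144, 0, 16, 62924) (.node .leaf (84147, 0, 17, 18491) .leaf)) (84148, 0, 14, 115035) (.node (.node .leaf (84151, 0, 19, 211853) .leaf) (84153, 0, 16, 212358) (.node .leaf (84154, 0, 17, 259874) .leaf)))) (84157, 0, 14, 14691) (.node (.node (.node (.node .leaf (84158, 0, 15, 100415) .leaf) (84160, 0, 16, 254302) (.node .leaf (84163, 0, 17, 151837) .leaf)) (84164, 0, 13, 252029) (.node (.node .leaf (84167, 0, 12, 26875) .leaf) (84169, 0, 16,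 70920) (.node .leaf (84170, 0, 14, 42068) .leaf))) (84173, 0, 16, 73091) (.node (.node (.node .leaf (84174, 0, 15, 44480) .leaf) (84177, 0, 17, 231778) (.node .leaf (84178, 0, 11, 51502) .leaf)) (84181, 0, 18, 128639) (.node (.node .leaf (84182, 0, 18, 18211) .leaf) (84184, 0, 12, 80592) (.node .leaf (84187, 0, 16, 134352) .leaf))))))

/-- part of the orbit tree -/
def itp2_288 : Tree := (.node (.node (.node (.node (.node (.node .leaf (84191, 0, 17, 144883) .leaf) (84192, 0, 13, 187312) (.node .leaf (84195, 0, 14, 223980) .leaf)) (84196, 0, 16, 42157) (.node (.node .leaf (84199, 0, 16, 71153) .leaf) (84201, 0, 17, 143189) (.node .leaf (84202, 0, 15, 121182) .leaf))) (84205, 0, 16, 136991) (.node (.node (.node .leaf (84206, 0, 17, 239157) .leaf) (84209, 0, 17, 193640) (.node .leaf (84210, 0, 17, 214324) .leaf)) (84213, 0, 13, 35701) (.node (.node .leaf (84214, 0, 18, 80425) .leaf) (84216, 0, 18, 18394) (.node .leaf (84219, 0, 16, 128646) .leaf)))) (84220, 0, 16, 145607) (.node (.node (.node (.node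 .leaf (84223, 0, 12, 231835) .leaf) (84224, 0, 16, 114342) (.node .leaf (84227, 0, 17, 71910) .leaf)) (84228, 0, 16, 186023) (.node (.node .leaf (84231, 0, 17, 223227) .leaf) (84233, 0, 15, 137736) (.node .leaf (84234, 0, 11, 183067) .leaf))) (84237, 0, 16, 213627) (.node (.node (.node .leaf (84238, 0, 13, 119881) .leaf) (84241, 0, 18, 206485) (.node .leaf (84242, 0, 16, 79678) .leaf)) (84245, 0, 18, 194943) (.node (.node .leaf (84246, 0, 15, 176117) .leaf) (84248, 0, 15, 123755) (.node .leaf (84251, 0, 16, 21288) .leaf))))) (84252, 0, 13, 121416) (.node (.node (.node (.node (.node .leaf (84255, 0, 14, 129937) .leaf) (84256, 0, 10, 177491) (.node .leaf (84259, 0, 15, 26092) .leaf)) (84260, 0, 14, 167024) (.node (.node .leaf (84263, 0, 16, 212019) .leaf) (84265, 0, 14, 222978) (.node .leaf (84266, 0, 16, 114926) .leaf))) (84269, 0, 17, 18830) (.node (.node (.node .leaf (84270, 0, 13, 43331) .leaf) (84273, 0, 17, 11616) (.node .leaf (84274, 0, 16, 18996) .leaf)) (84277, 0, 14, 5187) (.node (.node .leaf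 (84278, 0, 14, 107520) .leaf) (84280, 0, 17, 190622) (.node .leaf (84283, 0, 18, 194950) .leaf)))) (84284, 0, 16, 184765) (.node (.node (.node (.node .leaf (84287, 0, 16, 34459) .leaf) (84289, 0, 15, 174110) (.node .leaf (84290, 0, 17, 203074) .leaf)) (84293, 0, 16, 55043) (.node (.node .leaf (84294, 0, 15, 245030) .leaf) (84296, 0, 17, 61880) (.node .leaf (84299, 0, 16, 109296) .leaf))) (84300, 0, 18, 51355) (.node (.node (.node .leaf (84303, 0, 18, 96472) .leaf) (84304, 0, 18, 44149) (.node .leaf (84307, 0, 16, 210586) .leaf)) (84308, 0, 16, 38230) (.node (.node .leaf (84311, 0, 16, 84359) .leaf) (84313, 0, 15, 158091) (.node .leaf (84314, 0, 12, 99624) .leaf))))))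

/-- part of the orbit tree -/
def itp2_289 : Tree := (.node itp2_285 (83930, 0, 19, 132614) itp2_286)

/-- part of the orbit tree -/
def itp2_290 : Tree := (.node itp2_287 (84188, 0, 13, 230832) itp2_288)

/-- part of the orbit tree -/
def itp2_291 : Tree := (.node (.node (.node (.node (.node (.node .leaf (84318, 0, 16, 260661) .leaf) (84321, 0, 15, 81843) (.node .leaf (84322, 0, 14, 36848) .leaf)) (84325, 0, 17, 67216) (.node (.node .leaf (84326, 0, 13, 46803) .leaf) (84328, 0, 14, 91814) (.node .leaf (84331, 0, 17, 55290) .leaf))) (84332, 0, 15, 246638) (.node (.node (.node .leaf (84335, 0, 12, 160557) .leaf) (84336, 0, 16, 260812) (.node .leaf (84339, 0, 18, 150416) .leaf)) (84340, 0, 16, 237219) (.node (.node .leaf (84343, 0, 17, 143072) .leaf) (84345, 0, 15, 84350) (.node .leaf (84346, 0, 17, 53821) .leaf)))) (84349, 0, 16, 88925) (.node (.node (.node (.node .leaf (84350, 0, 14, 60190) .leaf) (84352, 0, 17, 207276) (.node .leaf (84355, 0, 17, 170479) .leaf)) (84356, 0, 13, 200847) (.node (.node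 .leaf (84359, 0, 15, 172236) .leaf) (84361, 0, 15, 126034) (.node .leaf (84362, 0, 15, 6973) .leaf))) (84365, 0, 18, 251260) (.node (.node (.node .leaf (84366, 0, 15, 25906) .leaf) (84369, 0, 16, 111007) (.node .leaf (84370, 0, 16, 165719) .leaf)) (84373, 0, 16, 84246) (.node (.node .leaf (84374, 0, 16, 14591) .leaf) (84376, 0, 17, 99769) (.node .leaf (84379, 0, 17, 181282) .leaf))))) (84380, 0, 16, 260772) (.node (.node (.node (.node (.node .leaf (84383, 0, 15, 150520) .leaf) (84384, 0, 16, 156889) (.node .leaf (84387, 0, 13, 102938) .leaf)) (84388, 0, 15, 7034) (.node (.node .leaf (84391, 0, 16, 109208) .leaf) (84393, 0, 19, 55147) (.node .leaf (84394, 0, 18, 219108) .leaf))) (84397, 0, 17, 174198) (.node (.node (.node .leaf (84398, 0, 16, 224967) .leaf) (84401, 0, 17, 178794) (.node .leaf (84402, 0, 18, 199209) .leaf)) (84405, 0, 16, 13340) (.node (.node .leaf (84406, 0, 8, 209674) .leaf) (84408, 0, 16, 32660) (.node .leaf (84411, 0, 11, 118743) .leaf)))) (84412, 0, 17, 18103) (.node (.node (.node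 (.node .leaf (84415, 0, 17, 210674) .leaf) (84417, 0, 16, 41804) (.node .leaf (84418, 0, 16, 43307) .leaf)) (84421, 0, 15, 223082) (.node (.node .leaf (84422, 0, 15, 76332) .leaf) (84424, 0, 16, 157362) (.node .leaf (84427, 0, 15, 251633) .leaf))) (84428, 0, 18, 155537) (.node (.node (.node .leaf (84431, 0, 13, 258002) .leaf) (84432, 0, 17, 146303) (.node .leaf (84435, 0, 17, 34547) .leaf)) (84436, 0, 15, 131676) (.node (.node .leaf (84439, 0, 14, 195054) .leaf) (84441, 0, 17, 65153) (.node .leaf (84442, 0, 15, 144705) .leaf))))))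

/-- part of the orbit tree -/
def itp2_292 : Tree := (.node (.node (.node (.node (.node (.node .leaf (84446, 0, 18, 96225) .leaf) (84449, 0, 16, 239801) (.node .leaf (84450, 0, 15, 137466) .leaf)) (84453, 0, 12, 137824) (.node (.node .leaf (84454, 0, 18, 240444) .leaf) (84456, 0, 14, 186063) (.node .leaf (84459, 0, 13, 223123) .leaf))) (84460, 0, 17, 87140) (.node (.node (.node .leaf (84463, 0, 16, 71822) .leaf) (84464, 0, 11, 19109) (.node .leaf (84467, 0, 17, 32969) .leaf)) (84468, 0, 12, 68009) (.node (.node .leaf (84471, 0, 17, 47594) .leaf) (84473, 0, 15, 259444) (.node .leaf (84474, 0, 15, 148791) .leaf)))) (84477, 0, 17, 248919) (.node (.node (.node (.node .leaf (84478, 0, 17, 79702) .leaf) (84480, 0, 15, 143522) (.node .leaf (84481, 0, 16, 184516) .leaf)) (84484, 0, 17, 133505) (.node (.node .leaf (84485, 0, 17, 27974) .leaf) (84490, 0, 17, 215451) (.node .leaf (84491, 0, 15, 107897) .leaf))) (84494, 0, 15, 97340) (.node (.node (.node .leaf (84495, 0, 14, 105562) .leaf) (84498, 0, 17, 71890)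 (.node .leaf (84499, 0, 15, 232671) .leaf)) (84502, 0, 15, 240364) (.node (.node .leaf (84503, 0, 17, 115095) .leaf) (84504, 0, 17, 186143) (.node .leaf (84505, 0, 14, 36401) .leaf))))) (84508, 0, 17, 152652) (.node (.node (.node (.node (.node .leaf (84509, 0, 17, 192812) .leaf) (84512, 0, 17, 79487) (.node .leaf (84513, 0, 17, 225105) .leaf)) (84516, 0, 15, 66164) (.node (.node .leaf (84517, 0, 18, 123410) .leaf) (84522, 0, 15, 144529) (.node .leaf (84523, 0, 16, 175756) .leaf))) (84526, 0, 11, 161737) (.node (.node (.node .leaf (84527, 0, 18, 135842) .leaf) (84530, 0, 15, 135975) (.node .leaf (84531, 0, 11, 193345) .leaf)) (84534, 0, 18, 141828) (.node (.node .leaf (84535, 0, 14, 36552) .leaf) (84536, 0, 19, 240149) (.node .leaf (84537, 0, 15, 100092) .leaf)))) (84540, 0, 16, 120072) (.node (.node (.node (.node .leaf (84541, 0, 18, 114655) .leaf) (84546, 0, 16, 261005) (.node .leaf (84547, 0, 11, 107171) .leaf)) (84550, 0, 15, 99472) (.node (.node .leaf (84551, 0, 18, 253374) .leaf) (84552, 0, 16,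 229308) (.node .leaf (84553, 0, 16, 172109) .leaf))) (84556, 0, 15, 165502) (.node (.node (.node .leaf (84557, 0, 16, 57168) .leaf) (84560, 0, 15, 205425) (.node .leaf (84561, 0, 17, 15399) .leaf)) (84564, 0, 16, 203602) (.node (.node .leaf (84565, 0, 16, 260916) .leaf) (84570, 0, 17, 22476) (.node .leaf (84571, 0, 18, 47018) .leaf))))))

/-- part of the orbit tree -/
def itp2_293 : Tree := (.node (.node (.node (.node (.node (.node .leaf (84575, 0, 18, 36489) .leaf) (84578, 0, 13, 165511) (.node .leaf (84579, 0, 16, 57257) .leaf)) (84582, 0, 14, 211159) (.node (.node .leaf (84583, 0, 17, 172212) .leaf) (84584, 0, 15, 29769) (.node .leaf (84585, 0, 17, 253255) .leaf))) (84588, 0, 16, 19818) (.node (.node (.node .leaf (84589, 0, 16, 107098) .leaf) (84592, 0, 15, 202755) (.node .leaf (84593, 0, 12, 82221) .leaf)) (84596, 0, 14, 4263) (.node (.node .leaf (84597, 0, 16, 61633) .leaf) (84602, 0, 16, 6893) (.node .leaf (84603, 0, 14, 244831) .leaf)))) (84606, 0, 14, 157168) (.node (.node (.node (.node .leaf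 (84607, 0, 15, 15582) .leaf) (84608, 0, 15, 42920) (.node .leaf (84609, 0, 17, 18382) .leaf)) (84612, 0, 18, 40587) (.node (.node .leaf (84613, 0, 17, 32493) .leaf) (84618, 0, 11, 250389) (.node .leaf (84619, 0, 17, 209523) .leaf))) (84622, 0, 17, 165615) (.node (.node (.node .leaf (84623, 0, 15, 57281) .leaf) (84626, 0, 16, 233432) (.node .leaf (84627, 0, 17, 225214) .leaf)) (84630, 0, 18, 243451) (.node (.node .leaf (84631, 0, 12, 148395) .leaf) (84632, 0, 18, 92022) (.node .leaf (84633, 0, 17, 212568) .leaf))))) (84636, 0, 15, 49990) (.node (.node (.node (.node (.node .leaf (84637, 0, 15, 8992) .leaf) (84640, 0, 17, 240733) (.node .leaf (84641, 0, 15, 57144) .leaf)) (84644, 0, 16, 234878) (.node (.node .leaf (84645, 0, 16, 226584) .leaf) (84650, 0, 15, 99576) (.node .leaf (84651, 0, 16, 14726) .leaf))) (84654, 0, 13, 261093) (.node (.node (.node .leaf (84655, 0, 15, 165) .leaf) (84658, 0, 18, 33837) (.node .leaf (84659, 0, 15, 82364) .leaf)) (84662, 0, 15, 48398) (.node (.node .leaf (84663, 0,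 17, 212641) .leaf) (84664, 0, 17, 258448) (.node .leaf (84665, 0, 10, 201206) .leaf)))) (84668, 0, 18, 157025) (.node (.node (.node (.node .leaf (84669, 0, 18, 15439) .leaf) (84674, 0, 16, 19428) (.node .leaf (84675, 0, 17, 163181) .leaf)) (84678, 0, 13, 173096) (.node (.node .leaf (84679, 0, 17, 148558) .leaf) (84680, 0, 17, 125110) (.node .leaf (84681, 0, 14, 67792) .leaf))) (84684, 0, 16, 119189) (.node (.node (.node .leaf (84685, 0, 16, 225081) .leaf) (84688, 0, 18, 120160) (.node .leaf (84689, 0, 15, 87325) .leaf)) (84692, 0, 18, 240253) (.node (.node .leaf (84693, 0, 16, 127827) .leaf) (84698, 0, 17, 180422) (.node .leaf (84699, 0, 15, 139424) .leaf))))))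

/-- part of the orbit tree -/
def itp2_294 : Tree := (.node (.node (.node (.node (.node (.node .leaf (84703, 0, 16, 137603) .leaf) (84706, 0, 13, 104190) (.node .leaf (84707, 0, 17, 225216) .leaf)) (84710, 0, 17, 110557) (.node (.node .leaf (84711, 0, 15, 85947) .leaf) (84712, 0, 15, 144384) (.node .leaf (84713, 0, 16, 131877) .leaf))) (84716, 0, 17, 19229) (.node (.node (.node .leaf (84717, 0, 15, 145926) .leaf) (84720, 0, 13, 179854) (.node .leaf (84721, 0, 17, 192836) .leaf)) (84724, 0, 16, 186231) (.node (.node .leaf (84725, 0, 15, 36441) .leaf) (84730, 0, 17, 240260) (.node .leaf (84731, 0, 17, 127914) .leaf)))) (84734, 0, 16, 120217) (.node (.node (.node (.node .leaf (84735, 0, 16, 70262) .leaf) (84738, 0, 15, 49907) (.node .leaf (84739, 0, 13, 8853) .leaf)) (84742, 0, 16, 80889) (.node (.node .leaf (84743, 0, 17, 7094) .leaf) (84744, 0, 18, 17930) (.node .leaf (84745, 0, 17, 139044) .leaf))) (84748, 0, 15, 145687) (.node (.node (.node .leaf (84749, 0, 16, 24633) .leaf) (84752, 0, 17, 256643)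 (.node .leaf (84753, 0, 16, 199397) .leaf)) (84756, 0, 13, 42365) (.node (.node .leaf (84757, 0, 16, 195667) .leaf) (84762, 0, 16, 120974) (.node .leaf (84763, 0, 17, 32600) .leaf))))) (84766, 0, 19, 239507) (.node (.node (.node (.node (.node .leaf (84767, 0, 16, 130749) .leaf) (84770, 0, 16, 145902) (.node .leaf (84771, 0, 17, 24768) .leaf)) (84774, 0, 17, 18163) (.node (.node .leaf (84775, 0, 14, 139229) .leaf) (84776, 0, 4, 80640) (.node .leaf (84777, 0, 14, 23773) .leaf))) (84780, 0, 13, 34200) (.node (.node (.node .leaf (84781, 0, 16, 26110) .leaf) (84784, 0, 18, 239466) (.node .leaf (84785, 0, 17, 130628) .leaf)) (84788, 0, 17, 55381) (.node (.node .leaf (84789, 0, 13, 14387) .leaf) (84794, 0, 17, 42372) (.node .leaf (84795, 0, 18, 195754) .leaf)))) (84798, 0, 17, 187033) (.node (.node (.node (.node .leaf (84799, 0, 17, 33719) .leaf) (84800, 0, 16, 62492) (.node .leaf (84801, 0, 17, 137270) .leaf)) (84804, 0, 11, 180595) (.node (.node .leaf (84805, 0, 17, 53807) .leaf) (84810, 0, 16, 101869)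 (.node .leaf (84811, 0, 16, 93579) .leaf))) (84814, 0, 16, 111822) (.node (.node (.node .leaf (84815, 0, 16, 250049) .leaf) (84818, 0, 15, 92824) (.node .leaf (84819, 0, 15, 77894) .leaf)) (84822, 0, 15, 202117) (.node (.node .leaf (84823, 0, 12, 67941) .leaf) (84824, 0, 17, 157814) .leaf)))))

/-- part of the orbit tree -/
def itp2_295 : Tree := (.node itp2_291 (84445, 0, 17, 51106) itp2_292)

/-- part of the orbit tree -/
def itp2_296 : Tree := (.node itp2_293 (84702, 0, 14, 195045) itp2_294)

/-- part of the orbit tree -/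
def itp2_297 : Tree := (.node itp2_289 (84060, 0, 17, 62884) itp2_290)

/-- part of the orbit tree -/
def itp2_298 : Tree := (.node itp2_295 (84574, 0, 17, 203002) itp2_296)

/-- part of the orbit tree -/
def itp2_299 : Tree := (.node (.node (.node (.node (.node (.node .leaf (84828, 0, 14, 171198) .leaf) (84829, 0, 11, 151109) (.node .leaf (84832, 0, 15, 127909) .leaf)) (84833, 0, 15, 249912) (.node (.node .leaf (84836, 0, 19, 259595) .leaf) (84837, 0, 16, 76512) (.node .leaf (84842, 0, 15, 165400) .leaf))) (84843, 0, 17, 157310) (.node (.node (.node .leaf (84846, 0, 17, 62693) .leaf) (84847, 0, 18, 175563) (.node .leaf (84850, 0, 16, 6034) .leaf)) (84851, 0, 15, 146355) (.node (.node .leaf (84854, 0, 17, 189174) .leaf) (84855, 0, 15, 12705) (.node .leaf (84856, 0, 17, 202108) .leaf)))) (84857, 0, 14, 85074) (.node (.node (.node (.node .leaf (84860, 0, 18, 92769) .leaf) (84861, 0, 17, 209743) (.node .leaf (84866, 0, 11, 62605) .leaf)) (84867, 0, 17, 175523) (.node (.node .leaf (84870, 0, 15, 166800)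 .leaf) (84871, 0, 17, 167100) (.node .leaf (84872, 0, 16, 259683) .leaf))) (84873, 0, 16, 110413) (.node (.node (.node .leaf (84876, 0, 13, 72039) .leaf) (84877, 0, 15, 129281) (.node .leaf (84880, 0, 14, 92681) .leaf)) (84881, 0, 16, 209703) (.node (.node .leaf (84884, 0, 16, 83114) .leaf) (84885, 0, 18, 85050) (.node .leaf (84890, 0, 17, 133172) .leaf))))) (84891, 0, 17, 12745) (.node (.node (.node (.node (.node .leaf (84894, 0, 17, 6138) .leaf) (84895, 0, 16, 151252) (.node .leaf (84898, 0, 17, 100743) .leaf)) (84899, 0, 13, 250025) (.node (.node .leaf (84902, 0, 12, 259738) .leaf) (84903, 0, 17, 100169) (.node .leaf (84904, 0, 15, 166761) .leaf))) (84905, 0, 16, 53831) (.node (.node (.node .leaf (84908, 0, 17, 62580) .leaf) (84909, 0, 15, 193268) (.node .leaf (84912, 0, 18, 161404) .leaf)) (84913, 0, 16, 151085) (.node (.node .leaf (84916, 0, 16, 157726) .leaf) (84917, 0, 11, 175929) (.node .leaf (84922, 0, 14, 202221) .leaf)))) (84923, 0, 14, 123815) (.node (.node (.node (.node .leaf (84926,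 0, 16, 92912) .leaf) (84927, 0, 13, 121476) (.node .leaf (84928, 0, 13, 28506) .leaf)) (84929, 0, 18, 36668) (.node (.node .leaf (84932, 0, 16, 80744) .leaf) (84933, 0, 14, 221766) (.node .leaf (84938, 0, 18, 203495) .leaf))) (84939, 0, 16, 260737) (.node (.node (.node .leaf (84942, 0, 16, 145798) .leaf) (84943, 0, 11, 24744) (.node .leaf (84946, 0, 16, 214826) .leaf)) (84947, 0, 15, 239436) (.node (.node .leaf (84950, 0, 16, 228873) .leaf) (84951, 0, 13, 195778) (.node .leaf (84952, 0, 16, 120863) .leaf))))))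

/-- part of the orbit tree -/
def itp2_300 : Tree := (.node (.node (.node (.node (.node (.node .leaf (84956, 0, 18, 2996) .leaf) (84957, 0, 12, 130604) (.node .leaf (84960, 0, 13, 222383) .leaf)) (84961, 0, 16, 230601) (.node (.node .leaf (84964, 0, 15, 220556) .leaf) (84965, 0, 17, 245226) (.node .leaf (84970, 0, 17, 80785) .leaf))) (84971, 0, 15, 221887) (.node (.node (.node .leaf (84974, 0, 17, 214156) .leaf) (84975, 0, 17, 51287) (.node .leaf (84978, 0, 11, 19679) .leaf)) (84979, 0, 15, 44217) (.node (.node .leaf (84982, 0, 17, 121062) .leaf) (84983, 0, 16, 229832) (.node .leaf (84984, 0, 13, 42261) .leaf)))) (84985, 0, 16, 252164) (.node (.node (.node (.node .leaf (84988, 0, 15, 186888) .leaf) (84989, 0, 18, 253991) (.node .leaf (84992, 0, 13, 213933) .leaf)) (84994, 0, 16, 153183) (.node (.node .leaf (84996, 0, 17, 81072) .leaf) (84998, 0, 14, 185538) (.node .leaf (85001, 0, 16, 127007) .leaf))) (85003, 0, 17, 37793) (.node (.node (.node .leaf (85005, 0, 15, 233218) .leaf) (85007, 0, 9, 43650)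 (.node .leaf (85009, 0, 13, 106057) .leaf)) (85011, 0, 15, 33799) (.node (.node .leaf (85013, 0, 17, 108394) .leaf) (85015, 0, 16, 195354) (.node .leaf (85016, 0, 16, 220087) .leaf))))) (85018, 0, 12, 145333) (.node (.node (.node (.node (.node .leaf (85020, 0, 14, 237786) .leaf) (85022, 0, 16, 18600) (.node .leaf (85024, 0, 15, 3471) .leaf)) (85026, 0, 18, 120533) (.node (.node .leaf (85028, 0, 16, 16826) .leaf) (85030, 0, 15, 91273) (.node .leaf (85033, 0, 16, 182385) .leaf))) (85035, 0, 13, 222567) (.node (.node (.node .leaf (85037, 0, 15, 193032) .leaf) (85039, 0, 16, 72314) (.node .leaf (85041, 0, 14, 135551) .leaf)) (85043, 0, 15, 129293) (.node (.node .leaf (85045, 0, 14, 175263) .leaf) (85047, 0, 17, 230928) (.node .leaf (85048, 0, 16, 20546) .leaf)))) (85050, 0, 17, 215743) (.node (.node (.node (.node .leaf (85052, 0, 16, 26977) .leaf) (85054, 0, 17, 79266) (.node .leaf (85057, 0, 17, 35994) .leaf)) (85059, 0, 17, 174715) (.node (.node .leaf (85061, 0, 17, 46521) .leaf) (85063, 0, 17, 124316)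 (.node .leaf (85064, 0, 17, 258491) .leaf))) (85066, 0, 15, 6601) (.node (.node (.node .leaf (85068, 0, 12, 159815) .leaf) (85070, 0, 17, 204898) (.node .leaf (85072, 0, 17, 136361) .leaf)) (85074, 0, 13, 165283) (.node (.node .leaf (85076, 0, 11, 142730) .leaf) (85078, 0, 15, 228783) (.node .leaf (85081, 0, 13, 53591) .leaf))))))

/-- part of the orbit tree -/
def itp2_301 : Tree := (.node (.node (.node (.node (.node (.node .leaf (85085, 0, 15, 59508) .leaf) (85087, 0, 17, 112721) (.node .leaf (85089, 0, 17, 231279) .leaf)) (85091, 0, 13, 251761) (.node (.node .leaf (85093, 0, 16, 147486) .leaf) (85095, 0, 18, 192105) (.node .leaf (85096, 0, 16, 82577) .leaf))) (85098, 0, 15, 4788) (.node (.node (.node .leaf (85100, 0, 19, 97202) .leaf) (85102, 0, 15, 203742) (.node .leaf (85104, 0, 17, 4315) .leaf)) (85106, 0, 12, 20345) (.node (.node .leaf (85108, 0, 17, 75391) .leaf) (85110, 0, 16, 100276) (.node .leaf (85113, 0, 15, 172905) .leaf)))) (85115, 0, 16, 166535) (.node (.node (.node (.node .leaf (85117,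 0, 15, 56436) .leaf) (85119, 0, 7, 209926) (.node .leaf (85120, 0, 17, 62404) .leaf)) (85122, 0, 15, 203702) (.node (.node .leaf (85124, 0, 16, 167129) .leaf) (85126, 0, 18, 91307) (.node .leaf (85129, 0, 14, 218254) .leaf))) (85131, 0, 13, 108548) (.node (.node (.node .leaf (85133, 0, 16, 224685) .leaf) (85135, 0, 17, 146824) (.node .leaf (85137, 0, 15, 198979) .leaf)) (85139, 0, 15, 210030) (.node (.node .leaf (85141, 0, 13, 208992) .leaf) (85143, 0, 15, 155717) (.node .leaf (85144, 0, 15, 159662) .leaf))))) (85146, 0, 19, 100316) (.node (.node (.node (.node (.node .leaf (85148, 0, 13, 4275) .leaf) (85150, 0, 15, 42427) (.node .leaf (85152, 0, 14, 102094) .leaf)) (85154, 0, 14, 157372) (.node (.node .leaf (85156, 0, 14, 172966) .leaf) (85158, 0, 17, 258947) (.node .leaf (85161, 0, 13, 24443) .leaf))) (85163, 0, 17, 54542) (.node (.node (.node .leaf (85165, 0, 13, 82529) .leaf) (85167, 0, 17, 174611) (.node .leaf (85169, 0, 17, 694) .leaf)) (85171, 0, 18, 149860) (.node (.node .leaf (85173, 0, 15,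 15253) .leaf) (85175, 0, 15, 13945) (.node .leaf (85176, 0, 15, 182088) .leaf)))) (85178, 0, 16, 64214) (.node (.node (.node (.node .leaf (85180, 0, 16, 93625) .leaf) (85182, 0, 18, 241230) (.node .leaf (85185, 0, 16, 138128) .leaf)) (85187, 0, 18, 72210) (.node (.node .leaf (85189, 0, 16, 36221) .leaf) (85191, 0, 16, 222479) (.node .leaf (85192, 0, 17, 16850) .leaf))) (85194, 0, 17, 240032) (.node (.node (.node .leaf (85196, 0, 17, 147151) .leaf) (85198, 0, 11, 120509) (.node .leaf (85200, 0, 10, 187832) .leaf)) (85202, 0, 16, 79306) (.node (.node .leaf (85204, 0, 15, 47744) .leaf) (85206, 0, 17, 215767) (.node .leaf (85209, 0, 13, 149085) .leaf))))))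

/-- part of the orbit tree -/
def itp2_302 : Tree := (.node (.node (.node (.node (.node (.node .leaf (85213, 0, 14, 163710) .leaf) (85215, 0, 17, 129381) (.node .leaf (85217, 0, 17, 233322) .leaf)) (85219, 0, 18, 16448) (.node (.node .leaf (85221, 0, 14, 76102) .leaf) (85223, 0, 14, 31075) (.node .leaf (85224, 0, 10, 251291) .leaf))) (85226, 0, 16, 185514) (.node (.node (.node .leaf (85228, 0, 15, 257208) .leaf) (85230, 0, 13, 179357) (.node .leaf (85232, 0, 16, 231510) .leaf)) (85234, 0, 13, 18624) (.node (.node .leaf (85236, 0, 16, 242037) .leaf) (85238, 0, 14, 188752) (.node .leaf (85241, 0, 16, 85416) .leaf)))) (85243, 0, 12, 195442) (.node (.node (.node (.node .leaf (85245, 0, 15, 224285) .leaf) (85247, 0, 16, 9390) (.node .leaf (85249, 0, 14, 17512) .leaf)) (85251, 0, 17, 70733) (.node (.node .leaf (85253, 0, 16, 32075) .leaf) (85255, 0, 16, 77166) (.node .leaf (85256, 0, 17, 164246) .leaf))) (85258, 0, 14, 42656) (.node (.node (.node .leaf (85260, 0, 13, 178357) .leaf) (85262, 0, 17, 256144)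 (.node .leaf (85264, 0, 16, 187483) .leaf)) (85266, 0, 15, 146122) (.node (.node .leaf (85268, 0, 18, 189816) .leaf) (85270, 0, 17, 17879) (.node .leaf (85273, 0, 14, 221450) .leaf))))) (85275, 0, 18, 84352) (.node (.node (.node (.node (.node .leaf (85277, 0, 13, 73239) .leaf) (85279, 0, 15, 194149) (.node .leaf (85281, 0, 18, 32874) .leaf)) (85283, 0, 15, 223256) (.node (.node .leaf (85285, 0, 12, 227006) .leaf) (85287, 0, 18, 140955) (.node .leaf (85288, 0, 16, 144344) .leaf))) (85290, 0, 12, 121770) (.node (.node (.node .leaf (85292, 0, 15, 111424) .leaf) (85294, 0, 14, 58213) (.node .leaf (85296, 0, 18, 44978) .leaf)) (85298, 0, 16, 34699) (.node (.node .leaf (85300, 0, 17, 184495) .leaf) (85302, 0, 16, 48808) (.node .leaf (85305, 0, 16, 201296) .leaf)))) (85307, 0, 16, 128114) (.node (.node (.node (.node .leaf (85309, 0, 18, 207731) .leaf) (85311, 0, 15, 232303) (.node .leaf (85312, 0, 19, 249480) .leaf)) (85314, 0, 17, 171693) (.node (.node .leaf (85316, 0, 16, 260011) .leaf) (85318, 0, 17,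 173966) (.node .leaf (85321, 0, 16, 85878) .leaf))) (85323, 0, 16, 173828) (.node (.node (.node .leaf (85325, 0, 15, 209003) .leaf) (85327, 0, 14, 55321) (.node .leaf (85329, 0, 16, 87739) .leaf)) (85331, 0, 15, 15214) (.node (.node .leaf (85333, 0, 17, 94104) .leaf) (85335, 0, 16, 16317) (.node .leaf (85336, 0, 11, 90286) .leaf))))))

/-- part of the orbit tree -/
def itp2_303 : Tree := (.node itp2_299 (84953, 0, 17, 229681) itp2_300)

/-- part of the orbit tree -/
def itp2_304 : Tree := (.node itp2_301 (85211, 0, 15, 202360) itp2_302)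

/-- part of the orbit tree -/
def itp2_305 : Tree := (.node (.node (.node (.node (.node (.node .leaf (85340, 0, 16, 204723) .leaf) (85342, 0, 17, 63425) (.node .leaf (85344, 0, 17, 50557) .leaf)) (85346, 0, 18, 103768) (.node (.node .leaf (85348, 0, 12, 64606) .leaf) (85350, 0, 15, 202401) (.node .leaf (85353, 0, 17, 131203) .leaf))) (85355, 0, 16, 252430) (.node (.node (.node .leaf (85357, 0, 17, 150881) .leaf) (85359, 0, 15, 107795) (.node .leaf (85361, 0, 18, 175638) .leaf)) (85363, 0, 14, 83556) (.node (.node .leaf (85365, 0, 17, 53515) .leaf) (85367, 0, 13, 209992) (.node .leaf (85368, 0, 16, 7588) .leaf)))) (85370, 0, 15, 259542) (.node (.node (.node (.node .leaf (85372, 0, 17, 156345) .leaf) (85374, 0, 17, 127414) (.node .leaf (85377, 0, 18, 150793) .leaf)) (85379, 0, 15, 230215) (.node (.node .leaf (85381, 0, 17, 12820) .leaf) (85383, 0, 15, 252518) (.node .leaf (85384, 0, 15, 65211) .leaf))) (85386, 0, 17, 83641) (.node (.node (.node .leaf (85388, 0, 16, 12223) .leaf) (85390, 0, 17, 92628)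 (.node .leaf (85392, 0, 18, 156369) .leaf)) (85394, 0, 16, 72564) (.node (.node .leaf (85396, 0, 16, 7628) .leaf) (85398, 0, 17, 259518) (.node .leaf (85401, 0, 8, 53603) .leaf))))) (85403, 0, 7, 253578) (.node (.node (.node (.node (.node .leaf (85405, 0, 17, 175742) .leaf) (85407, 0, 17, 255913) (.node .leaf (85409, 0, 16, 208899) .leaf)) (85411, 0, 16, 55409) (.node (.node .leaf (85413, 0, 15, 123316) .leaf) (85415, 0, 16, 45457) (.node .leaf (85416, 0, 15, 204137) .leaf))) (85418, 0, 15, 150860) (.node (.node (.node .leaf (85420, 0, 17, 205898) .leaf) (85422, 0, 17, 5342) (.node .leaf (85424, 0, 17, 204763) .leaf)) (85426, 0, 17, 63401) (.node (.node .leaf (85428, 0, 14, 90310) .leaf) (85430, 0, 17, 166068) (.node .leaf (85433, 0, 17, 109673) .leaf)))) (85435, 0, 11, 54655) (.node (.node (.node (.node .leaf (85437, 0, 14, 250740) .leaf) (85439, 0, 15, 15110) (.node .leaf (85440, 0, 12, 88450) .leaf)) (85442, 0, 18, 2471) (.node (.node .leaf (85444, 0, 18, 90273) .leaf) (85446, 0, 15, 121794) (.node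 .leaf (85449, 0, 13, 236668) .leaf))) (85451, 0, 18, 183385) (.node (.node (.node .leaf (85453, 0, 16, 238943) .leaf) (85455, 0, 17, 223344) (.node .leaf (85457, 0, 15, 246193) .leaf)) (85459, 0, 17, 232199) (.node (.node .leaf (85461, 0, 17, 260242) .leaf) (85463, 0, 15, 174263) (.node .leaf (85464, 0, 11, 184519) .leaf))))))

/-- part of the orbit tree -/
def itp2_306 : Tree := (.node (.node (.node (.node (.node (.node .leaf (85468, 0, 15, 45018) .leaf) (85470, 0, 17, 27977) (.node .leaf (85472, 0, 17, 78247) .leaf)) (85474, 0, 16, 197202) (.node (.node .leaf (85476, 0, 16, 158548) .leaf) (85478, 0, 15, 211825) (.node .leaf (85481, 0, 11, 229909) .leaf))) (85483, 0, 14, 116652) (.node (.node (.node .leaf (85485, 0, 16, 44714) .leaf) (85487, 0, 13, 130703) (.node .leaf (85489, 0, 13, 73343) .leaf)) (85491, 0, 14, 105057) (.node (.node .leaf (85493, 0, 16, 62311) .leaf) (85495, 0, 13, 35088) (.node .leaf (85496, 0, 18, 241101) .leaf)))) (85498, 0, 18, 17855) (.node (.node (.node (.node .leaf (85500,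 0, 15, 119504) .leaf) (85502, 0, 16, 146082) (.node .leaf (85512, 0, 17, 69522) .leaf)) (85513, 0, 16, 128307) (.node (.node .leaf (85514, 0, 17, 24503) .leaf) (85515, 0, 17, 49105) (.node .leaf (85516, 0, 17, 79537) .leaf))) (85517, 0, 17, 120535) (.node (.node (.node .leaf (85518, 0, 14, 26260) .leaf) (85519, 0, 14, 25180) (.node .leaf (85520, 0, 17, 77943) .leaf)) (85521, 0, 15, 111161) (.node (.node .leaf (85522, 0, 15, 186373) .leaf) (85523, 0, 17, 33067) (.node .leaf (85524, 0, 15, 93052) .leaf))))) (85525, 0, 16, 101146) (.node (.node (.node (.node (.node .leaf (85526, 0, 15, 15193) .leaf) (85527, 0, 17, 196150) (.node .leaf (85544, 0, 17, 132199) .leaf)) (85545, 0, 12, 189441) (.node (.node .leaf (85546, 0, 16, 218178) .leaf) (85547, 0, 16, 242724) (.node .leaf (85548, 0, 15, 146756) .leaf))) (85549, 0, 17, 187682) (.node (.node (.node .leaf (85550, 0, 17, 224609) .leaf) (85551, 0, 15, 73558) (.node .leaf (85552, 0, 14, 154026) .leaf)) (85553, 0, 16, 136275) (.node (.node .leaf (85554, 0,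 15, 238863) .leaf) (85555, 0, 14, 130081) (.node .leaf (85556, 0, 12, 155785) .leaf)))) (85557, 0, 18, 27470) (.node (.node (.node (.node .leaf (85558, 0, 17, 121362) .leaf) (85559, 0, 16, 230204) (.node .leaf (85568, 0, 16, 16524) .leaf)) (85569, 0, 17, 41194) (.node (.node .leaf (85570, 0, 18, 69801) .leaf) (85571, 0, 16, 175959) (.node .leaf (85572, 0, 17, 90390) .leaf))) (85573, 0, 17, 211000) (.node (.node (.node .leaf (85574, 0, 17, 76170) .leaf) (85575, 0, 18, 117228) (.node .leaf (85592, 0, 17, 7489) .leaf)) (85593, 0, 16, 252751) (.node (.node .leaf (85594, 0, 13, 85348) .leaf) (85595, 0, 14, 109826) (.node .leaf (85596, 0, 17, 9314) .leaf))))))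

/-- part of the orbit tree -/
def itp2_307 : Tree := (.node (.node (.node (.node (.node (.node .leaf (85598, 0, 18, 5390) .leaf) (85599, 0, 18, 103457) (.node .leaf (85600, 0, 17, 215929) .leaf)) (85601, 0, 16, 240415) (.node (.node .leaf (85602, 0, 15, 101235) .leaf) (85603, 0, 15, 195386) (.node .leaf (85604, 0, 17, 7196) .leaf))) (85605, 0, 15, 148786) (.node (.node (.node .leaf (85606, 0, 14, 259182) .leaf) (85607, 0, 14, 180761) (.node .leaf (85624, 0, 15, 202420) .leaf)) (85625, 0, 15, 173637) (.node (.node .leaf (85626, 0, 15, 202521) .leaf) (85627, 0, 17, 85559) (.node .leaf (85628, 0, 17, 208791) .leaf)))) (85629, 0, 17, 55640) (.node (.node (.node (.node .leaf (85630, 0, 18, 92164) .leaf) (85631, 0, 18, 171988) (.node .leaf (85640, 0, 17, 235672) .leaf)) (85641, 0, 15, 227582) (.node (.node .leaf (85642, 0, 11, 259078) .leaf) (85643, 0, 17, 109864) (.node .leaf (85644, 0, 18, 156521) .leaf))) (85645, 0, 15, 14919) (.node (.node (.node .leaf (85646, 0, 15, 101147) .leaf) (85647, 0, 19, 135672)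 (.node .leaf (85648, 0, 17, 247125) .leaf)) (85649, 0, 16, 55600) (.node (.node .leaf (85650, 0, 16, 169328) .leaf) (85651, 0, 17, 161046) (.node .leaf (85652, 0, 17, 65283) .leaf))))) (85653, 0, 17, 203792) (.node (.node (.node (.node (.node .leaf (85654, 0, 14, 202609) .leaf) (85655, 0, 16, 150581) (.node .leaf (85672, 0, 14, 37741) .leaf)) (85673, 0, 16, 29451) (.node (.node .leaf (85674, 0, 13, 166156) .leaf) (85675, 0, 14, 53282) (.node .leaf (85676, 0, 16, 43598) .leaf))) (85677, 0, 18, 18984) (.node (.node (.node .leaf (85678, 0, 14, 62993) .leaf) (85679, 0, 15, 175935) (.node .leaf (85680, 0, 17, 52896) .leaf)) (85681, 0, 12, 11974) (.node (.node .leaf (85682, 0, 14, 106117) .leaf) (85683, 0, 17, 98019) (.node .leaf (85684, 0, 14, 98825) .leaf)))) (85685, 0, 16, 6117) (.node (.node (.node (.node .leaf (85686, 0, 16, 158331) .leaf) (85687, 0, 18, 13141) (.node .leaf (85696, 0, 15, 186246) .leaf)) (85697, 0, 16, 145376) (.node (.node .leaf (85698, 0, 15, 231331) .leaf) (85699, 0, 15, 73534)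 (.node .leaf (85700, 0, 18, 184703) .leaf))) (85701, 0, 16, 134851) (.node (.node (.node .leaf (85702, 0, 19, 80141) .leaf) (85703, 0, 13, 220902) (.node .leaf (85720, 0, 13, 166475) .leaf)) (85721, 0, 16, 27430) (.node (.node .leaf (85722, 0, 18, 121466) .leaf) (85723, 0, 16, 230228) (.node .leaf (85724, 0, 17, 177000) .leaf))))))

/-- part of the orbit tree -/
def itp2_308 : Tree := (.node (.node (.node (.node (.node (.node .leaf (85726, 0, 16, 254797) .leaf) (85727, 0, 17, 130121) (.node .leaf (85728, 0, 12, 121971) .leaf)) (85729, 0, 15, 80917) (.node (.node .leaf (85730, 0, 17, 35926) .leaf) (85731, 0, 17, 27696) (.node .leaf (85732, 0, 14, 240757) .leaf))) (85733, 0, 14, 66870) (.node (.node (.node .leaf (85734, 0, 16, 46453) .leaf) (85735, 0, 16, 138537) (.node .leaf (85752, 0, 15, 98750) .leaf)) (85753, 0, 18, 71212) (.node (.node .leaf (85754, 0, 17, 53659) .leaf) (85755, 0, 18, 12797) (.node .leaf (85756, 0, 15, 77855) .leaf)))) (85757, 0, 15, 88315) (.node (.node (.node (.node .leaf (85758,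 0, 17, 59576) .leaf) (85759, 0, 16, 2270) (.node .leaf (85760, 0, 15, 34942) .leaf)) (85761, 0, 17, 129100) (.node (.node .leaf (85762, 0, 15, 120923) .leaf) (85763, 0, 15, 79933) (.node .leaf (85764, 0, 13, 45405) .leaf))) (85765, 0, 18, 231249) (.node (.node (.node .leaf (85766, 0, 14, 144909) .leaf) (85767, 0, 14, 28451) (.node .leaf (85784, 0, 16, 54707) .leaf)) (85785, 0, 17, 222246) (.node (.node .leaf (85786, 0, 16, 99734) .leaf) (85787, 0, 17, 35924) (.node .leaf (85788, 0, 16, 60560) .leaf))))) (85789, 0, 17, 3318) (.node (.node (.node (.node (.node .leaf (85790, 0, 16, 43623) .leaf) (85791, 0, 16, 193353) (.node .leaf (85792, 0, 16, 230283) .leaf)) (85793, 0, 14, 34118) (.node (.node .leaf (85794, 0, 16, 185262) .leaf) (85795, 0, 18, 224564) (.node .leaf (85796, 0, 16, 244392) .leaf))) (85797, 0, 17, 195163) (.node (.node (.node .leaf (85798, 0, 17, 215815) .leaf) (85799, 0, 14, 70185) (.node .leaf (85816, 0, 12, 253510) .leaf)) (85817, 0, 16, 212512) (.node (.node .leaf (85818, 0, 15, 167523)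 .leaf) (85819, 0, 18, 127326) (.node .leaf (85820, 0, 15, 147231) .leaf)))) (85821, 0, 17, 198403) (.node (.node (.node (.node .leaf (85822, 0, 17, 120685) .leaf) (85823, 0, 18, 233027) (.node .leaf (85832, 0, 16, 201588) .leaf)) (85833, 0, 17, 75526) (.node (.node .leaf (85834, 0, 17, 64262) .leaf) (85835, 0, 16, 30499) (.node .leaf (85836, 0, 15, 130627) .leaf))) (85837, 0, 16, 73253) (.node (.node (.node .leaf (85838, 0, 14, 44646) .leaf) (85839, 0, 15, 19968) (.node .leaf (85840, 0, 16, 102174) .leaf)) (85841, 0, 14, 96971) (.node (.node .leaf (85842, 0, 18, 157548) .leaf) (85843, 0, 17, 10990) .leaf)))))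

/-- part of the orbit tree -/
def itp2_309 : Tree := (.node itp2_305 (85466, 0, 14, 21610) itp2_306)

/-- part of the orbit tree -/
def itp2_310 : Tree := (.node itp2_307 (85725, 0, 14, 152334) itp2_308)

/-- part of the orbit tree -/
def itp2_311 : Tree := (.node itp2_303 (85083, 0, 17, 98674) itp2_304)

/-- part of the orbit tree -/
def itp2_312 : Tree := (.node itp2_309 (85597, 0, 14, 50180) itp2_310)

/-- part of the orbit tree -/
def itp2_313 : Tree := (.node itp2_297 (84317, 0, 17, 150377) itp2_298)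

/-- part of the orbit tree -/
def itp2_314 : Tree := (.node itp2_311 (85338, 0, 17, 181088) itp2_312)

/-- part of the orbit tree -/
def itp2_315 : Tree := (.node itp2_283 (82781, 0, 15, 708) itp2_284)

/-- part of the orbit tree -/
def itp2_316 : Tree := (.node itp2_313 (84825, 0, 17, 148987) itp2_314)

/-- part of the orbit tree -/
def itp2_317 : Tree := (.node (.node (.node (.node (.node (.node .leaf (85845, 0, 16, 82920) .leaf) (85846, 0, 15, 62379) (.node .leaf (85847, 0, 13, 147807) .leaf)) (85864, 0, 17, 183445) (.node (.node .leaf (85865, 0, 17, 142579) .leaf) (85866, 0, 15, 236720) (.node .leaf (85867, 0, 16, 253730) .leaf))) (85868, 0, 18, 4451) (.node (.node (.node .leaf (85869, 0, 16, 136656) .leaf) (85870, 0, 14, 260369) (.node .leaf (85871, 0, 16, 106559) .leaf)) (85872, 0, 19, 61972) (.node (.node .leaf (85873, 0, 11, 174906) .leaf) (85874, 0, 16, 203366) (.node .leaf (85875, 0, 15, 82760) .leaf)))) (85876, 0, 16, 167177) (.node (.node (.node (.node .leaf (85877, 0, 14, 149533) .leaf)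 (85878, 0, 15, 260190) (.node .leaf (85879, 0, 15, 202808) .leaf)) (85888, 0, 14, 139124) (.node (.node .leaf (85889, 0, 16, 196370) .leaf) (85890, 0, 17, 216913) (.node .leaf (85891, 0, 17, 106583) .leaf))) (85892, 0, 19, 159254) (.node (.node (.node .leaf (85893, 0, 18, 181809) .leaf) (85894, 0, 17, 99940) (.node .leaf (85895, 0, 18, 235028) .leaf)) (85912, 0, 16, 167265) (.node (.node .leaf (85913, 0, 14, 54351) .leaf) (85914, 0, 18, 91411) (.node .leaf (85915, 0, 16, 212029) .leaf))))) (85916, 0, 16, 62076) (.node (.node (.node (.node (.node .leaf (85917, 0, 15, 171004) .leaf) (85918, 0, 17, 207807) (.node .leaf (85919, 0, 16, 248793) .leaf)) (85920, 0, 16, 70785) (.node (.node .leaf (85921, 0, 17, 128231) .leaf) (85922, 0, 12, 164979) (.node .leaf (85923, 0, 16, 42178) .leaf))) (85924, 0, 16, 201500) (.node (.node (.node .leaf (85925, 0, 13, 118212) .leaf) (85926, 0, 18, 32135) (.node .leaf (85927, 0, 19, 40417) .leaf)) (85944, 0, 14, 258155) (.node (.node .leaf (85945, 0, 16, 108842) .leaf)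 (85946, 0, 17, 6505) (.node .leaf (85947, 0, 14, 63759) .leaf)))) (85948, 0, 12, 102262) (.node (.node (.node (.node .leaf (85949, 0, 16, 102409) .leaf) (85950, 0, 17, 8266) (.node .leaf (85951, 0, 18, 49196) .leaf)) (85960, 0, 16, 217194) (.node (.node .leaf (85961, 0, 18, 241676) .leaf) (85962, 0, 15, 215919) (.node .leaf (85963, 0, 14, 188457) .leaf))) (85964, 0, 16, 223561) (.node (.node (.node .leaf (85965, 0, 17, 231727) .leaf) (85966, 0, 12, 145772) (.node .leaf (85967, 0, 17, 186634) .leaf)) (85968, 0, 17, 200103) (.node (.node .leaf (85969, 0, 18, 26201) .leaf) (85970, 0, 17, 155010) (.node .leaf (85971, 0, 14, 233003) .leaf))))))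

/-- part of the orbit tree -/
def itp2_318 : Tree := (.node (.node (.node (.node (.node (.node .leaf (85973, 0, 15, 251106) .leaf) (85974, 0, 15, 156833) (.node .leaf (85975, 0, 17, 165063) .leaf)) (85992, 0, 17, 23455) (.node (.node .leaf (85993, 0, 17, 231225) .leaf) (85994, 0, 17, 144997) (.node .leaf (85995, 0, 16, 125916) .leaf))) (85996, 0, 15, 25276) (.node (.node (.node .leaf (85997, 0, 17, 33498) .leaf) (85998, 0, 16, 78489) (.node .leaf (85999, 0, 18, 135254) .leaf)) (86000, 0, 18, 213629) (.node (.node .leaf (86001, 0, 17, 72531) .leaf) (86002, 0, 16, 43535) (.node .leaf (86003, 0, 18, 193313) .leaf)))) (86004, 0, 15, 16241) (.node (.node (.node (.node .leaf (86005, 0, 18, 57111) .leaf) (86006, 0, 15, 94036) (.node .leaf (86007, 0, 14, 35900) .leaf)) (86017, 0, 18, 104378) (.node (.node .leaf (86018, 0, 17, 10233) .leaf) (86020, 0, 17, 85759) (.node .leaf (86023, 0, 14, 137042) .leaf))) (86025, 0, 17, 223905) (.node (.node (.node .leaf (86026, 0, 16, 187389) .leaf) (86028, 0, 17, 224103)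 (.node .leaf (86031, 0, 15, 196046) .leaf)) (86032, 0, 17, 200585) (.node (.node .leaf (86035, 0, 18, 138937) .leaf) (86037, 0, 18, 251596) (.node .leaf (86038, 0, 15, 145546) .leaf))))) (86040, 0, 17, 76305) (.node (.node (.node (.node (.node .leaf (86043, 0, 16, 193573) .leaf) (86045, 0, 15, 127828) (.node .leaf (86046, 0, 18, 17175) .leaf)) (86049, 0, 12, 195895) (.node (.node .leaf (86050, 0, 16, 216171) .leaf) (86052, 0, 14, 187140) (.node .leaf (86055, 0, 18, 223832) .leaf))) (86057, 0, 15, 47575) (.node (.node (.node .leaf (86058, 0, 17, 239351) .leaf) (86060, 0, 17, 143768) (.node .leaf (86063, 0, 11, 229572) .leaf)) (86064, 0, 17, 1148) (.node (.node .leaf (86067, 0, 16, 222131) .leaf) (86069, 0, 15, 56633) (.node .leaf (86070, 0, 15, 93562) .leaf)))) (86072, 0, 14, 145523) (.node (.node (.node (.node .leaf (86075, 0, 17, 231727) .leaf) (86077, 0, 17, 138816) (.node .leaf (86078, 0, 16, 215266) .leaf)) (86080, 0, 12, 138586) (.node (.node .leaf (86083, 0, 15, 12485) .leaf) (86085, 0, 18,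 108458) (.node .leaf (86086, 0, 19, 5878) .leaf))) (86088, 0, 14, 14530) (.node (.node (.node .leaf (86091, 0, 18, 100481) .leaf) (86093, 0, 15, 57735) (.node .leaf (86094, 0, 16, 86468) .leaf)) (86097, 0, 16, 34153) (.node (.node .leaf (86098, 0, 17, 7965) .leaf) (86100, 0, 18, 23596) (.node .leaf (86103, 0, 18, 14638) .leaf))))))

/-- part of the orbit tree -/
def itp2_319 : Tree := (.node (.node (.node (.node (.node (.node .leaf (86106, 0, 16, 200882) .leaf) (86108, 0, 13, 162228) (.node .leaf (86111, 0, 17, 248311) .leaf)) (86112, 0, 17, 71343) (.node (.node .leaf (86115, 0, 18, 85455) .leaf) (86117, 0, 18, 118762) (.node .leaf (86118, 0, 17, 32681) .leaf))) (86120, 0, 16, 209719) (.node (.node (.node .leaf (86123, 0, 15, 108371) .leaf) (86125, 0, 17, 12348) (.node .leaf (86126, 0, 17, 98656) .leaf)) (86129, 0, 17, 233116) (.node (.node .leaf (86130, 0, 16, 90647) .leaf) (86132, 0, 16, 62840) (.node .leaf (86135, 0, 16, 82980) .leaf)))) (86137, 0, 15, 14807) (.node (.node (.node (.node .leaf (86138,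 0, 16, 100491) .leaf) (86140, 0, 16, 8164) (.node .leaf (86143, 0, 17, 110264) .leaf)) (86145, 0, 14, 196784) (.node (.node .leaf (86146, 0, 15, 176371) .leaf) (86148, 0, 16, 252405) (.node .leaf (86151, 0, 15, 108347) .leaf))) (86153, 0, 15, 56008) (.node (.node (.node .leaf (86154, 0, 16, 38251) .leaf) (86156, 0, 18, 64763) (.node .leaf (86159, 0, 14, 19502) .leaf)) (86160, 0, 17, 104579) (.node (.node .leaf (86163, 0, 16, 110288) .leaf) (86165, 0, 17, 82374) (.node .leaf (86166, 0, 16, 61829) .leaf))))) (86168, 0, 17, 245019) (.node (.node (.node (.node (.node .leaf (86171, 0, 17, 83020) .leaf) (86173, 0, 14, 54051) (.node .leaf (86174, 0, 16, 90751) .leaf)) (86177, 0, 18, 85342) (.node (.node .leaf (86178, 0, 16, 64514) .leaf) (86180, 0, 14, 93037) (.node .leaf (86183, 0, 15, 90691) .leaf))) (86185, 0, 17, 108482) (.node (.node (.node .leaf (86186, 0, 17, 237214) .leaf) (86188, 0, 17, 194456) (.node .leaf (86191, 0, 15, 12461) .leaf)) (86192, 0, 15, 90758) (.node (.node .leaf (86195, 0, 15, 205621)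 .leaf) (86197, 0, 15, 83125) (.node .leaf (86198, 0, 17, 62953) .leaf)))) (86200, 0, 16, 100378) (.node (.node (.node (.node .leaf (86203, 0, 16, 14662) .leaf) (86205, 0, 15, 28587) (.node .leaf (86206, 0, 19, 8053) .leaf)) (86208, 0, 14, 143856) (.node (.node .leaf (86211, 0, 18, 229548) .leaf) (86213, 0, 15, 21269) (.node .leaf (86214, 0, 16, 123734) .leaf))) (86216, 0, 17, 187244) (.node (.node (.node .leaf (86219, 0, 17, 204683) .leaf) (86221, 0, 15, 195935) (.node .leaf (86222, 0, 14, 247502) .leaf)) (86225, 0, 13, 138792) (.node (.node .leaf (86226, 0, 17, 241524) .leaf) (86228, 0, 15, 145435) (.node .leaf (86231, 0, 13, 231751) .leaf))))))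

/-- part of the orbit tree -/
def itp2_320 : Tree := (.node (.node (.node (.node (.node (.node .leaf (86234, 0, 15, 100280) .leaf) (86236, 0, 15, 184967) (.node .leaf (86239, 0, 18, 89853) .leaf)) (86240, 0, 17, 229797) (.node (.node .leaf (86243, 0, 15, 196006) .leaf) (86245, 0, 16, 219360) (.node .leaf (86246, 0, 16, 187285) .leaf))) (86248, 0, 16, 107581) (.node (.node (.node .leaf (86251, 0, 18, 5246) .leaf) (86253, 0, 16, 229461) (.node .leaf (86254, 0, 17, 143625) .leaf)) (86257, 0, 16, 72086) (.node (.node .leaf (86258, 0, 16, 184958) .leaf) (86260, 0, 18, 214289) (.node .leaf (86263, 0, 15, 28816) .leaf)))) (86265, 0, 18, 211982) (.node (.node (.node (.node .leaf (86266, 0, 17, 145634) .leaf) (86268, 0, 12, 255307) (.node .leaf (86271, 0, 16, 138961) .leaf)) (86272, 0, 17, 81648) (.node (.node .leaf (86275, 0, 17, 222699) .leaf) (86277, 0, 17, 134381) (.node .leaf (86278, 0, 16, 43423) .leaf))) (86280, 0, 16, 61488) (.node (.node (.node .leaf (86283, 0, 17, 25904) .leaf) (86285, 0, 13, 127583)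 (.node .leaf (86286, 0, 14, 104758) .leaf)) (86289, 0, 18, 69928) (.node (.node .leaf (86290, 0, 16, 130520) .leaf) (86292, 0, 15, 38110) (.node .leaf (86295, 0, 16, 34375) .leaf))))) (86297, 0, 15, 129972) (.node (.node (.node (.node (.node .leaf (86298, 0, 18, 251968) .leaf) (86300, 0, 18, 122247) (.node .leaf (86303, 0, 14, 27867) .leaf)) (86304, 0, 17, 17402) (.node (.node .leaf (86307, 0, 19, 127654) .leaf) (86309, 0, 15, 67352) (.node .leaf (86310, 0, 14, 119957) .leaf))) (86312, 0, 15, 261061) (.node (.node (.node .leaf (86315, 0, 16, 150406) .leaf) (86317, 0, 17, 205440) (.node .leaf (86318, 0, 17, 81417) .leaf)) (86321, 0, 16, 214638) (.node (.node .leaf (86322, 0, 15, 194093) .leaf) (86324, 0, 16, 237355) (.node .leaf (86327, 0, 14, 129869) .leaf)))) (86329, 0, 15, 34494) (.node (.node (.node (.node .leaf (86330, 0, 16, 54197) .leaf) (86332, 0, 18, 41101) (.node .leaf (86335, 0, 17, 2800) .leaf)) (86337, 0, 11, 89928) (.node (.node .leaf (86338, 0, 14, 61195) .leaf) (86340, 0, 14, 99853)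 (.node .leaf (86343, 0, 16, 174139) .leaf))) (86345, 0, 11, 251336) (.node (.node (.node .leaf (86346, 0, 14, 156820) .leaf) (86348, 0, 13, 259067) (.node .leaf (86351, 0, 17, 148135) .leaf)) (86352, 0, 18, 247675) (.node (.node .leaf (86355, 0, 13, 172496) .leaf) (86357, 0, 14, 210623) (.node .leaf (86358, 0, 15, 175741) .leaf))))))

/-- part of the orbit tree -/
def itp2_321 : Tree := (.node itp2_317 (85972, 0, 17, 16490) itp2_318)

/-- part of the orbit tree -/
def itp2_322 : Tree := (.node itp2_319 (86233, 0, 14, 193716) itp2_320)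

/-- part of the orbit tree -/
def itp2_323 : Tree := (.node (.node (.node (.node (.node (.node .leaf (86363, 0, 11, 21152) .leaf) (86365, 0, 12, 252963) (.node .leaf (86366, 0, 14, 35813) .leaf)) (86369, 0, 16, 152765) (.node (.node .leaf (86370, 0, 12, 258818) .leaf) (86372, 0, 17, 167416) (.node .leaf (86375, 0, 15, 251185) .leaf))) (86377, 0, 15, 28965) (.node (.node (.node .leaf (86378, 0, 15, 115046) .leaf) (86380, 0, 15, 167665) (.node .leaf (86383, 0, 16, 71715) .leaf)) (86384, 0, 15, 159110) (.node (.node .leaf (86387, 0, 16, 97485) .leaf) (86389, 0, 16, 5579) (.node .leaf (86390, 0, 16, 260841) .leaf)))) (86392, 0, 18, 165658) (.node (.node (.node (.node .leaf (86395, 0, 15, 210502) .leaf) (86397, 0, 14, 143443) (.node .leaf (86398, 0, 15, 200821) .leaf)) (86400, 0, 16, 17058) (.node (.node .leaf (86403, 0, 16, 127713) .leaf) (86405, 0, 17, 174250) (.node .leaf (86406, 0, 16, 203254) .leaf))) (86408, 0, 15, 156677) (.node (.node (.node .leaf (86411, 0, 16, 251769) .leaf) (86413, 0, 14, 148022)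 (.node .leaf (86414, 0, 16, 200252) .leaf)) (86417, 0, 17, 187025) (.node (.node .leaf (86418, 0, 15, 223954) .leaf) (86420, 0, 16, 165746) (.node .leaf (86423, 0, 15, 242583) .leaf))))) (86425, 0, 13, 150493) (.node (.node (.node (.node (.node .leaf (86426, 0, 16, 260737) .leaf) (86428, 0, 15, 9804) (.node .leaf (86431, 0, 13, 103951) .leaf)) (86432, 0, 9, 258963) (.node (.node .leaf (86435, 0, 15, 148175) .leaf) (86437, 0, 17, 233490) (.node .leaf (86438, 0, 11, 139345) .leaf))) (86440, 0, 16, 93391) (.node (.node (.node .leaf (86443, 0, 12, 174163) .leaf) (86445, 0, 17, 212796) (.node .leaf (86446, 0, 16, 167520) .leaf)) (86449, 0, 12, 119140) (.node (.node .leaf (86450, 0, 13, 24871) .leaf) (86452, 0, 18, 67617) (.node .leaf (86455, 0, 17, 47202) .leaf)))) (86457, 0, 16, 259324) (.node (.node (.node (.node .leaf (86458, 0, 16, 148671) .leaf) (86460, 0, 17, 200932) (.node .leaf (86463, 0, 16, 171514) .leaf)) (86465, 0, 17, 36669) (.node (.node .leaf (86466, 0, 13, 81505) .leaf) (86468, 0, 15, 43278)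 (.node .leaf (86471, 0, 10, 172356) .leaf))) (86473, 0, 17, 126426) (.node (.node (.node .leaf (86474, 0, 12, 120061) .leaf) (86476, 0, 18, 17298) (.node .leaf (86479, 0, 17, 127694) .leaf)) (86480, 0, 18, 41189) (.node (.node .leaf (86483, 0, 19, 70073) .leaf) (86485, 0, 14, 34518) (.node .leaf (86486, 0, 16, 14711) .leaf))))))

/-- part of the orbit tree -/
def itp2_324 : Tree := (.node (.node (.node (.node (.node (.node .leaf (86491, 0, 16, 129829) .leaf) (86493, 0, 16, 240812) (.node .leaf (86494, 0, 17, 122134) .leaf)) (86497, 0, 17, 127543) (.node (.node .leaf (86498, 0, 17, 17259) .leaf) (86500, 0, 17, 6898) (.node .leaf (86503, 0, 15, 25944) .leaf))) (86505, 0, 18, 189999) (.node (.node (.node .leaf (86506, 0, 18, 43511) .leaf) (86508, 0, 14, 81560) (.node .leaf (86511, 0, 15, 233257) .leaf)) (86512, 0, 17, 154500) (.node (.node .leaf (86515, 0, 16, 27827) .leaf) (86517, 0, 17, 130012) (.node .leaf (86518, 0, 18, 19072) .leaf)))) (86520, 0, 17, 79731) (.node (.node (.node (.node .leaf (86523,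 0, 16, 118367) .leaf) (86525, 0, 16, 42841) (.node .leaf (86526, 0, 16, 40988) .leaf)) (86528, 0, 14, 89004) (.node (.node .leaf (86529, 0, 17, 113610) .leaf) (86534, 0, 17, 12970) (.node .leaf (86535, 0, 16, 135806) .leaf))) (86536, 0, 16, 79523) (.node (.node (.node .leaf (86537, 0, 17, 225165) .leaf) (86542, 0, 16, 41420) (.node .leaf (86543, 0, 13, 194388) .leaf)) (86546, 0, 17, 17083) (.node (.node .leaf (86547, 0, 16, 138133) .leaf) (86548, 0, 11, 120276) (.node .leaf (86549, 0, 14, 260796) .leaf))))) (86554, 0, 18, 22084) (.node (.node (.node (.node (.node .leaf (86555, 0, 17, 192777) .leaf) (86556, 0, 17, 81736) (.node .leaf (86557, 0, 12, 222822) .leaf)) (86560, 0, 17, 41269) (.node (.node .leaf (86561, 0, 17, 194587) .leaf) (86566, 0, 17, 211295) (.node .leaf (86567, 0, 17, 225140) .leaf))) (86568, 0, 17, 30145) (.node (.node (.node .leaf (86569, 0, 15, 38311) .leaf) (86574, 0, 15, 122054) (.node .leaf (86575, 0, 16, 230888) .leaf)) (86578, 0, 17, 96297) (.node (.node .leaf (86579, 0, 17,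 104527) .leaf) (86580, 0, 14, 4399) (.node .leaf (86581, 0, 20, 193008) .leaf)))) (86586, 0, 17, 120109) (.node (.node (.node (.node .leaf (86587, 0, 15, 232451) .leaf) (86588, 0, 17, 16962) (.node .leaf (86589, 0, 14, 138092) .leaf)) (86594, 0, 17, 221455) (.node (.node .leaf (86595, 0, 18, 229737) .leaf) (86596, 0, 17, 133129) (.node .leaf (86597, 0, 14, 107142) .leaf))) (86602, 0, 14, 165467) (.node (.node (.node .leaf (86603, 0, 16, 107761) .leaf) (86604, 0, 14, 11665) (.node .leaf (86605, 0, 15, 83994) .leaf)) (86608, 0, 16, 258627) (.node (.node .leaf (86609, 0, 18, 109421) .leaf) (86614, 0, 18, 156972) (.node .leaf (86615, 0, 13, 114719) .leaf))))))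

/-- part of the orbit tree -/
def itp2_325 : Tree := (.node (.node (.node (.node (.node (.node .leaf (86617, 0, 17, 167041) .leaf) (86622, 0, 14, 167856) (.node .leaf (86623, 0, 16, 54942) .leaf)) (86626, 0, 16, 27386) (.node (.node .leaf (86627, 0, 15, 84195) .leaf) (86628, 0, 15, 165538) (.node .leaf (86629, 0, 16, 57228) .leaf))) (86634, 0, 17, 260945) (.node (.node (.node .leaf (86635, 0, 16, 175876) .leaf) (86636, 0, 12, 206436) (.node .leaf (86637, 0, 16, 13584) .leaf)) (86640, 0, 14, 213642) (.node (.node .leaf (86641, 0, 14, 238316) .leaf) (86646, 0, 17, 142220) (.node .leaf (86647, 0, 17, 82184) .leaf)))) (86648, 0, 18, 91922) (.node (.node (.node (.node .leaf (86649, 0, 17, 100212) .leaf) (86654, 0, 16, 258746) (.node .leaf (86655, 0, 14, 61042) .leaf)) (86656, 0, 14, 248998) (.node (.node .leaf (86657, 0, 15, 208064) .leaf) (86662, 0, 17, 260921) (.node .leaf (86663, 0, 16, 107031) .leaf))) (86664, 0, 18, 165578) (.node (.node (.node .leaf (86665, 0, 14, 57316) .leaf) (86670, 0, 17, 32824)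 (.node .leaf (86671, 0, 16, 24670) .leaf)) (86674, 0, 16, 58582) (.node (.node .leaf (86675, 0, 17, 1200) .leaf) (86676, 0, 14, 101840) (.node .leaf (86677, 0, 17, 93622) .leaf))))) (86682, 0, 17, 180558) (.node (.node (.node (.node (.node .leaf (86683, 0, 14, 139560) .leaf) (86684, 0, 13, 239688) (.node .leaf (86685, 0, 14, 215086) .leaf)) (86688, 0, 18, 51027) (.node (.node .leaf (86689, 0, 12, 10037) .leaf) (86694, 0, 16, 110165) (.node .leaf (86695, 0, 15, 85555) .leaf))) (86696, 0, 16, 189131) (.node (.node (.node .leaf (86697, 0, 18, 107246) .leaf) (86702, 0, 17, 232397) (.node .leaf (86703, 0, 17, 13697) .leaf)) (86706, 0, 16, 257827) (.node (.node .leaf (86707, 0, 16, 55030) .leaf) (86708, 0, 15, 202935) (.node .leaf (86709, 0, 18, 82329) .leaf)))) (86714, 0, 17, 156996) (.node (.node (.node (.node .leaf (86715, 0, 13, 15466) .leaf) (86716, 0, 10, 258603) (.node .leaf (86717, 0, 17, 17371) .leaf)) (86722, 0, 15, 122030) (.node (.node .leaf (86723, 0, 17, 71267) .leaf) (86724, 0, 18, 40707)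 (.node .leaf (86725, 0, 18, 32613) .leaf))) (86730, 0, 18, 79410) (.node (.node (.node .leaf (86731, 0, 13, 225052) .leaf) (86732, 0, 16, 41309) (.node .leaf (86733, 0, 10, 194675) .leaf)) (86736, 0, 17, 16938) (.node (.node .leaf (86737, 0, 15, 146963) .leaf) (86742, 0, 17, 120133) (.node .leaf (86743, 0, 16, 218901) .leaf))))))

/-- part of the orbit tree -/
def itp2_326 : Tree := (.node (.node (.node (.node (.node (.node .leaf (86745, 0, 16, 192920) .leaf) (86750, 0, 16, 103147) (.node .leaf (86751, 0, 17, 94861) .leaf)) (86754, 0, 15, 41380) (.node (.node .leaf (86755, 0, 16, 194698) .leaf) (86756, 0, 18, 79563) (.node .leaf (86757, 0, 17, 226448) .leaf))) (86762, 0, 19, 55400) (.node (.node (.node .leaf (86763, 0, 18, 135702) .leaf) (86764, 0, 16, 110958) (.node .leaf (86765, 0, 14, 230777) .leaf)) (86768, 0, 15, 120192) (.node (.node .leaf (86769, 0, 16, 222734) .leaf) (86774, 0, 14, 48262) (.node .leaf (86775, 0, 16, 23776) .leaf)))) (86776, 0, 16, 258072) (.node (.node (.node (.node .leaf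 (86777, 0, 16, 200830) .leaf) (86782, 0, 13, 170270) (.node .leaf (86783, 0, 13, 138237) .leaf)) (86786, 0, 13, 240125) (.node (.node .leaf (86787, 0, 17, 215451) .leaf) (86788, 0, 17, 214209) (.node .leaf (86789, 0, 16, 139421) .leaf))) (86794, 0, 15, 145714) (.node (.node (.node .leaf (86795, 0, 17, 93187) .leaf) (86796, 0, 16, 58723) (.node .leaf (86797, 0, 16, 1285) .leaf)) (86800, 0, 15, 33165) (.node (.node .leaf (86801, 0, 13, 70660) .leaf) (86806, 0, 16, 186949) (.node .leaf (86807, 0, 15, 33643) .leaf))))) (86808, 0, 15, 239542) (.node (.node (.node (.node (.node .leaf (86809, 0, 18, 130712) .leaf) (86814, 0, 18, 143577) (.node .leaf (86815, 0, 14, 27127) .leaf)) (86818, 0, 15, 241316) (.node (.node .leaf (86819, 0, 16, 17006) .leaf) (86820, 0, 12, 117518) (.node .leaf (86821, 0, 18, 24805) .leaf))) (86826, 0, 15, 165776) (.node (.node (.node .leaf (86827, 0, 16, 157686) .leaf) (86828, 0, 16, 257686) (.node .leaf (86829, 0, 18, 35449) .leaf)) (86832, 0, 15, 232056) (.node (.node .leaf (86833,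 0, 17, 223774) .leaf) (86838, 0, 15, 239439) (.node .leaf (86839, 0, 11, 131864) .leaf)))) (86840, 0, 17, 187068) (.node (.node (.node (.node .leaf (86841, 0, 17, 33682) .leaf) (86846, 0, 17, 50918) (.node .leaf (86847, 0, 12, 9856) .leaf)) (86848, 0, 15, 103262) (.node (.node .leaf (86849, 0, 17, 211576) .leaf) (86854, 0, 16, 62521) (.node .leaf (86855, 0, 14, 175383) .leaf))) (86856, 0, 19, 243398) (.node (.node (.node .leaf (86857, 0, 17, 250084) .leaf) (86862, 0, 17, 7845) (.node .leaf (86863, 0, 16, 149387) .leaf)) (86866, 0, 18, 178990) (.node (.node .leaf (86867, 0, 17, 173308) .leaf) (86868, 0, 14, 92861) .leaf)))))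

/-- part of the orbit tree -/
def itp2_327 : Tree := (.node itp2_323 (86488, 0, 14, 226793) itp2_324)

/-- part of the orbit tree -/
def itp2_328 : Tree := (.node itp2_325 (86744, 0, 15, 43190) itp2_326)

/-- part of the orbit tree -/
def itp2_329 : Tree := (.node itp2_321 (86105, 0, 15, 172273) itp2_322)

/-- part of the orbit tree -/
def itp2_330 : Tree := (.node itp2_327 (86616, 0, 12, 202975) itp2_328)

/-- part of the orbit tree -/
def itp2_331 : Tree := (.node (.node (.node (.node (.node (.node .leaf (86874, 0, 18, 5966) .leaf) (86875, 0, 14, 32464) (.node .leaf (86876, 0, 16, 128944) .leaf)) (86877, 0, 16, 252175) (.node (.node .leaf (86880, 0, 15, 170155) .leaf) (86881, 0, 16, 149362) (.node .leaf (86886, 0, 14, 258477) .leaf))) (86887, 0, 15, 201163) (.node (.node (.node .leaf (86888, 0, 18, 62656) .leaf) (86889, 0, 15, 175598) (.node .leaf (86894, 0, 17, 119861) .leaf)) (86895, 0, 16, 211585) (.node (.node .leaf (86898, 0, 14, 110811) .leaf) (86899, 0, 16, 86205) (.node .leaf (86900, 0,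 15, 55773) .leaf)))) (86901, 0, 16, 151193) (.node (.node (.node (.node .leaf (86906, 0, 16, 92740) .leaf) (86907, 0, 15, 209770) (.node .leaf (86908, 0, 15, 195653) .leaf)) (86909, 0, 16, 173061) (.node (.node .leaf (86914, 0, 17, 91079) .leaf) (86915, 0, 16, 122513) (.node .leaf (86916, 0, 16, 22513) .leaf))) (86917, 0, 16, 46999) (.node (.node (.node .leaf (86922, 0, 16, 203631) .leaf) (86923, 0, 16, 260873) (.node .leaf (86924, 0, 17, 7732) .leaf)) (86925, 0, 17, 149274) (.node (.node .leaf (86928, 0, 16, 136839) .leaf) (86929, 0, 16, 194273) (.node .leaf (86934, 0, 12, 92716) .leaf))))) (86935, 0, 14, 237543) (.node (.node (.node (.node (.node .leaf (86936, 0, 15, 13087) .leaf) (86937, 0, 15, 54137) (.node .leaf (86942, 0, 18, 88601) .leaf)) (86943, 0, 13, 252318) (.node (.node .leaf (86946, 0, 16, 144642) .leaf) (86947, 0, 11, 185700) (.node .leaf (86948, 0, 17, 220164) .leaf))) (86949, 0, 15, 249996) (.node (.node (.node .leaf (86954, 0, 17, 62545) .leaf) (86955, 0, 15, 61692) (.node .leaf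 (86956, 0, 18, 90942) .leaf)) (86957, 0, 14, 104954) (.node (.node .leaf (86960, 0, 17, 98377) .leaf) (86961, 0, 14, 130324) (.node .leaf (86966, 0, 15, 29812) .leaf)))) (86967, 0, 17, 37906) (.node (.node (.node (.node .leaf (86968, 0, 15, 92885) .leaf) (86969, 0, 17, 209915) (.node .leaf (86974, 0, 17, 152044) .leaf)) (86975, 0, 17, 176522) (.node (.node .leaf (86976, 0, 15, 185151) .leaf) (86977, 0, 18, 35345) (.node .leaf (86982, 0, 19, 214096) .leaf))) (86983, 0, 17, 167220) (.node (.node (.node .leaf (86984, 0, 16, 74188) .leaf) (86985, 0, 16, 115114) (.node .leaf (86990, 0, 17, 241356) .leaf)) (86991, 0, 17, 43180) (.node (.node .leaf (86994, 0, 12, 11300) .leaf) (86995, 0, 16, 52290) (.node .leaf (86996, 0, 17, 187092) .leaf))))))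

/-- part of the orbit tree -/
def itp2_332 : Tree := (.node (.node (.node (.node (.node (.node .leaf (87002, 0, 16, 133564) .leaf) (87003, 0, 16, 190938) (.node .leaf (87004, 0, 16, 143432) .leaf)) (87005, 0, 18, 26982) (.node (.node .leaf (87008, 0, 13, 4001) .leaf) (87009, 0, 15, 128795) (.node .leaf (87014, 0, 17, 91815) .leaf))) (87015, 0, 15, 24692) (.node (.node (.node .leaf (87016, 0, 17, 141881) .leaf) (87017, 0, 16, 182879) (.node .leaf (87022, 0, 16, 213823) .leaf)) (87023, 0, 15, 35560) (.node (.node .leaf (87026, 0, 14, 143537) .leaf) (87027, 0, 14, 27039) (.node .leaf (87028, 0, 15, 151255) .leaf)))) (87029, 0, 18, 175793) (.node (.node (.node (.node .leaf (87034, 0, 18, 66121) .leaf) (87035, 0, 15, 123439) (.node .leaf (87036, 0, 16, 216386) .leaf)) (87037, 0, 13, 70764) (.node (.node .leaf (87040, 0, 10, 185575) .leaf) (87042, 0, 16, 81233) (.node .leaf (87045, 0, 16, 46129) .leaf))) (87047, 0, 16, 123924) (.node (.node (.node .leaf (87048, 0, 18, 149740) .leaf) (87050, 0, 17, 202953)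 (.node .leaf (87053, 0, 13, 137288) .leaf)) (87055, 0, 13, 246156) (.node (.node .leaf (87057, 0, 17, 195391) .leaf) (87059, 0, 18, 70477) (.node .leaf (87060, 0, 17, 187660) .leaf))))) (87062, 0, 14, 79230) (.node (.node (.node (.node (.node .leaf (87065, 0, 14, 53471) .leaf) (87067, 0, 14, 129489) (.node .leaf (87068, 0, 14, 145296) .leaf)) (87070, 0, 16, 122850) (.node (.node .leaf (87072, 0, 16, 240109) .leaf) (87074, 0, 17, 145060) (.node .leaf (87077, 0, 17, 245700) .leaf))) (87079, 0, 16, 192481) (.node (.node (.node .leaf (87080, 0, 18, 82713) .leaf) (87082, 0, 17, 4924) (.node .leaf (87085, 0, 14, 105052) .leaf)) (87087, 0, 16, 36144) (.node (.node .leaf (87089, 0, 17, 130738) .leaf) (87091, 0, 13, 44695) (.node .leaf (87092, 0, 15, 237574) .leaf)))) (87094, 0, 16, 18548) (.node (.node (.node (.node .leaf (87097, 0, 17, 224425) .leaf) (87099, 0, 16, 34011) (.node .leaf (87100, 0, 15, 197231) .leaf)) (87102, 0, 15, 41704) (.node (.node .leaf (87105, 0, 17, 255892) .leaf) (87107, 0, 17, 212273)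 (.node .leaf (87108, 0, 15, 62320) .leaf))) (87110, 0, 14, 159476) (.node (.node (.node .leaf (87113, 0, 16, 16351) .leaf) (87115, 0, 15, 37417) (.node .leaf (87116, 0, 16, 72521) .leaf)) (87118, 0, 16, 258462) (.node (.node .leaf (87120, 0, 17, 98215) .leaf) (87122, 0, 14, 12162) (.node .leaf (87125, 0, 14, 108258) .leaf))))))

/-- part of the orbit tree -/
def itp2_333 : Tree := (.node (.node (.node (.node (.node (.node .leaf (87128, 0, 14, 219711) .leaf) (87130, 0, 16, 133658) (.node .leaf (87133, 0, 12, 13876) .leaf)) (87135, 0, 12, 253510) (.node (.node .leaf (87137, 0, 17, 108617) .leaf) (87139, 0, 18, 147515) (.node .leaf (87140, 0, 16, 102010) .leaf))) (87142, 0, 16, 157192) (.node (.node (.node .leaf (87145, 0, 17, 182777) .leaf) (87147, 0, 14, 174759) (.node .leaf (87148, 0, 18, 135356) .leaf)) (87150, 0, 13, 213145) (.node (.node .leaf (87152, 0, 15, 100241) .leaf) (87154, 0, 15, 205943) (.node .leaf (87157, 0, 14, 175383) .leaf)))) (87159, 0, 14, 149968) (.node (.node (.node (.node .leaf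 (87160, 0, 14, 20938) .leaf) (87162, 0, 17, 66031) (.node .leaf (87165, 0, 14, 34959) .leaf)) (87167, 0, 18, 121002) (.node (.node .leaf (87168, 0, 11, 195198) .leaf) (87170, 0, 11, 167164) (.node .leaf (87173, 0, 18, 82621) .leaf))) (87175, 0, 17, 174799) (.node (.node (.node .leaf (87176, 0, 17, 57318) .leaf) (87178, 0, 17, 102339) (.node .leaf (87181, 0, 17, 1699) .leaf)) (87183, 0, 17, 147539) (.node (.node .leaf (87185, 0, 14, 25165) .leaf) (87187, 0, 16, 172836) (.node .leaf (87188, 0, 16, 47880) .leaf))))) (87190, 0, 17, 125741) (.node (.node (.node (.node (.node .leaf (87193, 0, 11, 149461) .leaf) (87195, 0, 17, 202736) (.node .leaf (87196, 0, 18, 100345) .leaf)) (87198, 0, 9, 159627) (.node (.node .leaf (87200, 0, 16, 127371) .leaf) (87202, 0, 16, 258550) (.node .leaf (87205, 0, 16, 16311) .leaf))) (87207, 0, 14, 251845) (.node (.node (.node .leaf (87208, 0, 15, 62232) .leaf) (87210, 0, 17, 164918) (.node .leaf (87213, 0, 14, 54571) .leaf)) (87215, 0, 15, 154995) (.node (.node .leaf (87217,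 0, 17, 13916) .leaf) (87219, 0, 14, 253486) (.node .leaf (87220, 0, 11, 4207) .leaf)))) (87222, 0, 16, 188632) (.node (.node (.node (.node .leaf (87225, 0, 16, 85024) .leaf) (87227, 0, 15, 7173) (.node .leaf (87228, 0, 16, 64243) .leaf)) (87230, 0, 14, 50496) (.node (.node .leaf (87233, 0, 13, 94366) .leaf) (87235, 0, 16, 36184) (.node .leaf (87236, 0, 16, 213785) .leaf))) (87238, 0, 16, 43883) (.node (.node (.node .leaf (87241, 0, 16, 218374) .leaf) (87243, 0, 17, 132387) (.node .leaf (87244, 0, 13, 240005) .leaf)) (87246, 0, 17, 187494) (.node (.node .leaf (87248, 0, 17, 215794) .leaf) (87250, 0, 16, 178312) (.node .leaf (87253, 0, 15, 209384) .leaf))))))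

/-- part of the orbit tree -/
def itp2_334 : Tree := (.node (.node (.node (.node (.node (.node .leaf (87256, 0, 15, 237678) .leaf) (87258, 0, 15, 18460) (.node .leaf (87261, 0, 15, 231005) .leaf)) (87263, 0, 17, 17493) (.node (.node .leaf (87265, 0, 17, 137248) .leaf) (87267, 0, 15, 207694) (.node .leaf (87268, 0, 15, 146963) .leaf))) (87270, 0, 16, 258571) (.node (.node (.node .leaf (87273, 0, 14, 193212) .leaf) (87275, 0, 18, 69334) (.node .leaf (87276, 0, 16, 185487) .leaf)) (87278, 0, 15, 120723) (.node (.node .leaf (87280, 0, 16, 145400) .leaf) (87282, 0, 17, 122762) (.node .leaf (87285, 0, 14, 135627) .leaf)))) (87287, 0, 16, 92728) (.node (.node (.node (.node .leaf (87288, 0, 15, 181952) .leaf) (87290, 0, 13, 235237) (.node .leaf (87293, 0, 17, 195415) .leaf)) (87295, 0, 6, 70437) (.node (.node .leaf (87297, 0, 14, 208742) .leaf) (87299, 0, 16, 229976) (.node .leaf (87300, 0, 18, 259619) .leaf))) (87302, 0, 16, 173574) (.node (.node (.node .leaf (87305, 0, 18, 68350) .leaf) (87307, 0, 15,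 23259) (.node .leaf (87308, 0, 14, 119739) .leaf)) (87310, 0, 14, 216823) (.node (.node .leaf (87312, 0, 16, 112469) .leaf) (87314, 0, 17, 241024) (.node .leaf (87317, 0, 13, 93712) .leaf))))) (87319, 0, 17, 232371) (.node (.node (.node (.node (.node .leaf (87320, 0, 9, 234189) .leaf) (87322, 0, 15, 214812) (.node .leaf (87325, 0, 14, 35165) .leaf)) (87327, 0, 19, 138157) (.node (.node .leaf (87329, 0, 14, 9363) .leaf) (87331, 0, 17, 196434) (.node .leaf (87332, 0, 18, 78099) .leaf))) (87334, 0, 15, 110067) (.node (.node (.node .leaf (87337, 0, 15, 130492) .leaf) (87339, 0, 13, 217390) (.node .leaf (87340, 0, 15, 121743) .leaf)) (87342, 0, 17, 231531) (.node (.node .leaf (87344, 0, 15, 80120) .leaf) (87346, 0, 16, 184458) (.node .leaf (87349, 0, 15, 73419) .leaf)))) (87351, 0, 17, 210368) (.node (.node (.node (.node .leaf (87352, 0, 18, 39224) .leaf) (87354, 0, 18, 145942) (.node .leaf (87357, 0, 17, 16509) .leaf)) (87359, 0, 17, 138277) (.node (.node .leaf (87360, 0, 17, 42374) .leaf) (87362, 0,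 16, 128419) (.node .leaf (87365, 0, 16, 150973) .leaf))) (87367, 0, 16, 77030) (.node (.node (.node .leaf (87368, 0, 18, 163870) .leaf) (87370, 0, 14, 249915) (.node .leaf (87373, 0, 18, 153947) .leaf)) (87375, 0, 18, 85843) (.node (.node .leaf (87377, 0, 12, 146869) .leaf) (87379, 0, 15, 109604) (.node .leaf (87380, 0, 15, 156261) .leaf))))))

/-- part of the orbit tree -/
def itp2_335 : Tree := (.node itp2_331 (86997, 0, 16, 107844) itp2_332)

/-- part of the orbit tree -/
def itp2_336 : Tree := (.node itp2_333 (87255, 0, 17, 156109) itp2_334)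

/-- part of the orbit tree -/
def itp2_337 : Tree := (.node (.node (.node (.node (.node (.node .leaf (87385, 0, 16, 6189) .leaf) (87387, 0, 15, 83976) (.node .leaf (87388, 0, 17, 166137) .leaf)) (87390, 0, 16, 90251) (.node (.node .leaf (87392, 0, 16, 241267) .leaf) (87394, 0, 18, 65270) (.node .leaf (87397, 0, 17, 209079) .leaf))) (87399, 0, 15, 141075) (.node (.node (.node .leaf (87400, 0, 17, 101355) .leaf) (87402, 0, 16, 56270) (.node .leaf (87405, 0, 18, 252459) .leaf)) (87407, 0, 17, 651) (.node (.node .leaf (87409, 0, 18, 211292) .leaf) (87411, 0, 16, 53550) (.node .leaf (87412, 0, 17, 204655) .leaf)))) (87414, 0, 14, 63261) (.node (.node (.node (.node .leaf (87417, 0, 16, 250816) .leaf) (87419, 0, 17, 148477) (.node .leaf (87420, 0, 16, 248477) .leaf)) (87422, 0, 16, 170680) (.node (.node .leaf (87425, 0, 18, 112748) .leaf) (87427, 0, 12, 12849) (.node .leaf (87428, 0, 12, 261232) .leaf))) (87430, 0, 17, 12556) (.node (.node (.node .leaf (87433, 0, 15, 209119) .leaf) (87435, 0, 14, 55469)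 (.node .leaf (87436, 0, 15, 214193) .leaf)) (87438, 0, 16, 136340) (.node (.node .leaf (87440, 0, 18, 204895) .leaf) (87442, 0, 16, 7657) (.node .leaf (87445, 0, 15, 250792) .leaf))))) (87447, 0, 14, 15322) (.node (.node (.node (.node (.node .leaf (87448, 0, 16, 67015) .leaf) (87450, 0, 15, 21986) (.node .leaf (87453, 0, 19, 211252) .leaf)) (87455, 0, 15, 53574) (.node (.node .leaf (87457, 0, 17, 173897) .leaf) (87459, 0, 14, 254908) (.node .leaf (87460, 0, 13, 164218) .leaf))) (87462, 0, 14, 92424) (.node (.node (.node .leaf (87465, 0, 18, 150997) .leaf) (87467, 0, 14, 107943) (.node .leaf (87468, 0, 14, 20292) .leaf)) (87470, 0, 13, 73569) (.node (.node .leaf (87472, 0, 16, 11178) .leaf) (87474, 0, 17, 97167) (.node .leaf (87477, 0, 17, 62191) .leaf)))) (87479, 0, 18, 107210) (.node (.node (.node (.node .leaf (87480, 0, 16, 156173) .leaf) (87482, 0, 17, 100991) (.node .leaf (87485, 0, 16, 186231) .leaf)) (87487, 0, 15, 109644) (.node (.node .leaf (87488, 0, 17, 121831) .leaf) (87490, 0, 17, 144277)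 (.node .leaf (87493, 0, 16, 191433) .leaf))) (87495, 0, 17, 244716) (.node (.node (.node .leaf (87496, 0, 16, 78203) .leaf) (87498, 0, 17, 83761) (.node .leaf (87501, 0, 16, 71496) .leaf)) (87503, 0, 15, 196410) (.node (.node .leaf (87505, 0, 17, 43711) .leaf) (87507, 0, 15, 129690) (.node .leaf (87508, 0, 18, 119308) .leaf))))))

/-- part of the orbit tree -/
def itp2_338 : Tree := (.node (.node (.node (.node (.node (.node .leaf (87513, 0, 18, 167719) .leaf) (87515, 0, 15, 253698) (.node .leaf (87516, 0, 15, 153186) .leaf)) (87518, 0, 14, 198215) (.node (.node .leaf (87520, 0, 17, 42733) .leaf) (87522, 0, 18, 216735) (.node .leaf (87525, 0, 16, 122940) .leaf))) (87527, 0, 13, 45081) (.node (.node (.node .leaf (87528, 0, 13, 204001) .leaf) (87530, 0, 16, 150724) (.node .leaf (87533, 0, 14, 247204) .leaf)) (87535, 0, 15, 169345) (.node (.node .leaf (87537, 0, 15, 237898) .leaf) (87539, 0, 9, 221511) (.node .leaf (87540, 0, 17, 227343) .leaf)))) (87542, 0, 12, 141354) (.node (.node (.node (.node .leaf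 (87545, 0, 16, 99538) .leaf) (87547, 0, 14, 232411) (.node .leaf (87548, 0, 17, 17818) .leaf)) (87550, 0, 16, 3506) (.node (.node .leaf (87556, 0, 15, 44758) .leaf) (87557, 0, 15, 38977) (.node .leaf (87558, 0, 14, 214692) .leaf))) (87559, 0, 16, 116836) (.node (.node (.node .leaf (87564, 0, 15, 155071) .leaf) (87565, 0, 18, 179673) (.node .leaf (87566, 0, 18, 200090) .leaf)) (87567, 0, 14, 128278) (.node (.node .leaf (87568, 0, 15, 42813) .leaf) (87569, 0, 14, 196115) (.node .leaf (87570, 0, 17, 216911) .leaf))))) (87571, 0, 17, 231698) (.node (.node (.node (.node (.node .leaf (87576, 0, 15, 19873) .leaf) (87577, 0, 15, 136335) (.node .leaf (87578, 0, 16, 85228) .leaf)) (87579, 0, 8, 109706) (.node (.node .leaf (87588, 0, 18, 119772) .leaf) (87589, 0, 18, 232178) (.node .leaf (87590, 0, 15, 140279) .leaf))) (87591, 0, 18, 181137) (.node (.node (.node .leaf (87596, 0, 15, 87626) .leaf) (87597, 0, 15, 112172) (.node .leaf (87598, 0, 15, 1647) .leaf)) (87599, 0, 17, 34844) (.node (.node .leaf (87600,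 0, 18, 78500) .leaf) (87601, 0, 15, 230169) (.node .leaf (87602, 0, 18, 143941) .leaf)))) (87603, 0, 17, 33511) (.node (.node (.node (.node .leaf (87608, 0, 17, 202556) .leaf) (87609, 0, 18, 259930) (.node .leaf (87610, 0, 16, 149273) .leaf)) (87611, 0, 17, 33271) (.node (.node .leaf (87616, 0, 17, 166209) .leaf) (87617, 0, 17, 248804) (.node .leaf (87618, 0, 14, 90419) .leaf))) (87619, 0, 16, 170945) (.node (.node (.node .leaf (87624, 0, 14, 156637) .leaf) (87625, 0, 18, 126588) (.node .leaf (87626, 0, 14, 24127) .leaf)) (87627, 0, 17, 48729) (.node (.node .leaf (87636, 0, 14, 92916) .leaf) (87637, 0, 16, 55684) (.node .leaf (87638, 0, 17, 15057) .leaf))))))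

/-- part of the orbit tree -/
def itp2_339 : Tree := (.node (.node (.node (.node (.node (.node .leaf (87644, 0, 16, 158262) .leaf) (87645, 0, 17, 13080) (.node .leaf (87646, 0, 17, 98884) .leaf)) (87647, 0, 16, 196399) (.node (.node .leaf (87648, 0, 16, 259147) .leaf) (87649, 0, 16, 109925) (.node .leaf (87650, 0, 17, 94290) .leaf))) (87651, 0, 16, 148759) (.node (.node (.node .leaf (87656, 0, 10, 132591) .leaf) (87657, 0, 16, 189833) (.node .leaf (87658, 0, 14, 218570) .leaf)) (87659, 0, 16, 243116) (.node (.node .leaf (87668, 0, 18, 261536) .leaf) (87669, 0, 13, 164199) (.node .leaf (87670, 0, 15, 5586) .leaf)))) (87671, 0, 17, 250178) (.node (.node (.node (.node .leaf (87676, 0, 17, 202556) .leaf) (87677, 0, 16, 85522) (.node .leaf (87678, 0, 14, 65358) .leaf)) (87679, 0, 17, 173664) (.node (.node .leaf (87684, 0, 17, 204479) .leaf) (87685, 0, 14, 83857) (.node .leaf (87686, 0, 17, 245512) .leaf))) (87687, 0, 20, 221038) (.node (.node (.node .leaf (87692, 0, 18, 259107) .leaf) (87693, 0, 16, 109837)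 (.node .leaf (87694, 0, 17, 105104) .leaf)) (87695, 0, 14, 97014) (.node (.node .leaf (87696, 0, 17, 202580) .leaf) (87697, 0, 16, 85626) (.node .leaf (87698, 0, 16, 65318) .leaf))))) (87699, 0, 18, 73240) (.node (.node (.node (.node (.node .leaf (87704, 0, 14, 166851) .leaf) (87705, 0, 17, 158629) (.node .leaf (87706, 0, 15, 5562) .leaf)) (87707, 0, 16, 150676) (.node (.node .leaf (87716, 0, 17, 124120) .leaf) (87717, 0, 15, 15003) (.node .leaf (87718, 0, 14, 46333) .leaf))) (87719, 0, 16, 21659) (.node (.node (.node .leaf (87724, 0, 16, 166185) .leaf) (87725, 0, 16, 53255) (.node .leaf (87726, 0, 14, 168293) .leaf)) (87727, 0, 16, 211061) (.node (.node .leaf (87728, 0, 17, 158302) .leaf) (87729, 0, 15, 13168) (.node .leaf (87730, 0, 17, 98860) .leaf)))) (87731, 0, 14, 252674) (.node (.node (.node (.node .leaf (87736, 0, 14, 164034) .leaf) (87737, 0, 16, 90192) (.node .leaf (87738, 0, 17, 92336) .leaf)) (87739, 0, 15, 209310) (.node (.node .leaf (87744, 0, 15, 113800) .leaf) (87745, 0, 16, 221190)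 (.node .leaf (87746, 0, 17, 60589) .leaf))) (87747, 0, 17, 34932) (.node (.node (.node .leaf (87752, 0, 13, 119732) .leaf) (87753, 0, 16, 227702) (.node .leaf (87754, 0, 15, 146374) .leaf)) (87755, 0, 18, 25320) (.node (.node .leaf (87764, 0, 17, 261630) .leaf) (87765, 0, 14, 204184) (.node .leaf (87766, 0, 16, 186545) .leaf))))))

/-- part of the orbit tree -/
def itp2_340 : Tree := (.node (.node (.node (.node (.node (.node .leaf (87772, 0, 15, 121439) .leaf) (87773, 0, 17, 79872) (.node .leaf (87774, 0, 18, 143917) .leaf)) (87775, 0, 15, 27395) (.node (.node .leaf (87776, 0, 16, 178045) .leaf) (87777, 0, 17, 153371) (.node .leaf (87778, 0, 17, 240720) .leaf))) (87779, 0, 18, 128382) (.node (.node (.node .leaf (87784, 0, 18, 44734) .leaf) (87785, 0, 17, 29315) (.node .leaf (87786, 0, 17, 115392) .leaf)) (87787, 0, 19, 74406) (.node (.node .leaf (87796, 0, 16, 62987) .leaf) (87797, 0, 14, 136423) (.node .leaf (87798, 0, 11, 108078) .leaf)))) (87799, 0, 17, 130197) (.node (.node (.node (.node .leaf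 (87804, 0, 18, 185235) .leaf) (87805, 0, 17, 196219) (.node .leaf (87806, 0, 16, 216871) .leaf)) (87807, 0, 16, 222160) (.node (.node .leaf (87808, 0, 13, 254832) .leaf) (87809, 0, 16, 197398) (.node .leaf (87810, 0, 18, 176981) .leaf))) (87811, 0, 17, 152371) (.node (.node (.node .leaf (87816, 0, 14, 116456) .leaf) (87817, 0, 14, 75406) (.node .leaf (87818, 0, 16, 79046) .leaf)) (87819, 0, 17, 30379) (.node (.node .leaf (87828, 0, 16, 107014) .leaf) (87829, 0, 14, 82528) (.node .leaf (87830, 0, 14, 120753) .leaf))))) (87831, 0, 13, 233119) (.node (.node (.node (.node (.node .leaf (87836, 0, 14, 231326) .leaf) (87837, 0, 14, 223224) (.node .leaf (87838, 0, 16, 186299) .leaf)) (87839, 0, 15, 145373) (.node (.node .leaf (87840, 0, 14, 59525) .leaf) (87841, 0, 16, 70156) (.node .leaf (87842, 0, 17, 41808) .leaf))) (87843, 0, 11, 195198) (.node (.node (.node .leaf (87848, 0, 17, 183581) .leaf) (87849, 0, 16, 142715) (.node .leaf (87850, 0, 18, 236856) .leaf)) (87851, 0, 16, 135394) (.node (.node .leaf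 (87860, 0, 19, 174579) .leaf) (87861, 0, 17, 149909) (.node .leaf (87862, 0, 14, 260566) .leaf)))) (87863, 0, 16, 203184) (.node (.node (.node (.node .leaf (87868, 0, 18, 239701) .leaf) (87869, 0, 15, 127355) (.node .leaf (87870, 0, 16, 121934) .leaf)) (87871, 0, 16, 80936) (.node (.node .leaf (87876, 0, 16, 45269) .leaf) (87877, 0, 16, 20659) (.node .leaf (87878, 0, 17, 123120) .leaf))) (87879, 0, 17, 106723) (.node (.node (.node .leaf (87884, 0, 14, 64291) .leaf) (87885, 0, 16, 172557) (.node .leaf (87886, 0, 16, 201553) .leaf)) (87887, 0, 14, 206094) (.node (.node .leaf (87888, 0, 16, 6228) .leaf) (87889, 0, 15, 147834) .leaf)))))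

/-- part of the orbit tree -/
def itp2_341 : Tree := (.node itp2_337 (87510, 0, 15, 74719) itp2_338)

/-- part of the orbit tree -/
def itp2_342 : Tree := (.node itp2_339 (87767, 0, 16, 150973) itp2_340)

/-- part of the orbit tree -/
def itp2_343 : Tree := (.node itp2_335 (87127, 0, 16, 63175) itp2_336)

/-- part of the orbit tree -/
def itp2_344 : Tree := (.node itp2_341 (87639, 0, 16, 55991) itp2_342)

/-- part of the orbit tree -/
def itp2_345 : Tree := (.node itp2_329 (86360, 0, 17, 123619) itp2_330)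

/-- part of the orbit tree -/
def itp2_346 : Tree := (.node itp2_343 (87382, 0, 14, 242901) itp2_344)

/-- part of the orbit tree -/
def itp2_347 : Tree := (.node (.node (.node (.node (.node (.node .leaf (87891, 0, 16, 213472) .leaf) (87896, 0, 17, 62152) (.node .leaf (87897, 0, 18, 175078) .leaf)) (87898, 0, 14, 99358) (.node (.node .leaf (87899, 0, 15, 91256) .leaf) (87908, 0, 16, 93365) (.node .leaf (87909, 0, 16, 219974) .leaf))) (87910, 0, 16, 191237) (.node (.node (.node .leaf (87911, 0, 16, 133987) .leaf) (87916, 0, 14, 106168) (.node .leaf (87917, 0, 15, 98014) .leaf)) (87918, 0, 15, 159323) (.node (.node .leaf (87919, 0, 15, 14197) .leaf) (87920, 0, 17, 129622) (.node .leaf (87921, 0, 16, 72240) .leaf)))) (87922, 0, 16, 43635) (.node (.node (.node (.node .leaf (87923, 0, 16, 18965) .leaf) (87928, 0, 13, 253902) (.node .leaf (87929, 0, 16, 212904) .leaf)) (87930, 0, 18, 157616) (.node (.node .leaf (87931, 0, 17, 16030) .leaf) (87936, 0, 16, 99905) (.node .leaf (87937, 0, 12, 103452) .leaf)))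 (87938, 0, 18, 159283) (.node (.node (.node .leaf (87939, 0, 17, 50233) .leaf) (87944, 0, 17, 217570) (.node .leaf (87945, 0, 16, 210419) .leaf)) (87946, 0, 17, 165039) (.node (.node .leaf (87947, 0, 16, 188833) .leaf) (87956, 0, 16, 210188) (.node .leaf (87957, 0, 17, 251524) .leaf))))) (87958, 0, 17, 156969) (.node (.node (.node (.node (.node .leaf (87959, 0, 17, 16118) .leaf) (87964, 0, 17, 91446) (.node .leaf (87965, 0, 17, 127218) .leaf)) (87966, 0, 15, 16561) (.node (.node .leaf (87967, 0, 15, 41175) .leaf) (87968, 0, 16, 64331) (.node .leaf (87969, 0, 14, 172009) .leaf))) (87970, 0, 16, 201529) (.node (.node (.node .leaf (87971, 0, 17, 249804) .leaf) (87976, 0, 15, 4567) (.node .leaf (87977, 0, 15, 149753) .leaf)) (87978, 0, 15, 260517) (.node (.node .leaf (87979, 0, 13, 125524) .leaf) (87988, 0, 12, 62112) (.node .leaf (87989, 0, 17, 174990) .leaf)))) (87990, 0, 14, 203474) (.node (.node (.node (.node .leaf (87991, 0, 15, 82940) .leaf) (87996, 0, 9, 138081) (.node .leaf (87997, 0, 16, 195335)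 .leaf)) (87998, 0, 17, 258126) (.node (.node .leaf (87999, 0, 16, 240418) .leaf) (88004, 0, 16, 141279) (.node .leaf (88005, 0, 17, 182201) .leaf))) (88006, 0, 15, 227322) (.node (.node (.node .leaf (88007, 0, 18, 135306) .leaf) (88012, 0, 17, 215882) (.node .leaf (88013, 0, 17, 70244) .leaf)) (88014, 0, 11, 41784) (.node (.node .leaf (88015, 0, 16, 195094) .leaf) (88016, 0, 15, 26281) (.node .leaf (88017, 0, 13, 127251) .leaf))))))

/-- part of the orbit tree -/
def itp2_348 : Tree := (.node (.node (.node (.node (.node (.node .leaf (88019, 0, 16, 120554) .leaf) (88024, 0, 18, 213665) (.node .leaf (88025, 0, 17, 72591) .leaf)) (88026, 0, 15, 43731) (.node (.node .leaf (88027, 0, 16, 193533) .leaf) (88036, 0, 16, 76842) (.node .leaf (88037, 0, 17, 34290) .leaf))) (88038, 0, 17, 31759) (.node (.node (.node .leaf (88039, 0, 15, 40041) .leaf) (88044, 0, 18, 199090) (.node .leaf (88045, 0, 16, 256468) .leaf)) (88046, 0, 16, 122418) (.node (.node .leaf (88047, 0, 17, 178673) .leaf) (88048, 0, 17, 185655)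 (.node .leaf (88049, 0, 16, 232762) .leaf)))) (88050, 0, 16, 146809) (.node (.node (.node (.node .leaf (88051, 0, 17, 187679) .leaf) (88056, 0, 14, 84164) (.node .leaf (88057, 0, 13, 26245) .leaf)) (88058, 0, 19, 120793) (.node (.node .leaf (88059, 0, 16, 233207) .leaf) (88064, 0, 17, 199104) (.node .leaf (88067, 0, 18, 11632) .leaf))) (88068, 0, 15, 254769) (.node (.node (.node .leaf (88071, 0, 16, 164000) .leaf) (88072, 0, 15, 95920) (.node .leaf (88075, 0, 17, 39963) .leaf)) (88076, 0, 12, 71035) (.node (.node .leaf (88079, 0, 14, 42296) .leaf) (88081, 0, 14, 102899) (.node .leaf (88082, 0, 16, 8624) .leaf))))) (88085, 0, 13, 249065) (.node (.node (.node (.node (.node .leaf (88086, 0, 15, 163253) .leaf) (88089, 0, 18, 88424) (.node .leaf (88090, 0, 15, 59444) .leaf)) (88093, 0, 14, 206453) (.node (.node .leaf (88094, 0, 16, 146699) .leaf) (88096, 0, 17, 565) (.node .leaf (88099, 0, 17, 86138) .leaf))) (88100, 0, 16, 171579) (.node (.node (.node .leaf (88103, 0, 15, 101205) .leaf) (88104, 0, 17,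 3002) (.node .leaf (88107, 0, 17, 235502) .leaf)) (88108, 0, 15, 138894) (.node (.node .leaf (88111, 0, 16, 241357) .leaf) (88113, 0, 16, 52990) (.node .leaf (88114, 0, 16, 98210) .leaf)))) (88117, 0, 16, 172837) (.node (.node (.node (.node .leaf (88118, 0, 16, 196799) .leaf) (88121, 0, 17, 9314) (.node .leaf (88122, 0, 14, 69597) .leaf)) (88125, 0, 16, 34493) (.node (.node .leaf (88126, 0, 15, 79614) .leaf) (88129, 0, 15, 236936) (.node .leaf (88130, 0, 17, 78691) .leaf))) (88133, 0, 18, 123541) (.node (.node (.node .leaf (88134, 0, 15, 68160) .leaf) (88137, 0, 14, 227092) (.node .leaf (88138, 0, 18, 181832) .leaf)) (88141, 0, 16, 67593) (.node (.node .leaf (88142, 0, 17, 208856) .leaf) (88144, 0, 17, 242256) (.node .leaf (88147, 0, 17, 131852) .leaf))))))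

/-- part of the orbit tree -/
def itp2_349 : Tree := (.node (.node (.node (.node (.node (.node .leaf (88151, 0, 13, 31761) .leaf) (88152, 0, 16, 16011) (.node .leaf (88155, 0, 17, 190864) .leaf)) (88156, 0, 18, 75729) (.node (.node .leaf (88159, 0, 15, 112619) .leaf) (88161, 0, 18, 188546) (.node .leaf (88162, 0, 15, 217566) .leaf))) (88165, 0, 16, 242166) (.node (.node (.node .leaf (88166, 0, 17, 77507) .leaf) (88169, 0, 15, 133662) (.node .leaf (88170, 0, 14, 244546) .leaf)) (88173, 0, 17, 103534) (.node (.node .leaf (88174, 0, 14, 9261) .leaf) (88176, 0, 18, 69862) (.node .leaf (88179, 0, 15, 228870) .leaf)))) (88180, 0, 18, 76229) (.node (.node (.node (.node .leaf (88183, 0, 14, 39302) .leaf) (88184, 0, 13, 140742) (.node .leaf (88187, 0, 17, 234650) .leaf)) (88188, 0, 15, 23259) (.node (.node .leaf (88191, 0, 15, 125831) .leaf) (88192, 0, 17, 142405) (.node .leaf (88195, 0, 15, 236825) .leaf))) (88196, 0, 12, 108521) (.node (.node (.node .leaf (88199, 0, 16, 123396) .leaf) (88200, 0, 17, 244562)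 (.node .leaf (88203, 0, 17, 227205) .leaf)) (88204, 0, 16, 47556) (.node (.node .leaf (88207, 0, 14, 143922) .leaf) (88209, 0, 13, 198393) (.node .leaf (88210, 0, 16, 177850) .leaf))))) (88213, 0, 16, 31872) (.node (.node (.node (.node (.node .leaf (88214, 0, 13, 167833) .leaf) (88217, 0, 17, 74593) (.node .leaf (88218, 0, 15, 219229) .leaf)) (88221, 0, 17, 38428) (.node (.node .leaf (88222, 0, 17, 43521) .leaf) (88224, 0, 15, 169279) (.node .leaf (88227, 0, 11, 206204) .leaf))) (88228, 0, 16, 175132) (.node (.node (.node .leaf (88231, 0, 18, 203871) .leaf) (88232, 0, 16, 45223) (.node .leaf (88235, 0, 17, 133775) .leaf)) (88236, 0, 13, 35204) (.node (.node .leaf (88239, 0, 16, 30098) .leaf) (88241, 0, 16, 229015) (.node .leaf (88242, 0, 17, 184267) .leaf)))) (88245, 0, 18, 13359) (.node (.node (.node (.node .leaf (88246, 0, 17, 45270) .leaf) (88249, 0, 17, 141460) (.node .leaf (88250, 0, 13, 235735) .leaf)) (88253, 0, 17, 135607) (.node (.node .leaf (88254, 0, 12, 238068) .leaf) (88257, 0, 16, 11745)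 (.node .leaf (88258, 0, 15, 105661) .leaf))) (88261, 0, 16, 152316) (.node (.node (.node .leaf (88262, 0, 15, 254880) .leaf) (88265, 0, 17, 51069) (.node .leaf (88266, 0, 18, 95777) .leaf)) (88269, 0, 17, 2193) (.node (.node .leaf (88270, 0, 17, 198972) .leaf) (88272, 0, 16, 569) (.node .leaf (88275, 0, 15, 80986) .leaf))))))

/-- part of the orbit tree -/
def itp2_350 : Tree := (.node (.node (.node (.node (.node (.node .leaf (88279, 0, 12, 66937) .leaf) (88280, 0, 14, 174465) (.node .leaf (88283, 0, 18, 203202) .leaf)) (88284, 0, 15, 169912) (.node (.node .leaf (88287, 0, 16, 205025) .leaf) (88289, 0, 15, 73695) (.node .leaf (88290, 0, 16, 44956) .leaf))) (88293, 0, 16, 75516) (.node (.node (.node .leaf (88294, 0, 16, 171690) .leaf) (88297, 0, 16, 113271) (.node .leaf (88298, 0, 18, 2859) .leaf)) (88301, 0, 17, 247146) (.node (.node .leaf (88302, 0, 17, 176935) .leaf) (88304, 0, 17, 231404) (.node .leaf (88307, 0, 14, 52847) .leaf)))) (88308, 0, 15, 196654) (.node (.node (.node (.node .leaf (88311,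 0, 16, 134796) .leaf) (88312, 0, 18, 107124) (.node .leaf (88315, 0, 14, 9459) .leaf)) (88316, 0, 14, 256690) (.node (.node .leaf (88319, 0, 17, 11028) .leaf) (88321, 0, 16, 19410) (.node .leaf (88322, 0, 14, 129937) .leaf))) (88325, 0, 13, 89596) (.node (.node (.node .leaf (88326, 0, 16, 115378) .leaf) (88329, 0, 15, 159306) (.node .leaf (88330, 0, 16, 162081) .leaf)) (88333, 0, 16, 112480) (.node (.node .leaf (88334, 0, 15, 1596) .leaf) (88336, 0, 16, 185313) (.node .leaf (88339, 0, 14, 222114) .leaf))))) (88340, 0, 16, 191170) (.node (.node (.node (.node (.node .leaf (88343, 0, 16, 219777) .leaf) (88344, 0, 19, 63097) (.node .leaf (88347, 0, 14, 83514) .leaf)) (88348, 0, 16, 53082) (.node (.node .leaf (88351, 0, 14, 98073) .leaf) (88353, 0, 16, 155627) (.node .leaf (88354, 0, 16, 257719) .leaf))) (88357, 0, 16, 227588) (.node (.node (.node .leaf (88358, 0, 17, 182599) .leaf) (88361, 0, 14, 177527) (.node .leaf (88362, 0, 16, 54780) .leaf)) (88365, 0, 16, 51818) (.node (.node .leaf (88366, 0, 18,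 97078) .leaf) (88368, 0, 13, 120852) (.node .leaf (88371, 0, 16, 246127) .leaf)))) (88372, 0, 17, 123191) (.node (.node (.node (.node .leaf (88375, 0, 12, 114290) .leaf) (88376, 0, 15, 170671) (.node .leaf (88379, 0, 15, 207859) .leaf)) (88380, 0, 16, 246959) (.node (.node .leaf (88383, 0, 16, 87278) .leaf) (88384, 0, 13, 74565) (.node .leaf (88387, 0, 17, 37401) .leaf))) (88388, 0, 17, 220248) (.node (.node (.node .leaf (88391, 0, 18, 149586) .leaf) (88392, 0, 16, 117209) (.node .leaf (88395, 0, 14, 21737) .leaf)) (88396, 0, 15, 122249) (.node (.node .leaf (88399, 0, 15, 133016) .leaf) (88401, 0, 17, 68765) (.node .leaf (88402, 0, 14, 59714) .leaf))))))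

/-- part of the orbit tree -/
def itp2_351 : Tree := (.node itp2_347 (88018, 0, 15, 79500) itp2_348)

/-- part of the orbit tree -/
def itp2_352 : Tree := (.node itp2_349 (88276, 0, 19, 46394) itp2_350)

/-- part of the orbit tree -/
def itp2_353 : Tree := (.node (.node (.node (.node (.node (.node .leaf (88406, 0, 17, 180956) .leaf) (88409, 0, 14, 124417) (.node .leaf (88410, 0, 18, 22365) .leaf)) (88413, 0, 16, 235804) (.node (.node .leaf (88414, 0, 16, 194041) .leaf) (88416, 0, 17, 24143) (.node .leaf (88419, 0, 16, 126739) .leaf))) (88420, 0, 17, 62436) (.node (.node (.node .leaf (88423, 0, 11, 82855) .leaf) (88424, 0, 17, 192351) (.node .leaf (88427, 0, 15, 220956) .leaf)) (88428, 0, 17, 183246) (.node (.node .leaf (88431, 0, 16, 222783) .leaf) (88433, 0, 18, 29079) (.node .leaf (88434, 0, 15, 254647) .leaf)))) (88437, 0, 16, 158679) (.node (.node (.node (.node .leaf (88438, 0, 17, 252820) .leaf) (88441, 0, 16, 39691) (.node .leaf (88442, 0, 17, 116527) .leaf)) (88445, 0, 17, 189462) (.node (.node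 .leaf (88446, 0, 12, 130572) .leaf) (88449, 0, 17, 187608) (.node .leaf (88450, 0, 11, 74708) .leaf))) (88453, 0, 18, 191893) (.node (.node (.node .leaf (88454, 0, 16, 220361) .leaf) (88457, 0, 12, 30740) (.node .leaf (88458, 0, 18, 117064) .leaf)) (88461, 0, 14, 49251) (.node (.node .leaf (88462, 0, 17, 94240) .leaf) (88464, 0, 18, 48464) (.node .leaf (88467, 0, 16, 128168) .leaf))))) (88468, 0, 17, 32200) (.node (.node (.node (.node (.node .leaf (88471, 0, 19, 226065) .leaf) (88472, 0, 17, 156019) (.node .leaf (88475, 0, 18, 124560) .leaf)) (88476, 0, 16, 153680) (.node (.node .leaf (88479, 0, 17, 256019) .leaf) (88481, 0, 15, 120621) (.node .leaf (88482, 0, 15, 26478) .leaf))) (88485, 0, 17, 126478) (.node (.node (.node .leaf (88486, 0, 17, 139715) .leaf) (88489, 0, 16, 66846) (.node .leaf (88490, 0, 15, 46146) .leaf)) (88493, 0, 16, 248726) (.node (.node .leaf (88494, 0, 16, 162773) .leaf) (88496, 0, 12, 216862) (.node .leaf (88499, 0, 16, 196445) .leaf)))) (88500, 0, 17, 245575) (.node (.node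 (.node (.node .leaf (88503, 0, 16, 181886) .leaf) (88504, 0, 17, 76486) (.node .leaf (88507, 0, 15, 56005) .leaf)) (88508, 0, 16, 86949) (.node (.node .leaf (88511, 0, 17, 58342) .leaf) (88512, 0, 17, 168748) (.node .leaf (88515, 0, 17, 59003) .leaf))) (88516, 0, 15, 93979) (.node (.node (.node .leaf (88519, 0, 11, 89453) .leaf) (88520, 0, 17, 162224) (.node .leaf (88523, 0, 15, 181219) .leaf)) (88524, 0, 14, 1709) (.node (.node .leaf (88527, 0, 14, 112625) .leaf) (88529, 0, 18, 249355) (.node .leaf (88530, 0, 17, 163400) .leaf))))))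

/-- part of the orbit tree -/
def itp2_354 : Tree := (.node (.node (.node (.node (.node (.node .leaf (88534, 0, 18, 149355) .leaf) (88537, 0, 18, 125843) (.node .leaf (88538, 0, 15, 255796) .leaf)) (88541, 0, 16, 10613) (.node (.node .leaf (88542, 0, 16, 104489) .leaf) (88544, 0, 17, 257574) (.node .leaf (88547, 0, 15, 257422) .leaf))) (88548, 0, 14, 102715) (.node (.node (.node .leaf (88551, 0, 17, 251053) .leaf) (88552, 0, 15, 197818) (.node .leaf (88555, 0, 16, 116758) .leaf)) (88556, 0, 13, 16758) (.node (.node .leaf (88559, 0, 13, 127285) .leaf) (88561, 0, 16, 246270) (.node .leaf (88562, 0, 18, 95677) .leaf)))) (88565, 0, 15, 64733) (.node (.node (.node (.node .leaf (88566, 0, 16, 85150) .leaf) (88569, 0, 18, 207714) (.node .leaf (88570, 0, 18, 170558) .leaf)) (88573, 0, 17, 186693) (.node (.node .leaf (88574, 0, 18, 223494) .leaf) (88578, 0, 17, 160114) (.node .leaf (88579, 0, 15, 10332) .leaf))) (88582, 0, 18, 3695) (.node (.node (.node .leaf (88583, 0, 17, 153409) .leaf) (88586, 0, 16, 20493)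 (.node .leaf (88587, 0, 18, 49856) .leaf)) (88590, 0, 13, 26926) (.node (.node .leaf (88591, 0, 17, 35144) .leaf) (88592, 0, 17, 89573) (.node .leaf (88593, 0, 16, 114051) .leaf))))) (88596, 0, 17, 91334) (.node (.node (.node (.node (.node .leaf (88597, 0, 15, 248261) .leaf) (88600, 0, 18, 227453) (.node .leaf (88601, 0, 17, 89156) .leaf)) (88604, 0, 18, 96887) (.node (.node .leaf (88605, 0, 16, 205657) .leaf) (88610, 0, 17, 97888) (.node .leaf (88611, 0, 15, 87382) .leaf))) (88614, 0, 14, 83779) (.node (.node (.node .leaf (88615, 0, 17, 207435) .leaf) (88618, 0, 14, 220152) (.node .leaf (88619, 0, 18, 114634) .leaf)) (88622, 0, 14, 221915) (.node (.node .leaf (88623, 0, 16, 245975) .leaf) (88624, 0, 13, 153104) (.node .leaf (88625, 0, 17, 177782) .leaf)))) (88628, 0, 18, 60897) (.node (.node (.node (.node .leaf (88629, 0, 15, 177359) .leaf) (88632, 0, 15, 161888) (.node .leaf (88633, 0, 18, 8526) .leaf)) (88636, 0, 19, 19115) (.node (.node .leaf (88637, 0, 15, 43725) .leaf) (88640, 0, 15, 20278)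 (.node .leaf (88641, 0, 16, 235684) .leaf))) (88644, 0, 17, 245399) (.node (.node (.node .leaf (88645, 0, 16, 38515) .leaf) (88648, 0, 18, 158382) (.node .leaf (88649, 0, 17, 166600) .leaf)) (88652, 0, 17, 152461) (.node (.node .leaf (88653, 0, 13, 68901) .leaf) (88658, 0, 17, 223046) (.node .leaf (88659, 0, 17, 231200) .leaf))))))

/-- part of the orbit tree -/
def itp2_355 : Tree := (.node (.node (.node (.node (.node (.node .leaf (88663, 0, 15, 245251) .leaf) (88666, 0, 19, 46482) (.node .leaf (88667, 0, 15, 107192) .leaf)) (88670, 0, 13, 97277) (.node (.node .leaf (88671, 0, 17, 37793) .leaf) (88672, 0, 13, 214211) (.node .leaf (88673, 0, 16, 238757) .leaf))) (88676, 0, 17, 181149) (.node (.node (.node .leaf (88677, 0, 17, 236934) .leaf) (88680, 0, 14, 22044) (.node .leaf (88681, 0, 16, 134962) .leaf)) (88684, 0, 14, 88184) (.node (.node .leaf (88685, 0, 16, 112670) .leaf) (88690, 0, 16, 27827) (.node .leaf (88691, 0, 17, 36053) .leaf)))) (88694, 0, 16, 220441) (.node (.node (.node (.node .leaf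 (88695, 0, 15, 66615) .leaf) (88698, 0, 10, 149803) (.node .leaf (88699, 0, 15, 174413) .leaf)) (88702, 0, 17, 243589) (.node (.node .leaf (88703, 0, 18, 126635) .leaf) (88706, 0, 16, 114971) (.node .leaf (88707, 0, 15, 235573) .leaf))) (88710, 0, 12, 245254) (.node (.node (.node .leaf (88711, 0, 14, 15322) .leaf) (88714, 0, 12, 182023) (.node .leaf (88715, 0, 17, 141153) .leaf)) (88718, 0, 14, 218266) (.node (.node .leaf (88719, 0, 13, 138818) .leaf) (88720, 0, 17, 24479) (.node .leaf (88721, 0, 18, 132785) .leaf))))) (88724, 0, 16, 259020) (.node (.node (.node (.node (.node .leaf (88725, 0, 16, 201642) .leaf) (88728, 0, 17, 46339) (.node .leaf (88729, 0, 14, 191533) .leaf)) (88732, 0, 16, 120404) (.node (.node .leaf (88733, 0, 18, 37680) .leaf) (88738, 0, 16, 256362) (.node .leaf (88739, 0, 16, 198924) .leaf))) (88742, 0, 13, 249929) (.node (.node (.node .leaf (88743, 0, 16, 208943) .leaf) (88746, 0, 18, 118002) (.node .leaf (88747, 0, 18, 135075) .leaf)) (88750, 0, 16, 128465) (.node (.node .leaf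 (88751, 0, 14, 28862) .leaf) (88752, 0, 18, 49434) (.node .leaf (88753, 0, 16, 8572) .leaf)))) (88756, 0, 17, 63545) (.node (.node (.node (.node .leaf (88757, 0, 18, 66726) .leaf) (88760, 0, 8, 116745) (.node .leaf (88761, 0, 18, 132324) .leaf)) (88764, 0, 15, 187809) (.node (.node .leaf (88765, 0, 17, 146887) .leaf) (88768, 0, 18, 160227) (.node .leaf (88769, 0, 18, 145498) .leaf))) (88772, 0, 17, 3838) (.node (.node (.node .leaf (88773, 0, 16, 153552) .leaf) (88776, 0, 16, 64932) (.node .leaf (88777, 0, 19, 7618) .leaf)) (88780, 0, 16, 58466) (.node (.node .leaf (88781, 0, 14, 179532) .leaf) (88786, 0, 16, 127052) (.node .leaf (88787, 0, 17, 69674) .leaf))))))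

/-- part of the orbit tree -/
def itp2_356 : Tree := (.node (.node (.node (.node (.node (.node .leaf (88791, 0, 15, 76041) .leaf) (88794, 0, 16, 251348) (.node .leaf (88795, 0, 17, 89301) .leaf)) (88798, 0, 15, 257271) (.node (.node .leaf (88799, 0, 15, 199825) .leaf) (88800, 0, 18, 199913) (.node .leaf (88801, 0, 13, 78767) .leaf))) (88804, 0, 19, 95220) (.node (.node (.node .leaf (88805, 0, 18, 207578) .leaf) (88808, 0, 15, 259665) (.node .leaf (88809, 0, 16, 202295) .leaf)) (88812, 0, 15, 249714) (.node (.node .leaf (88813, 0, 13, 245830) .leaf) (88818, 0, 15, 195513) (.node .leaf (88819, 0, 14, 138207) .leaf)))) (88822, 0, 15, 180890) (.node (.node (.node (.node .leaf (88823, 0, 14, 140028) .leaf) (88826, 0, 14, 56865) (.node .leaf (88827, 0, 17, 15943) .leaf)) (88830, 0, 13, 2028) (.node (.node .leaf (88831, 0, 16, 1892) .leaf) (88832, 0, 15, 34756) (.node .leaf (88833, 0, 17, 26530) .leaf))) (88836, 0, 14, 197118) (.node (.node (.node .leaf (88837, 0, 17, 88272) .leaf) (88840, 0, 11, 172636)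 (.node .leaf (88841, 0, 16, 249169) .leaf)) (88844, 0, 15, 256866) (.node (.node .leaf (88845, 0, 18, 162585) .leaf) (88850, 0, 15, 241588) (.node .leaf (88851, 0, 16, 178505) .leaf))))) (88854, 0, 16, 171898) (.node (.node (.node (.node (.node .leaf (88855, 0, 17, 227057) .leaf) (88858, 0, 19, 2811) (.node .leaf (88859, 0, 16, 152533) .leaf)) (88862, 0, 17, 161254) (.node (.node .leaf (88863, 0, 16, 86889) .leaf) (88864, 0, 16, 232497) (.node .leaf (88865, 0, 18, 154311) .leaf))) (88868, 0, 17, 163060) (.node (.node (.node .leaf (88869, 0, 17, 218484) .leaf) (88872, 0, 13, 59765) (.node .leaf (88873, 0, 14, 84431) .leaf)) (88876, 0, 17, 169576) (.node (.node .leaf (88877, 0, 12, 53062) .leaf) (88882, 0, 15, 105837) (.node .leaf (88883, 0, 15, 17447) .leaf)))) (88886, 0, 15, 254576) (.node (.node (.node (.node .leaf (88887, 0, 14, 32004) .leaf) (88890, 0, 15, 96241) (.node .leaf (88891, 0, 13, 208607) .leaf)) (88894, 0, 16, 198892) (.node (.node .leaf (88895, 0, 14, 86466) .leaf) (88898, 0, 15, 183835)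 (.node .leaf (88899, 0, 16, 38709) .leaf))) (88902, 0, 16, 45318) (.node (.node (.node .leaf (88903, 0, 17, 156706) .leaf) (88906, 0, 15, 39167) (.node .leaf (88907, 0, 15, 30873) .leaf)) (88910, 0, 15, 41436) (.node (.node .leaf (88911, 0, 12, 131764) .leaf) (88912, 0, 15, 103703) .leaf)))))

/-- part of the orbit tree -/
def itp2_357 : Tree := (.node itp2_353 (88533, 0, 15, 259880) itp2_354)

/-- part of the orbit tree -/
def itp2_358 : Tree := (.node itp2_355 (88790, 0, 17, 117103) itp2_356)

/-- part of the orbit tree -/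
def itp2_359 : Tree := (.node itp2_351 (88148, 0, 15, 139824) itp2_352)

/-- part of the orbit tree -/
def itp2_360 : Tree := (.node itp2_357 (88662, 0, 16, 220773) itp2_358)

/-- part of the orbit tree -/
def itp2_361 : Tree := (.node (.node (.node (.node (.node (.node .leaf (88916, 0, 14, 77698) .leaf) (88917, 0, 14, 85074) (.node .leaf (88920, 0, 13, 244227) .leaf)) (88921, 0, 16, 217321) (.node (.node .leaf (88924, 0, 14, 231852) .leaf) (88925, 0, 15, 223690) (.node .leaf (88930, 0, 18, 112274) .leaf))) (88931, 0, 17, 87796) (.node (.node (.node .leaf (88934, 0, 13, 102321) .leaf) (88935, 0, 16, 234786) (.node .leaf (88938, 0, 17, 219533) .leaf)) (88939, 0, 17, 226156) (.node (.node .leaf (88942, 0, 16, 240169) .leaf) (88943, 0, 15, 229310) (.node .leaf (88944, 0, 16, 171746) .leaf)))) (88945, 0, 17, 163460) (.node (.node (.node (.node .leaf (88948, 0, 15, 174017) .leaf) (88949, 0, 14, 134054) (.node .leaf (88952, 0, 16, 182025) .leaf)) (88953, 0, 13, 23324) (.node (.node .leaf (88956, 0, 14,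 33369) .leaf) (88957, 0, 16, 188730) (.node .leaf (88960, 0, 13, 183946) .leaf))) (88961, 0, 15, 38820) (.node (.node (.node .leaf (88964, 0, 14, 45463) .leaf) (88965, 0, 17, 190649) (.node .leaf (88968, 0, 14, 140310) .leaf)) (88969, 0, 17, 32056) (.node (.node .leaf (88972, 0, 16, 23307) .leaf) (88973, 0, 17, 60435) (.node .leaf (88978, 0, 13, 80062) .leaf))))) (88979, 0, 18, 67872) (.node (.node (.node (.node (.node .leaf (88982, 0, 17, 65949) .leaf) (88983, 0, 19, 123387) (.node .leaf (88986, 0, 16, 244370) .leaf)) (88987, 0, 17, 123836) (.node (.node .leaf (88990, 0, 16, 205829) .leaf) (88991, 0, 18, 236705) (.node .leaf (88992, 0, 15, 242560) .leaf))) (88993, 0, 16, 129885) (.node (.node (.node .leaf (88996, 0, 17, 74264) .leaf) (88997, 0, 14, 115326) (.node .leaf (89000, 0, 16, 212643) .leaf)) (89001, 0, 13, 253637) (.node (.node .leaf (89004, 0, 13, 198528) .leaf) (89005, 0, 15, 229167) (.node .leaf (89010, 0, 15, 142596) .leaf)))) (89011, 0, 16, 29738) (.node (.node (.node (.node .leaf (89014,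 0, 14, 21017) .leaf) (89015, 0, 17, 190990) (.node .leaf (89018, 0, 17, 5843) .leaf)) (89019, 0, 18, 63157) (.node (.node .leaf (89022, 0, 17, 47237) .leaf) (89023, 0, 16, 53142) (.node .leaf (89026, 0, 17, 97906) .leaf))) (89027, 0, 16, 206684) (.node (.node (.node .leaf (89030, 0, 15, 196975) .leaf) (89031, 0, 16, 88129) (.node .leaf (89034, 0, 16, 135157) .leaf)) (89035, 0, 16, 192403) (.node (.node .leaf (89038, 0, 17, 257011) .leaf) (89039, 0, 16, 111325) (.node .leaf (89040, 0, 17, 57590) .leaf))))))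

/-- part of the orbit tree -/
def itp2_362 : Tree := (.node (.node (.node (.node (.node (.node .leaf (89044, 0, 14, 172011) .leaf) (89045, 0, 15, 50885) (.node .leaf (89048, 0, 17, 75653) .leaf)) (89049, 0, 17, 152388) (.node (.node .leaf (89052, 0, 14, 73382) .leaf) (89053, 0, 11, 130752) (.node .leaf (89058, 0, 17, 205208) .leaf))) (89059, 0, 16, 246270) (.node (.node (.node .leaf (89062, 0, 14, 202939) .leaf) (89063, 0, 17, 9547) (.node .leaf (89066, 0, 9, 66560) .leaf)) (89067, 0, 15, 124006) (.node (.node .leaf (89070, 0, 17, 81187) .leaf) (89071, 0, 15, 122181) (.node .leaf (89072, 0, 15, 2536) .leaf)))) (89073, 0, 16, 246994) (.node (.node (.node (.node .leaf (89076, 0, 15, 254689) .leaf) (89077, 0, 18, 53421) (.node .leaf (89080, 0, 16, 96096) .leaf)) (89081, 0, 17, 183318) (.node (.node .leaf (89084, 0, 17, 198781) .leaf) (89085, 0, 14, 86355) (.node .leaf (89089, 0, 15, 193294) .leaf))) (89091, 0, 15, 204932) (.node (.node (.node .leaf (89093, 0, 13, 182829) .leaf) (89095, 0, 15, 90009)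 (.node .leaf (89097, 0, 18, 54934) .leaf)) (89099, 0, 13, 248344) (.node (.node .leaf (89101, 0, 18, 61365) .leaf) (89103, 0, 15, 114576) (.node .leaf (89104, 0, 12, 59182) .leaf))))) (89106, 0, 15, 200540) (.node (.node (.node (.node (.node .leaf (89108, 0, 13, 21022) .leaf) (89110, 0, 15, 66107) (.node .leaf (89112, 0, 16, 3506) .leaf)) (89114, 0, 14, 255424) (.node (.node .leaf (89116, 0, 13, 160431) .leaf) (89118, 0, 18, 105181) (.node .leaf (89121, 0, 17, 112124) .leaf))) (89123, 0, 15, 43230) (.node (.node (.node .leaf (89125, 0, 13, 248545) .leaf) (89127, 0, 17, 8851) (.node .leaf (89129, 0, 15, 89952) .leaf)) (89131, 0, 14, 177938) (.node (.node .leaf (89133, 0, 17, 255040) .leaf) (89135, 0, 17, 51215) (.node .leaf (89136, 0, 15, 104996) .leaf)))) (89138, 0, 15, 143597) (.node (.node (.node (.node .leaf (89140, 0, 16, 255289) .leaf) (89142, 0, 16, 133582) (.node .leaf (89144, 0, 18, 94392) .leaf)) (89146, 0, 12, 170186) (.node (.node .leaf (89148, 0, 15, 97395) .leaf) (89150, 0, 15, 59351)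 (.node .leaf (89152, 0, 16, 96750) .leaf))) (89154, 0, 18, 10699) (.node (.node (.node .leaf (89156, 0, 16, 46671) .leaf) (89158, 0, 17, 4328) (.node .leaf (89160, 0, 16, 220278) .leaf)) (89162, 0, 16, 134227) (.node (.node .leaf (89164, 0, 19, 222549) .leaf) (89166, 0, 16, 144752) (.node .leaf (89169, 0, 18, 190090) .leaf))))))

/-- part of the orbit tree -/
def itp2_363 : Tree := (.node (.node (.node (.node (.node (.node .leaf (89173, 0, 17, 252158) .leaf) (89175, 0, 17, 225765) (.node .leaf (89177, 0, 16, 134166) .leaf)) (89179, 0, 17, 124004) (.node (.node .leaf (89181, 0, 16, 29451) .leaf) (89183, 0, 13, 236409) (.node .leaf (89184, 0, 15, 242776) .leaf))) (89186, 0, 18, 23594) (.node (.node (.node .leaf (89188, 0, 15, 150328) .leaf) (89190, 0, 14, 203549) (.node .leaf (89192, 0, 16, 22403) .leaf)) (89194, 0, 16, 67494) (.node (.node .leaf (89196, 0, 15, 74201) .leaf) (89198, 0, 15, 182699) (.node .leaf (89201, 0, 15, 59944) .leaf)))) (89203, 0, 14, 29682) (.node (.node (.node (.node .leaf (89205,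 0, 11, 124061) .leaf) (89207, 0, 18, 134383) (.node .leaf (89209, 0, 17, 184240) .leaf)) (89211, 0, 17, 237461) (.node (.node .leaf (89213, 0, 15, 69121) .leaf) (89215, 0, 14, 239286) (.node .leaf (89217, 0, 17, 25604) .leaf))) (89219, 0, 15, 78881) (.node (.node (.node .leaf (89221, 0, 15, 23847) .leaf) (89223, 0, 16, 192496) (.node .leaf (89225, 0, 18, 233987) .leaf)) (89227, 0, 15, 31345) (.node (.node .leaf (89229, 0, 13, 126238) .leaf) (89231, 0, 18, 207002) (.node .leaf (89232, 0, 10, 195639) .leaf))))) (89234, 0, 16, 240658) (.node (.node (.node (.node (.node .leaf (89236, 0, 17, 181524) .leaf) (89238, 0, 14, 180264) (.node .leaf (89240, 0, 16, 55727) .leaf)) (89242, 0, 15, 21929) (.node (.node .leaf (89244, 0, 17, 57484) .leaf) (89246, 0, 16, 142004) (.node .leaf (89249, 0, 17, 225265) .leaf))) (89251, 0, 18, 147412) (.node (.node (.node .leaf (89253, 0, 17, 31368) .leaf) (89255, 0, 18, 234234) (.node .leaf (89257, 0, 16, 192265) .leaf)) (89259, 0, 18, 67451) (.node (.node .leaf (89261, 0,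 14, 36884) .leaf) (89263, 0, 16, 227430) (.node .leaf (89264, 0, 17, 141901) .leaf)))) (89266, 0, 15, 115263) (.node (.node (.node (.node .leaf (89268, 0, 14, 21840) .leaf) (89270, 0, 16, 245026) (.node .leaf (89272, 0, 13, 250458) .leaf)) (89274, 0, 17, 75939) (.node (.node .leaf (89276, 0, 13, 49100) .leaf) (89278, 0, 17, 179036) (.node .leaf (89280, 0, 16, 257764) .leaf))) (89282, 0, 15, 168265) (.node (.node (.node .leaf (89284, 0, 18, 251847) .leaf) (89286, 0, 15, 61012) (.node .leaf (89288, 0, 16, 103335) .leaf)) (89290, 0, 16, 162773) (.node (.node .leaf (89292, 0, 13, 127583) .leaf) (89294, 0, 12, 41594) (.node .leaf (89297, 0, 15, 95959) .leaf))))))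

/-- part of the orbit tree -/
def itp2_364 : Tree := (.node (.node (.node (.node (.node (.node .leaf (89301, 0, 16, 86004) .leaf) (89303, 0, 14, 49548) (.node .leaf (89305, 0, 16, 113791) .leaf)) (89307, 0, 17, 131946) (.node (.node .leaf (89309, 0, 13, 223852) .leaf) (89311, 0, 14, 145993) (.node .leaf (89312, 0, 10, 58641) .leaf))) (89314, 0, 11, 257091) (.node (.node (.node .leaf (89316, 0, 16, 162604) .leaf) (89318, 0, 15, 103262) (.node .leaf (89320, 0, 17, 61101) .leaf)) (89322, 0, 17, 233644) (.node (.node .leaf (89324, 0, 13, 168368) .leaf) (89326, 0, 18, 240015) (.node .leaf (89329, 0, 17, 11241) .leaf)))) (89331, 0, 18, 246683) (.node (.node (.node (.node .leaf (89333, 0, 15, 148481) .leaf) (89335, 0, 12, 113798) (.node .leaf (89337, 0, 15, 49525) .leaf)) (89339, 0, 16, 207111) (.node (.node .leaf (89341, 0, 14, 179816) .leaf) (89343, 0, 17, 87578) (.node .leaf (89344, 0, 15, 110876) .leaf))) (89346, 0, 13, 106057) (.node (.node (.node .leaf (89348, 0, 15, 100415) .leaf) (89350, 0, 17,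 254292) (.node .leaf (89352, 0, 14, 171175) .leaf)) (89354, 0, 17, 95445) (.node (.node .leaf (89356, 0, 15, 58298) .leaf) (89358, 0, 13, 195970) (.node .leaf (89361, 0, 14, 207151) .leaf))))) (89363, 0, 15, 110993) (.node (.node (.node (.node (.node .leaf (89365, 0, 16, 200716) .leaf) (89367, 0, 18, 147497) (.node .leaf (89369, 0, 16, 177023) .leaf)) (89371, 0, 17, 23698) (.node (.node .leaf (89373, 0, 15, 52322) .leaf) (89375, 0, 18, 26033) (.node .leaf (89376, 0, 10, 199473) .leaf))) (89378, 0, 16, 58179) (.node (.node (.node .leaf (89380, 0, 17, 95276) .leaf) (89382, 0, 16, 171102) (.node .leaf (89384, 0, 15, 40817) .leaf)) (89386, 0, 12, 2527) (.node (.node .leaf (89388, 0, 16, 42578) .leaf) (89390, 0, 17, 128631) (.node .leaf (89393, 0, 13, 206057) .leaf)))) (89395, 0, 16, 52379) (.node (.node (.node (.node .leaf (89397, 0, 16, 89076) .leaf) (89399, 0, 17, 177030) (.node .leaf (89401, 0, 17, 132930) .leaf)) (89403, 0, 16, 9735) (.node (.node .leaf (89405, 0, 16, 110952) .leaf) (89407, 0, 17,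 153882) (.node .leaf (89409, 0, 14, 30623) .leaf))) (89411, 0, 18, 237549) (.node (.node (.node .leaf (89413, 0, 17, 133250) .leaf) (89415, 0, 16, 217850) (.node .leaf (89417, 0, 16, 7780) .leaf)) (89419, 0, 15, 226673) (.node (.node .leaf (89421, 0, 15, 188958) .leaf) (89423, 0, 14, 96098) (.node .leaf (89424, 0, 17, 22599) .leaf))))))

/-- part of the orbit tree -/
def itp2_365 : Tree := (.node itp2_361 (89041, 0, 19, 254587) itp2_362)

/-- part of the orbit tree -/
def itp2_366 : Tree := (.node itp2_363 (89299, 0, 16, 9970) itp2_364)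

/-- part of the orbit tree -/
def itp2_367 : Tree := (.node (.node (.node (.node (.node (.node .leaf (89428, 0, 17, 141146) .leaf) (89430, 0, 15, 118568) (.node .leaf (89432, 0, 16, 45787) .leaf)) (89434, 0, 17, 251506) (.node (.node .leaf (89436, 0, 16, 183750) .leaf) (89438, 0, 17, 75188) (.node .leaf (89441, 0, 8, 68245) .leaf))) (89443, 0, 15, 24620) (.node (.node (.node .leaf (89445, 0, 16, 226696) .leaf) (89447, 0, 17, 22799) (.node .leaf (89449, 0, 15, 122889) .leaf)) (89451, 0, 18, 133243) (.node (.node .leaf (89453, 0, 10, 208050) .leaf) (89455, 0, 14, 30566) (.node .leaf (89456, 0, 17, 75085) .leaf)))) (89458, 0, 17, 183615) (.node (.node (.node (.node .leaf (89460, 0, 14, 233753) .leaf) (89462, 0, 15, 45602) (.node .leaf (89464, 0, 15, 118737) .leaf)) (89466, 0, 15, 141219) (.node (.node .leaf (89468, 0, 13, 241868) .leaf) (89470, 0, 17, 22718) (.node .leaf (89472, 0, 17, 206358) .leaf))) (89474, 0, 18, 161331) (.node (.node (.node .leaf (89476, 0, 14, 244047) .leaf) (89478, 0, 16, 151312)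 (.node .leaf (89480, 0, 18, 77006) .leaf)) (89482, 0, 19, 181436) (.node (.node .leaf (89484, 0, 17, 80557) .leaf) (89486, 0, 15, 48033) (.node .leaf (89489, 0, 16, 114213) .leaf))))) (89491, 0, 15, 131576) (.node (.node (.node (.node (.node .leaf (89493, 0, 16, 100102) .leaf) (89495, 0, 17, 32485) (.node .leaf (89497, 0, 14, 236477) .leaf)) (89499, 0, 16, 183192) (.node (.node .leaf (89501, 0, 13, 238238) .leaf) (89503, 0, 14, 38009) (.node .leaf (89504, 0, 18, 11747) .leaf))) (89506, 0, 16, 97734) (.node (.node (.node .leaf (89508, 0, 15, 181317) .leaf) (89510, 0, 14, 76855) (.node .leaf (89512, 0, 18, 133243) .leaf)) (89514, 0, 17, 244150) (.node (.node .leaf (89516, 0, 14, 143704) .leaf) (89518, 0, 17, 221565) (.node .leaf (89521, 0, 18, 38016) .leaf)))) (89523, 0, 16, 255477) (.node (.node (.node (.node .leaf (89525, 0, 13, 191389) .leaf) (89527, 0, 15, 253142) (.node .leaf (89529, 0, 15, 36936) .leaf)) (89531, 0, 16, 235118) (.node (.node .leaf (89533, 0, 10, 43371) .leaf) (89535, 0, 16, 129358)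 (.node .leaf (89537, 0, 17, 44278) .leaf))) (89539, 0, 18, 130259) (.node (.node (.node .leaf (89541, 0, 11, 38357) .leaf) (89543, 0, 14, 116208) (.node .leaf (89545, 0, 17, 208234) .leaf)) (89547, 0, 18, 50456) (.node (.node .leaf (89549, 0, 17, 176205) .leaf) (89551, 0, 18, 178693) (.node .leaf (89552, 0, 16, 256046) .leaf))))))

/-- part of the orbit tree -/
def itp2_368 : Tree := (.node (.node (.node (.node (.node (.node .leaf (89556, 0, 17, 134630) .leaf) (89558, 0, 15, 220611) (.node .leaf (89560, 0, 16, 4445) .leaf)) (89562, 0, 16, 60096) (.node (.node .leaf (89564, 0, 13, 97711) .leaf) (89566, 0, 14, 169437) (.node .leaf (89569, 0, 19, 239363) .leaf))) (89571, 0, 18, 86670) (.node (.node (.node .leaf (89573, 0, 16, 237088) .leaf) (89575, 0, 14, 183813) (.node .leaf (89577, 0, 18, 98971) .leaf)) (89579, 0, 17, 53950) (.node (.node .leaf (89581, 0, 17, 113592) .leaf) (89583, 0, 17, 60317) (.node .leaf (89584, 0, 19, 169252) .leaf)))) (89586, 0, 16, 28437) (.node (.node (.node (.node .leaf (89588,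 0, 15, 67091) .leaf) (89590, 0, 15, 197195) (.node .leaf (89592, 0, 15, 163768) .leaf)) (89594, 0, 15, 150157) (.node (.node .leaf (89596, 0, 12, 205707) .leaf) (89598, 0, 18, 160686) (.node .leaf (89600, 0, 16, 147224) .leaf))) (89601, 0, 15, 52698) (.node (.node (.node .leaf (89602, 0, 16, 97414) .leaf) (89603, 0, 16, 233307) (.node .leaf (89604, 0, 16, 60393) .leaf)) (89605, 0, 18, 176839) (.node (.node .leaf (89606, 0, 13, 197531) .leaf) (89607, 0, 17, 243320) (.node .leaf (89608, 0, 14, 163432) .leaf))))) (89609, 0, 13, 10054) (.node (.node (.node (.node (.node .leaf (89610, 0, 17, 84645) .leaf) (89611, 0, 17, 249652) (.node .leaf (89612, 0, 17, 373) .leaf)) (89613, 0, 17, 153691) (.node (.node .leaf (89614, 0, 17, 256263) .leaf) (89615, 0, 17, 103392) (.node .leaf (89632, 0, 15, 256510) .leaf))) (89633, 0, 17, 110800) (.node (.node (.node .leaf (89634, 0, 17, 396) .leaf) (89635, 0, 16, 33966) (.node .leaf (89636, 0, 19, 69070) .leaf)) (89637, 0, 15, 249805) (.node (.node .leaf (89638, 0, 16,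 24043) .leaf) (89639, 0, 18, 48525) (.node .leaf (89640, 0, 18, 197474) .leaf)))) (89641, 0, 18, 258323) (.node (.node (.node (.node .leaf (89642, 0, 17, 147792) .leaf) (89643, 0, 18, 172342) (.node .leaf (89644, 0, 17, 206934) .leaf)) (89645, 0, 16, 206161) (.node (.node .leaf (89646, 0, 16, 161907) .leaf) (89647, 0, 17, 170005) (.node .leaf (89680, 0, 14, 208331) .leaf))) (89681, 0, 18, 189350) (.node (.node (.node .leaf (89682, 0, 16, 217850) .leaf) (89683, 0, 16, 68564) (.node .leaf (89684, 0, 16, 181653) .leaf)) (89685, 0, 17, 40123) (.node (.node .leaf (89686, 0, 15, 148685) .leaf) (89687, 0, 19, 173227) (.node .leaf (89688, 0, 18, 67667) .leaf))))))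

/-- part of the orbit tree -/
def itp2_369 : Tree := (.node (.node (.node (.node (.node (.node .leaf (89690, 0, 15, 22646) .leaf) (89691, 0, 15, 47120) (.node .leaf (89692, 0, 18, 143113) .leaf)) (89693, 0, 16, 119062) (.node (.node .leaf (89694, 0, 16, 116603) .leaf) (89695, 0, 14, 237141) (.node .leaf (89712, 0, 16, 9790) .leaf))) (89713, 0, 18, 237228) (.node (.node (.node .leaf (89714, 0, 17, 95771) .leaf) (89715, 0, 13, 30430) (.node .leaf (89716, 0, 16, 243871) .leaf)) (89717, 0, 15, 65403) (.node (.node .leaf (89718, 0, 13, 85816) .leaf) (89719, 0, 17, 110430) (.node .leaf (89720, 0, 15, 132006) .leaf)))) (89721, 0, 16, 189376) (.node (.node (.node (.node .leaf (89722, 0, 18, 181612) .leaf) (89723, 0, 18, 242661) (.node .leaf (89724, 0, 16, 217603) .leaf)) (89725, 0, 15, 187107) (.node (.node .leaf (89726, 0, 16, 47729) .leaf) (89727, 0, 16, 189279) (.node .leaf (89728, 0, 18, 74909) .leaf))) (89729, 0, 16, 18548) (.node (.node (.node .leaf (89730, 0, 17, 183535) .leaf) (89731, 0, 14, 38337)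 (.node .leaf (89732, 0, 17, 37169) .leaf)) (89733, 0, 13, 29015) (.node (.node .leaf (89734, 0, 12, 46066) .leaf) (89735, 0, 18, 191196) (.node .leaf (89736, 0, 15, 118273) .leaf))))) (89737, 0, 16, 159212) (.node (.node (.node (.node (.node .leaf (89738, 0, 17, 253359) .leaf) (89739, 0, 17, 212425) (.node .leaf (89740, 0, 16, 241948) .leaf)) (89741, 0, 15, 124978) (.node (.node .leaf (89742, 0, 16, 22894) .leaf) (89743, 0, 17, 197866) (.node .leaf (89760, 0, 17, 22935) .leaf))) (89761, 0, 17, 213889) (.node (.node (.node .leaf (89762, 0, 16, 193474) .leaf) (89763, 0, 15, 125131) (.node .leaf (89764, 0, 15, 236228) .leaf)) (89765, 0, 14, 32676) (.node (.node .leaf (89766, 0, 13, 183009) .leaf) (89767, 0, 17, 235478) (.node .leaf (89768, 0, 16, 45835) .leaf)))) (89769, 0, 15, 191013) (.node (.node (.node (.node .leaf (89770, 0, 17, 54874) .leaf) (89771, 0, 15, 66135) (.node .leaf (89772, 0, 14, 114524) .leaf)) (89773, 0, 16, 38200) (.node (.node .leaf (89774, 0, 15, 61305) .leaf) (89775, 0, 16, 228682)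 (.node .leaf (89808, 0, 16, 113345) .leaf))) (89809, 0, 17, 88743) (.node (.node (.node .leaf (89810, 0, 17, 58003) .leaf) (89811, 0, 16, 179133) (.node .leaf (89812, 0, 18, 95740) .leaf)) (89813, 0, 16, 91012) (.node (.node .leaf (89814, 0, 9, 54215) .leaf) (89815, 0, 12, 13217) (.node .leaf (89816, 0, 15, 237401) .leaf))))))

/-- part of the orbit tree -/
def itp2_370 : Tree := (.node (.node (.node (.node (.node (.node .leaf (89818, 0, 13, 2063) .leaf) (89819, 0, 16, 151841) (.node .leaf (89820, 0, 18, 239226) .leaf)) (89821, 0, 17, 214556) (.node (.node .leaf (89822, 0, 17, 194143) .leaf) (89823, 0, 16, 136761) (.node .leaf (89840, 0, 17, 161771) .leaf))) (89841, 0, 15, 151890) (.node (.node (.node .leaf (89842, 0, 11, 106393) .leaf) (89843, 0, 14, 247479) (.node .leaf (89844, 0, 17, 2294) .leaf)) (89845, 0, 17, 152024) (.node (.node .leaf (89846, 0, 16, 254084) .leaf) (89847, 0, 16, 113066) (.node .leaf (89848, 0, 18, 171383) .leaf)))) (89849, 0, 17, 50265) (.node (.node (.node (.node .leaf (89850,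 0, 16, 95493) .leaf) (89851, 0, 17, 207915) (.node .leaf (89852, 0, 13, 44431) .leaf)) (89853, 0, 17, 19945) (.node (.node .leaf (89854, 0, 15, 199192) .leaf) (89855, 0, 16, 73164) (.node .leaf (89872, 0, 16, 255289) .leaf))) (89873, 0, 11, 197983) (.node (.node (.node .leaf (89874, 0, 15, 257427) .leaf) (89875, 0, 17, 111805) (.node .leaf (89876, 0, 11, 162556) .leaf)) (89877, 0, 14, 212092) (.node (.node .leaf (89878, 0, 14, 166975) .leaf) (89879, 0, 18, 158809) (.node .leaf (89880, 0, 15, 61309) .leaf))))) (89881, 0, 17, 177747) (.node (.node (.node (.node (.node .leaf (89882, 0, 14, 198415) .leaf) (89883, 0, 18, 89633) (.node .leaf (89884, 0, 19, 168032) .leaf)) (89885, 0, 17, 72164) (.node (.node .leaf (89886, 0, 17, 43431) .leaf) (89887, 0, 17, 18881) (.node .leaf (89904, 0, 16, 96491) .leaf))) (89905, 0, 17, 3754) (.node (.node (.node .leaf (89906, 0, 18, 168089) .leaf) (89907, 0, 18, 51639) (.node .leaf (89908, 0, 16, 55279) .leaf)) (89909, 0, 16, 89816) (.node (.node .leaf (89910, 0, 15,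 100298) .leaf) (89911, 0, 17, 177834) (.node .leaf (89912, 0, 16, 103031) .leaf)))) (89913, 0, 17, 142130) (.node (.node (.node (.node .leaf (89914, 0, 19, 162309) .leaf) (89915, 0, 17, 9003) (.node .leaf (89916, 0, 14, 257386) .leaf)) (89917, 0, 15, 111684) (.node (.node .leaf (89918, 0, 18, 238162) .leaf) (89919, 0, 16, 154678) (.node .leaf (89920, 0, 17, 194538) .leaf))) (89921, 0, 16, 137100) (.node (.node (.node .leaf (89922, 0, 16, 115695) .leaf) (89923, 0, 17, 236225) (.node .leaf (89924, 0, 16, 21632) .leaf)) (89925, 0, 17, 143023) (.node (.node .leaf (89926, 0, 15, 244978) .leaf) (89927, 0, 16, 124380) .leaf)))))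

/-- part of the orbit tree -/
def itp2_371 : Tree := (.node itp2_367 (89554, 0, 16, 92) itp2_368)

/-- part of the orbit tree -/
def itp2_372 : Tree := (.node itp2_369 (89817, 0, 16, 112979) itp2_370)

/-- part of the orbit tree -/
def itp2_373 : Tree := (.node itp2_365 (89171, 0, 14, 176632) itp2_366)

/-- part of the orbit tree -/
def itp2_374 : Tree := (.node itp2_371 (89689, 0, 16, 124981) itp2_372)

/-- part of the orbit tree -/
def itp2_375 : Tree := (.node itp2_359 (88405, 0, 15, 90146) itp2_360)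

/-- part of the orbit tree -/
def itp2_376 : Tree := (.node itp2_373 (89426, 0, 17, 127978) itp2_374)

/-- part of the orbit tree -/
def itp2_377 : Tree := (.node itp2_345 (86869, 0, 15, 209811) itp2_346)

/-- part of the orbit tree -/
def itp2_378 : Tree := (.node itp2_375 (88913, 0, 14, 95601) itp2_376)

/-- part of the orbit tree -/
def itp2_379 : Tree := (.node itp2_315 (83802, 0, 11, 37132) itp2_316)

/-- part of the orbit tree -/
def itp2_380 : Tree := (.node itp2_377 (87890, 0, 16, 237958) itp2_378)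

/-- part of the orbit tree -/
def itp2_381 : Tree := (.node (.node (.node (.node (.node (.node .leaf (89929, 0, 14, 38959) .leaf) (89930, 0, 14, 98903) (.node .leaf (89931, 0, 13, 225373) .leaf)) (89932, 0, 17, 48668) (.node (.node .leaf (89933, 0, 15, 2871) .leaf) (89934, 0, 16, 113524) (.node .leaf (89935, 0, 16, 88850) .leaf))) (89952, 0, 14, 130079) (.node (.node (.node .leaf (89953, 0, 15, 69561) .leaf) (89954, 0, 13, 48869) (.node .leaf (89955, 0, 14, 190411) .leaf)) (89956, 0, 17, 76170) (.node (.node .leaf (89957, 0, 17, 75098) .leaf) (89958, 0, 17, 180728) (.node .leaf (89959, 0, 13, 30079) .leaf)))) (89960, 0, 18, 252295) (.node (.node (.node (.node .leaf (89961, 0, 17, 124197) .leaf) (89962, 0, 13, 166306) (.node .leaf (89963, 0, 18, 134487) .leaf)) (89964, 0, 16, 115478) (.node (.node .leaf (89965, 0, 15, 196802) .leaf) (89966, 0, 16, 176257) (.node .leaf (89967, 0, 17, 29258) .leaf))) (90000, 0, 17, 94771) (.node (.node (.node .leaf (90001, 0, 16, 126118) .leaf) (90002, 0, 14, 24058)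 (.node .leaf (90003, 0, 14, 49776) .leaf)) (90004, 0, 16, 117397) (.node (.node .leaf (90005, 0, 18, 109430) .leaf) (90006, 0, 13, 140007) (.node .leaf (90007, 0, 16, 31689) .leaf))))) (90008, 0, 15, 220948) (.node (.node (.node (.node (.node .leaf (90009, 0, 14, 67130) .leaf) (90010, 0, 17, 133006) (.node .leaf (90011, 0, 16, 192072) .leaf)) (90012, 0, 17, 224904) (.node (.node .leaf (90013, 0, 15, 227623) .leaf) (90014, 0, 17, 182395) (.node .leaf (90015, 0, 16, 188107) .leaf))) (90032, 0, 16, 162246) (.node (.node (.node .leaf (90033, 0, 17, 170400) .leaf) (90034, 0, 10, 207331) (.node .leaf (90035, 0, 16, 248197) .leaf)) (90036, 0, 15, 47007) (.node (.node .leaf (90037, 0, 16, 172163) .leaf) (90038, 0, 16, 221165) (.node .leaf (90039, 0, 14, 67267) .leaf)))) (90040, 0, 16, 139806) (.node (.node (.node (.node .leaf (90041, 0, 16, 48184) .leaf) (90042, 0, 17, 68731) (.node .leaf (90043, 0, 12, 234306) .leaf)) (90044, 0, 17, 25981) (.node (.node .leaf (90045, 0, 13, 132141) .leaf) (90046, 0, 17,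 79192) (.node .leaf (90047, 0, 18, 126047) .leaf))) (90048, 0, 17, 105460) (.node (.node (.node .leaf (90049, 0, 18, 246490) .leaf) (90050, 0, 16, 78021) (.node .leaf (90051, 0, 14, 118947) .leaf)) (90052, 0, 17, 255209) (.node (.node .leaf (90053, 0, 15, 47525) .leaf) (90054, 0, 15, 3227) (.node .leaf (90055, 0, 15, 125312) .leaf))))))

/-- part of the orbit tree -/
def itp2_382 : Tree := (.node (.node (.node (.node (.node (.node .leaf (90057, 0, 14, 173342) .leaf) (90058, 0, 15, 170266) (.node .leaf (90059, 0, 18, 49204) .leaf)) (90060, 0, 15, 162907) (.node (.node .leaf (90061, 0, 16, 87899) .leaf) (90062, 0, 16, 207998) (.node .leaf (90063, 0, 15, 248856) .leaf))) (90080, 0, 15, 59134) (.node (.node (.node .leaf (90081, 0, 13, 180176) .leaf) (90082, 0, 16, 200332) (.node .leaf (90083, 0, 17, 87970) .leaf)) (90084, 0, 12, 217654) (.node (.node .leaf (90085, 0, 13, 49357) .leaf) (90086, 0, 16, 94609) (.node .leaf (90087, 0, 17, 189045) .leaf)))) (90088, 0, 16, 85645) (.node (.node (.node (.node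 .leaf (90089, 0, 17, 110315) .leaf) (90090, 0, 12, 254992) (.node .leaf (90091, 0, 18, 113982) .leaf)) (90092, 0, 13, 160639) (.node (.node .leaf (90093, 0, 13, 104392) .leaf) (90094, 0, 16, 105229) (.node .leaf (90095, 0, 14, 246307) .leaf))) (90113, 0, 17, 117107) (.node (.node (.node .leaf (90114, 0, 15, 30767) .leaf) (90116, 0, 14, 166097) (.node .leaf (90119, 0, 15, 24092) .leaf)) (90120, 0, 17, 228033) (.node (.node .leaf (90123, 0, 18, 74793) .leaf) (90125, 0, 16, 220402) (.node .leaf (90126, 0, 16, 191918) .leaf))))) (90129, 0, 14, 245637) (.node (.node (.node (.node (.node .leaf (90130, 0, 15, 104834) .leaf) (90132, 0, 13, 61572) (.node .leaf (90135, 0, 15, 82119) .leaf)) (90136, 0, 17, 191551) (.node (.node .leaf (90139, 0, 6, 48491) .leaf) (90141, 0, 18, 76292) (.node .leaf (90142, 0, 18, 230713) .leaf))) (90145, 0, 17, 88673) (.node (.node (.node .leaf (90146, 0, 14, 66853) .leaf) (90148, 0, 15, 37450) (.node .leaf (90151, 0, 18, 74518) .leaf)) (90152, 0, 17, 237471) (.node (.node .leaf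 (90155, 0, 17, 143324) .leaf) (90157, 0, 17, 139768) (.node .leaf (90158, 0, 18, 233636) .leaf)))) (90161, 0, 15, 205364) (.node (.node (.node (.node .leaf (90162, 0, 16, 168567) .leaf) (90164, 0, 18, 189628) (.node .leaf (90167, 0, 17, 150322) .leaf)) (90168, 0, 16, 28989) (.node (.node .leaf (90171, 0, 16, 114785) .leaf) (90173, 0, 15, 81551) (.node .leaf (90174, 0, 16, 36556) .leaf))) (90176, 0, 15, 248023) (.node (.node (.node .leaf (90179, 0, 17, 162187) .leaf) (90181, 0, 16, 257764) (.node .leaf (90182, 0, 18, 155576) .leaf)) (90185, 0, 17, 204426) (.node (.node .leaf (90186, 0, 11, 175817) .leaf) (90188, 0, 16, 89430) (.node .leaf (90191, 0, 19, 60426) .leaf))))))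

/-- part of the orbit tree -/
def itp2_383 : Tree := (.node (.node (.node (.node (.node (.node .leaf (90195, 0, 16, 136034) .leaf) (90197, 0, 13, 104466) (.node .leaf (90198, 0, 16, 10574) .leaf)) (90201, 0, 17, 200083) (.node (.node .leaf (90202, 0, 17, 54940) .leaf) (90204, 0, 14, 207776) (.node .leaf (90207, 0, 16, 170748) .leaf))) (90208, 0, 18, 184449) (.node (.node (.node .leaf (90211, 0, 16, 197761) .leaf) (90213, 0, 17, 133572) (.node .leaf (90214, 0, 18, 244103) .leaf)) (90217, 0, 15, 1647) (.node (.node .leaf (90218, 0, 16, 107836) .leaf) (90220, 0, 17, 8284) (.node .leaf (90223, 0, 13, 102656) .leaf)))) (90224, 0, 16, 49963) (.node (.node (.node (.node .leaf (90227, 0, 17, 94839) .leaf) (90229, 0, 14, 29073) (.node .leaf (90230, 0, 16, 87108) .leaf)) (90233, 0, 15, 159897) (.node (.node .leaf (90234, 0, 15, 253289) .leaf) (90236, 0, 19, 153258) (.node .leaf (90239, 0, 16, 255990) .leaf))) (90241, 0, 18, 50846) (.node (.node (.node .leaf (90242, 0, 17, 95965) .leaf) (90244, 0, 12, 155433)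 (.node .leaf (90247, 0, 11, 110488) .leaf)) (90248, 0, 13, 131936) (.node (.node .leaf (90251, 0, 15, 242467) .leaf) (90253, 0, 15, 60571) (.node .leaf (90254, 0, 15, 89543) .leaf))))) (90257, 0, 18, 179915) (.node (.node (.node (.node (.node .leaf (90258, 0, 13, 114352) .leaf) (90260, 0, 15, 10719) (.node .leaf (90263, 0, 16, 251853) .leaf)) (90264, 0, 15, 31541) (.node (.node .leaf (90267, 0, 15, 199938) .leaf) (90269, 0, 18, 170605) (.node .leaf (90270, 0, 19, 207665) .leaf))) (90273, 0, 17, 197648) (.node (.node (.node .leaf (90274, 0, 16, 177484) .leaf) (90276, 0, 18, 201774) (.node .leaf (90279, 0, 16, 168831) .leaf)) (90280, 0, 16, 112546) (.node (.node .leaf (90283, 0, 16, 1790) .leaf) (90285, 0, 16, 102801) (.node .leaf (90286, 0, 10, 8397) .leaf)))) (90289, 0, 15, 111934) (.node (.node (.node (.node .leaf (90290, 0, 15, 1405) .leaf) (90292, 0, 16, 87253) (.node .leaf (90295, 0, 14, 58761) .leaf)) (90296, 0, 12, 225472) (.node (.node .leaf (90299, 0, 18, 180355) .leaf) (90301, 0, 13, 240005)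 (.node .leaf (90302, 0, 14, 137670) .leaf))) (90304, 0, 15, 30910) (.node (.node (.node .leaf (90307, 0, 16, 117218) .leaf) (90309, 0, 16, 24205) (.node .leaf (90310, 0, 13, 140664) .leaf)) (90313, 0, 17, 183052) (.node (.node .leaf (90314, 0, 14, 227920) .leaf) (90316, 0, 15, 191807) (.node .leaf (90319, 0, 16, 57478) .leaf))))))

/-- part of the orbit tree -/
def itp2_384 : Tree := (.node (.node (.node (.node (.node (.node .leaf (90323, 0, 18, 33896) .leaf) (90325, 0, 13, 141435) (.node .leaf (90326, 0, 18, 23853) .leaf)) (90329, 0, 16, 258517) (.node (.node .leaf (90330, 0, 17, 147862) .leaf) (90332, 0, 17, 206992) (.node .leaf (90335, 0, 18, 170195) .leaf))) (90336, 0, 18, 66996) (.node (.node (.node .leaf (90339, 0, 17, 46312) .leaf) (90341, 0, 18, 40654) (.node .leaf (90342, 0, 15, 37595) .leaf)) (90345, 0, 15, 243206) (.node (.node .leaf (90346, 0, 14, 209462) .leaf) (90348, 0, 16, 154416) (.node .leaf (90351, 0, 17, 139625) .leaf)))) (90352, 0, 16, 226114) (.node (.node (.node (.node .leaf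 (90355, 0, 17, 180766) .leaf) (90357, 0, 17, 190107) (.node .leaf (90358, 0, 17, 189485) .leaf)) (90361, 0, 17, 64032) (.node (.node .leaf (90362, 0, 17, 84579) .leaf) (90364, 0, 14, 9061) (.node .leaf (90367, 0, 16, 22431) .leaf))) (90368, 0, 18, 227262) (.node (.node (.node .leaf (90371, 0, 15, 41925) .leaf) (90373, 0, 14, 117443) (.node .leaf (90374, 0, 16, 188625) .leaf)) (90377, 0, 18, 115724) (.node (.node .leaf (90378, 0, 15, 30032) .leaf) (90380, 0, 16, 123455) (.node .leaf (90383, 0, 15, 180094) .leaf))))) (90384, 0, 14, 65864) (.node (.node (.node (.node (.node .leaf (90387, 0, 18, 45076) .leaf) (90389, 0, 15, 75643) (.node .leaf (90390, 0, 16, 38439) .leaf)) (90393, 0, 13, 242426) (.node (.node .leaf (90394, 0, 15, 132006) .leaf) (90396, 0, 17, 96104) (.node .leaf (90399, 0, 13, 50987) .leaf))) (90400, 0, 12, 133812) (.node (.node (.node .leaf (90403, 0, 18, 239664) .leaf) (90405, 0, 18, 180534) (.node .leaf (90406, 0, 15, 237019) .leaf)) (90409, 0, 16, 47366) (.node (.node .leaf (90410,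 0, 17, 93646) .leaf) (90412, 0, 17, 40757) (.node .leaf (90415, 0, 18, 77417) .leaf)))) (90416, 0, 17, 24614) (.node (.node (.node (.node .leaf (90419, 0, 13, 118046) .leaf) (90421, 0, 14, 23153) (.node .leaf (90422, 0, 17, 125741) .leaf)) (90425, 0, 17, 184304) (.node (.node .leaf (90426, 0, 19, 229036) .leaf) (90428, 0, 14, 162973) (.node .leaf (90431, 0, 17, 219295) .leaf))) (90433, 0, 17, 170342) (.node (.node (.node .leaf (90434, 0, 16, 207141) .leaf) (90436, 0, 16, 86057) (.node .leaf (90439, 0, 15, 258144) .leaf)) (90440, 0, 15, 247208) (.node (.node .leaf (90443, 0, 17, 161012) .leaf) (90445, 0, 16, 34269) (.node .leaf (90446, 0, 17, 79262) .leaf))))))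

/-- part of the orbit tree -/
def itp2_385 : Tree := (.node itp2_381 (90056, 0, 19, 94568) itp2_382)

/-- part of the orbit tree -/
def itp2_386 : Tree := (.node itp2_383 (90320, 0, 15, 134728) itp2_384)

/-- part of the orbit tree -/
def itp2_387 : Tree := (.node (.node (.node (.node (.node (.node .leaf (90450, 0, 14, 176560) .leaf) (90452, 0, 15, 206559) (.node .leaf (90455, 0, 13, 100405) .leaf)) (90456, 0, 15, 140493) (.node (.node .leaf (90459, 0, 17, 514) .leaf) (90461, 0, 17, 195976) (.node .leaf (90462, 0, 19, 9265) .leaf))) (90465, 0, 17, 2832) (.node (.node (.node .leaf (90466, 0, 14, 8912) .leaf) (90468, 0, 16, 11555) (.node .leaf (90471, 0, 18, 105599) .leaf)) (90472, 0, 14, 218989) (.node (.node .leaf (90475, 0, 16, 190254) .leaf) (90477, 0, 13, 233000) (.node .leaf (90478, 0, 10, 147051) .leaf)))) (90481, 0, 18, 163302) (.node (.node (.node (.node .leaf (90482, 0, 17, 154245) .leaf) (90484, 0, 16, 209795) (.node .leaf (90487, 0, 16, 164800) .leaf)) (90488, 0, 15, 52820) (.node (.node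 .leaf (90491, 0, 15, 40827) .leaf) (90493, 0, 17, 128637) (.node .leaf (90494, 0, 16, 88379) .leaf))) (90496, 0, 12, 51159) (.node (.node (.node .leaf (90499, 0, 16, 144591) .leaf) (90501, 0, 15, 220617) (.node .leaf (90502, 0, 17, 86200) .leaf)) (90505, 0, 15, 82290) (.node (.node .leaf (90506, 0, 12, 247097) .leaf) (90508, 0, 12, 104503) (.node .leaf (90511, 0, 17, 10356) .leaf))))) (90512, 0, 12, 130265) (.node (.node (.node (.node (.node .leaf (90515, 0, 15, 19610) .leaf) (90517, 0, 16, 75164) (.node .leaf (90518, 0, 13, 38367) .leaf)) (90521, 0, 17, 659) (.node (.node .leaf (90522, 0, 18, 111567) .leaf) (90524, 0, 12, 9376) (.node .leaf (90527, 0, 17, 151585) .leaf))) (90528, 0, 16, 36729) (.node (.node (.node .leaf (90531, 0, 17, 81722) .leaf) (90533, 0, 14, 22076) (.node .leaf (90534, 0, 15, 124543) .leaf)) (90537, 0, 18, 199023) (.node (.node .leaf (90538, 0, 15, 260804) .leaf) (90540, 0, 15, 168898) (.node .leaf (90543, 0, 17, 171520) .leaf)))) (90544, 0, 16, 248875) (.node (.node (.node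 (.node .leaf (90547, 0, 16, 163191) .leaf) (90549, 0, 17, 256536) (.node .leaf (90550, 0, 17, 237098) .leaf)) (90553, 0, 16, 13010) (.node (.node .leaf (90554, 0, 15, 98961) .leaf) (90556, 0, 16, 88490) (.node .leaf (90559, 0, 15, 89044) .leaf))) (90561, 0, 17, 181875) (.node (.node (.node .leaf (90562, 0, 15, 114223) .leaf) (90564, 0, 15, 55081) (.node .leaf (90567, 0, 12, 217372) .leaf)) (90568, 0, 11, 183186) (.node (.node .leaf (90571, 0, 11, 228305) .leaf) (90573, 0, 16, 135895) (.node .leaf (90574, 0, 17, 123566) .leaf))))))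

/-- part of the orbit tree -/
def itp2_388 : Tree := (.node (.node (.node (.node (.node (.node .leaf (90578, 0, 14, 247418) .leaf) (90580, 0, 16, 175996) (.node .leaf (90583, 0, 16, 204607) .leaf)) (90584, 0, 18, 46023) (.node (.node .leaf (90587, 0, 19, 242283) .leaf) (90589, 0, 17, 140548) (.node .leaf (90590, 0, 18, 121537) .leaf))) (90593, 0, 15, 244601) (.node (.node (.node .leaf (90594, 0, 14, 133669) .leaf) (90596, 0, 17, 236874) (.node .leaf (90599, 0, 16, 158879) .leaf)) (90600, 0, 18, 67787) (.node (.node .leaf (90603, 0, 11, 28708) .leaf) (90605, 0, 17, 71970) (.node .leaf (90606, 0, 13, 43361) .leaf)))) (90609, 0, 17, 118159) (.node (.node (.node (.node .leaf (90610, 0, 16, 31955) .leaf) (90612, 0, 15, 125884) (.node .leaf (90615, 0, 13, 23264) .leaf)) (90616, 0, 15, 228925) (.node (.node .leaf (90619, 0, 17, 184161) .leaf) (90621, 0, 17, 221559) (.node .leaf (90622, 0, 16, 184628) .leaf))) (90624, 0, 15, 171394) (.node (.node (.node .leaf (90625, 0, 18, 163300) .leaf) (90630, 0, 16,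 259204) (.node .leaf (90631, 0, 14, 23344) .leaf)) (90634, 0, 17, 124991) (.node (.node .leaf (90635, 0, 14, 183985) .leaf) (90636, 0, 17, 33081) (.node .leaf (90637, 0, 18, 24927) .leaf))))) (90640, 0, 14, 123783) (.node (.node (.node (.node (.node .leaf (90641, 0, 17, 244393) .leaf) (90646, 0, 12, 29928) (.node .leaf (90647, 0, 15, 93367) .leaf)) (90650, 0, 12, 233578) (.node (.node .leaf (90651, 0, 14, 47175) .leaf) (90652, 0, 17, 226822) (.node .leaf (90653, 0, 16, 137482) .leaf))) (90656, 0, 16, 190587) (.node (.node (.node .leaf (90657, 0, 8, 95761) .leaf) (90662, 0, 18, 229140) (.node .leaf (90663, 0, 17, 7959) .leaf)) (90666, 0, 15, 125589) (.node (.node .leaf (90667, 0, 15, 132012) .leaf) (90668, 0, 18, 32250) (.node .leaf (90669, 0, 15, 140500) .leaf)))) (90672, 0, 17, 257570) (.node (.node (.node (.node .leaf (90673, 0, 17, 182179) .leaf) (90678, 0, 15, 165668) (.node .leaf (90679, 0, 18, 217292) .leaf)) (90682, 0, 16, 39839) (.node (.node .leaf (90683, 0, 12, 116045) .leaf) (90684, 0,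 17, 133900) (.node .leaf (90685, 0, 14, 70399) .leaf))) (90690, 0, 16, 9609) (.node (.node (.node .leaf (90691, 0, 14, 18247) .leaf) (90692, 0, 16, 111334) (.node .leaf (90693, 0, 16, 256968) .leaf)) (90696, 0, 17, 250524) (.node (.node .leaf (90697, 0, 17, 209658) .leaf) (90702, 0, 14, 176136) (.node .leaf (90703, 0, 12, 154620) .leaf))))))

/-- part of the orbit tree -/
def itp2_389 : Tree := (.node (.node (.node (.node (.node (.node .leaf (90707, 0, 13, 2641) .leaf) (90708, 0, 16, 246800) (.node .leaf (90709, 0, 15, 218644) .leaf)) (90712, 0, 15, 109257) (.node (.node .leaf (90713, 0, 16, 84655) .leaf) (90718, 0, 17, 50127) (.node .leaf (90719, 0, 11, 9129) .leaf))) (90722, 0, 16, 88195) (.node (.node (.node .leaf (90723, 0, 17, 216242) .leaf) (90724, 0, 17, 53228) (.node .leaf (90725, 0, 15, 140724) .leaf)) (90728, 0, 15, 154221) (.node (.node .leaf (90729, 0, 14, 835) .leaf) (90734, 0, 17, 249090) (.node .leaf (90735, 0, 16, 103468) .leaf)))) (90738, 0, 17, 208501) (.node (.node (.node (.node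 .leaf (90739, 0, 15, 79079) .leaf) (90740, 0, 16, 48519) (.node .leaf (90741, 0, 16, 24033) .leaf)) (90744, 0, 14, 11419) (.node (.node .leaf (90745, 0, 18, 147802) .leaf) (90750, 0, 14, 113652) (.node .leaf (90751, 0, 15, 254682) .leaf))) (90752, 0, 14, 9496) (.node (.node (.node .leaf (90753, 0, 12, 162870) .leaf) (90758, 0, 14, 111223) (.node .leaf (90759, 0, 15, 256857) .leaf)) (90762, 0, 15, 229173) (.node (.node .leaf (90763, 0, 18, 237395) .leaf) (90764, 0, 16, 176281) (.node .leaf (90765, 0, 15, 194133) .leaf))))) (90768, 0, 17, 152558) (.node (.node (.node (.node (.node .leaf (90769, 0, 16, 2752) .leaf) (90774, 0, 16, 246913) (.node .leaf (90775, 0, 17, 261053) .leaf)) (90778, 0, 18, 86272) (.node (.node .leaf (90779, 0, 15, 198702) .leaf) (90780, 0, 16, 50799) (.node .leaf (90781, 0, 16, 36352) .leaf))) (90784, 0, 16, 196989) (.node (.node (.node .leaf (90785, 0, 9, 254235) .leaf) (90790, 0, 17, 53117) (.node .leaf (90791, 0, 13, 169555) .leaf)) (90794, 0, 14, 29888) (.node (.node .leaf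 (90795, 0, 16, 978) .leaf) (90796, 0, 17, 249235) (.node .leaf (90797, 0, 18, 130464) .leaf)))) (90800, 0, 17, 96552) (.node (.node (.node (.node .leaf (90801, 0, 15, 104782) .leaf) (90806, 0, 16, 178571) (.node .leaf (90807, 0, 17, 57509) .leaf)) (90810, 0, 16, 134293) (.node (.node .leaf (90811, 0, 12, 161060) .leaf) (90812, 0, 17, 222611) (.node .leaf (90813, 0, 18, 230901) .leaf))) (90818, 0, 16, 143403) (.node (.node (.node .leaf (90819, 0, 14, 117966) .leaf) (90820, 0, 14, 219437) (.node .leaf (90821, 0, 17, 244043) .leaf)) (90824, 0, 15, 83350) (.node (.node .leaf (90825, 0, 14, 108016) .leaf) (90830, 0, 14, 11408) (.node .leaf (90831, 0, 16, 52470) .leaf))))))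

/-- part of the orbit tree -/
def itp2_390 : Tree := (.node (.node (.node (.node (.node (.node .leaf (90835, 0, 16, 244280) .leaf) (90836, 0, 18, 29817) (.node .leaf (90837, 0, 17, 142679) .leaf)) (90840, 0, 16, 188920) (.node (.node .leaf (90841, 0, 17, 47318) .leaf) (90846, 0, 17, 226967) (.node .leaf (90847, 0, 18, 177315) .leaf))) (90850, 0, 14, 80862) (.node (.node (.node .leaf (90851, 0, 17, 121784) .leaf) (90852, 0, 17, 229253) (.node .leaf (90853, 0, 17, 45758) .leaf)) (90856, 0, 18, 151139) (.node (.node .leaf (90857, 0, 16, 242474) .leaf) (90862, 0, 16, 32107) (.node .leaf (90863, 0, 14, 140357) .leaf)))) (90866, 0, 14, 213899) (.node (.node (.node (.node .leaf (90867, 0, 17, 238573) .leaf) (90868, 0, 18, 141965) (.node .leaf (90869, 0, 10, 217181) .leaf)) (90872, 0, 15, 236786) (.node (.node .leaf (90873, 0, 18, 54864) .leaf) (90878, 0, 15, 134045) (.node .leaf (90879, 0, 13, 21171) .leaf))) (90882, 0, 17, 39648) (.node (.node (.node .leaf (90883, 0, 17, 181198) .leaf) (90884, 0, 16, 69007)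 (.node .leaf (90885, 0, 16, 124595) .leaf)) (90888, 0, 18, 235534) (.node (.node .leaf (90889, 0, 16, 260616) .leaf) (90894, 0, 17, 160616) (.node .leaf (90895, 0, 13, 168718) .leaf))))) (90898, 0, 18, 137094) (.node (.node (.node (.node (.node .leaf (90899, 0, 16, 194528) .leaf) (90900, 0, 15, 228992) (.node .leaf (90901, 0, 17, 237286) .leaf)) (90904, 0, 13, 90683) (.node (.node .leaf (90905, 0, 16, 98909) .leaf) (90910, 0, 15, 31127) (.node .leaf (90911, 0, 16, 60251) .leaf))) (90914, 0, 17, 124906) (.node (.node (.node .leaf (90915, 0, 13, 245444) .leaf) (90916, 0, 16, 134432) (.node .leaf (90917, 0, 16, 141739) .leaf)) (90920, 0, 16, 189700) (.node (.node .leaf (90921, 0, 18, 61949) .leaf) (90926, 0, 18, 225899) (.node .leaf (90927, 0, 16, 104699) .leaf)))) (90930, 0, 12, 233756) (.node (.node (.node (.node .leaf (90931, 0, 16, 130069) .leaf) (90932, 0, 16, 132723) (.node .leaf (90933, 0, 15, 24413) .leaf)) (90936, 0, 15, 37874) (.node (.node .leaf (90937, 0, 14, 166312) .leaf) (90942, 0, 17,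 196808) (.node .leaf (90943, 0, 15, 254126) .leaf))) (90944, 0, 16, 152944) (.node (.node (.node .leaf (90945, 0, 14, 95030) .leaf) (90950, 0, 17, 212086) (.node .leaf (90951, 0, 10, 252944) .leaf)) (90954, 0, 16, 73933) (.node (.node .leaf (90955, 0, 16, 160216) .leaf) (90956, 0, 14, 18891) .leaf)))))

/-- part of the orbit tree -/
def itp2_391 : Tree := (.node itp2_387 (90577, 0, 11, 45189) itp2_388)

/-- part of the orbit tree -/
def itp2_392 : Tree := (.node itp2_389 (90834, 0, 15, 18558) itp2_390)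

/-- part of the orbit tree -/
def itp2_393 : Tree := (.node itp2_385 (90192, 0, 15, 238369) itp2_386)

/-- part of the orbit tree -/
def itp2_394 : Tree := (.node itp2_391 (90706, 0, 16, 188276) itp2_392)

/-- part of the orbit tree -/
def itp2_395 : Tree := (.node (.node (.node (.node (.node (.node .leaf (90960, 0, 19, 89326) .leaf) (90961, 0, 15, 198080) (.node .leaf (90966, 0, 15, 52097) .leaf)) (90967, 0, 17, 168623) (.node (.node .leaf (90970, 0, 17, 155136) .leaf) (90971, 0, 13, 243966) (.node .leaf (90972, 0, 15, 143774) .leaf))) (90973, 0, 15, 102465) (.node (.node (.node .leaf (90976, 0, 13, 153362) .leaf) (90977, 0, 15, 114403) (.node .leaf (90982, 0, 16, 14211) .leaf)) (90983, 0, 16, 104787) (.node (.node .leaf (90986, 0, 14, 142136) .leaf) (90987, 0, 12, 183134) (.node .leaf (90988, 0, 16, 49811) .leaf)))) (90989, 0, 18, 170941) (.node (.node (.node (.node .leaf (90992, 0, 16, 206544) .leaf) (90993, 0, 16, 247478) (.node .leaf (90998, 0, 15, 151510) .leaf)) (90999, 0, 16, 176048) (.node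 (.node .leaf (91002, 0, 15, 205578) .leaf) (91003, 0, 15, 96804) (.node .leaf (91004, 0, 15, 80491) .leaf))) (91005, 0, 17, 121357) (.node (.node (.node .leaf (91010, 0, 18, 194777) .leaf) (91011, 0, 16, 95143) (.node .leaf (91012, 0, 15, 179686) .leaf)) (91013, 0, 17, 225721) (.node (.node .leaf (91016, 0, 16, 10343) .leaf) (91017, 0, 17, 93442) (.node .leaf (91022, 0, 16, 58466) .leaf))))) (91023, 0, 17, 1028) (.node (.node (.node (.node (.node .leaf (91026, 0, 15, 89215) .leaf) (91027, 0, 19, 24810) (.node .leaf (91028, 0, 16, 51984) .leaf)) (91029, 0, 18, 68076) (.node (.node .leaf (91032, 0, 16, 259377) .leaf) (91033, 0, 17, 1983) (.node .leaf (91038, 0, 18, 171063) .leaf))) (91039, 0, 12, 162897) (.node (.node (.node .leaf (91042, 0, 19, 127788) .leaf) (91043, 0, 15, 3757) (.node .leaf (91044, 0, 14, 245996) .leaf)) (91045, 0, 16, 31308) (.node (.node .leaf (91048, 0, 16, 165521) .leaf) (91049, 0, 13, 199747) (.node .leaf (91054, 0, 17, 257943) .leaf)))) (91055, 0, 16, 170796) (.node (.node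 (.node (.node .leaf (91058, 0, 16, 232313) .leaf) (91059, 0, 13, 224031) (.node .leaf (91060, 0, 14, 112154) .leaf)) (91061, 0, 16, 131609) (.node (.node .leaf (91064, 0, 14, 205723) .leaf) (91065, 0, 17, 7842) (.node .leaf (91070, 0, 14, 104386) .leaf))) (91071, 0, 17, 60890) (.node (.node (.node .leaf (91072, 0, 17, 39537) .leaf) (91073, 0, 14, 181087) (.node .leaf (91078, 0, 16, 68894) .leaf)) (91079, 0, 16, 218160) (.node (.node .leaf (91082, 0, 18, 243655) .leaf) (91083, 0, 18, 219041) (.node .leaf (91084, 0, 12, 135152) .leaf))))))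

/-- part of the orbit tree -/
def itp2_396 : Tree := (.node (.node (.node (.node (.node (.node .leaf (91088, 0, 15, 178735) .leaf) (91089, 0, 15, 154185) (.node .leaf (91094, 0, 18, 250665) .leaf)) (91095, 0, 14, 74438) (.node (.node .leaf (91098, 0, 15, 118674) .leaf) (91099, 0, 18, 77812) (.node .leaf (91100, 0, 15, 30982) .leaf))) (91101, 0, 15, 139304) (.node (.node (.node .leaf (91104, 0, 16, 124795) .leaf) (91105, 0, 16, 245333) (.node .leaf (91110, 0, 13, 172169) .leaf)) (91111, 0, 17, 141626) (.node (.node .leaf (91114, 0, 16, 189845) .leaf) (91115, 0, 14, 48315) (.node .leaf (91116, 0, 17, 120116) .leaf)))) (91117, 0, 14, 76756) (.node (.node (.node (.node .leaf (91120, 0, 14, 233869) .leaf) (91121, 0, 15, 116899) (.node .leaf (91126, 0, 17, 132834) .leaf)) (91127, 0, 11, 24524) (.node (.node .leaf (91130, 0, 14, 37731) .leaf) (91131, 0, 15, 140289) (.node .leaf (91132, 0, 15, 66572) .leaf))) (91133, 0, 17, 220450) (.node (.node (.node .leaf (91136, 0, 16, 40361) .leaf) (91138, 0, 15, 226779)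 (.node .leaf (91141, 0, 14, 48026) .leaf)) (91143, 0, 11, 139834) (.node (.node .leaf (91145, 0, 17, 142875) .leaf) (91147, 0, 15, 16001) (.node .leaf (91148, 0, 15, 133160) .leaf))))) (91150, 0, 18, 122970) (.node (.node (.node (.node (.node .leaf (91152, 0, 16, 119567) .leaf) (91154, 0, 14, 66349) (.node .leaf (91157, 0, 18, 68170) .leaf)) (91159, 0, 16, 75038) (.node (.node .leaf (91161, 0, 18, 202481) .leaf) (91163, 0, 14, 149204) (.node .leaf (91164, 0, 16, 249780) .leaf))) (91166, 0, 15, 171921) (.node (.node (.node .leaf (91168, 0, 16, 41135) .leaf) (91170, 0, 17, 133329) (.node .leaf (91173, 0, 16, 116368) .leaf)) (91175, 0, 18, 76239) (.node (.node .leaf (91177, 0, 17, 217873) .leaf) (91179, 0, 15, 47971) (.node .leaf (91180, 0, 18, 226594) .leaf)))) (91182, 0, 17, 257073) (.node (.node (.node (.node .leaf (91184, 0, 13, 235093) .leaf) (91186, 0, 16, 32295) (.node .leaf (91189, 0, 16, 241766) .leaf)) (91191, 0, 18, 22548) (.node (.node .leaf (91193, 0, 15, 7428) .leaf) (91195, 0, 19, 85281)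 (.node .leaf (91196, 0, 13, 50241) .leaf))) (91198, 0, 18, 191398) (.node (.node (.node .leaf (91201, 0, 17, 8634) .leaf) (91203, 0, 16, 94623) (.node .leaf (91204, 0, 14, 63743) .leaf)) (91206, 0, 15, 86604) (.node (.node .leaf (91208, 0, 16, 12223) .leaf) (91210, 0, 14, 247757) (.node .leaf (91213, 0, 17, 2444) .leaf))))))

/-- part of the orbit tree -/
def itp2_397 : Tree := (.node (.node (.node (.node (.node (.node .leaf (91217, 0, 17, 154095) .leaf) (91219, 0, 18, 199114) (.node .leaf (91220, 0, 17, 52424) .leaf)) (91222, 0, 13, 249999) (.node (.node .leaf (91224, 0, 17, 153929) .leaf) (91226, 0, 18, 110907) (.node .leaf (91229, 0, 15, 163706) .leaf))) (91231, 0, 18, 104200) (.node (.node (.node .leaf (91233, 0, 17, 207439) .leaf) (91235, 0, 17, 2421) (.node .leaf (91236, 0, 15, 247604) .leaf)) (91238, 0, 14, 172847) (.node (.node .leaf (91240, 0, 19, 86709) .leaf) (91242, 0, 16, 49044) (.node .leaf (91245, 0, 18, 95366) .leaf)))) (91247, 0, 15, 26321) (.node (.node (.node (.node .leaf (91249,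 0, 17, 104433) .leaf) (91251, 0, 16, 575) (.node .leaf (91252, 0, 18, 101215) .leaf)) (91254, 0, 17, 56186) (.node (.node .leaf (91256, 0, 14, 235492) .leaf) (91258, 0, 14, 52273) (.node .leaf (91261, 0, 17, 216737) .leaf))) (91263, 0, 15, 138884) (.node (.node (.node .leaf (91264, 0, 17, 80976) .leaf) (91266, 0, 17, 27765) (.node .leaf (91269, 0, 18, 199667) .leaf)) (91271, 0, 12, 58241) (.node (.node .leaf (91273, 0, 14, 106098) .leaf) (91275, 0, 17, 174475) (.node .leaf (91276, 0, 13, 112705) .leaf))))) (91278, 0, 16, 151603) (.node (.node (.node (.node (.node .leaf (91280, 0, 16, 88886) .leaf) (91282, 0, 15, 176964) (.node .leaf (91285, 0, 18, 97541) .leaf)) (91287, 0, 17, 169335) (.node (.node .leaf (91289, 0, 17, 256132) .leaf) (91291, 0, 16, 53726) (.node .leaf (91292, 0, 13, 88254) .leaf))) (91294, 0, 12, 9925) (.node (.node (.node .leaf (91296, 0, 17, 151754) .leaf) (91298, 0, 16, 112824) (.node .leaf (91301, 0, 16, 161529) .leaf)) (91303, 0, 17, 106123) (.node (.node .leaf (91305, 0, 12,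 58232) .leaf) (91307, 0, 17, 199434) (.node .leaf (91308, 0, 15, 50507) .leaf)))) (91310, 0, 17, 97083) (.node (.node (.node (.node .leaf (91312, 0, 17, 9788) .leaf) (91314, 0, 17, 249422) (.node .leaf (91317, 0, 17, 38581) .leaf)) (91319, 0, 16, 116368) (.node (.node .leaf (91321, 0, 17, 169358) .leaf) (91323, 0, 15, 97788) (.node .leaf (91324, 0, 12, 177085) .leaf))) (91326, 0, 16, 197486) (.node (.node (.node .leaf (91329, 0, 17, 177840) .leaf) (91331, 0, 16, 181270) (.node .leaf (91332, 0, 12, 159733) .leaf)) (91334, 0, 16, 188965) (.node (.node .leaf (91336, 0, 13, 29518) .leaf) (91338, 0, 14, 74603) (.node .leaf (91341, 0, 9, 43531) .leaf))))))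

/-- part of the orbit tree -/
def itp2_398 : Tree := (.node (.node (.node (.node (.node (.node .leaf (91345, 0, 15, 52965) .leaf) (91347, 0, 14, 106176) (.node .leaf (91348, 0, 13, 6048) .leaf)) (91350, 0, 18, 83845) (.node (.node .leaf (91352, 0, 17, 133915) .leaf) (91354, 0, 16, 131410) (.node .leaf (91357, 0, 16, 184926) .leaf))) (91359, 0, 17, 141153) (.node (.node (.node .leaf (91361, 0, 16, 20846) .leaf) (91363, 0, 17, 243996) (.node .leaf (91364, 0, 17, 91136) .leaf)) (91366, 0, 18, 237359) (.node (.node .leaf (91368, 0, 15, 189148) .leaf) (91370, 0, 16, 141470) (.node .leaf (91373, 0, 18, 238078) .leaf)))) (91375, 0, 17, 192987) (.node (.node (.node (.node .leaf (91377, 0, 17, 141208) .leaf) (91379, 0, 17, 169269) (.node .leaf (91380, 0, 17, 131499) .leaf)) (91382, 0, 16, 150640) (.node (.node .leaf (91384, 0, 16, 65774) .leaf) (91386, 0, 16, 20683) (.node .leaf (91389, 0, 13, 45593) .leaf))) (91391, 0, 17, 219755) (.node (.node (.node .leaf (91393, 0, 17, 59720) .leaf) (91395, 0, 15, 117526)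 (.node .leaf (91396, 0, 17, 132439) .leaf)) (91398, 0, 16, 126245) (.node (.node .leaf (91400, 0, 15, 37078) .leaf) (91402, 0, 17, 227492) (.node .leaf (91405, 0, 16, 194035) .leaf))))) (91407, 0, 17, 239062) (.node (.node (.node (.node (.node .leaf (91409, 0, 15, 21906) .leaf) (91411, 0, 17, 245216) (.node .leaf (91412, 0, 17, 29601) .leaf)) (91414, 0, 16, 202877) (.node (.node .leaf (91416, 0, 17, 21731) .leaf) (91418, 0, 10, 66758) (.node .leaf (91421, 0, 16, 180243) .leaf))) (91423, 0, 14, 122243) (.node (.node (.node .leaf (91425, 0, 17, 254653) .leaf) (91427, 0, 13, 46620) (.node .leaf (91428, 0, 16, 211960) .leaf)) (91430, 0, 17, 36911) (.node (.node .leaf (91432, 0, 6, 75587) .leaf) (91434, 0, 14, 132526) (.node .leaf (91437, 0, 13, 117743) .leaf)))) (91439, 0, 16, 44579) (.node (.node (.node (.node .leaf (91441, 0, 16, 105192) .leaf) (91443, 0, 17, 180458) (.node .leaf (91444, 0, 16, 69291) .leaf)) (91446, 0, 16, 5000) (.node (.node .leaf (91448, 0, 17, 220950) .leaf) (91450, 0, 16, 134963)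 (.node .leaf (91453, 0, 16, 245017) .leaf))) (91455, 0, 17, 21867) (.node (.node (.node .leaf (91456, 0, 17, 222120) .leaf) (91458, 0, 17, 144269) (.node .leaf (91461, 0, 18, 1267) .leaf)) (91463, 0, 17, 191176) (.node (.node .leaf (91465, 0, 14, 108118) .leaf) (91467, 0, 17, 63091) (.node .leaf (91468, 0, 12, 177985) .leaf))))))

/-- part of the orbit tree -/
def itp2_399 : Tree := (.node itp2_395 (91085, 0, 15, 147111) itp2_396)

/-- part of the orbit tree -/
def itp2_400 : Tree := (.node itp2_397 (91343, 0, 17, 129582) itp2_398)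

/-- part of the orbit tree -/
def itp2_401 : Tree := (.node (.node (.node (.node (.node (.node .leaf (91472, 0, 17, 72701) .leaf) (91474, 0, 17, 19416) (.node .leaf (91477, 0, 16, 115384) .leaf)) (91479, 0, 17, 105079) (.node (.node .leaf (91481, 0, 18, 59268) .leaf) (91483, 0, 11, 167462) (.node .leaf (91484, 0, 14, 198470) .leaf))) (91486, 0, 16, 207301) (.node (.node (.node .leaf (91488, 0, 16, 90058) .leaf) (91490, 0, 17, 178104) (.node .leaf (91493, 0, 13, 96761) .leaf)) (91495, 0, 15, 168331) (.node (.node .leaf (91497, 0, 15, 257144) .leaf) (91499, 0, 12, 1034) (.node .leaf (91500, 0, 17, 160998) .leaf)))) (91502, 0, 16, 206019) (.node (.node (.node (.node .leaf (91504, 0, 17, 207164) .leaf) (91506, 0, 16, 213037) (.node .leaf (91509, 0, 15, 182605) .leaf)) (91511, 0, 15, 59261) (.node (.node .leaf (91513, 0, 13, 105102) .leaf) (91515, 0, 17, 99795) (.node .leaf (91516, 0, 14, 113853) .leaf))) (91518, 0, 15, 152783) (.node (.node (.node .leaf (91521, 0, 16, 163394) .leaf) (91523, 0, 17, 162687)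 (.node .leaf (91524, 0, 15, 111934) .leaf)) (91526, 0, 15, 154956) (.node (.node .leaf (91528, 0, 17, 204991) .leaf) (91530, 0, 14, 51405) (.node .leaf (91533, 0, 7, 198284) .leaf))))) (91535, 0, 16, 61182) (.node (.node (.node (.node (.node .leaf (91537, 0, 18, 255483) .leaf) (91539, 0, 18, 3465) (.node .leaf (91540, 0, 14, 57170) .leaf)) (91542, 0, 17, 11194) (.node (.node .leaf (91544, 0, 17, 181225) .leaf) (91546, 0, 15, 179771) (.node .leaf (91549, 0, 18, 94330) .leaf))) (91551, 0, 17, 169992) (.node (.node (.node .leaf (91553, 0, 16, 60935) .leaf) (91555, 0, 17, 198261) (.node .leaf (91556, 0, 15, 109810) .leaf)) (91558, 0, 16, 204870) (.node (.node .leaf (91560, 0, 17, 155061) .leaf) (91562, 0, 11, 188524) (.node .leaf (91565, 0, 17, 162694) .leaf)))) (91567, 0, 14, 145705) (.node (.node (.node (.node .leaf (91569, 0, 15, 170225) .leaf) (91571, 0, 17, 94339) (.node .leaf (91572, 0, 17, 251047) .leaf)) (91574, 0, 17, 164994) (.node (.node .leaf (91576, 0, 14, 11075) .leaf) (91578, 0, 12, 38969)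 (.node .leaf (91581, 0, 13, 3440) .leaf))) (91583, 0, 13, 16764) (.node (.node (.node .leaf (91584, 0, 8, 128162) .leaf) (91586, 0, 18, 42119) (.node .leaf (91589, 0, 16, 77287) .leaf)) (91591, 0, 15, 32194) (.node (.node .leaf (91593, 0, 15, 74011) .leaf) (91595, 0, 16, 182633) (.node .leaf (91596, 0, 16, 67368) .leaf))))))

/-- part of the orbit tree -/
def itp2_402 : Tree := (.node (.node (.node (.node (.node (.node .leaf (91600, 0, 15, 232695) .leaf) (91602, 0, 16, 134189) (.node .leaf (91605, 0, 13, 115308) .leaf)) (91607, 0, 16, 141854) (.node (.node .leaf (91609, 0, 16, 84233) .leaf) (91611, 0, 15, 6444) (.node .leaf (91612, 0, 18, 225758) .leaf))) (91614, 0, 18, 49257) (.node (.node (.node .leaf (91616, 0, 17, 196439) .leaf) (91618, 0, 12, 67537) (.node .leaf (91621, 0, 17, 140818) .leaf)) (91623, 0, 15, 226871) (.node (.node .leaf (91625, 0, 16, 23569) .leaf) (91627, 0, 17, 92812) (.node .leaf (91628, 0, 15, 58348) .leaf)))) (91630, 0, 17, 234064) (.node (.node (.node (.node .leaf (91632,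 0, 17, 34562) .leaf) (91634, 0, 16, 225575) (.node .leaf (91637, 0, 17, 24135) .leaf)) (91639, 0, 17, 218900) (.node (.node .leaf (91641, 0, 15, 142055) .leaf) (91643, 0, 16, 115349) (.node .leaf (91644, 0, 15, 170937) .leaf))) (91646, 0, 16, 248732) (.node (.node (.node .leaf (91652, 0, 15, 190360) .leaf) (91653, 0, 17, 48822) (.node .leaf (91654, 0, 18, 69610) .leaf)) (91655, 0, 11, 218820) (.node (.node .leaf (91656, 0, 16, 29209) .leaf) (91657, 0, 11, 142135) (.node .leaf (91658, 0, 13, 236139) .leaf))))) (91659, 0, 16, 115525) (.node (.node (.node (.node (.node .leaf (91668, 0, 11, 116316) .leaf) (91669, 0, 16, 182336) (.node .leaf (91670, 0, 12, 38521) .leaf)) (91671, 0, 15, 30239) (.node (.node .leaf (91672, 0, 14, 132335) .leaf) (91673, 0, 16, 211585) (.node .leaf (91674, 0, 17, 126109) .leaf))) (91675, 0, 16, 243123) (.node (.node (.node .leaf (91684, 0, 17, 236178) .leaf) (91685, 0, 17, 115644) (.node .leaf (91686, 0, 15, 124377) .leaf)) (91687, 0, 15, 142286) (.node (.node .leaf (91688,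 0, 17, 69395) .leaf) (91689, 0, 16, 218685) (.node .leaf (91690, 0, 16, 260450) .leaf)))) (91691, 0, 12, 48719) (.node (.node (.node (.node .leaf (91700, 0, 18, 126052) .leaf) (91701, 0, 15, 243018) (.node .leaf (91702, 0, 18, 236940) .leaf)) (91703, 0, 17, 23864) (.node (.node .leaf (91704, 0, 17, 53522) .leaf) (91705, 0, 14, 73931) (.node .leaf (91706, 0, 17, 37271) .leaf))) (91707, 0, 15, 182457) (.node (.node (.node .leaf (91712, 0, 18, 60844) .leaf) (91713, 0, 17, 170273) (.node .leaf (91714, 0, 12, 114057) .leaf)) (91715, 0, 18, 89583) (.node (.node .leaf (91724, 0, 17, 192791) .leaf) (91725, 0, 14, 3232) (.node .leaf (91726, 0, 16, 114172) .leaf))))))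

/-- part of the orbit tree -/
def itp2_403 : Tree := (.node (.node (.node (.node (.node (.node .leaf (91728, 0, 15, 177913) .leaf) (91729, 0, 15, 161183) (.node .leaf (91730, 0, 18, 89739) .leaf)) (91731, 0, 17, 206266) (.node (.node .leaf (91740, 0, 16, 9080) .leaf) (91741, 0, 17, 162390) (.node .leaf (91742, 0, 16, 121191) .leaf))) (91743, 0, 17, 80129) (.node (.node (.node .leaf (91744, 0, 16, 113925) .leaf) (91745, 0, 18, 255019) (.node .leaf (91746, 0, 15, 152951) .leaf)) (91747, 0, 15, 3161) (.node (.node .leaf (91756, 0, 17, 206980) .leaf) (91757, 0, 16, 72324) (.node .leaf (91758, 0, 17, 49398) .leaf)))) (91759, 0, 14, 170456) (.node (.node (.node (.node .leaf (91760, 0, 16, 105996) .leaf) (91761, 0, 18, 103133) (.node .leaf (91762, 0, 19, 52777) .leaf)) (91763, 0, 14, 11855) (.node (.node .leaf (91772, 0, 16, 230071) .leaf) (91773, 0, 14, 198492) (.node .leaf (91774, 0, 18, 177664) .leaf))) (91775, 0, 18, 144116) (.node (.node (.node .leaf (91780, 0, 17, 88049) .leaf) (91781, 0, 16, 200415)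 (.node .leaf (91782, 0, 17, 180099) .leaf)) (91783, 0, 15, 59053) (.node (.node .leaf (91784, 0, 17, 210360) .leaf) (91785, 0, 17, 251358) (.node .leaf (91786, 0, 14, 157085) .leaf))))) (91787, 0, 18, 160556) (.node (.node (.node (.node (.node .leaf (91796, 0, 17, 205063) .leaf) (91797, 0, 17, 96297) (.node .leaf (91798, 0, 17, 51573) .leaf)) (91799, 0, 12, 188693) (.node (.node .leaf (91800, 0, 15, 111750) .leaf) (91801, 0, 11, 257448) (.node .leaf (91802, 0, 18, 7624) .leaf))) (91803, 0, 12, 64942) (.node (.node (.node .leaf (91812, 0, 16, 140022) .leaf) (91813, 0, 16, 180880) (.node .leaf (91814, 0, 13, 246409) .leaf)) (91815, 0, 16, 234165) (.node (.node .leaf (91816, 0, 17, 180090) .leaf) (91817, 0, 14, 58964) (.node .leaf (91818, 0, 15, 87816) .leaf)))) (91819, 0, 17, 200230) (.node (.node (.node (.node .leaf (91828, 0, 19, 154637) .leaf) (91829, 0, 15, 47813) (.node .leaf (91830, 0, 17, 111743) .leaf)) (91831, 0, 15, 125664) (.node (.node .leaf (91832, 0, 14, 149016) .leaf) (91833, 0, 18, 173694)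 (.node .leaf (91834, 0, 18, 202301) .leaf))) (91835, 0, 15, 96464) (.node (.node (.node .leaf (91840, 0, 17, 162470) .leaf) (91841, 0, 14, 76104) (.node .leaf (91842, 0, 18, 207491) .leaf)) (91843, 0, 12, 180538) (.node (.node .leaf (91852, 0, 15, 26141) .leaf) (91853, 0, 17, 34427) (.node .leaf (91854, 0, 18, 79416) .leaf))))))

/-- part of the orbit tree -/
def itp2_404 : Tree := (.node (.node (.node (.node (.node (.node .leaf (91856, 0, 17, 755) .leaf) (91857, 0, 15, 221118) (.node .leaf (91858, 0, 11, 192226) .leaf)) (91859, 0, 16, 47052) (.node (.node .leaf (91868, 0, 16, 138824) .leaf) (91869, 0, 17, 196142) (.node .leaf (91870, 0, 18, 31587) .leaf))) (91871, 0, 17, 139853) (.node (.node (.node .leaf (91872, 0, 17, 134508) .leaf) (91873, 0, 17, 21570) (.node .leaf (91874, 0, 15, 8566) .leaf)) (91875, 0, 18, 244784) (.node (.node .leaf (91884, 0, 16, 39149) .leaf) (91885, 0, 16, 232846) (.node .leaf (91886, 0, 16, 225439) .leaf)))) (91887, 0, 17, 76209) (.node (.node (.node (.node .leaf (91888,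 0, 11, 198918) .leaf) (91889, 0, 17, 139956) (.node .leaf (91890, 0, 18, 234472) .leaf)) (91891, 0, 17, 178501) (.node (.node .leaf (91900, 0, 19, 192027) .leaf) (91901, 0, 13, 46901) (.node .leaf (91902, 0, 16, 67177) .leaf))) (91903, 0, 15, 220999) (.node (.node (.node .leaf (91904, 0, 17, 9566) .leaf) (91905, 0, 16, 140872) (.node .leaf (91906, 0, 15, 235284) .leaf)) (91907, 0, 16, 118330) (.node (.node .leaf (91916, 0, 16, 191207) .leaf) (91917, 0, 17, 186755) (.node .leaf (91918, 0, 13, 223680) .leaf))))) (91919, 0, 15, 231846) (.node (.node (.node (.node (.node .leaf (91920, 0, 16, 133520) .leaf) (91921, 0, 18, 179565) (.node .leaf (91922, 0, 17, 199982) .leaf)) (91923, 0, 16, 243916) (.node (.node .leaf (91932, 0, 15, 16816) .leaf) (91933, 0, 17, 181567) (.node .leaf (91934, 0, 17, 70037) .leaf))) (91935, 0, 17, 77133) (.node (.node (.node .leaf (91936, 0, 17, 66156) .leaf) (91937, 0, 13, 219970) (.node .leaf (91938, 0, 15, 191006) .leaf)) (91939, 0, 15, 171752) (.node (.node .leaf (91948,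 0, 17, 235501) .leaf) (91949, 0, 17, 119414) (.node .leaf (91950, 0, 17, 32671) .leaf)))) (91951, 0, 18, 140977) (.node (.node (.node (.node .leaf (91952, 0, 17, 87806) .leaf) (91953, 0, 17, 112280) (.node .leaf (91954, 0, 15, 1755) .leaf)) (91955, 0, 16, 59069) (.node (.node .leaf (91964, 0, 17, 215621) .leaf) (91965, 0, 14, 240163) (.node .leaf (91966, 0, 12, 137824) .leaf))) (91967, 0, 14, 20551) (.node (.node (.node .leaf (91972, 0, 13, 227067) .leaf) (91973, 0, 17, 235165) (.node .leaf (91974, 0, 15, 110723) .leaf)) (91975, 0, 18, 256429) (.node (.node .leaf (91976, 0, 18, 52592) .leaf) (91977, 0, 16, 100902) .leaf)))))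

/-- part of the orbit tree -/
def itp2_405 : Tree := (.node itp2_401 (91598, 0, 17, 178236) itp2_402)

/-- part of the orbit tree -/
def itp2_406 : Tree := (.node itp2_403 (91855, 0, 16, 21691) itp2_404)

/-- part of the orbit tree -/
def itp2_407 : Tree := (.node itp2_399 (91215, 0, 15, 254462) itp2_400)

/-- part of the orbit tree -/
def itp2_408 : Tree := (.node itp2_405 (91727, 0, 14, 213332) itp2_406)

/-- part of the orbit tree -/
def itp2_409 : Tree := (.node itp2_393 (90449, 0, 16, 196844) itp2_394)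

/-- part of the orbit tree -/
def itp2_410 : Tree := (.node itp2_407 (91470, 0, 19, 12086) itp2_408)

/-- part of the orbit tree -/
def itp2_411 : Tree := (.node (.node (.node (.node (.node (.node .leaf (91979, 0, 17, 55811) .leaf) (91988, 0, 16, 69294) (.node .leaf (91989, 0, 18, 126664) .leaf)) (91990, 0, 16, 247413) (.node (.node .leaf (91991, 0, 17, 48877) .leaf) (91992, 0, 17, 201237) (.node .leaf (91993, 0, 17, 58024) .leaf))) (91994, 0, 16, 87028) (.node (.node (.node .leaf (91995, 0, 15, 199386) .leaf) (92004, 0, 17, 32014) (.node .leaf (92005, 0, 16, 97493) .leaf)) (92006, 0, 17, 52617) (.node (.node .leaf (92007, 0, 18, 169127) .leaf) (92008, 0, 17, 156085) (.node .leaf (92009, 0, 15, 256340) .leaf)))) (92010, 0, 12, 209296) (.node (.node (.node (.node .leaf (92011, 0, 16, 250358) .leaf) (92020, 0, 17, 86797) (.node .leaf (92021, 0, 17, 199203) .leaf)) (92022, 0, 17, 218494) (.node (.node .leaf (92023, 0, 18, 242968) .leaf) (92024, 0, 14, 247436) (.node .leaf (92025, 0, 16, 63878) .leaf)))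 (92026, 0, 13, 12030) (.node (.node (.node .leaf (92027, 0, 17, 108963) .leaf) (92032, 0, 16, 249615) (.node .leaf (92033, 0, 14, 152114) .leaf)) (92034, 0, 13, 254577) (.node (.node .leaf (92035, 0, 15, 163411) .leaf) (92044, 0, 15, 88718) (.node .leaf (92045, 0, 15, 20105) .leaf))))) (92046, 0, 16, 130762) (.node (.node (.node (.node (.node .leaf (92047, 0, 18, 60370) .leaf) (92048, 0, 14, 113145) (.node .leaf (92049, 0, 18, 254167) .leaf)) (92050, 0, 15, 104996) (.node (.node .leaf (92051, 0, 17, 2213) .leaf) (92060, 0, 18, 207992) (.node .leaf (92061, 0, 17, 145116) .leaf))) (92062, 0, 16, 231071) (.node (.node (.node .leaf (92063, 0, 11, 171300) .leaf) (92064, 0, 14, 176645) (.node .leaf (92065, 0, 12, 60203) .leaf)) (92066, 0, 16, 88695) (.node (.node .leaf (92067, 0, 16, 197465) .leaf) (92076, 0, 17, 10116) (.node .leaf (92077, 0, 14, 214396) .leaf)))) (92078, 0, 14, 193855) (.node (.node (.node (.node .leaf (92079, 0, 19, 104152) .leaf) (92080, 0, 17, 246260) (.node .leaf (92081, 0, 17, 171485)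 .leaf)) (92082, 0, 17, 208001) (.node (.node .leaf (92083, 0, 16, 160183) .leaf) (92092, 0, 16, 151922) (.node .leaf (92093, 0, 17, 2140) .leaf))) (92094, 0, 17, 112896) (.node (.node (.node .leaf (92095, 0, 16, 253998) .leaf) (92100, 0, 16, 123377) (.node .leaf (92101, 0, 14, 242102) .leaf)) (92102, 0, 19, 131306) (.node (.node .leaf (92103, 0, 14, 20914) .leaf) (92104, 0, 17, 228633) (.node .leaf (92105, 0, 17, 74807) .leaf))))))

/-- part of the orbit tree -/
def itp2_412 : Tree := (.node (.node (.node (.node (.node (.node .leaf (92107, 0, 15, 183365) .leaf) (92116, 0, 17, 235940) (.node .leaf (92117, 0, 18, 116544) .leaf)) (92118, 0, 17, 182657) (.node (.node .leaf (92119, 0, 15, 143154) .leaf) (92120, 0, 17, 68591) (.node .leaf (92121, 0, 14, 91513) .leaf))) (92122, 0, 17, 54586) (.node (.node (.node .leaf (92123, 0, 16, 47795) .leaf) (92132, 0, 18, 190980) (.node .leaf (92133, 0, 16, 133730) .leaf)) (92134, 0, 17, 244257) (.node (.node .leaf (92135, 0, 17, 74958) .leaf) (92136, 0, 16, 131091)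 (.node .leaf (92137, 0, 15, 22845) .leaf)))) (92138, 0, 15, 108186) (.node (.node (.node (.node .leaf (92139, 0, 18, 241999) .leaf) (92148, 0, 17, 189284) (.node .leaf (92149, 0, 16, 47690) .leaf)) (92150, 0, 12, 68374) (.node (.node .leaf (92151, 0, 15, 217656) .leaf) (92152, 0, 17, 30437) (.node .leaf (92153, 0, 14, 143307) .leaf))) (92154, 0, 14, 237207) (.node (.node (.node .leaf (92155, 0, 15, 212649) .leaf) (92160, 0, 15, 251234) (.node .leaf (92163, 0, 16, 98221) .leaf)) (92164, 0, 17, 109183) (.node (.node .leaf (92167, 0, 15, 83598) .leaf) (92169, 0, 17, 133648) (.node .leaf (92170, 0, 18, 55180) .leaf))))) (92173, 0, 17, 203213) (.node (.node (.node (.node (.node .leaf (92174, 0, 17, 230256) .leaf) (92176, 0, 14, 178107) (.node .leaf (92179, 0, 17, 198648) .leaf)) (92180, 0, 16, 253065) (.node (.node .leaf (92183, 0, 17, 212699) .leaf) (92185, 0, 13, 29253) (.node .leaf (92186, 0, 16, 172410) .leaf))) (92189, 0, 16, 19302) (.node (.node (.node .leaf (92190, 0, 16, 129829) .leaf) (92192,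 0, 18, 246811) (.node .leaf (92195, 0, 15, 160856) .leaf)) (92196, 0, 16, 261432) (.node (.node .leaf (92199, 0, 17, 91689) .leaf) (92201, 0, 17, 7130) (.node .leaf (92202, 0, 17, 109190) .leaf)))) (92205, 0, 17, 80070) (.node (.node (.node (.node .leaf (92206, 0, 10, 251291) .leaf) (92208, 0, 15, 113742) (.node .leaf (92211, 0, 17, 3085) .leaf)) (92212, 0, 17, 172419) (.node (.node .leaf (92215, 0, 14, 200927) .leaf) (92217, 0, 15, 227760) (.node .leaf (92218, 0, 16, 182771) .leaf))) (92221, 0, 15, 213139) (.node (.node (.node .leaf (92222, 0, 17, 107373) .leaf) (92225, 0, 15, 214286) (.node .leaf (92226, 0, 15, 26010) .leaf)) (92229, 0, 17, 240603) (.node (.node .leaf (92230, 0, 15, 183406) .leaf) (92232, 0, 13, 223092) (.node .leaf (92235, 0, 14, 185896) .leaf))))))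

/-- part of the orbit tree -/
def itp2_413 : Tree := (.node (.node (.node (.node (.node (.node .leaf (92239, 0, 16, 43317) .leaf) (92241, 0, 18, 81243) (.node .leaf (92242, 0, 15, 136044) .leaf)) (92245, 0, 17, 66680) (.node (.node .leaf (92246, 0, 13, 27761) .leaf) (92248, 0, 15, 70018) (.node .leaf (92251, 0, 15, 149734) .leaf))) (92252, 0, 11, 224927) (.node (.node (.node .leaf (92255, 0, 16, 188355) .leaf) (92257, 0, 18, 43468) (.node .leaf (92258, 0, 15, 130744) .leaf)) (92261, 0, 17, 186065) (.node (.node .leaf (92262, 0, 11, 223117) .leaf) (92264, 0, 17, 166661) (.node .leaf (92267, 0, 16, 240418) .leaf)))) (92268, 0, 15, 176678) (.node (.node (.node (.node .leaf (92271, 0, 14, 197221) .leaf) (92273, 0, 15, 145070) (.node .leaf (92274, 0, 17, 224870) .leaf)) (92277, 0, 16, 40999) (.node (.node .leaf (92278, 0, 17, 245710) .leaf) (92280, 0, 13, 62288) (.node .leaf (92283, 0, 13, 82707) .leaf))) (92284, 0, 17, 136085) (.node (.node (.node .leaf (92287, 0, 18, 96816) .leaf) (92288, 0, 18, 25867)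 (.node .leaf (92291, 0, 15, 256167) .leaf)) (92292, 0, 15, 156103) (.node (.node .leaf (92295, 0, 16, 240458) .leaf) (92297, 0, 16, 186041) (.node .leaf (92298, 0, 13, 77145) .leaf))))) (92301, 0, 16, 43428) (.node (.node (.node (.node (.node .leaf (92302, 0, 15, 70778) .leaf) (92304, 0, 16, 136189) (.node .leaf (92307, 0, 17, 102642) .leaf)) (92308, 0, 15, 27872) (.node (.node .leaf (92311, 0, 17, 109009) .leaf) (92313, 0, 14, 41039) (.node .leaf (92314, 0, 17, 69907) .leaf))) (92317, 0, 11, 188242) (.node (.node (.node .leaf (92318, 0, 15, 224782) .leaf) (92320, 0, 14, 86801) (.node .leaf (92323, 0, 17, 43357) .leaf)) (92324, 0, 15, 92722) (.node (.node .leaf (92327, 0, 15, 185920) .leaf) (92329, 0, 17, 240563) (.node .leaf (92330, 0, 17, 140972) .leaf)))) (92333, 0, 14, 119982) (.node (.node (.node (.node .leaf (92334, 0, 16, 139151) .leaf) (92336, 0, 16, 225015) (.node .leaf (92339, 0, 16, 170759) .leaf)) (92340, 0, 17, 70122) (.node (.node .leaf (92343, 0, 13, 172580) .leaf) (92345, 0, 15, 122181)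 (.node .leaf (92346, 0, 9, 24313) .leaf))) (92349, 0, 19, 238168) (.node (.node (.node .leaf (92350, 0, 17, 135940) .leaf) (92353, 0, 18, 156847) (.node .leaf (92354, 0, 17, 25159) .leaf)) (92357, 0, 17, 125735) (.node (.node .leaf (92358, 0, 10, 109294) .leaf) (92360, 0, 17, 55069) (.node .leaf (92363, 0, 14, 174009) .leaf))))))

/-- part of the orbit tree -/
def itp2_414 : Tree := (.node (.node (.node (.node (.node (.node .leaf (92367, 0, 14, 171674) .leaf) (92369, 0, 13, 240209) (.node .leaf (92370, 0, 14, 137746) .leaf)) (92373, 0, 17, 159044) (.node (.node .leaf (92374, 0, 15, 140081) .leaf) (92376, 0, 17, 94127) (.node .leaf (92379, 0, 18, 200887) .leaf))) (92380, 0, 16, 57078) (.node (.node (.node .leaf (92383, 0, 10, 94122) .leaf) (92385, 0, 17, 186865) (.node .leaf (92386, 0, 17, 174329) .leaf)) (92389, 0, 15, 91832) (.node (.node .leaf (92390, 0, 17, 55268) .leaf) (92392, 0, 17, 7183) (.node .leaf (92395, 0, 15, 109644) .leaf)))) (92396, 0, 17, 251146) (.node (.node (.node (.node .leaf (92399,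 0, 15, 156758) .leaf) (92401, 0, 15, 41380) (.node .leaf (92402, 0, 18, 56847) .leaf)) (92405, 0, 16, 200782) (.node (.node .leaf (92406, 0, 15, 75972) .leaf) (92408, 0, 16, 253153) (.node .leaf (92411, 0, 15, 159165) .leaf))) (92412, 0, 16, 107516) (.node (.node (.node .leaf (92415, 0, 16, 4768) .leaf) (92417, 0, 16, 232956) (.node .leaf (92418, 0, 17, 146879) .leaf)) (92421, 0, 17, 242911) (.node (.node .leaf (92422, 0, 16, 173550) .leaf) (92424, 0, 13, 83970) (.node .leaf (92427, 0, 16, 63553) .leaf))))) (92428, 0, 12, 94497) (.node (.node (.node (.node (.node .leaf (92431, 0, 16, 5724) .leaf) (92433, 0, 16, 204121) (.node .leaf (92434, 0, 13, 17898) .leaf)) (92437, 0, 14, 117898) (.node (.node .leaf (92438, 0, 19, 54040) .leaf) (92440, 0, 17, 208983) (.node .leaf (92443, 0, 16, 163860) .leaf))) (92444, 0, 16, 250358) (.node (.node (.node .leaf (92447, 0, 13, 178487) .leaf) (92449, 0, 16, 34313) (.node .leaf (92450, 0, 15, 79434) .leaf)) (92453, 0, 15, 48938) (.node (.node .leaf (92454, 0, 17,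 69481) .leaf) (92456, 0, 16, 148471) (.node .leaf (92459, 0, 15, 258996) .leaf)))) (92460, 0, 15, 55818) (.node (.node (.node (.node .leaf (92463, 0, 19, 93014) .leaf) (92465, 0, 17, 155731) (.node .leaf (92466, 0, 17, 216607) .leaf)) (92469, 0, 14, 8014) (.node (.node .leaf (92470, 0, 16, 227132) .leaf) (92472, 0, 17, 54241) (.node .leaf (92475, 0, 17, 101345) .leaf))) (92476, 0, 18, 641) (.node (.node (.node .leaf (92479, 0, 15, 204192) .leaf) (92480, 0, 18, 1820) (.node .leaf (92483, 0, 16, 187223) .leaf)) (92484, 0, 14, 70934) (.node (.node .leaf (92487, 0, 15, 102012) .leaf) (92489, 0, 17, 180962) (.node .leaf (92490, 0, 13, 26853) .leaf))))))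

/-- part of the orbit tree -/
def itp2_415 : Tree := (.node itp2_411 (92106, 0, 13, 175471) itp2_412)

/-- part of the orbit tree -/
def itp2_416 : Tree := (.node itp2_413 (92364, 0, 17, 208601) itp2_414)

/-- part of the orbit tree -/
def itp2_417 : Tree := (.node (.node (.node (.node (.node (.node .leaf (92494, 0, 16, 215938) .leaf) (92496, 0, 16, 72957) (.node .leaf (92499, 0, 15, 44449) .leaf)) (92500, 0, 18, 222176) (.node (.node .leaf (92503, 0, 14, 259625) .leaf) (92505, 0, 14, 241487) (.node .leaf (92506, 0, 18, 138771) .leaf))) (92509, 0, 13, 33684) (.node (.node (.node .leaf (92510, 0, 17, 24846) .leaf) (92512, 0, 18, 136961) (.node .leaf (92515, 0, 17, 179370) .leaf)) (92516, 0, 18, 210378) (.node (.node .leaf (92519, 0, 16, 165257) .leaf) (92521, 0, 16, 42163) (.node .leaf (92522, 0, 17, 71151) .leaf)))) (92525, 0, 16, 127028) (.node (.node (.node (.node .leaf (92526, 0, 17, 223986) .leaf) (92528, 0, 17, 95420) (.node .leaf (92531, 0, 15, 50431) .leaf)) (92532, 0, 17, 138986) (.node (.node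 .leaf (92535, 0, 12, 64988) .leaf) (92537, 0, 18, 184901) (.node .leaf (92538, 0, 14, 221977) .leaf))) (92541, 0, 19, 44376) (.node (.node (.node .leaf (92542, 0, 14, 145442) .leaf) (92545, 0, 16, 72438) (.node .leaf (92546, 0, 16, 43701) .leaf)) (92549, 0, 15, 42203) (.node (.node .leaf (92550, 0, 16, 71047) .leaf) (92552, 0, 17, 26740) (.node .leaf (92555, 0, 16, 159563) .leaf))))) (92556, 0, 16, 255531) (.node (.node (.node (.node (.node .leaf (92559, 0, 17, 239157) .leaf) (92561, 0, 16, 44336) (.node .leaf (92562, 0, 16, 185056) .leaf)) (92565, 0, 18, 184877) (.node (.node .leaf (92566, 0, 17, 222065) .leaf) (92568, 0, 18, 108381) (.node .leaf (92571, 0, 18, 241630) .leaf))) (92572, 0, 16, 106110) (.node (.node (.node .leaf (92575, 0, 13, 118979) .leaf) (92577, 0, 18, 239308) (.node .leaf (92578, 0, 15, 137104) .leaf)) (92581, 0, 12, 141344) (.node (.node .leaf (92582, 0, 17, 235619) .leaf) (92584, 0, 15, 71038) (.node .leaf (92587, 0, 16, 42018) .leaf)))) (92588, 0, 15, 223843) (.node (.node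 (.node (.node .leaf (92591, 0, 14, 89501) .leaf) (92593, 0, 16, 26966) (.node .leaf (92594, 0, 15, 24934) .leaf)) (92597, 0, 17, 241447) (.node (.node .leaf (92598, 0, 12, 138875) .leaf) (92600, 0, 15, 175272) (.node .leaf (92603, 0, 17, 204011) .leaf))) (92604, 0, 18, 72853) (.node (.node (.node .leaf (92607, 0, 13, 44489) .leaf) (92608, 0, 18, 55906) (.node .leaf (92611, 0, 18, 204885) .leaf)) (92612, 0, 17, 174389) (.node (.node .leaf (92615, 0, 15, 203126) .leaf) (92617, 0, 17, 158160) (.node .leaf (92618, 0, 15, 124331) .leaf))))))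

/-- part of the orbit tree -/
def itp2_418 : Tree := (.node (.node (.node (.node (.node (.node .leaf (92622, 0, 19, 108433) .leaf) (92624, 0, 15, 59459) (.node .leaf (92627, 0, 17, 204232) .leaf)) (92628, 0, 16, 53600) (.node (.node .leaf (92631, 0, 18, 90837) .leaf) (92633, 0, 16, 7974) (.node .leaf (92634, 0, 13, 110202) .leaf))) (92637, 0, 18, 136350) (.node (.node (.node .leaf (92638, 0, 18, 250215) .leaf) (92640, 0, 16, 105443) (.node .leaf (92643, 0, 18, 11168) .leaf)) (92644, 0, 17, 107200) (.node (.node .leaf (92647, 0, 17, 157993) .leaf) (92649, 0, 17, 201946) (.node .leaf (92650, 0, 17, 192094) .leaf)))) (92653, 0, 14, 223038) (.node (.node (.node (.node .leaf (92654, 0, 14, 186237) .leaf) (92656, 0, 8, 250270) (.node .leaf (92659, 0, 14, 152565) .leaf)) (92660, 0, 17, 110211) (.node (.node .leaf (92663, 0, 17, 158422) .leaf) (92665, 0, 14, 75336) (.node .leaf (92666, 0, 14, 38411) .leaf))) (92669, 0, 18, 73579) (.node (.node (.node .leaf (92670, 0, 16, 44840) .leaf) (92674, 0, 13, 111547)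 (.node .leaf (92675, 0, 17, 155922) .leaf)) (92678, 0, 13, 101016) (.node (.node .leaf (92679, 0, 14, 92926) .leaf) (92680, 0, 18, 211666) (.node .leaf (92681, 0, 13, 140896) .leaf))))) (92684, 0, 18, 196389) (.node (.node (.node (.node (.node .leaf (92685, 0, 13, 204001) .leaf) (92690, 0, 13, 151242) (.node .leaf (92691, 0, 12, 207752) .leaf)) (92694, 0, 18, 12759) (.node (.node .leaf (92695, 0, 16, 201387) .leaf) (92696, 0, 16, 48723) (.node .leaf (92697, 0, 16, 24117) .leaf))) (92700, 0, 16, 34672) (.node (.node (.node .leaf (92701, 0, 17, 92695) .leaf) (92706, 0, 15, 83254) (.node .leaf (92707, 0, 16, 203800) .leaf)) (92710, 0, 14, 211499) (.node (.node .leaf (92711, 0, 15, 155915) .leaf) (92712, 0, 18, 118259) (.node .leaf (92713, 0, 15, 77205) .leaf)))) (92716, 0, 11, 128208) (.node (.node (.node (.node .leaf (92717, 0, 18, 156139) .leaf) (92722, 0, 14, 49179) (.node .leaf (92723, 0, 18, 8317) .leaf)) (92726, 0, 15, 85213) (.node (.node .leaf (92727, 0, 15, 202227) .leaf) (92728, 0, 15, 12590)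 (.node .leaf (92729, 0, 12, 218560) .leaf))) (92732, 0, 17, 232581) (.node (.node (.node .leaf (92733, 0, 18, 224483) .leaf) (92736, 0, 18, 231620) (.node .leaf (92737, 0, 13, 223614) .leaf)) (92740, 0, 15, 128985) (.node (.node .leaf (92741, 0, 10, 217181) .leaf) (92746, 0, 16, 35370) (.node .leaf (92747, 0, 14, 7363) .leaf))))))

/-- part of the orbit tree -/
def itp2_419 : Tree := (.node (.node (.node (.node (.node (.node .leaf (92751, 0, 18, 9696) .leaf) (92752, 0, 18, 130610) (.node .leaf (92753, 0, 17, 239388) .leaf)) (92756, 0, 17, 229679) (.node (.node .leaf (92757, 0, 12, 120833) .leaf) (92762, 0, 15, 165104) (.node .leaf (92763, 0, 13, 42482) .leaf))) (92766, 0, 13, 33729) (.node (.node (.node .leaf (92767, 0, 17, 187119) .leaf) (92768, 0, 16, 33517) (.node .leaf (92769, 0, 17, 25227) .leaf)) (92772, 0, 15, 35539) (.node (.node .leaf (92773, 0, 18, 23464) .leaf) (92778, 0, 16, 128800) (.node .leaf (92779, 0, 15, 202550) .leaf)))) (92782, 0, 16, 231485) (.node (.node (.node (.node .leaf (92783,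 0, 14, 119059) .leaf) (92784, 0, 16, 195256) (.node .leaf (92785, 0, 15, 137950) .leaf)) (92788, 0, 14, 195621) (.node (.node .leaf (92789, 0, 15, 140285) .leaf) (92794, 0, 8, 102149) (.node .leaf (92795, 0, 15, 94051) .leaf))) (92798, 0, 17, 130763) (.node (.node (.node .leaf (92799, 0, 15, 239589) .leaf) (92802, 0, 16, 206001) (.node .leaf (92803, 0, 16, 246999) .leaf)) (92806, 0, 16, 128840) (.node (.node .leaf (92807, 0, 17, 241254) .leaf) (92808, 0, 17, 20748) (.node .leaf (92809, 0, 17, 45418) .leaf))))) (92812, 0, 16, 193958) (.node (.node (.node (.node (.node .leaf (92813, 0, 16, 44168) .leaf) (92818, 0, 13, 130723) (.node .leaf (92819, 0, 15, 113794) .leaf)) (92822, 0, 16, 91591) (.node (.node .leaf (92823, 0, 18, 120976) .leaf) (92824, 0, 14, 195661) (.node .leaf (92825, 0, 15, 182591) .leaf))) (92828, 0, 17, 135290) (.node (.node (.node .leaf (92829, 0, 16, 187006) .leaf) (92834, 0, 17, 12100) (.node .leaf (92835, 0, 16, 44145) .leaf)) (92838, 0, 17, 35394) (.node (.node .leaf (92839, 0,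 17, 62977) .leaf) (92840, 0, 16, 128945) (.node .leaf (92841, 0, 16, 244383) .leaf)))) (92844, 0, 17, 222170) (.node (.node (.node (.node .leaf (92845, 0, 15, 119170) .leaf) (92850, 0, 17, 33705) (.node .leaf (92851, 0, 15, 187015) .leaf)) (92854, 0, 18, 195764) (.node (.node .leaf (92855, 0, 15, 42394) .leaf) (92856, 0, 18, 229703) (.node .leaf (92857, 0, 16, 115402) .leaf))) (92860, 0, 17, 130650) (.node (.node (.node .leaf (92861, 0, 13, 130025) .leaf) (92864, 0, 16, 73234) (.node .leaf (92865, 0, 17, 156035) .leaf)) (92868, 0, 16, 75569) (.node (.node .leaf (92869, 0, 17, 7838) .leaf) (92874, 0, 18, 211523) (.node .leaf (92875, 0, 16, 166857) .leaf))))))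

/-- part of the orbit tree -/
def itp2_420 : Tree := (.node (.node (.node (.node (.node (.node .leaf (92879, 0, 16, 176874) .leaf) (92880, 0, 17, 151131) (.node .leaf (92881, 0, 15, 6005) .leaf)) (92884, 0, 17, 12614) (.node (.node .leaf (92885, 0, 14, 157800) .leaf) (92890, 0, 13, 5114) (.node .leaf (92891, 0, 16, 62364) .leaf))) (92894, 0, 16, 209832) (.node (.node (.node .leaf (92895, 0, 12, 51903) .leaf) (92896, 0, 18, 83367) (.node .leaf (92897, 0, 17, 193921) .leaf)) (92900, 0, 18, 142532) (.node (.node .leaf (92901, 0, 17, 91028) .leaf) (92906, 0, 13, 149321) (.node .leaf (92907, 0, 17, 98364) .leaf)))) (92910, 0, 17, 88441) (.node (.node (.node (.node .leaf (92911, 0, 17, 156026) .leaf) (92912, 0, 15, 28082) (.node .leaf (92913, 0, 16, 92799) .leaf)) (92916, 0, 13, 85068) (.node (.node .leaf (92917, 0, 17, 46327) .leaf) (92922, 0, 16, 202767) (.node .leaf (92923, 0, 14, 260201) .leaf))) (92926, 0, 13, 205100) (.node (.node (.node .leaf (92927, 0, 14, 246090) .leaf) (92928, 0, 15, 213482)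 (.node .leaf (92929, 0, 18, 93827) .leaf)) (92932, 0, 15, 227529) (.node (.node .leaf (92933, 0, 16, 235695) .leaf) (92938, 0, 17, 13635) (.node .leaf (92939, 0, 15, 158829) .leaf))))) (92942, 0, 16, 150110) (.node (.node (.node (.node (.node .leaf (92943, 0, 17, 60690) .leaf) (92944, 0, 17, 82267) (.node .leaf (92945, 0, 18, 202869) .leaf)) (92948, 0, 16, 212550) (.node (.node .leaf (92949, 0, 16, 123130) .leaf) (92954, 0, 16, 150530) (.node .leaf (92955, 0, 15, 175204) .leaf))) (92958, 0, 18, 161057) (.node (.node (.node .leaf (92959, 0, 14, 169287) .leaf) (92960, 0, 13, 18975) (.node .leaf (92961, 0, 17, 5001) .leaf)) (92964, 0, 17, 13754) (.node (.node .leaf (92965, 0, 13, 37722) .leaf) (92970, 0, 17, 84041) (.node .leaf (92971, 0, 16, 253892) .leaf)))) (92974, 0, 17, 210772) (.node (.node (.node (.node .leaf (92975, 0, 15, 93818) .leaf) (92976, 0, 13, 15441) (.node .leaf (92977, 0, 16, 157055) .leaf)) (92980, 0, 17, 133993) (.node (.node .leaf (92981, 0, 17, 191247) .leaf) (92986, 0, 12, 83959)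 (.node .leaf (92987, 0, 19, 108433) .leaf))) (92990, 0, 17, 82338) (.node (.node (.node .leaf (92991, 0, 16, 106162) .leaf) (92994, 0, 16, 34645) (.node .leaf (92995, 0, 17, 105263) .leaf)) (92998, 0, 14, 194632) (.node (.node .leaf (92999, 0, 18, 107020) .leaf) (93000, 0, 15, 134900) .leaf)))))

/-- part of the orbit tree -/
def itp2_421 : Tree := (.node itp2_417 (92621, 0, 15, 27851) itp2_418)

/-- part of the orbit tree -/
def itp2_422 : Tree := (.node itp2_419 (92878, 0, 17, 83294) itp2_420)

/-- part of the orbit tree -/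
def itp2_423 : Tree := (.node itp2_415 (92236, 0, 17, 113107) itp2_416)

/-- part of the orbit tree -/
def itp2_424 : Tree := (.node itp2_421 (92750, 0, 16, 50566) itp2_422)

/-- part of the orbit tree -/
def itp2_425 : Tree := (.node (.node (.node (.node (.node (.node .leaf (93004, 0, 17, 145367) .leaf) (93005, 0, 16, 238472) (.node .leaf (93010, 0, 17, 197404) .leaf)) (93011, 0, 16, 43149) (.node (.node .leaf (93014, 0, 18, 211519) .leaf) (93015, 0, 17, 186256) (.node .leaf (93016, 0, 16, 127821) .leaf))) (93017, 0, 16, 38599) (.node (.node (.node .leaf (93020, 0, 17, 20354) .leaf) (93021, 0, 16, 45028) (.node .leaf (93026, 0, 13, 129631) .leaf)) (93027, 0, 17, 238449) (.node (.node .leaf (93030, 0, 14, 230722) .leaf) (93031, 0, 16, 121964) (.node .leaf (93032, 0, 18, 66817) .leaf)))) (93033, 0, 16, 41375) (.node (.node (.node (.node .leaf (93036, 0, 15, 80930) .leaf) (93037, 0, 13, 121924) (.node .leaf (93042, 0, 17, 2281) .leaf)) (93043, 0, 17, 59535) (.node (.node .leaf (93046, 0, 18, 127924)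 .leaf) (93047, 0, 15, 240282) (.node .leaf (93048, 0, 16, 36423) .leaf))) (93049, 0, 16, 236850) (.node (.node (.node .leaf (93052, 0, 14, 192858) .leaf) (93053, 0, 17, 43124) (.node .leaf (93056, 0, 15, 34756) .leaf)) (93057, 0, 16, 188138) (.node (.node .leaf (93060, 0, 17, 126915) .leaf) (93061, 0, 14, 69541) (.node .leaf (93066, 0, 15, 230698) .leaf))))) (93067, 0, 15, 148283) (.node (.node (.node (.node (.node .leaf (93070, 0, 16, 129591) .leaf) (93071, 0, 15, 162328) (.node .leaf (93072, 0, 16, 192818) .leaf)) (93073, 0, 15, 216787) (.node (.node .leaf (93076, 0, 17, 235414) .leaf) (93077, 0, 14, 186113) (.node .leaf (93082, 0, 14, 127964) .leaf))) (93083, 0, 15, 15214) (.node (.node (.node .leaf (93086, 0, 16, 232641) .leaf) (93087, 0, 9, 589) (.node .leaf (93088, 0, 17, 129742) .leaf)) (93089, 0, 14, 146803) (.node (.node .leaf (93092, 0, 17, 230867) .leaf) (93093, 0, 17, 132176) (.node .leaf (93098, 0, 14, 108712) .leaf)))) (93099, 0, 16, 84174) (.node (.node (.node (.node .leaf (93102, 0,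 13, 102795) .leaf) (93103, 0, 16, 94701) (.node .leaf (93104, 0, 16, 42304) .leaf)) (93105, 0, 14, 120086) (.node (.node .leaf (93108, 0, 16, 40035) .leaf) (93109, 0, 17, 31749) (.node .leaf (93114, 0, 17, 36566) .leaf))) (93115, 0, 17, 186360) (.node (.node (.node .leaf (93118, 0, 6, 192971) .leaf) (93119, 0, 12, 43237) (.node .leaf (93122, 0, 11, 257091) .leaf)) (93123, 0, 14, 199717) (.node (.node .leaf (93126, 0, 17, 84001) .leaf) (93127, 0, 17, 210182) (.node .leaf (93128, 0, 16, 13778) .leaf))))))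

/-- part of the orbit tree -/
def itp2_426 : Tree := (.node (.node (.node (.node (.node (.node .leaf (93132, 0, 11, 41181) .leaf) (93133, 0, 17, 16571) (.node .leaf (93138, 0, 14, 103446) .leaf)) (93139, 0, 17, 95344) (.node (.node .leaf (93142, 0, 16, 212695) .leaf) (93143, 0, 15, 92153) (.node .leaf (93144, 0, 13, 148260) .leaf))) (93145, 0, 13, 131533) (.node (.node (.node .leaf (93148, 0, 17, 15417) .leaf) (93149, 0, 17, 156951) (.node .leaf (93154, 0, 16, 150070) .leaf)) (93155, 0, 16, 2000) (.node (.node .leaf (93158, 0, 15, 56981) .leaf) (93159, 0, 15, 158725) (.node .leaf (93160, 0, 13, 84184) .leaf)))) (93161, 0, 10, 201206) (.node (.node (.node (.node .leaf (93164, 0, 18, 210885) .leaf) (93165, 0, 17, 215886) (.node .leaf (93170, 0, 16, 172003) .leaf)) (93171, 0, 16, 157166) (.node (.node .leaf (93174, 0, 15, 173760) .leaf) (93175, 0, 14, 6899) (.node .leaf (93176, 0, 14, 125534) .leaf))) (93177, 0, 18, 68152) (.node (.node (.node .leaf (93180, 0, 17, 82227) .leaf) (93181, 0, 18, 202781)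 (.node .leaf (93185, 0, 16, 79136) .leaf)) (93187, 0, 16, 92618) (.node (.node .leaf (93189, 0, 18, 68611) .leaf) (93191, 0, 15, 23590) (.node .leaf (93192, 0, 19, 258270) .leaf))))) (93194, 0, 14, 252536) (.node (.node (.node (.node (.node .leaf (93196, 0, 17, 150807) .leaf) (93198, 0, 14, 170456) (.node .leaf (93201, 0, 17, 216437) .leaf)) (93203, 0, 16, 138576) (.node (.node .leaf (93205, 0, 16, 226390) .leaf) (93207, 0, 18, 90145) (.node .leaf (93208, 0, 16, 100491) .leaf))) (93210, 0, 18, 55470) (.node (.node (.node .leaf (93212, 0, 16, 111016) .leaf) (93214, 0, 13, 250771) (.node .leaf (93217, 0, 14, 147157) .leaf)) (93219, 0, 18, 225008) (.node (.node .leaf (93221, 0, 16, 99247) .leaf) (93223, 0, 19, 219091) (.node .leaf (93224, 0, 16, 85760) .leaf)))) (93226, 0, 7, 173938) (.node (.node (.node (.node .leaf (93228, 0, 10, 208925) .leaf) (93230, 0, 17, 102957) (.node .leaf (93233, 0, 19, 100932) .leaf)) (93235, 0, 18, 71333) (.node (.node .leaf (93237, 0, 17, 259417) .leaf) (93239, 0, 17, 77702)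 (.node .leaf (93240, 0, 17, 211446) .leaf))) (93242, 0, 17, 53636) (.node (.node (.node .leaf (93244, 0, 16, 83691) .leaf) (93246, 0, 17, 175769) (.node .leaf (93248, 0, 15, 32796) .leaf)) (93250, 0, 17, 258021) (.node (.node .leaf (93252, 0, 14, 165603) .leaf) (93254, 0, 17, 251590) (.node .leaf (93257, 0, 16, 31294) .leaf))))))

/-- part of the orbit tree -/
def itp2_427 : Tree := (.node (.node (.node (.node (.node (.node .leaf (93261, 0, 16, 19635) .leaf) (93263, 0, 16, 238785) (.node .leaf (93264, 0, 16, 194282) .leaf)) (93266, 0, 18, 73368) (.node (.node .leaf (93268, 0, 14, 65206) .leaf) (93270, 0, 16, 221573) (.node .leaf (93273, 0, 14, 17752) .leaf))) (93275, 0, 12, 240938) (.node (.node (.node .leaf (93277, 0, 18, 145989) .leaf) (93279, 0, 15, 224109) (.node .leaf (93280, 0, 15, 130326) .leaf)) (93282, 0, 13, 136548) (.node (.node .leaf (93284, 0, 13, 101654) .leaf) (93286, 0, 16, 56627) (.node .leaf (93289, 0, 16, 225739) .leaf)))) (93291, 0, 17, 139758) (.node (.node (.node (.node .leaf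 (93293, 0, 15, 78265) .leaf) (93295, 0, 16, 137421) (.node .leaf (93296, 0, 16, 248928) .leaf)) (93298, 0, 13, 25490) (.node (.node .leaf (93300, 0, 16, 128253) .leaf) (93302, 0, 17, 173414) (.node .leaf (93305, 0, 18, 79954) .leaf))) (93307, 0, 16, 184352) (.node (.node (.node .leaf (93309, 0, 16, 78013) .leaf) (93311, 0, 17, 24728) (.node .leaf (93313, 0, 16, 78289) .leaf)) (93315, 0, 16, 193039) (.node (.node .leaf (93317, 0, 14, 236297) .leaf) (93319, 0, 17, 42686) (.node .leaf (93320, 0, 15, 229987) .leaf))))) (93322, 0, 17, 14321) (.node (.node (.node (.node (.node .leaf (93324, 0, 15, 130430) .leaf) (93326, 0, 15, 136460) (.node .leaf (93329, 0, 17, 214823) .leaf)) (93331, 0, 18, 35418) (.node (.node .leaf (93333, 0, 17, 79930) .leaf) (93335, 0, 15, 45945) (.node .leaf (93336, 0, 16, 204673) .leaf))) (93338, 0, 16, 138471) (.node (.node (.node .leaf (93340, 0, 16, 206498) .leaf) (93342, 0, 17, 161415) (.node .leaf (93345, 0, 18, 19675) .leaf)) (93347, 0, 17, 238761) (.node (.node .leaf (93349,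 0, 16, 144326) .leaf) (93351, 0, 16, 121780) (.node .leaf (93352, 0, 16, 158753) .leaf)))) (93354, 0, 13, 71451) (.node (.node (.node (.node .leaf (93356, 0, 18, 152834) .leaf) (93358, 0, 16, 223238) (.node .leaf (93361, 0, 18, 184714) .leaf)) (93363, 0, 14, 119391) (.node (.node .leaf (93365, 0, 15, 17712) .leaf) (93367, 0, 14, 240962) (.node .leaf (93368, 0, 15, 5236) .leaf))) (93370, 0, 16, 83025) (.node (.node (.node .leaf (93372, 0, 18, 11607) .leaf) (93374, 0, 17, 97650) (.node .leaf (93376, 0, 15, 10442) .leaf)) (93378, 0, 17, 96495) (.node (.node .leaf (93380, 0, 17, 4585) .leaf) (93382, 0, 14, 173850) (.node .leaf (93385, 0, 17, 99271) .leaf))))))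

/-- part of the orbit tree -/
def itp2_428 : Tree := (.node (.node (.node (.node (.node (.node .leaf (93389, 0, 16, 185367) .leaf) (93391, 0, 15, 5288) (.node .leaf (93392, 0, 16, 151711) .leaf)) (93394, 0, 16, 196794) (.node (.node .leaf (93396, 0, 16, 158140) .leaf) (93398, 0, 16, 211353) (.node .leaf (93401, 0, 15, 38241) .leaf))) (93403, 0, 16, 116036) (.node (.node (.node .leaf (93405, 0, 17, 44098) .leaf) (93407, 0, 16, 156254) (.node .leaf (93408, 0, 11, 150911) .leaf)) (93410, 0, 17, 107789) (.node (.node .leaf (93412, 0, 17, 12898) .leaf) (93414, 0, 17, 252432) (.node .leaf (93417, 0, 15, 124609) .leaf)))) (93419, 0, 16, 46820) (.node (.node (.node (.node .leaf (93421, 0, 16, 122850) .leaf) (93423, 0, 15, 36807) (.node .leaf (93424, 0, 16, 15241) .leaf)) (93426, 0, 16, 250875) (.node (.node .leaf (93428, 0, 18, 90697) .leaf) (93430, 0, 18, 12908) (.node .leaf (93433, 0, 15, 165947) .leaf))) (93435, 0, 14, 183985) (.node (.node (.node .leaf (93437, 0, 16, 63270) .leaf) (93439, 0, 14, 194450)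 (.node .leaf (93440, 0, 16, 16245) .leaf)) (93442, 0, 16, 251655) (.node (.node .leaf (93444, 0, 16, 147560) .leaf) (93446, 0, 17, 108570) (.node .leaf (93449, 0, 13, 167111) .leaf))))) (93451, 0, 16, 123625) (.node (.node (.node (.node (.node .leaf (93453, 0, 14, 62426) .leaf) (93455, 0, 17, 121802) (.node .leaf (93456, 0, 17, 149891) .leaf)) (93458, 0, 16, 106993) (.node (.node .leaf (93460, 0, 13, 13982) .leaf) (93462, 0, 17, 253676) (.node .leaf (93465, 0, 15, 182937) .leaf))) (93467, 0, 15, 236220) (.node (.node (.node .leaf (93469, 0, 15, 193466) .leaf) (93471, 0, 18, 238495) (.node .leaf (93472, 0, 17, 97479) .leaf)) (93474, 0, 18, 174605) (.node (.node .leaf (93476, 0, 10, 83428) .leaf) (93478, 0, 17, 5569) (.node .leaf (93481, 0, 15, 258509) .leaf)))) (93483, 0, 15, 190748) (.node (.node (.node (.node .leaf (93485, 0, 18, 102096) .leaf) (93487, 0, 16, 184383) (.node .leaf (93488, 0, 17, 197778) .leaf)) (93490, 0, 14, 152759) (.node (.node .leaf (93492, 0, 16, 212401) .leaf) (93494, 0, 17,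 173030) (.node .leaf (93497, 0, 13, 115052) .leaf))) (93499, 0, 17, 37193) (.node (.node (.node .leaf (93501, 0, 14, 260134) .leaf) (93503, 0, 15, 43114) (.node .leaf (93505, 0, 17, 130514) .leaf)) (93507, 0, 17, 120483) (.node (.node .leaf (93509, 0, 15, 115953) .leaf) (93511, 0, 17, 240062) (.node .leaf (93512, 0, 11, 210988) .leaf))))))

/-- part of the orbit tree -/
def itp2_429 : Tree := (.node itp2_425 (93129, 0, 17, 31128) itp2_426)

/-- part of the orbit tree -/
def itp2_430 : Tree := (.node itp2_427 (93387, 0, 17, 245009) itp2_428)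

/-- part of the orbit tree -/
def itp2_431 : Tree := (.node (.node (.node (.node (.node (.node .leaf (93516, 0, 18, 196879) .leaf) (93518, 0, 17, 72204) (.node .leaf (93521, 0, 18, 18471) .leaf)) (93523, 0, 18, 237653) (.node (.node .leaf (93525, 0, 15, 145210) .leaf) (93527, 0, 17, 191617) (.node .leaf (93528, 0, 18, 195477) .leaf))) (93530, 0, 15, 70631) (.node (.node (.node .leaf (93532, 0, 8, 33928) .leaf) (93534, 0, 17, 10623) (.node .leaf (93537, 0, 15, 213979) .leaf)) (93539, 0, 17, 43945) (.node (.node .leaf (93541, 0, 16, 184068) .leaf) (93543, 0, 17, 185524) (.node .leaf (93544, 0, 15, 13273) .leaf)))) (93546, 0, 16, 91132) (.node (.node (.node (.node .leaf (93548, 0, 16, 2810) .leaf) (93550, 0, 15, 26374) (.node .leaf (93553, 0, 13, 79149) .leaf)) (93555, 0, 17, 187743) (.node (.node .leaf (93557, 0, 12, 46929) .leaf) (93559, 0, 14, 41538) (.node .leaf (93560, 0, 16, 231071) .leaf))) (93562, 0, 14, 203689) (.node (.node (.node .leaf (93564, 0, 13, 160431) .leaf) (93566, 0, 17, 135664)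 (.node .leaf (93568, 0, 14, 57400) .leaf)) (93570, 0, 15, 26478) (.node (.node .leaf (93572, 0, 16, 55579) .leaf) (93574, 0, 16, 100670) (.node .leaf (93577, 0, 13, 140742) .leaf))))) (93579, 0, 15, 185564) (.node (.node (.node (.node (.node .leaf (93581, 0, 15, 138469) .leaf) (93583, 0, 14, 43969) (.node .leaf (93584, 0, 16, 129514) .leaf)) (93586, 0, 15, 135576) (.node (.node .leaf (93588, 0, 17, 231159) .leaf) (93590, 0, 11, 28293) (.node .leaf (93593, 0, 15, 215640) .leaf))) (93595, 0, 9, 69046) (.node (.node (.node .leaf (93597, 0, 17, 25776) .leaf) (93599, 0, 16, 187703) (.node .leaf (93600, 0, 15, 256973) .leaf)) (93602, 0, 16, 72292) (.node (.node .leaf (93604, 0, 16, 250606) .leaf) (93606, 0, 16, 164555) (.node .leaf (93609, 0, 19, 77363) .leaf)))) (93611, 0, 16, 240086) (.node (.node (.node (.node .leaf (93613, 0, 15, 71440) .leaf) (93615, 0, 15, 120523) (.node .leaf (93616, 0, 16, 103320) .leaf)) (93618, 0, 18, 224402) (.node (.node .leaf (93620, 0, 14, 195581) .leaf) (93622, 0, 16, 64158)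 (.node .leaf (93625, 0, 15, 218726) .leaf))) (93627, 0, 15, 132675) (.node (.node (.node .leaf (93629, 0, 15, 18511) .leaf) (93631, 0, 16, 147296) (.node .leaf (93633, 0, 12, 223960) .leaf)) (93635, 0, 17, 157386) (.node (.node .leaf (93637, 0, 17, 258469) .leaf) (93639, 0, 15, 6615) (.node .leaf (93640, 0, 18, 212234) .leaf))))))

/-- part of the orbit tree -/
def itp2_432 : Tree := (.node (.node (.node (.node (.node (.node .leaf (93644, 0, 12, 82455) .leaf) (93646, 0, 16, 50720) (.node .leaf (93649, 0, 17, 70285) .leaf)) (93651, 0, 18, 17064) (.node (.node .leaf (93653, 0, 18, 100179) .leaf) (93655, 0, 16, 31627) (.node .leaf (93656, 0, 16, 84988) .leaf))) (93658, 0, 14, 172942) (.node (.node (.node .leaf (93660, 0, 17, 257616) .leaf) (93662, 0, 15, 56467) (.node .leaf (93665, 0, 15, 62386) .leaf)) (93667, 0, 14, 203712) (.node (.node .leaf (93669, 0, 19, 22542) .leaf) (93671, 0, 17, 91357) (.node .leaf (93672, 0, 14, 173267) .leaf)))) (93674, 0, 14, 108658) (.node (.node (.node (.node .leaf (93676,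 0, 15, 16157) .leaf) (93678, 0, 17, 251759) (.node .leaf (93681, 0, 17, 165188) .leaf)) (93683, 0, 18, 93494) (.node (.node .leaf (93685, 0, 17, 139355) .leaf) (93687, 0, 17, 225406) (.node .leaf (93688, 0, 15, 56454) .leaf))) (93690, 0, 16, 253572) (.node (.node (.node .leaf (93692, 0, 18, 58789) .leaf) (93694, 0, 15, 112000) (.node .leaf (93696, 0, 18, 129334) .leaf)) (93697, 0, 17, 72016) (.node (.node .leaf (93698, 0, 17, 210376) .leaf) (93699, 0, 18, 18805) (.node .leaf (93700, 0, 15, 172711) .leaf))))) (93701, 0, 16, 73843) (.node (.node (.node (.node (.node .leaf (93702, 0, 16, 36912) .leaf) (93703, 0, 14, 28758) (.node .leaf (93712, 0, 12, 229731) .leaf)) (93713, 0, 18, 62050) (.node (.node .leaf (93714, 0, 15, 184646) .leaf) (93715, 0, 16, 143648) (.node .leaf (93716, 0, 12, 243776) .leaf))) (93717, 0, 14, 167295) (.node (.node (.node .leaf (93718, 0, 17, 212003) .leaf) (93719, 0, 17, 91405) (.node .leaf (93728, 0, 17, 106672) .leaf)) (93729, 0, 14, 260510) (.node (.node .leaf (93730, 0,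 15, 149698) .leaf) (93731, 0, 19, 213632) (.node .leaf (93732, 0, 16, 253869) .leaf)))) (93733, 0, 17, 99971) (.node (.node (.node (.node .leaf (93734, 0, 16, 236485) .leaf) (93735, 0, 18, 159473) (.node .leaf (93744, 0, 18, 35478) .leaf)) (93745, 0, 12, 102248) (.node (.node .leaf (93746, 0, 16, 121523) .leaf) (93747, 0, 18, 157466) (.node .leaf (93748, 0, 16, 108891) .leaf))) (93749, 0, 17, 258165) (.node (.node (.node .leaf (93750, 0, 16, 147753) .leaf) (93751, 0, 18, 66550) (.node .leaf (93768, 0, 18, 28588) .leaf)) (93769, 0, 18, 22094) (.node (.node .leaf (93770, 0, 17, 124429) .leaf) (93771, 0, 15, 67179) (.node .leaf (93772, 0, 16, 135345) .leaf))))))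

/-- part of the orbit tree -/
def itp2_433 : Tree := (.node (.node (.node (.node (.node (.node .leaf (93774, 0, 17, 129219) .leaf) (93775, 0, 17, 238061) (.node .leaf (93784, 0, 14, 183933) .leaf)) (93785, 0, 12, 16500) (.node (.node .leaf (93786, 0, 15, 127272) .leaf) (93787, 0, 15, 228926) (.node .leaf (93788, 0, 18, 194398) .leaf))) (93789, 0, 14, 147305) (.node (.node (.node .leaf (93790, 0, 17, 239483) .leaf) (93791, 0, 15, 214813) (.node .leaf (93800, 0, 14, 245213) .leaf)) (93801, 0, 19, 215944) (.node (.node .leaf (93802, 0, 15, 191992) .leaf) (93803, 0, 13, 134558) (.node .leaf (93804, 0, 15, 230654) .leaf)))) (93805, 0, 17, 222360) (.node (.node (.node (.node .leaf (93806, 0, 15, 34249) .leaf) (93807, 0, 14, 144573) (.node .leaf (93816, 0, 16, 116104) .leaf)) (93817, 0, 16, 75246) (.node (.node .leaf (93818, 0, 14, 38317) .leaf) (93819, 0, 14, 30155) (.node .leaf (93820, 0, 18, 130219) .leaf))) (93821, 0, 19, 72909) (.node (.node (.node .leaf (93822, 0, 18, 193343) .leaf) (93823, 0, 16,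 19688) (.node .leaf (93824, 0, 17, 224828) .leaf)) (93825, 0, 15, 79101) (.node (.node .leaf (93826, 0, 14, 34209) .leaf) (93827, 0, 17, 188031) (.node .leaf (93828, 0, 16, 70350) .leaf))))) (93829, 0, 16, 216032) (.node (.node (.node (.node (.node .leaf (93830, 0, 15, 132922) .leaf) (93831, 0, 16, 190300) (.node .leaf (93840, 0, 16, 71273) .leaf)) (93841, 0, 17, 128527) (.node (.node .leaf (93842, 0, 17, 193367) .leaf) (93843, 0, 17, 42538) (.node .leaf (93844, 0, 14, 222264) .leaf))) (93845, 0, 17, 118572) (.node (.node (.node .leaf (93846, 0, 13, 32623) .leaf) (93847, 0, 11, 185700) (.node .leaf (93856, 0, 17, 26057) .leaf)) (93857, 0, 14, 34223) (.node (.node .leaf (93858, 0, 16, 129195) .leaf) (93859, 0, 15, 237957) (.node .leaf (93860, 0, 19, 28612) .leaf)))) (93861, 0, 15, 48268) (.node (.node (.node (.node .leaf (93862, 0, 11, 68815) .leaf) (93863, 0, 16, 122520) (.node .leaf (93872, 0, 16, 138652) .leaf)) (93873, 0, 16, 147201) (.node (.node .leaf (93874, 0, 16, 216505) .leaf) (93875, 0,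 18, 241119) (.node .leaf (93876, 0, 18, 140479) .leaf))) (93877, 0, 17, 181465) (.node (.node (.node .leaf (93878, 0, 18, 127296) .leaf) (93879, 0, 17, 234748) (.node .leaf (93896, 0, 16, 139554) .leaf)) (93897, 0, 16, 100075) (.node (.node .leaf (93898, 0, 17, 14263) .leaf) (93899, 0, 16, 233825) (.node .leaf (93900, 0, 16, 137217) .leaf))))))

/-- part of the orbit tree -/
def itp2_434 : Tree := (.node (.node (.node (.node (.node (.node .leaf (93902, 0, 16, 215076) .leaf) (93903, 0, 17, 4484) (.node .leaf (93912, 0, 17, 108851) .leaf)) (93913, 0, 12, 258077) (.node (.node .leaf (93914, 0, 15, 147777) .leaf) (93915, 0, 16, 6255) (.node .leaf (93916, 0, 14, 24660) .leaf))) (93917, 0, 17, 32818) (.node (.node (.node .leaf (93918, 0, 15, 77937) .leaf) (93919, 0, 18, 118807) (.node .leaf (93928, 0, 13, 76503) .leaf)) (93929, 0, 17, 117425) (.node (.node .leaf (93930, 0, 15, 31474) .leaf) (93931, 0, 16, 39572) (.node .leaf (93932, 0, 16, 70644) .leaf)))) (93933, 0, 11, 127890) (.node (.node (.node (.node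 .leaf (93934, 0, 14, 210336) .leaf) (93935, 0, 16, 93326) (.node .leaf (93944, 0, 16, 217730) .leaf)) (93945, 0, 16, 167191) (.node (.node .leaf (93946, 0, 16, 212043) .leaf) (93947, 0, 14, 91493) (.node .leaf (93948, 0, 16, 224161) .leaf))) (93949, 0, 16, 61962) (.node (.node (.node .leaf (93950, 0, 17, 82774) .leaf) (93951, 0, 15, 203384) (.node .leaf (93960, 0, 17, 53445) .leaf)) (93961, 0, 15, 166379) (.node (.node .leaf (93962, 0, 17, 211127) .leaf) (93963, 0, 17, 118425) (.node .leaf (93964, 0, 18, 176088) .leaf))))) (93965, 0, 19, 63222) (.node (.node (.node (.node (.node .leaf (93966, 0, 17, 83882) .leaf) (93967, 0, 14, 204420) (.node .leaf (93976, 0, 16, 132751) .leaf)) (93977, 0, 15, 190185) (.node (.node .leaf (93978, 0, 16, 218794) .leaf) (93979, 0, 14, 243404) (.node .leaf (93980, 0, 14, 147372) .leaf))) (93981, 0, 16, 188362) (.node (.node (.node .leaf (93982, 0, 13, 225161) .leaf) (93983, 0, 17, 233455) (.node .leaf (93992, 0, 16, 110031) .leaf)) (93993, 0, 16, 259297) (.node (.node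 .leaf (93994, 0, 18, 148925) .leaf) (93995, 0, 18, 181612) (.node .leaf (93996, 0, 15, 216076) .leaf)))) (93997, 0, 17, 101372) (.node (.node (.node (.node .leaf (93998, 0, 13, 15008) .leaf) (93999, 0, 17, 195663) (.node .leaf (94008, 0, 18, 68986) .leaf)) (94009, 0, 16, 126236) (.node (.node .leaf (94010, 0, 15, 23903) .leaf) (94011, 0, 16, 158309) (.node .leaf (94012, 0, 18, 107556) .leaf))) (94013, 0, 15, 261386) (.node (.node (.node .leaf (94014, 0, 17, 150614) .leaf) (94015, 0, 16, 33818) (.node .leaf (94016, 0, 15, 78276) .leaf)) (94017, 0, 13, 146429) (.node (.node .leaf (94018, 0, 15, 232097) .leaf) (94019, 0, 17, 33159) .leaf)))))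

/-- part of the orbit tree -/
def itp2_435 : Tree := (.node itp2_431 (93642, 0, 17, 65283) itp2_432)

/-- part of the orbit tree -/
def itp2_436 : Tree := (.node itp2_433 (93901, 0, 13, 260598) itp2_434)

/-- part of the orbit tree -/
def itp2_437 : Tree := (.node itp2_429 (93259, 0, 11, 76315) itp2_430)

/-- part of the orbit tree -/
def itp2_438 : Tree := (.node itp2_435 (93773, 0, 18, 28525) itp2_436)

/-- part of the orbit tree -/
def itp2_439 : Tree := (.node itp2_423 (92493, 0, 11, 239268) itp2_424)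

/-- part of the orbit tree -/
def itp2_440 : Tree := (.node itp2_437 (93514, 0, 15, 222481) itp2_438)

/-- part of the orbit tree -/
def itp2_441 : Tree := (.node itp2_409 (90957, 0, 19, 43437) itp2_410)

/-- part of the orbit tree -/
def itp2_442 : Tree := (.node itp2_439 (93001, 0, 15, 122005) itp2_440)

/-- part of the orbit tree -/
def itp2_443 : Tree := (.node (.node (.node (.node (.node (.node .leaf (94021, 0, 17, 125057) .leaf) (94022, 0, 16, 128444) (.node .leaf (94023, 0, 16, 47268) .leaf)) (94032, 0, 13, 215441) (.node (.node .leaf (94033, 0, 13, 240119) .leaf) (94034, 0, 16, 130135) (.node .leaf (94035, 0, 18, 238969) .leaf))) (94036, 0, 14, 225458) (.node (.node (.node .leaf (94037, 0, 15, 143894) .leaf) (94038, 0, 16, 230218) (.node .leaf (94039, 0, 16, 180465) .leaf)) (94048, 0, 15, 73689) (.node (.node .leaf (94049, 0, 17, 214775) .leaf) (94050, 0, 17, 223764) (.node .leaf (94051, 0, 14, 44677) .leaf)))) (94052, 0, 14, 131858) (.node (.node (.node (.node .leaf (94053, 0, 6, 189300)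 .leaf) (94054, 0, 16, 217911) (.node .leaf (94055, 0, 14, 184728) .leaf)) (94064, 0, 13, 16996) (.node (.node .leaf (94065, 0, 17, 77825) .leaf) (94066, 0, 14, 70209) (.node .leaf (94067, 0, 14, 127527) .leaf))) (94068, 0, 16, 31559) (.node (.node (.node .leaf (94069, 0, 12, 216860) .leaf) (94070, 0, 11, 196160) (.node .leaf (94071, 0, 13, 117508) .leaf)) (94088, 0, 15, 190928) (.node (.node .leaf (94089, 0, 15, 133558) .leaf) (94090, 0, 17, 244213) (.node .leaf (94091, 0, 17, 219539) .leaf))))) (94092, 0, 16, 184563) (.node (.node (.node (.node (.node .leaf (94093, 0, 16, 143509) .leaf) (94094, 0, 14, 229590) (.node .leaf (94095, 0, 16, 44781) .leaf)) (94104, 0, 16, 71258) (.node (.node .leaf (94105, 0, 17, 216948) .leaf) (94106, 0, 12, 115104) (.node .leaf (94107, 0, 18, 42758) .leaf))) (94108, 0, 18, 223559) (.node (.node (.node .leaf (94109, 0, 13, 18624) .leaf) (94110, 0, 15, 33077) (.node .leaf (94111, 0, 16, 186395) .leaf)) (94120, 0, 17, 138662) (.node (.node .leaf (94121, 0, 15, 17544) .leaf)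 (94122, 0, 9, 45568) (.node .leaf (94123, 0, 18, 240890) .leaf)))) (94124, 0, 16, 121606) (.node (.node (.node (.node .leaf (94125, 0, 14, 80736) .leaf) (94126, 0, 17, 35619) (.node .leaf (94127, 0, 16, 119783) .leaf)) (94136, 0, 16, 236144) (.node (.node .leaf (94137, 0, 17, 143998) .leaf) (94138, 0, 16, 230178) (.node .leaf (94139, 0, 16, 141875) .leaf))) (94140, 0, 17, 136269) (.node (.node (.node .leaf (94141, 0, 8, 19811) .leaf) (94142, 0, 18, 130111) (.node .leaf (94143, 0, 12, 135952) .leaf)) (94144, 0, 15, 250554) (.node (.node .leaf (94145, 0, 16, 101268) .leaf) (94146, 0, 18, 15048) (.node .leaf (94147, 0, 16, 136845) .leaf))))))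

/-- part of the orbit tree -/
def itp2_444 : Tree := (.node (.node (.node (.node (.node (.node .leaf (94149, 0, 13, 229259) .leaf) (94150, 0, 13, 184264) (.node .leaf (94151, 0, 16, 143278) .leaf)) (94160, 0, 12, 107596) (.node (.node .leaf (94161, 0, 15, 261474) .leaf) (94162, 0, 17, 150590) (.node .leaf (94163, 0, 18, 5392) .leaf))) (94164, 0, 16, 252753) (.node (.node (.node .leaf (94165, 0, 13, 67550) .leaf) (94166, 0, 14, 47005) (.node .leaf (94167, 0, 18, 22523) .leaf)) (94176, 0, 16, 176048) (.node (.node .leaf (94177, 0, 16, 63134) .leaf) (94178, 0, 14, 83906) (.node .leaf (94179, 0, 15, 204524) .leaf)))) (94180, 0, 16, 37912) (.node (.node (.node (.node .leaf (94181, 0, 16, 166275) .leaf) (94182, 0, 16, 211167) (.node .leaf (94183, 0, 16, 74843) .leaf)) (94192, 0, 16, 55622) (.node (.node .leaf (94193, 0, 17, 163944) .leaf) (94194, 0, 15, 230731) (.node .leaf (94195, 0, 16, 222509) .leaf))) (94196, 0, 16, 173659) (.node (.node (.node .leaf (94197, 0, 16, 134187) .leaf) (94198, 0, 13, 85545)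 (.node .leaf (94199, 0, 17, 220174) .leaf)) (94208, 0, 14, 238816) (.node (.node .leaf (94211, 0, 15, 136355) .leaf) (94213, 0, 13, 228773) (.node .leaf (94214, 0, 14, 251207) .leaf))))) (94216, 0, 14, 174260) (.node (.node (.node (.node (.node .leaf (94219, 0, 17, 12603) .leaf) (94221, 0, 17, 88125) (.node .leaf (94222, 0, 18, 212955) .leaf)) (94224, 0, 11, 13534) (.node (.node .leaf (94227, 0, 15, 27894) .leaf) (94229, 0, 14, 67056) (.node .leaf (94230, 0, 13, 107441) .leaf))) (94232, 0, 14, 260397) (.node (.node (.node .leaf (94235, 0, 14, 93982) .leaf) (94237, 0, 17, 204904) (.node .leaf (94238, 0, 18, 84269) .leaf)) (94240, 0, 16, 212770) (.node (.node .leaf (94243, 0, 15, 73558) .leaf) (94245, 0, 17, 203025) (.node .leaf (94246, 0, 18, 116243) .leaf)))) (94248, 0, 15, 251326) (.node (.node (.node (.node .leaf (94251, 0, 13, 156898) .leaf) (94253, 0, 18, 152520) (.node .leaf (94254, 0, 17, 254859) .leaf)) (94256, 0, 16, 84436) (.node (.node .leaf (94259, 0, 15, 63624) .leaf) (94261, 0, 16, 134661)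 (.node .leaf (94262, 0, 13, 245318) .leaf))) (94264, 0, 17, 107336) (.node (.node (.node .leaf (94267, 0, 16, 82587) .leaf) (94269, 0, 18, 11165) (.node .leaf (94270, 0, 12, 105438) .leaf)) (94273, 0, 16, 17292) (.node (.node .leaf (94274, 0, 14, 106051) .leaf) (94276, 0, 17, 26047) (.node .leaf (94279, 0, 14, 120035) .leaf))))))

/-- part of the orbit tree -/
def itp2_445 : Tree := (.node (.node (.node (.node (.node (.node .leaf (94282, 0, 17, 71756) .leaf) (94284, 0, 18, 36643) (.node .leaf (94287, 0, 16, 81535) .leaf)) (94289, 0, 14, 153173) (.node (.node .leaf (94290, 0, 16, 230438) .leaf) (94292, 0, 18, 136009) (.node .leaf (94295, 0, 17, 238101) .leaf))) (94297, 0, 15, 29645) (.node (.node (.node .leaf (94298, 0, 17, 224954) .leaf) (94300, 0, 18, 195029) (.node .leaf (94303, 0, 17, 215177) .leaf)) (94305, 0, 14, 206325) (.node (.node .leaf (94306, 0, 16, 36826) .leaf) (94308, 0, 19, 261296) (.node .leaf (94311, 0, 15, 43497) .leaf)))) (94313, 0, 15, 65645) (.node (.node (.node (.node .leaf (94314,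 0, 16, 45102) .leaf) (94316, 0, 17, 121128) (.node .leaf (94319, 0, 17, 17269) .leaf)) (94321, 0, 17, 215152) (.node (.node .leaf (94322, 0, 17, 194860) .leaf) (94324, 0, 15, 99557) (.node .leaf (94327, 0, 17, 13478) .leaf))) (94329, 0, 14, 238316) (.node (.node (.node .leaf (94330, 0, 17, 182395) .leaf) (94332, 0, 13, 230623) (.node .leaf (94335, 0, 18, 144771) .leaf)) (94336, 0, 17, 78826) (.node (.node .leaf (94339, 0, 16, 17181) .leaf) (94341, 0, 15, 119922) (.node .leaf (94342, 0, 17, 25902) .leaf))))) (94344, 0, 18, 202354) (.node (.node (.node (.node (.node .leaf (94347, 0, 15, 43393) .leaf) (94349, 0, 15, 249655) (.node .leaf (94350, 0, 15, 163700) .leaf)) (94352, 0, 12, 230583) (.node (.node .leaf (94355, 0, 18, 195580) .leaf) (94357, 0, 16, 238212) (.node .leaf (94358, 0, 17, 136152) .leaf))) (94360, 0, 19, 93735) (.node (.node (.node .leaf (94363, 0, 14, 56932) .leaf) (94365, 0, 15, 215064) (.node .leaf (94366, 0, 12, 194884) .leaf)) (94368, 0, 17, 36683) (.node (.node .leaf (94371, 0,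 14, 231516) .leaf) (94373, 0, 11, 43384) (.node .leaf (94374, 0, 15, 71716) .leaf)))) (94376, 0, 16, 7559) (.node (.node (.node (.node .leaf (94379, 0, 16, 110020) .leaf) (94381, 0, 18, 17380) (.node .leaf (94382, 0, 16, 127672) .leaf)) (94384, 0, 14, 195005) (.node (.node .leaf (94387, 0, 16, 215265) .leaf) (94389, 0, 15, 188302) (.node .leaf (94390, 0, 18, 76108) .leaf))) (94392, 0, 17, 157138) (.node (.node (.node .leaf (94395, 0, 15, 238205) .leaf) (94397, 0, 18, 144658) (.node .leaf (94398, 0, 14, 230478) .leaf)) (94401, 0, 16, 259045) (.node (.node .leaf (94402, 0, 15, 198985) .leaf) (94404, 0, 16, 251350) (.node .leaf (94407, 0, 17, 156810) .leaf))))))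

/-- part of the orbit tree -/
def itp2_446 : Tree := (.node (.node (.node (.node (.node (.node .leaf (94410, 0, 18, 77009) .leaf) (94412, 0, 17, 17879) (.node .leaf (94415, 0, 12, 167446) .leaf)) (94417, 0, 17, 99603) (.node (.node .leaf (94418, 0, 17, 13391) .leaf) (94420, 0, 19, 107296) (.node .leaf (94423, 0, 18, 4732) .leaf))) (94425, 0, 16, 189639) (.node (.node (.node .leaf (94426, 0, 16, 57043) .leaf) (94428, 0, 14, 146818) (.node .leaf (94431, 0, 15, 63712) .leaf)) (94433, 0, 16, 167663) (.node (.node .leaf (94434, 0, 14, 212915) .leaf) (94436, 0, 18, 93114) (.node .leaf (94439, 0, 16, 56313) .leaf)))) (94441, 0, 13, 235367) (.node (.node (.node (.node .leaf (94442, 0, 17, 141092) .leaf) (94444, 0, 14, 148032) (.node .leaf (94447, 0, 12, 196193) .leaf)) (94449, 0, 16, 248490) (.node (.node .leaf (94450, 0, 17, 84293) .leaf) (94452, 0, 16, 201711) (.node .leaf (94455, 0, 12, 94070) .leaf))) (94457, 0, 17, 4741) (.node (.node (.node .leaf (94458, 0, 16, 24433) .leaf) (94460, 0, 17, 79479) (.node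 .leaf (94463, 0, 17, 99818) .leaf)) (94465, 0, 16, 64741) (.node (.node .leaf (94466, 0, 16, 87729) .leaf) (94468, 0, 14, 56022) (.node .leaf (94471, 0, 16, 93066) .leaf))))) (94473, 0, 18, 181098) (.node (.node (.node (.node (.node .leaf (94474, 0, 18, 108325) .leaf) (94476, 0, 16, 12362) (.node .leaf (94479, 0, 15, 98582) .leaf)) (94481, 0, 16, 166419) (.node (.node .leaf (94482, 0, 16, 211791) .leaf) (94484, 0, 16, 175136) (.node .leaf (94487, 0, 11, 204156) .leaf))) (94489, 0, 19, 47935) (.node (.node (.node .leaf (94490, 0, 18, 68476) .leaf) (94492, 0, 19, 149180) (.node .leaf (94495, 0, 16, 119353) .leaf)) (94497, 0, 11, 98799) (.node (.node .leaf (94498, 0, 17, 12467) .leaf) (94500, 0, 16, 209986) (.node .leaf (94503, 0, 17, 5760) .leaf)))) (94505, 0, 18, 116895) (.node (.node (.node (.node .leaf (94506, 0, 16, 30940) .leaf) (94508, 0, 19, 70106) (.node .leaf (94511, 0, 17, 41369) .leaf)) (94513, 0, 16, 259865) (.node (.node .leaf (94514, 0, 17, 149061) .leaf) (94516, 0, 16, 250154) (.node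 .leaf (94519, 0, 17, 155766) .leaf))) (94521, 0, 14, 204165) (.node (.node (.node .leaf (94522, 0, 14, 131209) .leaf) (94524, 0, 17, 223631) (.node .leaf (94527, 0, 17, 166634) .leaf)) (94528, 0, 14, 224274) (.node (.node .leaf (94531, 0, 18, 216093) .leaf) (94533, 0, 18, 243031) (.node .leaf (94534, 0, 17, 223790) .leaf))))))

/-- part of the orbit tree -/
def itp2_447 : Tree := (.node itp2_443 (94148, 0, 15, 109991) itp2_444)

/-- part of the orbit tree -/
def itp2_448 : Tree := (.node itp2_445 (94409, 0, 17, 203129) itp2_446)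

/-- part of the orbit tree -/
def itp2_449 : Tree := (.node (.node (.node (.node (.node (.node .leaf (94539, 0, 16, 239233) .leaf) (94541, 0, 13, 143854) (.node .leaf (94542, 0, 14, 229554) .leaf)) (94544, 0, 16, 35767) (.node (.node .leaf (94547, 0, 17, 41988) .leaf) (94549, 0, 12, 44420) (.node .leaf (94550, 0, 16, 32065) .leaf))) (94552, 0, 14, 209375) (.node (.node (.node .leaf (94555, 0, 10, 118903) .leaf) (94557, 0, 16, 18200) (.node .leaf (94558, 0, 14, 153817) .leaf)) (94560, 0, 18, 229451) (.node (.node .leaf (94563, 0, 17, 120740) .leaf) (94565, 0, 17, 239224) (.node .leaf (94566, 0, 14, 69345) .leaf)))) (94568, 0, 18, 223959) (.node (.node (.node (.node .leaf (94571, 0, 14, 258620) .leaf) (94573, 0, 13, 216292) (.node .leaf (94574, 0, 16, 207737) .leaf)) (94576, 0, 17, 139186) (.node (.node .leaf (94579, 0, 15, 241649) .leaf) (94581, 0, 18, 118926) (.node .leaf (94582, 0, 18, 25042) .leaf))) (94584, 0, 18, 14890) (.node (.node (.node .leaf (94587, 0, 14, 100969) .leaf) (94589, 0, 16, 80402)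 (.node .leaf (94590, 0, 13, 35662) .leaf)) (94593, 0, 14, 160248) (.node (.node .leaf (94594, 0, 16, 196048) .leaf) (94596, 0, 18, 174269) (.node .leaf (94599, 0, 15, 187363) .leaf))))) (94601, 0, 16, 21600) (.node (.node (.node (.node (.node .leaf (94602, 0, 16, 137036) .leaf) (94604, 0, 15, 229411) (.node .leaf (94607, 0, 13, 143743) .leaf)) (94609, 0, 15, 80506) (.node (.node .leaf (94610, 0, 17, 35622) .leaf) (94612, 0, 12, 53480) (.node .leaf (94615, 0, 17, 90283) .leaf))) (94617, 0, 15, 119014) (.node (.node (.node .leaf (94618, 0, 18, 25018) .leaf) (94620, 0, 16, 193904) (.node .leaf (94623, 0, 15, 18313) .leaf)) (94625, 0, 15, 143750) (.node (.node .leaf (94626, 0, 15, 229594) .leaf) (94628, 0, 15, 137141) (.node .leaf (94631, 0, 18, 239337) .leaf)))) (94633, 0, 15, 221077) (.node (.node (.node (.node .leaf (94634, 0, 17, 192470) .leaf) (94636, 0, 14, 195881) (.node .leaf (94639, 0, 16, 145043) .leaf)) (94641, 0, 16, 18288) (.node (.node .leaf (94642, 0, 14, 128556) .leaf) (94644, 0, 18, 252701)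 (.node .leaf (94647, 0, 14, 158558) .leaf))) (94649, 0, 17, 75712) (.node (.node (.node .leaf (94650, 0, 19, 38787) .leaf) (94652, 0, 11, 35807) (.node .leaf (94655, 0, 16, 20166) .leaf)) (94656, 0, 16, 129816) (.node (.node .leaf (94659, 0, 15, 64628) .leaf) (94661, 0, 16, 92955) (.node .leaf (94662, 0, 18, 55879) .leaf))))))

/-- part of the orbit tree -/
def itp2_450 : Tree := (.node (.node (.node (.node (.node (.node .leaf (94667, 0, 18, 159427) .leaf) (94669, 0, 17, 198597) (.node .leaf (94670, 0, 12, 178054) .leaf)) (94672, 0, 16, 211934) (.node (.node .leaf (94675, 0, 12, 166530) .leaf) (94677, 0, 16, 219656) (.node .leaf (94678, 0, 16, 191051) .leaf))) (94680, 0, 13, 108245) (.node (.node (.node .leaf (94683, 0, 18, 5782) .leaf) (94685, 0, 10, 259953) (.node .leaf (94686, 0, 16, 53203) .leaf)) (94688, 0, 13, 192749) (.node (.node .leaf (94691, 0, 18, 213166) .leaf) (94693, 0, 11, 141736) (.node .leaf (94694, 0, 18, 236011) .leaf)))) (94696, 0, 16, 55998) (.node (.node (.node (.node .leaf (94699,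 0, 17, 93154) .leaf) (94701, 0, 15, 64653) (.node .leaf (94702, 0, 16, 85457) .leaf)) (94704, 0, 14, 149204) (.node (.node .leaf (94707, 0, 13, 259976) .leaf) (94709, 0, 17, 20989) (.node .leaf (94710, 0, 15, 250299) .leaf))) (94712, 0, 15, 175392) (.node (.node (.node .leaf (94715, 0, 16, 204131) .leaf) (94717, 0, 18, 166523) (.node .leaf (94718, 0, 17, 246822) .leaf)) (94722, 0, 16, 110454) (.node (.node .leaf (94723, 0, 12, 259672) .leaf) (94724, 0, 16, 242099) (.node .leaf (94725, 0, 18, 155959) .leaf))))) (94730, 0, 13, 64813) (.node (.node (.node (.node (.node .leaf (94731, 0, 18, 7499) .leaf) (94732, 0, 16, 53893) (.node .leaf (94733, 0, 17, 95309) .leaf)) (94738, 0, 13, 41184) (.node (.node .leaf (94739, 0, 16, 16518) .leaf) (94740, 0, 16, 151279) (.node .leaf (94741, 0, 18, 6081) .leaf))) (94746, 0, 17, 165240) (.node (.node (.node .leaf (94747, 0, 15, 92722) .leaf) (94748, 0, 15, 173171) (.node .leaf (94749, 0, 16, 199704) .leaf)) (94754, 0, 12, 119616) (.node (.node .leaf (94755, 0, 14,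 78630) .leaf) (94756, 0, 17, 47686) (.node .leaf (94757, 0, 17, 203837) .leaf)))) (94762, 0, 15, 259800) (.node (.node (.node (.node .leaf (94763, 0, 13, 202430) .leaf) (94764, 0, 13, 171998) (.node .leaf (94765, 0, 15, 163768) .leaf)) (94770, 0, 17, 240405) (.node (.node .leaf (94771, 0, 16, 64932) .leaf) (94772, 0, 16, 209893) (.node .leaf (94773, 0, 17, 139893) .leaf))) (94778, 0, 18, 151062) (.node (.node (.node .leaf (94779, 0, 15, 5944) .leaf) (94780, 0, 13, 252281) (.node .leaf (94781, 0, 15, 98391) .leaf)) (94784, 0, 13, 57878) (.node (.node .leaf (94785, 0, 17, 624) .leaf) (94790, 0, 16, 101136) (.node .leaf (94791, 0, 18, 119247) .leaf))))))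

/-- part of the orbit tree -/
def itp2_451 : Tree := (.node (.node (.node (.node (.node (.node .leaf (94793, 0, 17, 141288) .leaf) (94798, 0, 16, 221821) (.node .leaf (94799, 0, 16, 216814) .leaf)) (94800, 0, 13, 27000) (.node (.node .leaf (94801, 0, 17, 143446) .leaf) (94806, 0, 16, 130583) (.node .leaf (94807, 0, 15, 239417) .leaf))) (94808, 0, 10, 49115) (.node (.node (.node .leaf (94809, 0, 17, 187082) .leaf) (94814, 0, 16, 120541) (.node .leaf (94815, 0, 17, 216485) .leaf)) (94816, 0, 15, 256483) (.node (.node .leaf (94817, 0, 16, 199045) .leaf) (94822, 0, 15, 164069) (.node .leaf (94823, 0, 15, 44229) .leaf)))) (94824, 0, 17, 231448) (.node (.node (.node (.node .leaf (94825, 0, 17, 119094) .leaf) (94830, 0, 13, 42365) (.node .leaf (94831, 0, 15, 18009) .leaf)) (94832, 0, 16, 70770) (.node (.node .leaf (94833, 0, 17, 94672) .leaf) (94838, 0, 12, 63664) (.node .leaf (94839, 0, 16, 6358) .leaf))) (94840, 0, 17, 130798) (.node (.node (.node .leaf (94841, 0, 18, 239552) .leaf) (94846, 0, 15, 187688)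 (.node .leaf (94847, 0, 16, 146766) .leaf)) (94850, 0, 11, 139039) (.node (.node .leaf (94851, 0, 16, 45017) .leaf) (94852, 0, 12, 231536) (.node .leaf (94853, 0, 12, 119134) .leaf))))) (94858, 0, 13, 158247) (.node (.node (.node (.node (.node .leaf (94859, 0, 17, 166465) .leaf) (94860, 0, 18, 221932) (.node .leaf (94861, 0, 16, 254791) .leaf)) (94866, 0, 17, 27113) (.node (.node .leaf (94867, 0, 15, 186252) .leaf) (94868, 0, 14, 130694) (.node .leaf (94869, 0, 14, 239528) .leaf))) (94874, 0, 15, 33653) (.node (.node (.node .leaf (94875, 0, 18, 186971) .leaf) (94876, 0, 16, 97140) (.node .leaf (94877, 0, 15, 105234) .leaf)) (94882, 0, 14, 221717) (.node (.node .leaf (94883, 0, 16, 238636) .leaf) (94884, 0, 18, 142668) (.node .leaf (94885, 0, 17, 183594) .leaf)))) (94890, 0, 14, 231561) (.node (.node (.node (.node .leaf (94891, 0, 18, 98740) .leaf) (94892, 0, 17, 2260) (.node .leaf (94893, 0, 17, 18120) .leaf)) (94898, 0, 18, 80927) (.node (.node .leaf (94899, 0, 11, 121977) .leaf) (94900, 0, 17, 33676)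 (.node .leaf (94901, 0, 18, 46463) .leaf))) (94906, 0, 14, 203143) (.node (.node (.node .leaf (94907, 0, 15, 260577) .leaf) (94908, 0, 16, 159873) (.node .leaf (94909, 0, 16, 143422) .leaf)) (94912, 0, 15, 110567) (.node (.node .leaf (94913, 0, 17, 259785) .leaf) (94918, 0, 16, 14472) (.node .leaf (94919, 0, 16, 156070) .leaf))))))

/-- part of the orbit tree -/
def itp2_452 : Tree := (.node (.node (.node (.node (.node (.node .leaf (94921, 0, 18, 45282) .leaf) (94926, 0, 16, 53780) (.node .leaf (94927, 0, 13, 121316) .leaf)) (94928, 0, 17, 3401) (.node (.node .leaf (94929, 0, 17, 60719) .leaf) (94934, 0, 14, 151166) (.node .leaf (94935, 0, 15, 99369) .leaf))) (94936, 0, 17, 141521) (.node (.node (.node .leaf (94937, 0, 17, 92835) .leaf) (94942, 0, 15, 173282) (.node .leaf (94943, 0, 15, 238001) .leaf)) (94944, 0, 18, 53997) (.node (.node .leaf (94945, 0, 14, 166851) .leaf) (94950, 0, 16, 83330) (.node .leaf (94951, 0, 16, 203948) .leaf)))) (94952, 0, 14, 220017) (.node (.node (.node (.node .leaf (94953,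 0, 15, 244503) .leaf) (94958, 0, 10, 110366) (.node .leaf (94959, 0, 16, 259632) .leaf)) (94960, 0, 17, 173083) (.node (.node .leaf (94961, 0, 17, 64821) .leaf) (94966, 0, 14, 209780) (.node .leaf (94967, 0, 15, 167900) .leaf))) (94968, 0, 18, 74532) (.node (.node (.node .leaf (94969, 0, 14, 6057) .leaf) (94974, 0, 17, 252392) (.node .leaf (94975, 0, 16, 43588) .leaf)) (94976, 0, 16, 172263) (.node (.node .leaf (94977, 0, 18, 51842) .leaf) (94982, 0, 16, 210824) (.node .leaf (94983, 0, 12, 93862) .leaf))))) (94984, 0, 15, 135036) (.node (.node (.node (.node (.node .leaf (94985, 0, 12, 192282) .leaf) (94990, 0, 17, 222842) (.node .leaf (94991, 0, 16, 230940) .leaf)) (94992, 0, 17, 54801) (.node (.node .leaf (94993, 0, 17, 167743) .leaf) (94998, 0, 16, 82302) (.node .leaf (94999, 0, 14, 252881) .leaf))) (95000, 0, 17, 15501) (.node (.node (.node .leaf (95001, 0, 15, 157091) .leaf) (95006, 0, 18, 73263) (.node .leaf (95007, 0, 14, 130633) .leaf)) (95008, 0, 17, 205073) (.node (.node .leaf (95009, 0,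 17, 99523) .leaf) (95014, 0, 19, 150146) (.node .leaf (95015, 0, 15, 174193) .leaf)))) (95016, 0, 15, 210801) (.node (.node (.node (.node .leaf (95017, 0, 16, 93791) .leaf) (95022, 0, 18, 28047) (.node .leaf (95023, 0, 14, 36329) .leaf)) (95024, 0, 17, 109339) (.node (.node .leaf (95025, 0, 14, 112930) .leaf) (95030, 0, 13, 15476) (.node .leaf (95031, 0, 15, 157018) .leaf))) (95032, 0, 17, 82311) (.node (.node (.node .leaf (95033, 0, 16, 236730) .leaf) (95038, 0, 7, 136666) (.node .leaf (95039, 0, 16, 167878) .leaf)) (95042, 0, 11, 135239) (.node (.node .leaf (95043, 0, 12, 192545) .leaf) (95044, 0, 16, 34672) .leaf)))))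

/-- part of the orbit tree -/
def itp2_453 : Tree := (.node itp2_449 (94664, 0, 17, 253568) itp2_450)

/-- part of the orbit tree -/
def itp2_454 : Tree := (.node itp2_451 (94920, 0, 12, 83323) itp2_452)

/-- part of the orbit tree -/
def itp2_455 : Tree := (.node itp2_447 (94281, 0, 13, 134040) itp2_448)

/-- part of the orbit tree -/
def itp2_456 : Tree := (.node itp2_453 (94792, 0, 17, 193810) itp2_454)

/-- part of the orbit tree -/
def itp2_457 : Tree := (.node (.node (.node (.node (.node (.node .leaf (95050, 0, 17, 13791) .leaf) (95051, 0, 14, 54713) (.node .leaf (95052, 0, 16, 28140) .leaf)) (95053, 0, 17, 144578) (.node (.node .leaf (95058, 0, 16, 222953) .leaf) (95059, 0, 17, 34932) (.node .leaf (95060, 0, 16, 65812) .leaf))) (95061, 0, 16, 43176) (.node (.node (.node .leaf (95066, 0, 15, 232565) .leaf) (95067, 0, 18, 120155) (.node .leaf (95068, 0, 13, 138010) .leaf)) (95069, 0, 17, 16948) (.node (.node .leaf (95074, 0, 16, 72626) .leaf) (95075, 0, 17, 144443) (.node .leaf (95076, 0, 13,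 29364) .leaf)))) (95077, 0, 14, 238420) (.node (.node (.node (.node .leaf (95082, 0, 17, 34697) .leaf) (95083, 0, 17, 253516) (.node .leaf (95084, 0, 17, 153388) .leaf)) (95085, 0, 15, 177994) (.node (.node .leaf (95090, 0, 17, 222183) .leaf) (95091, 0, 11, 230273) (.node .leaf (95092, 0, 18, 232588) .leaf))) (95093, 0, 15, 191111) (.node (.node (.node .leaf (95098, 0, 9, 192895) .leaf) (95099, 0, 18, 43089) (.node .leaf (95100, 0, 17, 12153) .leaf)) (95101, 0, 14, 53023) (.node (.node .leaf (95104, 0, 14, 179694) .leaf) (95105, 0, 8, 155016) (.node .leaf (95110, 0, 18, 34785) .leaf))))) (95111, 0, 14, 210062) (.node (.node (.node (.node (.node .leaf (95112, 0, 15, 39030) .leaf) (95113, 0, 13, 238396) (.node .leaf (95118, 0, 16, 28029) .leaf)) (95119, 0, 12, 69910) (.node (.node .leaf (95120, 0, 17, 222840) .leaf) (95121, 0, 13, 81750) (.node .leaf (95126, 0, 17, 192791) .leaf))) (95127, 0, 15, 43065) (.node (.node (.node .leaf (95128, 0, 16, 232676) .leaf) (95129, 0, 15, 131141) (.node .leaf (95134,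 0, 15, 231717) .leaf)) (95135, 0, 18, 17061) (.node (.node .leaf (95136, 0, 12, 112155) .leaf) (95137, 0, 10, 144554) (.node .leaf (95142, 0, 17, 57117) .leaf)))) (95143, 0, 15, 238533) (.node (.node (.node (.node .leaf (95144, 0, 16, 34584) .leaf) (95145, 0, 17, 187958) (.node .leaf (95150, 0, 14, 69751) .leaf)) (95151, 0, 17, 137955) (.node (.node .leaf (95152, 0, 17, 249422) .leaf) (95153, 0, 13, 16988) (.node .leaf (95158, 0, 11, 173896) .leaf))) (95159, 0, 17, 120115) (.node (.node (.node .leaf (95160, 0, 14, 125910) .leaf) (95161, 0, 15, 43200) (.node .leaf (95166, 0, 16, 222849) .leaf)) (95167, 0, 14, 81839) (.node (.node .leaf (95170, 0, 18, 172150) .leaf) (95171, 0, 17, 26411) (.node .leaf (95172, 0, 16, 126539) .leaf))))))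

/-- part of the orbit tree -/
def itp2_458 : Tree := (.node (.node (.node (.node (.node (.node .leaf (95178, 0, 16, 150250) .leaf) (95179, 0, 16, 5060) (.node .leaf (95180, 0, 17, 253317) .leaf)) (95181, 0, 17, 99499) (.node (.node .leaf (95186, 0, 10, 54912) .leaf) (95187, 0, 14, 167854) (.node .leaf (95188, 0, 17, 235038) .leaf))) (95189, 0, 16, 226936) (.node (.node (.node .leaf (95194, 0, 16, 55936) .leaf) (95195, 0, 15, 156978) (.node .leaf (95196, 0, 16, 111494) .leaf)) (95197, 0, 14, 87008) (.node (.node .leaf (95202, 0, 16, 232632) .leaf) (95203, 0, 13, 99410) (.node .leaf (95204, 0, 15, 189886) .leaf)))) (95205, 0, 14, 4925) (.node (.node (.node (.node .leaf (95210, 0, 11, 210912) .leaf) (95211, 0, 16, 84294) (.node .leaf (95212, 0, 17, 172175) .leaf)) (95213, 0, 17, 63905) (.node (.node .leaf (95218, 0, 17, 109450) .leaf) (95219, 0, 11, 258724) (.node .leaf (95220, 0, 18, 15589) .leaf))) (95221, 0, 17, 32141) (.node (.node (.node .leaf (95226, 0, 17, 250229) .leaf) (95227, 0, 15, 209171)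 (.node .leaf (95228, 0, 17, 178291) .leaf)) (95229, 0, 14, 153621) (.node (.node .leaf (95233, 0, 17, 202482) .leaf) (95235, 0, 16, 200203) (.node .leaf (95236, 0, 13, 165739) .leaf))))) (95238, 0, 13, 251726) (.node (.node (.node (.node (.node .leaf (95241, 0, 17, 261230) .leaf) (95243, 0, 17, 76691) (.node .leaf (95244, 0, 17, 41715) .leaf)) (95246, 0, 16, 12847) (.node (.node .leaf (95249, 0, 15, 90116) .leaf) (95251, 0, 17, 95838) (.node .leaf (95252, 0, 18, 83511) .leaf))) (95254, 0, 17, 110363) (.node (.node (.node .leaf (95257, 0, 13, 101016) .leaf) (95259, 0, 17, 218054) (.node .leaf (95260, 0, 12, 187046) .leaf)) (95262, 0, 16, 232067) (.node (.node .leaf (95265, 0, 16, 87515) .leaf) (95267, 0, 14, 1534) (.node .leaf (95268, 0, 15, 101534) .leaf)))) (95270, 0, 13, 56507) (.node (.node (.node (.node .leaf (95273, 0, 16, 164196) .leaf) (95275, 0, 17, 139366) (.node .leaf (95276, 0, 16, 239878) .leaf)) (95278, 0, 18, 194851) (.node (.node .leaf (95281, 0, 16, 7438) .leaf) (95283, 0, 17, 259452)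 (.node .leaf (95284, 0, 17, 259275) .leaf))) (95286, 0, 17, 173294) (.node (.node (.node .leaf (95289, 0, 16, 63378) .leaf) (95291, 0, 17, 204768) (.node .leaf (95292, 0, 13, 119123) .leaf)) (95294, 0, 16, 33142) (.node (.node .leaf (95296, 0, 17, 71510) .leaf) (95298, 0, 19, 196388) (.node .leaf (95301, 0, 13, 69003) .leaf))))))

/-- part of the orbit tree -/
def itp2_459 : Tree := (.node (.node (.node (.node (.node (.node .leaf (95304, 0, 14, 130506) .leaf) (95306, 0, 13, 136632) (.node .leaf (95309, 0, 16, 206867) .leaf)) (95311, 0, 14, 161846) (.node (.node .leaf (95312, 0, 10, 221600) .leaf) (95314, 0, 16, 35282) (.node .leaf (95317, 0, 17, 226782) .leaf))) (95319, 0, 18, 140795) (.node (.node (.node .leaf (95320, 0, 17, 100611) .leaf) (95322, 0, 13, 55590) (.node .leaf (95325, 0, 18, 240911) .leaf)) (95327, 0, 14, 99) (.node (.node .leaf (95328, 0, 16, 188219) .leaf) (95330, 0, 16, 233246) (.node .leaf (95333, 0, 15, 19567) .leaf)))) (95335, 0, 11, 238621) (.node (.node (.node (.node .leaf (95336,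 0, 17, 32960) .leaf) (95338, 0, 17, 109190) (.node .leaf (95341, 0, 16, 42739) .leaf)) (95343, 0, 17, 216705) (.node (.node .leaf (95344, 0, 16, 42862) .leaf) (95346, 0, 16, 128216) (.node .leaf (95349, 0, 16, 32299) .leaf))) (95351, 0, 16, 77326) (.node (.node (.node .leaf (95352, 0, 17, 164598) .leaf) (95354, 0, 16, 73284) (.node .leaf (95357, 0, 11, 154547) .leaf)) (95359, 0, 16, 79991) (.node (.node .leaf (95361, 0, 18, 51492) .leaf) (95363, 0, 16, 216809) (.node .leaf (95364, 0, 17, 4193) .leaf))))) (95366, 0, 17, 223450) (.node (.node (.node (.node (.node .leaf (95369, 0, 18, 19463) .leaf) (95371, 0, 15, 244889) (.node .leaf (95372, 0, 18, 27188) .leaf)) (95374, 0, 17, 222684) (.node (.node .leaf (95377, 0, 17, 184429) .leaf) (95379, 0, 17, 254292) (.node .leaf (95380, 0, 15, 157748) .leaf))) (95382, 0, 19, 210961) (.node (.node (.node .leaf (95385, 0, 16, 146161) .leaf) (95387, 0, 15, 115916) (.node .leaf (95388, 0, 18, 19884) .leaf)) (95390, 0, 18, 128176) (.node (.node .leaf (95393, 0, 15,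 246481) .leaf) (95395, 0, 11, 144355) (.node .leaf (95396, 0, 17, 203668) .leaf)))) (95398, 0, 16, 136656) (.node (.node (.node (.node .leaf (95401, 0, 16, 124745) .leaf) (95403, 0, 14, 46956) (.node .leaf (95404, 0, 16, 81420) .leaf)) (95406, 0, 13, 196428) (.node (.node .leaf (95409, 0, 16, 240999) .leaf) (95411, 0, 14, 17685) (.node .leaf (95412, 0, 15, 91073) .leaf))) (95414, 0, 17, 13284) (.node (.node (.node .leaf (95417, 0, 13, 237340) .leaf) (95419, 0, 13, 44937) (.node .leaf (95420, 0, 16, 221640) .leaf)) (95422, 0, 14, 35258) (.node (.node .leaf (95424, 0, 16, 213956) .leaf) (95426, 0, 17, 136161) (.node .leaf (95429, 0, 18, 164108) .leaf))))))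

/-- part of the orbit tree -/
def itp2_460 : Tree := (.node (.node (.node (.node (.node (.node .leaf (95432, 0, 13, 150947) .leaf) (95434, 0, 9, 107985) (.node .leaf (95437, 0, 17, 158608) .leaf)) (95439, 0, 17, 61244) (.node (.node .leaf (95440, 0, 17, 80785) .leaf) (95442, 0, 15, 27572) (.node .leaf (95445, 0, 16, 123604) .leaf))) (95447, 0, 15, 45809) (.node (.node (.node .leaf (95448, 0, 13, 204297) .leaf) (95450, 0, 17, 250663) (.node .leaf (95453, 0, 13, 247628) .leaf)) (95455, 0, 14, 169833) (.node (.node .leaf (95456, 0, 14, 252469) .leaf) (95458, 0, 18, 71700) (.node .leaf (95461, 0, 18, 261126) .leaf)))) (95463, 0, 15, 115025) (.node (.node (.node (.node .leaf (95464, 0, 14, 159145) .leaf) (95466, 0, 15, 212364) (.node .leaf (95469, 0, 16, 202394) .leaf)) (95471, 0, 18, 65256) (.node (.node .leaf (95472, 0, 16, 143460) .leaf) (95474, 0, 18, 221249) (.node .leaf (95477, 0, 17, 101104) .leaf))) (95479, 0, 17, 243972) (.node (.node (.node .leaf (95480, 0, 16, 83551) .leaf) (95482, 0, 16, 83417)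 (.node .leaf (95485, 0, 18, 90220) .leaf)) (95487, 0, 15, 105628) (.node (.node .leaf (95488, 0, 17, 72764) .leaf) (95490, 0, 17, 147533) (.node .leaf (95493, 0, 15, 101900) .leaf))))) (95495, 0, 17, 38236) (.node (.node (.node (.node (.node .leaf (95496, 0, 17, 211364) .leaf) (95498, 0, 18, 174801) (.node .leaf (95501, 0, 16, 254177) .leaf)) (95503, 0, 14, 167138) (.node (.node .leaf (95504, 0, 16, 222313) .leaf) (95506, 0, 18, 144460) (.node .leaf (95509, 0, 14, 245036) .leaf))) (95511, 0, 17, 191753) (.node (.node (.node .leaf (95512, 0, 17, 210005) .leaf) (95514, 0, 18, 4564) (.node .leaf (95517, 0, 12, 201318) .leaf)) (95519, 0, 18, 51345) (.node (.node .leaf (95520, 0, 18, 137161) .leaf) (95522, 0, 13, 212295) (.node .leaf (95525, 0, 14, 183948) .leaf)))) (95527, 0, 18, 237225) (.node (.node (.node (.node .leaf (95528, 0, 17, 16297) .leaf) (95530, 0, 17, 90740) (.node .leaf (95533, 0, 15, 60180) .leaf)) (95535, 0, 11, 113457) (.node (.node .leaf (95536, 0, 10, 28572) .leaf) (95538, 0, 17, 84913)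 (.node .leaf (95541, 0, 14, 46809) .leaf))) (95543, 0, 10, 124668) (.node (.node (.node .leaf (95544, 0, 14, 149855) .leaf) (95546, 0, 15, 203297) (.node .leaf (95549, 0, 15, 159596) .leaf)) (95551, 0, 16, 100126) (.node (.node .leaf (95553, 0, 17, 240027) .leaf) (95555, 0, 17, 16873) (.node .leaf (95556, 0, 12, 151449) .leaf))))))

/-- part of the orbit tree -/
def itp2_461 : Tree := (.node itp2_457 (95173, 0, 17, 69165) itp2_458)

/-- part of the orbit tree -/
def itp2_462 : Tree := (.node itp2_459 (95431, 0, 15, 92542) itp2_460)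

/-- part of the orbit tree -/
def itp2_463 : Tree := (.node (.node (.node (.node (.node (.node .leaf (95561, 0, 15, 45892) .leaf) (95563, 0, 17, 123745) (.node .leaf (95564, 0, 13, 27137) .leaf)) (95566, 0, 16, 80420) (.node (.node .leaf (95569, 0, 16, 122733) .leaf) (95571, 0, 17, 145183) (.node .leaf (95572, 0, 12, 129374) .leaf))) (95574, 0, 16, 92137) (.node (.node (.node .leaf (95577, 0, 17, 183057) .leaf) (95579, 0, 14, 236340) (.node .leaf (95580, 0, 17, 70594) .leaf)) (95582, 0, 16, 195504) (.node (.node .leaf (95585, 0, 18, 105769) .leaf) (95587, 0, 15, 52492) (.node .leaf (95588, 0, 14, 83052) .leaf)))) (95590, 0, 11, 72400) (.node (.node (.node (.node .leaf (95593, 0, 15, 146957) .leaf) (95595, 0, 16, 190612) (.node .leaf (95596, 0, 17, 221684) .leaf)) (95598, 0, 16, 127052) (.node (.node .leaf (95601, 0, 13, 41575) .leaf) (95603, 0, 18, 177497) (.node .leaf (95604, 0, 16, 212025) .leaf))) (95606, 0, 18, 158748) (.node (.node (.node .leaf (95609, 0, 8, 18683) .leaf) (95611, 0, 14, 237705)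 (.node .leaf (95612, 0, 16, 28360) .leaf)) (95614, 0, 13, 18820) (.node (.node .leaf (95616, 0, 16, 232246) .leaf) (95618, 0, 12, 187155) (.node .leaf (95621, 0, 16, 217715) .leaf))))) (95623, 0, 18, 131670) (.node (.node (.node (.node (.node .leaf (95624, 0, 18, 193226) .leaf) (95626, 0, 16, 65163) (.node .leaf (95629, 0, 18, 96235) .leaf)) (95631, 0, 13, 81035) (.node (.node .leaf (95632, 0, 16, 127843) .leaf) (95634, 0, 18, 41798) (.node .leaf (95637, 0, 17, 18579) .leaf))) (95639, 0, 16, 31235) (.node (.node (.node .leaf (95640, 0, 16, 33852) .leaf) (95642, 0, 13, 165598) (.node .leaf (95645, 0, 12, 41487) .leaf)) (95647, 0, 15, 215677) (.node (.node .leaf (95648, 0, 16, 222556) .leaf) (95650, 0, 15, 119014) (.node .leaf (95653, 0, 13, 22918) .leaf)))) (95655, 0, 14, 43805) (.node (.node (.node (.node .leaf (95656, 0, 16, 173403) .leaf) (95658, 0, 15, 26546) (.node .leaf (95661, 0, 18, 162846) .leaf)) (95663, 0, 17, 207931) (.node (.node .leaf (95664, 0, 15, 70570) .leaf) (95666, 0, 16, 239795)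 (.node .leaf (95669, 0, 17, 139731) .leaf))) (95671, 0, 16, 225782) (.node (.node (.node .leaf (95672, 0, 15, 56590) .leaf) (95674, 0, 16, 135492) (.node .leaf (95677, 0, 17, 122629) .leaf)) (95679, 0, 14, 87150) (.node (.node .leaf (95681, 0, 16, 470) .leaf) (95683, 0, 17, 86515) (.node .leaf (95684, 0, 16, 55443) .leaf))))))

/-- part of the orbit tree -/
def itp2_464 : Tree := (.node (.node (.node (.node (.node (.node .leaf (95689, 0, 15, 140366) .leaf) (95691, 0, 17, 203548) (.node .leaf (95692, 0, 15, 195851) .leaf)) (95694, 0, 17, 212271) (.node (.node .leaf (95697, 0, 15, 162179) .leaf) (95699, 0, 16, 100214) (.node .leaf (95700, 0, 12, 149815) .leaf))) (95702, 0, 16, 106821) (.node (.node (.node .leaf (95705, 0, 18, 165272) .leaf) (95707, 0, 15, 93674) (.node .leaf (95708, 0, 15, 34142) .leaf)) (95710, 0, 18, 84953) (.node (.node .leaf (95713, 0, 17, 199203) .leaf) (95715, 0, 17, 167050) (.node .leaf (95716, 0, 16, 250726) .leaf)))) (95718, 0, 16, 174777) (.node (.node (.node (.node .leaf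 (95721, 0, 15, 77755) .leaf) (95723, 0, 16, 32670) (.node .leaf (95724, 0, 15, 108631) .leaf)) (95726, 0, 17, 147493) (.node (.node .leaf (95729, 0, 13, 94838) .leaf) (95731, 0, 17, 64124) (.node .leaf (95732, 0, 15, 109363) .leaf))) (95734, 0, 13, 56399) (.node (.node (.node .leaf (95737, 0, 15, 219118) .leaf) (95739, 0, 18, 133067) (.node .leaf (95740, 0, 17, 233131) .leaf)) (95742, 0, 15, 14035) (.node (.node .leaf (95744, 0, 14, 84720) .leaf) (95745, 0, 16, 201694) (.node .leaf (95746, 0, 16, 172674) .leaf))))) (95747, 0, 15, 205435) (.node (.node (.node (.node (.node .leaf (95752, 0, 17, 47008) .leaf) (95753, 0, 15, 260418) (.node .leaf (95754, 0, 16, 124805) .leaf)) (95755, 0, 18, 67555) (.node (.node .leaf (95760, 0, 14, 60013) .leaf) (95761, 0, 7, 91432) (.node .leaf (95762, 0, 14, 54388) .leaf))) (95763, 0, 15, 88622) (.node (.node (.node .leaf (95768, 0, 17, 251546) .leaf) (95769, 0, 17, 143251) (.node .leaf (95770, 0, 18, 16104) .leaf)) (95771, 0, 16, 229302) (.node (.node .leaf (95776,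 0, 16, 104909) .leaf) (95777, 0, 17, 96683) (.node .leaf (95778, 0, 15, 51688) .leaf)))) (95779, 0, 14, 100006) (.node (.node (.node (.node .leaf (95784, 0, 10, 244821) .leaf) (95785, 0, 14, 164936) (.node .leaf (95786, 0, 14, 191600) .leaf)) (95787, 0, 16, 134166) (.node (.node .leaf (95792, 0, 16, 147724) .leaf) (95793, 0, 14, 197118) (.node .leaf (95794, 0, 18, 176573) .leaf))) (95795, 0, 14, 152027) (.node (.node (.node .leaf (95800, 0, 15, 174992) .leaf) (95801, 0, 13, 62142) (.node .leaf (95802, 0, 16, 37925) .leaf)) (95803, 0, 16, 29763) (.node (.node .leaf (95812, 0, 14, 115101) .leaf) (95813, 0, 17, 74235) (.node .leaf (95814, 0, 19, 34069) .leaf))))))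

/-- part of the orbit tree -/
def itp2_465 : Tree := (.node (.node (.node (.node (.node (.node .leaf (95820, 0, 17, 231419) .leaf) (95821, 0, 13, 122581) (.node .leaf (95822, 0, 17, 177184) .leaf)) (95823, 0, 14, 152646) (.node (.node .leaf (95828, 0, 14, 72593) .leaf) (95829, 0, 16, 213695) (.node .leaf (95830, 0, 13, 193507) .leaf))) (95831, 0, 15, 43725) (.node (.node (.node .leaf (95836, 0, 16, 105552) .leaf) (95837, 0, 18, 239651) (.node .leaf (95838, 0, 16, 52341) .leaf)) (95839, 0, 18, 16465) (.node (.node .leaf (95844, 0, 18, 182888) .leaf) (95845, 0, 13, 18755) (.node .leaf (95846, 0, 16, 129055) .leaf)))) (95847, 0, 16, 237873) (.node (.node (.node (.node .leaf (95852, 0, 16, 61424) .leaf) (95853, 0, 17, 3990) (.node .leaf (95854, 0, 16, 70275) .leaf)) (95855, 0, 14, 215981) (.node (.node .leaf (95860, 0, 17, 26267) .leaf) (95861, 0, 17, 21083) (.node .leaf (95862, 0, 17, 233193) .leaf))) (95863, 0, 16, 120775) (.node (.node (.node .leaf (95868, 0, 19, 169893) .leaf) (95869, 0, 18, 185641)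 (.node .leaf (95870, 0, 15, 247680) .leaf)) (95871, 0, 18, 81243) (.node (.node .leaf (95872, 0, 16, 1330) .leaf) (95873, 0, 16, 58708) (.node .leaf (95874, 0, 16, 70379) .leaf))))) (95875, 0, 16, 111985) (.node (.node (.node (.node (.node .leaf (95880, 0, 18, 135173) .leaf) (95881, 0, 14, 18731) (.node .leaf (95882, 0, 16, 129143) .leaf)) (95883, 0, 15, 233705) (.node (.node .leaf (95888, 0, 14, 35951) .leaf) (95889, 0, 14, 185665) (.node .leaf (95890, 0, 13, 208194) .leaf))) (95891, 0, 14, 81203) (.node (.node (.node .leaf (95896, 0, 17, 26355) .leaf) (95897, 0, 15, 147421) (.node .leaf (95898, 0, 15, 233089) .leaf)) (95899, 0, 16, 120751) (.node (.node .leaf (95904, 0, 17, 200391) .leaf) (95905, 0, 18, 257697) (.node .leaf (95906, 0, 14, 155362) .leaf)))) (95907, 0, 16, 179844) (.node (.node (.node (.node .leaf (95912, 0, 16, 224527) .leaf) (95913, 0, 15, 78881) (.node .leaf (95914, 0, 13, 34173) .leaf)) (95915, 0, 16, 187475) (.node (.node .leaf (95920, 0, 14, 95890) .leaf) (95921, 0, 18, 104180)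 (.node .leaf (95922, 0, 15, 137495) .leaf))) (95923, 0, 17, 50897) (.node (.node (.node .leaf (95928, 0, 17, 217866) .leaf) (95929, 0, 17, 213719) (.node .leaf (95930, 0, 16, 193419) .leaf)) (95931, 0, 13, 189257) (.node (.node .leaf (95940, 0, 15, 56590) .leaf) (95941, 0, 15, 243441) (.node .leaf (95942, 0, 13, 210300) .leaf))))))

/-- part of the orbit tree -/
def itp2_466 : Tree := (.node (.node (.node (.node (.node (.node .leaf (95948, 0, 17, 14226) .leaf) (95949, 0, 14, 159420) (.node .leaf (95950, 0, 18, 9002) .leaf)) (95951, 0, 17, 100046) (.node (.node .leaf (95956, 0, 15, 77506) .leaf) (95957, 0, 11, 62166) (.node .leaf (95958, 0, 12, 32487) .leaf))) (95959, 0, 14, 40577) (.node (.node (.node .leaf (95964, 0, 18, 147812) .leaf) (95965, 0, 16, 6218) (.node .leaf (95966, 0, 15, 108822) .leaf)) (95967, 0, 17, 178969) (.node (.node .leaf (95972, 0, 15, 23906) .leaf) (95973, 0, 16, 260394) (.node .leaf (95974, 0, 16, 149622) .leaf)))) (95975, 0, 13, 4440) (.node (.node (.node (.node .leaf (95980,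 0, 15, 162042) .leaf) (95981, 0, 15, 201654) (.node .leaf (95982, 0, 12, 172778) .leaf)) (95983, 0, 16, 247993) (.node (.node .leaf (95988, 0, 15, 251634) .leaf) (95989, 0, 15, 181585) (.node .leaf (95990, 0, 17, 16000) .leaf))) (95991, 0, 18, 234868) (.node (.node (.node .leaf (95996, 0, 16, 175) .leaf) (95997, 0, 14, 57545) (.node .leaf (95998, 0, 14, 54300) .leaf)) (95999, 0, 13, 167218) (.node (.node .leaf (96004, 0, 15, 67951) .leaf) (96005, 0, 15, 101152) (.node .leaf (96006, 0, 14, 22858) .leaf))))) (96007, 0, 14, 47404) (.node (.node (.node (.node (.node .leaf (96012, 0, 15, 208119) .leaf) (96013, 0, 17, 90556) (.node .leaf (96014, 0, 13, 53472) .leaf)) (96015, 0, 16, 171188) (.node (.node .leaf (96020, 0, 17, 107768) .leaf) (96021, 0, 17, 261590) (.node .leaf (96022, 0, 15, 150666) .leaf))) (96023, 0, 15, 180601) (.node (.node (.node .leaf (96028, 0, 17, 87202) .leaf) (96029, 0, 16, 202570) (.node .leaf (96030, 0, 17, 173590) .leaf)) (96031, 0, 17, 58593) (.node (.node .leaf (96036, 0, 16,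 175876) .leaf) (96037, 0, 16, 63018) (.node .leaf (96038, 0, 16, 217791) .leaf)))) (96039, 0, 17, 242393) (.node (.node (.node (.node .leaf (96044, 0, 11, 148888) .leaf) (96045, 0, 19, 51044) (.node .leaf (96046, 0, 18, 110058) .leaf)) (96047, 0, 12, 259268) (.node (.node .leaf (96052, 0, 17, 55794) .leaf) (96053, 0, 17, 164060) (.node .leaf (96054, 0, 16, 209280) .leaf))) (96055, 0, 17, 117388) (.node (.node (.node .leaf (96060, 0, 18, 155479) .leaf) (96061, 0, 14, 158272) (.node .leaf (96062, 0, 15, 200562) .leaf)) (96063, 0, 13, 98866) (.node (.node .leaf (96064, 0, 17, 128409) .leaf) (96065, 0, 17, 240823) .leaf)))))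

/-- part of the orbit tree -/
def itp2_467 : Tree := (.node itp2_463 (95686, 0, 17, 100534) itp2_464)

/-- part of the orbit tree -/
def itp2_468 : Tree := (.node itp2_465 (95943, 0, 17, 190164) itp2_466)

/-- part of the orbit tree -/
def itp2_469 : Tree := (.node itp2_461 (95303, 0, 18, 186647) itp2_462)

/-- part of the orbit tree -/
def itp2_470 : Tree := (.node itp2_467 (95815, 0, 18, 29150) itp2_468)

/-- part of the orbit tree -/
def itp2_471 : Tree := (.node itp2_455 (94536, 0, 16, 84362) itp2_456)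

/-- part of the orbit tree -/
def itp2_472 : Tree := (.node itp2_469 (95558, 0, 12, 204732) itp2_470)

/-- part of the orbit tree -/
def itp2_473 : Tree := (.node (.node (.node (.node (.node (.node .leaf (96067, 0, 15, 17605) .leaf) (96072, 0, 15, 73477) (.node .leaf (96073, 0, 16, 40756) .leaf)) (96074, 0, 16, 194423) (.node (.node .leaf (96075, 0, 16, 44633) .leaf) (96080, 0, 16, 230255) (.node .leaf (96081, 0, 15, 49913) .leaf))) (96082, 0, 13, 27421) (.node (.node (.node .leaf (96083, 0, 18, 103132) .leaf) (96088, 0, 16, 132871) (.node .leaf (96089, 0, 18, 78045) .leaf)) (96090, 0, 15, 218914) (.node (.node .leaf (96091, 0, 18, 186543) .leaf) (96096, 0, 15, 34963) (.node .leaf (96097, 0, 16, 184765) .leaf)))) (96098, 0, 13, 282) (.node (.node (.node (.node .leaf (96099, 0, 17, 57724) .leaf) (96104, 0, 16, 226471) (.node .leaf (96105, 0, 17, 234689) .leaf)) (96106, 0, 15, 140418) (.node (.node .leaf (96107, 0, 16, 181476) .leaf) (96112, 0, 18, 207210) (.node .leaf (96113, 0, 15, 248076) .leaf)))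 (96114, 0, 17, 71191) (.node (.node (.node .leaf (96115, 0, 15, 216889) .leaf) (96120, 0, 16, 68850) (.node .leaf (96121, 0, 15, 126100) .leaf)) (96122, 0, 16, 130187) (.node (.node .leaf (96123, 0, 16, 48305) .leaf) (96132, 0, 16, 237157) (.node .leaf (96133, 0, 15, 146249) .leaf))))) (96134, 0, 14, 183872) (.node (.node (.node (.node (.node .leaf (96135, 0, 12, 142886) .leaf) (96140, 0, 18, 35067) (.node .leaf (96141, 0, 13, 184789) .leaf)) (96142, 0, 16, 60376) (.node (.node .leaf (96143, 0, 15, 3006) .leaf) (96148, 0, 15, 124464) (.node .leaf (96149, 0, 16, 19903) .leaf))) (96150, 0, 17, 46613) (.node (.node (.node .leaf (96151, 0, 16, 22131) .leaf) (96156, 0, 15, 196109) (.node .leaf (96157, 0, 11, 42787) .leaf)) (96158, 0, 16, 168845) (.node (.node .leaf (96159, 0, 16, 160747) .leaf) (96164, 0, 18, 73581) (.node .leaf (96165, 0, 13, 30198) .leaf)))) (96166, 0, 18, 194335) (.node (.node (.node (.node .leaf (96167, 0, 10, 44593) .leaf) (96172, 0, 14, 176136) (.node .leaf (96173, 0, 18, 240863)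 .leaf)) (96174, 0, 17, 253997) (.node (.node .leaf (96175, 0, 16, 196683) .leaf) (96180, 0, 15, 223643) (.node .leaf (96181, 0, 18, 134563) .leaf))) (96182, 0, 17, 245216) (.node (.node (.node .leaf (96183, 0, 13, 186567) .leaf) (96188, 0, 15, 51293) (.node .leaf (96189, 0, 17, 121385) .leaf)) (96190, 0, 16, 104568) (.node (.node .leaf (96191, 0, 17, 96286) .leaf) (96192, 0, 10, 148976) (.node .leaf (96193, 0, 17, 11686) .leaf))))))

/-- part of the orbit tree -/
def itp2_474 : Tree := (.node (.node (.node (.node (.node (.node .leaf (96195, 0, 15, 97667) .leaf) (96200, 0, 16, 175980) (.node .leaf (96201, 0, 17, 133182) .leaf)) (96202, 0, 17, 83742) (.node (.node .leaf (96203, 0, 17, 219163) .leaf) (96208, 0, 16, 13062) (.node .leaf (96209, 0, 15, 158248) .leaf))) (96210, 0, 18, 252788) (.node (.node (.node .leaf (96211, 0, 12, 98906) .leaf) (96216, 0, 15, 55706) (.node .leaf (96217, 0, 18, 28779) .leaf)) (96218, 0, 15, 209384) (.node (.node .leaf (96219, 0, 11, 92358) .leaf) (96224, 0, 15, 247349)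 (.node .leaf (96225, 0, 17, 90580) .leaf)))) (96226, 0, 15, 53384) (.node (.node (.node (.node .leaf (96227, 0, 17, 161398) .leaf) (96232, 0, 14, 123821) (.node .leaf (96233, 0, 19, 66507) .leaf)) (96234, 0, 18, 14868) (.node (.node .leaf (96235, 0, 17, 156474) .leaf) (96240, 0, 18, 85516) (.node .leaf (96241, 0, 14, 89606) .leaf))) (96242, 0, 18, 173694) (.node (.node (.node .leaf (96243, 0, 18, 65360) .leaf) (96248, 0, 19, 236536) (.node .leaf (96249, 0, 11, 261566) .leaf)) (96250, 0, 17, 183261) (.node (.node .leaf (96251, 0, 14, 5580) .leaf) (96257, 0, 16, 24121) (.node .leaf (96258, 0, 17, 35545) .leaf))))) (96261, 0, 16, 139556) (.node (.node (.node (.node (.node .leaf (96262, 0, 12, 233592) .leaf) (96265, 0, 16, 46245) (.node .leaf (96266, 0, 17, 67065) .leaf)) (96269, 0, 17, 206369) (.node (.node .leaf (96270, 0, 12, 169570) .leaf) (96273, 0, 16, 213711) (.node .leaf (96274, 0, 17, 193164) .leaf))) (96277, 0, 18, 228332) (.node (.node (.node .leaf (96278, 0, 16, 183215) .leaf) (96281, 0, 17,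 180819) (.node .leaf (96282, 0, 18, 226063) .leaf)) (96285, 0, 16, 48462) (.node (.node .leaf (96286, 0, 16, 60983) .leaf) (96289, 0, 17, 143727) (.node .leaf (96290, 0, 17, 37487) .leaf)))) (96293, 0, 18, 133196) (.node (.node (.node (.node .leaf (96294, 0, 18, 191858) .leaf) (96297, 0, 16, 117167) (.node .leaf (96298, 0, 16, 30963) .leaf)) (96301, 0, 15, 11732) (.node (.node .leaf (96302, 0, 16, 133102) .leaf) (96305, 0, 17, 218565) (.node .leaf (96306, 0, 13, 189593) .leaf))) (96309, 0, 17, 76504) (.node (.node (.node .leaf (96310, 0, 17, 114778) .leaf) (96313, 0, 12, 245593) (.node .leaf (96314, 0, 16, 253153) .leaf)) (96317, 0, 17, 152961) (.node (.node .leaf (96318, 0, 19, 255426) .leaf) (96320, 0, 17, 176250) (.node .leaf (96323, 0, 15, 196665) .leaf))))))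

/-- part of the orbit tree -/
def itp2_475 : Tree := (.node (.node (.node (.node (.node (.node .leaf (96327, 0, 15, 211226) .leaf) (96328, 0, 15, 38370) (.node .leaf (96331, 0, 17, 75169) .leaf)) (96332, 0, 18, 44225) (.node (.node .leaf (96335, 0, 15, 97088) .leaf) (96336, 0, 14, 10603) (.node .leaf (96339, 0, 12, 104503) .leaf))) (96340, 0, 16, 61708) (.node (.node (.node .leaf (96343, 0, 17, 82255) .leaf) (96344, 0, 16, 191927) (.node .leaf (96347, 0, 18, 220660) .leaf)) (96348, 0, 16, 185492) (.node (.node .leaf (96351, 0, 16, 200118) .leaf) (96352, 0, 13, 205463) (.node .leaf (96355, 0, 14, 168907) .leaf)))) (96356, 0, 16, 98988) (.node (.node (.node (.node .leaf (96359, 0, 17, 13039) .leaf) (96360, 0, 19, 247819) (.node .leaf (96363, 0, 19, 162135) .leaf)) (96364, 0, 11, 239412) (.node (.node .leaf (96367, 0, 17, 137079) .leaf) (96368, 0, 18, 246746) (.node .leaf (96371, 0, 14, 160665) .leaf))) (96372, 0, 15, 260857) (.node (.node (.node .leaf (96375, 0, 19, 150202) .leaf) (96376, 0, 19, 124482)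 (.node .leaf (96379, 0, 13, 4001) .leaf)) (96380, 0, 18, 122721) (.node (.node .leaf (96383, 0, 17, 159932) .leaf) (96385, 0, 17, 257616) (.node .leaf (96386, 0, 17, 138707) .leaf))))) (96389, 0, 19, 234675) (.node (.node (.node (.node (.node .leaf (96390, 0, 16, 8209) .leaf) (96393, 0, 13, 100360) (.node .leaf (96394, 0, 9, 14411) .leaf)) (96397, 0, 17, 97233) (.node (.node .leaf (96398, 0, 17, 360) .leaf) (96401, 0, 18, 120261) (.node .leaf (96402, 0, 12, 25990) .leaf))) (96405, 0, 16, 255931) (.node (.node (.node .leaf (96406, 0, 17, 23717) .leaf) (96409, 0, 15, 258141) (.node .leaf (96410, 0, 15, 50022) .leaf)) (96413, 0, 18, 248190) (.node (.node .leaf (96414, 0, 17, 162109) .leaf) (96417, 0, 15, 42597) (.node .leaf (96418, 0, 16, 205318) .leaf)))) (96421, 0, 17, 40774) (.node (.node (.node (.node .leaf (96422, 0, 18, 89371) .leaf) (96425, 0, 16, 162246) (.node .leaf (96426, 0, 16, 247962) .leaf)) (96429, 0, 15, 1755) (.node (.node .leaf (96430, 0, 16, 112519) .leaf) (96433, 0, 11, 187952) (.node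 .leaf (96434, 0, 17, 224883) .leaf))) (96437, 0, 16, 190227) (.node (.node (.node .leaf (96438, 0, 14, 207853) .leaf) (96441, 0, 16, 3888) (.node .leaf (96442, 0, 16, 84971) .leaf)) (96445, 0, 18, 49803) (.node (.node .leaf (96446, 0, 13, 94920) .leaf) (96448, 0, 14, 10096) (.node .leaf (96451, 0, 17, 24232) .leaf))))))

/-- part of the orbit tree -/
def itp2_476 : Tree := (.node (.node (.node (.node (.node (.node .leaf (96455, 0, 15, 139701) .leaf) (96456, 0, 16, 131816) (.node .leaf (96459, 0, 15, 242347) .leaf)) (96460, 0, 15, 146379) (.node (.node .leaf (96463, 0, 15, 183081) .leaf) (96464, 0, 14, 235778) (.node .leaf (96467, 0, 16, 141406) .leaf))) (96468, 0, 16, 157190) (.node (.node (.node .leaf (96471, 0, 18, 22339) .leaf) (96472, 0, 17, 226206) (.node .leaf (96475, 0, 13, 180930) .leaf)) (96476, 0, 13, 68739) (.node (.node .leaf (96479, 0, 17, 127965) .leaf) (96480, 0, 15, 208005) (.node .leaf (96483, 0, 17, 74658) .leaf)))) (96484, 0, 17, 191971) (.node (.node (.node (.node .leaf (96487,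 0, 16, 173541) .leaf) (96488, 0, 15, 67869) (.node .leaf (96491, 0, 15, 47454) .leaf)) (96492, 0, 13, 132991) (.node (.node .leaf (96495, 0, 16, 32893) .leaf) (96496, 0, 16, 189448) (.node .leaf (96499, 0, 17, 218452) .leaf))) (96500, 0, 17, 39701) (.node (.node (.node .leaf (96503, 0, 16, 76361) .leaf) (96504, 0, 13, 134804) (.node .leaf (96507, 0, 14, 245704) .leaf)) (96508, 0, 18, 215147) (.node (.node .leaf (96511, 0, 18, 114901) .leaf) (96512, 0, 16, 161928) (.node .leaf (96515, 0, 17, 248011) .leaf))))) (96516, 0, 18, 40937) (.node (.node (.node (.node (.node .leaf (96519, 0, 16, 258536) .leaf) (96520, 0, 17, 133736) (.node .leaf (96523, 0, 14, 126291) .leaf)) (96524, 0, 16, 25651) (.node (.node .leaf (96527, 0, 15, 115753) .leaf) (96528, 0, 19, 221) (.node .leaf (96531, 0, 16, 110750) .leaf))) (96532, 0, 15, 14846) (.node (.node (.node .leaf (96535, 0, 18, 100797) .leaf) (96536, 0, 16, 31902) (.node .leaf (96539, 0, 14, 118210) .leaf)) (96540, 0, 15, 131971) (.node (.node .leaf (96543, 0, 16,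 240677) .leaf) (96544, 0, 15, 237054) (.node .leaf (96547, 0, 16, 142498) .leaf)))) (96548, 0, 17, 123619) (.node (.node (.node (.node .leaf (96551, 0, 15, 21439) .leaf) (96552, 0, 16, 227170) (.node .leaf (96555, 0, 17, 190118) .leaf)) (96556, 0, 18, 225222) (.node (.node .leaf (96559, 0, 14, 188293) .leaf) (96560, 0, 17, 125704) (.node .leaf (96563, 0, 15, 179051) .leaf))) (96564, 0, 16, 234517) (.node (.node (.node .leaf (96567, 0, 17, 164424) .leaf) (96568, 0, 14, 65940) (.node .leaf (96571, 0, 16, 40691) .leaf)) (96572, 0, 7, 229001) (.node (.node .leaf (96575, 0, 16, 42960) .leaf) (96577, 0, 12, 127592) (.node .leaf (96578, 0, 15, 16939) .leaf))))))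

/-- part of the orbit tree -/
def itp2_477 : Tree := (.node itp2_473 (96194, 0, 14, 109954) itp2_474)

/-- part of the orbit tree -/
def itp2_478 : Tree := (.node itp2_475 (96452, 0, 11, 7763) itp2_476)

/-- part of the orbit tree -/
def itp2_479 : Tree := (.node (.node (.node (.node (.node (.node .leaf (96582, 0, 16, 208657) .leaf) (96585, 0, 17, 251888) (.node .leaf (96586, 0, 14, 157619) .leaf)) (96589, 0, 18, 160977) (.node (.node .leaf (96590, 0, 16, 247181) .leaf) (96593, 0, 17, 169894) (.node .leaf (96594, 0, 16, 206586) .leaf))) (96597, 0, 14, 59579) (.node (.node (.node .leaf (96598, 0, 18, 88551) .leaf) (96601, 0, 17, 163130) (.node .leaf (96602, 0, 16, 248934) .leaf)) (96605, 0, 14, 551) (.node (.node .leaf (96606, 0, 12, 9925) .leaf) (96609, 0, 14, 105562) (.node .leaf (96610, 0, 15, 215518) .leaf)))) (96613, 0, 15, 180414) (.node (.node (.node (.node .leaf (96614, 0, 16, 225533) .leaf) (96617, 0, 14, 95942) (.node .leaf (96618, 0, 18, 93254) .leaf)) (96621, 0, 16, 199131) (.node (.node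 .leaf (96622, 0, 18, 87397) .leaf) (96625, 0, 18, 256684) (.node .leaf (96626, 0, 17, 154608) .leaf))) (96629, 0, 15, 103857) (.node (.node (.node .leaf (96630, 0, 14, 67752) .leaf) (96633, 0, 15, 196656) (.node .leaf (96634, 0, 15, 201747) .leaf)) (96637, 0, 16, 171379) (.node (.node .leaf (96638, 0, 16, 52849) .leaf) (96640, 0, 15, 86173) (.node .leaf (96643, 0, 18, 57793) .leaf))))) (96644, 0, 14, 54945) (.node (.node (.node (.node (.node .leaf (96647, 0, 14, 171740) .leaf) (96648, 0, 15, 182810) (.node .leaf (96651, 0, 14, 2909) .leaf)) (96652, 0, 14, 247068) (.node (.node .leaf (96655, 0, 16, 160832) .leaf) (96656, 0, 15, 169943) (.node .leaf (96659, 0, 19, 206740) .leaf))) (96660, 0, 11, 175860) (.node (.node (.node .leaf (96663, 0, 17, 59434) .leaf) (96664, 0, 18, 249079) (.node .leaf (96667, 0, 17, 163243) .leaf)) (96668, 0, 17, 111594) (.node (.node .leaf (96671, 0, 17, 694) .leaf) (96672, 0, 17, 11671) (.node .leaf (96675, 0, 16, 105675) .leaf)))) (96676, 0, 16, 253268) (.node (.node (.node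 (.node .leaf (96679, 0, 18, 158999) .leaf) (96680, 0, 16, 115183) (.node .leaf (96683, 0, 16, 95831) .leaf)) (96684, 0, 18, 178198) (.node (.node .leaf (96687, 0, 17, 18575) .leaf) (96688, 0, 12, 105506) (.node .leaf (96691, 0, 17, 11361) .leaf))) (96692, 0, 16, 9340) (.node (.node (.node .leaf (96695, 0, 11, 5442) .leaf) (96696, 0, 17, 176637) (.node .leaf (96699, 0, 16, 133625) .leaf)) (96700, 0, 14, 52960) (.node (.node .leaf (96703, 0, 14, 98236) .leaf) (96705, 0, 15, 222562) (.node .leaf (96706, 0, 17, 185633) .leaf))))))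

/-- part of the orbit tree -/
def itp2_480 : Tree := (.node (.node (.node (.node (.node (.node .leaf (96710, 0, 16, 191490) .leaf) (96713, 0, 15, 82170) (.node .leaf (96714, 0, 17, 133881) .leaf)) (96717, 0, 18, 115896) (.node (.node .leaf (96718, 0, 17, 51610) .leaf) (96721, 0, 16, 73015) (.node .leaf (96722, 0, 13, 38547) .leaf))) (96725, 0, 18, 74772) (.node (.node (.node .leaf (96726, 0, 16, 190862) .leaf) (96729, 0, 17, 211119) (.node .leaf (96730, 0, 17, 31759) .leaf)) (96733, 0, 16, 197004) (.node (.node .leaf (96734, 0, 14, 131858) .leaf) (96737, 0, 16, 28311) (.node .leaf (96738, 0, 13, 122580) .leaf)))) (96741, 0, 18, 21294) (.node (.node (.node (.node .leaf (96742, 0, 17, 123506) .leaf) (96745, 0, 16, 150287) (.node .leaf (96746, 0, 15, 227315) .leaf)) (96749, 0, 16, 160300) (.node (.node .leaf (96750, 0, 15, 246383) .leaf) (96753, 0, 13, 136898) (.node .leaf (96754, 0, 16, 239233) .leaf))) (96757, 0, 17, 140760) (.node (.node (.node .leaf (96758, 0, 12, 237474) .leaf) (96761, 0, 12, 45145)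 (.node .leaf (96762, 0, 16, 65797) .leaf)) (96765, 0, 18, 184132) (.node (.node .leaf (96766, 0, 19, 228888) .leaf) (96768, 0, 16, 128652) (.node .leaf (96769, 0, 14, 71402) .leaf))))) (96772, 0, 17, 32038) (.node (.node (.node (.node (.node .leaf (96773, 0, 13, 77769) .leaf) (96776, 0, 18, 190631) (.node .leaf (96777, 0, 17, 209778) .leaf)) (96780, 0, 17, 256567) (.node (.node .leaf (96781, 0, 18, 183956) .leaf) (96784, 0, 16, 233177) (.node .leaf (96785, 0, 15, 142819) .leaf))) (96788, 0, 16, 134096) (.node (.node (.node .leaf (96789, 0, 16, 219036) .leaf) (96792, 0, 17, 40529) (.node .leaf (96793, 0, 15, 84775) .leaf)) (96796, 0, 17, 103010) (.node (.node .leaf (96797, 0, 17, 47202) .leaf) (96800, 0, 16, 229169) (.node .leaf (96801, 0, 15, 138527) .leaf)))) (96804, 0, 14, 181338) (.node (.node (.node (.node .leaf (96805, 0, 16, 140348) .leaf) (96808, 0, 16, 234925) (.node .leaf (96809, 0, 17, 117891) .leaf)) (96812, 0, 17, 125616) (.node (.node .leaf (96813, 0, 17, 420) .leaf) (96816, 0, 17, 68039)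 (.node .leaf (96817, 0, 14, 25930) .leaf))) (96820, 0, 18, 227034) (.node (.node (.node .leaf (96821, 0, 16, 23657) .leaf) (96824, 0, 17, 123739) (.node .leaf (96825, 0, 14, 147666) .leaf)) (96828, 0, 16, 236614) (.node (.node .leaf (96829, 0, 14, 162289) .leaf) (96834, 0, 18, 248879) (.node .leaf (96835, 0, 13, 207945) .leaf))))))

/-- part of the orbit tree -/
def itp2_481 : Tree := (.node (.node (.node (.node (.node (.node .leaf (96839, 0, 17, 202090) .leaf) (96842, 0, 16, 125367) (.node .leaf (96843, 0, 17, 196977) .leaf)) (96846, 0, 16, 206658) (.node (.node .leaf (96847, 0, 16, 97900) .leaf) (96850, 0, 17, 111738) (.node .leaf (96851, 0, 15, 87068) .leaf))) (96854, 0, 14, 101721) (.node (.node (.node .leaf (96855, 0, 16, 93503) .leaf) (96858, 0, 17, 233954) (.node .leaf (96859, 0, 13, 96135) .leaf)) (96862, 0, 19, 239809) (.node (.node .leaf (96863, 0, 18, 198810) .leaf) (96866, 0, 12, 51162) (.node .leaf (96867, 0, 14, 10172) .leaf)))) (96870, 0, 17, 176340) (.node (.node (.node (.node .leaf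 (96871, 0, 16, 59898) .leaf) (96874, 0, 17, 9557) (.node .leaf (96875, 0, 15, 162939) .leaf)) (96878, 0, 15, 187233) (.node (.node .leaf (96879, 0, 13, 870) .leaf) (96882, 0, 16, 180111) (.node .leaf (96883, 0, 5, 155625) .leaf))) (96886, 0, 18, 165548) (.node (.node (.node .leaf (96887, 0, 17, 157386) .leaf) (96890, 0, 15, 39447) (.node .leaf (96891, 0, 15, 31345) .leaf)) (96894, 0, 16, 11454) (.node (.node .leaf (96895, 0, 17, 161168) .leaf) (96896, 0, 11, 111186) (.node .leaf (96897, 0, 15, 256892) .leaf))))) (96900, 0, 16, 249167) (.node (.node (.node (.node (.node .leaf (96901, 0, 15, 243907) .leaf) (96904, 0, 18, 88270) (.node .leaf (96905, 0, 15, 197088) .leaf)) (96908, 0, 17, 97597) (.node (.node .leaf (96909, 0, 16, 98045) .leaf) (96912, 0, 15, 72147) (.node .leaf (96913, 0, 18, 105866) .leaf))) (96916, 0, 16, 113593) (.node (.node (.node .leaf (96917, 0, 16, 254615) .leaf) (96920, 0, 16, 212043) (.node .leaf (96921, 0, 16, 96022) .leaf)) (96924, 0, 14, 197992) (.node (.node .leaf (96925,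 0, 16, 255246) .leaf) (96928, 0, 13, 53080) (.node .leaf (96929, 0, 16, 169590) .leaf)))) (96932, 0, 14, 176197) (.node (.node (.node (.node .leaf (96933, 0, 16, 45878) .leaf) (96936, 0, 14, 151531) (.node .leaf (96937, 0, 16, 176013) .leaf)) (96940, 0, 16, 154329) (.node (.node .leaf (96941, 0, 17, 1015) .leaf) (96944, 0, 13, 178606) (.node .leaf (96945, 0, 17, 57472) .leaf))) (96948, 0, 15, 142085) (.node (.node (.node .leaf (96949, 0, 17, 183139) .leaf) (96952, 0, 17, 152370) (.node .leaf (96953, 0, 17, 55256) .leaf)) (96956, 0, 17, 11311) (.node (.node .leaf (96957, 0, 16, 61179) .leaf) (96962, 0, 18, 131754) (.node .leaf (96963, 0, 17, 113475) .leaf))))))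

/-- part of the orbit tree -/
def itp2_482 : Tree := (.node (.node (.node (.node (.node (.node .leaf (96967, 0, 14, 98912) .leaf) (96970, 0, 18, 190518) (.node .leaf (96971, 0, 13, 237275) .leaf)) (96974, 0, 17, 214942) (.node (.node .leaf (96975, 0, 14, 183813) .leaf) (96978, 0, 15, 205680) (.node .leaf (96979, 0, 16, 142706) .leaf))) (96982, 0, 17, 203347) (.node (.node (.node .leaf (96983, 0, 16, 260661) .leaf) (96986, 0, 15, 40640) (.node .leaf (96987, 0, 17, 182254) .leaf)) (96990, 0, 18, 81867) (.node (.node .leaf (96991, 0, 17, 47347) .leaf) (96994, 0, 12, 151760) (.node .leaf (96995, 0, 14, 75406) .leaf)))) (96998, 0, 15, 158195) (.node (.node (.node (.node .leaf (96999, 0, 12, 166293) .leaf) (97002, 0, 15, 30024) (.node .leaf (97003, 0, 18, 38190) .leaf)) (97006, 0, 17, 19563) (.node (.node .leaf (97007, 0, 15, 242447) .leaf) (97010, 0, 15, 67926) (.node .leaf (97011, 0, 17, 51427) .leaf))) (97014, 0, 13, 226891) (.node (.node (.node .leaf (97015, 0, 17, 77669) .leaf) (97018, 0, 16, 123850)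 (.node .leaf (97019, 0, 17, 191867) .leaf)) (97022, 0, 16, 144446) (.node (.node .leaf (97023, 0, 18, 116217) .leaf) (97026, 0, 16, 197853) (.node .leaf (97027, 0, 18, 255163) .leaf))))) (97030, 0, 18, 212478) (.node (.node (.node (.node (.node .leaf (97031, 0, 15, 76697) .leaf) (97034, 0, 16, 74053) (.node .leaf (97035, 0, 16, 114979) .leaf)) (97038, 0, 14, 235563) (.node (.node .leaf (97039, 0, 17, 129024) .leaf) (97042, 0, 13, 228188) (.node .leaf (97043, 0, 17, 105710) .leaf))) (97046, 0, 10, 83371) (.node (.node (.node .leaf (97047, 0, 17, 220527) .leaf) (97050, 0, 19, 233920) (.node .leaf (97051, 0, 17, 116974) .leaf)) (97054, 0, 16, 221235) (.node (.node .leaf (97055, 0, 16, 229461) .leaf) (97058, 0, 17, 28832) (.node .leaf (97059, 0, 14, 141710) .leaf)))) (97062, 0, 12, 13835) (.node (.node (.node (.node .leaf (97063, 0, 16, 54893) .leaf) (97066, 0, 15, 142000) (.node .leaf (97067, 0, 16, 181010) .leaf)) (97070, 0, 12, 136083) (.node (.node .leaf (97071, 0, 16, 193525) .leaf) (97074, 0, 14,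 132694) (.node .leaf (97075, 0, 15, 24440) .leaf))) (97078, 0, 17, 31051) (.node (.node (.node .leaf (97079, 0, 16, 175672) .leaf) (97082, 0, 16, 191690) (.node .leaf (97083, 0, 16, 45699) .leaf)) (97086, 0, 18, 37847) (.node (.node .leaf (97087, 0, 17, 183033) .leaf) (97088, 0, 14, 179538) .leaf)))))

/-- part of the orbit tree -/
def itp2_483 : Tree := (.node itp2_479 (96709, 0, 16, 77348) itp2_480)

/-- part of the orbit tree -/
def itp2_484 : Tree := (.node itp2_481 (96966, 0, 17, 90630) itp2_482)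

/-- part of the orbit tree -/
def itp2_485 : Tree := (.node itp2_477 (96324, 0, 15, 166233) itp2_478)

/-- part of the orbit tree -/
def itp2_486 : Tree := (.node itp2_483 (96838, 0, 13, 249310) itp2_484)

/-- part of the orbit tree -/
def itp2_487 : Tree := (.node (.node (.node (.node (.node (.node .leaf (97092, 0, 15, 67421) .leaf) (97093, 0, 16, 170849) (.node .leaf (97096, 0, 16, 153550) .leaf)) (97097, 0, 17, 3808) (.node (.node .leaf (97100, 0, 18, 205509) .leaf) (97101, 0, 16, 246435) (.node .leaf (97104, 0, 18, 214571) .leaf))) (97105, 0, 8, 239181) (.node (.node (.node .leaf (97108, 0, 14, 229128) .leaf) (97109, 0, 14, 237422) (.node .leaf (97112, 0, 14, 91059) .leaf)) (97113, 0, 16, 99285) (.node (.node .leaf (97116, 0, 15, 155173) .leaf) (97117, 0, 16, 1803) (.node .leaf (97120, 0, 18, 245848) .leaf)))) (97121, 0, 17, 104822) (.node (.node (.node (.node .leaf (97124, 0, 16, 114501) .leaf) (97125, 0, 18, 191694) (.node .leaf (97128, 0, 17, 4115) .leaf)) (97129, 0, 12, 95210) (.node (.node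 .leaf (97132, 0, 16, 10544) .leaf) (97133, 0, 16, 51542) (.node .leaf (97136, 0, 16, 112302) .leaf))) (97137, 0, 14, 257920) (.node (.node (.node .leaf (97140, 0, 15, 248243) .leaf) (97141, 0, 16, 102557) (.node .leaf (97144, 0, 16, 89138) .leaf)) (97145, 0, 17, 197916) (.node (.node .leaf (97148, 0, 10, 151909) .leaf) (97149, 0, 15, 96769) (.node .leaf (97154, 0, 13, 179651) .leaf))))) (97155, 0, 14, 95153) (.node (.node (.node (.node (.node .leaf (97158, 0, 17, 49886) .leaf) (97159, 0, 15, 170992) (.node .leaf (97162, 0, 15, 243279) .leaf)) (97163, 0, 16, 3697) (.node (.node .leaf (97166, 0, 16, 233324) .leaf) (97167, 0, 16, 160108) (.node .leaf (97170, 0, 16, 52021) .leaf))) (97171, 0, 17, 168475) (.node (.node (.node .leaf (97174, 0, 18, 177192) .leaf) (97175, 0, 18, 60678) (.node .leaf (97178, 0, 17, 8617) .leaf)) (97179, 0, 17, 77436) (.node (.node .leaf (97182, 0, 15, 155316) .leaf) (97183, 0, 14, 71519) (.node .leaf (97186, 0, 17, 245961) .leaf)))) (97187, 0, 16, 104935) (.node (.node (.node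 (.node .leaf (97190, 0, 16, 114644) .leaf) (97191, 0, 17, 147815) (.node .leaf (97194, 0, 16, 207445) .leaf)) (97195, 0, 15, 24028) (.node (.node .leaf (97198, 0, 11, 33945) .leaf) (97199, 0, 15, 25855) (.node .leaf (97202, 0, 18, 57463) .leaf))) (97203, 0, 17, 257809) (.node (.node (.node .leaf (97206, 0, 18, 248098) .leaf) (97207, 0, 16, 14642) (.node .leaf (97210, 0, 17, 181743) .leaf)) (97211, 0, 15, 198029) (.node (.node .leaf (97214, 0, 14, 195788) .leaf) (97215, 0, 16, 96912) (.node .leaf (97216, 0, 17, 68923) .leaf))))))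

/-- part of the orbit tree -/
def itp2_488 : Tree := (.node (.node (.node (.node (.node (.node .leaf (97220, 0, 16, 225830) .leaf) (97221, 0, 15, 76552) (.node .leaf (97224, 0, 19, 101612) .leaf)) (97225, 0, 16, 245385) (.node (.node .leaf (97228, 0, 16, 112079) .leaf) (97229, 0, 17, 115092) (.node .leaf (97232, 0, 17, 119073) .leaf))) (97233, 0, 16, 74467) (.node (.node (.node .leaf (97236, 0, 17, 66768) .leaf) (97237, 0, 16, 220670) (.node .leaf (97240, 0, 16, 233809) .leaf)) (97241, 0, 18, 116863) (.node (.node .leaf (97244, 0, 13, 249242) .leaf) (97245, 0, 14, 243554) (.node .leaf (97248, 0, 14, 41601) .leaf)))) (97249, 0, 15, 141599) (.node (.node (.node (.node .leaf (97252, 0, 16, 39842) .leaf) (97253, 0, 14, 22018) (.node .leaf (97256, 0, 18, 39597) .leaf)) (97257, 0, 15, 157567) (.node (.node .leaf (97260, 0, 13, 179770) .leaf) (97261, 0, 16, 48286) (.node .leaf (97264, 0, 17, 132807) .leaf))) (97265, 0, 13, 146098) (.node (.node (.node .leaf (97268, 0, 19, 31194) .leaf) (97269, 0, 14, 139508)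 (.node .leaf (97272, 0, 16, 65356) .leaf)) (97273, 0, 16, 46453) (.node (.node .leaf (97276, 0, 16, 50799) .leaf) (97277, 0, 12, 9737) (.node .leaf (97280, 0, 14, 68323) .leaf))))) (97282, 0, 18, 102513) (.node (.node (.node (.node (.node .leaf (97284, 0, 18, 226814) .leaf) (97286, 0, 17, 40332) (.node .leaf (97288, 0, 16, 189900) .leaf)) (97290, 0, 16, 133133) (.node (.node .leaf (97292, 0, 17, 237410) .leaf) (97294, 0, 18, 232650) (.node .leaf (97296, 0, 15, 228373) .leaf))) (97298, 0, 13, 37991) (.node (.node (.node .leaf (97300, 0, 16, 164130) .leaf) (97302, 0, 16, 191354) (.node .leaf (97304, 0, 17, 40345) .leaf)) (97306, 0, 16, 118204) (.node (.node .leaf (97308, 0, 16, 125332) .leaf) (97310, 0, 17, 131558) (.node .leaf (97312, 0, 15, 248737) .leaf)))) (97314, 0, 9, 170884) (.node (.node (.node (.node .leaf (97316, 0, 16, 133364) .leaf) (97318, 0, 14, 123014) (.node .leaf (97320, 0, 15, 40309) .leaf)) (97322, 0, 17, 48668) (.node (.node .leaf (97324, 0, 18, 120602) .leaf) (97326, 0, 16, 34623)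 (.node .leaf (97328, 0, 17, 111604) .leaf))) (97330, 0, 14, 125293) (.node (.node (.node .leaf (97332, 0, 18, 101079) .leaf) (97334, 0, 18, 235120) (.node .leaf (97336, 0, 17, 191363) .leaf)) (97338, 0, 17, 66545) (.node (.node .leaf (97340, 0, 14, 241487) .leaf) (97342, 0, 10, 228588) (.node .leaf (97345, 0, 15, 199495) .leaf))))))

/-- part of the orbit tree -/
def itp2_489 : Tree := (.node (.node (.node (.node (.node (.node .leaf (97349, 0, 14, 95322) .leaf) (97351, 0, 18, 140210) (.node .leaf (97353, 0, 15, 254427) .leaf)) (97355, 0, 17, 2473) (.node (.node .leaf (97357, 0, 15, 87567) .leaf) (97359, 0, 18, 161460) (.node .leaf (97361, 0, 17, 97713) .leaf))) (97363, 0, 15, 25284) (.node (.node (.node .leaf (97365, 0, 15, 68546) .leaf) (97367, 0, 18, 60126) (.node .leaf (97369, 0, 18, 104237) .leaf)) (97371, 0, 14, 163679) (.node (.node .leaf (97373, 0, 16, 208474) .leaf) (97375, 0, 16, 163455) (.node .leaf (97377, 0, 18, 16705) .leaf)))) (97379, 0, 15, 106047) (.node (.node (.node (.node .leaf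 (97381, 0, 15, 30818) .leaf) (97383, 0, 17, 75847) (.node .leaf (97385, 0, 16, 156889) .leaf)) (97387, 0, 12, 95395) (.node (.node .leaf (97389, 0, 18, 155130) .leaf) (97391, 0, 18, 199614) (.node .leaf (97393, 0, 16, 187) .leaf))) (97395, 0, 14, 256201) (.node (.node (.node .leaf (97397, 0, 18, 131127) .leaf) (97399, 0, 15, 104404) (.node .leaf (97401, 0, 16, 7308) .leaf)) (97403, 0, 13, 197205) (.node (.node .leaf (97405, 0, 17, 9647) .leaf) (97407, 0, 16, 97608) (.node .leaf (97408, 0, 15, 153438) .leaf))))) (97410, 0, 17, 86776) (.node (.node (.node (.node (.node .leaf (97412, 0, 15, 159357) .leaf) (97414, 0, 15, 208357) (.node .leaf (97416, 0, 16, 151574) .leaf)) (97418, 0, 16, 112740) (.node (.node .leaf (97420, 0, 16, 12043) .leaf) (97422, 0, 15, 247673) (.node .leaf (97424, 0, 16, 12043) .leaf))) (97426, 0, 14, 205838) (.node (.node (.node .leaf (97428, 0, 17, 176993) .leaf) (97430, 0, 17, 88851) (.node .leaf (97432, 0, 17, 9952) .leaf)) (97434, 0, 16, 219830) (.node (.node .leaf (97436, 0,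 18, 154109) .leaf) (97438, 0, 18, 110991) (.node .leaf (97440, 0, 15, 247680) .leaf)))) (97442, 0, 15, 12274) (.node (.node (.node (.node .leaf (97444, 0, 16, 112797) .leaf) (97446, 0, 14, 151791) (.node .leaf (97448, 0, 17, 227635) .leaf)) (97450, 0, 18, 141590) (.node (.node .leaf (97452, 0, 16, 213008) .leaf) (97454, 0, 15, 135221) (.node .leaf (97456, 0, 17, 206078) .leaf))) (97458, 0, 15, 153860) (.node (.node (.node .leaf (97460, 0, 11, 249451) .leaf) (97462, 0, 9, 151032) (.node .leaf (97464, 0, 10, 89066) .leaf)) (97466, 0, 17, 20803) (.node (.node .leaf (97468, 0, 16, 79941) .leaf) (97470, 0, 15, 26720) (.node .leaf (97473, 0, 16, 47918) .leaf))))))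

/-- part of the orbit tree -/
def itp2_490 : Tree := (.node (.node (.node (.node (.node (.node .leaf (97477, 0, 11, 124061) .leaf) (97479, 0, 16, 46264) (.node .leaf (97481, 0, 14, 260134) .leaf)) (97483, 0, 18, 174083) (.node (.node .leaf (97485, 0, 15, 246021) .leaf) (97487, 0, 11, 168224) (.node .leaf (97489, 0, 17, 183768) .leaf))) (97491, 0, 16, 75178) (.node (.node (.node .leaf (97493, 0, 15, 45765) .leaf) (97495, 0, 13, 219831) (.node .leaf (97497, 0, 9, 98419) .leaf)) (97499, 0, 16, 118582) (.node (.node .leaf (97501, 0, 14, 22617) .leaf) (97503, 0, 13, 59765) (.node .leaf (97505, 0, 18, 185931) .leaf)))) (97507, 0, 15, 142934) (.node (.node (.node (.node .leaf (97509, 0, 11, 192360) .leaf) (97511, 0, 17, 20811) (.node .leaf (97513, 0, 17, 76984) .leaf)) (97515, 0, 15, 181450) (.node (.node .leaf (97517, 0, 17, 51952) .leaf) (97519, 0, 18, 48087) (.node .leaf (97521, 0, 15, 241874) .leaf))) (97523, 0, 14, 22688) (.node (.node (.node .leaf (97525, 0, 17, 118735) .leaf) (97527, 0, 17, 116504)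 (.node .leaf (97529, 0, 16, 219726) .leaf)) (97531, 0, 15, 45628) (.node (.node .leaf (97533, 0, 17, 176805) .leaf) (97535, 0, 13, 183585) (.node .leaf (97537, 0, 18, 242734) .leaf))))) (97539, 0, 17, 184931) (.node (.node (.node (.node (.node .leaf (97541, 0, 17, 244581) .leaf) (97543, 0, 17, 191296) (.node .leaf (97545, 0, 14, 108510) .leaf)) (97547, 0, 17, 46784) (.node (.node .leaf (97549, 0, 15, 74159) .leaf) (97551, 0, 16, 182749) (.node .leaf (97553, 0, 19, 129555) .leaf))) (97555, 0, 15, 43574) (.node (.node (.node .leaf (97557, 0, 16, 245189) .leaf) (97559, 0, 15, 37653) (.node .leaf (97561, 0, 15, 75844) .leaf)) (97563, 0, 14, 167854) (.node (.node .leaf (97565, 0, 15, 255656) .leaf) (97567, 0, 16, 48939) (.node .leaf (97569, 0, 17, 182564) .leaf)))) (97571, 0, 15, 74070) (.node (.node (.node (.node .leaf (97573, 0, 17, 46649) .leaf) (97575, 0, 16, 123061) (.node .leaf (97577, 0, 16, 140216) .leaf)) (97579, 0, 16, 261134) (.node (.node .leaf (97581, 0, 17, 23717) .leaf) (97583, 0, 15, 247085)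 (.node .leaf (97585, 0, 14, 49106) .leaf))) (97587, 0, 15, 219040) (.node (.node (.node .leaf (97589, 0, 14, 180431) .leaf) (97591, 0, 14, 75965) (.node .leaf (97593, 0, 17, 54398) .leaf)) (97595, 0, 14, 99419) (.node (.node .leaf (97597, 0, 16, 141907) .leaf) (97599, 0, 17, 115233) (.node .leaf (97600, 0, 19, 2214) .leaf))))))

/-- part of the orbit tree -/
def itp2_491 : Tree := (.node itp2_487 (97217, 0, 14, 215314) itp2_488)

/-- part of the orbit tree -/
def itp2_492 : Tree := (.node itp2_489 (97475, 0, 18, 36251) itp2_490)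

/-- part of the orbit tree -/
def itp2_493 : Tree := (.node (.node (.node (.node (.node (.node .leaf (97604, 0, 17, 12677) .leaf) (97606, 0, 15, 8933) (.node .leaf (97608, 0, 15, 89878) .leaf)) (97610, 0, 11, 178020) (.node (.node .leaf (97612, 0, 18, 136221) .leaf) (97614, 0, 17, 214072) (.node .leaf (97616, 0, 16, 159987) .leaf))) (97618, 0, 18, 205014) (.node (.node (.node .leaf (97620, 0, 14, 149968) .leaf) (97622, 0, 18, 152595) (.node .leaf (97624, 0, 17, 21867) .leaf)) (97626, 0, 15, 49554) (.node (.node .leaf (97628, 0, 14, 27720) .leaf) (97630, 0, 17, 81005) (.node .leaf (97632, 0, 17, 197459) .leaf)))) (97634, 0, 14, 152438) (.node (.node (.node (.node .leaf (97636, 0, 13, 211568) .leaf) (97638, 0, 15, 90095) (.node .leaf (97640, 0, 16, 75467) .leaf)) (97642, 0, 17, 248430) (.node (.node .leaf (97644, 0, 18, 73704) .leaf) (97646, 0, 16, 20429) (.node .leaf (97648, 0, 18, 179830) .leaf))) (97650, 0, 16, 87556) (.node (.node (.node .leaf (97652, 0, 14, 49515) .leaf) (97654, 0, 15, 4608) (.node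 .leaf (97656, 0, 17, 152810) .leaf)) (97658, 0, 12, 134843) (.node (.node .leaf (97660, 0, 15, 223165) .leaf) (97662, 0, 15, 246661) (.node .leaf (97665, 0, 15, 1095) .leaf))))) (97667, 0, 14, 17769) (.node (.node (.node (.node (.node .leaf (97669, 0, 17, 76911) .leaf) (97671, 0, 17, 103208) (.node .leaf (97673, 0, 15, 61147) .leaf)) (97675, 0, 15, 155889) (.node (.node .leaf (97677, 0, 17, 168390) .leaf) (97679, 0, 17, 96692) (.node .leaf (97681, 0, 16, 224537) .leaf))) (97683, 0, 18, 146748) (.node (.node (.node .leaf (97685, 0, 18, 3500) .leaf) (97687, 0, 14, 132127) (.node .leaf (97689, 0, 10, 170029) .leaf)) (97691, 0, 16, 6308) (.node (.node .leaf (97693, 0, 16, 94626) .leaf) (97695, 0, 13, 200514) (.node .leaf (97697, 0, 18, 138937) .leaf)))) (97699, 0, 14, 168255) (.node (.node (.node (.node .leaf (97701, 0, 16, 198224) .leaf) (97703, 0, 14, 60962) (.node .leaf (97705, 0, 16, 103377) .leaf)) (97707, 0, 16, 92932) (.node (.node .leaf (97709, 0, 17, 514) .leaf) (97711, 0, 12, 1214) (.node .leaf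 (97713, 0, 16, 26348) .leaf))) (97715, 0, 13, 79561) (.node (.node (.node .leaf (97717, 0, 16, 94374) .leaf) (97719, 0, 18, 69610) (.node .leaf (97721, 0, 16, 148340) .leaf)) (97723, 0, 16, 201553) (.node (.node .leaf (97725, 0, 16, 105018) .leaf) (97727, 0, 17, 207474) (.node .leaf (97728, 0, 18, 132579) .leaf))))))

/-- part of the orbit tree -/
def itp2_494 : Tree := (.node (.node (.node (.node (.node (.node .leaf (97732, 0, 15, 173711) .leaf) (97734, 0, 15, 259754) (.node .leaf (97736, 0, 17, 47668) .leaf)) (97738, 0, 18, 67341) (.node (.node .leaf (97740, 0, 18, 33559) .leaf) (97742, 0, 15, 119602) (.node .leaf (97744, 0, 16, 29461) .leaf))) (97746, 0, 17, 112604) (.node (.node (.node .leaf (97748, 0, 12, 57050) .leaf) (97750, 0, 15, 102143) (.node .leaf (97752, 0, 14, 180833) .leaf)) (97754, 0, 15, 234052) (.node (.node .leaf (97756, 0, 15, 195394) .leaf) (97758, 0, 17, 69350) (.node .leaf (97760, 0, 17, 227561) .leaf)))) (97762, 0, 13, 50300) (.node (.node (.node (.node .leaf (97764, 0, 16,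 109946) .leaf) (97766, 0, 15, 64863) (.node .leaf (97768, 0, 15, 242113) .leaf)) (97770, 0, 17, 31239) (.node (.node .leaf (97772, 0, 18, 231650) .leaf) (97774, 0, 13, 186567) (.node .leaf (97776, 0, 18, 257036) .leaf))) (97778, 0, 15, 179241) (.node (.node (.node .leaf (97780, 0, 17, 251183) .leaf) (97782, 0, 17, 165130) (.node .leaf (97784, 0, 16, 117140) .leaf)) (97786, 0, 15, 39345) (.node (.node .leaf (97788, 0, 14, 236446) .leaf) (97790, 0, 17, 29676) (.node .leaf (97856, 0, 17, 231074) .leaf))))) (97857, 0, 17, 222916) (.node (.node (.node (.node (.node .leaf (97858, 0, 17, 180023) .leaf) (97859, 0, 16, 58905) (.node .leaf (97860, 0, 17, 245633) .leaf)) (97861, 0, 17, 221159) (.node (.node .leaf (97862, 0, 15, 49194) .leaf) (97863, 0, 16, 170244) (.node .leaf (97864, 0, 14, 107322) .leaf))) (97865, 0, 17, 82780) (.node (.node (.node .leaf (97866, 0, 18, 62239) .leaf) (97867, 0, 14, 4985) (.node .leaf (97868, 0, 17, 104985) .leaf)) (97869, 0, 17, 105450) (.node (.node .leaf (97870, 0, 15, 10934)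 .leaf) (97871, 0, 17, 160664) (.node .leaf (97872, 0, 17, 130807) .leaf)))) (97873, 0, 19, 96413) (.node (.node (.node (.node .leaf (97874, 0, 15, 44754) .leaf) (97875, 0, 13, 168175) (.node .leaf (97876, 0, 16, 89774) .leaf)) (97877, 0, 13, 198528) (.node (.node .leaf (97878, 0, 11, 177884) .leaf) (97879, 0, 12, 61426) (.node .leaf (97880, 0, 17, 248623) .leaf))) (97881, 0, 17, 211721) (.node (.node (.node .leaf (97882, 0, 16, 166730) .leaf) (97883, 0, 18, 162419) (.node .leaf (97884, 0, 17, 254540) .leaf)) (97885, 0, 18, 197162) (.node (.node .leaf (97886, 0, 17, 176745) .leaf) (97887, 0, 19, 1390) (.node .leaf (97888, 0, 16, 10831) .leaf))))))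

/-- part of the orbit tree -/
def itp2_495 : Tree := (.node (.node (.node (.node (.node (.node .leaf (97890, 0, 14, 122226) .leaf) (97891, 0, 13, 81172) (.node .leaf (97892, 0, 16, 152914) .leaf)) (97893, 0, 16, 21522) (.node (.node .leaf (97894, 0, 19, 123985) .leaf) (97895, 0, 15, 66615) (.node .leaf (97896, 0, 14, 49363) .leaf))) (97897, 0, 17, 149673) (.node (.node (.node .leaf (97898, 0, 17, 207009) .leaf) (97899, 0, 14, 94607) (.node .leaf (97900, 0, 15, 168428) .leaf)) (97901, 0, 17, 59104) (.node (.node .leaf (97902, 0, 10, 87996) .leaf) (97903, 0, 16, 205231) (.node .leaf (97904, 0, 17, 154809) .leaf)))) (97905, 0, 13, 136548) (.node (.node (.node (.node .leaf (97906, 0, 16, 111819) .leaf) (97907, 0, 18, 214337) (.node .leaf (97908, 0, 15, 9124) .leaf)) (97909, 0, 10, 162442) (.node (.node .leaf (97910, 0, 17, 236548) .leaf) (97911, 0, 12, 103160) (.node .leaf (97912, 0, 16, 177701) .leaf))) (97913, 0, 14, 61195) (.node (.node (.node .leaf (97914, 0, 17, 98495) .leaf) (97915, 0, 17, 198521)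 (.node .leaf (97916, 0, 13, 51512) .leaf)) (97917, 0, 12, 2527) (.node (.node .leaf (97918, 0, 14, 205130) .leaf) (97919, 0, 17, 96356) (.node .leaf (97984, 0, 15, 70056) .leaf))))) (97985, 0, 14, 48642) (.node (.node (.node (.node (.node .leaf (97986, 0, 18, 69470) .leaf) (97987, 0, 9, 41451) (.node .leaf (97988, 0, 16, 75915) .leaf)) (97989, 0, 10, 180511) (.node (.node .leaf (97990, 0, 18, 225347) .leaf) (97991, 0, 12, 76141) (.node .leaf (97992, 0, 17, 134576) .leaf))) (97993, 0, 17, 250966) (.node (.node (.node .leaf (97994, 0, 16, 124354) .leaf) (97995, 0, 12, 164979) (.node .leaf (97996, 0, 18, 29357) .leaf)) (97997, 0, 18, 142211) (.node (.node .leaf (97998, 0, 15, 154934) .leaf) (97999, 0, 17, 115697) (.node .leaf (98000, 0, 13, 37338) .leaf)))) (98001, 0, 12, 231835) (.node (.node (.node (.node .leaf (98002, 0, 14, 227752) .leaf) (98003, 0, 18, 186814) (.node .leaf (98004, 0, 19, 192199) .leaf)) (98005, 0, 18, 47081) (.node (.node .leaf (98006, 0, 15, 67253) .leaf) (98007, 0, 15, 188573)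 (.node .leaf (98008, 0, 17, 85093) .leaf))) (98009, 0, 15, 139880) (.node (.node (.node .leaf (98010, 0, 15, 7232) .leaf) (98011, 0, 16, 64550) (.node .leaf (98012, 0, 13, 95558) .leaf)) (98013, 0, 18, 23925) (.node (.node .leaf (98014, 0, 14, 125993) .leaf) (98015, 0, 16, 50437) (.node .leaf (98016, 0, 16, 236070) .leaf))))))

/-- part of the orbit tree -/
def itp2_496 : Tree := (.node (.node (.node (.node (.node (.node .leaf (98018, 0, 16, 29268) .leaf) (98019, 0, 16, 142202) (.node .leaf (98020, 0, 16, 140158) .leaf)) (98021, 0, 14, 181016) (.node (.node .leaf (98022, 0, 15, 134473) .leaf) (98023, 0, 16, 234301) (.node .leaf (98024, 0, 15, 16325) .leaf))) (98025, 0, 17, 76180) (.node (.node (.node .leaf (98026, 0, 17, 94176) .leaf) (98027, 0, 15, 102278) (.node .leaf (98028, 0, 17, 69543) .leaf)) (98029, 0, 16, 59008) (.node (.node .leaf (98030, 0, 17, 190421) .leaf) (98031, 0, 15, 112293) (.node .leaf (98032, 0, 15, 126160) .leaf)))) (98033, 0, 12, 33390) (.node (.node (.node (.node .leaf (98034,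 0, 17, 132258) .leaf) (98035, 0, 16, 119371) (.node .leaf (98036, 0, 15, 234445) .leaf)) (98037, 0, 19, 47949) (.node (.node .leaf (98038, 0, 16, 68366) .leaf) (98039, 0, 16, 139921) (.node .leaf (98040, 0, 17, 67148) .leaf))) (98041, 0, 17, 174070) (.node (.node (.node .leaf (98042, 0, 16, 202677) .leaf) (98043, 0, 13, 260051) (.node .leaf (98044, 0, 17, 163507) .leaf)) (98045, 0, 15, 73855) (.node (.node .leaf (98046, 0, 16, 208534) .leaf) (98047, 0, 16, 182285) (.node .leaf (98048, 0, 14, 216656) .leaf))))) (98049, 0, 16, 241206) (.node (.node (.node (.node (.node .leaf (98050, 0, 13, 138869) .leaf) (98051, 0, 14, 22896) (.node .leaf (98052, 0, 17, 235313) .leaf)) (98053, 0, 17, 235285) (.node (.node .leaf (98054, 0, 17, 32579) .leaf) (98055, 0, 17, 140909) (.node .leaf (98056, 0, 17, 93128) .leaf))) (98057, 0, 17, 220062) (.node (.node (.node .leaf (98058, 0, 16, 191170) .leaf) (98059, 0, 13, 46060) (.node .leaf (98060, 0, 17, 228781) .leaf)) (98061, 0, 15, 74883) (.node (.node .leaf (98062, 0,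 13, 38367) .leaf) (98063, 0, 15, 183537) (.node .leaf (98064, 0, 18, 237274) .leaf)))) (98065, 0, 15, 120419) (.node (.node (.node (.node .leaf (98066, 0, 14, 26144) .leaf) (98067, 0, 16, 34374) (.node .leaf (98068, 0, 15, 69414) .leaf)) (98069, 0, 19, 126784) (.node (.node .leaf (98070, 0, 13, 24323) .leaf) (98071, 0, 18, 20635) (.node .leaf (98072, 0, 16, 201629) .leaf))) (98073, 0, 13, 259067) (.node (.node (.node .leaf (98074, 0, 12, 39988) .leaf) (98075, 0, 16, 181530) (.node .leaf (98076, 0, 16, 207550) .leaf)) (98077, 0, 17, 248536) (.node (.node .leaf (98078, 0, 18, 189225) .leaf) (98079, 0, 15, 47623) .leaf)))))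

/-- part of the orbit tree -/
def itp2_497 : Tree := (.node itp2_493 (97730, 0, 18, 249737) itp2_494)

/-- part of the orbit tree -/
def itp2_498 : Tree := (.node itp2_495 (98017, 0, 18, 115464) itp2_496)

/-- part of the orbit tree -/
def itp2_499 : Tree := (.node itp2_491 (97347, 0, 16, 58165) itp2_492)

/-- part of the orbit tree -/
def itp2_500 : Tree := (.node itp2_497 (97889, 0, 17, 27953) itp2_498)

/-- part of the orbit tree -/
def itp2_501 : Tree := (.node itp2_485 (96581, 0, 16, 117579) itp2_486)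

/-- part of the orbit tree -/
def itp2_502 : Tree := (.node itp2_499 (97602, 0, 16, 88195) itp2_500)

/-- part of the orbit tree -/
def itp2_503 : Tree := (.node itp2_471 (95045, 0, 18, 187998) itp2_472)

/-- part of the orbit tree -/
def itp2_504 : Tree := (.node itp2_501 (97089, 0, 15, 122392) itp2_502)

/-- part of the orbit tree -/
def itp2_505 : Tree := (.node itp2_441 (91978, 0, 17, 14949) itp2_442)

/-- part of the orbit tree -/
def itp2_506 : Tree := (.node itp2_503 (96066, 0, 16, 138731) itp2_504)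

/-- part of the orbit tree -/
def itp2_507 : Tree := (.node itp2_379 (85844, 0, 13, 107406) itp2_380)

/-- part of the orbit tree -/
def itp2_508 : Tree := (.node itp2_505 (94020, 0, 17, 67815) itp2_506)

/-- part of the orbit tree -/
def itp2_509 : Tree := (.node itp2_253 (73576, 0, 16, 210946) itp2_254)

/-- part of the orbit tree -/
def itp2_510 : Tree := (.node itp2_507 (89928, 0, 10, 180481) itp2_508)

/-- part of the orbit tree -/
def itr_2 : Tree := (.node itp2_509 (81744, 0, 17, 44782) itp2_510)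

end Cfsg.Agent.Lib.Helper28.J3IsoData
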