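import Cfsg.Agent.Lib.Helper28.BSGSF4

/-!
# The orbit of the triple cover of `J₃` on isotropic vectors: part 3 of the orbit tree

Generated by a script.
-/

set_option autoImplicit false

namespace Cfsg.Agent.Lib.Helper28.J3IsoData

open Cfsg.Agent.Lib.Helper28.BSGSMat (Tree)

/-- part of the orbit tree -/
def itp3_1 : Tree := (.node (.node (.node (.node (.node (.node .leaf (98081, 0, 18, 42435) .leaf) (98082, 0, 16, 71040) (.node .leaf (98083, 0, 18, 74874) .leaf)) (98084, 0, 16, 191035) (.node (.node .leaf (98085, 0, 17, 45845) .leaf) (98086, 0, 17, 76963) (.node .leaf (98087, 0, 16, 117957) .leaf))) (98088, 0, 13, 32698) (.node (.node (.node .leaf (98089, 0, 16, 163931) .leaf) (98090, 0, 14, 235464) (.node .leaf (98091, 0, 19, 118502) .leaf)) (98092, 0, 16, 153886) (.node (.node .leaf (98093, 0, 16, 178552) .leaf) (98094, 0, 15, 198971) (.node .leaf (98095, 0, 17, 256349) .leaf)))) (98096, 0, 15, 189392) (.node (.node (.node (.node .leaf (98097, 0, 17, 187798) .leaf) (98098, 0, 12, 68514) (.node .leaf (98099, 0, 17, 217740)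 .leaf)) (98100, 0, 19, 40141) (.node (.node .leaf (98101, 0, 11, 181731) .leaf) (98102, 0, 17, 218358) (.node .leaf (98103, 0, 17, 77201) .leaf))) (98104, 0, 16, 6248) (.node (.node (.node .leaf (98105, 0, 15, 20578) .leaf) (98106, 0, 16, 123198) (.node .leaf (98107, 0, 15, 108587) .leaf)) (98108, 0, 17, 30289) (.node (.node .leaf (98109, 0, 18, 143231) .leaf) (98110, 0, 17, 94574) (.node .leaf (98111, 0, 16, 116493) .leaf))))) (98176, 0, 16, 153669) (.node (.node (.node (.node (.node .leaf (98177, 0, 15, 363) .leaf) (98178, 0, 17, 35199) (.node .leaf (98179, 0, 17, 26905) .leaf)) (98180, 0, 14, 10072) (.node (.node .leaf (98181, 0, 16, 163446) .leaf) (98182, 0, 17, 249642) (.node .leaf (98183, 0, 19, 20538) .leaf))) (98184, 0, 16, 176857) (.node (.node (.node .leaf (98185, 0, 14, 203940) .leaf) (98186, 0, 14, 175335) (.node .leaf (98187, 0, 18, 197509) .leaf)) (98188, 0, 14, 247265) (.node (.node .leaf (98189, 0, 13, 206215) .leaf) (98190, 0, 13, 206262) (.node .leaf (98191, 0, 18, 161186) .leaf)))) (98192, 0, 17, 237839)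 (.node (.node (.node (.node .leaf (98193, 0, 12, 213353) .leaf) (98194, 0, 12, 247489) (.node .leaf (98195, 0, 18, 106479) .leaf)) (98196, 0, 18, 151982) (.node (.node .leaf (98197, 0, 13, 227402) .leaf) (98198, 0, 17, 182281) (.node .leaf (98199, 0, 16, 254194) .leaf))) (98200, 0, 9, 50223) (.node (.node (.node .leaf (98201, 0, 18, 171265) .leaf) (98202, 0, 18, 207965) (.node .leaf (98203, 0, 19, 95603) .leaf)) (98204, 0, 13, 178994) (.node (.node .leaf (98205, 0, 17, 89554) .leaf) (98206, 0, 16, 86848) (.node .leaf (98207, 0, 17, 199278) .leaf))))))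

/-- part of the orbit tree -/
def itp3_2 : Tree := (.node (.node (.node (.node (.node (.node .leaf (98209, 0, 15, 144073) .leaf) (98210, 0, 15, 52541) (.node .leaf (98211, 0, 18, 221932) .leaf)) (98212, 0, 17, 191372) (.node (.node .leaf (98213, 0, 18, 134122) .leaf) (98214, 0, 18, 244649) (.node .leaf (98215, 0, 16, 60174) .leaf))) (98216, 0, 17, 63287) (.node (.node (.node .leaf (98217, 0, 14, 104189) .leaf) (98218, 0, 17, 10145) (.node .leaf (98219, 0, 17, 83828) .leaf)) (98220, 0, 14, 110798) (.node (.node .leaf (98221, 0, 15, 11890) .leaf) (98222, 0, 16, 153788) (.node .leaf (98223, 0, 13, 97879) .leaf)))) (98224, 0, 17, 43770) (.node (.node (.node (.node .leaf (98225, 0, 19, 19100) .leaf) (98226, 0, 16, 129759) (.node .leaf (98227, 0, 16, 58085) .leaf)) (98228, 0, 15, 37849) (.node (.node .leaf (98229, 0, 17, 95626) .leaf) (98230, 0, 16, 50390) (.node .leaf (98231, 0, 18, 171512) .leaf))) (98232, 0, 13, 112933) (.node (.node (.node .leaf (98233, 0, 17, 159492) .leaf) (98234, 0, 16, 253767) (.node .leaf (98235, 0, 17,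 2169) .leaf)) (98236, 0, 13, 177729) (.node (.node .leaf (98237, 0, 17, 153127) .leaf) (98238, 0, 17, 11850) (.node .leaf (98239, 0, 17, 198146) .leaf))))) (98304, 0, 17, 143348) (.node (.node (.node (.node (.node .leaf (98307, 0, 12, 237224) .leaf) (98309, 0, 15, 133575) (.node .leaf (98310, 0, 16, 232952) .leaf)) (98313, 0, 18, 8448) (.node (.node .leaf (98314, 0, 15, 77082) .leaf) (98316, 0, 13, 47733) (.node .leaf (98319, 0, 17, 83974) .leaf))) (98321, 0, 15, 31949) (.node (.node (.node .leaf (98322, 0, 16, 117902) .leaf) (98324, 0, 16, 140831) (.node .leaf (98327, 0, 16, 71115) .leaf)) (98328, 0, 16, 178483) (.node (.node .leaf (98331, 0, 13, 199024) .leaf) (98333, 0, 14, 38317) (.node .leaf (98334, 0, 17, 249909) .leaf)))) (98337, 0, 17, 68560) (.node (.node (.node (.node .leaf (98338, 0, 18, 48942) .leaf) (98340, 0, 10, 120360) (.node .leaf (98343, 0, 14, 26219) .leaf)) (98344, 0, 16, 243810) (.node (.node .leaf (98347, 0, 12, 133438) .leaf) (98349, 0, 11, 237137) (.node .leaf (98350, 0, 15, 143117) .leaf))) (98352,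 0, 18, 74760) (.node (.node (.node .leaf (98355, 0, 14, 38228) .leaf) (98357, 0, 15, 66107) (.node .leaf (98358, 0, 17, 196184) .leaf)) (98361, 0, 17, 235450) (.node (.node .leaf (98362, 0, 15, 141030) .leaf) (98364, 0, 16, 101349) (.node .leaf (98367, 0, 16, 15270) .leaf))))))

/-- part of the orbit tree -/
def itp3_3 : Tree := (.node (.node (.node (.node (.node (.node .leaf (98371, 0, 18, 247330) .leaf) (98373, 0, 16, 87869) (.node .leaf (98374, 0, 18, 253969) .leaf)) (98377, 0, 16, 215942) (.node (.node .leaf (98378, 0, 16, 195525) .leaf) (98380, 0, 16, 234179) (.node .leaf (98383, 0, 12, 86947) .leaf))) (98385, 0, 16, 202315) (.node (.node (.node .leaf (98386, 0, 18, 256506) .leaf) (98388, 0, 13, 249614) (.node .leaf (98391, 0, 14, 249801) .leaf)) (98392, 0, 15, 60180) (.node (.node .leaf (98395, 0, 18, 25590) .leaf) (98397, 0, 17, 68336) (.node .leaf (98398, 0, 14, 97403) .leaf)))) (98401, 0, 17, 157163) (.node (.node (.node (.node .leaf (98402, 0, 12, 57862) .leaf) (98404, 0, 16, 95593) (.node .leaf (98407, 0, 14, 199917)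 .leaf)) (98408, 0, 17, 254184) (.node (.node .leaf (98411, 0, 18, 151988) .leaf) (98413, 0, 17, 31056) (.node .leaf (98414, 0, 15, 117011) .leaf))) (98416, 0, 18, 97410) (.node (.node (.node .leaf (98419, 0, 8, 85403) .leaf) (98421, 0, 16, 9373) (.node .leaf (98422, 0, 16, 103646) .leaf)) (98425, 0, 15, 145446) (.node (.node .leaf (98426, 0, 17, 231525) .leaf) (98428, 0, 17, 188771) (.node .leaf (98431, 0, 12, 153695) .leaf))))) (98432, 0, 15, 106397) (.node (.node (.node (.node (.node .leaf (98435, 0, 17, 11969) .leaf) (98437, 0, 14, 43697) (.node .leaf (98438, 0, 17, 72434) .leaf)) (98441, 0, 14, 207919) (.node (.node .leaf (98442, 0, 16, 171379) .leaf) (98444, 0, 16, 159567) (.node .leaf (98447, 0, 16, 253708) .leaf))) (98449, 0, 13, 110661) (.node (.node (.node .leaf (98450, 0, 17, 281) .leaf) (98452, 0, 16, 104054) (.node .leaf (98455, 0, 17, 10026) .leaf)) (98456, 0, 18, 197623) (.node (.node .leaf (98459, 0, 13, 106106) .leaf) (98461, 0, 16, 206276) (.node .leaf (98462, 0, 18, 83775) .leaf)))) (98465, 0, 10, 235623)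 (.node (.node (.node (.node .leaf (98466, 0, 16, 199397) .leaf) (98468, 0, 15, 171402) (.node .leaf (98471, 0, 18, 208086) .leaf)) (98472, 0, 15, 89497) (.node (.node .leaf (98475, 0, 17, 60890) .leaf) (98477, 0, 17, 99548) (.node .leaf (98478, 0, 15, 13471) .leaf))) (98480, 0, 17, 65620) (.node (.node (.node .leaf (98483, 0, 16, 45079) .leaf) (98485, 0, 17, 121105) (.node .leaf (98486, 0, 15, 26962) .leaf)) (98489, 0, 18, 247210) (.node (.node .leaf (98490, 0, 16, 104079) .leaf) (98492, 0, 15, 480) (.node .leaf (98495, 0, 16, 110780) .leaf))))))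

/-- part of the orbit tree -/
def itp3_4 : Tree := (.node (.node (.node (.node (.node (.node .leaf (98499, 0, 15, 174385) .leaf) (98501, 0, 16, 245815) (.node .leaf (98502, 0, 15, 20600) .leaf)) (98505, 0, 14, 226469) (.node (.node .leaf (98506, 0, 16, 27855) .leaf) (98508, 0, 15, 67017) (.node .leaf (98511, 0, 14, 46474) .leaf))) (98513, 0, 17, 98625) (.node (.node (.node .leaf (98514, 0, 17, 12546) .leaf) (98516, 0, 16, 88068) (.node .leaf (98519, 0, 11, 59463) .leaf)) (98520, 0, 17, 214207) (.node (.node .leaf (98523, 0, 15, 193788) .leaf) (98525, 0, 15, 228686) (.node .leaf (98526, 0, 14, 183314) .leaf)))) (98529, 0, 13, 189235) (.node (.node (.node (.node .leaf (98530, 0, 14, 82594) .leaf) (98532, 0, 15, 181504) (.node .leaf (98535, 0, 18, 105447) .leaf)) (98536, 0, 17, 145183) (.node (.node .leaf (98539, 0, 15, 231260) .leaf) (98541, 0, 15, 30386) (.node .leaf (98542, 0, 16, 116718) .leaf))) (98544, 0, 19, 183531) (.node (.node (.node .leaf (98547, 0, 16, 252561) .leaf) (98549, 0, 15, 177047) (.node .leaf (98550, 0,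 18, 197588) .leaf)) (98553, 0, 15, 32601) (.node (.node .leaf (98554, 0, 14, 118277) .leaf) (98556, 0, 17, 30313) (.node .leaf (98559, 0, 17, 116266) .leaf))))) (98561, 0, 12, 37177) (.node (.node (.node (.node (.node .leaf (98562, 0, 17, 5807) .leaf) (98564, 0, 15, 98217) (.node .leaf (98567, 0, 16, 53226) .leaf)) (98568, 0, 17, 139915) (.node (.node .leaf (98571, 0, 17, 185169) .leaf) (98573, 0, 12, 132280) (.node .leaf (98574, 0, 17, 243172) .leaf))) (98576, 0, 16, 48865) (.node (.node (.node .leaf (98579, 0, 14, 167580) .leaf) (98581, 0, 15, 39122) (.node .leaf (98582, 0, 14, 76174) .leaf)) (98585, 0, 16, 129825) (.node (.node .leaf (98586, 0, 16, 19298) .leaf) (98588, 0, 17, 74340) (.node .leaf (98591, 0, 15, 236092) .leaf)))) (98592, 0, 11, 150911) (.node (.node (.node (.node .leaf (98595, 0, 15, 132161) .leaf) (98597, 0, 12, 234286) (.node .leaf (98598, 0, 15, 139890) .leaf)) (98601, 0, 18, 67247) (.node (.node .leaf (98602, 0, 18, 47091) .leaf) (98604, 0, 16, 73884) (.node .leaf (98607, 0, 15, 37312) .leaf))) (98609,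 0, 12, 54604) (.node (.node (.node .leaf (98610, 0, 16, 142233) .leaf) (98612, 0, 9, 3081) (.node .leaf (98615, 0, 18, 113738) .leaf)) (98616, 0, 18, 76151) (.node (.node .leaf (98619, 0, 15, 237809) .leaf) (98621, 0, 18, 182775) (.node .leaf (98622, 0, 18, 227764) .leaf))))))

/-- part of the orbit tree -/
def itp3_5 : Tree := (.node itp3_1 (98208, 0, 18, 185007) itp3_2)

/-- part of the orbit tree -/
def itp3_6 : Tree := (.node itp3_3 (98496, 0, 18, 116503) itp3_4)

/-- part of the orbit tree -/
def itp3_7 : Tree := (.node (.node (.node (.node (.node (.node .leaf (98626, 0, 17, 96495) .leaf) (98628, 0, 17, 136495) (.node .leaf (98631, 0, 17, 238956) .leaf)) (98632, 0, 17, 2452) (.node (.node .leaf (98635, 0, 13, 248669) .leaf) (98637, 0, 17, 154674) (.node .leaf (98638, 0, 14, 90258) .leaf))) (98640, 0, 15, 21593) (.node (.node (.node .leaf (98643, 0, 17, 87863) .leaf) (98645, 0, 16, 36124) (.node .leaf (98646, 0, 15, 81247) .leaf)) (98649, 0, 15, 168359) (.node (.node .leaf (98650, 0, 13, 255109) .leaf) (98652, 0, 17,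 149730) (.node .leaf (98655, 0, 19, 260257) .leaf)))) (98656, 0, 16, 75769) (.node (.node (.node (.node .leaf (98659, 0, 18, 38842) .leaf) (98661, 0, 17, 130748) (.node .leaf (98662, 0, 15, 20223) .leaf)) (98665, 0, 16, 254471) (.node (.node .leaf (98666, 0, 15, 61305) .leaf) (98668, 0, 16, 211778) (.node .leaf (98671, 0, 15, 51530) .leaf))) (98673, 0, 13, 245706) (.node (.node (.node .leaf (98674, 0, 16, 135049) .leaf) (98676, 0, 16, 222863) (.node .leaf (98679, 0, 15, 152864) .leaf)) (98680, 0, 19, 94717) (.node (.node .leaf (98683, 0, 17, 51831) .leaf) (98685, 0, 12, 88014) (.node .leaf (98686, 0, 17, 59026) .leaf))))) (98689, 0, 17, 205136) (.node (.node (.node (.node (.node .leaf (98690, 0, 18, 167948) .leaf) (98692, 0, 17, 256163) (.node .leaf (98695, 0, 16, 153824) .leaf)) (98696, 0, 16, 128024) (.node (.node .leaf (98699, 0, 15, 17499) .leaf) (98701, 0, 18, 111825) (.node .leaf (98702, 0, 15, 40222) .leaf))) (98704, 0, 16, 200328) (.node (.node (.node .leaf (98707, 0, 13, 6550) .leaf) (98709, 0, 13, 94352) (.node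 .leaf (98710, 0, 14, 49363) .leaf)) (98713, 0, 14, 113978) (.node (.node .leaf (98714, 0, 17, 187496) .leaf) (98716, 0, 16, 105225) (.node .leaf (98719, 0, 15, 10837) .leaf)))) (98720, 0, 15, 1396) (.node (.node (.node (.node .leaf (98723, 0, 16, 92726) .leaf) (98725, 0, 16, 816) (.node .leaf (98726, 0, 17, 102939) .leaf)) (98729, 0, 16, 177862) (.node (.node .leaf (98730, 0, 14, 241608) .leaf) (98732, 0, 15, 181966) (.node .leaf (98735, 0, 15, 205225) .leaf))) (98737, 0, 14, 148038) (.node (.node (.node .leaf (98738, 0, 18, 105456) .leaf) (98740, 0, 17, 170755) (.node .leaf (98743, 0, 15, 114115) .leaf)) (98744, 0, 13, 170270) (.node (.node .leaf (98747, 0, 16, 79867) .leaf) (98749, 0, 17, 180013) (.node .leaf (98750, 0, 14, 126654) .leaf))))))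

/-- part of the orbit tree -/
def itp3_8 : Tree := (.node (.node (.node (.node (.node (.node .leaf (98754, 0, 18, 125731) .leaf) (98756, 0, 16, 221161) (.node .leaf (98759, 0, 18, 192181) .leaf)) (98760, 0, 17, 171678) (.node (.node .leaf (98763, 0, 15, 208605) .leaf) (98765, 0, 12, 149467) (.node .leaf (98766, 0, 14, 23815) .leaf))) (98768, 0, 17, 181075) (.node (.node (.node .leaf (98771, 0, 16, 190302) .leaf) (98773, 0, 19, 225329) (.node .leaf (98774, 0, 18, 240213) .leaf)) (98777, 0, 14, 1709) (.node (.node .leaf (98778, 0, 17, 21740) .leaf) (98780, 0, 17, 115587) (.node .leaf (98783, 0, 18, 29407) .leaf)))) (98784, 0, 16, 24062) (.node (.node (.node (.node .leaf (98787, 0, 15, 126114) .leaf) (98789, 0, 16, 31693) (.node .leaf (98790, 0, 16, 117393) .leaf)) (98793, 0, 12, 192076) (.node (.node .leaf (98794, 0, 16, 220944) .leaf) (98796, 0, 18, 109640) (.node .leaf (98799, 0, 10, 227619) .leaf))) (98801, 0, 17, 75968) (.node (.node (.node .leaf (98802, 0, 14, 115578) .leaf) (98804, 0, 16, 21525) (.node .leaf (98807,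 0, 11, 16838) .leaf)) (98808, 0, 17, 257342) (.node (.node .leaf (98811, 0, 16, 155005) .leaf) (98813, 0, 17, 210043) (.node .leaf (98814, 0, 17, 218875) .leaf))))) (98818, 0, 16, 235691) (.node (.node (.node (.node (.node .leaf (98819, 0, 17, 236420) .leaf) (98820, 0, 16, 192941) (.node .leaf (98821, 0, 14, 135627) .leaf)) (98824, 0, 16, 60694) (.node (.node .leaf (98825, 0, 13, 3440) .leaf) (98830, 0, 17, 99344) (.node .leaf (98831, 0, 18, 91254) .leaf))) (98832, 0, 17, 23598) (.node (.node (.node .leaf (98833, 0, 15, 20669) .leaf) (98838, 0, 17, 117569) (.node .leaf (98839, 0, 17, 80315) .leaf)) (98842, 0, 16, 247142) (.node (.node .leaf (98843, 0, 17, 67566) .leaf) (98844, 0, 17, 175200) (.node .leaf (98845, 0, 10, 150534) .leaf)))) (98848, 0, 15, 115579) (.node (.node (.node (.node .leaf (98849, 0, 17, 69372) .leaf) (98854, 0, 17, 180413) (.node .leaf (98855, 0, 18, 18971) .leaf)) (98858, 0, 16, 177862) (.node (.node .leaf (98859, 0, 14, 153248) .leaf) (98860, 0, 16, 115283) (.node .leaf (98861, 0, 16, 236413) .leaf)))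 (98866, 0, 12, 182614) (.node (.node (.node .leaf (98867, 0, 18, 133997) .leaf) (98868, 0, 14, 220729) (.node .leaf (98869, 0, 13, 221803) .leaf)) (98872, 0, 16, 106166) (.node (.node .leaf (98873, 0, 14, 98000) .leaf) (98878, 0, 15, 63408) (.node .leaf (98879, 0, 15, 132601) .leaf))))))

/-- part of the orbit tree -/
def itp3_9 : Tree := (.node (.node (.node (.node (.node (.node .leaf (98883, 0, 16, 4683) .leaf) (98884, 0, 16, 3407) (.node .leaf (98885, 0, 13, 152673) .leaf)) (98888, 0, 16, 231312) (.node (.node .leaf (98889, 0, 14, 223222) .leaf) (98894, 0, 19, 192150) (.node .leaf (98895, 0, 12, 134896) .leaf))) (98896, 0, 18, 252509) (.node (.node (.node .leaf (98897, 0, 15, 155018) .leaf) (98902, 0, 19, 103371) (.node .leaf (98903, 0, 13, 248549) .leaf)) (98906, 0, 11, 198218) (.node (.node .leaf (98907, 0, 18, 89956) .leaf) (98908, 0, 16, 168229) (.node .leaf (98909, 0, 15, 51211) .leaf)))) (98912, 0, 13, 200536) (.node (.node (.node (.node .leaf (98913, 0, 16, 87670) .leaf) (98918, 0, 18, 170039) (.node .leaf (98919,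 0, 19, 49433) .leaf)) (98922, 0, 17, 3510) (.node (.node .leaf (98923, 0, 14, 152728) .leaf) (98924, 0, 16, 105177) (.node .leaf (98925, 0, 15, 246775) .leaf))) (98930, 0, 16, 168412) (.node (.node (.node .leaf (98931, 0, 12, 90603) .leaf) (98932, 0, 19, 59531) (.node .leaf (98933, 0, 16, 90013) .leaf)) (98936, 0, 16, 193584) (.node (.node .leaf (98937, 0, 18, 248348) .leaf) (98942, 0, 16, 1117) (.node .leaf (98943, 0, 15, 154995) .leaf))))) (98946, 0, 17, 69537) (.node (.node (.node (.node (.node .leaf (98947, 0, 9, 11245) .leaf) (98948, 0, 18, 26279) (.node .leaf (98949, 0, 15, 113794) .leaf)) (98952, 0, 19, 94253) (.node (.node .leaf (98953, 0, 15, 207107) .leaf) (98958, 0, 15, 59202) (.node .leaf (98959, 0, 16, 258940) .leaf))) (98960, 0, 17, 141265) (.node (.node (.node .leaf (98961, 0, 14, 182199) .leaf) (98966, 0, 16, 162600) (.node .leaf (98967, 0, 18, 8710) .leaf)) (98970, 0, 13, 86636) (.node (.node .leaf (98971, 0, 17, 111114) .leaf) (98972, 0, 17, 15210) (.node .leaf (98973, 0, 17, 205032) .leaf)))) (98976, 0,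 16, 218225) (.node (.node (.node (.node .leaf (98977, 0, 16, 179861) .leaf) (98982, 0, 19, 146807) (.node .leaf (98983, 0, 15, 187665) .leaf)) (98986, 0, 16, 8652) (.node (.node .leaf (98987, 0, 18, 49578) .leaf) (98988, 0, 15, 84170) (.node .leaf (98989, 0, 17, 11028) .leaf))) (98994, 0, 15, 31745) (.node (.node (.node .leaf (98995, 0, 16, 40039) .leaf) (98996, 0, 13, 61008) (.node .leaf (98997, 0, 11, 128353) .leaf)) (99000, 0, 17, 199100) (.node (.node .leaf (99001, 0, 12, 256474) .leaf) (99006, 0, 16, 155834) (.node .leaf (99007, 0, 17, 164060) .leaf))))))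

/-- part of the orbit tree -/
def itp3_10 : Tree := (.node (.node (.node (.node (.node (.node .leaf (99011, 0, 16, 29543) .leaf) (99012, 0, 15, 245030) (.node .leaf (99013, 0, 18, 123912) .leaf)) (99016, 0, 15, 75943) (.node (.node .leaf (99017, 0, 16, 225673) .leaf) (99022, 0, 15, 31132) (.node .leaf (99023, 0, 18, 190182) .leaf))) (99024, 0, 16, 242893) (.node (.node (.node .leaf (99025, 0, 16, 109873) .leaf) (99030, 0, 18, 140194) (.node .leaf (99031, 0, 16, 31372) .leaf)) (99034, 0, 17, 145642) (.node (.node .leaf (99035, 0, 14, 192269) .leaf) (99036, 0, 15, 217580) (.node .leaf (99037, 0, 17, 227426) .leaf)))) (99040, 0, 18, 48945) (.node (.node (.node (.node .leaf (99041, 0, 16, 189983) .leaf) (99046, 0, 17, 88049) (.node .leaf (99047, 0, 17, 225648) .leaf)) (99050, 0, 17, 215882) (.node (.node .leaf (99051, 0, 17, 240428) .leaf) (99052, 0, 15, 142000) (.node .leaf (99053, 0, 14, 29598) .leaf))) (99058, 0, 17, 74165) (.node (.node (.node .leaf (99059, 0, 14, 259809) .leaf) (99060, 0, 12, 163713) (.node .leaf (99061,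 0, 17, 192500) .leaf)) (99064, 0, 15, 25402) (.node (.node .leaf (99065, 0, 16, 33628) .leaf) (99070, 0, 18, 242740) (.node .leaf (99071, 0, 14, 125530) .leaf))))) (99072, 0, 16, 183611) (.node (.node (.node (.node (.node .leaf (99073, 0, 15, 101020) .leaf) (99078, 0, 15, 1020) (.node .leaf (99079, 0, 14, 66426) .leaf)) (99082, 0, 19, 139079) (.node (.node .leaf (99083, 0, 17, 196385) .leaf) (99084, 0, 16, 22714) (.node .leaf (99085, 0, 16, 235047) .leaf))) (99090, 0, 16, 218047) (.node (.node (.node .leaf (99091, 0, 16, 172780) .leaf) (99092, 0, 18, 181456) (.node .leaf (99093, 0, 16, 40446) .leaf)) (99096, 0, 16, 20817) (.node (.node .leaf (99097, 0, 18, 133247) .leaf) (99102, 0, 16, 24113) (.node .leaf (99103, 0, 14, 48727) .leaf)))) (99106, 0, 18, 22595) (.node (.node (.node (.node .leaf (99107, 0, 15, 131437) .leaf) (99108, 0, 16, 153644) (.node .leaf (99109, 0, 16, 178250) .leaf)) (99112, 0, 17, 17559) (.node (.node .leaf (99113, 0, 17, 42225) .leaf) (99118, 0, 17, 77201) (.node .leaf (99119, 0, 16, 38124) .leaf)))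 (99120, 0, 18, 6490) (.node (.node (.node .leaf (99121, 0, 16, 237545) .leaf) (99126, 0, 17, 20904) (.node .leaf (99127, 0, 15, 102458) .leaf)) (99130, 0, 14, 181289) (.node (.node .leaf (99131, 0, 17, 232577) .leaf) (99132, 0, 17, 217926) .leaf)))))

/-- part of the orbit tree -/
def itp3_11 : Tree := (.node itp3_7 (98753, 0, 17, 227802) itp3_8)

/-- part of the orbit tree -/
def itp3_12 : Tree := (.node itp3_9 (99010, 0, 14, 141897) itp3_10)

/-- part of the orbit tree -/
def itp3_13 : Tree := (.node itp3_5 (98368, 0, 18, 102008) itp3_6)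

/-- part of the orbit tree -/
def itp3_14 : Tree := (.node itp3_11 (98882, 0, 16, 61997) itp3_12)

/-- part of the orbit tree -/
def itp3_15 : Tree := (.node (.node (.node (.node (.node (.node .leaf (99136, 0, 17, 131196) .leaf) (99137, 0, 18, 52383) (.node .leaf (99142, 0, 17, 197342) .leaf)) (99143, 0, 15, 231708) (.node (.node .leaf (99146, 0, 16, 104287) .leaf) (99147, 0, 18, 103847) (.node .leaf (99148, 0, 13, 7367) .leaf))) (99149, 0, 14, 64673) (.node (.node (.node .leaf (99154, 0, 18, 75788) .leaf) (99155, 0, 14, 116842) (.node .leaf (99156, 0, 17, 16650) .leaf)) (99157, 0, 17, 41324) (.node (.node .leaf (99160, 0, 13, 155057) .leaf) (99161, 0, 17, 151797) (.node .leaf (99166, 0, 17, 106164) .leaf)))) (99167, 0, 16, 247706) (.node (.node (.node (.node .leaf (99170, 0, 16, 23468) .leaf) (99171, 0, 14, 154087) (.node .leaf (99172, 0, 16, 78506) .leaf)) (99173, 0, 18, 119500) (.node (.node .leaf (99176, 0, 18, 208401) .leaf) (99177, 0, 15, 249463) (.node .leaf (99182, 0, 17, 169288) .leaf))) (99183, 0, 18, 52326) (.node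 (.node (.node .leaf (99184, 0, 16, 106061) .leaf) (99185, 0, 16, 234426) (.node .leaf (99190, 0, 12, 137946) .leaf)) (99191, 0, 15, 195260) (.node (.node .leaf (99194, 0, 15, 171171) .leaf) (99195, 0, 17, 50573) (.node .leaf (99196, 0, 15, 94055) .leaf))))) (99197, 0, 13, 102145) (.node (.node (.node (.node (.node .leaf (99200, 0, 13, 261616) .leaf) (99201, 0, 15, 204182) (.node .leaf (99206, 0, 13, 169206) .leaf)) (99207, 0, 17, 176915) (.node (.node .leaf (99210, 0, 17, 34893) .leaf) (99211, 0, 15, 9874) (.node .leaf (99212, 0, 17, 123211) .leaf))) (99213, 0, 12, 65837) (.node (.node (.node .leaf (99218, 0, 16, 58326) .leaf) (99219, 0, 16, 178936) (.node .leaf (99220, 0, 12, 113798) .leaf)) (99221, 0, 11, 89312) (.node (.node .leaf (99224, 0, 17, 237629) .leaf) (99225, 0, 16, 112662) (.node .leaf (99230, 0, 16, 182587) .leaf)))) (99231, 0, 14, 141661) (.node (.node (.node (.node .leaf (99234, 0, 15, 256042) .leaf) (99235, 0, 16, 83526) (.node .leaf (99236, 0, 15, 53030) .leaf)) (99237, 0, 17, 12096) (.node (.node .leaf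 (99240, 0, 15, 60100) .leaf) (99241, 0, 16, 177130) (.node .leaf (99246, 0, 17, 97707) .leaf))) (99247, 0, 15, 219901) (.node (.node (.node .leaf (99248, 0, 14, 167504) .leaf) (99249, 0, 17, 12160) (.node .leaf (99254, 0, 12, 254401) .leaf)) (99255, 0, 10, 112879) (.node (.node .leaf (99258, 0, 15, 130029) .leaf) (99259, 0, 18, 72587) (.node .leaf (99260, 0, 17, 58159) .leaf))))))

/-- part of the orbit tree -/
def itp3_16 : Tree := (.node (.node (.node (.node (.node (.node .leaf (99264, 0, 12, 38774) .leaf) (99265, 0, 18, 30480) (.node .leaf (99270, 0, 15, 45751) .leaf)) (99271, 0, 16, 73238) (.node (.node .leaf (99274, 0, 17, 141110) .leaf) (99275, 0, 13, 197293) (.node .leaf (99276, 0, 17, 166861) .leaf))) (99277, 0, 17, 125303) (.node (.node (.node .leaf (99282, 0, 15, 47964) .leaf) (99283, 0, 14, 189042) (.node .leaf (99284, 0, 17, 76851) .leaf)) (99285, 0, 15, 226589) (.node (.node .leaf (99288, 0, 18, 244146) .leaf) (99289, 0, 17, 123036) (.node .leaf (99294, 0, 16, 107453) .leaf)))) (99295, 0, 18, 82907) (.node (.node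 (.node (.node .leaf (99298, 0, 18, 183462) .leaf) (99299, 0, 14, 142528) (.node .leaf (99300, 0, 18, 141263) .leaf)) (99301, 0, 14, 214470) (.node (.node .leaf (99304, 0, 15, 45646) .leaf) (99305, 0, 17, 191328) (.node .leaf (99310, 0, 14, 75041) .leaf))) (99311, 0, 16, 12411) (.node (.node (.node .leaf (99312, 0, 15, 124118) .leaf) (99313, 0, 15, 66736) (.node .leaf (99318, 0, 17, 36304) .leaf)) (99319, 0, 14, 28086) (.node (.node .leaf (99322, 0, 13, 168299) .leaf) (99323, 0, 17, 160013) (.node .leaf (99324, 0, 16, 48037) .leaf))))) (99325, 0, 15, 189067) (.node (.node (.node (.node (.node .leaf (99329, 0, 17, 228142) .leaf) (99331, 0, 16, 37724) (.node .leaf (99332, 0, 17, 247669) .leaf)) (99334, 0, 13, 169808) (.node (.node .leaf (99336, 0, 15, 116892) .leaf) (99338, 0, 18, 139502) (.node .leaf (99341, 0, 14, 126639) .leaf))) (99343, 0, 17, 132829) (.node (.node (.node .leaf (99344, 0, 16, 99843) .leaf) (99346, 0, 18, 54822) (.node .leaf (99349, 0, 16, 89926) .leaf)) (99351, 0, 16, 39607) (.node (.node .leaf (99353, 0,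 16, 124740) .leaf) (99355, 0, 17, 136152) (.node .leaf (99356, 0, 16, 115063) .leaf)))) (99358, 0, 13, 141573) (.node (.node (.node (.node .leaf (99360, 0, 16, 62883) .leaf) (99362, 0, 17, 107910) (.node .leaf (99365, 0, 17, 11494) .leaf)) (99367, 0, 18, 233803) (.node (.node .leaf (99369, 0, 14, 191672) .leaf) (99371, 0, 15, 221304) (.node .leaf (99372, 0, 18, 190744) .leaf))) (99374, 0, 13, 74489) (.node (.node (.node .leaf (99377, 0, 17, 159120) .leaf) (99379, 0, 14, 212405) (.node .leaf (99380, 0, 17, 22241) .leaf)) (99382, 0, 16, 245395) (.node (.node .leaf (99384, 0, 17, 181088) .leaf) (99386, 0, 16, 129099) (.node .leaf (99389, 0, 17, 28971) .leaf))))))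

/-- part of the orbit tree -/
def itp3_17 : Tree := (.node (.node (.node (.node (.node (.node .leaf (99393, 0, 15, 205732) .leaf) (99395, 0, 17, 52182) (.node .leaf (99396, 0, 17, 44531) .leaf)) (99398, 0, 17, 60901) (.node (.node .leaf (99400, 0, 15, 176456) .leaf) (99402, 0, 16, 254317) (.node .leaf (99405, 0, 14, 157709) .leaf))) (99407, 0, 18, 210984) (.node (.node (.node .leaf (99408, 0, 17, 199804) .leaf) (99410, 0, 12, 244896) (.node .leaf (99413, 0, 17, 207439) .leaf)) (99415, 0, 16, 49725) (.node (.node .leaf (99417, 0, 17, 114638) .leaf) (99419, 0, 13, 96606) (.node .leaf (99420, 0, 17, 104957) .leaf)))) (99422, 0, 17, 106523) (.node (.node (.node (.node .leaf (99424, 0, 17, 237349) .leaf) (99426, 0, 14, 184064) (.node .leaf (99429, 0, 17, 214624) .leaf)) (99431, 0, 15, 136773) (.node (.node .leaf (99433, 0, 16, 177202) .leaf) (99435, 0, 17, 89152) (.node .leaf (99436, 0, 17, 99230) .leaf))) (99438, 0, 6, 96883) (.node (.node (.node .leaf (99441, 0, 14, 10328) .leaf) (99443, 0, 16, 22323) (.node .leaf (99444, 0,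 14, 122451) .leaf)) (99446, 0, 16, 255513) (.node (.node .leaf (99448, 0, 19, 170986) .leaf) (99450, 0, 17, 95128) (.node .leaf (99453, 0, 18, 179673) .leaf))))) (99455, 0, 15, 87467) (.node (.node (.node (.node (.node .leaf (99457, 0, 17, 100666) .leaf) (99459, 0, 15, 205621) (.node .leaf (99460, 0, 17, 60788) .leaf)) (99462, 0, 16, 197894) (.node (.node .leaf (99464, 0, 17, 162037) .leaf) (99466, 0, 16, 138465) (.node .leaf (99469, 0, 16, 234881) .leaf))) (99471, 0, 16, 112308) (.node (.node (.node .leaf (99472, 0, 14, 58527) .leaf) (99474, 0, 14, 199917) (.node .leaf (99477, 0, 15, 49836) .leaf)) (99479, 0, 16, 170089) (.node (.node .leaf (99481, 0, 17, 120055) .leaf) (99483, 0, 13, 34002) (.node .leaf (99484, 0, 13, 69042) .leaf)))) (99486, 0, 16, 23959) (.node (.node (.node (.node .leaf (99488, 0, 18, 257891) .leaf) (99490, 0, 16, 209548) (.node .leaf (99493, 0, 17, 248144) .leaf)) (99495, 0, 19, 256969) (.node (.node .leaf (99497, 0, 16, 89297) .leaf) (99499, 0, 16, 128882) (.node .leaf (99500, 0, 13, 96994) .leaf)))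 (99502, 0, 16, 77367) (.node (.node (.node .leaf (99505, 0, 18, 64154) .leaf) (99507, 0, 18, 109247) (.node .leaf (99508, 0, 10, 9183) .leaf)) (99510, 0, 14, 3834) (.node (.node .leaf (99512, 0, 13, 94985) .leaf) (99514, 0, 10, 170875) (.node .leaf (99517, 0, 16, 189985) .leaf))))))

/-- part of the orbit tree -/
def itp3_18 : Tree := (.node (.node (.node (.node (.node (.node .leaf (99521, 0, 17, 189372) .leaf) (99523, 0, 16, 242585) (.node .leaf (99524, 0, 13, 146169) .leaf)) (99526, 0, 15, 220556) (.node (.node .leaf (99528, 0, 16, 139391) .leaf) (99530, 0, 16, 116749) (.node .leaf (99533, 0, 18, 132684) .leaf))) (99535, 0, 14, 126526) (.node (.node (.node .leaf (99536, 0, 16, 31631) .leaf) (99538, 0, 15, 218215) (.node .leaf (99541, 0, 15, 41674) .leaf)) (99543, 0, 16, 225876) (.node (.node .leaf (99545, 0, 16, 179825) .leaf) (99547, 0, 15, 257620) (.node .leaf (99548, 0, 16, 157492) .leaf)))) (99550, 0, 17, 115174) (.node (.node (.node (.node .leaf (99552, 0, 17, 67631) .leaf) (99554, 0, 17, 22538) (.node .leaf (99557,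 0, 14, 233946) .leaf)) (99559, 0, 14, 33103) (.node (.node .leaf (99561, 0, 13, 66651) .leaf) (99563, 0, 16, 191529) (.node .leaf (99564, 0, 16, 201876) .leaf))) (99566, 0, 15, 182810) (.node (.node (.node .leaf (99569, 0, 17, 233500) .leaf) (99571, 0, 17, 180281) (.node .leaf (99572, 0, 19, 245250) .leaf)) (99574, 0, 15, 22128) (.node (.node .leaf (99576, 0, 14, 76675) .leaf) (99578, 0, 12, 181233) (.node .leaf (99581, 0, 17, 101543) .leaf))))) (99583, 0, 15, 56450) (.node (.node (.node (.node (.node .leaf (99584, 0, 13, 116195) .leaf) (99586, 0, 17, 142737) (.node .leaf (99589, 0, 13, 123856) .leaf)) (99591, 0, 17, 120130) (.node (.node .leaf (99593, 0, 17, 226897) .leaf) (99595, 0, 16, 248313) (.node .leaf (99596, 0, 17, 147609) .leaf))) (99598, 0, 14, 200892) (.node (.node (.node .leaf (99601, 0, 17, 181265) .leaf) (99603, 0, 16, 131657) (.node .leaf (99604, 0, 17, 138580) .leaf)) (99606, 0, 17, 216433) (.node (.node .leaf (99608, 0, 13, 219529) .leaf) (99610, 0, 13, 86474) (.node .leaf (99613, 0, 15, 229306) .leaf))))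 (99615, 0, 18, 38856) (.node (.node (.node (.node .leaf (99617, 0, 16, 188871) .leaf) (99619, 0, 17, 68021) (.node .leaf (99620, 0, 13, 225012) .leaf)) (99622, 0, 17, 77702) (.node (.node .leaf (99624, 0, 11, 21109) .leaf) (99626, 0, 18, 8810) (.node .leaf (99629, 0, 16, 29766) .leaf))) (99631, 0, 17, 64303) (.node (.node (.node .leaf (99632, 0, 13, 183839) .leaf) (99634, 0, 16, 32679) (.node .leaf (99637, 0, 14, 128711) .leaf)) (99639, 0, 14, 42722) (.node (.node .leaf (99641, 0, 14, 256636) .leaf) (99643, 0, 17, 234975) (.node .leaf (99644, 0, 16, 209721) .leaf))))))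

/-- part of the orbit tree -/
def itp3_19 : Tree := (.node itp3_15 (99261, 0, 15, 29325) itp3_16)

/-- part of the orbit tree -/
def itp3_20 : Tree := (.node itp3_17 (99519, 0, 16, 243204) itp3_18)

/-- part of the orbit tree -/
def itp3_21 : Tree := (.node (.node (.node (.node (.node (.node .leaf (99648, 0, 16, 210596) .leaf) (99650, 0, 17, 161051) (.node .leaf (99653, 0, 15, 258017) .leaf)) (99655, 0, 17, 180164) (.node (.node .leaf (99657, 0, 17, 208603) .leaf) (99659, 0, 16, 50857) (.node .leaf (99660, 0, 16, 76319) .leaf))) (99662, 0, 15, 57498) (.node (.node (.node .leaf (99665, 0, 14, 111281) .leaf) (99667, 0, 16, 154307) (.node .leaf (99668, 0, 19, 96210) .leaf)) (99670, 0, 17, 10231) (.node (.node .leaf (99672, 0, 17, 224105) .leaf) (99674, 0, 17, 146252) (.node .leaf (99677, 0, 17, 206640) .leaf)))) (99679, 0, 16, 188937) (.node (.node (.node (.node .leaf (99681, 0, 15, 178509) .leaf) (99683, 0, 18, 86335) (.node .leaf (99684, 0, 18, 1138) .leaf)) (99686, 0, 16, 96012) (.node (.node .leaf (99688, 0, 17, 2815) .leaf)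 (99690, 0, 17, 215276) (.node .leaf (99693, 0, 17, 11468) .leaf))) (99695, 0, 18, 246974) (.node (.node (.node .leaf (99696, 0, 16, 148740) .leaf) (99698, 0, 15, 202017) (.node .leaf (99701, 0, 16, 176294) .leaf)) (99703, 0, 15, 248932) (.node (.node .leaf (99705, 0, 16, 33018) .leaf) (99707, 0, 17, 249173) (.node .leaf (99708, 0, 17, 22975) .leaf))))) (99710, 0, 16, 67994) (.node (.node (.node (.node (.node .leaf (99712, 0, 16, 161162) .leaf) (99714, 0, 15, 105976) (.node .leaf (99717, 0, 13, 152505) .leaf)) (99719, 0, 16, 213576) (.node (.node .leaf (99721, 0, 16, 3798) .leaf) (99723, 0, 15, 89843) (.node .leaf (99724, 0, 17, 57355) .leaf))) (99726, 0, 15, 100278) (.node (.node (.node .leaf (99729, 0, 15, 21275) .leaf) (99731, 0, 16, 111136) (.node .leaf (99732, 0, 17, 35422) .leaf)) (99734, 0, 15, 121467) (.node (.node .leaf (99736, 0, 16, 59872) .leaf) (99738, 0, 17, 247488) (.node .leaf (99741, 0, 16, 151456) .leaf)))) (99743, 0, 15, 206753) (.node (.node (.node (.node .leaf (99745, 0, 17, 86446) .leaf) (99747, 0, 17,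 28830) (.node .leaf (99748, 0, 12, 96157) .leaf)) (99750, 0, 11, 172015) (.node (.node .leaf (99752, 0, 12, 254492) .leaf) (99754, 0, 15, 177504) (.node .leaf (99757, 0, 17, 246831) .leaf))) (99759, 0, 17, 158757) (.node (.node (.node .leaf (99760, 0, 18, 97910) .leaf) (99762, 0, 18, 169476) (.node .leaf (99765, 0, 18, 221645) .leaf)) (99767, 0, 11, 143848) (.node (.node .leaf (99769, 0, 16, 97654) .leaf) (99771, 0, 15, 11603) (.node .leaf (99772, 0, 19, 257015) .leaf))))))

/-- part of the orbit tree -/
def itp3_22 : Tree := (.node (.node (.node (.node (.node (.node .leaf (99776, 0, 15, 106926) .leaf) (99778, 0, 17, 61835) (.node .leaf (99781, 0, 13, 133939) .leaf)) (99783, 0, 14, 123713) (.node (.node .leaf (99785, 0, 14, 40626) .leaf) (99787, 0, 15, 227008) (.node .leaf (99788, 0, 16, 245013) .leaf))) (99790, 0, 15, 191792) (.node (.node (.node .leaf (99793, 0, 18, 211357) .leaf) (99795, 0, 16, 125610) (.node .leaf (99796, 0, 14, 254168) .leaf)) (99798, 0, 18, 117913) (.node (.node .leaf (99800, 0, 17, 130147) .leaf) (99802,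 0, 14, 44102) (.node .leaf (99805, 0, 15, 75046) .leaf)))) (99807, 0, 17, 229163) (.node (.node (.node (.node .leaf (99809, 0, 18, 150077) .leaf) (99811, 0, 15, 203288) (.node .leaf (99812, 0, 13, 77591) .leaf)) (99814, 0, 16, 246621) (.node (.node .leaf (99816, 0, 17, 36803) .leaf) (99818, 0, 16, 122854) (.node .leaf (99821, 0, 18, 236709) .leaf))) (99823, 0, 15, 67235) (.node (.node (.node .leaf (99824, 0, 15, 53774) .leaf) (99826, 0, 15, 98859) (.node .leaf (99829, 0, 17, 2891) .leaf)) (99831, 0, 16, 190653) (.node (.node .leaf (99833, 0, 17, 234830) .leaf) (99835, 0, 16, 32060) (.node .leaf (99836, 0, 14, 183989) .leaf))))) (99838, 0, 15, 23311) (.node (.node (.node (.node (.node .leaf (99840, 0, 15, 75564) .leaf) (99841, 0, 16, 228866) (.node .leaf (99842, 0, 17, 164355) .leaf)) (99843, 0, 15, 156261) (.node (.node .leaf (99852, 0, 18, 242349) .leaf) (99853, 0, 13, 125827) (.node .leaf (99854, 0, 17, 40632) .leaf))) (99855, 0, 17, 32478) (.node (.node (.node .leaf (99860, 0, 17, 77511) .leaf) (99861, 0, 14, 95030) (.node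 .leaf (99862, 0, 15, 181941) .leaf)) (99863, 0, 17, 8979) (.node (.node .leaf (99864, 0, 16, 233451) .leaf) (99865, 0, 15, 123496) (.node .leaf (99866, 0, 16, 21300) .leaf)))) (99867, 0, 16, 133658) (.node (.node (.node (.node .leaf (99876, 0, 17, 57584) .leaf) (99877, 0, 14, 150) (.node .leaf (99878, 0, 13, 110805) .leaf)) (99879, 0, 16, 86195) (.node (.node .leaf (99880, 0, 16, 45242) .leaf) (99881, 0, 18, 138285) (.node .leaf (99882, 0, 16, 219336) .leaf))) (99883, 0, 13, 216072) (.node (.node (.node .leaf (99888, 0, 17, 142544) .leaf) (99889, 0, 14, 30206) (.node .leaf (99890, 0, 16, 258467) .leaf)) (99891, 0, 17, 201157) (.node (.node .leaf (99900, 0, 17, 47441) .leaf) (99901, 0, 15, 188543) (.node .leaf (99902, 0, 18, 217379) .leaf))))))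

/-- part of the orbit tree -/
def itp3_23 : Tree := (.node (.node (.node (.node (.node (.node .leaf (99904, 0, 17, 47264) .leaf) (99905, 0, 15, 22726) (.node .leaf (99906, 0, 18, 169940) .leaf)) (99907, 0, 16, 52986) (.node (.node .leaf (99916, 0, 17, 173083) .leaf) (99917, 0, 19, 148605) (.node .leaf (99918, 0, 13, 259134) .leaf))) (99919, 0, 17, 201816) (.node (.node (.node .leaf (99924, 0, 14, 95821) .leaf) (99925, 0, 15, 137648) (.node .leaf (99926, 0, 15, 171583) .leaf)) (99927, 0, 16, 215445) (.node (.node .leaf (99928, 0, 16, 254924) .leaf) (99929, 0, 13, 1291) (.node .leaf (99930, 0, 15, 3006) .leaf)))) (99931, 0, 16, 152208) (.node (.node (.node (.node .leaf (99940, 0, 16, 232054) .leaf) (99941, 0, 17, 223760) (.node .leaf (99942, 0, 15, 186963) .leaf)) (99943, 0, 17, 145973) (.node (.node .leaf (99944, 0, 12, 59440) .leaf) (99945, 0, 14, 176414) (.node .leaf (99946, 0, 16, 196674) .leaf))) (99947, 0, 12, 9870) (.node (.node (.node .leaf (99952, 0, 17, 117504) .leaf) (99953, 0, 18, 76646) (.node .leaf (99954, 0,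 17, 39717) .leaf)) (99955, 0, 14, 247046) (.node (.node .leaf (99964, 0, 17, 251835) .leaf) (99965, 0, 16, 178421) (.node .leaf (99966, 0, 16, 199081) .leaf))))) (99967, 0, 16, 86151) (.node (.node (.node (.node (.node .leaf (99968, 0, 13, 169797) .leaf) (99969, 0, 16, 52843) (.node .leaf (99970, 0, 17, 5385) .leaf)) (99971, 0, 16, 206361) (.node (.node .leaf (99980, 0, 15, 708) .leaf) (99981, 0, 15, 244209) (.node .leaf (99982, 0, 13, 256694) .leaf))) (99983, 0, 15, 111512) (.node (.node (.node .leaf (99988, 0, 16, 197722) .leaf) (99989, 0, 15, 51072) (.node .leaf (99990, 0, 18, 152703) .leaf)) (99991, 0, 16, 177177) (.node (.node .leaf (99992, 0, 16, 2863) .leaf) (99993, 0, 16, 129159) (.node .leaf (99994, 0, 17, 18628) .leaf)))) (99995, 0, 17, 113267) (.node (.node (.node (.node .leaf (100004, 0, 17, 103762) .leaf) (100005, 0, 15, 248956) (.node .leaf (100006, 0, 13, 206815) .leaf)) (100007, 0, 16, 9230) (.node (.node .leaf (100008, 0, 18, 27457) .leaf) (100009, 0, 18, 88573) (.node .leaf (100010, 0, 17, 80740) .leaf)))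 (100011, 0, 15, 121602) (.node (.node (.node .leaf (100016, 0, 12, 105657) .leaf) (100017, 0, 16, 55018) (.node .leaf (100018, 0, 15, 91817) .leaf)) (100019, 0, 17, 100047) (.node (.node .leaf (100028, 0, 13, 141879) .leaf) (100029, 0, 15, 182865) (.node .leaf (100030, 0, 17, 57674) .leaf))))))

/-- part of the orbit tree -/
def itp3_24 : Tree := (.node (.node (.node (.node (.node (.node .leaf (100032, 0, 18, 184271) .leaf) (100033, 0, 16, 184268) (.node .leaf (100034, 0, 17, 229263) .leaf)) (100035, 0, 16, 237545) (.node (.node .leaf (100044, 0, 16, 23118) .leaf) (100045, 0, 13, 131936) (.node .leaf (100046, 0, 16, 242236) .leaf))) (100047, 0, 16, 125714) (.node (.node (.node .leaf (100052, 0, 14, 181796) .leaf) (100053, 0, 18, 40714) (.node .leaf (100054, 0, 16, 81657) .leaf)) (100055, 0, 16, 122527) (.node (.node .leaf (100056, 0, 16, 21413) .leaf) (100057, 0, 18, 133771) (.node .leaf (100058, 0, 15, 205378) .leaf)))) (100059, 0, 16, 123641) (.node (.node (.node (.node .leaf (100068, 0, 17, 118232) .leaf) (100069, 0, 18,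 130330) (.node .leaf (100070, 0, 11, 19801) .leaf)) (100071, 0, 18, 44351) (.node (.node .leaf (100072, 0, 18, 197063) .leaf) (100073, 0, 18, 65911) (.node .leaf (100074, 0, 14, 152034) .leaf))) (100075, 0, 15, 190725) (.node (.node (.node .leaf (100080, 0, 11, 220170) .leaf) (100081, 0, 15, 244844) (.node .leaf (100082, 0, 15, 142401) .leaf)) (100083, 0, 17, 30063) (.node (.node .leaf (100092, 0, 14, 217522) .leaf) (100093, 0, 17, 106711) (.node .leaf (100094, 0, 14, 47552) .leaf))))) (100095, 0, 12, 188654) (.node (.node (.node (.node (.node .leaf (100100, 0, 19, 245714) .leaf) (100101, 0, 10, 124668) (.node .leaf (100102, 0, 15, 72020) .leaf)) (100103, 0, 13, 134798) (.node (.node .leaf (100104, 0, 16, 76371) .leaf) (100105, 0, 15, 177580) (.node .leaf (100106, 0, 17, 180769) .leaf))) (100107, 0, 18, 39695) (.node (.node (.node .leaf (100112, 0, 16, 243257) .leaf) (100113, 0, 17, 126743) (.node .leaf (100114, 0, 16, 24139) .leaf)) (100115, 0, 14, 132965) (.node (.node .leaf (100124, 0, 18, 74680) .leaf) (100125, 0, 16,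 227990) (.node .leaf (100126, 0, 15, 183242) .leaf)))) (100127, 0, 16, 107775) (.node (.node (.node (.node .leaf (100128, 0, 14, 228263) .leaf) (100129, 0, 15, 236481) (.node .leaf (100130, 0, 14, 142210) .leaf)) (100131, 0, 14, 183268) (.node (.node .leaf (100140, 0, 15, 141380) .leaf) (100141, 0, 15, 29034) (.node .leaf (100142, 0, 15, 114742) .leaf))) (100143, 0, 13, 55135) (.node (.node (.node .leaf (100148, 0, 15, 46126) .leaf) (100149, 0, 12, 121527) (.node .leaf (100150, 0, 16, 27380) .leaf)) (100151, 0, 16, 66930) (.node (.node .leaf (100152, 0, 17, 206442) .leaf) (100153, 0, 18, 30849) .leaf)))))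

/-- part of the orbit tree -/
def itp3_25 : Tree := (.node itp3_21 (99774, 0, 14, 62486) itp3_22)

/-- part of the orbit tree -/
def itp3_26 : Tree := (.node itp3_23 (100031, 0, 18, 178276) itp3_24)

/-- part of the orbit tree -/
def itp3_27 : Tree := (.node itp3_19 (99391, 0, 16, 68897) itp3_20)

/-- part of the orbit tree -/
def itp3_28 : Tree := (.node itp3_25 (99903, 0, 18, 67597) itp3_26)

/-- part of the orbit tree -/
def itp3_29 : Tree := (.node itp3_13 (98625, 0, 16, 183402) itp3_14)

/-- part of the orbit tree -/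
def itp3_30 : Tree := (.node itp3_27 (99646, 0, 16, 242668) itp3_28)

/-- part of the orbit tree -/
def itp3_31 : Tree := (.node (.node (.node (.node (.node (.node .leaf (100155, 0, 14, 233715) .leaf) (100164, 0, 19, 205815) (.node .leaf (100165, 0, 18, 114294) .leaf)) (100166, 0, 16, 3882) (.node (.node .leaf (100167, 0, 16, 153092) .leaf) (100168, 0, 18, 94937) (.node .leaf (100169, 0, 16, 122666) .leaf))) (100170, 0, 18, 28521) (.node (.node (.node .leaf (100171, 0, 15, 50053) .leaf) (100176, 0, 13, 90753) (.node .leaf (100177, 0, 18, 99047) .leaf)) (100178, 0, 16, 12964) (.node (.node .leaf (100179, 0, 17, 155631) .leaf) (100188, 0, 15, 97074) (.node .leaf (100189, 0, 17, 237148) .leaf)))) (100190, 0, 16, 142879) (.node (.node (.node (.node .leaf (100191, 0, 18, 51822) .leaf) (100192, 0, 17, 4385) (.node .leaf (100193, 0, 11, 61767) .leaf)) (100194, 0, 12, 199997) (.node (.node .leaf (100195, 0, 18, 106850) .leaf) (100204, 0, 18, 159950) (.node .leaf (100205, 0, 13, 191996) .leaf))) (100206, 0, 18, 220607) (.node (.node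 (.node .leaf (100207, 0, 14, 245209) .leaf) (100212, 0, 16, 151639) (.node .leaf (100213, 0, 17, 176177) .leaf)) (100214, 0, 15, 197846) (.node (.node .leaf (100215, 0, 16, 89592) .leaf) (100216, 0, 17, 162085) (.node .leaf (100217, 0, 16, 44170) .leaf))))) (100218, 0, 14, 72905) (.node (.node (.node (.node (.node .leaf (100219, 0, 17, 247929) .leaf) (100228, 0, 17, 4027) (.node .leaf (100229, 0, 16, 153237) .leaf)) (100230, 0, 17, 233054) (.node (.node .leaf (100231, 0, 16, 114407) .leaf) (100232, 0, 18, 49856) (.node .leaf (100233, 0, 15, 49940) .leaf))) (100234, 0, 16, 103141) (.node (.node (.node .leaf (100235, 0, 14, 207718) .leaf) (100240, 0, 16, 40717) (.node .leaf (100241, 0, 14, 155518) .leaf)) (100242, 0, 15, 118568) (.node (.node .leaf (100243, 0, 17, 77646) .leaf) (100252, 0, 16, 164790) (.node .leaf (100253, 0, 17, 51967) .leaf)))) (100254, 0, 13, 250771) (.node (.node (.node (.node .leaf (100255, 0, 17, 205453) .leaf) (100256, 0, 14, 126125) (.node .leaf (100257, 0, 12, 87170) .leaf)) (100258, 0, 15, 58846)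 (.node (.node .leaf (100259, 0, 16, 179440) .leaf) (100268, 0, 17, 104493) (.node .leaf (100269, 0, 14, 246019) .leaf))) (100270, 0, 16, 172083) (.node (.node (.node .leaf (100271, 0, 17, 10609) .leaf) (100276, 0, 15, 241115) (.node .leaf (100277, 0, 16, 89449) .leaf)) (100278, 0, 14, 196094) (.node (.node .leaf (100279, 0, 17, 138648) .leaf) (100280, 0, 14, 110944) (.node .leaf (100281, 0, 14, 248040) .leaf))))))

/-- part of the orbit tree -/
def itp3_32 : Tree := (.node (.node (.node (.node (.node (.node .leaf (100283, 0, 16, 8346) .leaf) (100292, 0, 15, 111869) (.node .leaf (100293, 0, 15, 134687) .leaf)) (100294, 0, 16, 245571) (.node (.node .leaf (100295, 0, 12, 1214) .leaf) (100296, 0, 16, 180912) (.node .leaf (100297, 0, 17, 215072) .leaf))) (100298, 0, 14, 194659) (.node (.node (.node .leaf (100299, 0, 18, 137221) .leaf) (100304, 0, 14, 259467) (.node .leaf (100305, 0, 14, 202221) .leaf)) (100306, 0, 17, 173486) (.node (.node .leaf (100307, 0, 18, 126854) .leaf) (100316, 0, 18, 183131) (.node .leaf (100317, 0, 15,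 67926) .leaf)))) (100318, 0, 14, 74537) (.node (.node (.node (.node .leaf (100319, 0, 14, 22899) .leaf) (100320, 0, 15, 218406) (.node .leaf (100321, 0, 14, 68616) .leaf)) (100322, 0, 18, 48468) (.node (.node .leaf (100323, 0, 16, 189562) .leaf) (100332, 0, 15, 114855) (.node .leaf (100333, 0, 16, 31478) .leaf))) (100334, 0, 15, 141525) (.node (.node (.node .leaf (100335, 0, 17, 29179) .leaf) (100340, 0, 9, 51037) (.node .leaf (100341, 0, 17, 10043) .leaf)) (100342, 0, 19, 46271) (.node (.node .leaf (100343, 0, 17, 191889) .leaf) (100344, 0, 15, 187366) (.node .leaf (100345, 0, 17, 233570) .leaf))))) (100346, 0, 13, 139582) (.node (.node (.node (.node (.node .leaf (100347, 0, 16, 30736) .leaf) (100353, 0, 14, 31364) (.node .leaf (100354, 0, 13, 99001) .leaf)) (100357, 0, 15, 17319) (.node (.node .leaf (100358, 0, 16, 261540) .leaf) (100360, 0, 12, 163927) (.node .leaf (100363, 0, 16, 200505) .leaf))) (100364, 0, 15, 165465) (.node (.node (.node .leaf (100367, 0, 16, 85526) .leaf) (100368, 0, 15, 189111) (.node .leaf (100371,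 0, 8, 217844) .leaf)) (100372, 0, 14, 156448) (.node (.node .leaf (100375, 0, 15, 224215) .leaf) (100377, 0, 17, 10057) (.node .leaf (100378, 0, 15, 104202) .leaf)))) (100381, 0, 17, 7786) (.node (.node (.node (.node .leaf (100382, 0, 18, 110121) .leaf) (100384, 0, 14, 233751) (.node .leaf (100387, 0, 15, 173725) .leaf)) (100388, 0, 17, 92380) (.node (.node .leaf (100391, 0, 12, 55680) .leaf) (100393, 0, 15, 87273) (.node .leaf (100394, 0, 13, 58538) .leaf))) (100397, 0, 16, 252782) (.node (.node (.node .leaf (100398, 0, 15, 158258) .leaf) (100401, 0, 13, 210969) (.node .leaf (100402, 0, 9, 47463) .leaf)) (100405, 0, 12, 83716) (.node (.node .leaf (100406, 0, 16, 32836) .leaf) (100408, 0, 18, 249050) (.node .leaf (100411, 0, 17, 162969) .leaf))))))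

/-- part of the orbit tree -/
def itp3_33 : Tree := (.node (.node (.node (.node (.node (.node .leaf (100415, 0, 14, 148922) .leaf) (100417, 0, 13, 200706) (.node .leaf (100418, 0, 17, 121395) .leaf)) (100421, 0, 16, 136306) (.node (.node .leaf (100422, 0, 17, 238894) .leaf) (100424, 0, 15, 120316) (.node .leaf (100427, 0, 14, 223617) .leaf))) (100428, 0, 17, 126175) (.node (.node (.node .leaf (100431, 0, 16, 23708) .leaf) (100432, 0, 14, 100401) (.node .leaf (100435, 0, 16, 14450) .leaf)) (100436, 0, 15, 110866) (.node (.node .leaf (100439, 0, 13, 232182) .leaf) (100441, 0, 16, 194309) (.node .leaf (100442, 0, 16, 195980) .leaf)))) (100445, 0, 14, 226540) (.node (.node (.node (.node .leaf (100446, 0, 14, 181423) .leaf) (100448, 0, 19, 64401) (.node .leaf (100451, 0, 17, 84946) .leaf)) (100452, 0, 14, 77910) (.node (.node .leaf (100455, 0, 15, 33034) .leaf) (100457, 0, 15, 130297) (.node .leaf (100458, 0, 15, 19877) .leaf))) (100461, 0, 16, 230372) (.node (.node (.node .leaf (100462, 0, 15, 144056) .leaf) (100465, 0, 16,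 156578) (.node .leaf (100466, 0, 18, 250849) .leaf)) (100469, 0, 16, 73614) (.node (.node .leaf (100470, 0, 15, 44754) .leaf) (100472, 0, 16, 119585) (.node .leaf (100475, 0, 16, 71199) .leaf))))) (100476, 0, 16, 240700) (.node (.node (.node (.node (.node .leaf (100479, 0, 17, 77628) .leaf) (100481, 0, 17, 230284) (.node .leaf (100482, 0, 18, 220621) .leaf)) (100485, 0, 15, 185517) (.node (.node .leaf (100486, 0, 16, 222446) .leaf) (100488, 0, 15, 77886) (.node .leaf (100491, 0, 15, 33122) .leaf))) (100492, 0, 16, 4435) (.node (.node (.node .leaf (100495, 0, 18, 196223) .leaf) (100496, 0, 12, 30141) (.node .leaf (100499, 0, 15, 138504) .leaf)) (100500, 0, 17, 19614) (.node (.node .leaf (100503, 0, 16, 25109) .leaf) (100505, 0, 16, 176195) (.node .leaf (100506, 0, 15, 44730) .leaf)))) (100509, 0, 16, 166240) (.node (.node (.node (.node .leaf (100510, 0, 17, 184743) .leaf) (100512, 0, 15, 42920) (.node .leaf (100515, 0, 13, 46686) .leaf)) (100516, 0, 17, 186549) (.node (.node .leaf (100519, 0, 15, 223721) .leaf) (100521, 0,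 16, 136218) (.node .leaf (100522, 0, 15, 160672) .leaf))) (100525, 0, 18, 27399) (.node (.node (.node .leaf (100526, 0, 17, 121435) .leaf) (100529, 0, 17, 237102) (.node .leaf (100530, 0, 15, 80172) .leaf)) (100533, 0, 14, 239373) (.node (.node .leaf (100534, 0, 16, 137038) .leaf) (100536, 0, 15, 146370) (.node .leaf (100539, 0, 7, 232094) .leaf))))))

/-- part of the orbit tree -/
def itp3_34 : Tree := (.node (.node (.node (.node (.node (.node .leaf (100543, 0, 16, 53936) .leaf) (100545, 0, 17, 100104) (.node .leaf (100546, 0, 16, 14155) .leaf)) (100549, 0, 15, 107547) (.node (.node .leaf (100550, 0, 18, 5447) .leaf) (100552, 0, 16, 213750) (.node .leaf (100555, 0, 15, 193205) .leaf))) (100556, 0, 17, 202665) (.node (.node (.node .leaf (100559, 0, 14, 173813) .leaf) (100560, 0, 18, 204603) (.node .leaf (100563, 0, 18, 175992) .leaf)) (100564, 0, 14, 206360) (.node (.node .leaf (100567, 0, 13, 169563) .leaf) (100569, 0, 14, 83820) (.node .leaf (100570, 0, 14, 63024) .leaf)))) (100573, 0, 18, 211057) (.node (.node (.node (.node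 .leaf (100574, 0, 13, 166189) .leaf) (100576, 0, 19, 158875) (.node .leaf (100579, 0, 19, 85630) .leaf)) (100580, 0, 15, 163903) (.node (.node .leaf (100583, 0, 17, 209251) .leaf) (100585, 0, 16, 150672) (.node .leaf (100586, 0, 17, 71974) .leaf))) (100589, 0, 15, 13197) (.node (.node (.node .leaf (100590, 0, 17, 99025) .leaf) (100593, 0, 18, 62632) (.node .leaf (100594, 0, 16, 83179) .leaf)) (100597, 0, 16, 52619) (.node (.node .leaf (100598, 0, 7, 204475) .leaf) (100600, 0, 17, 156488) (.node .leaf (100603, 0, 16, 229653) .leaf))))) (100604, 0, 18, 133237) (.node (.node (.node (.node (.node .leaf (100607, 0, 16, 243766) .leaf) (100608, 0, 17, 211094) (.node .leaf (100611, 0, 16, 166101) .leaf)) (100612, 0, 16, 62005) (.node (.node .leaf (100615, 0, 18, 82793) .leaf) (100617, 0, 16, 130408) (.node .leaf (100618, 0, 14, 102342) .leaf))) (100621, 0, 15, 115787) (.node (.node (.node .leaf (100622, 0, 17, 29704) .leaf) (100625, 0, 16, 172784) (.node .leaf (100626, 0, 17, 4326) .leaf)) (100629, 0, 15, 56813) (.node (.node .leaf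 (100630, 0, 18, 10693) .leaf) (100632, 0, 11, 222555) (.node .leaf (100635, 0, 17, 106526) .leaf)))) (100636, 0, 13, 220280) (.node (.node (.node (.node .leaf (100639, 0, 15, 253699) .leaf) (100641, 0, 13, 108812) (.node .leaf (100642, 0, 18, 90950) .leaf)) (100645, 0, 17, 251409) (.node (.node .leaf (100646, 0, 17, 157517) .leaf) (100648, 0, 14, 136955) (.node .leaf (100651, 0, 16, 175074) .leaf))) (100652, 0, 16, 143320) (.node (.node (.node .leaf (100655, 0, 18, 54527) .leaf) (100656, 0, 15, 100052) (.node .leaf (100659, 0, 17, 14216) .leaf)) (100660, 0, 15, 160277) (.node (.node .leaf (100663, 0, 14, 149653) .leaf) (100665, 0, 14, 210278) (.node .leaf (100666, 0, 16, 81547) .leaf))))))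

/-- part of the orbit tree -/
def itp3_35 : Tree := (.node itp3_31 (100282, 0, 13, 57669) itp3_32)

/-- part of the orbit tree -/
def itp3_36 : Tree := (.node itp3_33 (100540, 0, 18, 90867) itp3_34)

/-- part of the orbit tree -/
def itp3_37 : Tree := (.node (.node (.node (.node (.node (.node .leaf (100670, 0, 15, 64295) .leaf) (100672, 0, 17, 21008) (.node .leaf (100675, 0, 17, 222462) .leaf)) (100676, 0, 17, 43711) (.node (.node .leaf (100679, 0, 16, 121712) .leaf) (100681, 0, 17, 169966) (.node .leaf (100682, 0, 17, 120652) .leaf))) (100685, 0, 19, 175821) (.node (.node (.node .leaf (100686, 0, 16, 239697) .leaf) (100689, 0, 11, 195194) (.node .leaf (100690, 0, 16, 215846) .leaf)) (100693, 0, 15, 34151) (.node (.node .leaf (100694, 0, 17, 213827) .leaf) (100696, 0, 16, 4061) (.node .leaf (100699, 0, 15, 129172) .leaf)))) (100700, 0, 15, 14078) (.node (.node (.node (.node .leaf (100703, 0, 16, 100029) .leaf) (100705, 0, 17, 244099) (.node .leaf (100706, 0, 18, 16602) .leaf)) (100709, 0, 16, 229536) (.node (.node .leaf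 (100710, 0, 16, 143587) .leaf) (100712, 0, 18, 97405) (.node .leaf (100715, 0, 15, 193384) .leaf))) (100716, 0, 17, 83294) (.node (.node (.node .leaf (100719, 0, 16, 35957) .leaf) (100720, 0, 16, 122462) (.node .leaf (100723, 0, 16, 37363) .leaf)) (100724, 0, 18, 237891) (.node (.node .leaf (100727, 0, 16, 135199) .leaf) (100729, 0, 19, 255054) (.node .leaf (100730, 0, 18, 152589) .leaf))))) (100733, 0, 15, 70385) (.node (.node (.node (.node (.node .leaf (100734, 0, 17, 41901) .leaf) (100736, 0, 17, 81217) (.node .leaf (100739, 0, 17, 35869) .leaf)) (100740, 0, 18, 104127) (.node (.node .leaf (100743, 0, 16, 193280) .leaf) (100745, 0, 16, 233203) (.node .leaf (100746, 0, 17, 147375) .leaf))) (100749, 0, 18, 217921) (.node (.node (.node .leaf (100750, 0, 16, 16562) .leaf) (100753, 0, 13, 210863) (.node .leaf (100754, 0, 11, 165868) .leaf)) (100757, 0, 16, 200332) (.node (.node .leaf (100758, 0, 17, 179919) .leaf) (100760, 0, 15, 127569) (.node .leaf (100763, 0, 15, 135287) .leaf)))) (100764, 0, 16, 122422) (.node (.node (.node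 (.node .leaf (100767, 0, 16, 31537) .leaf) (100769, 0, 15, 137573) (.node .leaf (100770, 0, 17, 239673) .leaf)) (100773, 0, 15, 26232) (.node (.node .leaf (100774, 0, 16, 249199) .leaf) (100776, 0, 18, 43735) (.node .leaf (100779, 0, 17, 78258) .leaf))) (100780, 0, 16, 185802) (.node (.node (.node .leaf (100783, 0, 13, 222358) .leaf) (100784, 0, 16, 145085) (.node .leaf (100787, 0, 17, 231393) .leaf)) (100788, 0, 14, 58655) (.node (.node .leaf (100791, 0, 18, 87388) .leaf) (100793, 0, 16, 34063) (.node .leaf (100794, 0, 17, 78931) .leaf))))))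

/-- part of the orbit tree -/
def itp3_38 : Tree := (.node (.node (.node (.node (.node (.node .leaf (100798, 0, 17, 215886) .leaf) (100800, 0, 16, 181530) (.node .leaf (100803, 0, 15, 54423) .leaf)) (100804, 0, 12, 203478) (.node (.node .leaf (100807, 0, 17, 216186) .leaf) (100809, 0, 19, 251513) (.node .leaf (100810, 0, 18, 157477) .leaf))) (100813, 0, 18, 14791) (.node (.node (.node .leaf (100814, 0, 15, 6200) .leaf) (100817, 0, 15, 23849) (.node .leaf (100818, 0, 15, 64335) .leaf)) (100821, 0, 17, 25610) (.node (.node .leaf (100822, 0, 13, 119881) .leaf) (100824, 0, 18, 170199) (.node .leaf (100827, 0, 15, 206996) .leaf)))) (100828, 0, 14, 100028) (.node (.node (.node (.node .leaf (100831, 0, 12, 14304) .leaf) (100833, 0, 14, 147951) (.node .leaf (100834, 0, 10, 258227) .leaf)) (100837, 0, 17, 16114) (.node (.node .leaf (100838, 0, 17, 102318) .leaf) (100840, 0, 16, 62045) (.node .leaf (100843, 0, 16, 82689) .leaf))) (100844, 0, 17, 167232) (.node (.node (.node .leaf (100847, 0, 17, 156183) .leaf) (100848, 0, 14, 159287)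 (.node .leaf (100851, 0, 18, 253803) .leaf)) (100852, 0, 17, 4394) (.node (.node .leaf (100855, 0, 16, 106614) .leaf) (100857, 0, 15, 56709) (.node .leaf (100858, 0, 16, 93401) .leaf))))) (100861, 0, 16, 172696) (.node (.node (.node (.node (.node .leaf (100862, 0, 15, 201668) .leaf) (100864, 0, 17, 46738) (.node .leaf (100865, 0, 17, 22260) .leaf)) (100868, 0, 18, 4346) (.node (.node .leaf (100869, 0, 18, 28631) .leaf) (100874, 0, 14, 93449) (.node .leaf (100875, 0, 16, 205641) .leaf))) (100878, 0, 17, 201236) (.node (.node (.node .leaf (100879, 0, 15, 203370) .leaf) (100882, 0, 18, 258403) (.node .leaf (100883, 0, 15, 108621) .leaf)) (100886, 0, 16, 239553) (.node (.node .leaf (100887, 0, 15, 251728) .leaf) (100888, 0, 17, 62349) (.node .leaf (100889, 0, 17, 2873) .leaf)))) (100892, 0, 15, 167056) (.node (.node (.node (.node .leaf (100893, 0, 15, 12826) .leaf) (100898, 0, 18, 64159) (.node .leaf (100899, 0, 17, 134436) .leaf)) (100902, 0, 15, 165250) (.node (.node .leaf (100903, 0, 15, 56492) .leaf) (100904, 0, 16, 260209)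 (.node .leaf (100905, 0, 16, 96409) .leaf))) (100908, 0, 19, 100204) (.node (.node (.node .leaf (100909, 0, 17, 253506) .leaf) (100912, 0, 15, 91163) (.node .leaf (100913, 0, 18, 212277) .leaf)) (100916, 0, 17, 130065) (.node (.node .leaf (100917, 0, 18, 72823) .leaf) (100922, 0, 17, 176271) (.node .leaf (100923, 0, 17, 151785) .leaf))))))

/-- part of the orbit tree -/
def itp3_39 : Tree := (.node (.node (.node (.node (.node (.node .leaf (100927, 0, 15, 158154) .leaf) (100928, 0, 17, 252948) (.node .leaf (100929, 0, 16, 212082) .leaf)) (100932, 0, 18, 255287) (.node (.node .leaf (100933, 0, 17, 135518) .leaf) (100938, 0, 15, 43433) (.node .leaf (100939, 0, 15, 18895) .leaf))) (100942, 0, 13, 215710) (.node (.node (.node .leaf (100943, 0, 17, 70576) .leaf) (100946, 0, 14, 62564) (.node .leaf (100947, 0, 18, 127175) .leaf)) (100950, 0, 18, 120564) (.node (.node .leaf (100951, 0, 19, 233434) .leaf) (100952, 0, 16, 229849) (.node .leaf (100953, 0, 18, 193065) .leaf)))) (100956, 0, 16, 243962) (.node (.node (.node (.node .leaf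 (100957, 0, 16, 36148) .leaf) (100962, 0, 16, 100292) (.node .leaf (100963, 0, 17, 195387) .leaf)) (100966, 0, 13, 187656) (.node (.node .leaf (100967, 0, 17, 89729) .leaf) (100968, 0, 16, 237819) (.node .leaf (100969, 0, 13, 129493) .leaf))) (100972, 0, 15, 183130) (.node (.node (.node .leaf (100973, 0, 17, 231112) .leaf) (100976, 0, 14, 176052) (.node .leaf (100977, 0, 16, 151506) .leaf)) (100980, 0, 13, 169623) (.node (.node .leaf (100981, 0, 17, 161521) .leaf) (100986, 0, 15, 147071) (.node .leaf (100987, 0, 18, 26449) .leaf))))) (100990, 0, 16, 16738) (.node (.node (.node (.node (.node .leaf (100991, 0, 16, 66380) .leaf) (100992, 0, 17, 122766) (.node .leaf (100993, 0, 17, 231072) .leaf)) (100996, 0, 15, 237715) (.node (.node .leaf (100997, 0, 17, 194781) .leaf) (101002, 0, 18, 187744) (.node .leaf (101003, 0, 16, 33870) .leaf))) (101006, 0, 18, 41597) (.node (.node (.node .leaf (101007, 0, 13, 101728) .leaf) (101010, 0, 16, 68072) (.node .leaf (101011, 0, 16, 125326) .leaf)) (101014, 0, 15, 146967) (.node (.node .leaf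 (101015, 0, 15, 118957) .leaf) (101016, 0, 12, 213988) (.node .leaf (101017, 0, 17, 171059) .leaf)))) (101020, 0, 14, 148854) (.node (.node (.node (.node .leaf (101021, 0, 15, 173328) .leaf) (101026, 0, 16, 31304) (.node .leaf (101027, 0, 16, 39470) .leaf)) (101030, 0, 17, 17259) (.node (.node .leaf (101031, 0, 15, 41741) .leaf) (101032, 0, 15, 18456) (.node .leaf (101033, 0, 16, 257939) .leaf))) (101036, 0, 15, 145157) (.node (.node (.node .leaf (101037, 0, 16, 251568) .leaf) (101040, 0, 15, 217656) (.node .leaf (101041, 0, 17, 242270) .leaf)) (101044, 0, 16, 224027) (.node (.node .leaf (101045, 0, 17, 193089) .leaf) (101050, 0, 13, 120476) (.node .leaf (101051, 0, 16, 233394) .leaf))))))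

/-- part of the orbit tree -/
def itp3_40 : Tree := (.node (.node (.node (.node (.node (.node .leaf (101055, 0, 18, 65216) .leaf) (101056, 0, 20, 100100) (.node .leaf (101057, 0, 15, 109432) .leaf)) (101060, 0, 16, 94781) (.node (.node .leaf (101061, 0, 18, 106807) .leaf) (101066, 0, 15, 147107) (.node .leaf (101067, 0, 17, 188101) .leaf))) (101070, 0, 15, 132992) (.node (.node (.node .leaf (101071, 0, 13, 190438) .leaf) (101074, 0, 16, 156526) (.node .leaf (101075, 0, 16, 164616) .leaf)) (101078, 0, 16, 154189) (.node (.node .leaf (101079, 0, 17, 178731) .leaf) (101080, 0, 16, 203630) (.node .leaf (101081, 0, 16, 128693) .leaf)))) (101084, 0, 16, 77808) (.node (.node (.node (.node .leaf (101085, 0, 17, 118678) .leaf) (101090, 0, 17, 201340) (.node .leaf (101091, 0, 15, 258216) .leaf)) (101094, 0, 16, 93537) (.node (.node .leaf (101095, 0, 14, 248203) .leaf) (101096, 0, 17, 4242) (.node .leaf (101097, 0, 16, 149948) .leaf))) (101100, 0, 12, 23632) (.node (.node (.node .leaf (101101, 0, 18, 13985) .leaf) (101104, 0, 16, 14526)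 (.node .leaf (101105, 0, 18, 55512) .leaf)) (101108, 0, 15, 413) (.node (.node .leaf (101109, 0, 14, 57851) .leaf) (101114, 0, 19, 101910) (.node .leaf (101115, 0, 16, 251704) .leaf))))) (101118, 0, 15, 226336) (.node (.node (.node (.node (.node .leaf (101119, 0, 16, 234566) .leaf) (101122, 0, 16, 148675) (.node .leaf (101123, 0, 15, 211288) .leaf)) (101126, 0, 17, 163296) (.node (.node .leaf (101127, 0, 17, 171398) .leaf) (101128, 0, 15, 156312) (.node .leaf (101129, 0, 15, 15286) .leaf))) (101132, 0, 17, 67677) (.node (.node (.node .leaf (101133, 0, 17, 148651) .leaf) (101136, 0, 15, 93363) (.node .leaf (101137, 0, 15, 101589) .leaf)) (101140, 0, 15, 164335) (.node (.node .leaf (101141, 0, 16, 55489) .leaf) (101146, 0, 15, 261148) (.node .leaf (101147, 0, 14, 107826) .leaf)))) (101150, 0, 16, 99073) (.node (.node (.node (.node .leaf (101151, 0, 17, 252463) .leaf) (101152, 0, 14, 7955) (.node .leaf (101153, 0, 17, 109600) .leaf)) (101156, 0, 16, 9776) (.node (.node .leaf (101157, 0, 17, 50774) .leaf) (101162, 0, 16, 63456)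 (.node .leaf (101163, 0, 17, 232136) .leaf))) (101166, 0, 15, 166141) (.node (.node (.node .leaf (101167, 0, 16, 242667) .leaf) (101170, 0, 17, 210787) (.node .leaf (101171, 0, 11, 251653) .leaf)) (101174, 0, 14, 5271) (.node (.node .leaf (101175, 0, 12, 150969) .leaf) (101176, 0, 17, 17118) .leaf)))))

/-- part of the orbit tree -/
def itp3_41 : Tree := (.node itp3_37 (100797, 0, 17, 139489) itp3_38)

/-- part of the orbit tree -/
def itp3_42 : Tree := (.node itp3_39 (101054, 0, 15, 7846) itp3_40)

/-- part of the orbit tree -/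
def itp3_43 : Tree := (.node itp3_35 (100412, 0, 18, 259254) itp3_36)

/-- part of the orbit tree -/
def itp3_44 : Tree := (.node itp3_41 (100926, 0, 16, 166316) itp3_42)

/-- part of the orbit tree -/
def itp3_45 : Tree := (.node (.node (.node (.node (.node (.node .leaf (101180, 0, 17, 202361) .leaf) (101181, 0, 14, 85847) (.node .leaf (101186, 0, 16, 80124) .leaf)) (101187, 0, 16, 118307) (.node (.node .leaf (101190, 0, 18, 215009) .leaf) (101191, 0, 17, 128768) (.node .leaf (101192, 0, 18, 145938) .leaf))) (101193, 0, 16, 179102) (.node (.node (.node .leaf (101196, 0, 16, 17679) .leaf) (101197, 0, 14, 138273) (.node .leaf (101200, 0, 17, 42616) .leaf)) (101201, 0, 16, 190035) (.node (.node .leaf (101204, 0, 16, 186725) .leaf) (101205, 0, 14, 188272) (.node .leaf (101210, 0, 16, 238742) .leaf)))) (101211, 0, 18, 130488) (.node (.node (.node (.node .leaf (101214, 0, 17, 84651) .leaf) (101215, 0, 17, 230053) (.node .leaf (101216, 0, 18, 241028) .leaf)) (101217, 0, 18, 234995) (.node (.node .leaf (101220, 0, 18, 119449) .leaf)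 (101221, 0, 15, 232375) (.node .leaf (101226, 0, 15, 40) .leaf))) (101227, 0, 18, 194116) (.node (.node (.node .leaf (101230, 0, 18, 14603) .leaf) (101231, 0, 9, 35161) (.node .leaf (101234, 0, 18, 144128) .leaf)) (101235, 0, 14, 48515) (.node (.node .leaf (101238, 0, 16, 19485) .leaf) (101239, 0, 17, 136499) (.node .leaf (101240, 0, 17, 78318) .leaf))))) (101241, 0, 16, 223424) (.node (.node (.node (.node (.node .leaf (101244, 0, 16, 216819) .leaf) (101245, 0, 16, 71645) (.node .leaf (101250, 0, 16, 184351) .leaf)) (101251, 0, 16, 13231) (.node (.node .leaf (101254, 0, 16, 60138) .leaf) (101255, 0, 17, 194092) (.node .leaf (101256, 0, 18, 119537) .leaf))) (101257, 0, 14, 232415) (.node (.node (.node .leaf (101260, 0, 18, 241132) .leaf) (101261, 0, 16, 128194) (.node .leaf (101264, 0, 16, 261049) .leaf)) (101265, 0, 14, 71605) (.node (.node .leaf (101268, 0, 15, 78214) .leaf) (101269, 0, 18, 205564) (.node .leaf (101274, 0, 16, 19573) .leaf)))) (101275, 0, 16, 136539) (.node (.node (.node (.node .leaf (101278, 0, 14, 144232)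 .leaf) (101279, 0, 15, 27206) (.node .leaf (101280, 0, 14, 17767) .leaf)) (101281, 0, 13, 157823) (.node (.node .leaf (101284, 0, 16, 146042) .leaf) (101285, 0, 15, 25428) (.node .leaf (101290, 0, 16, 214921) .leaf))) (101291, 0, 17, 73154) (.node (.node (.node .leaf (101294, 0, 16, 80020) .leaf) (101295, 0, 18, 74977) (.node .leaf (101298, 0, 17, 106601) .leaf)) (101299, 0, 12, 230093) (.node (.node .leaf (101302, 0, 14, 104778) .leaf) (101303, 0, 16, 130512) (.node .leaf (101304, 0, 18, 186637) .leaf))))))

/-- part of the orbit tree -/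
def itp3_46 : Tree := (.node (.node (.node (.node (.node (.node .leaf (101308, 0, 15, 191735) .leaf) (101309, 0, 15, 196414) (.node .leaf (101314, 0, 14, 244047) .leaf)) (101315, 0, 17, 53691) (.node (.node .leaf (101318, 0, 17, 229484) .leaf) (101319, 0, 17, 221194) (.node .leaf (101320, 0, 17, 52466) .leaf))) (101321, 0, 17, 11412) (.node (.node (.node .leaf (101324, 0, 17, 62929) .leaf) (101325, 0, 18, 109640) (.node .leaf (101328, 0, 16, 37183) .leaf)) (101329, 0, 13, 29017) (.node (.node .leaf (101332, 0, 13, 92428) .leaf) (101333, 0, 13, 18554) (.node .leaf (101338, 0, 13, 255106) .leaf)))) (101339, 0, 19, 197860) (.node (.node (.node (.node .leaf (101342, 0, 9, 158690) .leaf) (101343, 0, 15, 13004) (.node .leaf (101344, 0, 16, 123551) .leaf)) (101345, 0, 16, 148675) (.node (.node .leaf (101348, 0, 15, 156400) .leaf) (101349, 0, 15, 80858) (.node .leaf (101354, 0, 16, 169762) .leaf))) (101355, 0, 16, 161604) (.node (.node (.node .leaf (101358, 0, 18, 175617) .leaf) (101359, 0, 16, 151143) (.node .leaf (101362, 0, 16,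 99177) .leaf)) (101363, 0, 16, 252487) (.node (.node .leaf (101366, 0, 16, 193484) .leaf) (101367, 0, 16, 107866) (.node .leaf (101368, 0, 17, 114514) .leaf))))) (101369, 0, 17, 89908) (.node (.node (.node (.node (.node .leaf (101372, 0, 16, 65178) .leaf) (101373, 0, 16, 91671) (.node .leaf (101376, 0, 15, 91967) .leaf)) (101378, 0, 18, 167757) (.node (.node .leaf (101380, 0, 13, 113001) .leaf) (101382, 0, 17, 61520) (.node .leaf (101385, 0, 15, 251021) .leaf))) (101387, 0, 17, 15615) (.node (.node (.node .leaf (101389, 0, 15, 228503) .leaf) (101391, 0, 14, 142514) (.node .leaf (101393, 0, 12, 202873) .leaf)) (101395, 0, 15, 172181) (.node (.node .leaf (101397, 0, 17, 210938) .leaf) (101399, 0, 17, 57224) (.node .leaf (101400, 0, 18, 122247) .leaf)))) (101402, 0, 17, 4903) (.node (.node (.node (.node .leaf (101404, 0, 16, 99400) .leaf) (101406, 0, 17, 46209) (.node .leaf (101409, 0, 15, 158681) .leaf)) (101411, 0, 15, 211964) (.node (.node .leaf (101413, 0, 15, 15366) .leaf) (101415, 0, 14, 250996) (.node .leaf (101416, 0,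 18, 61609) .leaf))) (101418, 0, 16, 202971) (.node (.node (.node .leaf (101420, 0, 14, 38660) .leaf) (101422, 0, 15, 116513) (.node .leaf (101424, 0, 16, 62442) .leaf)) (101426, 0, 15, 107471) (.node (.node .leaf (101428, 0, 17, 51913) .leaf) (101430, 0, 17, 261036) (.node .leaf (101433, 0, 17, 144916) .leaf))))))

/-- part of the orbit tree -/
def itp3_47 : Tree := (.node (.node (.node (.node (.node (.node .leaf (101437, 0, 16, 134967) .leaf) (101439, 0, 16, 83998) (.node .leaf (101440, 0, 18, 81845) .leaf)) (101442, 0, 10, 244457) (.node (.node .leaf (101444, 0, 19, 185327) .leaf) (101446, 0, 15, 43226) (.node .leaf (101449, 0, 16, 12082) .leaf))) (101451, 0, 16, 25717) (.node (.node (.node .leaf (101453, 0, 16, 5649) .leaf) (101455, 0, 15, 83508) (.node .leaf (101457, 0, 16, 69741) .leaf)) (101459, 0, 17, 74458) (.node (.node .leaf (101461, 0, 16, 19420) .leaf) (101463, 0, 17, 34562) (.node .leaf (101464, 0, 17, 238559) .leaf)))) (101466, 0, 17, 255780) (.node (.node (.node (.node .leaf (101468, 0, 14, 167458) .leaf) (101470,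 0, 16, 253447) (.node .leaf (101473, 0, 15, 138129) .leaf)) (101475, 0, 18, 20858) (.node (.node .leaf (101477, 0, 16, 25740) .leaf) (101479, 0, 18, 232702) (.node .leaf (101480, 0, 16, 246945) .leaf))) (101482, 0, 18, 213073) (.node (.node (.node .leaf (101484, 0, 16, 261506) .leaf) (101486, 0, 17, 175527) (.node .leaf (101488, 0, 17, 144457) .leaf)) (101490, 0, 17, 182601) (.node (.node .leaf (101492, 0, 18, 19284) .leaf) (101494, 0, 17, 192618) (.node .leaf (101497, 0, 15, 34811) .leaf))))) (101499, 0, 13, 225161) (.node (.node (.node (.node (.node .leaf (101501, 0, 16, 91569) .leaf) (101503, 0, 18, 69780) (.node .leaf (101504, 0, 16, 202560) .leaf)) (101506, 0, 17, 149349) (.node (.node .leaf (101508, 0, 14, 43083) .leaf) (101510, 0, 17, 213049) (.node .leaf (101513, 0, 15, 119486) .leaf))) (101515, 0, 17, 33435) (.node (.node (.node .leaf (101517, 0, 15, 138233) .leaf) (101519, 0, 17, 127883) (.node .leaf (101521, 0, 18, 194702) .leaf)) (101523, 0, 11, 69884) (.node (.node .leaf (101525, 0, 15, 34707) .leaf) (101527,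 0, 8, 225249) (.node .leaf (101528, 0, 16, 215693) .leaf)))) (101530, 0, 15, 137896) (.node (.node (.node (.node .leaf (101532, 0, 17, 226222) .leaf) (101534, 0, 14, 140171) (.node .leaf (101537, 0, 17, 64723) .leaf)) (101539, 0, 15, 137984) (.node (.node .leaf (101541, 0, 17, 232559) .leaf) (101543, 0, 16, 25629) (.node .leaf (101544, 0, 16, 213184) .leaf))) (101546, 0, 17, 223496) (.node (.node (.node .leaf (101548, 0, 18, 81885) .leaf) (101550, 0, 18, 217131) (.node .leaf (101552, 0, 15, 156896) .leaf)) (101554, 0, 15, 144600) (.node (.node .leaf (101556, 0, 18, 155075) .leaf) (101558, 0, 17, 19397) (.node .leaf (101561, 0, 16, 41246) .leaf))))))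

/-- part of the orbit tree -/
def itp3_48 : Tree := (.node (.node (.node (.node (.node (.node .leaf (101565, 0, 18, 69637) .leaf) (101567, 0, 16, 194679) (.node .leaf (101568, 0, 13, 32198) .leaf)) (101570, 0, 15, 92078) (.node (.node .leaf (101572, 0, 16, 61633) .leaf) (101574, 0, 16, 202931) (.node .leaf (101577, 0, 15, 15470) .leaf))) (101579, 0, 16, 250908) (.node (.node (.node .leaf (101581, 0, 13, 164123) .leaf) (101583, 0, 18, 250174) (.node .leaf (101585, 0, 15, 172036) .leaf)) (101587, 0, 13, 84086) (.node (.node .leaf (101589, 0, 14, 57113) .leaf) (101591, 0, 14, 232691) (.node .leaf (101592, 0, 16, 5046) .leaf)))) (101594, 0, 16, 261060) (.node (.node (.node (.node .leaf (101596, 0, 17, 6440) .leaf) (101598, 0, 17, 84237) (.node .leaf (101601, 0, 13, 235093) .leaf)) (101603, 0, 16, 148362) (.node (.node .leaf (101605, 0, 13, 251109) .leaf) (101607, 0, 15, 196435) (.node .leaf (101608, 0, 16, 86955) .leaf))) (101610, 0, 18, 910) (.node (.node (.node .leaf (101612, 0, 18, 92808) .leaf) (101614, 0, 17, 167717) (.node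 .leaf (101616, 0, 17, 69222) .leaf)) (101618, 0, 12, 24131) (.node (.node .leaf (101620, 0, 15, 260925) .leaf) (101622, 0, 16, 4943) (.node .leaf (101625, 0, 11, 248728) .leaf))))) (101627, 0, 16, 57312) (.node (.node (.node (.node (.node .leaf (101629, 0, 13, 258747) .leaf) (101631, 0, 16, 172702) (.node .leaf (101633, 0, 14, 252402) .leaf)) (101635, 0, 17, 12672) (.node (.node .leaf (101637, 0, 16, 108271) .leaf) (101639, 0, 17, 151197) (.node .leaf (101640, 0, 16, 1958) .leaf))) (101642, 0, 18, 164402) (.node (.node (.node .leaf (101644, 0, 15, 202077) .leaf) (101646, 0, 16, 64815) (.node .leaf (101648, 0, 16, 259626) .leaf)) (101650, 0, 17, 68174) (.node (.node .leaf (101652, 0, 14, 25416) .leaf) (101654, 0, 12, 155973) (.node .leaf (101657, 0, 13, 83352) .leaf)))) (101659, 0, 17, 175594) (.node (.node (.node (.node .leaf (101661, 0, 15, 211589) .leaf) (101663, 0, 16, 54007) (.node .leaf (101664, 0, 15, 76235) .leaf)) (101666, 0, 17, 202148) (.node (.node .leaf (101668, 0, 16, 164555) .leaf) (101670, 0, 15, 16589) (.node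 .leaf (101673, 0, 15, 257077) .leaf))) (101675, 0, 17, 108054) (.node (.node (.node .leaf (101677, 0, 16, 12665) .leaf) (101679, 0, 18, 165171) (.node .leaf (101681, 0, 15, 242168) .leaf)) (101683, 0, 18, 211580) (.node (.node .leaf (101685, 0, 15, 231643) .leaf) (101687, 0, 17, 186622) (.node .leaf (101688, 0, 14, 95238) .leaf))))))

/-- part of the orbit tree -/
def itp3_49 : Tree := (.node itp3_45 (101305, 0, 14, 144818) itp3_46)

/-- part of the orbit tree -/
def itp3_50 : Tree := (.node itp3_47 (101563, 0, 13, 127291) itp3_48)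

/-- part of the orbit tree -/
def itp3_51 : Tree := (.node (.node (.node (.node (.node (.node .leaf (101692, 0, 13, 85285) .leaf) (101694, 0, 17, 7424) (.node .leaf (101697, 0, 12, 108766) .leaf)) (101699, 0, 16, 63739) (.node (.node .leaf (101701, 0, 18, 130661) .leaf) (101703, 0, 18, 49624) (.node .leaf (101704, 0, 14, 224544) .leaf))) (101706, 0, 15, 187064) (.node (.node (.node .leaf (101708, 0, 15, 216535) .leaf) (101710, 0, 15, 132134) (.node .leaf (101712, 0, 14, 241312) .leaf)) (101714, 0, 17, 155848) (.node (.node .leaf (101716, 0, 13, 199118) .leaf) (101718, 0, 17, 145871) (.node .leaf (101721, 0, 13, 128275) .leaf)))) (101723, 0, 18, 193888) (.node (.node (.node (.node .leaf (101725, 0, 14, 117808) .leaf) (101727, 0, 15, 35453) (.node .leaf (101728, 0, 12, 148301) .leaf)) (101730, 0, 14, 216366) (.node (.node .leaf (101732, 0, 16, 186945) .leaf) (101734, 0, 14, 78387) (.node .leaf (101737, 0, 15, 34483) .leaf))) (101739, 0, 18, 130716) (.node (.node (.node .leaf (101741, 0, 16, 49040) .leaf) (101743, 0, 16, 126901)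 (.node .leaf (101745, 0, 14, 56190) .leaf)) (101747, 0, 17, 221942) (.node (.node .leaf (101749, 0, 17, 57949) .leaf) (101751, 0, 16, 73195) (.node .leaf (101752, 0, 17, 138880) .leaf))))) (101754, 0, 17, 119108) (.node (.node (.node (.node (.node .leaf (101756, 0, 15, 141219) .leaf) (101758, 0, 17, 227206) (.node .leaf (101761, 0, 18, 21842) .leaf)) (101763, 0, 16, 229865) (.node (.node .leaf (101765, 0, 13, 27761) .leaf) (101767, 0, 17, 130804) (.node .leaf (101768, 0, 17, 168108) .leaf))) (101770, 0, 15, 245897) (.node (.node (.node .leaf (101772, 0, 17, 42292) .leaf) (101774, 0, 16, 260522) (.node .leaf (101776, 0, 18, 17987) .leaf)) (101778, 0, 18, 241201) (.node (.node .leaf (101780, 0, 15, 145758) .leaf) (101782, 0, 16, 119084) (.node .leaf (101785, 0, 17, 194033) .leaf)))) (101787, 0, 14, 88250) (.node (.node (.node (.node .leaf (101789, 0, 16, 12732) .leaf) (101791, 0, 17, 221854) (.node .leaf (101792, 0, 19, 245441) .leaf)) (101794, 0, 16, 192228) (.node (.node .leaf (101796, 0, 17, 231394) .leaf) (101798, 0, 18,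 186311) (.node .leaf (101801, 0, 18, 97087) .leaf))) (101803, 0, 16, 136831) (.node (.node (.node .leaf (101805, 0, 14, 82460) .leaf) (101807, 0, 16, 4665) (.node .leaf (101809, 0, 16, 221799) .leaf)) (101811, 0, 15, 30423) (.node (.node .leaf (101813, 0, 14, 73082) .leaf) (101815, 0, 15, 193800) (.node .leaf (101816, 0, 13, 119253) .leaf))))))

/-- part of the orbit tree -/
def itp3_52 : Tree := (.node (.node (.node (.node (.node (.node .leaf (101820, 0, 16, 241352) .leaf) (101822, 0, 16, 166410) (.node .leaf (101825, 0, 17, 212948) .leaf)) (101827, 0, 15, 252259) (.node (.node .leaf (101829, 0, 15, 198391) .leaf) (101831, 0, 17, 108158) (.node .leaf (101832, 0, 18, 129578) .leaf))) (101834, 0, 16, 92881) (.node (.node (.node .leaf (101836, 0, 17, 64958) .leaf) (101838, 0, 18, 37676) (.node .leaf (101840, 0, 13, 108519) .leaf)) (101842, 0, 17, 63426) (.node (.node .leaf (101844, 0, 18, 156116) .leaf) (101846, 0, 17, 100774) (.node .leaf (101849, 0, 16, 221721) .leaf)))) (101851, 0, 15, 83209) (.node (.node (.node (.node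 .leaf (101853, 0, 17, 53862) .leaf) (101855, 0, 16, 211476) (.node .leaf (101856, 0, 16, 202037) .leaf)) (101858, 0, 15, 99426) (.node (.node .leaf (101860, 0, 19, 60772) .leaf) (101862, 0, 18, 164442) (.node .leaf (101865, 0, 16, 108167) .leaf))) (101867, 0, 7, 213404) (.node (.node (.node .leaf (101869, 0, 15, 141466) .leaf) (101871, 0, 17, 227519) (.node .leaf (101873, 0, 16, 211693) .leaf)) (101875, 0, 17, 53919) (.node (.node .leaf (101877, 0, 15, 83440) .leaf) (101879, 0, 17, 175490) (.node .leaf (101880, 0, 17, 100703) .leaf))))) (101882, 0, 18, 155949) (.node (.node (.node (.node (.node .leaf (101884, 0, 15, 45225) .leaf) (101886, 0, 17, 123020) (.node .leaf (101896, 0, 18, 231842) .leaf)) (101897, 0, 16, 250273) (.node (.node .leaf (101898, 0, 17, 155901) .leaf) (101899, 0, 15, 145889) (.node .leaf (101900, 0, 14, 241793) .leaf))) (101901, 0, 15, 110268) (.node (.node (.node .leaf (101902, 0, 17, 8160) .leaf) (101903, 0, 15, 149198) (.node .leaf (101904, 0, 18, 201957) .leaf)) (101905, 0, 18, 209929) (.node (.node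 .leaf (101906, 0, 18, 64663) .leaf) (101907, 0, 16, 173497) (.node .leaf (101908, 0, 15, 93176) .leaf)))) (101909, 0, 16, 199978) (.node (.node (.node (.node .leaf (101910, 0, 18, 179561) .leaf) (101911, 0, 17, 55972) (.node .leaf (101920, 0, 16, 7961) .leaf)) (101921, 0, 14, 149417) (.node (.node .leaf (101922, 0, 18, 260074) .leaf) (101923, 0, 16, 110149) (.node .leaf (101924, 0, 14, 171756) .leaf))) (101925, 0, 14, 14634) (.node (.node (.node .leaf (101926, 0, 16, 100470) .leaf) (101927, 0, 16, 208559) (.node .leaf (101944, 0, 16, 195074) .leaf)) (101945, 0, 14, 137828) (.node (.node .leaf (101946, 0, 16, 240167) .leaf) (101947, 0, 15, 215617) (.node .leaf (101948, 0, 15, 181025) .leaf))))))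

/-- part of the orbit tree -/
def itp3_53 : Tree := (.node (.node (.node (.node (.node (.node .leaf (101950, 0, 11, 201756) .leaf) (101951, 0, 17, 85298) (.node .leaf (101960, 0, 16, 118789) .leaf)) (101961, 0, 16, 231723) (.node (.node .leaf (101962, 0, 14, 145527) .leaf) (101963, 0, 16, 86887) (.node .leaf (101964, 0, 16, 55815) .leaf))) (101965, 0, 14, 128566) (.node (.node (.node .leaf (101966, 0, 12, 18282) .leaf) (101967, 0, 16, 92740) (.node .leaf (101968, 0, 17, 216175) .leaf)) (101969, 0, 18, 24207) (.node (.node .leaf (101970, 0, 17, 126668) .leaf) (101971, 0, 15, 195891) (.node .leaf (101972, 0, 17, 34762) .leaf)))) (101973, 0, 19, 26540) (.node (.node (.node (.node .leaf (101974, 0, 15, 187136) .leaf) (101975, 0, 15, 79753) (.node .leaf (101984, 0, 16, 18323) .leaf)) (101985, 0, 16, 138941) (.node (.node .leaf (101986, 0, 17, 40300) .leaf) (101987, 0, 16, 32010) (.node .leaf (101988, 0, 15, 128106) .leaf))) (101989, 0, 15, 24992) (.node (.node (.node .leaf (101990, 0, 15, 119036) .leaf) (101991, 0, 17, 231890)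 (.node .leaf (102008, 0, 17, 102532) .leaf)) (102009, 0, 15, 94434) (.node (.node .leaf (102010, 0, 15, 78731) .leaf) (102011, 0, 17, 8391) (.node .leaf (102012, 0, 14, 108967) .leaf))))) (102013, 0, 17, 84417) (.node (.node (.node (.node (.node .leaf (102014, 0, 16, 63874) .leaf) (102015, 0, 15, 6628) (.node .leaf (102024, 0, 16, 73384) .leaf)) (102025, 0, 17, 130766) (.node (.node .leaf (102026, 0, 16, 20109) .leaf) (102027, 0, 12, 44779) (.node .leaf (102028, 0, 15, 18427) .leaf))) (102029, 0, 19, 116717) (.node (.node (.node .leaf (102030, 0, 17, 241545) .leaf) (102031, 0, 14, 128679) (.node .leaf (102032, 0, 17, 42124) .leaf)) (102033, 0, 18, 107267) (.node (.node .leaf (102034, 0, 17, 4928) .leaf) (102035, 0, 18, 62246) (.node .leaf (102036, 0, 13, 187281) .leaf)))) (102037, 0, 16, 33471) (.node (.node (.node (.node .leaf (102038, 0, 18, 78819) .leaf) (102039, 0, 15, 51717) (.node .leaf (102048, 0, 15, 12485) .leaf)) (102049, 0, 17, 53411) (.node (.node .leaf (102050, 0, 16, 18178) .leaf) (102051, 0, 15, 138796) (.node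 .leaf (102052, 0, 16, 2534) .leaf))) (102053, 0, 18, 231747) (.node (.node (.node .leaf (102054, 0, 18, 145439) .leaf) (102055, 0, 16, 24881) (.node .leaf (102072, 0, 15, 27912) .leaf)) (102073, 0, 18, 223796) (.node (.node .leaf (102074, 0, 18, 81197) .leaf) (102075, 0, 18, 33350) (.node .leaf (102076, 0, 13, 216071) .leaf))))))

/-- part of the orbit tree -/
def itp3_54 : Tree := (.node (.node (.node (.node (.node (.node .leaf (102078, 0, 11, 66574) .leaf) (102079, 0, 13, 195931) (.node .leaf (102088, 0, 16, 160814) .leaf)) (102089, 0, 18, 169032) (.node (.node .leaf (102090, 0, 18, 205835) .leaf) (102091, 0, 17, 246893) (.node .leaf (102092, 0, 14, 8049) .leaf))) (102093, 0, 19, 175467) (.node (.node (.node .leaf (102094, 0, 13, 259843) .leaf) (102095, 0, 15, 110125) (.node .leaf (102096, 0, 17, 64518) .leaf)) (102097, 0, 14, 182661) (.node (.node .leaf (102098, 0, 17, 201844) .leaf) (102099, 0, 16, 235936) (.node .leaf (102100, 0, 13, 164635) .leaf)))) (102101, 0, 18, 192678) (.node (.node (.node (.node .leaf (102102,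 0, 17, 93033) .leaf) (102103, 0, 17, 209479) (.node .leaf (102112, 0, 13, 219715) .leaf)) (102113, 0, 17, 110292) (.node (.node .leaf (102114, 0, 17, 133734) .leaf) (102115, 0, 17, 149158) (.node .leaf (102116, 0, 18, 222048) .leaf))) (102117, 0, 15, 230150) (.node (.node (.node .leaf (102118, 0, 17, 144197) .leaf) (102119, 0, 16, 185123) (.node .leaf (102136, 0, 16, 198542) .leaf)) (102137, 0, 18, 209598) (.node (.node .leaf (102138, 0, 18, 153515) .leaf) (102139, 0, 16, 56012) (.node .leaf (102140, 0, 17, 212653) .leaf))))) (102141, 0, 17, 85411) (.node (.node (.node (.node (.node .leaf (102142, 0, 16, 64767) .leaf) (102143, 0, 14, 173521) (.node .leaf (102144, 0, 16, 134734) .leaf)) (102145, 0, 12, 192040) (.node (.node .leaf (102146, 0, 17, 220779) .leaf) (102147, 0, 16, 245261) (.node .leaf (102148, 0, 14, 260845) .leaf))) (102149, 0, 7, 186123) (.node (.node (.node .leaf (102150, 0, 17, 4767) .leaf) (102151, 0, 16, 231214) (.node .leaf (102168, 0, 18, 152451) .leaf)) (102169, 0, 16, 82100) (.node (.node .leaf (102170,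 0, 18, 197542) .leaf) (102171, 0, 10, 254912) (.node .leaf (102172, 0, 14, 158368) .leaf)))) (102173, 0, 15, 212905) (.node (.node (.node (.node .leaf (102174, 0, 15, 211589) .leaf) (102175, 0, 15, 252643) (.node .leaf (102184, 0, 18, 204835) .leaf)) (102185, 0, 18, 245829) (.node (.node .leaf (102186, 0, 15, 260628) .leaf) (102187, 0, 14, 107322) (.node .leaf (102188, 0, 14, 159099) .leaf))) (102189, 0, 18, 13397) (.node (.node (.node .leaf (102190, 0, 18, 149797) .leaf) (102191, 0, 16, 252967) (.node .leaf (102192, 0, 14, 228846) .leaf)) (102193, 0, 15, 236936) (.node (.node .leaf (102194, 0, 18, 142795) .leaf) (102195, 0, 14, 212816) .leaf)))))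

/-- part of the orbit tree -/
def itp3_55 : Tree := (.node itp3_51 (101818, 0, 18, 145831) itp3_52)

/-- part of the orbit tree -/
def itp3_56 : Tree := (.node itp3_53 (102077, 0, 15, 46157) itp3_54)

/-- part of the orbit tree -/
def itp3_57 : Tree := (.node itp3_49 (101435, 0, 17, 222769) itp3_50)

/-- part of the orbit tree -/
def itp3_58 : Tree := (.node itp3_55 (101949, 0, 12, 173376) itp3_56)

/-- part of the orbit tree -/
def itp3_59 : Tree := (.node itp3_43 (100669, 0, 15, 84603) itp3_44)

/-- part of the orbit tree -/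
def itp3_60 : Tree := (.node itp3_57 (101690, 0, 14, 9251) itp3_58)

/-- part of the orbit tree -/
def itp3_61 : Tree := (.node itp3_29 (99133, 0, 18, 189831) itp3_30)

/-- part of the orbit tree -/
def itp3_62 : Tree := (.node itp3_59 (101177, 0, 16, 208970) itp3_60)

/-- part of the orbit tree -/
def itp3_63 : Tree := (.node (.node (.node (.node (.node (.node .leaf (102197, 0, 16, 174143) .leaf) (102198, 0, 15, 203107) (.node .leaf (102199, 0, 17, 81997) .leaf)) (102208, 0, 14, 91336) (.node (.node .leaf (102209, 0, 15, 230484) .leaf) (102210, 0, 19, 144648) (.node .leaf (102211, 0, 16, 54411) .leaf))) (102212, 0, 18, 89579) (.node (.node (.node .leaf (102213, 0, 15, 114061) .leaf) (102214, 0, 15, 3534) (.node .leaf (102215, 0, 17, 60840) .leaf)) (102232, 0, 16, 80133) (.node (.node .leaf (102233, 0, 17, 71742) .leaf) (102234, 0, 17, 43362) (.node .leaf (102235, 0, 17, 192588) .leaf)))) (102236, 0, 16, 65574) (.node (.node (.node (.node .leaf (102237, 0, 15, 223011) .leaf) (102238, 0, 17, 20483) (.node .leaf (102239, 0,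 17, 45157) .leaf)) (102248, 0, 11, 19109) (.node (.node .leaf (102249, 0, 17, 43715) .leaf) (102250, 0, 13, 238238) (.node .leaf (102251, 0, 14, 129766) .leaf))) (102252, 0, 14, 29574) (.node (.node (.node .leaf (102253, 0, 13, 27871) .leaf) (102254, 0, 14, 122243) (.node .leaf (102255, 0, 15, 230573) .leaf)) (102256, 0, 16, 185990) (.node (.node .leaf (102257, 0, 17, 36776) .leaf) (102258, 0, 17, 81652) (.node .leaf (102259, 0, 17, 108331) .leaf))))) (102260, 0, 17, 11851) (.node (.node (.node (.node (.node .leaf (102261, 0, 15, 52781) .leaf) (102262, 0, 11, 97902) (.node .leaf (102263, 0, 17, 105992) .leaf)) (102272, 0, 18, 39236) (.node (.node .leaf (102273, 0, 15, 27831) .leaf) (102274, 0, 14, 117089) (.node .leaf (102275, 0, 16, 76039) .leaf))) (102276, 0, 13, 41063) (.node (.node (.node .leaf (102277, 0, 17, 136106) .leaf) (102278, 0, 14, 127042) (.node .leaf (102279, 0, 16, 69668) .leaf)) (102296, 0, 13, 50313) (.node (.node .leaf (102297, 0, 18, 192733) .leaf) (102298, 0, 13, 103596) (.node .leaf (102299, 0, 10, 95434)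 .leaf)))) (102300, 0, 17, 64938) (.node (.node (.node (.node .leaf (102301, 0, 16, 7628) .leaf) (102302, 0, 15, 109967) (.node .leaf (102303, 0, 12, 85481) .leaf)) (102312, 0, 16, 238095) (.node (.node .leaf (102313, 0, 15, 87887) .leaf) (102314, 0, 15, 19069) (.node .leaf (102315, 0, 14, 1898) .leaf))) (102316, 0, 17, 122130) (.node (.node (.node .leaf (102317, 0, 16, 93804) .leaf) (102318, 0, 16, 56879) (.node .leaf (102319, 0, 16, 27726) .leaf)) (102320, 0, 13, 125668) (.node (.node .leaf (102321, 0, 12, 223051) .leaf) (102322, 0, 11, 185879) (.node .leaf (102323, 0, 14, 23207) .leaf))))))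

/-- part of the orbit tree -/
def itp3_64 : Tree := (.node (.node (.node (.node (.node (.node .leaf (102325, 0, 15, 78753) .leaf) (102326, 0, 16, 33762) (.node .leaf (102327, 0, 15, 192548) .leaf)) (102336, 0, 15, 158995) (.node (.node .leaf (102337, 0, 14, 201636) .leaf) (102338, 0, 14, 173031) (.node .leaf (102339, 0, 16, 253007) .leaf))) (102340, 0, 13, 248545) (.node (.node (.node .leaf (102341, 0, 16, 207495) .leaf) (102342, 0, 13, 170692) (.node .leaf (102343, 0, 15, 162466) .leaf)) (102360, 0, 16, 61817) (.node (.node .leaf (102361, 0, 18, 216681) .leaf) (102362, 0, 17, 203019) (.node .leaf (102363, 0, 17, 138828) .leaf)))) (102364, 0, 17, 167524) (.node (.node (.node (.node .leaf (102365, 0, 18, 227146) .leaf) (102366, 0, 13, 91670) (.node .leaf (102367, 0, 16, 141167) .leaf)) (102376, 0, 16, 187823) (.node (.node .leaf (102377, 0, 15, 107435) .leaf) (102378, 0, 15, 4855) (.node .leaf (102379, 0, 17, 150489) .leaf))) (102380, 0, 17, 99736) (.node (.node (.node .leaf (102381, 0, 15, 132330) .leaf) (102382, 0, 13,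 159210) (.node .leaf (102383, 0, 16, 13508) .leaf)) (102384, 0, 18, 163938) (.node (.node .leaf (102385, 0, 18, 212929) .leaf) (102386, 0, 15, 249927) (.node .leaf (102387, 0, 15, 55219) .leaf))))) (102388, 0, 17, 178497) (.node (.node (.node (.node (.node .leaf (102389, 0, 16, 82140) .leaf) (102390, 0, 15, 256356) (.node .leaf (102391, 0, 17, 198914) .leaf)) (102401, 0, 15, 201098) (.node (.node .leaf (102402, 0, 17, 172489) .leaf) (102404, 0, 17, 248015) (.node .leaf (102407, 0, 16, 161932) .leaf))) (102409, 0, 15, 85555) (.node (.node (.node .leaf (102410, 0, 17, 33873) .leaf) (102412, 0, 16, 92160) (.node .leaf (102415, 0, 17, 55644) .leaf)) (102416, 0, 17, 100793) (.node (.node .leaf (102419, 0, 12, 14842) .leaf) (102421, 0, 13, 86268) (.node .leaf (102422, 0, 18, 57535) .leaf)))) (102424, 0, 12, 90603) (.node (.node (.node (.node .leaf (102427, 0, 16, 138338) .leaf) (102429, 0, 17, 226660) (.node .leaf (102430, 0, 14, 63108) .leaf)) (102432, 0, 13, 163979) (.node (.node .leaf (102435, 0, 17, 209367) .leaf) (102437,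 0, 18, 9052) (.node .leaf (102438, 0, 16, 202724) .leaf))) (102440, 0, 14, 158231) (.node (.node (.node .leaf (102443, 0, 15, 225218) .leaf) (102445, 0, 13, 132804) (.node .leaf (102446, 0, 14, 243335) .leaf)) (102449, 0, 16, 156202) (.node (.node .leaf (102450, 0, 16, 250473) .leaf) (102452, 0, 16, 166240) (.node .leaf (102455, 0, 15, 211004) .leaf))))))

/-- part of the orbit tree -/
def itp3_65 : Tree := (.node (.node (.node (.node (.node (.node .leaf (102458, 0, 14, 259219) .leaf) (102460, 0, 17, 156668) (.node .leaf (102463, 0, 16, 77492) .leaf)) (102465, 0, 14, 31500) (.node (.node .leaf (102466, 0, 16, 117583) .leaf) (102468, 0, 15, 121366) (.node .leaf (102471, 0, 18, 70154) .leaf))) (102473, 0, 16, 155284) (.node (.node (.node .leaf (102474, 0, 16, 42981) .leaf) (102476, 0, 18, 165841) (.node .leaf (102479, 0, 11, 210834) .leaf)) (102480, 0, 17, 189247) (.node (.node .leaf (102483, 0, 15, 25249) .leaf) (102485, 0, 16, 146042) (.node .leaf (102486, 0, 17, 17554) .leaf)))) (102488, 0, 17, 80225) (.node (.node (.node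 (.node .leaf (102491, 0, 15, 34877) .leaf) (102493, 0, 16, 73554) (.node .leaf (102494, 0, 15, 110497) .leaf)) (102496, 0, 17, 186369) (.node (.node .leaf (102499, 0, 13, 223581) .leaf) (102501, 0, 14, 215514) (.node .leaf (102502, 0, 14, 194969) .leaf))) (102504, 0, 14, 144029) (.node (.node (.node .leaf (102507, 0, 16, 230337) .leaf) (102509, 0, 18, 93250) (.node .leaf (102510, 0, 17, 56321) .leaf)) (102513, 0, 17, 194521) (.node (.node .leaf (102514, 0, 15, 214661) .leaf) (102516, 0, 14, 184810) (.node .leaf (102519, 0, 16, 25002) .leaf))))) (102521, 0, 17, 208180) (.node (.node (.node (.node (.node .leaf (102522, 0, 17, 240665) .leaf) (102524, 0, 17, 259185) (.node .leaf (102527, 0, 15, 231978) .leaf)) (102529, 0, 14, 99968) (.node (.node .leaf (102530, 0, 15, 239002) .leaf) (102532, 0, 16, 90053) (.node .leaf (102535, 0, 18, 61318) .leaf))) (102537, 0, 16, 238360) (.node (.node (.node .leaf (102538, 0, 17, 136027) .leaf) (102540, 0, 16, 227933) (.node .leaf (102543, 0, 17, 182814) .leaf)) (102544, 0, 17, 146206) (.node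 (.node .leaf (102547, 0, 16, 232002) .leaf) (102549, 0, 18, 247798) (.node .leaf (102550, 0, 17, 161717) .leaf)))) (102552, 0, 15, 80683) (.node (.node (.node (.node .leaf (102555, 0, 10, 221406) .leaf) (102557, 0, 15, 123502) (.node .leaf (102558, 0, 16, 214765) .leaf)) (102560, 0, 15, 158995) (.node (.node .leaf (102563, 0, 16, 253264) .leaf) (102565, 0, 17, 177238) (.node .leaf (102566, 0, 18, 197653) .leaf))) (102568, 0, 18, 18571) (.node (.node (.node .leaf (102571, 0, 16, 27426) .leaf) (102573, 0, 15, 130125) (.node .leaf (102574, 0, 18, 19729) .leaf)) (102577, 0, 17, 62752) (.node (.node .leaf (102578, 0, 14, 44646) .leaf) (102580, 0, 13, 11365) (.node .leaf (102583, 0, 16, 34901) .leaf))))))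

/-- part of the orbit tree -/
def itp3_66 : Tree := (.node (.node (.node (.node (.node (.node .leaf (102586, 0, 16, 17658) .leaf) (102588, 0, 17, 119701) (.node .leaf (102591, 0, 18, 244158) .leaf)) (102593, 0, 16, 191494) (.node (.node .leaf (102594, 0, 15, 261392) .leaf) (102596, 0, 15, 144707) (.node .leaf (102599, 0, 14, 252707) .leaf))) (102601, 0, 15, 173776) (.node (.node (.node .leaf (102602, 0, 17, 96733) .leaf) (102604, 0, 17, 164067) (.node .leaf (102607, 0, 16, 106648) .leaf)) (102608, 0, 17, 156564) (.node (.node .leaf (102611, 0, 15, 115830) .leaf) (102613, 0, 16, 44400) (.node .leaf (102614, 0, 16, 259323) .leaf)))) (102616, 0, 16, 151981) (.node (.node (.node (.node .leaf (102619, 0, 15, 254446) .leaf) (102621, 0, 14, 175931) (.node .leaf (102622, 0, 16, 211115) .leaf)) (102624, 0, 16, 67477) (.node (.node .leaf (102627, 0, 17, 47062) .leaf) (102629, 0, 15, 85595) (.node .leaf (102630, 0, 17, 28307) .leaf))) (102632, 0, 13, 99060) (.node (.node (.node .leaf (102635, 0, 16, 13224) .leaf) (102637, 0, 18, 260936)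 (.node .leaf (102638, 0, 16, 150283) .leaf)) (102641, 0, 17, 237478) (.node (.node .leaf (102642, 0, 16, 143333) .leaf) (102644, 0, 16, 214755) (.node .leaf (102647, 0, 14, 53471) .leaf))))) (102649, 0, 17, 113214) (.node (.node (.node (.node (.node .leaf (102650, 0, 16, 7280) .leaf) (102652, 0, 16, 91003) (.node .leaf (102655, 0, 13, 14915) .leaf)) (102656, 0, 12, 203362) (.node (.node .leaf (102659, 0, 17, 123867) .leaf) (102661, 0, 16, 35549) (.node .leaf (102662, 0, 10, 167181) .leaf))) (102664, 0, 18, 161280) (.node (.node (.node .leaf (102667, 0, 17, 247363) .leaf) (102669, 0, 17, 175941) (.node .leaf (102670, 0, 16, 157585) .leaf)) (102673, 0, 15, 210362) (.node (.node .leaf (102674, 0, 18, 228328) .leaf) (102676, 0, 18, 201609) (.node .leaf (102679, 0, 17, 238253) .leaf)))) (102681, 0, 16, 60979) (.node (.node (.node (.node .leaf (102682, 0, 17, 159354) .leaf) (102684, 0, 17, 14198) (.node .leaf (102687, 0, 13, 100149) .leaf)) (102689, 0, 15, 243723) (.node (.node .leaf (102690, 0, 16, 133192) .leaf) (102692, 0, 18,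 221518) (.node .leaf (102695, 0, 17, 184589) .leaf))) (102697, 0, 13, 105875) (.node (.node (.node .leaf (102698, 0, 16, 91526) .leaf) (102700, 0, 16, 62185) (.node .leaf (102703, 0, 17, 62613) .leaf)) (102704, 0, 16, 73784) (.node (.node .leaf (102707, 0, 17, 106690) .leaf) (102709, 0, 18, 129405) (.node .leaf (102710, 0, 16, 100081) .leaf))))))

/-- part of the orbit tree -/
def itp3_67 : Tree := (.node itp3_63 (102324, 0, 17, 213368) itp3_64)

/-- part of the orbit tree -/
def itp3_68 : Tree := (.node itp3_65 (102585, 0, 14, 128422) itp3_66)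

/-- part of the orbit tree -/
def itp3_69 : Tree := (.node (.node (.node (.node (.node (.node .leaf (102715, 0, 13, 177635) .leaf) (102717, 0, 15, 56625) (.node .leaf (102718, 0, 16, 93293) .leaf)) (102720, 0, 15, 213736) (.node (.node .leaf (102723, 0, 15, 193460) .leaf) (102725, 0, 15, 254043) (.node .leaf (102726, 0, 15, 151576) .leaf))) (102728, 0, 15, 239732) (.node (.node (.node .leaf (102731, 0, 12, 137512) .leaf) (102733, 0, 18, 233031) (.node .leaf (102734, 0, 17, 147227) .leaf)) (102737, 0, 16, 106797) (.node (.node .leaf (102738, 0, 16, 187500) .leaf) (102740, 0, 18, 215811) (.node .leaf (102743, 0, 18, 51243) .leaf)))) (102745, 0, 14, 230581) (.node (.node (.node (.node .leaf (102746, 0, 16, 145136) .leaf) (102748, 0, 13, 220656) (.node .leaf (102751, 0, 17, 191923) .leaf)) (102753, 0, 15, 26316) (.node (.node .leaf (102754, 0, 15, 90830) .leaf) (102756, 0, 15, 3016) (.node .leaf (102759, 0, 16, 113547) .leaf))) (102761, 0, 15, 194325) (.node (.node (.node .leaf (102762, 0, 14, 214870) .leaf) (102764, 0, 17,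 43619) (.node .leaf (102767, 0, 16, 237075) .leaf)) (102768, 0, 18, 18708) (.node (.node .leaf (102771, 0, 15, 260861) .leaf) (102773, 0, 16, 168955) (.node .leaf (102774, 0, 15, 122491) .leaf))))) (102776, 0, 18, 28454) (.node (.node (.node (.node (.node .leaf (102779, 0, 16, 122725) .leaf) (102781, 0, 17, 34235) (.node .leaf (102782, 0, 15, 79079) .leaf)) (102784, 0, 9, 43531) (.node (.node .leaf (102787, 0, 19, 226513) .leaf) (102789, 0, 16, 138711) (.node .leaf (102790, 0, 16, 81252) .leaf))) (102792, 0, 15, 16535) (.node (.node (.node .leaf (102795, 0, 12, 86345) .leaf) (102797, 0, 16, 26276) (.node .leaf (102798, 0, 15, 120824) .leaf)) (102801, 0, 15, 23713) (.node (.node .leaf (102802, 0, 17, 78991) .leaf) (102804, 0, 16, 41952) (.node .leaf (102807, 0, 15, 79271) .leaf)))) (102809, 0, 15, 28495) (.node (.node (.node (.node .leaf (102810, 0, 16, 248186) .leaf) (102812, 0, 15, 172156) (.node .leaf (102815, 0, 18, 129056) .leaf)) (102817, 0, 16, 233007) (.node (.node .leaf (102818, 0, 17, 40770) .leaf) (102820, 0, 15,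 128580) (.node .leaf (102823, 0, 17, 17927) .leaf))) (102825, 0, 17, 222387) (.node (.node (.node .leaf (102826, 0, 16, 185839) .leaf) (102828, 0, 18, 250844) (.node .leaf (102831, 0, 17, 193500) .leaf)) (102832, 0, 16, 243506) (.node (.node .leaf (102835, 0, 16, 132977) .leaf) (102837, 0, 15, 231364) (.node .leaf (102838, 0, 16, 145048) .leaf))))))

/-- part of the orbit tree -/
def itp3_70 : Tree := (.node (.node (.node (.node (.node (.node .leaf (102843, 0, 15, 8937) .leaf) (102845, 0, 16, 224600) (.node .leaf (102846, 0, 18, 64428) .leaf)) (102848, 0, 17, 62081) (.node (.node .leaf (102851, 0, 13, 82909) .leaf) (102853, 0, 16, 96081) (.node .leaf (102854, 0, 14, 50962) .leaf))) (102856, 0, 15, 232332) (.node (.node (.node .leaf (102859, 0, 14, 108865) .leaf) (102861, 0, 16, 15918) (.node .leaf (102862, 0, 16, 189066) .leaf)) (102865, 0, 16, 56665) (.node (.node .leaf (102866, 0, 14, 165476) .leaf) (102868, 0, 16, 257890) (.node .leaf (102871, 0, 19, 155425) .leaf)))) (102873, 0, 13, 14277) (.node (.node (.node (.node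 .leaf (102874, 0, 16, 41980) .leaf) (102876, 0, 17, 4598) (.node .leaf (102879, 0, 16, 106666) .leaf)) (102881, 0, 13, 148871) (.node (.node .leaf (102882, 0, 16, 157689) .leaf) (102884, 0, 15, 171202) (.node .leaf (102887, 0, 17, 147914) .leaf))) (102889, 0, 15, 24607) (.node (.node (.node .leaf (102890, 0, 16, 118876) .leaf) (102892, 0, 17, 203274) (.node .leaf (102895, 0, 16, 67865) .leaf)) (102896, 0, 13, 260477) (.node (.node .leaf (102899, 0, 13, 149537) .leaf) (102901, 0, 14, 253774) (.node .leaf (102902, 0, 18, 159250) .leaf))))) (102904, 0, 15, 201697) (.node (.node (.node (.node (.node .leaf (102907, 0, 15, 215151) .leaf) (102909, 0, 17, 139625) (.node .leaf (102910, 0, 16, 233770) .leaf)) (102912, 0, 12, 253340) (.node (.node .leaf (102913, 0, 17, 212474) .leaf) (102918, 0, 15, 159682) (.node .leaf (102919, 0, 13, 152828) .leaf))) (102920, 0, 17, 201265) (.node (.node (.node .leaf (102921, 0, 17, 84767) .leaf) (102926, 0, 11, 165214) (.node .leaf (102927, 0, 14, 29028) .leaf)) (102930, 0, 16, 62956) (.node (.node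 .leaf (102931, 0, 18, 16135) .leaf) (102932, 0, 18, 258374) (.node .leaf (102933, 0, 17, 97420) .leaf)))) (102938, 0, 12, 184436) (.node (.node (.node (.node .leaf (102939, 0, 16, 143378) .leaf) (102940, 0, 14, 203738) (.node .leaf (102941, 0, 14, 219412) .leaf)) (102946, 0, 18, 99916) (.node (.node .leaf (102947, 0, 17, 91690) .leaf) (102948, 0, 17, 64186) (.node .leaf (102949, 0, 14, 172948) .leaf))) (102954, 0, 17, 100169) (.node (.node (.node .leaf (102955, 0, 13, 213938) .leaf) (102956, 0, 14, 182994) (.node .leaf (102957, 0, 16, 142004) .leaf)) (102960, 0, 17, 175676) (.node (.node .leaf (102961, 0, 14, 151130) .leaf) (102966, 0, 18, 247610) (.node .leaf (102967, 0, 16, 206684) .leaf))))))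

/-- part of the orbit tree -/
def itp3_71 : Tree := (.node (.node (.node (.node (.node (.node .leaf (102969, 0, 18, 27586) .leaf) (102974, 0, 17, 102050) (.node .leaf (102975, 0, 17, 66244) .leaf)) (102976, 0, 15, 237607) (.node (.node .leaf (102977, 0, 16, 129289) .leaf) (102982, 0, 12, 122396) (.node .leaf (102983, 0, 18, 81530) .leaf))) (102984, 0, 16, 168578) (.node (.node (.node .leaf (102985, 0, 14, 160484) .leaf) (102990, 0, 20, 260996) (.node .leaf (102991, 0, 17, 203746) .leaf)) (102994, 0, 15, 147107) (.node (.node .leaf (102995, 0, 17, 26509) .leaf) (102996, 0, 17, 240076) (.node .leaf (102997, 0, 16, 127202) .leaf)))) (103002, 0, 13, 113394) (.node (.node (.node (.node .leaf (103003, 0, 17, 36113) .leaf) (103004, 0, 15, 54260) (.node .leaf (103005, 0, 14, 13202) .leaf)) (103010, 0, 16, 191690) (.node (.node .leaf (103011, 0, 13, 224369) .leaf) (103012, 0, 17, 41520) (.node .leaf (103013, 0, 17, 222634) .leaf))) (103018, 0, 16, 51538) (.node (.node (.node .leaf (103019, 0, 15, 10548) .leaf) (103020, 0, 15, 18604)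 (.node .leaf (103021, 0, 15, 135554) .leaf)) (103024, 0, 14, 115898) (.node (.node .leaf (103025, 0, 17, 193269) .leaf) (103030, 0, 17, 81076) (.node .leaf (103031, 0, 15, 222618) .leaf))))) (103032, 0, 14, 16711) (.node (.node (.node (.node (.node .leaf (103033, 0, 15, 196932) .leaf) (103038, 0, 10, 120360) (.node .leaf (103039, 0, 16, 157762) .leaf)) (103040, 0, 17, 18628) (.node (.node .leaf (103041, 0, 16, 135658) .leaf) (103046, 0, 15, 122795) (.node .leaf (103047, 0, 18, 50166) .leaf))) (103048, 0, 17, 41560) (.node (.node (.node .leaf (103049, 0, 14, 195446) .leaf) (103054, 0, 16, 79159) (.node .leaf (103055, 0, 15, 224281) .leaf)) (103058, 0, 16, 120384) (.node (.node .leaf (103059, 0, 18, 233326) .leaf) (103060, 0, 18, 16687) (.node .leaf (103061, 0, 16, 137217) .leaf)))) (103066, 0, 16, 18302) (.node (.node (.node (.node .leaf (103067, 0, 15, 222706) .leaf) (103068, 0, 16, 43955) (.node .leaf (103069, 0, 17, 118302) .leaf)) (103074, 0, 15, 187836) (.node (.node .leaf (103075, 0, 17, 33938) .leaf) (103076, 0, 16,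 161856) (.node .leaf (103077, 0, 16, 70653) .leaf))) (103082, 0, 16, 79070) (.node (.node (.node .leaf (103083, 0, 17, 28174) .leaf) (103084, 0, 14, 24024) (.node .leaf (103085, 0, 12, 48574) .leaf)) (103088, 0, 17, 14646) (.node (.node .leaf (103089, 0, 18, 72214) .leaf) (103094, 0, 17, 185431) (.node .leaf (103095, 0, 14, 110678) .leaf))))))

/-- part of the orbit tree -/
def itp3_72 : Tree := (.node (.node (.node (.node (.node (.node .leaf (103097, 0, 15, 195784) .leaf) (103102, 0, 16, 226728) (.node .leaf (103103, 0, 14, 234958) .leaf)) (103104, 0, 10, 4174) (.node (.node .leaf (103105, 0, 18, 149856) .leaf) (103110, 0, 16, 100129) (.node .leaf (103111, 0, 15, 239984) .leaf))) (103112, 0, 14, 64210) (.node (.node (.node .leaf (103113, 0, 18, 173052) .leaf) (103118, 0, 16, 93326) (.node .leaf (103119, 0, 17, 101608) .leaf)) (103122, 0, 17, 67680) (.node (.node .leaf (103123, 0, 17, 124934) .leaf) (103124, 0, 15, 6565) (.node .leaf (103125, 0, 15, 147595) .leaf)))) (103130, 0, 14, 91222) (.node (.node (.node (.node .leaf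 (103131, 0, 15, 212344) .leaf) (103132, 0, 17, 62265) (.node .leaf (103133, 0, 17, 174615) .leaf)) (103138, 0, 17, 31680) (.node (.node .leaf (103139, 0, 12, 39846) .leaf) (103140, 0, 14, 201305) (.node .leaf (103141, 0, 15, 127648) .leaf))) (103146, 0, 16, 155224) (.node (.node (.node .leaf (103147, 0, 15, 13956) .leaf) (103148, 0, 10, 260293) (.node .leaf (103149, 0, 14, 106987) .leaf)) (103152, 0, 17, 203698) (.node (.node .leaf (103153, 0, 17, 82588) .leaf) (103158, 0, 17, 167133) (.node .leaf (103159, 0, 17, 54771) .leaf))))) (103160, 0, 11, 258350) (.node (.node (.node (.node (.node .leaf (103161, 0, 16, 108544) .leaf) (103166, 0, 15, 157249) (.node .leaf (103167, 0, 13, 16239) .leaf)) (103170, 0, 17, 63292) (.node (.node .leaf (103171, 0, 16, 118699) .leaf) (103172, 0, 16, 18123) (.node .leaf (103173, 0, 18, 42669) .leaf))) (103178, 0, 16, 199253) (.node (.node (.node .leaf (103179, 0, 15, 148622) .leaf) (103180, 0, 14, 101071) (.node .leaf (103181, 0, 17, 164661) .leaf)) (103184, 0, 16, 92600) (.node (.node .leaf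 (103185, 0, 17, 190427) .leaf) (103190, 0, 16, 224955) (.node .leaf (103191, 0, 16, 174073) .leaf)))) (103192, 0, 15, 8741) (.node (.node (.node (.node .leaf (103193, 0, 15, 252426) .leaf) (103198, 0, 18, 5195) (.node .leaf (103199, 0, 17, 109381) .leaf)) (103200, 0, 18, 226333) (.node (.node .leaf (103201, 0, 17, 15210) .leaf) (103206, 0, 17, 259371) (.node .leaf (103207, 0, 14, 109573) .leaf))) (103208, 0, 16, 166104) (.node (.node (.node .leaf (103209, 0, 12, 111075) .leaf) (103214, 0, 16, 204727) (.node .leaf (103215, 0, 11, 83609) .leaf)) (103218, 0, 16, 261312) (.node (.node .leaf (103219, 0, 17, 48139) .leaf) (103220, 0, 18, 79211) .leaf)))))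

/-- part of the orbit tree -/
def itp3_73 : Tree := (.node itp3_69 (102840, 0, 13, 215915) itp3_70)

/-- part of the orbit tree -/
def itp3_74 : Tree := (.node itp3_71 (103096, 0, 10, 138414) itp3_72)

/-- part of the orbit tree -/
def itp3_75 : Tree := (.node itp3_67 (102457, 0, 17, 148943) itp3_68)

/-- part of the orbit tree -/
def itp3_76 : Tree := (.node itp3_73 (102968, 0, 14, 35748) itp3_74)

/-- part of the orbit tree -/
def itp3_77 : Tree := (.node (.node (.node (.node (.node (.node .leaf (103226, 0, 13, 202332) .leaf) (103227, 0, 15, 170387) (.node .leaf (103228, 0, 16, 164147) .leaf)) (103229, 0, 13, 258197) (.node (.node .leaf (103234, 0, 15, 148811) .leaf) (103235, 0, 17, 194200) (.node .leaf (103236, 0, 17, 207949) .leaf))) (103237, 0, 16, 248875) (.node (.node (.node .leaf (103242, 0, 15, 17706) .leaf) (103243, 0, 16, 138244) (.node .leaf (103244, 0, 17, 119365) .leaf)) (103245, 0, 17, 125363) (.node (.node .leaf (103248, 0, 18, 93499) .leaf) (103249, 0, 15, 101725) (.node .leaf (103254, 0, 16, 1085) .leaf))))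 (103255, 0, 16, 58459) (.node (.node (.node (.node .leaf (103256, 0, 18, 121774) .leaf) (103257, 0, 14, 239813) (.node .leaf (103262, 0, 14, 139685) .leaf)) (103263, 0, 17, 180675) (.node (.node .leaf (103264, 0, 17, 7835) .leaf) (103265, 0, 14, 65277) (.node .leaf (103270, 0, 12, 96157) .leaf))) (103271, 0, 14, 128143) (.node (.node (.node .leaf (103272, 0, 18, 184402) .leaf) (103273, 0, 16, 187237) (.node .leaf (103278, 0, 16, 217605) .leaf)) (103279, 0, 17, 242275) (.node (.node .leaf (103282, 0, 17, 210667) .leaf) (103283, 0, 13, 130404) (.node .leaf (103284, 0, 18, 144165) .leaf))))) (103285, 0, 14, 180107) (.node (.node (.node (.node (.node .leaf (103290, 0, 14, 216790) .leaf) (103291, 0, 15, 71672) (.node .leaf (103292, 0, 17, 186809) .leaf)) (103293, 0, 16, 39443) (.node (.node .leaf (103298, 0, 17, 214869) .leaf) (103299, 0, 17, 73339) (.node .leaf (103300, 0, 18, 184769) .leaf))) (103301, 0, 17, 143783) (.node (.node (.node .leaf (103306, 0, 17, 105823) .leaf) (103307, 0, 17, 128231) (.node .leaf (103308, 0, 17,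 62553) .leaf)) (103309, 0, 14, 25480) (.node (.node .leaf (103312, 0, 10, 37047) .leaf) (103313, 0, 15, 33023) (.node .leaf (103318, 0, 15, 216766) .leaf)))) (103319, 0, 15, 72151) (.node (.node (.node (.node .leaf (103320, 0, 15, 144205) .leaf) (103321, 0, 17, 27235) (.node .leaf (103326, 0, 18, 252969) .leaf)) (103327, 0, 16, 212047) (.node (.node .leaf (103328, 0, 14, 119341) .leaf) (103329, 0, 17, 232195) (.node .leaf (103334, 0, 18, 35345) .leaf))) (103335, 0, 15, 138348) (.node (.node (.node .leaf (103336, 0, 14, 247439) .leaf) (103337, 0, 18, 221599) (.node .leaf (103342, 0, 16, 176009) .leaf)) (103343, 0, 16, 194288) (.node (.node .leaf (103346, 0, 16, 19625) .leaf) (103347, 0, 16, 142081) (.node .leaf (103348, 0, 14, 121798) .leaf))))))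

/-- part of the orbit tree -/
def itp3_78 : Tree := (.node (.node (.node (.node (.node (.node .leaf (103354, 0, 17, 61183) .leaf) (103355, 0, 17, 3737) (.node .leaf (103356, 0, 14, 78170) .leaf)) (103357, 0, 12, 92063) (.node (.node .leaf (103362, 0, 16, 204767) .leaf) (103363, 0, 16, 12839) (.node .leaf (103364, 0, 18, 113479) .leaf))) (103365, 0, 19, 88865) (.node (.node (.node .leaf (103370, 0, 17, 194521) .leaf) (103371, 0, 18, 109677) (.node .leaf (103372, 0, 17, 237279) .leaf)) (103373, 0, 15, 229049) (.node (.node .leaf (103376, 0, 15, 260657) .leaf) (103377, 0, 15, 55413) (.node .leaf (103382, 0, 16, 168759) .leaf)))) (103383, 0, 15, 160593) (.node (.node (.node (.node .leaf (103384, 0, 16, 158663) .leaf) (103385, 0, 18, 13033) (.node .leaf (103390, 0, 15, 261288) .leaf)) (103391, 0, 15, 22217) (.node (.node .leaf (103392, 0, 16, 101031) .leaf) (103393, 0, 17, 158199) (.node .leaf (103398, 0, 16, 254103) .leaf))) (103399, 0, 15, 148710) (.node (.node (.node .leaf (103400, 0, 14, 44041) .leaf) (103401, 0, 15, 19567)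 (.node .leaf (103406, 0, 18, 63316) .leaf)) (103407, 0, 13, 75113) (.node (.node .leaf (103410, 0, 16, 5155) .leaf) (103411, 0, 17, 82311) (.node .leaf (103412, 0, 14, 99148) .leaf))))) (103413, 0, 14, 252514) (.node (.node (.node (.node (.node .leaf (103418, 0, 16, 65215) .leaf) (103419, 0, 11, 173969) (.node .leaf (103420, 0, 10, 191871) .leaf)) (103421, 0, 14, 134425) (.node (.node .leaf (103424, 0, 18, 191300) .leaf) (103426, 0, 17, 244577) (.node .leaf (103429, 0, 17, 54854) .leaf))) (103431, 0, 15, 221732) (.node (.node (.node .leaf (103432, 0, 11, 52956) .leaf) (103434, 0, 16, 106233) (.node .leaf (103437, 0, 16, 15578) .leaf)) (103439, 0, 17, 251048) (.node (.node .leaf (103441, 0, 16, 29559) .leaf) (103443, 0, 17, 210911) (.node .leaf (103444, 0, 16, 43570) .leaf)))) (103446, 0, 13, 129559) (.node (.node (.node (.node .leaf (103449, 0, 17, 13617) .leaf) (103451, 0, 17, 253251) (.node .leaf (103452, 0, 11, 4866) .leaf)) (103454, 0, 17, 260976) (.node (.node .leaf (103457, 0, 17, 250961) .leaf) (103459, 0, 16, 20722)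 (.node .leaf (103460, 0, 17, 258658) .leaf))) (103462, 0, 18, 35255) (.node (.node (.node .leaf (103465, 0, 18, 212685) .leaf) (103467, 0, 17, 161130) (.node .leaf (103468, 0, 15, 261130) .leaf)) (103470, 0, 13, 175151) (.node (.node .leaf (103472, 0, 17, 261001) .leaf) (103474, 0, 15, 5115) (.node .leaf (103477, 0, 13, 213409) .leaf))))))

/-- part of the orbit tree -/
def itp3_79 : Tree := (.node (.node (.node (.node (.node (.node .leaf (103480, 0, 15, 114044) .leaf) (103482, 0, 17, 63847) (.node .leaf (103485, 0, 15, 210726) .leaf)) (103487, 0, 16, 13340) (.node (.node .leaf (103488, 0, 18, 43263) .leaf) (103490, 0, 17, 53735) (.node .leaf (103493, 0, 16, 36556) .leaf))) (103495, 0, 18, 222910) (.node (.node (.node .leaf (103496, 0, 15, 16995) .leaf) (103498, 0, 17, 193663) (.node .leaf (103501, 0, 15, 228639) .leaf)) (103503, 0, 18, 232482) (.node (.node .leaf (103505, 0, 18, 203249) .leaf) (103507, 0, 18, 225109) (.node .leaf (103508, 0, 18, 41236) .leaf)))) (103510, 0, 16, 168081) (.node (.node (.node (.node .leaf (103513,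 0, 19, 28091) .leaf) (103515, 0, 17, 230857) (.node .leaf (103516, 0, 19, 19336) .leaf)) (103518, 0, 12, 46345) (.node (.node .leaf (103521, 0, 17, 158289) .leaf) (103523, 0, 16, 25769) (.node .leaf (103524, 0, 17, 176916) .leaf))) (103526, 0, 15, 254769) (.node (.node (.node .leaf (103529, 0, 18, 20425) .leaf) (103531, 0, 18, 36405) (.node .leaf (103532, 0, 15, 213108) .leaf)) (103534, 0, 16, 116393) (.node (.node .leaf (103536, 0, 14, 238339) .leaf) (103538, 0, 12, 19313) (.node .leaf (103541, 0, 12, 230704) .leaf))))) (103543, 0, 17, 97026) (.node (.node (.node (.node (.node .leaf (103544, 0, 16, 186362) .leaf) (103546, 0, 16, 41453) (.node .leaf (103549, 0, 15, 134847) .leaf)) (103551, 0, 17, 220826) (.node (.node .leaf (103552, 0, 14, 31822) .leaf) (103554, 0, 18, 76907) (.node .leaf (103557, 0, 17, 42251) .leaf))) (103559, 0, 16, 128302) (.node (.node (.node .leaf (103560, 0, 18, 240256) .leaf) (103562, 0, 17, 199155) (.node .leaf (103565, 0, 17, 232627) .leaf)) (103567, 0, 16, 250038) (.node (.node .leaf (103569, 0,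 16, 225220) .leaf) (103571, 0, 15, 242776) (.node .leaf (103572, 0, 14, 146744) .leaf)))) (103574, 0, 15, 224541) (.node (.node (.node (.node .leaf (103577, 0, 17, 49637) .leaf) (103579, 0, 15, 27946) (.node .leaf (103580, 0, 17, 6304) .leaf)) (103582, 0, 11, 84101) (.node (.node .leaf (103585, 0, 17, 25656) .leaf) (103587, 0, 16, 232522) (.node .leaf (103588, 0, 15, 16907) .leaf))) (103590, 0, 16, 138941) (.node (.node (.node .leaf (103593, 0, 17, 111173) .leaf) (103595, 0, 13, 222934) (.node .leaf (103596, 0, 12, 43159) .leaf)) (103598, 0, 16, 15141) (.node (.node .leaf (103600, 0, 17, 69614) .leaf) (103602, 0, 16, 24523) (.node .leaf (103605, 0, 15, 120491) .leaf))))))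

/-- part of the orbit tree -/
def itp3_80 : Tree := (.node (.node (.node (.node (.node (.node .leaf (103608, 0, 15, 207478) .leaf) (103610, 0, 16, 162387) (.node .leaf (103613, 0, 17, 258867) .leaf)) (103615, 0, 15, 172822) (.node (.node .leaf (103616, 0, 17, 202440) .leaf) (103618, 0, 14, 61668) (.node .leaf (103621, 0, 17, 249741) .leaf))) (103623, 0, 14, 54999) (.node (.node (.node .leaf (103624, 0, 17, 78672) .leaf) (103626, 0, 17, 25461) (.node .leaf (103629, 0, 17, 250937) .leaf)) (103631, 0, 13, 47664) (.node (.node .leaf (103633, 0, 17, 102139) .leaf) (103635, 0, 16, 57054) (.node .leaf (103636, 0, 14, 201085) .leaf)))) (103638, 0, 14, 63759) (.node (.node (.node (.node .leaf (103641, 0, 18, 253394) .leaf) (103643, 0, 17, 13728) (.node .leaf (103644, 0, 16, 225830) .leaf)) (103646, 0, 15, 139779) (.node (.node .leaf (103649, 0, 15, 64859) .leaf) (103651, 0, 17, 109950) (.node .leaf (103652, 0, 15, 6785) .leaf))) (103654, 0, 18, 95291) (.node (.node (.node .leaf (103657, 0, 14, 186563) .leaf) (103659, 0, 16, 212572)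 (.node .leaf (103660, 0, 17, 61469) .leaf)) (103662, 0, 18, 217507) (.node (.node .leaf (103664, 0, 18, 157032) .leaf) (103666, 0, 17, 210253) (.node .leaf (103669, 0, 18, 179245) .leaf))))) (103671, 0, 15, 253227) (.node (.node (.node (.node (.node .leaf (103672, 0, 16, 16624) .leaf) (103674, 0, 12, 69845) (.node .leaf (103677, 0, 14, 57285) .leaf)) (103679, 0, 15, 117136) (.node (.node .leaf (103681, 0, 16, 108886) .leaf) (103683, 0, 17, 63859) (.node .leaf (103684, 0, 16, 94227) .leaf))) (103686, 0, 16, 98553) (.node (.node (.node .leaf (103689, 0, 17, 173092) .leaf) (103691, 0, 14, 187627) (.node .leaf (103692, 0, 16, 164375) .leaf)) (103694, 0, 14, 132526) (.node (.node .leaf (103696, 0, 16, 209253) .leaf) (103698, 0, 17, 155968) (.node .leaf (103701, 0, 15, 256032) .leaf)))) (103703, 0, 14, 178181) (.node (.node (.node (.node .leaf (103704, 0, 14, 166908) .leaf) (103706, 0, 17, 91022) (.node .leaf (103709, 0, 17, 118200) .leaf)) (103711, 0, 17, 83389) (.node (.node .leaf (103712, 0, 18, 148165) .leaf) (103714, 0, 15,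 164590) (.node .leaf (103717, 0, 17, 170880) .leaf))) (103719, 0, 15, 248741) (.node (.node (.node .leaf (103720, 0, 15, 26461) .leaf) (103722, 0, 17, 157810) (.node .leaf (103725, 0, 18, 108083) .leaf)) (103727, 0, 15, 126525) (.node (.node .leaf (103729, 0, 17, 83268) .leaf) (103731, 0, 17, 101075) (.node .leaf (103732, 0, 17, 90999) .leaf))))))

/-- part of the orbit tree -/
def itp3_81 : Tree := (.node itp3_77 (103349, 0, 17, 213511) itp3_78)

/-- part of the orbit tree -/
def itp3_82 : Tree := (.node itp3_79 (103607, 0, 14, 230817) itp3_80)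

/-- part of the orbit tree -/
def itp3_83 : Tree := (.node (.node (.node (.node (.node (.node .leaf (103737, 0, 13, 110552) .leaf) (103739, 0, 15, 149418) (.node .leaf (103740, 0, 17, 100843) .leaf)) (103742, 0, 15, 226830) (.node (.node .leaf (103745, 0, 14, 136754) .leaf) (103747, 0, 16, 234485) (.node .leaf (103748, 0, 14, 137877) .leaf))) (103750, 0, 16, 120947) (.node (.node (.node .leaf (103753, 0, 16, 58952) .leaf) (103755, 0, 14, 70876) (.node .leaf (103756, 0, 16, 16141) .leaf)) (103758, 0, 15, 78575) (.node (.node .leaf (103760, 0, 15, 145898) .leaf) (103762, 0, 16, 68550) (.node .leaf (103765, 0, 14, 139225) .leaf)))) (103767, 0, 16, 119427) (.node (.node (.node (.node .leaf (103768, 0, 17, 163451) .leaf) (103770, 0, 14, 80644) (.node .leaf (103773, 0, 17, 173886) .leaf)) (103775, 0, 16, 73015) (.node (.node .leaf (103776, 0, 16, 78358) .leaf) (103778, 0, 15, 30822) (.node .leaf (103781, 0, 15, 127238) .leaf))) (103783, 0, 16, 41251) (.node (.node (.node .leaf (103784, 0, 15, 120970) .leaf) (103786, 0, 11, 155134)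 (.node .leaf (103789, 0, 17, 251038) .leaf)) (103791, 0, 16, 165051) (.node (.node .leaf (103793, 0, 16, 73166) .leaf) (103795, 0, 17, 193980) (.node .leaf (103796, 0, 18, 80893) .leaf))))) (103798, 0, 17, 145680) (.node (.node (.node (.node (.node .leaf (103801, 0, 14, 128850) .leaf) (103803, 0, 17, 50637) (.node .leaf (103804, 0, 14, 85165) .leaf)) (103806, 0, 15, 145683) (.node (.node .leaf (103809, 0, 16, 212572) .leaf) (103811, 0, 17, 136867) (.node .leaf (103812, 0, 15, 121058) .leaf))) (103814, 0, 16, 177980) (.node (.node (.node .leaf (103817, 0, 13, 72644) .leaf) (103819, 0, 16, 195647) (.node .leaf (103820, 0, 14, 78462) .leaf)) (103822, 0, 15, 37540) (.node (.node .leaf (103824, 0, 16, 108143) .leaf) (103826, 0, 17, 145787) (.node .leaf (103829, 0, 15, 98090) .leaf)))) (103831, 0, 16, 139080) (.node (.node (.node (.node .leaf (103832, 0, 18, 80789) .leaf) (103834, 0, 18, 185319) (.node .leaf (103837, 0, 15, 73126) .leaf)) (103839, 0, 18, 194004) (.node (.node .leaf (103840, 0, 14, 54735) .leaf) (103842, 0, 17,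 99818) (.node .leaf (103845, 0, 14, 3210) .leaf))) (103847, 0, 17, 89263) (.node (.node (.node .leaf (103848, 0, 16, 143465) .leaf) (103850, 0, 16, 120859) (.node .leaf (103853, 0, 17, 136794) .leaf)) (103855, 0, 17, 227639) (.node (.node .leaf (103857, 0, 14, 151036) .leaf) (103859, 0, 14, 73055) (.node .leaf (103860, 0, 17, 185118) .leaf))))))

/-- part of the orbit tree -/
def itp3_84 : Tree := (.node (.node (.node (.node (.node (.node .leaf (103865, 0, 16, 26724) .leaf) (103867, 0, 8, 79937) (.node .leaf (103868, 0, 17, 45345) .leaf)) (103870, 0, 17, 119280) (.node (.node .leaf (103873, 0, 17, 21722) .leaf) (103875, 0, 15, 151081) (.node .leaf (103876, 0, 16, 36255) .leaf))) (103878, 0, 17, 157722) (.node (.node (.node .leaf (103881, 0, 16, 160066) .leaf) (103883, 0, 14, 205159) (.node .leaf (103884, 0, 13, 174087) .leaf)) (103886, 0, 16, 260130) (.node (.node .leaf (103888, 0, 17, 183529) .leaf) (103890, 0, 16, 156145) (.node .leaf (103893, 0, 18, 110512) .leaf)))) (103895, 0, 15, 214409) (.node (.node (.node (.node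 .leaf (103896, 0, 17, 90911) .leaf) (103898, 0, 18, 112980) (.node .leaf (103901, 0, 12, 12340) .leaf)) (103903, 0, 15, 90129) (.node (.node .leaf (103904, 0, 17, 245577) .leaf) (103906, 0, 14, 92685) (.node .leaf (103909, 0, 16, 173132) .leaf))) (103911, 0, 14, 144937) (.node (.node (.node .leaf (103912, 0, 18, 157923) .leaf) (103914, 0, 14, 98449) (.node .leaf (103917, 0, 16, 151248) .leaf)) (103919, 0, 17, 5041) (.node (.node .leaf (103921, 0, 17, 175527) .leaf) (103923, 0, 15, 83413) (.node .leaf (103924, 0, 17, 166804) .leaf))))) (103926, 0, 14, 91110) (.node (.node (.node (.node (.node .leaf (103929, 0, 16, 149307) .leaf) (103931, 0, 15, 110409) (.node .leaf (103932, 0, 16, 252839) .leaf)) (103934, 0, 18, 166786) (.node (.node .leaf (103940, 0, 18, 166468) .leaf) (103941, 0, 13, 54122) (.node .leaf (103942, 0, 16, 90678) .leaf))) (103943, 0, 17, 211736) (.node (.node (.node .leaf (103948, 0, 15, 56207) .leaf) (103949, 0, 15, 14838) (.node .leaf (103950, 0, 16, 100522) .leaf)) (103951, 0, 12, 93132) (.node (.node .leaf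 (103952, 0, 17, 48993) .leaf) (103953, 0, 16, 24327) (.node .leaf (103954, 0, 17, 126788) .leaf)))) (103955, 0, 17, 69410) (.node (.node (.node (.node .leaf (103960, 0, 17, 158003) .leaf) (103961, 0, 16, 162463) (.node .leaf (103962, 0, 17, 98625) .leaf)) (103963, 0, 16, 252015) (.node (.node .leaf (103968, 0, 17, 100435) .leaf) (103969, 0, 17, 250237) (.node .leaf (103970, 0, 17, 155681) .leaf))) (103971, 0, 17, 31874) (.node (.node (.node .leaf (103976, 0, 17, 90831) .leaf) (103977, 0, 13, 198975) (.node .leaf (103978, 0, 16, 178556) .leaf)) (103979, 0, 17, 54163) (.node (.node .leaf (103988, 0, 14, 98744) .leaf) (103989, 0, 16, 252054) (.node .leaf (103990, 0, 15, 158154) .leaf))))))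

/-- part of the orbit tree -/
def itp3_85 : Tree := (.node (.node (.node (.node (.node (.node .leaf (103996, 0, 18, 108591) .leaf) (103997, 0, 17, 84041) (.node .leaf (103998, 0, 17, 63498) .leaf)) (103999, 0, 17, 55928) (.node (.node .leaf (104004, 0, 15, 185038) .leaf) (104005, 0, 18, 95479) (.node .leaf (104006, 0, 17, 80572) .leaf))) (104007, 0, 14, 222098) (.node (.node (.node .leaf (104012, 0, 16, 145490) .leaf) (104013, 0, 17, 24956) (.node .leaf (104014, 0, 16, 188716) .leaf)) (104015, 0, 15, 131402) (.node (.node .leaf (104016, 0, 17, 187173) .leaf) (104017, 0, 16, 210305) (.node .leaf (104018, 0, 13, 78679) .leaf)))) (104019, 0, 17, 223865) (.node (.node (.node (.node .leaf (104024, 0, 16, 143801) .leaf) (104025, 0, 17, 69657) (.node .leaf (104026, 0, 17, 41050) .leaf)) (104027, 0, 17, 16444) (.node (.node .leaf (104032, 0, 14, 173639) .leaf) (104033, 0, 19, 149025) (.node .leaf (104034, 0, 14, 145579) .leaf))) (104035, 0, 17, 202244) (.node (.node (.node .leaf (104040, 0, 18, 80453) .leaf) (104041, 0, 17, 25529)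 (.node .leaf (104042, 0, 15, 119802) .leaf)) (104043, 0, 17, 78748) (.node (.node .leaf (104052, 0, 17, 121138) .leaf) (104053, 0, 16, 229404) (.node .leaf (104054, 0, 15, 112404) .leaf))))) (104055, 0, 17, 26734) (.node (.node (.node (.node (.node .leaf (104060, 0, 16, 78766) .leaf) (104061, 0, 16, 223872) (.node .leaf (104062, 0, 18, 187356) .leaf)) (104063, 0, 17, 226026) (.node (.node .leaf (104068, 0, 16, 26909) .leaf) (104069, 0, 15, 221955) (.node .leaf (104070, 0, 13, 184927) .leaf))) (104071, 0, 13, 35697) (.node (.node (.node .leaf (104076, 0, 15, 150661) .leaf) (104077, 0, 17, 231839) (.node .leaf (104078, 0, 13, 203936) .leaf)) (104079, 0, 15, 25069) (.node (.node .leaf (104080, 0, 15, 141419) .leaf) (104081, 0, 16, 182285) (.node .leaf (104082, 0, 16, 187316) .leaf)))) (104083, 0, 14, 33434) (.node (.node (.node (.node .leaf (104088, 0, 14, 3571) .leaf) (104089, 0, 18, 60821) (.node .leaf (104090, 0, 16, 89558) .leaf)) (104091, 0, 13, 26630) (.node (.node .leaf (104096, 0, 15, 145466) .leaf) (104097, 0, 16, 24852)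 (.node .leaf (104098, 0, 16, 134126) .leaf))) (104099, 0, 16, 231782) (.node (.node (.node .leaf (104104, 0, 14, 97875) .leaf) (104105, 0, 12, 35720) (.node .leaf (104106, 0, 18, 80596) .leaf)) (104107, 0, 17, 52752) (.node (.node .leaf (104116, 0, 17, 143825) .leaf) (104117, 0, 17, 26879) (.node .leaf (104118, 0, 18, 121251) .leaf))))))

/-- part of the orbit tree -/
def itp3_86 : Tree := (.node (.node (.node (.node (.node (.node .leaf (104124, 0, 17, 212773) .leaf) (104125, 0, 16, 253763) (.node .leaf (104126, 0, 18, 159488) .leaf)) (104127, 0, 17, 223761) (.node (.node .leaf (104132, 0, 13, 197531) .leaf) (104133, 0, 17, 254973) (.node .leaf (104134, 0, 16, 166613) .leaf))) (104135, 0, 13, 54267) (.node (.node (.node .leaf (104140, 0, 17, 75267) .leaf) (104141, 0, 15, 116325) (.node .leaf (104142, 0, 12, 30246) .leaf)) (104143, 0, 16, 14695) (.node (.node .leaf (104144, 0, 17, 82669) .leaf) (104145, 0, 17, 107147) (.node .leaf (104146, 0, 17, 164670) .leaf)))) (104147, 0, 19, 55824) (.node (.node (.node (.node .leaf (104152,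 0, 18, 98768) .leaf) (104153, 0, 15, 231187) (.node .leaf (104154, 0, 15, 158114) .leaf)) (104155, 0, 17, 186166) (.node (.node .leaf (104160, 0, 16, 155824) .leaf) (104161, 0, 17, 53547) (.node .leaf (104162, 0, 15, 90472) .leaf))) (104163, 0, 18, 98574) (.node (.node (.node .leaf (104168, 0, 14, 166444) .leaf) (104169, 0, 13, 193715) (.node .leaf (104170, 0, 18, 214256) .leaf)) (104171, 0, 16, 238742) (.node (.node .leaf (104180, 0, 17, 158043) .leaf) (104181, 0, 15, 168029) (.node .leaf (104182, 0, 18, 204830) .leaf))))) (104183, 0, 15, 245880) (.node (.node (.node (.node (.node .leaf (104188, 0, 16, 21923) .leaf) (104189, 0, 13, 56041) (.node .leaf (104190, 0, 12, 66950) .leaf)) (104191, 0, 18, 124384) (.node (.node .leaf (104192, 0, 18, 91456) .leaf) (104193, 0, 18, 99622) (.node .leaf (104194, 0, 15, 13669) .leaf))) (104195, 0, 18, 107494) (.node (.node (.node .leaf (104200, 0, 17, 63526) .leaf) (104201, 0, 15, 172296) (.node .leaf (104202, 0, 14, 200788) .leaf)) (104203, 0, 18, 192667) (.node (.node .leaf (104212,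 0, 16, 6993) .leaf) (104213, 0, 16, 246864) (.node .leaf (104214, 0, 15, 160787) .leaf)))) (104215, 0, 14, 109069) (.node (.node (.node (.node .leaf (104220, 0, 16, 61901) .leaf) (104221, 0, 12, 123336) (.node .leaf (104222, 0, 14, 20875) .leaf)) (104223, 0, 16, 45549) (.node (.node .leaf (104228, 0, 15, 200877) .leaf) (104229, 0, 18, 84355) (.node .leaf (104230, 0, 16, 63711) .leaf))) (104231, 0, 16, 172529) (.node (.node (.node .leaf (104236, 0, 15, 260657) .leaf) (104237, 0, 17, 107295) (.node .leaf (104238, 0, 15, 4675) .leaf)) (104239, 0, 15, 150381) (.node (.node .leaf (104240, 0, 15, 5856) .leaf) (104241, 0, 15, 63110) .leaf)))))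

/-- part of the orbit tree -/
def itp3_87 : Tree := (.node itp3_83 (103862, 0, 15, 246940) itp3_84)

/-- part of the orbit tree -/
def itp3_88 : Tree := (.node itp3_85 (104119, 0, 13, 43774) itp3_86)

/-- part of the orbit tree -/
def itp3_89 : Tree := (.node itp3_81 (103479, 0, 17, 135556) itp3_82)

/-- part of the orbit tree -/
def itp3_90 : Tree := (.node itp3_87 (103991, 0, 14, 12516) itp3_88)

/-- part of the orbit tree -/
def itp3_91 : Tree := (.node itp3_75 (102712, 0, 17, 64258) itp3_76)

/-- part of the orbit tree -/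
def itp3_92 : Tree := (.node itp3_89 (103734, 0, 13, 86934) itp3_90)

/-- part of the orbit tree -/
def itp3_93 : Tree := (.node (.node (.node (.node (.node (.node .leaf (104243, 0, 17, 174106) .leaf) (104248, 0, 16, 259034) (.node .leaf (104249, 0, 17, 185118) .leaf)) (104250, 0, 14, 222045) (.node (.node .leaf (104251, 0, 14, 148102) .leaf) (104256, 0, 13, 135110) (.node .leaf (104257, 0, 15, 135966) .leaf))) (104258, 0, 18, 221155) (.node (.node (.node .leaf (104259, 0, 14, 245637) .leaf) (104264, 0, 10, 10846) (.node .leaf (104265, 0, 18, 194946) .leaf)) (104266, 0, 16, 96891) (.node (.node .leaf (104267, 0, 17, 70128) .leaf) (104276, 0, 16, 20144) (.node .leaf (104277, 0, 15, 44758) .leaf)))) (104278, 0, 15, 240553) (.node (.node (.node (.node .leaf (104279, 0, 13, 130803) .leaf) (104284, 0, 15, 158504) (.node .leaf (104285, 0, 17, 192617) .leaf)) (104286, 0, 18, 213301) (.node (.node .leaf (104287, 0, 15, 252779) .leaf) (104292, 0, 14, 215079) (.node .leaf (104293, 0, 13, 69897) .leaf))) (104294, 0, 17, 27957) (.node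 (.node (.node .leaf (104295, 0, 17, 36179) .leaf) (104300, 0, 17, 238267) (.node .leaf (104301, 0, 9, 260334) .leaf)) (104302, 0, 16, 149677) (.node (.node .leaf (104303, 0, 15, 174283) .leaf) (104304, 0, 15, 228454) (.node .leaf (104305, 0, 17, 71906) .leaf))))) (104306, 0, 14, 142403) (.node (.node (.node (.node (.node .leaf (104307, 0, 16, 183333) .leaf) (104312, 0, 19, 88574) (.node .leaf (104313, 0, 15, 127614) .leaf)) (104314, 0, 17, 17186) (.node (.node .leaf (104315, 0, 16, 59837) .leaf) (104320, 0, 17, 238291) (.node .leaf (104321, 0, 11, 201260) .leaf))) (104322, 0, 16, 19105) (.node (.node (.node .leaf (104323, 0, 16, 136079) .leaf) (104328, 0, 17, 120786) (.node .leaf (104329, 0, 17, 69985) .leaf)) (104330, 0, 16, 41021) (.node (.node .leaf (104331, 0, 15, 26513) .leaf) (104340, 0, 17, 111420) (.node .leaf (104341, 0, 19, 86874) .leaf)))) (104342, 0, 18, 17226) (.node (.node (.node (.node .leaf (104343, 0, 14, 895) .leaf) (104348, 0, 18, 213412) (.node .leaf (104349, 0, 16, 227010) .leaf)) (104350, 0, 13, 181889)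 (.node (.node .leaf (104351, 0, 17, 192760) .leaf) (104356, 0, 17, 49308) (.node .leaf (104357, 0, 17, 195050) .leaf))) (104358, 0, 15, 102585) (.node (.node (.node .leaf (104359, 0, 16, 94431) .leaf) (104364, 0, 16, 189700) (.node .leaf (104365, 0, 17, 136054) .leaf)) (104366, 0, 17, 242977) (.node (.node .leaf (104367, 0, 16, 218439) .leaf) (104368, 0, 18, 43311) (.node .leaf (104369, 0, 14, 192513) .leaf))))))

/-- part of the orbit tree -/
def itp3_94 : Tree := (.node (.node (.node (.node (.node (.node .leaf (104371, 0, 15, 209321) .leaf) (104376, 0, 17, 17331) (.node .leaf (104377, 0, 14, 17428) .leaf)) (104378, 0, 17, 240577) (.node (.node .leaf (104379, 0, 17, 127727) .leaf) (104384, 0, 15, 39116) (.node .leaf (104385, 0, 15, 30890) .leaf))) (104386, 0, 13, 4651) (.node (.node (.node .leaf (104387, 0, 16, 150277) .leaf) (104392, 0, 12, 200901) (.node .leaf (104393, 0, 14, 84459) .leaf)) (104394, 0, 17, 257393) (.node (.node .leaf (104395, 0, 16, 172441) .leaf) (104404, 0, 14, 258994) (.node .leaf (104405, 0, 17, 109212)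 .leaf)))) (104406, 0, 17, 231839) (.node (.node (.node (.node .leaf (104407, 0, 16, 223737) .leaf) (104412, 0, 17, 203054) (.node .leaf (104413, 0, 13, 81920) .leaf)) (104414, 0, 16, 109575) (.node (.node .leaf (104415, 0, 17, 174194) .leaf) (104420, 0, 17, 63566) (.node .leaf (104421, 0, 17, 172384) .leaf))) (104422, 0, 17, 195135) (.node (.node (.node .leaf (104423, 0, 14, 137817) .leaf) (104428, 0, 15, 102274) (.node .leaf (104429, 0, 17, 94180) .leaf)) (104430, 0, 19, 260768) (.node (.node .leaf (104431, 0, 13, 107406) .leaf) (104432, 0, 16, 61861) (.node .leaf (104433, 0, 16, 174219) .leaf))))) (104434, 0, 16, 47945) (.node (.node (.node (.node (.node .leaf (104435, 0, 17, 82169) .leaf) (104440, 0, 16, 6969) (.node .leaf (104441, 0, 17, 208530) .leaf)) (104442, 0, 15, 258891) (.node (.node .leaf (104443, 0, 16, 109157) .leaf) (104448, 0, 17, 243902) (.node .leaf (104451, 0, 18, 133602) .leaf))) (104452, 0, 7, 116643) (.node (.node (.node .leaf (104455, 0, 16, 1680) .leaf) (104456, 0, 17, 217634) (.node .leaf (104459,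 0, 18, 189310) .leaf)) (104460, 0, 17, 234315) (.node (.node .leaf (104463, 0, 16, 40035) .leaf) (104465, 0, 18, 235366) (.node .leaf (104466, 0, 12, 173952) .leaf)))) (104469, 0, 17, 208608) (.node (.node (.node (.node .leaf (104470, 0, 16, 22823) .leaf) (104473, 0, 18, 228858) (.node .leaf (104474, 0, 17, 33304) .leaf)) (104477, 0, 16, 68472) (.node (.node .leaf (104478, 0, 14, 47931) .leaf) (104481, 0, 16, 40090) (.node .leaf (104482, 0, 16, 250912) .leaf))) (104485, 0, 16, 154944) (.node (.node (.node .leaf (104486, 0, 16, 217819) .leaf) (104489, 0, 15, 30214) (.node .leaf (104490, 0, 18, 116570) .leaf)) (104493, 0, 16, 30936) (.node (.node .leaf (104494, 0, 17, 116891) .leaf) (104496, 0, 17, 45890) (.node .leaf (104499, 0, 16, 85011) .leaf))))))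

/-- part of the orbit tree -/
def itp3_95 : Tree := (.node (.node (.node (.node (.node (.node .leaf (104503, 0, 11, 95536) .leaf) (104504, 0, 16, 186824) (.node .leaf (104507, 0, 14, 125058) .leaf)) (104508, 0, 14, 140995) (.node (.node .leaf (104511, 0, 14, 235423) .leaf) (104512, 0, 16, 189814) (.node .leaf (104515, 0, 9, 151912) .leaf))) (104516, 0, 18, 187477) (.node (.node (.node .leaf (104519, 0, 15, 224278) .leaf) (104520, 0, 16, 49390) (.node .leaf (104523, 0, 15, 179188) .leaf)) (104524, 0, 18, 95669) (.node (.node .leaf (104527, 0, 16, 84366) .leaf) (104529, 0, 9, 32069) (.node .leaf (104530, 0, 17, 118022) .leaf)))) (104533, 0, 16, 110833) (.node (.node (.node (.node .leaf (104534, 0, 17, 429) .leaf) (104537, 0, 15, 206192) (.node .leaf (104538, 0, 12, 256158) .leaf)) (104541, 0, 15, 156158) (.node (.node .leaf (104542, 0, 16, 250301) .leaf) (104545, 0, 16, 50192) (.node .leaf (104546, 0, 14, 95564) .leaf))) (104549, 0, 16, 178957) (.node (.node (.node .leaf (104550, 0, 17, 34693) .leaf) (104553, 0, 15, 11916)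 (.node .leaf (104554, 0, 15, 170814) .leaf)) (104557, 0, 17, 201310) (.node (.node .leaf (104558, 0, 13, 254157) .leaf) (104560, 0, 18, 60360) (.node .leaf (104563, 0, 15, 140949) .leaf))))) (104564, 0, 15, 169173) (.node (.node (.node (.node (.node .leaf (104567, 0, 17, 206217) .leaf) (104568, 0, 15, 111438) (.node .leaf (104571, 0, 15, 110600) .leaf)) (104572, 0, 18, 163401) (.node (.node .leaf (104575, 0, 17, 249621) .leaf) (104576, 0, 17, 203002) (.node .leaf (104579, 0, 16, 113035) .leaf))) (104580, 0, 19, 205273) (.node (.node (.node .leaf (104583, 0, 16, 168346) .leaf) (104584, 0, 16, 81250) (.node .leaf (104587, 0, 9, 36129) .leaf)) (104588, 0, 17, 171350) (.node (.node .leaf (104591, 0, 17, 207882) .leaf) (104593, 0, 14, 9999) (.node .leaf (104594, 0, 15, 12426) .leaf)))) (104597, 0, 14, 153618) (.node (.node (.node (.node .leaf (104598, 0, 16, 256334) .leaf) (104601, 0, 17, 52627) (.node .leaf (104602, 0, 12, 97487) .leaf)) (104605, 0, 17, 176782) (.node (.node .leaf (104606, 0, 17, 142385) .leaf) (104609, 0, 13,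 208115) (.node .leaf (104610, 0, 15, 82730) .leaf))) (104613, 0, 16, 51786) (.node (.node (.node .leaf (104614, 0, 18, 96777) .leaf) (104617, 0, 18, 247407) (.node .leaf (104618, 0, 15, 222898) .leaf)) (104621, 0, 15, 192466) (.node (.node .leaf (104622, 0, 16, 221073) .leaf) (104624, 0, 18, 158554) (.node .leaf (104627, 0, 13, 252697) .leaf))))))

/-- part of the orbit tree -/
def itp3_96 : Tree := (.node (.node (.node (.node (.node (.node .leaf (104631, 0, 17, 52586) .leaf) (104632, 0, 18, 20162) (.node .leaf (104635, 0, 18, 130689) .leaf)) (104636, 0, 18, 30689) (.node (.node .leaf (104639, 0, 14, 10230) .leaf) (104640, 0, 17, 29308) (.node .leaf (104643, 0, 15, 115263) .leaf))) (104644, 0, 15, 143168) (.node (.node (.node .leaf (104647, 0, 16, 237084) .leaf) (104648, 0, 17, 47809) (.node .leaf (104651, 0, 13, 255911) .leaf)) (104652, 0, 19, 181724) (.node (.node .leaf (104655, 0, 16, 253572) .leaf) (104657, 0, 15, 191055) (.node .leaf (104658, 0, 16, 118489) .leaf)))) (104661, 0, 16, 131224) (.node (.node (.node (.node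 .leaf (104662, 0, 16, 242116) .leaf) (104665, 0, 17, 53207) (.node .leaf (104666, 0, 18, 74821) .leaf)) (104669, 0, 17, 63220) (.node (.node .leaf (104670, 0, 15, 83639) .leaf) (104673, 0, 18, 226425) (.node .leaf (104674, 0, 14, 141740) .leaf))) (104677, 0, 17, 237772) (.node (.node (.node .leaf (104678, 0, 16, 135311) .leaf) (104681, 0, 15, 113783) (.node .leaf (104682, 0, 16, 143289) .leaf)) (104685, 0, 19, 123384) (.node (.node .leaf (104686, 0, 16, 13591) .leaf) (104688, 0, 15, 220065) (.node .leaf (104691, 0, 16, 45471) .leaf))))) (104692, 0, 18, 80127) (.node (.node (.node (.node (.node .leaf (104695, 0, 17, 38368) .leaf) (104696, 0, 17, 241981) (.node .leaf (104699, 0, 15, 131169) .leaf)) (104700, 0, 17, 118304) (.node (.node .leaf (104703, 0, 17, 175396) .leaf) (104705, 0, 16, 183778) (.node .leaf (104706, 0, 15, 46895) .leaf))) (104709, 0, 17, 193729) (.node (.node (.node .leaf (104710, 0, 13, 182322) .leaf) (104713, 0, 14, 126191) (.node .leaf (104714, 0, 18, 88121) .leaf)) (104717, 0, 18, 53593) (.node (.node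 .leaf (104718, 0, 16, 90394) .leaf) (104720, 0, 14, 21969) (.node .leaf (104723, 0, 17, 124306) .leaf)))) (104724, 0, 16, 218806) (.node (.node (.node (.node .leaf (104727, 0, 14, 190442) .leaf) (104728, 0, 17, 159817) (.node .leaf (104731, 0, 17, 245770) .leaf)) (104732, 0, 11, 244778) (.node (.node .leaf (104735, 0, 16, 134518) .leaf) (104736, 0, 18, 139863) (.node .leaf (104739, 0, 15, 234251) .leaf))) (104740, 0, 15, 23882) (.node (.node (.node .leaf (104743, 0, 10, 125974) .leaf) (104744, 0, 13, 182475) (.node .leaf (104747, 0, 19, 177066) .leaf)) (104748, 0, 16, 211658) (.node (.node .leaf (104751, 0, 15, 67210) .leaf) (104753, 0, 18, 134543) (.node .leaf (104754, 0, 18, 244947) .leaf))))))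

/-- part of the orbit tree -/
def itp3_97 : Tree := (.node itp3_93 (104370, 0, 15, 250319) itp3_94)

/-- part of the orbit tree -/
def itp3_98 : Tree := (.node itp3_95 (104628, 0, 16, 152185) itp3_96)

/-- part of the orbit tree -/
def itp3_99 : Tree := (.node (.node (.node (.node (.node (.node .leaf (104758, 0, 13, 145186) .leaf) (104761, 0, 16, 190227) (.node .leaf (104762, 0, 16, 218703) .leaf)) (104765, 0, 17, 38926) (.node (.node .leaf (104766, 0, 17, 76114) .leaf) (104769, 0, 16, 108388) (.node .leaf (104770, 0, 15, 61349) .leaf))) (104773, 0, 16, 106055) (.node (.node (.node .leaf (104774, 0, 11, 11780) .leaf) (104777, 0, 18, 111717) (.node .leaf (104778, 0, 13, 144063) .leaf)) (104781, 0, 18, 248696) (.node (.node .leaf (104782, 0, 14, 162340) .leaf) (104784, 0, 12, 94497) (.node .leaf (104787, 0, 15, 167700) .leaf)))) (104788, 0, 16, 198260) (.node (.node (.node (.node .leaf (104791, 0, 16, 180064) .leaf) (104792, 0, 16, 72399) (.node .leaf (104795, 0, 15, 10977) .leaf)) (104796, 0, 10, 74732) (.node (.node .leaf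 (104799, 0, 15, 37807) .leaf) (104800, 0, 14, 150775) (.node .leaf (104803, 0, 17, 261300) .leaf))) (104804, 0, 13, 161236) (.node (.node (.node .leaf (104807, 0, 15, 111772) .leaf) (104808, 0, 15, 26991) (.node .leaf (104811, 0, 16, 121132) .leaf)) (104812, 0, 16, 61276) (.node (.node .leaf (104815, 0, 17, 89600) .leaf) (104817, 0, 15, 152837) (.node .leaf (104818, 0, 13, 91271) .leaf))))) (104821, 0, 18, 60903) (.node (.node (.node (.node (.node .leaf (104822, 0, 16, 89508) .leaf) (104825, 0, 15, 192860) (.node .leaf (104826, 0, 15, 200389) .leaf)) (104829, 0, 16, 49284) (.node (.node .leaf (104830, 0, 14, 94680) .leaf) (104833, 0, 15, 23272) (.node .leaf (104834, 0, 14, 198470) .leaf))) (104837, 0, 16, 25547) (.node (.node (.node .leaf (104838, 0, 15, 119688) .leaf) (104841, 0, 15, 154758) (.node .leaf (104842, 0, 16, 249651) .leaf)) (104845, 0, 18, 149075) (.node (.node .leaf (104846, 0, 16, 103111) .leaf) (104848, 0, 13, 180955) (.node .leaf (104851, 0, 15, 225944) .leaf)))) (104852, 0, 17, 59103) (.node (.node (.node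 (.node .leaf (104855, 0, 17, 215995) .leaf) (104856, 0, 18, 59203) (.node .leaf (104859, 0, 14, 87808) .leaf)) (104860, 0, 16, 3139) (.node (.node .leaf (104863, 0, 16, 113951) .leaf) (104864, 0, 16, 242043) (.node .leaf (104867, 0, 17, 9058) .leaf))) (104868, 0, 13, 231512) (.node (.node (.node .leaf (104871, 0, 15, 145435) .leaf) (104872, 0, 17, 96418) (.node .leaf (104875, 0, 12, 9376) .leaf)) (104876, 0, 17, 110016) (.node (.node .leaf (104879, 0, 13, 7555) .leaf) (104881, 0, 14, 76104) (.node .leaf (104882, 0, 15, 39179) .leaf))))))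

/-- part of the orbit tree -/
def itp3_100 : Tree := (.node (.node (.node (.node (.node (.node .leaf (104886, 0, 16, 41000) .leaf) (104889, 0, 19, 199888) (.node .leaf (104890, 0, 16, 58918) .leaf)) (104893, 0, 15, 206951) (.node (.node .leaf (104894, 0, 16, 170299) .leaf) (104897, 0, 17, 209006) (.node .leaf (104898, 0, 17, 221132) .leaf))) (104901, 0, 16, 198989) (.node (.node (.node .leaf (104902, 0, 17, 178446) .leaf) (104905, 0, 15, 71158) (.node .leaf (104906, 0, 16, 243024) .leaf)) (104909, 0, 15, 77013) (.node (.node .leaf (104910, 0, 14, 40086) .leaf) (104912, 0, 16, 108637) (.node .leaf (104915, 0, 16, 6174) .leaf)))) (104916, 0, 16, 102782) (.node (.node (.node (.node .leaf (104919, 0, 17, 69385) .leaf) (104920, 0, 12, 142292) (.node .leaf (104923, 0, 15, 236168) .leaf)) (104924, 0, 18, 242918) (.node (.node .leaf (104927, 0, 19, 132261) .leaf) (104928, 0, 8, 117428) (.node .leaf (104931, 0, 7, 93118) .leaf))) (104932, 0, 17, 243113) (.node (.node (.node .leaf (104935, 0, 15, 86685) .leaf) (104936, 0, 14, 73768)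 (.node .leaf (104939, 0, 17, 216614) .leaf)) (104940, 0, 16, 182086) (.node (.node .leaf (104943, 0, 17, 227077) .leaf) (104945, 0, 12, 124268) (.node .leaf (104946, 0, 19, 21552) .leaf))))) (104949, 0, 16, 236145) (.node (.node (.node (.node (.node .leaf (104950, 0, 13, 248494) .leaf) (104953, 0, 16, 69616) (.node .leaf (104954, 0, 13, 48812) .leaf)) (104957, 0, 16, 24437) (.node (.node .leaf (104958, 0, 16, 180657) .leaf) (104962, 0, 13, 62373) (.node .leaf (104963, 0, 18, 134350) .leaf))) (104966, 0, 15, 142077) (.node (.node (.node .leaf (104967, 0, 17, 29651) .leaf) (104970, 0, 17, 185917) (.node .leaf (104971, 0, 16, 144987) .leaf)) (104974, 0, 14, 192286) (.node (.node .leaf (104975, 0, 17, 135032) .leaf) (104976, 0, 16, 117604) (.node .leaf (104977, 0, 16, 211891) .leaf)))) (104980, 0, 17, 242809) (.node (.node (.node (.node .leaf (104981, 0, 12, 197264) .leaf) (104984, 0, 16, 130637) (.node .leaf (104985, 0, 16, 227542) .leaf)) (104988, 0, 18, 220901) (.node (.node .leaf (104989, 0, 17, 67531) .leaf) (104992, 0,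 17, 174197) (.node .leaf (104993, 0, 12, 39350) .leaf))) (104996, 0, 14, 168278) (.node (.node (.node .leaf (104997, 0, 18, 160048) .leaf) (105000, 0, 17, 36333) (.node .leaf (105001, 0, 12, 29482) .leaf)) (105004, 0, 18, 21785) (.node (.node .leaf (105005, 0, 16, 21672) .leaf) (105010, 0, 16, 98309) (.node .leaf (105011, 0, 17, 90211) .leaf))))))

/-- part of the orbit tree -/
def itp3_101 : Tree := (.node (.node (.node (.node (.node (.node .leaf (105015, 0, 14, 88384) .leaf) (105018, 0, 15, 242816) (.node .leaf (105019, 0, 18, 214523) .leaf)) (105022, 0, 13, 236734) (.node (.node .leaf (105023, 0, 17, 234163) .leaf) (105026, 0, 17, 3434) (.node .leaf (105027, 0, 17, 152644) .leaf))) (105030, 0, 17, 237568) (.node (.node (.node .leaf (105031, 0, 14, 11097) .leaf) (105034, 0, 15, 113851) (.node .leaf (105035, 0, 14, 89309) .leaf)) (105038, 0, 17, 99736) (.node (.node .leaf (105039, 0, 17, 91646) .leaf) (105040, 0, 16, 45395) (.node .leaf (105041, 0, 16, 248512) .leaf)))) (105044, 0, 14, 257267) (.node (.node (.node (.node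 .leaf (105045, 0, 17, 112093) .leaf) (105048, 0, 13, 169163) (.node .leaf (105049, 0, 18, 160941) .leaf)) (105052, 0, 13, 198255) (.node (.node .leaf (105053, 0, 13, 150926) .leaf) (105056, 0, 18, 170002) (.node .leaf (105057, 0, 13, 49468) .leaf))) (105060, 0, 16, 130000) (.node (.node (.node .leaf (105061, 0, 14, 72630) .leaf) (105064, 0, 15, 255851) (.node .leaf (105065, 0, 13, 198413) .leaf)) (105068, 0, 17, 253512) (.node (.node .leaf (105069, 0, 16, 152765) .leaf) (105074, 0, 17, 191107) (.node .leaf (105075, 0, 17, 133861) .leaf))))) (105078, 0, 15, 96651) (.node (.node (.node (.node (.node .leaf (105079, 0, 16, 144326) .leaf) (105082, 0, 15, 53019) (.node .leaf (105083, 0, 16, 111908) .leaf)) (105086, 0, 17, 103191) (.node (.node .leaf (105087, 0, 18, 248377) .leaf) (105090, 0, 18, 156847) (.node .leaf (105091, 0, 14, 165065) .leaf))) (105094, 0, 16, 155020) (.node (.node (.node .leaf (105095, 0, 16, 246714) .leaf) (105098, 0, 15, 200469) (.node .leaf (105099, 0, 15, 41297) .leaf)) (105102, 0, 12, 30740) (.node (.node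 .leaf (105103, 0, 16, 39026) .leaf) (105104, 0, 16, 162573) (.node .leaf (105105, 0, 16, 8739) .leaf)))) (105108, 0, 15, 1040) (.node (.node (.node (.node .leaf (105109, 0, 15, 154942) .leaf) (105112, 0, 16, 168337) (.node .leaf (105113, 0, 16, 231713) .leaf)) (105116, 0, 15, 217188) (.node (.node .leaf (105117, 0, 13, 178082) .leaf) (105120, 0, 17, 94449) (.node .leaf (105121, 0, 14, 57113) .leaf))) (105124, 0, 15, 200684) (.node (.node (.node .leaf (105125, 0, 16, 58938) .leaf) (105128, 0, 15, 137959) (.node .leaf (105129, 0, 17, 195201) .leaf)) (105132, 0, 7, 255344) (.node (.node .leaf (105133, 0, 16, 113758) .leaf) (105138, 0, 16, 61045) (.node .leaf (105139, 0, 15, 178011) .leaf))))))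

/-- part of the orbit tree -/
def itp3_102 : Tree := (.node (.node (.node (.node (.node (.node .leaf (105143, 0, 16, 249418) .leaf) (105146, 0, 15, 78487) (.node .leaf (105147, 0, 18, 155079) .leaf)) (105150, 0, 16, 162804) (.node (.node .leaf (105151, 0, 16, 125906) .leaf) (105154, 0, 16, 69161) (.node .leaf (105155, 0, 17, 123949) .leaf))) (105158, 0, 11, 115230) (.node (.node (.node .leaf (105159, 0, 16, 120684) .leaf) (105162, 0, 18, 219039) (.node .leaf (105163, 0, 15, 248791) .leaf)) (105166, 0, 13, 201362) (.node (.node .leaf (105167, 0, 15, 225708) .leaf) (105168, 0, 16, 140889) (.node .leaf (105169, 0, 17, 31401) .leaf)))) (105172, 0, 14, 23706) (.node (.node (.node (.node .leaf (105173, 0, 17, 196380) .leaf) (105176, 0, 12, 182555) (.node .leaf (105177, 0, 15, 36917) .leaf)) (105180, 0, 17, 15074) (.node (.node .leaf (105181, 0, 17, 192296) .leaf) (105184, 0, 15, 75899) (.node .leaf (105185, 0, 19, 225621) .leaf))) (105188, 0, 14, 218982) (.node (.node (.node .leaf (105189, 0, 14, 69192) .leaf) (105192, 0, 15,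 115431) (.node .leaf (105193, 0, 17, 102407) .leaf)) (105196, 0, 18, 245242) (.node (.node .leaf (105197, 0, 12, 124116) .leaf) (105202, 0, 15, 46847) (.node .leaf (105203, 0, 14, 192465) .leaf))))) (105206, 0, 16, 182754) (.node (.node (.node (.node (.node .leaf (105207, 0, 15, 42188) .leaf) (105210, 0, 9, 153617) (.node .leaf (105211, 0, 13, 132429) .leaf)) (105214, 0, 16, 140158) (.node (.node .leaf (105215, 0, 16, 31312) .leaf) (105216, 0, 15, 131572) (.node .leaf (105217, 0, 17, 188818) .leaf))) (105220, 0, 18, 145623) (.node (.node (.node .leaf (105221, 0, 16, 186545) .leaf) (105224, 0, 17, 9324) (.node .leaf (105225, 0, 15, 125379) .leaf)) (105228, 0, 17, 7503) (.node (.node .leaf (105229, 0, 15, 235230) .leaf) (105234, 0, 14, 181493) (.node .leaf (105235, 0, 16, 117218) .leaf)))) (105238, 0, 17, 69799) (.node (.node (.node (.node .leaf (105239, 0, 12, 189126) .leaf) (105242, 0, 16, 199708) (.node .leaf (105243, 0, 17, 30535) .leaf)) (105246, 0, 17, 210239) (.node (.node .leaf (105247, 0, 11, 133210) .leaf) (105250,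 0, 17, 118537) (.node .leaf (105251, 0, 16, 235047) .leaf))) (105254, 0, 13, 241684) (.node (.node (.node .leaf (105255, 0, 16, 125242) .leaf) (105258, 0, 18, 163772) (.node .leaf (105259, 0, 17, 171994) .leaf)) (105262, 0, 19, 219784) (.node (.node .leaf (105263, 0, 16, 173817) .leaf) (105264, 0, 16, 225876) .leaf)))))

/-- part of the orbit tree -/
def itp3_103 : Tree := (.node itp3_99 (104885, 0, 17, 246523) itp3_100)

/-- part of the orbit tree -/
def itp3_104 : Tree := (.node itp3_101 (105142, 0, 17, 208428) itp3_102)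

/-- part of the orbit tree -/
def itp3_105 : Tree := (.node itp3_97 (104500, 0, 17, 183391) itp3_98)

/-- part of the orbit tree -/
def itp3_106 : Tree := (.node itp3_103 (105014, 0, 18, 73985) itp3_104)

/-- part of the orbit tree -/
def itp3_107 : Tree := (.node (.node (.node (.node (.node (.node .leaf (105268, 0, 16, 215927) .leaf) (105269, 0, 17, 240401) (.node .leaf (105272, 0, 17, 47889) .leaf)) (105273, 0, 16, 188991) (.node (.node .leaf (105276, 0, 15, 181260) .leaf) (105277, 0, 15, 40226) (.node .leaf (105280, 0, 18, 93042) .leaf))) (105281, 0, 16, 89045) (.node (.node (.node .leaf (105284, 0, 16, 97766) .leaf) (105285, 0, 17, 206024) (.node .leaf (105288, 0, 17, 256103) .leaf)) (105289, 0, 19, 110921) (.node (.node .leaf (105292, 0, 18, 104314) .leaf) (105293, 0, 11, 235439) (.node .leaf (105298, 0, 17, 171135) .leaf)))) (105299, 0, 14, 172900) (.node (.node (.node (.node .leaf (105302, 0, 15, 58210) .leaf) (105303, 0, 17, 170567) (.node .leaf (105306, 0, 16, 26266) .leaf)) (105307, 0, 13, 12237) (.node (.node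 .leaf (105310, 0, 17, 2558) .leaf) (105311, 0, 12, 151760) (.node .leaf (105314, 0, 17, 209058) .leaf))) (105315, 0, 18, 250052) (.node (.node (.node .leaf (105318, 0, 12, 256158) .leaf) (105319, 0, 16, 256487) (.node .leaf (105322, 0, 17, 97567) .leaf)) (105323, 0, 16, 205873) (.node (.node .leaf (105326, 0, 15, 76825) .leaf) (105327, 0, 13, 117887) (.node .leaf (105328, 0, 17, 6354) .leaf))))) (105329, 0, 18, 151593) (.node (.node (.node (.node (.node .leaf (105332, 0, 14, 8689) .leaf) (105333, 0, 16, 49559) (.node .leaf (105336, 0, 17, 146762) .leaf)) (105337, 0, 15, 178869) (.node (.node .leaf (105340, 0, 15, 171142) .leaf) (105341, 0, 15, 50600) (.node .leaf (105344, 0, 15, 38654) .leaf))) (105345, 0, 14, 30360) (.node (.node (.node .leaf (105348, 0, 18, 45021) .leaf) (105349, 0, 15, 20411) (.node .leaf (105352, 0, 18, 176998) .leaf)) (105353, 0, 14, 154026) (.node (.node .leaf (105356, 0, 11, 166469) .leaf) (105357, 0, 16, 158243) (.node .leaf (105362, 0, 18, 245390) .leaf)))) (105363, 0, 12, 208306) (.node (.node (.node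 (.node .leaf (105366, 0, 17, 231341) .leaf) (105367, 0, 17, 223179) (.node .leaf (105370, 0, 17, 105984) .leaf)) (105371, 0, 17, 97136) (.node (.node .leaf (105374, 0, 16, 254237) .leaf) (105375, 0, 18, 82515) (.node .leaf (105378, 0, 15, 163680) .leaf))) (105379, 0, 16, 142664) (.node (.node (.node .leaf (105382, 0, 18, 125) .leaf) (105383, 0, 16, 136299) (.node .leaf (105386, 0, 15, 169468) .leaf)) (105387, 0, 14, 52434) (.node (.node .leaf (105390, 0, 15, 60129) .leaf) (105391, 0, 17, 12787) (.node .leaf (105392, 0, 16, 124254) .leaf))))))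

/-- part of the orbit tree -/
def itp3_108 : Tree := (.node (.node (.node (.node (.node (.node .leaf (105396, 0, 16, 106233) .leaf) (105397, 0, 17, 247767) (.node .leaf (105400, 0, 18, 245958) .leaf)) (105401, 0, 15, 204960) (.node (.node .leaf (105404, 0, 16, 95333) .leaf) (105405, 0, 15, 203139) (.node .leaf (105408, 0, 16, 261240) .leaf))) (105409, 0, 14, 191420) (.node (.node (.node .leaf (105412, 0, 13, 183695) .leaf) (105413, 0, 18, 206141) (.node .leaf (105416, 0, 18, 121312) .leaf)) (105417, 0, 17, 80262) (.node (.node .leaf (105420, 0, 15, 141075) .leaf) (105421, 0, 17, 65701) (.node .leaf (105426, 0, 17, 54280) .leaf)))) (105427, 0, 15, 13422) (.node (.node (.node (.node .leaf (105430, 0, 16, 217867) .leaf) (105431, 0, 17, 68133) (.node .leaf (105434, 0, 15, 192912) .leaf)) (105435, 0, 15, 237476) (.node (.node .leaf (105438, 0, 11, 182451) .leaf) (105439, 0, 14, 123065) (.node .leaf (105442, 0, 15, 108456) .leaf))) (105443, 0, 15, 83918) (.node (.node (.node .leaf (105446, 0, 17, 106123) .leaf) (105447, 0, 17,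 98029) (.node .leaf (105450, 0, 16, 183670) .leaf)) (105451, 0, 18, 221782) (.node (.node .leaf (105454, 0, 14, 45675) .leaf) (105455, 0, 15, 220021) (.node .leaf (105456, 0, 17, 167896) .leaf))))) (105457, 0, 16, 159678) (.node (.node (.node (.node (.node .leaf (105460, 0, 16, 177915) .leaf) (105461, 0, 17, 153245) (.node .leaf (105464, 0, 16, 43584) .leaf)) (105465, 0, 18, 18982) (.node (.node .leaf (105468, 0, 14, 37731) .leaf) (105469, 0, 16, 29445) (.node .leaf (105473, 0, 16, 30014) .leaf))) (105475, 0, 15, 75035) (.node (.node (.node .leaf (105477, 0, 16, 19485) .leaf) (105479, 0, 17, 228107) (.node .leaf (105481, 0, 16, 151718) .leaf)) (105483, 0, 16, 196739) (.node (.node .leaf (105485, 0, 16, 31205) .leaf) (105487, 0, 16, 211360) (.node .leaf (105488, 0, 16, 181180) .leaf)))) (105490, 0, 14, 245032) (.node (.node (.node (.node .leaf (105492, 0, 15, 185390) .leaf) (105494, 0, 17, 218323) (.node .leaf (105496, 0, 14, 141600) .leaf)) (105498, 0, 12, 115026) (.node (.node .leaf (105500, 0, 17, 22077) .leaf) (105502,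 0, 19, 106899) (.node .leaf (105504, 0, 15, 116800) .leaf))) (105506, 0, 11, 183944) (.node (.node (.node .leaf (105508, 0, 14, 239502) .leaf) (105510, 0, 18, 194475) (.node .leaf (105512, 0, 16, 74460) .leaf)) (105514, 0, 16, 182958) (.node (.node .leaf (105516, 0, 18, 98838) .leaf) (105518, 0, 18, 53811) (.node .leaf (105521, 0, 17, 67230) .leaf))))))

/-- part of the orbit tree -/
def itp3_109 : Tree := (.node (.node (.node (.node (.node (.node .leaf (105525, 0, 14, 81853) .leaf) (105527, 0, 14, 28568) (.node .leaf (105529, 0, 12, 205574) .leaf)) (105531, 0, 16, 189814) (.node (.node .leaf (105533, 0, 17, 225817) .leaf) (105535, 0, 17, 150016) (.node .leaf (105537, 0, 10, 177390) .leaf))) (105539, 0, 16, 151453) (.node (.node (.node .leaf (105541, 0, 16, 52211) .leaf) (105543, 0, 17, 205697) (.node .leaf (105545, 0, 14, 155250) .leaf)) (105547, 0, 14, 112128) (.node (.node .leaf (105549, 0, 18, 66307) .leaf) (105551, 0, 16, 21286) (.node .leaf (105552, 0, 15, 100235) .leaf)))) (105554, 0, 17, 95044) (.node (.node (.node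 (.node .leaf (105556, 0, 18, 114344) .leaf) (105558, 0, 18, 61069) (.node .leaf (105560, 0, 18, 160170) .leaf)) (105562, 0, 13, 104920) (.node (.node .leaf (105564, 0, 14, 3767) .leaf) (105566, 0, 16, 255685) (.node .leaf (105568, 0, 18, 102602) .leaf))) (105570, 0, 14, 161976) (.node (.node (.node .leaf (105572, 0, 16, 258007) .leaf) (105574, 0, 16, 105773) (.node .leaf (105576, 0, 15, 96854) .leaf)) (105578, 0, 16, 168484) (.node (.node .leaf (105580, 0, 12, 197963) .leaf) (105582, 0, 17, 60729) (.node .leaf (105585, 0, 15, 114450) .leaf))))) (105587, 0, 16, 212029) (.node (.node (.node (.node (.node .leaf (105589, 0, 16, 152891) .leaf) (105591, 0, 18, 197918) (.node .leaf (105593, 0, 15, 18816) .leaf)) (105595, 0, 17, 72101) (.node (.node .leaf (105597, 0, 16, 207507) .leaf) (105599, 0, 17, 49889) (.node .leaf (105601, 0, 13, 188980) .leaf))) (105603, 0, 16, 242193) (.node (.node (.node .leaf (105605, 0, 15, 205584) .leaf) (105607, 0, 13, 52066) (.node .leaf (105609, 0, 13, 112273) .leaf)) (105611, 0, 18, 155363) (.node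 (.node .leaf (105613, 0, 17, 65167) .leaf) (105615, 0, 14, 8702) (.node .leaf (105616, 0, 17, 95189) .leaf)))) (105618, 0, 16, 76322) (.node (.node (.node (.node .leaf (105620, 0, 17, 199880) .leaf) (105622, 0, 15, 58554) (.node .leaf (105624, 0, 15, 155551) .leaf)) (105626, 0, 16, 200634) (.node (.node .leaf (105628, 0, 14, 157372) .leaf) (105630, 0, 15, 3622) (.node .leaf (105632, 0, 10, 161833) .leaf))) (105634, 0, 16, 102491) (.node (.node (.node .leaf (105636, 0, 16, 77956) .leaf) (105638, 0, 15, 24737) (.node .leaf (105640, 0, 13, 207935) .leaf)) (105642, 0, 12, 162842) (.node (.node .leaf (105644, 0, 16, 202012) .leaf) (105646, 0, 17, 198106) (.node .leaf (105649, 0, 16, 233876) .leaf))))))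

/-- part of the orbit tree -/
def itp3_110 : Tree := (.node (.node (.node (.node (.node (.node .leaf (105653, 0, 14, 10476) .leaf) (105655, 0, 16, 245918) (.node .leaf (105657, 0, 11, 111628) .leaf)) (105659, 0, 13, 58409) (.node (.node .leaf (105661, 0, 14, 49776) .leaf) (105663, 0, 17, 207362) (.node .leaf (105665, 0, 16, 100530) .leaf))) (105667, 0, 13, 191733) (.node (.node (.node .leaf (105669, 0, 15, 110993) .leaf) (105671, 0, 16, 57780) (.node .leaf (105673, 0, 12, 240938) .leaf)) (105675, 0, 15, 195855) (.node (.node .leaf (105677, 0, 16, 234505) .leaf) (105679, 0, 12, 181292) (.node .leaf (105680, 0, 16, 200833) .leaf)))) (105682, 0, 16, 181037) (.node (.node (.node (.node .leaf (105684, 0, 16, 218178) .leaf) (105686, 0, 14, 48176) (.node .leaf (105688, 0, 17, 79129) .leaf)) (105690, 0, 13, 141745) (.node (.node .leaf (105692, 0, 15, 245470) .leaf) (105694, 0, 14, 23583) (.node .leaf (105696, 0, 15, 139427) .leaf))) (105698, 0, 16, 209668) (.node (.node (.node .leaf (105700, 0, 13, 154114) .leaf) (105702, 0, 16,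 199207) (.node .leaf (105704, 0, 12, 18105) .leaf)) (105706, 0, 17, 71324) (.node (.node .leaf (105708, 0, 14, 46370) .leaf) (105710, 0, 16, 220496) (.node .leaf (105713, 0, 17, 64274) .leaf))))) (105715, 0, 15, 124681) (.node (.node (.node (.node (.node .leaf (105717, 0, 18, 49713) .leaf) (105719, 0, 18, 235540) (.node .leaf (105721, 0, 14, 189927) .leaf)) (105723, 0, 17, 233135) (.node (.node .leaf (105725, 0, 17, 190377) .leaf) (105727, 0, 15, 225928) (.node .leaf (105728, 0, 17, 210732) .leaf))) (105730, 0, 19, 244443) (.node (.node (.node .leaf (105732, 0, 17, 142772) .leaf) (105734, 0, 14, 116166) (.node .leaf (105736, 0, 16, 47157) .leaf)) (105738, 0, 18, 17041) (.node (.node .leaf (105740, 0, 18, 76695) .leaf) (105742, 0, 17, 31666) (.node .leaf (105745, 0, 12, 32113) .leaf)))) (105747, 0, 17, 65338) (.node (.node (.node (.node .leaf (105749, 0, 14, 131692) .leaf) (105751, 0, 17, 50713) (.node .leaf (105753, 0, 15, 38893) .leaf)) (105755, 0, 16, 229279) (.node (.node .leaf (105757, 0, 16, 242596) .leaf) (105759, 0,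 16, 65666) (.node .leaf (105761, 0, 17, 226957) .leaf))) (105763, 0, 16, 101530) (.node (.node (.node .leaf (105765, 0, 18, 67984) .leaf) (105767, 0, 16, 188898) (.node .leaf (105769, 0, 17, 236561) .leaf)) (105771, 0, 16, 239874) (.node (.node .leaf (105773, 0, 15, 123660) .leaf) (105775, 0, 15, 233505) (.node .leaf (105776, 0, 18, 148620) .leaf))))))

/-- part of the orbit tree -/
def itp3_111 : Tree := (.node itp3_107 (105393, 0, 13, 112842) itp3_108)

/-- part of the orbit tree -/
def itp3_112 : Tree := (.node itp3_109 (105651, 0, 14, 114563) itp3_110)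

/-- part of the orbit tree -/
def itp3_113 : Tree := (.node (.node (.node (.node (.node (.node .leaf (105780, 0, 11, 163247) .leaf) (105782, 0, 18, 208266) (.node .leaf (105784, 0, 16, 24852) .leaf)) (105786, 0, 15, 23483) (.node (.node .leaf (105788, 0, 15, 22583) .leaf) (105790, 0, 16, 140454) (.node .leaf (105792, 0, 18, 23978) .leaf))) (105794, 0, 16, 254545) (.node (.node (.node .leaf (105796, 0, 17, 25737) .leaf) (105798, 0, 16, 79020) (.node .leaf (105800, 0, 18, 57535) .leaf)) (105802, 0, 16, 198861) (.node (.node .leaf (105804, 0, 20, 147729) .leaf) (105806, 0, 14, 201012) (.node .leaf (105809, 0, 17, 181657) .leaf)))) (105811, 0, 16, 249225) (.node (.node (.node (.node .leaf (105813, 0, 17, 195770) .leaf) (105815, 0, 16, 111252) (.node .leaf (105817, 0, 17, 53095) .leaf)) (105819, 0, 17, 110628) (.node (.node .leaf (105821, 0, 17, 176250) .leaf) (105823, 0, 16, 88072) (.node .leaf (105825, 0, 16, 243257) .leaf))) (105827, 0, 17, 189980) (.node (.node (.node .leaf (105829, 0, 18, 233242) .leaf) (105831, 0, 16, 188223)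 (.node .leaf (105833, 0, 18, 103329) .leaf)) (105835, 0, 13, 50052) (.node (.node .leaf (105837, 0, 14, 109186) .leaf) (105839, 0, 17, 64167) (.node .leaf (105840, 0, 14, 77322) .leaf))))) (105842, 0, 16, 32303) (.node (.node (.node (.node (.node .leaf (105844, 0, 18, 71465) .leaf) (105846, 0, 18, 18188) (.node .leaf (105848, 0, 12, 256835) .leaf)) (105850, 0, 14, 154551) (.node (.node .leaf (105852, 0, 13, 103518) .leaf) (105854, 0, 18, 156308) (.node .leaf (105856, 0, 16, 254656) .leaf))) (105858, 0, 19, 61443) (.node (.node (.node .leaf (105860, 0, 18, 104709) .leaf) (105862, 0, 17, 161199) (.node .leaf (105864, 0, 15, 198748) .leaf)) (105866, 0, 17, 185755) (.node (.node .leaf (105868, 0, 18, 96065) .leaf) (105870, 0, 14, 191672) (.node .leaf (105873, 0, 16, 249112) .leaf)))) (105875, 0, 12, 157744) (.node (.node (.node (.node .leaf (105877, 0, 16, 196918) .leaf) (105879, 0, 18, 151827) (.node .leaf (105881, 0, 18, 73101) .leaf)) (105883, 0, 16, 53238) (.node (.node .leaf (105885, 0, 18, 88217) .leaf) (105887, 0, 17,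 176363) (.node .leaf (105889, 0, 16, 150453) .leaf))) (105891, 0, 16, 208534) (.node (.node (.node .leaf (105893, 0, 18, 178681) .leaf) (105895, 0, 15, 205491) (.node .leaf (105897, 0, 16, 11384) .leaf)) (105899, 0, 18, 81416) (.node (.node .leaf (105901, 0, 16, 22286) .leaf) (105903, 0, 17, 67371) (.node .leaf (105904, 0, 17, 59708) .leaf))))))

/-- part of the orbit tree -/
def itp3_114 : Tree := (.node (.node (.node (.node (.node (.node .leaf (105908, 0, 12, 60069) .leaf) (105910, 0, 14, 97875) (.node .leaf (105912, 0, 17, 928) .leaf)) (105914, 0, 17, 256978) (.node (.node .leaf (105916, 0, 14, 184125) .leaf) (105918, 0, 14, 237336) (.node .leaf (105920, 0, 16, 182944) .leaf))) (105922, 0, 13, 236165) (.node (.node (.node .leaf (105924, 0, 16, 116055) .leaf) (105926, 0, 16, 238502) (.node .leaf (105928, 0, 17, 61240) .leaf)) (105930, 0, 12, 114461) (.node (.node .leaf (105932, 0, 17, 54811) .leaf) (105934, 0, 17, 182201) (.node .leaf (105937, 0, 16, 21139) .leaf)))) (105939, 0, 13, 32224) (.node (.node (.node (.node .leaf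 (105941, 0, 17, 27568) .leaf) (105943, 0, 18, 80789) (.node .leaf (105945, 0, 16, 161547) .leaf)) (105947, 0, 17, 38780) (.node (.node .leaf (105949, 0, 18, 65555) .leaf) (105951, 0, 18, 204301) (.node .leaf (105953, 0, 18, 40558) .leaf))) (105955, 0, 16, 28950) (.node (.node (.node .leaf (105957, 0, 14, 71696) .leaf) (105959, 0, 14, 18485) (.node .leaf (105961, 0, 14, 29938) .leaf)) (105963, 0, 18, 236672) (.node (.node .leaf (105965, 0, 14, 212360) .leaf) (105967, 0, 15, 123805) (.node .leaf (105968, 0, 15, 243968) .leaf))))) (105970, 0, 16, 219588) (.node (.node (.node (.node (.node .leaf (105972, 0, 14, 183979) .leaf) (105974, 0, 15, 75481) (.node .leaf (105976, 0, 14, 23338) .leaf)) (105978, 0, 17, 242520) (.node (.node .leaf (105980, 0, 15, 140343) .leaf) (105982, 0, 15, 62878) (.node .leaf (105984, 0, 16, 45158) .leaf))) (105985, 0, 16, 22862) (.node (.node (.node .leaf (105986, 0, 16, 219156) .leaf) (105987, 0, 15, 67947) (.node .leaf (105988, 0, 17, 184187) .leaf)) (105989, 0, 16, 38485) (.node (.node .leaf (105990,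 0, 17, 118830) .leaf) (105991, 0, 16, 228903) (.node .leaf (105992, 0, 16, 23290) .leaf)))) (105993, 0, 16, 163030) (.node (.node (.node (.node .leaf (105994, 0, 14, 242312) .leaf) (105995, 0, 13, 208115) (.node .leaf (105996, 0, 15, 173459) .leaf)) (105997, 0, 15, 148981) (.node (.node .leaf (105998, 0, 13, 259510) .leaf) (105999, 0, 15, 234683) (.node .leaf (106032, 0, 15, 117384) .leaf))) (106033, 0, 17, 123572) (.node (.node (.node .leaf (106034, 0, 17, 21480) .leaf) (106035, 0, 16, 31435) (.node .leaf (106036, 0, 17, 127915) .leaf)) (106037, 0, 15, 236969) (.node (.node .leaf (106038, 0, 17, 142581) .leaf) (106039, 0, 16, 17384) (.node .leaf (106040, 0, 15, 257808) .leaf))))))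

/-- part of the orbit tree -/
def itp3_115 : Tree := (.node (.node (.node (.node (.node (.node .leaf (106042, 0, 16, 180021) .leaf) (106043, 0, 18, 155475) (.node .leaf (106044, 0, 16, 77339) .leaf)) (106045, 0, 17, 210517) (.node (.node .leaf (106046, 0, 18, 165398) .leaf) (106047, 0, 14, 157296) (.node .leaf (106048, 0, 18, 59628) .leaf))) (106049, 0, 18, 176578) (.node (.node (.node .leaf (106050, 0, 17, 164747) .leaf) (106051, 0, 13, 88496) (.node .leaf (106052, 0, 14, 169969) .leaf)) (106053, 0, 19, 52959) (.node (.node .leaf (106054, 0, 18, 98179) .leaf) (106055, 0, 15, 206509) (.node .leaf (106056, 0, 14, 128566) .leaf)))) (106057, 0, 12, 71248) (.node (.node (.node (.node .leaf (106058, 0, 16, 42515) .leaf) (106059, 0, 16, 111404) (.node .leaf (106060, 0, 17, 163181) .leaf)) (106061, 0, 15, 9283) (.node (.node .leaf (106062, 0, 16, 40752) .leaf) (106063, 0, 17, 32598) (.node .leaf (106096, 0, 16, 172046) .leaf))) (106097, 0, 16, 147560) (.node (.node (.node .leaf (106098, 0, 13, 258091) .leaf) (106099, 0, 17, 152140)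 (.node .leaf (106100, 0, 14, 170285) .leaf)) (106101, 0, 14, 247075) (.node (.node .leaf (106102, 0, 15, 160895) .leaf) (106103, 0, 13, 207214) (.node .leaf (106104, 0, 15, 34198) .leaf))))) (106105, 0, 16, 26096) (.node (.node (.node (.node (.node .leaf (106106, 0, 12, 57854) .leaf) (106107, 0, 13, 79317) (.node .leaf (106108, 0, 15, 95889) .leaf)) (106109, 0, 15, 208831) (.node (.node .leaf (106110, 0, 15, 171747) .leaf) (106111, 0, 16, 68854) (.node .leaf (106112, 0, 16, 142882) .leaf))) (106113, 0, 15, 183876) (.node (.node (.node .leaf (106114, 0, 15, 228871) .leaf) (106115, 0, 17, 237153) (.node .leaf (106116, 0, 15, 98066) .leaf)) (106117, 0, 13, 206396) (.node (.node .leaf (106118, 0, 15, 214820) .leaf) (106119, 0, 15, 239426) (.node .leaf (106120, 0, 13, 256659) .leaf)))) (106121, 0, 14, 60380) (.node (.node (.node (.node .leaf (106122, 0, 18, 737) .leaf) (106123, 0, 16, 113657) (.node .leaf (106124, 0, 16, 103822) .leaf)) (106125, 0, 15, 54015) (.node (.node .leaf (106126, 0, 15, 163324) .leaf) (106127, 0, 18, 99034)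 (.node .leaf (106160, 0, 16, 3059) .leaf))) (106161, 0, 14, 245220) (.node (.node (.node .leaf (106162, 0, 15, 254849) .leaf) (106163, 0, 17, 113327) (.node .leaf (106164, 0, 16, 222369) .leaf)) (106165, 0, 15, 230599) (.node (.node .leaf (106166, 0, 15, 105628) .leaf) (106167, 0, 18, 247218) (.node .leaf (106168, 0, 13, 57711) .leaf))))))

/-- part of the orbit tree -/
def itp3_116 : Tree := (.node (.node (.node (.node (.node (.node .leaf (106170, 0, 15, 10303) .leaf) (106171, 0, 15, 51289) (.node .leaf (106172, 0, 15, 171634) .leaf)) (106173, 0, 11, 51036) (.node (.node .leaf (106174, 0, 14, 4380) .leaf) (106175, 0, 17, 61818) (.node .leaf (106176, 0, 13, 219269) .leaf))) (106177, 0, 17, 107714) (.node (.node (.node .leaf (106178, 0, 17, 45303) .leaf) (106179, 0, 18, 190937) (.node .leaf (106180, 0, 18, 97671) .leaf)) (106181, 0, 17, 229046) (.node (.node .leaf (106182, 0, 16, 184298) .leaf) (106183, 0, 16, 38596) (.node .leaf (106184, 0, 15, 221500) .leaf)))) (106185, 0, 17, 229722) (.node (.node (.node (.node .leaf (106186,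 0, 16, 143641) .leaf) (106187, 0, 18, 131909) (.node .leaf (106188, 0, 18, 219167) .leaf)) (106189, 0, 17, 234538) (.node (.node .leaf (106190, 0, 14, 133178) .leaf) (106191, 0, 17, 190556) (.node .leaf (106224, 0, 16, 14084) .leaf))) (106225, 0, 16, 55138) (.node (.node (.node .leaf (106226, 0, 14, 91937) .leaf) (106227, 0, 17, 100167) (.node .leaf (106228, 0, 17, 142436) .leaf)) (106229, 0, 17, 60993) (.node (.node .leaf (106230, 0, 17, 115734) .leaf) (106231, 0, 15, 114276) (.node .leaf (106232, 0, 16, 135836) .leaf))))) (106233, 0, 15, 193274) (.node (.node (.node (.node (.node .leaf (106234, 0, 15, 217495) .leaf) (106235, 0, 16, 238303) (.node .leaf (106236, 0, 15, 182008) .leaf)) (106237, 0, 14, 40918) (.node (.node .leaf (106238, 0, 18, 228250) .leaf) (106239, 0, 17, 227236) (.node .leaf (106256, 0, 12, 139635) .leaf))) (106257, 0, 13, 30813) (.node (.node (.node .leaf (106258, 0, 15, 116993) .leaf) (106259, 0, 14, 233519) (.node .leaf (106260, 0, 15, 88618) .leaf)) (106261, 0, 17, 132928) (.node (.node .leaf (106262,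 0, 16, 243228) .leaf) (106263, 0, 16, 60009) (.node .leaf (106264, 0, 16, 183279) .leaf)))) (106265, 0, 17, 37569) (.node (.node (.node (.node .leaf (106266, 0, 13, 136884) .leaf) (106267, 0, 14, 194258) (.node .leaf (106268, 0, 14, 229298) .leaf)) (106269, 0, 12, 191964) (.node (.node .leaf (106270, 0, 18, 143255) .leaf) (106271, 0, 16, 66990) (.node .leaf (106272, 0, 16, 76431) .leaf))) (106273, 0, 18, 61647) (.node (.node (.node .leaf (106274, 0, 15, 180989) .leaf) (106275, 0, 16, 39891) (.node .leaf (106276, 0, 17, 218514) .leaf)) (106277, 0, 18, 51692) (.node (.node .leaf (106278, 0, 17, 48608) .leaf) (106279, 0, 16, 104905) .leaf)))))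

/-- part of the orbit tree -/
def itp3_117 : Tree := (.node itp3_113 (105906, 0, 14, 196942) itp3_114)

/-- part of the orbit tree -/
def itp3_118 : Tree := (.node itp3_115 (106169, 0, 16, 178241) itp3_116)

/-- part of the orbit tree -/
def itp3_119 : Tree := (.node itp3_111 (105523, 0, 14, 22203) itp3_112)

/-- part of the orbit tree -/
def itp3_120 : Tree := (.node itp3_117 (106041, 0, 15, 200566) itp3_118)

/-- part of the orbit tree -/
def itp3_121 : Tree := (.node itp3_105 (104757, 0, 16, 231265) itp3_106)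

/-- part of the orbit tree -/
def itp3_122 : Tree := (.node itp3_119 (105778, 0, 14, 45351) itp3_120)

/-- part of the orbit tree -/
def itp3_123 : Tree := (.node itp3_91 (103221, 0, 16, 12929) itp3_92)

/-- part of the orbit tree -/
def itp3_124 : Tree := (.node itp3_121 (105265, 0, 14, 234034) itp3_122)

/-- part of the orbit tree -/
def itp3_125 : Tree := (.node itp3_61 (100154, 0, 17, 161359) itp3_62)

/-- part of the orbit tree -/
def itp3_126 : Tree := (.node itp3_123 (104242, 0, 18, 61748) itp3_124)

/-- part of the orbit tree -/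
def itp3_127 : Tree := (.node (.node (.node (.node (.node (.node .leaf (106281, 0, 18, 185687) .leaf) (106282, 0, 15, 222484) (.node .leaf (106283, 0, 16, 230770) .leaf)) (106284, 0, 16, 245518) (.node (.node .leaf (106285, 0, 15, 191604) .leaf) (106286, 0, 17, 22396) (.node .leaf (106287, 0, 14, 244817) .leaf))) (106320, 0, 16, 133519) (.node (.node (.node .leaf (106321, 0, 15, 8407) .leaf) (106322, 0, 13, 102795) (.node .leaf (106323, 0, 17, 247973) .leaf)) (106324, 0, 16, 1764) (.node (.node .leaf (106325, 0, 15, 184522) .leaf) (106326, 0, 16, 221321) (.node .leaf (106327, 0, 15, 229615) .leaf)))) (106328, 0, 16, 168805) (.node (.node (.node (.node .leaf (106329, 0, 15, 52337) .leaf) (106330, 0, 15, 97330) (.node .leaf (106331, 0, 16, 205369) .leaf)) (106332, 0, 16, 5428) (.node (.node .leaf (106333, 0, 17, 62802) .leaf) (106334, 0, 16, 83217) (.node .leaf (106335, 0, 11, 107895) .leaf))) (106336, 0, 17, 227887) (.node (.node (.node .leaf (106337, 0, 15, 236105) .leaf) (106338, 0, 14, 170615) (.node .leaf (106339, 0, 16,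 50009) .leaf)) (106340, 0, 15, 199960) (.node (.node .leaf (106341, 0, 14, 238442) .leaf) (106342, 0, 12, 58730) (.node .leaf (106343, 0, 15, 179268) .leaf))))) (106344, 0, 15, 90039) (.node (.node (.node (.node (.node .leaf (106345, 0, 11, 246199) .leaf) (106346, 0, 10, 159979) (.node .leaf (106347, 0, 14, 61428) .leaf)) (106348, 0, 18, 91796) (.node (.node .leaf (106349, 0, 16, 100082) .leaf) (106350, 0, 17, 4086) (.node .leaf (106351, 0, 14, 54999) .leaf))) (106384, 0, 17, 259075) (.node (.node (.node .leaf (106385, 0, 14, 201829) .leaf) (106386, 0, 15, 162152) (.node .leaf (106387, 0, 18, 8262) .leaf)) (106388, 0, 17, 257543) (.node (.node .leaf (106389, 0, 17, 208198) .leaf) (106390, 0, 13, 1653) (.node .leaf (106391, 0, 15, 155483) .leaf)))) (106392, 0, 18, 97158) (.node (.node (.node (.node .leaf (106393, 0, 10, 78333) .leaf) (106394, 0, 15, 168948) (.node .leaf (106395, 0, 18, 51930) .leaf)) (106396, 0, 15, 125112) (.node (.node .leaf (106397, 0, 14, 67806) .leaf) (106398, 0, 15, 60649) (.node .leaf (106399, 0, 17,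 22779) .leaf))) (106400, 0, 15, 170726) (.node (.node (.node .leaf (106401, 0, 14, 50120) .leaf) (106402, 0, 15, 94868) (.node .leaf (106403, 0, 11, 210912) .leaf)) (106404, 0, 17, 58875) (.node (.node .leaf (106405, 0, 16, 179413) .leaf) (106406, 0, 15, 257701) (.node .leaf (106407, 0, 15, 87207) .leaf))))))

/-- part of the orbit tree -/
def itp3_128 : Tree := (.node (.node (.node (.node (.node (.node .leaf (106409, 0, 17, 16989) .leaf) (106410, 0, 16, 127518) (.node .leaf (106411, 0, 14, 246054) .leaf)) (106412, 0, 16, 39704) (.node (.node .leaf (106413, 0, 16, 153161) .leaf) (106414, 0, 13, 117565) (.node .leaf (106415, 0, 14, 76635) .leaf))) (106448, 0, 15, 117136) (.node (.node (.node .leaf (106449, 0, 15, 233662) .leaf) (106450, 0, 15, 118432) (.node .leaf (106451, 0, 16, 77510) .leaf)) (106452, 0, 18, 42918) (.node (.node .leaf (106453, 0, 13, 126883) .leaf) (106454, 0, 14, 128899) (.node .leaf (106455, 0, 17, 133073) .leaf)))) (106456, 0, 18, 74508) (.node (.node (.node (.node .leaf (106457, 0, 14, 227874) .leaf)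 (106458, 0, 16, 256824) (.node .leaf (106459, 0, 14, 37456) .leaf)) (106460, 0, 16, 164414) (.node (.node .leaf (106461, 0, 16, 156248) .leaf) (106462, 0, 18, 46179) (.node .leaf (106463, 0, 16, 191821) .leaf))) (106464, 0, 16, 126245) (.node (.node (.node .leaf (106465, 0, 16, 68931) .leaf) (106466, 0, 17, 76318) (.node .leaf (106467, 0, 16, 226096) .leaf)) (106468, 0, 16, 119814) (.node (.node .leaf (106469, 0, 18, 78944) .leaf) (106470, 0, 17, 218371) (.node .leaf (106471, 0, 15, 68653) .leaf))))) (106472, 0, 16, 247997) (.node (.node (.node (.node (.node .leaf (106473, 0, 15, 207067) .leaf) (106474, 0, 17, 114818) (.node .leaf (106475, 0, 16, 235948) .leaf)) (106476, 0, 16, 258462) (.node (.node .leaf (106477, 0, 16, 134851) .leaf) (106478, 0, 18, 172475) (.node .leaf (106479, 0, 17, 147933) .leaf))) (106497, 0, 14, 55204) (.node (.node (.node .leaf (106498, 0, 16, 154813) .leaf) (106500, 0, 14, 248786) (.node .leaf (106503, 0, 17, 114338) .leaf)) (106504, 0, 14, 135770) (.node (.node .leaf (106507, 0, 17, 238105) .leaf)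 (106509, 0, 14, 96352) (.node .leaf (106510, 0, 13, 228188) .leaf)))) (106513, 0, 13, 105239) (.node (.node (.node (.node .leaf (106514, 0, 16, 10827) .leaf) (106516, 0, 16, 113956) (.node .leaf (106519, 0, 15, 3192) .leaf)) (106520, 0, 15, 207013) (.node (.node .leaf (106523, 0, 16, 121420) .leaf) (106525, 0, 14, 45898) (.node .leaf (106526, 0, 16, 66313) .leaf))) (106528, 0, 16, 212023) (.node (.node (.node .leaf (106531, 0, 16, 96409) .leaf) (106533, 0, 15, 61430) (.node .leaf (106534, 0, 16, 152881) .leaf)) (106537, 0, 17, 129481) (.node (.node .leaf (106538, 0, 13, 248619) .leaf) (106540, 0, 14, 73868) (.node .leaf (106543, 0, 15, 37071) .leaf))))))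

/-- part of the orbit tree -/
def itp3_129 : Tree := (.node (.node (.node (.node (.node (.node .leaf (106547, 0, 14, 62497) .leaf) (106549, 0, 17, 170240) (.node .leaf (106550, 0, 18, 206940) .leaf)) (106553, 0, 17, 229788) (.node (.node .leaf (106554, 0, 17, 114141) .leaf) (106556, 0, 14, 10930) (.node .leaf (106559, 0, 15, 105454) .leaf))) (106561, 0, 16, 245026) (.node (.node (.node .leaf (106562, 0, 14, 134497) .leaf) (106564, 0, 10, 222311) (.node .leaf (106567, 0, 16, 139780) .leaf)) (106568, 0, 14, 96476) (.node (.node .leaf (106571, 0, 17, 46981) .leaf) (106573, 0, 18, 73962) (.node .leaf (106574, 0, 17, 37302) .leaf)))) (106577, 0, 15, 116087) (.node (.node (.node (.node .leaf (106578, 0, 17, 29377) .leaf) (106580, 0, 18, 124334) (.node .leaf (106583, 0, 16, 21746) .leaf)) (106584, 0, 15, 225327) (.node (.node .leaf (106587, 0, 11, 180595) .leaf) (106589, 0, 17, 252364) (.node .leaf (106590, 0, 16, 158095) .leaf))) (106592, 0, 15, 37199) (.node (.node (.node .leaf (106595, 0, 17, 124658) .leaf) (106597, 0, 18, 46972)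 (.node .leaf (106598, 0, 18, 67104) .leaf)) (106601, 0, 16, 168783) (.node (.node .leaf (106602, 0, 17, 205580) .leaf) (106604, 0, 17, 150026) (.node .leaf (106607, 0, 18, 243090) .leaf))))) (106608, 0, 17, 143076) (.node (.node (.node (.node (.node .leaf (106611, 0, 17, 237223) .leaf) (106613, 0, 15, 194465) (.node .leaf (106614, 0, 15, 225494) .leaf)) (106617, 0, 17, 60186) (.node (.node .leaf (106618, 0, 17, 88921) .leaf) (106620, 0, 14, 29240) (.node .leaf (106623, 0, 13, 115556) .leaf))) (106625, 0, 18, 147630) (.node (.node (.node .leaf (106626, 0, 17, 126164) .leaf) (106628, 0, 18, 31675) (.node .leaf (106631, 0, 18, 207272) .leaf)) (106632, 0, 15, 192058) (.node (.node .leaf (106635, 0, 14, 221030) .leaf) (106637, 0, 17, 182281) (.node .leaf (106638, 0, 14, 227669) .leaf)))) (106641, 0, 14, 142206) (.node (.node (.node (.node .leaf (106642, 0, 7, 236066) .leaf) (106644, 0, 15, 134477) (.node .leaf (106647, 0, 16, 244753) .leaf)) (106648, 0, 15, 39116) (.node (.node .leaf (106651, 0, 12, 76176) .leaf) (106653, 0, 17,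 140352) (.node .leaf (106654, 0, 18, 234499) .leaf))) (106656, 0, 16, 109373) (.node (.node (.node .leaf (106659, 0, 14, 182512) .leaf) (106661, 0, 18, 94840) (.node .leaf (106662, 0, 16, 192195) .leaf)) (106665, 0, 17, 117278) (.node (.node .leaf (106666, 0, 15, 188032) .leaf) (106668, 0, 15, 243590) (.node .leaf (106671, 0, 16, 23921) .leaf))))))

/-- part of the orbit tree -/
def itp3_130 : Tree := (.node (.node (.node (.node (.node (.node .leaf (106675, 0, 13, 48646) .leaf) (106677, 0, 12, 76137) (.node .leaf (106678, 0, 17, 178798) .leaf)) (106681, 0, 15, 244968) (.node (.node .leaf (106682, 0, 12, 134580) .leaf) (106684, 0, 16, 236251) (.node .leaf (106687, 0, 15, 142215) .leaf))) (106689, 0, 18, 1282) (.node (.node (.node .leaf (106690, 0, 16, 111710) .leaf) (106692, 0, 14, 127853) (.node .leaf (106695, 0, 16, 103021) .leaf)) (106696, 0, 13, 258006) (.node (.node .leaf (106699, 0, 18, 198636) .leaf) (106701, 0, 12, 168067) (.node .leaf (106702, 0, 16, 165584) .leaf)))) (106705, 0, 20, 217725) (.node (.node (.node (.node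 .leaf (106706, 0, 14, 246440) .leaf) (106708, 0, 12, 153031) (.node .leaf (106711, 0, 16, 146299) .leaf)) (106712, 0, 17, 104323) (.node (.node .leaf (106715, 0, 16, 10176) .leaf) (106717, 0, 18, 58997) (.node .leaf (106718, 0, 17, 87849) .leaf))) (106720, 0, 15, 180667) (.node (.node (.node .leaf (106723, 0, 16, 168058) .leaf) (106725, 0, 18, 137470) (.node .leaf (106726, 0, 17, 239805) .leaf)) (106729, 0, 18, 1093) (.node (.node .leaf (106730, 0, 17, 111622) .leaf) (106732, 0, 16, 111783) (.node .leaf (106735, 0, 17, 1531) .leaf))))) (106736, 0, 16, 88016) (.node (.node (.node (.node (.node .leaf (106739, 0, 17, 59020) .leaf) (106741, 0, 15, 24747) (.node .leaf (106742, 0, 15, 49343) .leaf)) (106745, 0, 14, 255074) (.node (.node .leaf (106746, 0, 16, 248915) .leaf) (106748, 0, 17, 173397) (.node .leaf (106751, 0, 18, 202006) .leaf))) (106752, 0, 17, 86828) (.node (.node (.node .leaf (106755, 0, 17, 140789) .leaf) (106757, 0, 18, 216307) (.node .leaf (106758, 0, 15, 195760) .leaf)) (106761, 0, 15, 254110) (.node (.node .leaf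 (106762, 0, 17, 57355) .leaf) (106764, 0, 16, 100621) (.node .leaf (106767, 0, 15, 14670) .leaf)))) (106768, 0, 18, 206298) (.node (.node (.node (.node .leaf (106771, 0, 12, 169094) .leaf) (106773, 0, 15, 79014) (.node .leaf (106774, 0, 16, 176821) .leaf)) (106777, 0, 18, 206877) (.node (.node .leaf (106778, 0, 17, 170078) .leaf) (106780, 0, 18, 258392) (.node .leaf (106783, 0, 18, 263) .leaf))) (106785, 0, 12, 161544) (.node (.node (.node .leaf (106786, 0, 15, 247380) .leaf) (106788, 0, 15, 151867) (.node .leaf (106791, 0, 12, 71459) .leaf)) (106792, 0, 16, 179163) (.node (.node .leaf (106795, 0, 17, 95718) .leaf) (106797, 0, 15, 156318) (.node .leaf (106798, 0, 15, 250589) .leaf))))))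

/-- part of the orbit tree -/
def itp3_131 : Tree := (.node itp3_127 (106408, 0, 14, 41531) itp3_128)

/-- part of the orbit tree -/
def itp3_132 : Tree := (.node itp3_129 (106672, 0, 16, 69466) itp3_130)

/-- part of the orbit tree -/
def itp3_133 : Tree := (.node (.node (.node (.node (.node (.node .leaf (106802, 0, 18, 243251) .leaf) (106804, 0, 15, 10189) (.node .leaf (106807, 0, 17, 225142) .leaf)) (106808, 0, 17, 50062) (.node (.node .leaf (106811, 0, 15, 197392) .leaf) (106813, 0, 18, 6859) (.node .leaf (106814, 0, 17, 206115) .leaf))) (106816, 0, 17, 65328) (.node (.node (.node .leaf (106819, 0, 16, 85875) .leaf) (106821, 0, 15, 77205) (.node .leaf (106822, 0, 16, 103990) .leaf)) (106825, 0, 18, 243732) (.node (.node .leaf (106826, 0, 16, 133448) .leaf) (106828, 0, 16, 189323) (.node .leaf (106831, 0, 17, 143227) .leaf)))) (106832, 0, 16, 228688) (.node (.node (.node (.node .leaf (106835, 0, 14, 183308) .leaf) (106837, 0, 18, 220003) (.node .leaf (106838, 0, 15, 191039) .leaf)) (106841, 0, 20, 17051) (.node (.node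 .leaf (106842, 0, 18, 32702) .leaf) (106844, 0, 16, 39902) (.node .leaf (106847, 0, 17, 22925) .leaf))) (106849, 0, 14, 201891) (.node (.node (.node .leaf (106850, 0, 17, 173280) .leaf) (106852, 0, 15, 133553) (.node .leaf (106855, 0, 16, 243949) .leaf)) (106856, 0, 18, 119133) (.node (.node .leaf (106859, 0, 16, 24862) .leaf) (106861, 0, 17, 67608) (.node .leaf (106862, 0, 16, 47195) .leaf))))) (106865, 0, 15, 22900) (.node (.node (.node (.node (.node .leaf (106866, 0, 17, 124968) .leaf) (106868, 0, 11, 32583) (.node .leaf (106871, 0, 17, 1520) .leaf)) (106872, 0, 11, 239880) (.node (.node .leaf (106875, 0, 14, 137547) .leaf) (106877, 0, 18, 183541) (.node .leaf (106878, 0, 17, 228777) .leaf))) (106880, 0, 15, 66236) (.node (.node (.node .leaf (106883, 0, 16, 45823) .leaf) (106885, 0, 14, 181622) (.node .leaf (106886, 0, 15, 226346) .leaf)) (106889, 0, 17, 247618) (.node (.node .leaf (106890, 0, 17, 123307) .leaf) (106892, 0, 16, 30404) (.node .leaf (106895, 0, 14, 175684) .leaf)))) (106896, 0, 16, 38323) (.node (.node (.node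 (.node .leaf (106899, 0, 18, 74991) .leaf) (106901, 0, 17, 45952) (.node .leaf (106902, 0, 13, 136175) .leaf)) (106905, 0, 18, 114455) (.node (.node .leaf (106906, 0, 16, 3924) .leaf) (106908, 0, 15, 131122) (.node .leaf (106911, 0, 15, 242030) .leaf))) (106913, 0, 8, 116577) (.node (.node (.node .leaf (106914, 0, 15, 30269) .leaf) (106916, 0, 16, 143466) (.node .leaf (106919, 0, 17, 229417) .leaf)) (106920, 0, 17, 226515) (.node (.node .leaf (106923, 0, 17, 105618) .leaf) (106925, 0, 16, 62868) (.node .leaf (106926, 0, 14, 83415) .leaf))))))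

/-- part of the orbit tree -/
def itp3_134 : Tree := (.node (.node (.node (.node (.node (.node .leaf (106930, 0, 14, 131275) .leaf) (106932, 0, 15, 18495) (.node .leaf (106935, 0, 16, 129148) .leaf)) (106936, 0, 15, 66085) (.node (.node .leaf (106939, 0, 15, 45945) .leaf) (106941, 0, 17, 74774) (.node .leaf (106942, 0, 19, 212354) .leaf))) (106944, 0, 16, 157754) (.node (.node (.node .leaf (106947, 0, 15, 199315) .leaf) (106949, 0, 12, 176511) (.node .leaf (106950, 0, 17, 208032) .leaf)) (106953, 0, 18, 2173) (.node (.node .leaf (106954, 0, 14, 112929) .leaf) (106956, 0, 16, 11854) (.node .leaf (106959, 0, 16, 106258) .leaf)))) (106960, 0, 11, 4207) (.node (.node (.node (.node .leaf (106963, 0, 15, 106540) .leaf) (106965, 0, 18, 60170) (.node .leaf (106966, 0, 15, 96617) .leaf)) (106969, 0, 16, 185745) (.node (.node .leaf (106970, 0, 18, 249815) .leaf) (106972, 0, 18, 153784) (.node .leaf (106975, 0, 14, 244887) .leaf))) (106977, 0, 17, 99241) (.node (.node (.node .leaf (106978, 0, 13, 13290) .leaf) (106980, 0, 16, 88812)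 (.node .leaf (106983, 0, 16, 2180) .leaf)) (106984, 0, 15, 214615) (.node (.node .leaf (106987, 0, 13, 171269) .leaf) (106989, 0, 17, 237330) (.node .leaf (106990, 0, 15, 178998) .leaf))))) (106993, 0, 15, 256285) (.node (.node (.node (.node (.node .leaf (106994, 0, 17, 150463) .leaf) (106996, 0, 14, 249646) (.node .leaf (106999, 0, 15, 168698) .leaf)) (107000, 0, 15, 88751) (.node (.node .leaf (107003, 0, 17, 60403) .leaf) (107005, 0, 17, 124743) (.node .leaf (107006, 0, 16, 22276) .leaf))) (107008, 0, 12, 111075) (.node (.node (.node .leaf (107009, 0, 16, 64468) .leaf) (107014, 0, 15, 9868) (.node .leaf (107015, 0, 16, 163746) .leaf)) (107018, 0, 15, 176909) (.node (.node .leaf (107019, 0, 18, 233065) .leaf) (107020, 0, 17, 205922) (.node .leaf (107021, 0, 15, 190319) .leaf)))) (107024, 0, 12, 247573) (.node (.node (.node (.node .leaf (107025, 0, 18, 164737) .leaf) (107030, 0, 15, 151674) (.node .leaf (107031, 0, 15, 256647) .leaf)) (107034, 0, 16, 71258) (.node (.node .leaf (107035, 0, 15, 171221) .leaf) (107036, 0, 15,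 86676) (.node .leaf (107037, 0, 16, 40762) .leaf))) (107042, 0, 14, 205979) (.node (.node (.node .leaf (107043, 0, 15, 172036) .leaf) (107044, 0, 13, 177140) (.node .leaf (107045, 0, 16, 248066) .leaf)) (107048, 0, 17, 79327) (.node (.node .leaf (107049, 0, 18, 163675) .leaf) (107054, 0, 15, 23769) (.node .leaf (107055, 0, 14, 256052) .leaf))))))

/-- part of the orbit tree -/
def itp3_135 : Tree := (.node (.node (.node (.node (.node (.node .leaf (107059, 0, 15, 55377) .leaf) (107060, 0, 16, 50434) (.node .leaf (107061, 0, 16, 171052) .leaf)) (107064, 0, 14, 216458) (.node (.node .leaf (107065, 0, 15, 2477) .leaf) (107070, 0, 17, 140428) (.node .leaf (107071, 0, 18, 106178) .leaf))) (107072, 0, 16, 125289) (.node (.node (.node .leaf (107073, 0, 15, 233810) .leaf) (107078, 0, 15, 137266) (.node .leaf (107079, 0, 17, 141096) .leaf)) (107082, 0, 15, 191367) (.node (.node .leaf (107083, 0, 15, 45737) .leaf) (107084, 0, 15, 228584) (.node .leaf (107085, 0, 17, 101865) .leaf)))) (107088, 0, 17, 67937) (.node (.node (.node (.node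 .leaf (107089, 0, 15, 125191) .leaf) (107094, 0, 18, 133360) (.node .leaf (107095, 0, 18, 20958) .leaf)) (107098, 0, 15, 40305) (.node (.node .leaf (107099, 0, 17, 181343) .leaf) (107100, 0, 15, 202202) (.node .leaf (107101, 0, 15, 217904) .leaf))) (107106, 0, 16, 76516) (.node (.node (.node .leaf (107107, 0, 16, 75071) .leaf) (107108, 0, 18, 191358) (.node .leaf (107109, 0, 17, 41860) .leaf)) (107112, 0, 16, 155481) (.node (.node .leaf (107113, 0, 17, 141265) .leaf) (107118, 0, 17, 125328) (.node .leaf (107119, 0, 12, 251449) .leaf))))) (107122, 0, 18, 217777) (.node (.node (.node (.node (.node .leaf (107123, 0, 17, 218057) .leaf) (107124, 0, 17, 40328) (.node .leaf (107125, 0, 17, 187345) .leaf)) (107128, 0, 17, 133129) (.node (.node .leaf (107129, 0, 15, 51050) .leaf) (107134, 0, 18, 85514) (.node .leaf (107135, 0, 16, 110188) .leaf))) (107136, 0, 14, 167096) (.node (.node (.node .leaf (107137, 0, 17, 22692) .leaf) (107142, 0, 13, 235237) (.node .leaf (107143, 0, 16, 118731) .leaf)) (107146, 0, 16, 129285) (.node (.node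 .leaf (107147, 0, 16, 219722) .leaf) (107148, 0, 17, 36867) (.node .leaf (107149, 0, 14, 183589) .leaf)))) (107152, 0, 16, 62701) (.node (.node (.node (.node .leaf (107153, 0, 17, 142930) .leaf) (107158, 0, 15, 122899) (.node .leaf (107159, 0, 14, 244029) .leaf)) (107162, 0, 14, 226706) (.node (.node .leaf (107163, 0, 13, 221494) .leaf) (107164, 0, 18, 189181) (.node .leaf (107165, 0, 17, 48083) .leaf))) (107170, 0, 7, 55144) (.node (.node (.node .leaf (107171, 0, 10, 14094) .leaf) (107172, 0, 15, 66461) (.node .leaf (107173, 0, 15, 89608) .leaf)) (107176, 0, 11, 238293) (.node (.node .leaf (107177, 0, 18, 118578) .leaf) (107182, 0, 17, 131443) (.node .leaf (107183, 0, 15, 142261) .leaf))))))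

/-- part of the orbit tree -/
def itp3_136 : Tree := (.node (.node (.node (.node (.node (.node .leaf (107187, 0, 16, 47914) .leaf) (107188, 0, 15, 247355) (.node .leaf (107189, 0, 13, 206429) .leaf)) (107192, 0, 14, 123114) (.node (.node .leaf (107193, 0, 17, 244164) .leaf) (107198, 0, 14, 30597) (.node .leaf (107199, 0, 13, 143019) .leaf))) (107200, 0, 16, 124478) (.node (.node (.node .leaf (107201, 0, 18, 46) .leaf) (107206, 0, 16, 249455) (.node .leaf (107207, 0, 16, 104257) .leaf)) (107210, 0, 17, 168835) (.node (.node .leaf (107211, 0, 17, 160741) .leaf) (107212, 0, 14, 52353) (.node .leaf (107213, 0, 13, 203491) .leaf)))) (107216, 0, 14, 237163) (.node (.node (.node (.node .leaf (107217, 0, 15, 228877) .leaf) (107222, 0, 16, 194413) (.node .leaf (107223, 0, 13, 136971) .leaf)) (107226, 0, 11, 60374) (.node (.node .leaf (107227, 0, 9, 2992) .leaf) (107228, 0, 14, 178807) (.node .leaf (107229, 0, 17, 90806) .leaf))) (107234, 0, 18, 52344) (.node (.node (.node .leaf (107235, 0, 17, 220552) .leaf) (107236, 0, 17, 185576)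 (.node .leaf (107237, 0, 15, 197177) .leaf)) (107240, 0, 14, 249494) (.node (.node .leaf (107241, 0, 17, 10293) .leaf) (107246, 0, 17, 154105) (.node .leaf (107247, 0, 17, 82227) .leaf))))) (107250, 0, 16, 116155) (.node (.node (.node (.node (.node .leaf (107251, 0, 16, 75229) .leaf) (107252, 0, 14, 208353) (.node .leaf (107253, 0, 18, 95439) .leaf)) (107256, 0, 17, 112736) (.node (.node .leaf (107257, 0, 18, 254286) .leaf) (107262, 0, 16, 252160) (.node .leaf (107263, 0, 15, 211302) .leaf))) (107266, 0, 13, 179826) (.node (.node (.node .leaf (107267, 0, 17, 59228) .leaf) (107268, 0, 16, 207133) (.node .leaf (107269, 0, 16, 94259) .leaf)) (107272, 0, 15, 113820) (.node (.node .leaf (107273, 0, 14, 255410) .leaf) (107278, 0, 14, 62808) (.node .leaf (107279, 0, 17, 160477) .leaf)))) (107282, 0, 17, 51332) (.node (.node (.node (.node .leaf (107283, 0, 15, 168362) .leaf) (107284, 0, 17, 129200) (.node .leaf (107285, 0, 12, 198341) .leaf)) (107288, 0, 10, 248426) (.node (.node .leaf (107289, 0, 17, 197741) .leaf) (107294, 0, 10,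 167181) (.node .leaf (107295, 0, 16, 159083) .leaf))) (107296, 0, 18, 11018) (.node (.node (.node .leaf (107297, 0, 18, 160292) .leaf) (107302, 0, 15, 121653) (.node .leaf (107303, 0, 12, 255307) .leaf)) (107306, 0, 18, 207332) (.node (.node .leaf (107307, 0, 15, 206824) .leaf) (107308, 0, 18, 175752) .leaf)))))

/-- part of the orbit tree -/
def itp3_137 : Tree := (.node itp3_133 (106929, 0, 16, 242071) itp3_134)

/-- part of the orbit tree -/
def itp3_138 : Tree := (.node itp3_135 (107186, 0, 18, 188932) itp3_136)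

/-- part of the orbit tree -/
def itp3_139 : Tree := (.node itp3_131 (106544, 0, 16, 180019) itp3_132)

/-- part of the orbit tree -/
def itp3_140 : Tree := (.node itp3_137 (107058, 0, 16, 14391) itp3_138)

/-- part of the orbit tree -/
def itp3_141 : Tree := (.node (.node (.node (.node (.node (.node .leaf (107312, 0, 15, 155132) .leaf) (107313, 0, 12, 141824) (.node .leaf (107318, 0, 18, 248467) .leaf)) (107319, 0, 13, 103357) (.node (.node .leaf (107322, 0, 13, 114651) .leaf) (107323, 0, 14, 90045) (.node .leaf (107324, 0, 15, 55005) .leaf))) (107325, 0, 18, 168275) (.node (.node (.node .leaf (107330, 0, 15, 190200) .leaf) (107331, 0, 16, 49110) (.node .leaf (107332, 0, 16, 60003) .leaf)) (107333, 0, 15, 2565) (.node (.node .leaf (107336, 0, 16, 123926) .leaf) (107337, 0, 15, 245048) (.node .leaf (107342, 0, 18, 29561) .leaf)))) (107343, 0, 17, 229304) (.node (.node (.node (.node .leaf (107346, 0, 17, 36878) .leaf) (107347, 0, 15, 203606) (.node .leaf (107348, 0, 17, 168502) .leaf)) (107349, 0, 18, 160336) (.node (.node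 .leaf (107352, 0, 17, 234208) .leaf) (107353, 0, 15, 117710) (.node .leaf (107358, 0, 16, 132495) .leaf))) (107359, 0, 15, 23713) (.node (.node (.node .leaf (107360, 0, 11, 29568) .leaf) (107361, 0, 15, 211155) (.node .leaf (107366, 0, 19, 124143) .leaf)) (107367, 0, 17, 245185) (.node (.node .leaf (107370, 0, 12, 225646) .leaf) (107371, 0, 13, 75840) (.node .leaf (107372, 0, 15, 115726) .leaf))))) (107373, 0, 16, 48943) (.node (.node (.node (.node (.node .leaf (107376, 0, 16, 106720) .leaf) (107377, 0, 13, 82054) (.node .leaf (107382, 0, 16, 234009) .leaf)) (107383, 0, 14, 117559) (.node (.node .leaf (107386, 0, 15, 185693) .leaf) (107387, 0, 18, 220854) (.node .leaf (107388, 0, 18, 244827) .leaf))) (107389, 0, 16, 220221) (.node (.node (.node .leaf (107394, 0, 17, 69147) .leaf) (107395, 0, 15, 218933) (.node .leaf (107396, 0, 18, 39284) .leaf)) (107397, 0, 16, 128905) (.node (.node .leaf (107400, 0, 13, 199508) .leaf) (107401, 0, 18, 256818) (.node .leaf (107406, 0, 12, 236442) .leaf)))) (107407, 0, 14, 115380) (.node (.node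 (.node (.node .leaf (107410, 0, 15, 132796) .leaf) (107411, 0, 16, 190170) (.node .leaf (107412, 0, 18, 192386) .leaf)) (107413, 0, 18, 46764) (.node (.node .leaf (107416, 0, 16, 31235) .leaf) (107417, 0, 13, 140077) (.node .leaf (107422, 0, 14, 6663) .leaf))) (107423, 0, 13, 242754) (.node (.node (.node .leaf (107424, 0, 18, 236387) .leaf) (107425, 0, 13, 181599) (.node .leaf (107430, 0, 11, 134156) .leaf)) (107431, 0, 15, 21794) (.node (.node .leaf (107434, 0, 17, 39309) .leaf) (107435, 0, 14, 180387) (.node .leaf (107436, 0, 17, 14722) .leaf))))))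

/-- part of the orbit tree -/
def itp3_142 : Tree := (.node (.node (.node (.node (.node (.node .leaf (107440, 0, 18, 23916) .leaf) (107441, 0, 12, 242875) (.node .leaf (107446, 0, 15, 78954) .leaf)) (107447, 0, 14, 140244) (.node (.node .leaf (107450, 0, 12, 192379) .leaf) (107451, 0, 15, 247991) (.node .leaf (107452, 0, 16, 227348) .leaf))) (107453, 0, 15, 172465) (.node (.node (.node .leaf (107458, 0, 17, 87697) .leaf) (107459, 0, 17, 200639) (.node .leaf (107460, 0, 14, 163177) .leaf)) (107461, 0, 16, 170192) (.node (.node .leaf (107464, 0, 18, 152703) .leaf) (107465, 0, 14, 33204) (.node .leaf (107470, 0, 18, 246544) .leaf)))) (107471, 0, 14, 105022) (.node (.node (.node (.node .leaf (107474, 0, 18, 93242) .leaf) (107475, 0, 15, 101468) (.node .leaf (107476, 0, 17, 1340) .leaf)) (107477, 0, 16, 58714) (.node (.node .leaf (107480, 0, 16, 8841) .leaf) (107481, 0, 16, 195041) (.node .leaf (107486, 0, 18, 112102) .leaf))) (107487, 0, 16, 233703) (.node (.node (.node .leaf (107488, 0, 19, 85951) .leaf) (107489, 0, 17, 105159)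 (.node .leaf (107494, 0, 17, 152710) .leaf)) (107495, 0, 15, 3496) (.node (.node .leaf (107498, 0, 16, 49415) .leaf) (107499, 0, 15, 170025) (.node .leaf (107500, 0, 11, 87656) .leaf))))) (107501, 0, 15, 200518) (.node (.node (.node (.node (.node .leaf (107504, 0, 17, 111903) .leaf) (107505, 0, 17, 257073) (.node .leaf (107510, 0, 15, 155372) .leaf)) (107511, 0, 17, 162654) (.node (.node .leaf (107514, 0, 16, 178161) .leaf) (107515, 0, 16, 41521) (.node .leaf (107516, 0, 15, 76625) .leaf))) (107517, 0, 13, 96688) (.node (.node (.node .leaf (107520, 0, 13, 77162) .leaf) (107522, 0, 12, 86345) (.node .leaf (107525, 0, 15, 128047) .leaf)) (107527, 0, 17, 41994) (.node (.node .leaf (107529, 0, 13, 2697) .leaf) (107531, 0, 18, 178353) (.node .leaf (107532, 0, 13, 11450) .leaf)))) (107534, 0, 15, 246984) (.node (.node (.node (.node .leaf (107536, 0, 19, 53197) .leaf) (107538, 0, 14, 132378) (.node .leaf (107541, 0, 15, 59902) .leaf)) (107543, 0, 15, 187487) (.node (.node .leaf (107545, 0, 16, 162943) .leaf) (107547, 0, 14, 49380)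 (.node .leaf (107548, 0, 14, 154188) .leaf))) (107550, 0, 16, 111166) (.node (.node (.node .leaf (107553, 0, 17, 105759) .leaf) (107555, 0, 18, 235228) (.node .leaf (107556, 0, 17, 113452) .leaf)) (107558, 0, 15, 152414) (.node (.node .leaf (107560, 0, 16, 208557) .leaf) (107562, 0, 16, 86818) (.node .leaf (107565, 0, 17, 198814) .leaf))))))

/-- part of the orbit tree -/
def itp3_143 : Tree := (.node (.node (.node (.node (.node (.node .leaf (107569, 0, 13, 48812) .leaf) (107571, 0, 18, 923) (.node .leaf (107572, 0, 14, 249306) .leaf)) (107574, 0, 17, 79820) (.node (.node .leaf (107576, 0, 17, 162642) .leaf) (107578, 0, 15, 207735) (.node .leaf (107581, 0, 15, 97896) .leaf))) (107583, 0, 15, 258610) (.node (.node (.node .leaf (107584, 0, 14, 149484) .leaf) (107586, 0, 18, 202697) (.node .leaf (107589, 0, 17, 182146) .leaf)) (107591, 0, 16, 77808) (.node (.node .leaf (107593, 0, 18, 33298) .leaf) (107595, 0, 10, 244337) (.node .leaf (107596, 0, 11, 23383) .leaf)))) (107598, 0, 14, 68466) (.node (.node (.node (.node .leaf (107600,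 0, 14, 16313) .leaf) (107602, 0, 15, 229173) (.node .leaf (107605, 0, 16, 59132) .leaf)) (107607, 0, 16, 219398) (.node (.node .leaf (107609, 0, 17, 140533) .leaf) (107611, 0, 18, 240226) (.node .leaf (107612, 0, 19, 131782) .leaf))) (107614, 0, 16, 226087) (.node (.node (.node .leaf (107617, 0, 18, 109695) .leaf) (107619, 0, 19, 142823) (.node .leaf (107620, 0, 16, 95546) .leaf)) (107622, 0, 16, 9503) (.node (.node .leaf (107624, 0, 12, 226855) .leaf) (107626, 0, 19, 40533) (.node .leaf (107629, 0, 18, 241860) .leaf))))) (107631, 0, 15, 188641) (.node (.node (.node (.node (.node .leaf (107633, 0, 15, 250922) .leaf) (107635, 0, 15, 164879) (.node .leaf (107636, 0, 16, 234832) .leaf)) (107638, 0, 15, 32034) (.node (.node .leaf (107640, 0, 15, 70100) .leaf) (107642, 0, 17, 190627) (.node .leaf (107645, 0, 17, 116881) .leaf))) (107647, 0, 18, 183952) (.node (.node (.node .leaf (107648, 0, 16, 244320) .leaf) (107650, 0, 16, 188704) (.node .leaf (107653, 0, 16, 77665) .leaf)) (107655, 0, 17, 182035) (.node (.node .leaf (107657,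 0, 17, 98206) .leaf) (107659, 0, 17, 21138) (.node .leaf (107660, 0, 16, 108251) .leaf)))) (107662, 0, 18, 63230) (.node (.node (.node (.node .leaf (107664, 0, 18, 115253) .leaf) (107666, 0, 15, 37392) (.node .leaf (107669, 0, 15, 72560) .leaf)) (107671, 0, 13, 45541) (.node (.node .leaf (107673, 0, 15, 198603) .leaf) (107675, 0, 17, 140388) (.node .leaf (107676, 0, 16, 125477) .leaf))) (107678, 0, 15, 131671) (.node (.node (.node .leaf (107681, 0, 17, 20979) .leaf) (107683, 0, 18, 115972) (.node .leaf (107684, 0, 18, 34998) .leaf)) (107686, 0, 13, 123703) (.node (.node .leaf (107688, 0, 16, 168973) .leaf) (107690, 0, 15, 246824) (.node .leaf (107693, 0, 15, 47351) .leaf))))))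

/-- part of the orbit tree -/
def itp3_144 : Tree := (.node (.node (.node (.node (.node (.node .leaf (107697, 0, 14, 23424) .leaf) (107699, 0, 12, 227715) (.node .leaf (107700, 0, 17, 32179) .leaf)) (107702, 0, 15, 237766) (.node (.node .leaf (107704, 0, 17, 60504) .leaf) (107706, 0, 16, 113789) (.node .leaf (107709, 0, 17, 13597) .leaf))) (107711, 0, 17, 75379) (.node (.node (.node .leaf (107712, 0, 15, 86488) .leaf) (107714, 0, 16, 98499) (.node .leaf (107717, 0, 18, 2467) .leaf)) (107719, 0, 17, 88454) (.node (.node .leaf (107721, 0, 15, 136472) .leaf) (107723, 0, 18, 2584) (.node .leaf (107724, 0, 17, 183389) .leaf)))) (107726, 0, 18, 236664) (.node (.node (.node (.node .leaf (107728, 0, 18, 174259) .leaf) (107730, 0, 18, 260246) (.node .leaf (107733, 0, 16, 160246) .leaf)) (107735, 0, 18, 205267) (.node (.node .leaf (107737, 0, 17, 27981) .leaf) (107739, 0, 17, 81256) (.node .leaf (107740, 0, 17, 111279) .leaf))) (107742, 0, 15, 154333) (.node (.node (.node .leaf (107745, 0, 14, 161276) .leaf) (107747, 0, 12, 158544)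 (.node .leaf (107748, 0, 17, 254512) .leaf)) (107750, 0, 19, 176661) (.node (.node .leaf (107752, 0, 12, 50766) .leaf) (107754, 0, 17, 44718) (.node .leaf (107757, 0, 16, 57469) .leaf))))) (107759, 0, 18, 198671) (.node (.node (.node (.node (.node .leaf (107761, 0, 15, 778) .leaf) (107763, 0, 15, 4869) (.node .leaf (107764, 0, 15, 105061) .leaf)) (107766, 0, 17, 51776) (.node (.node .leaf (107768, 0, 16, 231134) .leaf) (107770, 0, 18, 186107) (.node .leaf (107773, 0, 14, 169611) .leaf))) (107775, 0, 15, 135102) (.node (.node (.node .leaf (107777, 0, 18, 2038) .leaf) (107779, 0, 18, 257924) (.node .leaf (107780, 0, 16, 8645) .leaf)) (107782, 0, 15, 248247) (.node (.node .leaf (107784, 0, 17, 43654) .leaf) (107786, 0, 15, 129699) (.node .leaf (107789, 0, 16, 168567) .leaf)))) (107791, 0, 14, 96773) (.node (.node (.node (.node .leaf (107793, 0, 16, 160000) .leaf) (107795, 0, 14, 104818) (.node .leaf (107796, 0, 16, 153395) .leaf)) (107798, 0, 16, 106061) (.node (.node .leaf (107800, 0, 15, 185043) .leaf) (107802, 0, 9, 207552)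 (.node .leaf (107805, 0, 16, 58497) .leaf))) (107807, 0, 18, 199923) (.node (.node (.node .leaf (107808, 0, 17, 205778) .leaf) (107810, 0, 16, 54478) (.node .leaf (107813, 0, 15, 198113) .leaf)) (107815, 0, 18, 60819) (.node (.node .leaf (107817, 0, 16, 213269) .leaf) (107819, 0, 16, 161810) (.node .leaf (107820, 0, 16, 235600) .leaf))))))

/-- part of the orbit tree -/
def itp3_145 : Tree := (.node itp3_141 (107437, 0, 17, 219084) itp3_142)

/-- part of the orbit tree -/
def itp3_146 : Tree := (.node itp3_143 (107695, 0, 15, 217221) itp3_144)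

/-- part of the orbit tree -/
def itp3_147 : Tree := (.node (.node (.node (.node (.node (.node .leaf (107824, 0, 19, 87332) .leaf) (107826, 0, 13, 175259) (.node .leaf (107829, 0, 15, 94999) .leaf)) (107831, 0, 13, 170853) (.node (.node .leaf (107833, 0, 15, 255638) .leaf) (107835, 0, 15, 3812) (.node .leaf (107836, 0, 15, 122885) .leaf))) (107838, 0, 14, 45088) (.node (.node (.node .leaf (107841, 0, 13, 67070) .leaf) (107843, 0, 18, 243470) (.node .leaf (107844, 0, 15, 122043) .leaf)) (107846, 0, 15, 35998) (.node (.node .leaf (107848, 0, 15, 245760) .leaf) (107850, 0, 17, 66748) (.node .leaf (107853, 0, 13, 203077) .leaf)))) (107855, 0, 18, 149856) (.node (.node (.node (.node .leaf (107857, 0, 18, 141706) .leaf) (107859, 0, 15, 142734) (.node .leaf (107860, 0, 16, 238830) .leaf)) (107862, 0, 15, 124875) (.node (.node .leaf (107864, 0, 17, 112725) .leaf) (107866, 0, 15, 225866) (.node .leaf (107869, 0, 15, 90384) .leaf))) (107871, 0, 17, 218233) (.node (.node (.node .leaf (107872, 0, 17, 192109) .leaf) (107874, 0, 16, 37674)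 (.node .leaf (107877, 0, 18, 145192) .leaf)) (107879, 0, 17, 222989) (.node (.node .leaf (107881, 0, 17, 11155) .leaf) (107883, 0, 18, 139416) (.node .leaf (107884, 0, 11, 62166) .leaf))))) (107886, 0, 17, 107251) (.node (.node (.node (.node (.node .leaf (107888, 0, 18, 38456) .leaf) (107890, 0, 13, 189916) (.node .leaf (107893, 0, 16, 20349) .leaf)) (107895, 0, 10, 73560) (.node (.node .leaf (107897, 0, 14, 152518) .leaf) (107899, 0, 16, 197603) (.node .leaf (107900, 0, 16, 235567) .leaf))) (107902, 0, 18, 28765) (.node (.node (.node .leaf (107905, 0, 18, 243615) .leaf) (107907, 0, 15, 108631) (.node .leaf (107908, 0, 16, 233900) .leaf)) (107910, 0, 16, 31198) (.node (.node .leaf (107912, 0, 15, 146828) .leaf) (107914, 0, 18, 224681) (.node .leaf (107917, 0, 6, 189641) .leaf)))) (107919, 0, 17, 242924) (.node (.node (.node (.node .leaf (107921, 0, 19, 115049) .leaf) (107923, 0, 16, 141595) (.node .leaf (107924, 0, 17, 124762) .leaf)) (107926, 0, 17, 134952) (.node (.node .leaf (107928, 0, 9, 226011) .leaf) (107930, 0, 15,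 71164) (.node .leaf (107933, 0, 17, 218344) .leaf))) (107935, 0, 17, 117945) (.node (.node (.node .leaf (107936, 0, 15, 201697) .leaf) (107938, 0, 16, 148420) (.node .leaf (107941, 0, 17, 46472) .leaf)) (107943, 0, 13, 220666) (.node (.node .leaf (107945, 0, 17, 120351) .leaf) (107947, 0, 15, 116859) (.node .leaf (107948, 0, 13, 132666) .leaf))))))

/-- part of the orbit tree -/
def itp3_148 : Tree := (.node (.node (.node (.node (.node (.node .leaf (107952, 0, 17, 93108) .leaf) (107954, 0, 17, 68927) (.node .leaf (107957, 0, 16, 111345) .leaf)) (107959, 0, 16, 58068) (.node (.node .leaf (107961, 0, 17, 241226) .leaf) (107963, 0, 17, 245389) (.node .leaf (107964, 0, 16, 227087) .leaf))) (107966, 0, 17, 141098) (.node (.node (.node .leaf (107969, 0, 17, 234228) .leaf) (107971, 0, 17, 180945) (.node .leaf (107972, 0, 16, 215985) .leaf)) (107974, 0, 16, 138132) (.node (.node .leaf (107976, 0, 17, 87818) .leaf) (107978, 0, 17, 1839) (.node .leaf (107981, 0, 17, 96916) .leaf)))) (107983, 0, 18, 168678) (.node (.node (.node (.node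 .leaf (107985, 0, 8, 104931) .leaf) (107987, 0, 16, 47748) (.node .leaf (107988, 0, 13, 114640) .leaf)) (107990, 0, 18, 25537) (.node (.node .leaf (107992, 0, 17, 208735) .leaf) (107994, 0, 15, 163706) (.node .leaf (107997, 0, 14, 199778) .leaf))) (107999, 0, 17, 173631) (.node (.node (.node .leaf (108000, 0, 13, 31079) .leaf) (108002, 0, 16, 76098) (.node .leaf (108005, 0, 18, 40994) .leaf)) (108007, 0, 15, 198000) (.node (.node .leaf (108009, 0, 19, 179353) .leaf) (108011, 0, 17, 257212) (.node .leaf (108012, 0, 16, 155312) .leaf))))) (108014, 0, 18, 210425) (.node (.node (.node (.node (.node .leaf (108016, 0, 13, 179655) .leaf) (108018, 0, 16, 217367) (.node .leaf (108021, 0, 17, 186487) .leaf)) (108023, 0, 19, 95110) (.node (.node .leaf (108025, 0, 17, 3701) .leaf) (108027, 0, 15, 103657) (.node .leaf (108028, 0, 17, 7561) .leaf))) (108030, 0, 17, 245812) (.node (.node (.node .leaf (108036, 0, 17, 49930) .leaf) (108037, 0, 15, 170532) (.node .leaf (108038, 0, 17, 207736) .leaf)) (108039, 0, 17, 94806) (.node (.node .leaf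 (108040, 0, 17, 205954) .leaf) (108041, 0, 18, 4005) (.node .leaf (108042, 0, 17, 114425) .leaf)))) (108043, 0, 17, 255959) (.node (.node (.node (.node .leaf (108052, 0, 13, 177660) .leaf) (108053, 0, 15, 237578) (.node .leaf (108054, 0, 16, 89486) .leaf)) (108055, 0, 14, 192559) (.node (.node .leaf (108056, 0, 15, 89303) .leaf) (108057, 0, 17, 162131) (.node .leaf (108058, 0, 18, 247823) .leaf))) (108059, 0, 14, 60564) (.node (.node (.node .leaf (108064, 0, 16, 246045) .leaf) (108065, 0, 17, 191113) (.node .leaf (108066, 0, 18, 219850) .leaf)) (108067, 0, 15, 244396) (.node (.node .leaf (108076, 0, 19, 5716) .leaf) (108077, 0, 16, 63026) (.node .leaf (108078, 0, 10, 83569) .leaf))))))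

/-- part of the orbit tree -/
def itp3_149 : Tree := (.node (.node (.node (.node (.node (.node .leaf (108080, 0, 15, 112619) .leaf) (108081, 0, 13, 257733) (.node .leaf (108082, 0, 16, 155545) .leaf)) (108083, 0, 17, 115449) (.node (.node .leaf (108092, 0, 17, 159233) .leaf) (108093, 0, 16, 97092) (.node .leaf (108094, 0, 16, 51736) .leaf))) (108095, 0, 17, 168758) (.node (.node (.node .leaf (108100, 0, 18, 152255) .leaf) (108101, 0, 16, 176857) (.node .leaf (108102, 0, 16, 197274) .leaf)) (108103, 0, 14, 76508) (.node (.node .leaf (108104, 0, 17, 19972) .leaf) (108105, 0, 13, 22319) (.node .leaf (108106, 0, 15, 124531) .leaf)))) (108107, 0, 17, 130631) (.node (.node (.node (.node .leaf (108116, 0, 16, 191862) .leaf) (108117, 0, 13, 51852) (.node .leaf (108118, 0, 13, 66820) .leaf)) (108119, 0, 18, 220202) (.node (.node .leaf (108120, 0, 17, 30967) .leaf) (108121, 0, 17, 185911) (.node .leaf (108122, 0, 15, 222836) .leaf))) (108123, 0, 17, 230930) (.node (.node (.node .leaf (108128, 0, 16, 90217) .leaf) (108129, 0, 18, 114873)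 (.node .leaf (108130, 0, 17, 29157) .leaf)) (108131, 0, 15, 53290) (.node (.node .leaf (108140, 0, 18, 228562) .leaf) (108141, 0, 14, 236724) (.node .leaf (108142, 0, 12, 189540) .leaf))))) (108143, 0, 15, 48458) (.node (.node (.node (.node (.node .leaf (108144, 0, 12, 126817) .leaf) (108145, 0, 15, 243279) (.node .leaf (108146, 0, 17, 132883) .leaf)) (108147, 0, 15, 174207) (.node (.node .leaf (108156, 0, 12, 228064) .leaf) (108157, 0, 17, 124129) (.node .leaf (108158, 0, 16, 21666) .leaf))) (108159, 0, 15, 183228) (.node (.node (.node .leaf (108164, 0, 14, 226147) .leaf) (108165, 0, 18, 76365) (.node .leaf (108166, 0, 16, 39697) .leaf)) (108167, 0, 15, 139120) (.node (.node .leaf (108168, 0, 17, 124642) .leaf) (108169, 0, 16, 245708) (.node .leaf (108170, 0, 11, 134800) .leaf)))) (108171, 0, 18, 971) (.node (.node (.node (.node .leaf (108180, 0, 12, 120678) .leaf) (108181, 0, 15, 220347) (.node .leaf (108182, 0, 15, 34627) .leaf)) (108183, 0, 15, 26405) (.node (.node .leaf (108184, 0, 17, 248797) .leaf) (108185, 0, 16,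 117050) (.node .leaf (108186, 0, 14, 171000) .leaf))) (108187, 0, 16, 162718) (.node (.node (.node .leaf (108192, 0, 15, 40421) .leaf) (108193, 0, 8, 141402) (.node .leaf (108194, 0, 17, 235782) .leaf)) (108195, 0, 16, 114728) (.node (.node .leaf (108204, 0, 16, 164190) .leaf) (108205, 0, 17, 155960) (.node .leaf (108206, 0, 14, 68743) .leaf))))))

/-- part of the orbit tree -/
def itp3_150 : Tree := (.node (.node (.node (.node (.node (.node .leaf (108208, 0, 16, 132994) .leaf) (108209, 0, 17, 132566) (.node .leaf (108210, 0, 13, 126960) .leaf)) (108211, 0, 17, 218611) (.node (.node .leaf (108220, 0, 15, 37379) .leaf) (108221, 0, 15, 6509) (.node .leaf (108222, 0, 15, 108846) .leaf))) (108223, 0, 18, 74591) (.node (.node (.node .leaf (108228, 0, 14, 207849) .leaf) (108229, 0, 17, 94919) (.node .leaf (108230, 0, 12, 50075) .leaf)) (108231, 0, 14, 95734) (.node (.node .leaf (108232, 0, 16, 114280) .leaf) (108233, 0, 17, 145768) (.node .leaf (108234, 0, 16, 231723) .leaf)))) (108235, 0, 16, 3892) (.node (.node (.node (.node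 .leaf (108244, 0, 19, 89375) .leaf) (108245, 0, 12, 197681) (.node .leaf (108246, 0, 10, 177517) .leaf)) (108247, 0, 17, 200099) (.node (.node .leaf (108248, 0, 16, 41307) .leaf) (108249, 0, 17, 102832) (.node .leaf (108250, 0, 19, 127358) .leaf))) (108251, 0, 15, 69912) (.node (.node (.node .leaf (108256, 0, 15, 10750) .leaf) (108257, 0, 16, 159952) (.node .leaf (108258, 0, 13, 246156) .leaf)) (108259, 0, 16, 149280) (.node (.node .leaf (108268, 0, 16, 125912) .leaf) (108269, 0, 15, 58705) (.node .leaf (108270, 0, 14, 87053) .leaf))))) (108271, 0, 15, 199971) (.node (.node (.node (.node (.node .leaf (108272, 0, 16, 102198) .leaf) (108273, 0, 14, 94032) (.node .leaf (108274, 0, 17, 112506) .leaf)) (108275, 0, 15, 257620) (.node (.node .leaf (108284, 0, 15, 51849) .leaf) (108285, 0, 16, 168871) (.node .leaf (108286, 0, 17, 181160) .leaf))) (108287, 0, 17, 97237) (.node (.node (.node .leaf (108288, 0, 13, 172910) .leaf) (108289, 0, 14, 730) (.node .leaf (108290, 0, 15, 258891) .leaf)) (108291, 0, 14, 201517) (.node (.node .leaf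 (108300, 0, 16, 52853) .leaf) (108301, 0, 18, 24499) (.node .leaf (108302, 0, 13, 126960) .leaf)))) (108303, 0, 14, 69526) (.node (.node (.node (.node .leaf (108304, 0, 18, 56123) .leaf) (108305, 0, 16, 160812) (.node .leaf (108306, 0, 17, 247152) .leaf)) (108307, 0, 17, 93048) (.node (.node .leaf (108316, 0, 16, 178307) .leaf) (108317, 0, 13, 57773) (.node .leaf (108318, 0, 17, 235429) .leaf))) (108319, 0, 14, 199135) (.node (.node (.node .leaf (108324, 0, 14, 102840) .leaf) (108325, 0, 17, 94686) (.node .leaf (108326, 0, 15, 49565) .leaf)) (108327, 0, 18, 59583) (.node (.node .leaf (108328, 0, 16, 232707) .leaf) (108329, 0, 15, 224613) .leaf)))))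

/-- part of the orbit tree -/
def itp3_151 : Tree := (.node itp3_147 (107950, 0, 18, 126536) itp3_148)

/-- part of the orbit tree -/
def itp3_152 : Tree := (.node itp3_149 (108207, 0, 17, 218537) itp3_150)

/-- part of the orbit tree -/
def itp3_153 : Tree := (.node itp3_145 (107567, 0, 17, 57580) itp3_146)

/-- part of the orbit tree -/
def itp3_154 : Tree := (.node itp3_151 (108079, 0, 15, 108055) itp3_152)

/-- part of the orbit tree -/
def itp3_155 : Tree := (.node itp3_139 (106801, 0, 17, 510) itp3_140)

/-- part of the orbit tree -/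
def itp3_156 : Tree := (.node itp3_153 (107822, 0, 17, 155169) itp3_154)

/-- part of the orbit tree -/
def itp3_157 : Tree := (.node (.node (.node (.node (.node (.node .leaf (108331, 0, 16, 163134) .leaf) (108340, 0, 18, 256493) (.node .leaf (108341, 0, 11, 199051) .leaf)) (108342, 0, 17, 178632) (.node (.node .leaf (108343, 0, 15, 154030) .leaf) (108344, 0, 17, 113300) (.node .leaf (108345, 0, 17, 254906) .leaf))) (108346, 0, 17, 152294) (.node (.node (.node .leaf (108347, 0, 14, 17685) .leaf) (108352, 0, 13, 131966) (.node .leaf (108353, 0, 14, 76174) .leaf)) (108354, 0, 17, 125708) (.node (.node .leaf (108355, 0, 17, 242210) .leaf) (108364, 0, 18, 251219) (.node .leaf (108365, 0, 18, 184273) .leaf)))) (108366, 0, 13, 165238) (.node (.node (.node (.node .leaf (108367, 0, 16, 75683) .leaf) (108368, 0, 17, 30088) (.node .leaf (108369, 0, 9, 142502) .leaf)) (108370, 0, 15, 188824) (.node (.node .leaf (108371, 0, 14, 115924) .leaf) (108380, 0, 9, 109830) (.node .leaf (108381, 0, 17, 47399) .leaf))) (108382, 0, 17, 64803) (.node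 (.node (.node .leaf (108383, 0, 17, 217429) .leaf) (108388, 0, 15, 65897) (.node .leaf (108389, 0, 16, 219207) .leaf)) (108390, 0, 17, 240411) (.node (.node .leaf (108391, 0, 16, 215933) .leaf) (108392, 0, 19, 59269) (.node .leaf (108393, 0, 15, 118214) .leaf))))) (108394, 0, 16, 31898) (.node (.node (.node (.node (.node .leaf (108395, 0, 15, 140724) .leaf) (108404, 0, 15, 33643) (.node .leaf (108405, 0, 17, 25357) .leaf)) (108406, 0, 16, 119630) (.node (.node .leaf (108407, 0, 10, 181955) .leaf) (108408, 0, 17, 171984) (.node .leaf (108409, 0, 17, 244528) .leaf))) (108410, 0, 15, 249845) (.node (.node (.node .leaf (108411, 0, 17, 21314) .leaf) (108416, 0, 15, 125853) (.node .leaf (108417, 0, 14, 242355) .leaf)) (108418, 0, 17, 132079) (.node (.node .leaf (108419, 0, 17, 23233) .leaf) (108428, 0, 17, 141535) (.node .leaf (108429, 0, 15, 182457) .leaf)))) (108430, 0, 18, 38510) (.node (.node (.node (.node .leaf (108431, 0, 14, 235676) .leaf) (108432, 0, 15, 150577) (.node .leaf (108433, 0, 18, 175191) .leaf)) (108434, 0, 12,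 203796) (.node (.node .leaf (108435, 0, 14, 142391) .leaf) (108444, 0, 16, 67818) (.node .leaf (108445, 0, 17, 217540) .leaf))) (108446, 0, 16, 188568) (.node (.node (.node .leaf (108447, 0, 17, 47542) .leaf) (108452, 0, 16, 190858) (.node .leaf (108453, 0, 10, 255700) .leaf)) (108454, 0, 17, 153239) (.node (.node .leaf (108455, 0, 15, 219350) .leaf) (108456, 0, 14, 31755) (.node .leaf (108457, 0, 18, 129647) .leaf))))))

/-- part of the orbit tree -/
def itp3_158 : Tree := (.node (.node (.node (.node (.node (.node .leaf (108459, 0, 17, 43594) .leaf) (108468, 0, 17, 40828) (.node .leaf (108469, 0, 16, 106113) .leaf)) (108470, 0, 12, 227086) (.node (.node .leaf (108471, 0, 15, 52900) .leaf) (108472, 0, 15, 133885) (.node .leaf (108473, 0, 15, 229946) .leaf))) (108474, 0, 18, 143993) (.node (.node (.node .leaf (108475, 0, 15, 184863) .leaf) (108480, 0, 17, 220898) (.node .leaf (108481, 0, 13, 256569) .leaf)) (108482, 0, 16, 134855) (.node (.node .leaf (108483, 0, 17, 587) .leaf) (108492, 0, 18, 82521) (.node .leaf (108493,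 0, 14, 98232) .leaf)))) (108494, 0, 17, 52964) (.node (.node (.node (.node .leaf (108495, 0, 18, 61978) .leaf) (108496, 0, 14, 247265) (.node .leaf (108497, 0, 13, 105679) .leaf)) (108498, 0, 17, 30354) (.node (.node .leaf (108499, 0, 16, 38644) .leaf) (108508, 0, 17, 211468) (.node .leaf (108509, 0, 16, 198990) .leaf))) (108510, 0, 13, 178194) (.node (.node (.node .leaf (108511, 0, 15, 57660) .leaf) (108516, 0, 14, 176384) (.node .leaf (108517, 0, 15, 35922) .leaf)) (108518, 0, 8, 80913) (.node (.node .leaf (108519, 0, 12, 121975) .leaf) (108520, 0, 15, 9345) (.node .leaf (108521, 0, 11, 163247) .leaf))))) (108522, 0, 16, 249075) (.node (.node (.node (.node (.node .leaf (108523, 0, 13, 103901) .leaf) (108532, 0, 16, 51190) (.node .leaf (108533, 0, 17, 171736) .leaf)) (108534, 0, 17, 214084) (.node (.node .leaf (108535, 0, 14, 95914) .leaf) (108536, 0, 19, 2266) (.node .leaf (108537, 0, 16, 59580) .leaf))) (108538, 0, 15, 113157) (.node (.node (.node .leaf (108539, 0, 15, 254763) .leaf) (108544, 0, 15, 127472) (.node .leaf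 (108547, 0, 15, 260509) .leaf)) (108548, 0, 12, 159997) (.node (.node .leaf (108551, 0, 14, 245950) .leaf) (108553, 0, 15, 35872) (.node .leaf (108554, 0, 15, 80995) .leaf)))) (108557, 0, 15, 81247) (.node (.node (.node (.node .leaf (108558, 0, 13, 66880) .leaf) (108560, 0, 18, 12683) (.node .leaf (108563, 0, 18, 144986) .leaf)) (108564, 0, 17, 2216) (.node (.node .leaf (108567, 0, 16, 18759) .leaf) (108569, 0, 15, 79028) (.node .leaf (108570, 0, 16, 214070) .leaf))) (108573, 0, 14, 183638) (.node (.node (.node .leaf (108574, 0, 14, 195317) .leaf) (108577, 0, 18, 185812) (.node .leaf (108578, 0, 15, 222344) .leaf)) (108581, 0, 16, 105326) (.node (.node .leaf (108582, 0, 17, 72597) .leaf) (108584, 0, 17, 223155) (.node .leaf (108587, 0, 14, 186352) .leaf))))))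

/-- part of the orbit tree -/
def itp3_159 : Tree := (.node (.node (.node (.node (.node (.node .leaf (108591, 0, 17, 192211) .leaf) (108593, 0, 16, 252440) (.node .leaf (108594, 0, 13, 70270) .leaf)) (108597, 0, 17, 254779) (.node (.node .leaf (108598, 0, 18, 152440) .leaf) (108600, 0, 14, 135312) (.node .leaf (108603, 0, 15, 238028) .leaf))) (108604, 0, 17, 75461) (.node (.node (.node .leaf (108607, 0, 17, 38534) .leaf) (108608, 0, 17, 74584) (.node .leaf (108611, 0, 15, 37659) .leaf)) (108612, 0, 15, 251495) (.node (.node .leaf (108615, 0, 17, 157499) .leaf) (108617, 0, 16, 203464) (.node .leaf (108618, 0, 15, 174996) .leaf)))) (108621, 0, 14, 91605) (.node (.node (.node (.node .leaf (108622, 0, 17, 159686) .leaf) (108624, 0, 16, 253836) (.node .leaf (108627, 0, 16, 191310) .leaf)) (108628, 0, 15, 106641) (.node (.node .leaf (108631, 0, 14, 184941) .leaf) (108633, 0, 18, 106227) (.node .leaf (108634, 0, 15, 11952) .leaf))) (108637, 0, 15, 108496) (.node (.node (.node .leaf (108638, 0, 16, 6035) .leaf) (108641, 0, 13, 182475)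 (.node .leaf (108642, 0, 16, 227464) .leaf)) (108645, 0, 15, 193000) (.node (.node .leaf (108646, 0, 16, 213419) .leaf) (108648, 0, 17, 16108) (.node .leaf (108651, 0, 14, 102320) .leaf))))) (108652, 0, 18, 147953) (.node (.node (.node (.node (.node .leaf (108655, 0, 18, 99413) .leaf) (108657, 0, 13, 45214) (.node .leaf (108658, 0, 13, 65757) .leaf)) (108661, 0, 17, 165045) (.node (.node .leaf (108662, 0, 13, 80382) .leaf) (108664, 0, 17, 149530) (.node .leaf (108667, 0, 14, 247075) .leaf))) (108668, 0, 15, 14087) (.node (.node (.node .leaf (108671, 0, 17, 99931) .leaf) (108672, 0, 14, 147865) (.node .leaf (108675, 0, 12, 93847) .leaf)) (108676, 0, 15, 59383) (.node (.node .leaf (108679, 0, 13, 87988) .leaf) (108681, 0, 15, 61995) (.node .leaf (108682, 0, 19, 82807) .leaf)))) (108685, 0, 18, 167222) (.node (.node (.node (.node .leaf (108686, 0, 17, 212074) .leaf) (108688, 0, 19, 14191) (.node .leaf (108691, 0, 16, 202434) .leaf)) (108692, 0, 17, 149618) (.node (.node .leaf (108695, 0, 12, 208865) .leaf) (108697, 0, 14, 25471)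 (.node .leaf (108698, 0, 16, 210305) .leaf))) (108701, 0, 17, 23132) (.node (.node (.node .leaf (108702, 0, 14, 125471) .leaf) (108705, 0, 14, 91581) (.node .leaf (108706, 0, 18, 165124) .leaf)) (108709, 0, 15, 203424) (.node (.node .leaf (108710, 0, 14, 175100) .leaf) (108712, 0, 13, 127161) (.node .leaf (108715, 0, 16, 157523) .leaf))))))

/-- part of the orbit tree -/
def itp3_160 : Tree := (.node (.node (.node (.node (.node (.node .leaf (108719, 0, 18, 6222) .leaf) (108721, 0, 16, 85266) (.node .leaf (108722, 0, 17, 172567) .leaf)) (108725, 0, 17, 93270) (.node (.node .leaf (108726, 0, 18, 50290) .leaf) (108728, 0, 15, 106745) (.node .leaf (108731, 0, 16, 145583) .leaf))) (108732, 0, 15, 242127) (.node (.node (.node .leaf (108735, 0, 17, 131468) .leaf) (108736, 0, 15, 242770) (.node .leaf (108739, 0, 15, 132113) .leaf)) (108740, 0, 13, 232817) (.node (.node .leaf (108743, 0, 15, 120658) .leaf) (108745, 0, 15, 94636) (.node .leaf (108746, 0, 15, 49647) .leaf)))) (108749, 0, 15, 84111) (.node (.node (.node (.node .leaf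 (108750, 0, 18, 222432) .leaf) (108752, 0, 15, 117767) (.node .leaf (108755, 0, 14, 122553) .leaf)) (108756, 0, 16, 135416) (.node (.node .leaf (108759, 0, 14, 17767) .leaf) (108761, 0, 12, 199161) (.node .leaf (108762, 0, 17, 178618) .leaf))) (108765, 0, 14, 41802) (.node (.node (.node .leaf (108766, 0, 11, 70166) .leaf) (108769, 0, 12, 81207) (.node .leaf (108770, 0, 16, 126850) .leaf)) (108773, 0, 16, 213546) (.node (.node .leaf (108774, 0, 18, 193398) .leaf) (108776, 0, 14, 233093) (.node .leaf (108779, 0, 15, 147417) .leaf))))) (108780, 0, 15, 172828) (.node (.node (.node (.node (.node .leaf (108783, 0, 15, 201567) .leaf) (108785, 0, 15, 216001) (.node .leaf (108786, 0, 16, 195229) .leaf)) (108789, 0, 19, 138935) (.node (.node .leaf (108790, 0, 18, 34176) .leaf) (108792, 0, 16, 57962) (.node .leaf (108795, 0, 16, 86569) .leaf))) (108796, 0, 16, 56137) (.node (.node (.node .leaf (108799, 0, 17, 144946) .leaf) (108801, 0, 16, 68556) (.node .leaf (108802, 0, 12, 196193) .leaf)) (108805, 0, 15, 78575) (.node (.node .leaf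 (108806, 0, 18, 33148) .leaf) (108808, 0, 15, 130191) (.node .leaf (108811, 0, 14, 163441) .leaf)))) (108812, 0, 12, 230290) (.node (.node (.node (.node .leaf (108815, 0, 18, 144078) .leaf) (108817, 0, 16, 80331) (.node .leaf (108818, 0, 17, 181210) .leaf)) (108821, 0, 16, 214742) (.node (.node .leaf (108822, 0, 14, 194442) .leaf) (108824, 0, 17, 112231) (.node .leaf (108827, 0, 15, 1572) .leaf))) (108828, 0, 19, 102212) (.node (.node (.node .leaf (108831, 0, 17, 17464) .leaf) (108832, 0, 17, 188511) (.node .leaf (108835, 0, 16, 121413) .leaf)) (108836, 0, 16, 136196) (.node (.node .leaf (108839, 0, 15, 238936) .leaf) (108841, 0, 16, 9633) (.node .leaf (108842, 0, 15, 103906) .leaf))))))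

/-- part of the orbit tree -/
def itp3_161 : Tree := (.node itp3_157 (108458, 0, 17, 234617) itp3_158)

/-- part of the orbit tree -/
def itp3_162 : Tree := (.node itp3_159 (108716, 0, 18, 117146) itp3_160)

/-- part of the orbit tree -/
def itp3_163 : Tree := (.node (.node (.node (.node (.node (.node .leaf (108846, 0, 14, 71402) .leaf) (108848, 0, 18, 38922) (.node .leaf (108851, 0, 16, 75849) .leaf)) (108852, 0, 11, 41257) (.node (.node .leaf (108855, 0, 11, 69994) .leaf) (108857, 0, 14, 44637) (.node .leaf (108858, 0, 15, 257463) .leaf))) (108861, 0, 16, 156887) (.node (.node (.node .leaf (108862, 0, 17, 251028) .leaf) (108865, 0, 13, 202679) (.node .leaf (108866, 0, 19, 173803) .leaf)) (108869, 0, 18, 92330) (.node (.node .leaf (108870, 0, 15, 256042) .leaf) (108872, 0, 16, 42164) (.node .leaf (108875, 0, 15, 70903) .leaf)))) (108876, 0, 16, 40343) (.node (.node (.node (.node .leaf (108879, 0, 15, 158276) .leaf) (108881, 0, 18, 90433) (.node .leaf (108882, 0, 16, 108892) .leaf)) (108885, 0, 15, 8252) (.node (.node .leaf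 (108886, 0, 15, 175872) .leaf) (108888, 0, 16, 250611) (.node .leaf (108891, 0, 15, 224418) .leaf))) (108892, 0, 15, 110062) (.node (.node (.node .leaf (108895, 0, 19, 7346) .leaf) (108896, 0, 17, 101081) (.node .leaf (108899, 0, 19, 99023) .leaf)) (108900, 0, 18, 111610) (.node (.node .leaf (108903, 0, 15, 261586) .leaf) (108905, 0, 16, 163873) (.node .leaf (108906, 0, 16, 209277) .leaf))))) (108909, 0, 16, 226820) (.node (.node (.node (.node (.node .leaf (108910, 0, 16, 181831) .leaf) (108912, 0, 15, 258700) (.node .leaf (108915, 0, 13, 259129) .leaf)) (108916, 0, 17, 248751) (.node (.node .leaf (108919, 0, 16, 162796) .leaf) (108921, 0, 13, 79730) (.node .leaf (108922, 0, 16, 83851) .leaf))) (108925, 0, 15, 166346) (.node (.node (.node .leaf (108926, 0, 17, 211094) .leaf) (108929, 0, 16, 65364) (.node .leaf (108930, 0, 18, 142469) .leaf)) (108933, 0, 15, 163913) (.node (.node .leaf (108934, 0, 18, 136614) .leaf) (108936, 0, 16, 88376) (.node .leaf (108939, 0, 17, 59771) .leaf)))) (108940, 0, 7, 90139) (.node (.node (.node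 (.node .leaf (108943, 0, 16, 98983) .leaf) (108945, 0, 13, 166306) (.node .leaf (108946, 0, 17, 211198) .leaf)) (108949, 0, 19, 122288) (.node (.node .leaf (108950, 0, 15, 83939) .leaf) (108952, 0, 17, 14864) (.node .leaf (108955, 0, 15, 168238) .leaf))) (108956, 0, 14, 148749) (.node (.node (.node .leaf (108959, 0, 16, 259153) .leaf) (108960, 0, 17, 252784) (.node .leaf (108963, 0, 16, 116502) .leaf)) (108964, 0, 15, 20086) (.node (.node .leaf (108967, 0, 13, 130613) .leaf) (108969, 0, 18, 92354) (.node .leaf (108970, 0, 17, 197352) .leaf))))))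

/-- part of the orbit tree -/
def itp3_164 : Tree := (.node (.node (.node (.node (.node (.node .leaf (108974, 0, 16, 211915) .leaf) (108976, 0, 15, 134912) (.node .leaf (108979, 0, 16, 245571) .leaf)) (108980, 0, 16, 144931) (.node (.node .leaf (108983, 0, 13, 156615) .leaf) (108985, 0, 17, 51966) (.node .leaf (108986, 0, 17, 96957) .leaf))) (108989, 0, 17, 62429) (.node (.node (.node .leaf (108990, 0, 16, 82846) .leaf) (108993, 0, 18, 42974) (.node .leaf (108994, 0, 17, 83459) .leaf)) (108997, 0, 14, 186563) (.node (.node .leaf (108998, 0, 16, 223647) .leaf) (109000, 0, 15, 136300) (.node .leaf (109003, 0, 16, 230397) .leaf)))) (109004, 0, 16, 27505) (.node (.node (.node (.node .leaf (109007, 0, 16, 121389) .leaf) (109009, 0, 16, 167445) (.node .leaf (109010, 0, 12, 212566) .leaf)) (109013, 0, 16, 44597) (.node (.node .leaf (109014, 0, 16, 198517) .leaf) (109016, 0, 17, 25242) (.node .leaf (109019, 0, 16, 129960) .leaf))) (109020, 0, 16, 138631) (.node (.node (.node .leaf (109023, 0, 18, 240859) .leaf) (109024, 0, 16, 230394)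 (.node .leaf (109027, 0, 16, 175504) .leaf)) (109028, 0, 18, 130279) (.node (.node .leaf (109031, 0, 14, 169139) .leaf) (109033, 0, 16, 120877) (.node .leaf (109034, 0, 13, 33044) .leaf))))) (109037, 0, 18, 123150) (.node (.node (.node (.node (.node .leaf (109038, 0, 15, 196105) .leaf) (109040, 0, 16, 91526) (.node .leaf (109043, 0, 16, 54725) .leaf)) (109044, 0, 18, 231953) (.node (.node .leaf (109047, 0, 17, 146253) .leaf) (109049, 0, 16, 214718) (.node .leaf (109050, 0, 14, 194530) .leaf))) (109053, 0, 14, 80291) (.node (.node (.node .leaf (109054, 0, 15, 35071) .leaf) (109058, 0, 10, 138414) (.node .leaf (109059, 0, 16, 17792) .leaf)) (109062, 0, 18, 199848) (.node (.node .leaf (109063, 0, 18, 257230) .leaf) (109064, 0, 15, 16438) (.node .leaf (109065, 0, 16, 214894) .leaf)))) (109068, 0, 17, 30997) (.node (.node (.node (.node .leaf (109069, 0, 13, 39283) .leaf) (109074, 0, 10, 27224) (.node .leaf (109075, 0, 15, 144246) .leaf)) (109078, 0, 19, 136517) (.node (.node .leaf (109079, 0, 16, 103579) .leaf) (109080, 0, 16,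 145507) (.node .leaf (109081, 0, 15, 186373) .leaf))) (109084, 0, 15, 131392) (.node (.node (.node .leaf (109085, 0, 16, 216709) .leaf) (109088, 0, 15, 35286) (.node .leaf (109089, 0, 13, 101949) .leaf)) (109092, 0, 6, 194251) (.node (.node .leaf (109093, 0, 18, 45029) .leaf) (109098, 0, 17, 138214) (.node .leaf (109099, 0, 17, 195456) .leaf))))))

/-- part of the orbit tree -/
def itp3_165 : Tree := (.node (.node (.node (.node (.node (.node .leaf (109103, 0, 15, 240907) .leaf) (109104, 0, 16, 196384) (.node .leaf (109105, 0, 11, 259688) .leaf)) (109108, 0, 17, 32829) (.node (.node .leaf (109109, 0, 16, 186643) .leaf) (109114, 0, 9, 130510) (.node .leaf (109115, 0, 12, 33749) .leaf))) (109118, 0, 13, 23184) (.node (.node (.node .leaf (109119, 0, 16, 47862) .leaf) (109122, 0, 15, 24333) (.node .leaf (109123, 0, 18, 49003) .leaf)) (109126, 0, 14, 26158) (.node (.node .leaf (109127, 0, 16, 34376) .leaf) (109128, 0, 14, 207536) (.node .leaf (109129, 0, 19, 204772) .leaf)))) (109132, 0, 12, 211415) (.node (.node (.node (.node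 .leaf (109133, 0, 18, 90361) .leaf) (109138, 0, 16, 13010) (.node .leaf (109139, 0, 14, 158716) .leaf)) (109142, 0, 12, 138875) (.node (.node .leaf (109143, 0, 15, 196125) .leaf) (109144, 0, 17, 208956) (.node .leaf (109145, 0, 14, 92434) .leaf))) (109148, 0, 15, 85793) (.node (.node (.node .leaf (109149, 0, 15, 101280) .leaf) (109152, 0, 19, 53596) (.node .leaf (109153, 0, 16, 166002) .leaf)) (109156, 0, 17, 146942) (.node (.node .leaf (109157, 0, 15, 187800) .leaf) (109162, 0, 15, 250802) (.node .leaf (109163, 0, 11, 102662) .leaf))))) (109166, 0, 16, 84035) (.node (.node (.node (.node (.node .leaf (109167, 0, 17, 108581) .leaf) (109168, 0, 18, 173994) (.node .leaf (109169, 0, 16, 40174) .leaf)) (109172, 0, 11, 17835) (.node (.node .leaf (109173, 0, 16, 164249) .leaf) (109178, 0, 16, 107844) (.node .leaf (109179, 0, 17, 261226) .leaf))) (109182, 0, 18, 252505) (.node (.node (.node .leaf (109183, 0, 16, 249968) .leaf) (109186, 0, 13, 109767) (.node .leaf (109187, 0, 13, 82663) .leaf)) (109190, 0, 16, 105378) (.node (.node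 .leaf (109191, 0, 16, 101108) .leaf) (109192, 0, 17, 186172) (.node .leaf (109193, 0, 16, 145242) .leaf)))) (109196, 0, 12, 192031) (.node (.node (.node (.node .leaf (109197, 0, 16, 134777) .leaf) (109202, 0, 17, 252465) (.node .leaf (109203, 0, 15, 99103) .leaf)) (109206, 0, 17, 107820) (.node (.node .leaf (109207, 0, 15, 197521) .leaf) (109208, 0, 15, 55519) (.node .leaf (109209, 0, 17, 164337) .leaf))) (109212, 0, 16, 174018) (.node (.node (.node .leaf (109213, 0, 15, 30252) .leaf) (109216, 0, 14, 211391) (.node .leaf (109217, 0, 15, 203063) .leaf)) (109220, 0, 18, 245874) (.node (.node .leaf (109221, 0, 17, 204820) .leaf) (109226, 0, 14, 36076) (.node .leaf (109227, 0, 16, 156287) .leaf))))))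

/-- part of the orbit tree -/
def itp3_166 : Tree := (.node (.node (.node (.node (.node (.node .leaf (109231, 0, 15, 21929) .leaf) (109232, 0, 16, 98564) (.node .leaf (109233, 0, 15, 90466) .leaf)) (109236, 0, 13, 112679) (.node (.node .leaf (109237, 0, 15, 92538) .leaf) (109242, 0, 15, 193721) (.node .leaf (109243, 0, 15, 136415) .leaf))) (109246, 0, 16, 183706) (.node (.node (.node .leaf (109247, 0, 17, 158612) .leaf) (109250, 0, 17, 128077) (.node .leaf (109251, 0, 18, 240995) .leaf)) (109254, 0, 16, 192804) (.node (.node .leaf (109255, 0, 16, 119422) .leaf) (109256, 0, 17, 194211) (.node .leaf (109257, 0, 14, 89564) .leaf)))) (109260, 0, 12, 35262) (.node (.node (.node (.node .leaf (109261, 0, 17, 184464) .leaf) (109266, 0, 18, 230075) (.node .leaf (109267, 0, 14, 20532) .leaf)) (109270, 0, 17, 130470) (.node (.node .leaf (109271, 0, 16, 26903) .leaf) (109272, 0, 13, 247279) (.node .leaf (109273, 0, 16, 186747) .leaf))) (109276, 0, 16, 196424) (.node (.node (.node .leaf (109277, 0, 16, 42598) .leaf) (109280, 0, 16, 221493)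 (.node .leaf (109281, 0, 18, 79899) .leaf)) (109284, 0, 15, 73256) (.node (.node .leaf (109285, 0, 17, 19090) .leaf) (109290, 0, 14, 25563) (.node .leaf (109291, 0, 17, 146165) .leaf))))) (109294, 0, 9, 253769) (.node (.node (.node (.node (.node .leaf (109295, 0, 12, 17896) .leaf) (109296, 0, 15, 71619) (.node .leaf (109297, 0, 16, 134116) .leaf)) (109300, 0, 17, 223454) (.node (.node .leaf (109301, 0, 15, 144071) .leaf) (109306, 0, 7, 136493) (.node .leaf (109307, 0, 15, 19459) .leaf))) (109310, 0, 16, 27184) (.node (.node (.node .leaf (109311, 0, 17, 144158) .leaf) (109312, 0, 17, 116698) (.node .leaf (109313, 0, 17, 75708) .leaf)) (109316, 0, 18, 130809) (.node (.node .leaf (109317, 0, 17, 73375) .leaf) (109322, 0, 16, 176743) (.node .leaf (109323, 0, 17, 152065) .leaf)))) (109326, 0, 16, 166724) (.node (.node (.node (.node .leaf (109327, 0, 13, 145378) .leaf) (109328, 0, 15, 222665) (.node .leaf (109329, 0, 16, 221161) .leaf)) (109332, 0, 17, 231084) (.node (.node .leaf (109333, 0, 16, 222922) .leaf) (109338, 0, 16, 51762)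 (.node .leaf (109339, 0, 16, 10836) .leaf))) (109342, 0, 18, 137274) (.node (.node (.node .leaf (109343, 0, 15, 4983) .leaf) (109346, 0, 16, 236554) (.node .leaf (109347, 0, 14, 122729) .leaf)) (109350, 0, 17, 238889) (.node (.node .leaf (109351, 0, 17, 237684) .leaf) (109352, 0, 18, 59831) .leaf)))))

/-- part of the orbit tree -/
def itp3_167 : Tree := (.node itp3_163 (108973, 0, 18, 166792) itp3_164)

/-- part of the orbit tree -/
def itp3_168 : Tree := (.node itp3_165 (109230, 0, 11, 148556) itp3_166)

/-- part of the orbit tree -/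
def itp3_169 : Tree := (.node itp3_161 (108588, 0, 17, 137595) itp3_162)

/-- part of the orbit tree -/
def itp3_170 : Tree := (.node itp3_167 (109102, 0, 18, 128037) itp3_168)

/-- part of the orbit tree -/
def itp3_171 : Tree := (.node (.node (.node (.node (.node (.node .leaf (109356, 0, 16, 53396) .leaf) (109357, 0, 16, 12530) (.node .leaf (109362, 0, 17, 123999) .leaf)) (109363, 0, 14, 66617) (.node (.node .leaf (109366, 0, 16, 122236) .leaf) (109367, 0, 16, 81178) (.node .leaf (109368, 0, 12, 193119) .leaf))) (109369, 0, 17, 43889) (.node (.node (.node .leaf (109372, 0, 18, 174273) .leaf) (109373, 0, 15, 149671) (.node .leaf (109376, 0, 12, 84917) .leaf)) (109377, 0, 16, 150842) (.node (.node .leaf (109380, 0, 17, 210088) .leaf) (109381, 0, 16, 160793) (.node .leaf (109386, 0, 14, 121057) .leaf)))) (109387, 0, 14, 80007) (.node (.node (.node (.node .leaf (109390, 0, 13, 13894) .leaf) (109391, 0, 18, 65956) (.node .leaf (109392, 0, 17, 54537) .leaf)) (109393, 0, 18, 13679) (.node (.node .leaf (109396, 0, 15, 60458) .leaf)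 (109397, 0, 17, 3148) (.node .leaf (109402, 0, 15, 237748) .leaf))) (109403, 0, 16, 157315) (.node (.node (.node .leaf (109406, 0, 16, 147632) .leaf) (109407, 0, 14, 227825) (.node .leaf (109410, 0, 18, 63116) .leaf)) (109411, 0, 15, 5866) (.node (.node .leaf (109414, 0, 12, 106960) .leaf) (109415, 0, 17, 260350) (.node .leaf (109416, 0, 10, 56355) .leaf))))) (109417, 0, 15, 222039) (.node (.node (.node (.node (.node .leaf (109420, 0, 18, 244242) .leaf) (109421, 0, 17, 64016) (.node .leaf (109426, 0, 16, 108603) .leaf)) (109427, 0, 18, 258325) (.node (.node .leaf (109430, 0, 17, 178170) .leaf) (109431, 0, 18, 153500) (.node .leaf (109432, 0, 14, 129892) .leaf))) (109433, 0, 16, 62459) (.node (.node (.node .leaf (109436, 0, 16, 115271) .leaf) (109437, 0, 17, 74273) (.node .leaf (109440, 0, 14, 172886) .leaf)) (109441, 0, 16, 64120) (.node (.node .leaf (109444, 0, 16, 56395) .leaf) (109445, 0, 17, 165221) (.node .leaf (109450, 0, 16, 106936) .leaf)))) (109451, 0, 18, 260246) (.node (.node (.node (.node .leaf (109454, 0, 15,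 253605) .leaf) (109455, 0, 15, 100235) (.node .leaf (109456, 0, 16, 54688) .leaf)) (109457, 0, 18, 167054) (.node (.node .leaf (109460, 0, 16, 174781) .leaf) (109461, 0, 11, 62355) (.node .leaf (109466, 0, 13, 251726) .leaf))) (109467, 0, 17, 101984) (.node (.node (.node .leaf (109470, 0, 14, 156699) .leaf) (109471, 0, 15, 164989) (.node .leaf (109474, 0, 15, 13870) .leaf)) (109475, 0, 18, 159488) (.node (.node .leaf (109478, 0, 14, 149811) .leaf) (109479, 0, 17, 119365) (.node .leaf (109480, 0, 16, 163517) .leaf))))))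

/-- part of the orbit tree -/
def itp3_172 : Tree := (.node (.node (.node (.node (.node (.node .leaf (109484, 0, 13, 84957) .leaf) (109485, 0, 16, 201459) (.node .leaf (109490, 0, 16, 226133) .leaf)) (109491, 0, 18, 234291) (.node (.node .leaf (109494, 0, 12, 215670) .leaf) (109495, 0, 17, 240144) (.node .leaf (109496, 0, 14, 82486) .leaf))) (109497, 0, 14, 203544) (.node (.node (.node .leaf (109500, 0, 16, 212267) .leaf) (109501, 0, 15, 91141) (.node .leaf (109504, 0, 14, 195548) .leaf)) (109505, 0, 15, 55856) (.node (.node .leaf (109508, 0, 16, 885) .leaf) (109509, 0, 15, 187887) (.node .leaf (109514, 0, 14, 217067) .leaf)))) (109515, 0, 16, 241549) (.node (.node (.node (.node .leaf (109518, 0, 17, 227016) .leaf) (109519, 0, 18, 235182) (.node .leaf (109520, 0, 17, 147971) .leaf)) (109521, 0, 16, 172645) (.node (.node .leaf (109524, 0, 19, 162592) .leaf) (109525, 0, 18, 43801) (.node .leaf (109530, 0, 17, 79806) .leaf))) (109531, 0, 16, 120554) (.node (.node (.node .leaf (109534, 0, 16, 127193) .leaf) (109535, 0, 13, 240119)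 (.node .leaf (109538, 0, 17, 28324) .leaf)) (109539, 0, 14, 164320) (.node (.node .leaf (109542, 0, 18, 153765) .leaf) (109543, 0, 14, 178371) (.node .leaf (109544, 0, 15, 224330) .leaf))))) (109545, 0, 16, 128093) (.node (.node (.node (.node (.node .leaf (109548, 0, 14, 77080) .leaf) (109549, 0, 16, 118142) (.node .leaf (109554, 0, 16, 6611) .leaf)) (109555, 0, 13, 16764) (.node (.node .leaf (109558, 0, 14, 8432) .leaf) (109559, 0, 16, 49302) (.node .leaf (109560, 0, 17, 224366) .leaf))) (109561, 0, 15, 213906) (.node (.node (.node .leaf (109564, 0, 18, 222625) .leaf) (109565, 0, 16, 81039) (.node .leaf (109569, 0, 19, 42282) .leaf)) (109571, 0, 17, 189237) (.node (.node .leaf (109573, 0, 13, 186935) .leaf) (109575, 0, 15, 78405) (.node .leaf (109576, 0, 13, 95982) .leaf)))) (109578, 0, 17, 130794) (.node (.node (.node (.node .leaf (109580, 0, 18, 85965) .leaf) (109582, 0, 16, 229879) (.node .leaf (109585, 0, 17, 117573) .leaf)) (109587, 0, 16, 80814) (.node (.node .leaf (109589, 0, 15, 127590) .leaf) (109591, 0, 17, 214195)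 (.node .leaf (109592, 0, 17, 24686) .leaf))) (109594, 0, 15, 231452) (.node (.node (.node .leaf (109596, 0, 3, 210840) .leaf) (109598, 0, 17, 157629) (.node .leaf (109600, 0, 16, 229646) .leaf)) (109602, 0, 16, 67750) (.node (.node .leaf (109604, 0, 14, 130579) .leaf) (109606, 0, 15, 136801) (.node .leaf (109609, 0, 15, 171389) .leaf))))))

/-- part of the orbit tree -/
def itp3_173 : Tree := (.node (.node (.node (.node (.node (.node .leaf (109613, 0, 15, 173150) .leaf) (109615, 0, 16, 259195) (.node .leaf (109616, 0, 12, 139478) .leaf)) (109618, 0, 12, 139146) (.node (.node .leaf (109620, 0, 15, 231653) .leaf) (109622, 0, 16, 24727) (.node .leaf (109625, 0, 14, 214090) .leaf))) (109627, 0, 13, 44088) (.node (.node (.node .leaf (109629, 0, 17, 80727) .leaf) (109631, 0, 16, 101422) (.node .leaf (109633, 0, 18, 64928) .leaf)) (109635, 0, 16, 202194) (.node (.node .leaf (109637, 0, 17, 164541) .leaf) (109639, 0, 17, 110736) (.node .leaf (109640, 0, 17, 151058) .leaf)))) (109642, 0, 17, 108128) (.node (.node (.node (.node .leaf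 (109644, 0, 14, 140619) .leaf) (109646, 0, 17, 226670) (.node .leaf (109649, 0, 17, 172483) .leaf)) (109651, 0, 17, 90916) (.node (.node .leaf (109653, 0, 18, 62539) .leaf) (109655, 0, 17, 203833) (.node .leaf (109656, 0, 17, 25661) .leaf))) (109658, 0, 17, 78872) (.node (.node (.node .leaf (109660, 0, 16, 23838) .leaf) (109662, 0, 17, 68923) (.node .leaf (109664, 0, 15, 252292) .leaf)) (109666, 0, 17, 156192) (.node (.node .leaf (109668, 0, 15, 199462) .leaf) (109670, 0, 11, 154371) (.node .leaf (109673, 0, 16, 92726) .leaf))))) (109675, 0, 15, 164420) (.node (.node (.node (.node (.node .leaf (109677, 0, 17, 202027) .leaf) (109679, 0, 17, 40701) (.node .leaf (109680, 0, 16, 84560) .leaf)) (109682, 0, 15, 149248) (.node (.node .leaf (109684, 0, 12, 95091) .leaf) (109686, 0, 18, 9046) (.node .leaf (109689, 0, 16, 203968) .leaf))) (109691, 0, 16, 62642) (.node (.node (.node .leaf (109693, 0, 16, 91101) .leaf) (109695, 0, 17, 190120) (.node .leaf (109697, 0, 17, 202051) .leaf)) (109699, 0, 16, 29759) (.node (.node .leaf (109701,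 0, 14, 92766) .leaf) (109703, 0, 16, 164396) (.node .leaf (109704, 0, 15, 108273) .leaf)))) (109706, 0, 7, 151171) (.node (.node (.node (.node .leaf (109708, 0, 16, 252103) .leaf) (109710, 0, 17, 166114) (.node .leaf (109713, 0, 17, 91061) .leaf)) (109715, 0, 15, 134250) (.node (.node .leaf (109717, 0, 15, 222572) .leaf) (109719, 0, 17, 62682) (.node .leaf (109720, 0, 14, 249863) .leaf))) (109722, 0, 15, 51604) (.node (.node (.node .leaf (109724, 0, 8, 106642) .leaf) (109726, 0, 16, 61623) (.node .leaf (109728, 0, 15, 184201) .leaf)) (109730, 0, 18, 252181) (.node (.node .leaf (109732, 0, 17, 151162) .leaf) (109734, 0, 15, 239247) (.node .leaf (109737, 0, 14, 2679) .leaf))))))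

/-- part of the orbit tree -/
def itp3_174 : Tree := (.node (.node (.node (.node (.node (.node .leaf (109741, 0, 12, 64968) .leaf) (109743, 0, 17, 202170) (.node .leaf (109744, 0, 16, 47068) .leaf)) (109746, 0, 17, 110563) (.node (.node .leaf (109748, 0, 17, 36607) .leaf) (109750, 0, 16, 122586) (.node .leaf (109753, 0, 16, 62499) .leaf))) (109755, 0, 18, 205319) (.node (.node (.node .leaf (109757, 0, 18, 166718) .leaf) (109759, 0, 15, 90956) (.node .leaf (109761, 0, 13, 216521) .leaf)) (109763, 0, 15, 42427) (.node (.node .leaf (109765, 0, 17, 161727) .leaf) (109767, 0, 12, 187046) (.node .leaf (109768, 0, 16, 130683) .leaf)))) (109770, 0, 16, 136713) (.node (.node (.node (.node .leaf (109772, 0, 19, 229734) .leaf) (109774, 0, 14, 123492) (.node .leaf (109777, 0, 17, 80703) .leaf)) (109779, 0, 16, 185165) (.node (.node .leaf (109781, 0, 16, 4074) .leaf) (109783, 0, 16, 90063) (.node .leaf (109784, 0, 13, 231565) .leaf))) (109786, 0, 17, 24831) (.node (.node (.node .leaf (109788, 0, 16, 182804) .leaf) (109790, 0, 17, 139234)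 (.node .leaf (109792, 0, 15, 107791) .leaf)) (109794, 0, 17, 229791) (.node (.node .leaf (109796, 0, 17, 136944) .leaf) (109798, 0, 19, 52233) (.node .leaf (109801, 0, 16, 221425) .leaf))))) (109803, 0, 17, 143572) (.node (.node (.node (.node (.node .leaf (109805, 0, 17, 42306) .leaf) (109807, 0, 18, 216368) (.node .leaf (109808, 0, 16, 139035) .leaf)) (109810, 0, 14, 167295) (.node (.node .leaf (109812, 0, 15, 255097) .leaf) (109814, 0, 19, 231540) (.node .leaf (109817, 0, 18, 71844) .leaf))) (109819, 0, 12, 18561) (.node (.node (.node .leaf (109821, 0, 17, 74119) .leaf) (109823, 0, 17, 29090) (.node .leaf (109824, 0, 13, 138215) .leaf)) (109826, 0, 13, 106791) (.node (.node .leaf (109828, 0, 16, 25850) .leaf) (109830, 0, 8, 104452) (.node .leaf (109833, 0, 16, 144636) .leaf)))) (109835, 0, 15, 222425) (.node (.node (.node (.node .leaf (109837, 0, 15, 134623) .leaf) (109839, 0, 13, 220666) (.node .leaf (109840, 0, 16, 166231) .leaf)) (109842, 0, 11, 230755) (.node (.node .leaf (109844, 0, 15, 176244) .leaf) (109846, 0, 15,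 129662) (.node .leaf (109849, 0, 16, 19625) .leaf))) (109851, 0, 15, 72844) (.node (.node (.node .leaf (109853, 0, 15, 41406) .leaf) (109855, 0, 18, 215500) (.node .leaf (109857, 0, 16, 81859) .leaf)) (109859, 0, 19, 186289) (.node (.node .leaf (109861, 0, 18, 205746) .leaf) (109863, 0, 16, 160663) (.node .leaf (109864, 0, 16, 122735) .leaf))))))

/-- part of the orbit tree -/
def itp3_175 : Tree := (.node itp3_171 (109481, 0, 16, 171739) itp3_172)

/-- part of the orbit tree -/
def itp3_176 : Tree := (.node itp3_173 (109739, 0, 18, 92839) itp3_174)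

/-- part of the orbit tree -/
def itp3_177 : Tree := (.node (.node (.node (.node (.node (.node .leaf (109868, 0, 17, 127852) .leaf) (109870, 0, 16, 46697) (.node .leaf (109873, 0, 15, 90820) .leaf)) (109875, 0, 16, 13025) (.node (.node .leaf (109877, 0, 17, 79400) .leaf) (109879, 0, 16, 3010) (.node .leaf (109880, 0, 16, 239418) .leaf))) (109882, 0, 16, 135925) (.node (.node (.node .leaf (109884, 0, 18, 230810) .leaf) (109886, 0, 11, 183868) (.node .leaf (109888, 0, 13, 148333) .leaf)) (109890, 0, 14, 183201) (.node (.node .leaf (109892, 0, 14, 238247) .leaf) (109894, 0, 17, 250882) (.node .leaf (109897, 0, 17, 61663) .leaf)))) (109899, 0, 16, 202925) (.node (.node (.node (.node .leaf (109901, 0, 17, 167874) .leaf) (109903, 0, 17, 14204) (.node .leaf (109904, 0, 14, 13723) .leaf)) (109906, 0, 17, 46068) (.node (.node .leaf (109908, 0, 15, 121586) .leaf) (109910, 0, 15, 107252) (.node .leaf (109913, 0, 15, 165417) .leaf))) (109915, 0, 16, 161290) (.node (.node (.node .leaf (109917, 0, 18, 204556) .leaf) (109919, 0, 15, 151337)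 (.node .leaf (109921, 0, 17, 28695) .leaf)) (109923, 0, 14, 167739) (.node (.node .leaf (109925, 0, 15, 18740) .leaf) (109927, 0, 15, 61478) (.node .leaf (109928, 0, 14, 177641) .leaf))))) (109930, 0, 14, 15497) (.node (.node (.node (.node (.node .leaf (109932, 0, 18, 167114) .leaf) (109934, 0, 16, 148372) (.node .leaf (109937, 0, 14, 133186) .leaf)) (109939, 0, 12, 219239) (.node (.node .leaf (109941, 0, 17, 93858) .leaf) (109943, 0, 16, 165584) (.node .leaf (109944, 0, 16, 107021) .leaf))) (109946, 0, 15, 150143) (.node (.node (.node .leaf (109948, 0, 14, 253200) .leaf) (109950, 0, 16, 13666) (.node .leaf (109952, 0, 16, 109454) .leaf)) (109954, 0, 13, 210477) (.node (.node .leaf (109956, 0, 18, 251027) .leaf) (109958, 0, 18, 200462) (.node .leaf (109961, 0, 18, 41974) .leaf)))) (109963, 0, 16, 127955) (.node (.node (.node (.node .leaf (109965, 0, 14, 91937) .leaf) (109967, 0, 14, 117488) (.node .leaf (109968, 0, 17, 7773) .leaf)) (109970, 0, 16, 85624) (.node (.node .leaf (109972, 0, 18, 10110) .leaf) (109974, 0, 17, 150039)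 (.node .leaf (109977, 0, 18, 93898) .leaf))) (109979, 0, 13, 232326) (.node (.node (.node .leaf (109981, 0, 13, 189056) .leaf) (109983, 0, 15, 242341) (.node .leaf (109985, 0, 12, 167850) .leaf)) (109987, 0, 18, 56766) (.node (.node .leaf (109989, 0, 16, 61623) .leaf) (109991, 0, 14, 202949) (.node .leaf (109992, 0, 12, 15384) .leaf))))))

/-- part of the orbit tree -/
def itp3_178 : Tree := (.node (.node (.node (.node (.node (.node .leaf (109996, 0, 17, 148229) .leaf) (109998, 0, 17, 139619) (.node .leaf (110001, 0, 16, 63836) .leaf)) (110003, 0, 15, 173547) (.node (.node .leaf (110005, 0, 16, 165441) .leaf) (110007, 0, 17, 171208) (.node .leaf (110008, 0, 14, 150254) .leaf))) (110010, 0, 16, 24597) (.node (.node (.node .leaf (110012, 0, 18, 13811) .leaf) (110014, 0, 16, 253313) (.node .leaf (110016, 0, 16, 127748) .leaf)) (110018, 0, 17, 138102) (.node (.node .leaf (110020, 0, 15, 79277) .leaf) (110022, 0, 14, 25707) (.node .leaf (110025, 0, 14, 213174) .leaf)))) (110027, 0, 17, 43204) (.node (.node (.node (.node .leaf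 (110029, 0, 16, 81835) .leaf) (110031, 0, 15, 186329) (.node .leaf (110032, 0, 17, 226523) .leaf)) (110034, 0, 17, 140542) (.node (.node .leaf (110036, 0, 18, 129775) .leaf) (110038, 0, 14, 138717) (.node .leaf (110041, 0, 13, 110885) .leaf))) (110043, 0, 17, 187954) (.node (.node (.node .leaf (110045, 0, 17, 100358) .leaf) (110047, 0, 14, 41263) (.node .leaf (110049, 0, 16, 190237) .leaf)) (110051, 0, 16, 81746) (.node (.node .leaf (110053, 0, 14, 187966) .leaf) (110055, 0, 17, 213071) (.node .leaf (110056, 0, 17, 8931) .leaf))))) (110058, 0, 17, 94918) (.node (.node (.node (.node (.node .leaf (110060, 0, 15, 138127) .leaf) (110062, 0, 14, 127997) (.node .leaf (110065, 0, 18, 40776) .leaf)) (110067, 0, 14, 118637) (.node (.node .leaf (110069, 0, 16, 188107) .leaf) (110071, 0, 12, 79545) (.node .leaf (110072, 0, 17, 154294) .leaf))) (110074, 0, 15, 199315) (.node (.node (.node .leaf (110076, 0, 12, 156565) .leaf) (110078, 0, 16, 230667) (.node .leaf (110080, 0, 16, 194856) .leaf)) (110081, 0, 15, 237408) (.node (.node .leaf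 (110082, 0, 18, 143139) .leaf) (110083, 0, 16, 184133) (.node .leaf (110084, 0, 16, 214565) .leaf)))) (110085, 0, 15, 188187) (.node (.node (.node (.node .leaf (110086, 0, 17, 136704) .leaf) (110087, 0, 14, 194150) (.node .leaf (110096, 0, 15, 67411) .leaf)) (110097, 0, 13, 124725) (.node (.node .leaf (110098, 0, 17, 22390) .leaf) (110099, 0, 18, 81538) (.node .leaf (110100, 0, 18, 81520) .leaf))) (110101, 0, 14, 122390) (.node (.node (.node .leaf (110102, 0, 13, 28245) .leaf) (110103, 0, 17, 213407) (.node .leaf (110120, 0, 14, 151915) .leaf)) (110121, 0, 17, 79760) (.node (.node .leaf (110122, 0, 14, 196942) .leaf) (110123, 0, 18, 188386) (.node .leaf (110124, 0, 14, 157768) .leaf))))))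

/-- part of the orbit tree -/
def itp3_179 : Tree := (.node (.node (.node (.node (.node (.node .leaf (110126, 0, 16, 195025) .leaf) (110127, 0, 13, 41215) (.node .leaf (110136, 0, 17, 71752) .leaf)) (110137, 0, 16, 51544) (.node (.node .leaf (110138, 0, 15, 96539) .leaf) (110139, 0, 17, 104829) (.node .leaf (110140, 0, 16, 223061) .leaf))) (110141, 0, 15, 81531) (.node (.node (.node .leaf (110142, 0, 17, 36647) .leaf) (110143, 0, 17, 185865) (.node .leaf (110144, 0, 15, 172450) .leaf)) (110145, 0, 16, 62950) (.node (.node .leaf (110146, 0, 18, 83365) .leaf) (110147, 0, 18, 200958) (.node .leaf (110148, 0, 17, 11427) .leaf)))) (110149, 0, 15, 52421) (.node (.node (.node (.node .leaf (110150, 0, 16, 97414) .leaf) (110151, 0, 16, 105696) (.node .leaf (110160, 0, 18, 159189) .leaf)) (110161, 0, 14, 167347) (.node (.node .leaf (110162, 0, 16, 212464) .leaf) (110163, 0, 17, 91656) (.node .leaf (110164, 0, 17, 174153) .leaf))) (110165, 0, 15, 61799) (.node (.node (.node .leaf (110166, 0, 14, 197843) .leaf) (110167, 0, 16, 203029)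 (.node .leaf (110184, 0, 17, 210484) .leaf)) (110185, 0, 17, 93978) (.node (.node .leaf (110186, 0, 16, 56902) .leaf) (110187, 0, 16, 35758) (.node .leaf (110188, 0, 15, 84265) .leaf))))) (110189, 0, 16, 200711) (.node (.node (.node (.node (.node .leaf (110190, 0, 13, 172379) .leaf) (110191, 0, 14, 63605) (.node .leaf (110200, 0, 18, 82114) .leaf)) (110201, 0, 14, 238558) (.node (.node .leaf (110202, 0, 12, 136093) .leaf) (110203, 0, 18, 61854) (.node .leaf (110204, 0, 18, 212959) .leaf))) (110205, 0, 15, 236285) (.node (.node (.node .leaf (110206, 0, 16, 142014) .leaf) (110207, 0, 17, 183000) (.node .leaf (110208, 0, 16, 84289) .leaf)) (110209, 0, 14, 67690) (.node (.node .leaf (110210, 0, 14, 47145) .leaf) (110211, 0, 16, 63517) (.node .leaf (110212, 0, 17, 210524) .leaf)))) (110213, 0, 15, 94066) (.node (.node (.node (.node .leaf (110214, 0, 15, 33034) .leaf) (110215, 0, 17, 165632) (.node .leaf (110224, 0, 11, 233561) .leaf)) (110225, 0, 12, 91801) (.node (.node .leaf (110226, 0, 16, 55237) .leaf) (110227, 0, 15, 139290)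 (.node .leaf (110228, 0, 16, 82090) .leaf))) (110229, 0, 15, 215324) (.node (.node (.node .leaf (110230, 0, 16, 194911) .leaf) (110231, 0, 17, 137529) (.node .leaf (110248, 0, 19, 57047) .leaf)) (110249, 0, 16, 9735) (.node (.node .leaf (110250, 0, 16, 104004) .leaf) (110251, 0, 16, 95778) (.node .leaf (110252, 0, 14, 172490) .leaf))))))

/-- part of the orbit tree -/
def itp3_180 : Tree := (.node (.node (.node (.node (.node (.node .leaf (110254, 0, 17, 84408) .leaf) (110255, 0, 15, 200854) (.node .leaf (110264, 0, 16, 179764) .leaf)) (110265, 0, 17, 61711) (.node (.node .leaf (110266, 0, 17, 82003) .leaf) (110267, 0, 15, 203133) (.node .leaf (110268, 0, 14, 165655) .leaf))) (110269, 0, 12, 167442) (.node (.node (.node .leaf (110270, 0, 14, 212814) .leaf) (110271, 0, 17, 210772) (.node .leaf (110272, 0, 14, 164490) .leaf)) (110273, 0, 15, 215269) (.node (.node .leaf (110274, 0, 17, 250543) .leaf) (110275, 0, 16, 209609) (.node .leaf (110276, 0, 16, 224982) .leaf)))) (110277, 0, 16, 154575) (.node (.node (.node (.node .leaf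 (110278, 0, 17, 34468) .leaf) (110279, 0, 15, 199658) (.node .leaf (110288, 0, 15, 223037) .leaf)) (110289, 0, 18, 6841) (.node (.node .leaf (110290, 0, 8, 109306) .leaf) (110291, 0, 16, 84636) (.node .leaf (110292, 0, 16, 50172) .leaf))) (110293, 0, 17, 9114) (.node (.node (.node .leaf (110294, 0, 19, 103385) .leaf) (110295, 0, 15, 43388) (.node .leaf (110312, 0, 17, 34397) .leaf)) (110313, 0, 15, 216193) (.node (.node .leaf (110314, 0, 13, 195778) .leaf) (110315, 0, 16, 138404) (.node .leaf (110316, 0, 17, 234948) .leaf))))) (110317, 0, 16, 226722) (.node (.node (.node (.node (.node .leaf (110318, 0, 13, 181729) .leaf) (110319, 0, 17, 140679) (.node .leaf (110328, 0, 13, 119986) .leaf)) (110329, 0, 14, 79060) (.node (.node .leaf (110330, 0, 16, 33943) .leaf) (110331, 0, 16, 213495) (.node .leaf (110332, 0, 17, 36790) .leaf))) (110333, 0, 17, 69111) (.node (.node (.node .leaf (110334, 0, 17, 223172) .leaf) (110335, 0, 14, 24018) (.node .leaf (110344, 0, 18, 194794) .leaf)) (110345, 0, 18, 137356) (.node (.node .leaf (110346,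 0, 16, 72741) .leaf) (110347, 0, 16, 215209) (.node .leaf (110348, 0, 16, 35658) .leaf)))) (110349, 0, 16, 184932) (.node (.node (.node (.node .leaf (110350, 0, 12, 233964) .leaf) (110351, 0, 16, 80406) (.node .leaf (110360, 0, 17, 33441) .leaf)) (110361, 0, 16, 187279) (.node (.node .leaf (110362, 0, 18, 118938) .leaf) (110363, 0, 16, 78076) (.node .leaf (110364, 0, 18, 47516) .leaf))) (110365, 0, 16, 23034) (.node (.node (.node .leaf (110366, 0, 9, 125369) .leaf) (110367, 0, 18, 68063) (.node .leaf (110368, 0, 18, 251527) .leaf)) (110369, 0, 15, 80623) (.node (.node .leaf (110370, 0, 13, 35763) .leaf) (110371, 0, 12, 157380) .leaf)))))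

/-- part of the orbit tree -/
def itp3_181 : Tree := (.node itp3_177 (109994, 0, 18, 250986) itp3_178)

/-- part of the orbit tree -/
def itp3_182 : Tree := (.node itp3_179 (110253, 0, 14, 63716) itp3_180)

/-- part of the orbit tree -/
def itp3_183 : Tree := (.node itp3_175 (109611, 0, 16, 187086) itp3_176)

/-- part of the orbit tree -/
def itp3_184 : Tree := (.node itp3_181 (110125, 0, 14, 215181) itp3_182)

/-- part of the orbit tree -/
def itp3_185 : Tree := (.node itp3_169 (108845, 0, 19, 7298) itp3_170)

/-- part of the orbit tree -/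
def itp3_186 : Tree := (.node itp3_183 (109866, 0, 18, 36682) itp3_184)

/-- part of the orbit tree -/
def itp3_187 : Tree := (.node itp3_155 (107309, 0, 12, 59301) itp3_156)

/-- part of the orbit tree -/
def itp3_188 : Tree := (.node itp3_185 (109353, 0, 17, 2513) itp3_186)

/-- part of the orbit tree -/
def itp3_189 : Tree := (.node (.node (.node (.node (.node (.node .leaf (110373, 0, 16, 200642) .leaf) (110374, 0, 17, 180097) (.node .leaf (110375, 0, 16, 155623) .leaf)) (110384, 0, 9, 110290) (.node (.node .leaf (110385, 0, 13, 216089) .leaf) (110386, 0, 15, 65271) (.node .leaf (110387, 0, 17, 7825) .leaf))) (110388, 0, 17, 104433) (.node (.node (.node .leaf (110389, 0, 17, 78596) .leaf) (110390, 0, 15, 51156) (.node .leaf (110391, 0, 4, 187254) .leaf)) (110408, 0, 16, 103020) (.node (.node .leaf (110409, 0, 14, 62963) .leaf) (110410, 0, 16, 49737) (.node .leaf (110411, 0, 15, 8751) .leaf)))) (110412, 0, 17, 54208) (.node (.node (.node (.node .leaf (110413, 0, 15, 84777) .leaf) (110414, 0, 17, 64362) (.node .leaf (110415,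 0, 17, 6924) .leaf)) (110424, 0, 13, 256569) (.node (.node .leaf (110425, 0, 17, 199263) .leaf) (110426, 0, 18, 209497) (.node .leaf (110427, 0, 13, 154234) .leaf))) (110428, 0, 18, 173366) (.node (.node (.node .leaf (110429, 0, 16, 209788) .leaf) (110430, 0, 16, 164671) (.node .leaf (110431, 0, 16, 201834) .leaf)) (110432, 0, 16, 211787) (.node (.node .leaf (110433, 0, 16, 23655) .leaf) (110434, 0, 15, 125988) (.node .leaf (110435, 0, 15, 68674) .leaf))))) (110436, 0, 14, 83030) (.node (.node (.node (.node (.node .leaf (110437, 0, 18, 25924) .leaf) (110438, 0, 17, 175140) (.node .leaf (110439, 0, 17, 62730) .leaf)) (110448, 0, 15, 85437) (.node (.node .leaf (110449, 0, 15, 140338) .leaf) (110450, 0, 17, 234609) (.node .leaf (110451, 0, 18, 226327) .leaf))) (110452, 0, 16, 209568) (.node (.node (.node .leaf (110453, 0, 15, 138513) .leaf) (110454, 0, 15, 240978) (.node .leaf (110455, 0, 15, 216372) .leaf)) (110472, 0, 17, 83006) (.node (.node .leaf (110473, 0, 14, 36742) .leaf) (110474, 0, 16, 175180) (.node .leaf (110475,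 0, 17, 62818) .leaf)))) (110476, 0, 15, 22211) (.node (.node (.node (.node .leaf (110477, 0, 17, 46757) .leaf) (110478, 0, 17, 54097) (.node .leaf (110479, 0, 13, 124544) .leaf)) (110488, 0, 10, 209608) (.node (.node .leaf (110489, 0, 15, 194515) .leaf) (110490, 0, 17, 55994) (.node .leaf (110491, 0, 14, 239606) .leaf))) (110492, 0, 16, 142998) (.node (.node (.node .leaf (110493, 0, 17, 201979) .leaf) (110494, 0, 16, 173479) (.node .leaf (110495, 0, 15, 64649) .leaf)) (110496, 0, 18, 54184) (.node (.node .leaf (110497, 0, 14, 106987) .leaf) (110498, 0, 16, 4520) (.node .leaf (110499, 0, 15, 61902) .leaf))))))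

/-- part of the orbit tree -/
def itp3_190 : Tree := (.node (.node (.node (.node (.node (.node .leaf (110501, 0, 18, 104648) .leaf) (110502, 0, 15, 83143) (.node .leaf (110503, 0, 15, 204265) .leaf)) (110512, 0, 17, 211416) (.node (.node .leaf (110513, 0, 18, 252350) .leaf) (110514, 0, 16, 85292) (.node .leaf (110515, 0, 18, 166299) .leaf))) (110516, 0, 16, 55875) (.node (.node (.node .leaf (110517, 0, 17, 254109) .leaf) (110518, 0, 14, 151774) (.node .leaf (110519, 0, 15, 92959) .leaf)) (110536, 0, 17, 72884) (.node (.node .leaf (110537, 0, 17, 214426) .leaf) (110538, 0, 16, 193734) (.node .leaf (110539, 0, 14, 177445) .leaf)))) (110540, 0, 14, 222121) (.node (.node (.node (.node .leaf (110541, 0, 12, 252963) .leaf) (110542, 0, 15, 158816) (.node .leaf (110543, 0, 17, 166918) .leaf)) (110552, 0, 12, 223810) (.node (.node .leaf (110553, 0, 18, 78700) .leaf) (110554, 0, 18, 33328) (.node .leaf (110555, 0, 18, 52592) .leaf))) (110556, 0, 18, 82960) (.node (.node (.node .leaf (110557, 0, 16, 107638) .leaf) (110558, 0, 17, 195885)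 (.node .leaf (110559, 0, 18, 62547) .leaf)) (110560, 0, 17, 142091) (.node (.node .leaf (110561, 0, 16, 183149) .leaf) (110562, 0, 15, 222032) (.node .leaf (110563, 0, 16, 80510) .leaf))))) (110564, 0, 16, 193599) (.node (.node (.node (.node (.node .leaf (110565, 0, 17, 44305) .leaf) (110566, 0, 13, 72781) (.node .leaf (110567, 0, 14, 214371) .leaf)) (110576, 0, 18, 196052) (.node (.node .leaf (110577, 0, 18, 42234) .leaf) (110578, 0, 15, 71078) (.node .leaf (110579, 0, 16, 216200) .leaf))) (110580, 0, 12, 33481) (.node (.node (.node .leaf (110581, 0, 18, 187367) .leaf) (110582, 0, 14, 223931) (.node .leaf (110583, 0, 17, 78741) .leaf)) (110592, 0, 17, 74448) (.node (.node .leaf (110595, 0, 16, 120806) .leaf) (110597, 0, 18, 129941) (.node .leaf (110598, 0, 12, 127445) .leaf)))) (110600, 0, 14, 198472) (.node (.node (.node (.node .leaf (110603, 0, 14, 81274) .leaf) (110605, 0, 17, 43541) (.node .leaf (110606, 0, 16, 72521) .leaf)) (110608, 0, 15, 219781) (.node (.node .leaf (110611, 0, 17, 191174) .leaf) (110613, 0, 14, 145023)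 (.node .leaf (110614, 0, 16, 231203) .leaf))) (110616, 0, 17, 195280) (.node (.node (.node .leaf (110619, 0, 13, 53086) .leaf) (110621, 0, 16, 187619) (.node .leaf (110622, 0, 18, 224703) .leaf)) (110625, 0, 19, 213662) (.node (.node .leaf (110626, 0, 16, 193474) .leaf) (110628, 0, 16, 222381) (.node .leaf (110631, 0, 17, 185841) .leaf))))))

/-- part of the orbit tree -/
def itp3_191 : Tree := (.node (.node (.node (.node (.node (.node .leaf (110634, 0, 17, 89240) .leaf) (110636, 0, 17, 233009) (.node .leaf (110639, 0, 16, 99805) .leaf)) (110641, 0, 14, 45334) (.node (.node .leaf (110642, 0, 14, 65877) .leaf) (110644, 0, 18, 26707) (.node .leaf (110647, 0, 16, 41735) .leaf))) (110649, 0, 16, 122612) (.node (.node (.node .leaf (110650, 0, 12, 28584) .leaf) (110652, 0, 14, 129223) (.node .leaf (110655, 0, 16, 261512) .leaf)) (110656, 0, 12, 15920) (.node (.node .leaf (110659, 0, 15, 102252) .leaf) (110661, 0, 12, 168211) (.node .leaf (110662, 0, 17, 205136) .leaf)))) (110664, 0, 16, 28110) (.node (.node (.node (.node .leaf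 (110667, 0, 18, 91632) .leaf) (110669, 0, 14, 46219) (.node .leaf (110670, 0, 14, 82883) .leaf)) (110672, 0, 14, 149702) (.node (.node .leaf (110675, 0, 17, 260506) .leaf) (110677, 0, 11, 159477) (.node .leaf (110678, 0, 13, 253865) .leaf))) (110680, 0, 13, 172634) (.node (.node (.node .leaf (110683, 0, 17, 239064) .leaf) (110685, 0, 17, 183518) (.node .leaf (110686, 0, 16, 228509) .leaf)) (110689, 0, 17, 107461) (.node (.node .leaf (110690, 0, 12, 4998) .leaf) (110692, 0, 12, 96896) (.node .leaf (110695, 0, 18, 167291) .leaf))))) (110697, 0, 15, 231005) (.node (.node (.node (.node (.node .leaf (110698, 0, 17, 144926) .leaf) (110700, 0, 14, 220952) (.node .leaf (110703, 0, 16, 192347) .leaf)) (110705, 0, 16, 252816) (.node (.node .leaf (110706, 0, 18, 56766) .leaf) (110708, 0, 16, 84689) (.node .leaf (110711, 0, 17, 176790) .leaf))) (110713, 0, 12, 130568) (.node (.node (.node .leaf (110714, 0, 18, 20043) .leaf) (110716, 0, 16, 75597) (.node .leaf (110719, 0, 16, 38670) .leaf)) (110720, 0, 18, 243162) (.node (.node .leaf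 (110723, 0, 14, 157583) .leaf) (110725, 0, 16, 224415) (.node .leaf (110726, 0, 17, 147900) .leaf)))) (110728, 0, 16, 212047) (.node (.node (.node (.node .leaf (110731, 0, 18, 8193) .leaf) (110733, 0, 17, 203388) (.node .leaf (110734, 0, 15, 174880) .leaf)) (110736, 0, 16, 106533) (.node (.node .leaf (110739, 0, 16, 4473) .leaf) (110741, 0, 16, 99862) (.node .leaf (110742, 0, 16, 42121) .leaf))) (110744, 0, 11, 84665) (.node (.node (.node .leaf (110747, 0, 17, 153684) .leaf) (110749, 0, 17, 209234) (.node .leaf (110750, 0, 15, 164113) .leaf)) (110753, 0, 13, 24137) (.node (.node .leaf (110754, 0, 17, 82859) .leaf) (110756, 0, 16, 54468) (.node .leaf (110759, 0, 18, 91544) .leaf))))))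

/-- part of the orbit tree -/
def itp3_192 : Tree := (.node (.node (.node (.node (.node (.node .leaf (110762, 0, 12, 108855) .leaf) (110764, 0, 15, 15960) (.node .leaf (110767, 0, 15, 102148) .leaf)) (110769, 0, 17, 140828) (.node (.node .leaf (110770, 0, 17, 210269) .leaf) (110772, 0, 17, 196441) (.node .leaf (110775, 0, 17, 201582) .leaf))) (110777, 0, 17, 900) (.node (.node (.node .leaf (110778, 0, 16, 111559) .leaf) (110780, 0, 15, 56001) (.node .leaf (110783, 0, 17, 92802) .leaf)) (110784, 0, 16, 233049) (.node (.node .leaf (110787, 0, 18, 147205) .leaf) (110789, 0, 16, 1561) (.node .leaf (110790, 0, 17, 137526) .leaf)))) (110792, 0, 16, 222405) (.node (.node (.node (.node .leaf (110795, 0, 17, 185753) .leaf) (110797, 0, 16, 213750) (.node .leaf (110798, 0, 13, 193450) .leaf)) (110800, 0, 16, 129199) (.node (.node .leaf (110803, 0, 16, 18931) .leaf) (110805, 0, 12, 163404) (.node .leaf (110806, 0, 17, 249359) .leaf))) (110808, 0, 18, 33425) (.node (.node (.node .leaf (110811, 0, 13, 78546) .leaf) (110813, 0, 17, 78848)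 (.node .leaf (110814, 0, 15, 34140) .leaf)) (110817, 0, 18, 43645) (.node (.node .leaf (110818, 0, 17, 165004) .leaf) (110820, 0, 9, 35918) (.node .leaf (110823, 0, 17, 155081) .leaf))))) (110825, 0, 17, 16609) (.node (.node (.node (.node (.node .leaf (110826, 0, 18, 127421) .leaf) (110828, 0, 16, 26322) (.node .leaf (110831, 0, 17, 120718) .leaf)) (110833, 0, 15, 187531) (.node (.node .leaf (110834, 0, 16, 64729) .leaf) (110836, 0, 16, 195256) (.node .leaf (110839, 0, 18, 9628) .leaf))) (110841, 0, 18, 223490) (.node (.node (.node .leaf (110842, 0, 18, 186689) .leaf) (110844, 0, 16, 241735) (.node .leaf (110847, 0, 12, 131076) .leaf)) (110849, 0, 15, 155842) (.node (.node .leaf (110850, 0, 17, 249985) .leaf) (110852, 0, 16, 178567) (.node .leaf (110855, 0, 14, 199108) .leaf)))) (110857, 0, 16, 17754) (.node (.node (.node (.node .leaf (110858, 0, 18, 230327) .leaf) (110860, 0, 14, 39967) (.node .leaf (110863, 0, 15, 238980) .leaf)) (110865, 0, 17, 6295) (.node (.node .leaf (110866, 0, 14, 73693) .leaf) (110868, 0, 15, 49618)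 (.node .leaf (110871, 0, 16, 94609) .leaf))) (110873, 0, 16, 146703) (.node (.node (.node .leaf (110874, 0, 16, 128321) .leaf) (110876, 0, 14, 25134) (.node .leaf (110879, 0, 17, 119666) .leaf)) (110880, 0, 17, 101201) (.node (.node .leaf (110883, 0, 15, 19727) .leaf) (110885, 0, 12, 86548) (.node .leaf (110886, 0, 16, 57943) .leaf))))))

/-- part of the orbit tree -/
def itp3_193 : Tree := (.node itp3_189 (110500, 0, 16, 175285) itp3_190)

/-- part of the orbit tree -/
def itp3_194 : Tree := (.node itp3_191 (110761, 0, 17, 162769) itp3_192)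

/-- part of the orbit tree -/
def itp3_195 : Tree := (.node (.node (.node (.node (.node (.node .leaf (110891, 0, 17, 42899) .leaf) (110893, 0, 16, 78076) (.node .leaf (110894, 0, 18, 33184) .leaf)) (110896, 0, 17, 258820) (.node (.node .leaf (110899, 0, 12, 148295) .leaf) (110901, 0, 12, 207425) (.node .leaf (110902, 0, 15, 170498) .leaf))) (110904, 0, 13, 120476) (.node (.node (.node .leaf (110907, 0, 17, 184677) .leaf) (110909, 0, 10, 214538) (.node .leaf (110910, 0, 17, 49050) .leaf)) (110913, 0, 13, 164093) (.node (.node .leaf (110914, 0, 15, 47623) .leaf) (110916, 0, 9, 119553) (.node .leaf (110919, 0, 17, 25410) .leaf)))) (110921, 0, 18, 158305) (.node (.node (.node (.node .leaf (110922, 0, 17, 171935) .leaf) (110924, 0, 16, 259737) (.node .leaf (110927, 0, 16, 149210) .leaf)) (110929, 0, 15, 225809) (.node (.node .leaf (110930, 0, 17, 180818) .leaf) (110932, 0, 15, 53304) (.node .leaf (110935, 0, 17, 90468) .leaf))) (110937, 0, 17, 7319) (.node (.node (.node .leaf (110938, 0, 17, 59338) .leaf) (110940, 0, 15, 102092)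 (.node .leaf (110943, 0, 18, 101368) .leaf)) (110944, 0, 13, 188887) (.node (.node .leaf (110947, 0, 15, 5509) .leaf) (110949, 0, 13, 145554) (.node .leaf (110950, 0, 13, 13238) .leaf))))) (110952, 0, 15, 50255) (.node (.node (.node (.node (.node .leaf (110955, 0, 17, 65305) .leaf) (110957, 0, 18, 92278) (.node .leaf (110958, 0, 15, 55594) .leaf)) (110960, 0, 16, 39298) (.node (.node .leaf (110963, 0, 15, 156531) .leaf) (110965, 0, 15, 16583) (.node .leaf (110966, 0, 17, 127108) .leaf))) (110968, 0, 16, 179226) (.node (.node (.node .leaf (110971, 0, 18, 166383) .leaf) (110973, 0, 16, 157023) (.node .leaf (110974, 0, 16, 251164) .leaf)) (110977, 0, 12, 63432) (.node (.node .leaf (110978, 0, 16, 83851) .leaf) (110980, 0, 18, 85549) (.node .leaf (110983, 0, 15, 106190) .leaf)))) (110985, 0, 11, 184912) (.node (.node (.node (.node .leaf (110986, 0, 19, 13278) .leaf) (110988, 0, 15, 107697) (.node .leaf (110991, 0, 17, 5613) .leaf)) (110993, 0, 14, 167837) (.node (.node .leaf (110994, 0, 14, 176052) .leaf) (110996, 0, 18, 153304)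 (.node .leaf (110999, 0, 17, 255643) .leaf))) (111001, 0, 17, 43525) (.node (.node (.node .leaf (111002, 0, 17, 72262) .leaf) (111004, 0, 17, 250439) (.node .leaf (111007, 0, 15, 156443) .leaf)) (111008, 0, 16, 203867) (.node (.node .leaf (111011, 0, 17, 175128) .leaf) (111013, 0, 13, 158217) (.node .leaf (111014, 0, 17, 161117) .leaf))))))

/-- part of the orbit tree -/
def itp3_196 : Tree := (.node (.node (.node (.node (.node (.node .leaf (111019, 0, 16, 35200) .leaf) (111021, 0, 14, 123014) (.node .leaf (111022, 0, 16, 209353) .leaf)) (111024, 0, 18, 15052) (.node (.node .leaf (111027, 0, 17, 54349) .leaf) (111029, 0, 15, 7423) (.node .leaf (111030, 0, 18, 3336) .leaf))) (111032, 0, 17, 213398) (.node (.node (.node .leaf (111035, 0, 17, 192981) .leaf) (111037, 0, 17, 235731) (.node .leaf (111038, 0, 18, 83775) .leaf)) (111041, 0, 13, 236878) (.node (.node .leaf (111042, 0, 18, 142605) .leaf) (111044, 0, 15, 71335) (.node .leaf (111047, 0, 12, 193608) .leaf)))) (111049, 0, 17, 112854) (.node (.node (.node (.node .leaf (111050,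 0, 16, 2197) .leaf) (111052, 0, 16, 90515) (.node .leaf (111055, 0, 15, 19815) .leaf)) (111057, 0, 16, 124187) (.node (.node .leaf (111058, 0, 15, 194366) .leaf) (111060, 0, 16, 80990) (.node .leaf (111063, 0, 17, 35869) .leaf))) (111065, 0, 17, 245891) (.node (.node (.node .leaf (111066, 0, 16, 138658) .leaf) (111068, 0, 15, 232141) (.node .leaf (111071, 0, 17, 174469) .leaf)) (111072, 0, 16, 136368) (.node (.node .leaf (111075, 0, 11, 239084) .leaf) (111077, 0, 15, 144003) (.node .leaf (111078, 0, 18, 73691) .leaf))))) (111080, 0, 16, 152389) (.node (.node (.node (.node (.node .leaf (111083, 0, 17, 216944) .leaf) (111085, 0, 15, 166400) (.node .leaf (111086, 0, 18, 211523) .leaf)) (111088, 0, 17, 25158) (.node (.node .leaf (111091, 0, 13, 245451) .leaf) (111093, 0, 16, 17525) (.node .leaf (111094, 0, 16, 128297) .leaf))) (111096, 0, 18, 35034) (.node (.node (.node .leaf (111099, 0, 15, 105299) .leaf) (111101, 0, 15, 62037) (.node .leaf (111102, 0, 10, 73653) .leaf)) (111106, 0, 15, 232420) (.node (.node .leaf (111107, 0,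 12, 48867) .leaf) (111108, 0, 17, 79747) (.node .leaf (111109, 0, 16, 120805) .leaf)))) (111114, 0, 16, 221560) (.node (.node (.node (.node .leaf (111115, 0, 10, 170875) .leaf) (111116, 0, 18, 201243) (.node .leaf (111117, 0, 18, 258685) .leaf)) (111122, 0, 15, 130322) (.node (.node .leaf (111123, 0, 14, 238652) .leaf) (111124, 0, 19, 27261) (.node .leaf (111125, 0, 17, 241584) .leaf))) (111130, 0, 17, 840) (.node (.node (.node .leaf (111131, 0, 16, 58158) .leaf) (111132, 0, 17, 32993) (.node .leaf (111133, 0, 16, 186831) .leaf)) (111136, 0, 15, 132437) (.node (.node .leaf (111137, 0, 13, 189747) .leaf) (111142, 0, 15, 35315) (.node .leaf (111143, 0, 15, 184541) .leaf))))))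

/-- part of the orbit tree -/
def itp3_197 : Tree := (.node (.node (.node (.node (.node (.node .leaf (111145, 0, 17, 49323) .leaf) (111150, 0, 16, 84427) (.node .leaf (111151, 0, 18, 145985) .leaf)) (111152, 0, 17, 223338) (.node (.node .leaf (111153, 0, 15, 40294) .leaf) (111158, 0, 14, 70662) (.node .leaf (111159, 0, 17, 128096) .leaf))) (111160, 0, 16, 153752) (.node (.node (.node .leaf (111161, 0, 14, 178430) .leaf) (111166, 0, 15, 209310) (.node .leaf (111167, 0, 14, 250360) .leaf)) (111170, 0, 16, 250734) (.node (.node .leaf (111171, 0, 16, 250981) .leaf) (111172, 0, 15, 148481) (.node .leaf (111173, 0, 16, 7471) .leaf)))) (111178, 0, 15, 211442) (.node (.node (.node (.node .leaf (111179, 0, 16, 127485) .leaf) (111180, 0, 17, 175773) (.node .leaf (111181, 0, 17, 63411) .leaf)) (111186, 0, 10, 107928) (.node (.node .leaf (111187, 0, 13, 109616) .leaf) (111188, 0, 16, 13047) (.node .leaf (111189, 0, 15, 158681) .leaf))) (111194, 0, 14, 85764) (.node (.node (.node .leaf (111195, 0, 17, 202282) .leaf) (111196, 0, 16, 131272)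 (.node .leaf (111197, 0, 14, 188590) .leaf)) (111200, 0, 15, 83478) (.node (.node .leaf (111201, 0, 16, 204600) .leaf) (111206, 0, 15, 53625) (.node .leaf (111207, 0, 16, 165975) .leaf))))) (111208, 0, 8, 109706) (.node (.node (.node (.node (.node .leaf (111209, 0, 17, 259492) .leaf) (111214, 0, 15, 140109) (.node .leaf (111215, 0, 15, 181035) .leaf)) (111216, 0, 16, 209120) (.node (.node .leaf (111217, 0, 18, 260064) .leaf) (111222, 0, 17, 173967) (.node .leaf (111223, 0, 13, 171750) .leaf))) (111224, 0, 16, 252540) (.node (.node (.node .leaf (111225, 0, 18, 119416) .leaf) (111230, 0, 16, 150803) (.node .leaf (111231, 0, 17, 47998) .leaf)) (111234, 0, 16, 15245) (.node (.node .leaf (111235, 0, 18, 156323) .leaf) (111236, 0, 14, 237705) (.node .leaf (111237, 0, 17, 259532) .leaf)))) (111242, 0, 16, 53521) (.node (.node (.node (.node .leaf (111243, 0, 16, 3185) .leaf) (111244, 0, 18, 99601) (.node .leaf (111245, 0, 16, 91511) .leaf)) (111250, 0, 17, 45530) (.node (.node .leaf (111251, 0, 17, 20924) .leaf) (111252, 0, 15, 121052)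 (.node .leaf (111253, 0, 15, 99130) .leaf))) (111258, 0, 15, 169026) (.node (.node (.node .leaf (111259, 0, 17, 160804) .leaf) (111260, 0, 17, 261444) (.node .leaf (111261, 0, 18, 92582) .leaf)) (111264, 0, 18, 37471) (.node (.node .leaf (111265, 0, 16, 63451) .leaf) (111270, 0, 15, 129881) (.node .leaf (111271, 0, 17, 90292) .leaf))))))

/-- part of the orbit tree -/
def itp3_198 : Tree := (.node (.node (.node (.node (.node (.node .leaf (111273, 0, 18, 153505) .leaf) (111278, 0, 15, 253633) (.node .leaf (111279, 0, 16, 212647) .leaf)) (111280, 0, 16, 55299) (.node (.node .leaf (111281, 0, 13, 164141) .leaf) (111286, 0, 16, 230156) (.node .leaf (111287, 0, 17, 202306) .leaf))) (111288, 0, 16, 12959) (.node (.node (.node .leaf (111289, 0, 17, 158641) .leaf) (111294, 0, 13, 108180) (.node .leaf (111295, 0, 17, 261342) .leaf)) (111298, 0, 15, 107273) (.node (.node .leaf (111299, 0, 17, 82799) .leaf) (111300, 0, 18, 51727) (.node .leaf (111301, 0, 16, 10857) .leaf)))) (111306, 0, 15, 35227) (.node (.node (.node (.node .leaf (111307,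 0, 16, 184501) .leaf) (111308, 0, 15, 192407) (.node .leaf (111309, 0, 17, 215002) .leaf)) (111314, 0, 15, 252764) (.node (.node .leaf (111315, 0, 11, 19679) .leaf) (111316, 0, 14, 230046) (.node .leaf (111317, 0, 17, 152124) .leaf))) (111322, 0, 16, 130756) (.node (.node (.node .leaf (111323, 0, 16, 73378) .leaf) (111324, 0, 17, 223234) (.node .leaf (111325, 0, 15, 78124) .leaf)) (111328, 0, 13, 194175) (.node (.node .leaf (111329, 0, 17, 202943) .leaf) (111334, 0, 15, 168415) (.node .leaf (111335, 0, 17, 160185) .leaf))))) (111336, 0, 17, 138467) (.node (.node (.node (.node (.node .leaf (111337, 0, 13, 81191) .leaf) (111342, 0, 15, 232332) (.node .leaf (111343, 0, 15, 119458) .leaf)) (111344, 0, 16, 32905) (.node (.node .leaf (111345, 0, 15, 90346) .leaf) (111350, 0, 17, 59786) (.node .leaf (111351, 0, 16, 216776) .leaf))) (111352, 0, 18, 27157) (.node (.node (.node .leaf (111353, 0, 16, 214386) .leaf) (111358, 0, 14, 183314) (.node .leaf (111359, 0, 15, 238676) .leaf)) (111360, 0, 18, 175316) (.node (.node .leaf (111361,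 0, 14, 187739) .leaf) (111366, 0, 14, 70426) (.node .leaf (111367, 0, 16, 215604) .leaf)))) (111368, 0, 17, 35148) (.node (.node (.node (.node .leaf (111369, 0, 18, 26922) .leaf) (111374, 0, 11, 129414) (.node .leaf (111375, 0, 18, 237736) .leaf)) (111376, 0, 10, 193155) (.node (.node .leaf (111377, 0, 15, 13543) .leaf) (111382, 0, 12, 114055) (.node .leaf (111383, 0, 19, 81090) .leaf))) (111384, 0, 17, 137247) (.node (.node (.node .leaf (111385, 0, 14, 135551) .leaf) (111390, 0, 15, 233328) (.node .leaf (111391, 0, 17, 120414) .leaf)) (111394, 0, 18, 135437) (.node (.node .leaf (111395, 0, 16, 18467) .leaf) (111396, 0, 16, 231010) .leaf)))))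

/-- part of the orbit tree -/
def itp3_199 : Tree := (.node itp3_195 (111016, 0, 15, 80323) itp3_196)

/-- part of the orbit tree -/
def itp3_200 : Tree := (.node itp3_197 (111272, 0, 18, 148585) itp3_198)

/-- part of the orbit tree -/
def itp3_201 : Tree := (.node itp3_193 (110633, 0, 17, 60635) itp3_194)

/-- part of the orbit tree -/
def itp3_202 : Tree := (.node itp3_199 (111144, 0, 10, 8397) itp3_200)

/-- part of the orbit tree -/
def itp3_203 : Tree := (.node (.node (.node (.node (.node (.node .leaf (111402, 0, 18, 184988) .leaf) (111403, 0, 16, 41663) (.node .leaf (111404, 0, 15, 224510) .leaf)) (111405, 0, 16, 79312) (.node (.node .leaf (111410, 0, 17, 167761) .leaf) (111411, 0, 14, 147157) (.node .leaf (111412, 0, 17, 127124) .leaf))) (111413, 0, 12, 240058) (.node (.node (.node .leaf (111418, 0, 16, 36199) .leaf) (111419, 0, 17, 185417) (.node .leaf (111420, 0, 16, 72200) .leaf)) (111421, 0, 16, 74665) (.node (.node .leaf (111424, 0, 14, 56575) .leaf) (111425, 0, 14, 75316) (.node .leaf (111430, 0, 15, 84880)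 .leaf)))) (111431, 0, 13, 201406) (.node (.node (.node (.node .leaf (111432, 0, 13, 254922) .leaf) (111433, 0, 16, 159565) (.node .leaf (111438, 0, 14, 166604) .leaf)) (111439, 0, 13, 158378) (.node (.node .leaf (111440, 0, 19, 245255) .leaf) (111441, 0, 16, 220769) (.node .leaf (111446, 0, 14, 186113) .leaf))) (111447, 0, 17, 145255) (.node (.node (.node .leaf (111448, 0, 15, 147605) .leaf) (111449, 0, 17, 97273) (.node .leaf (111454, 0, 16, 251898) .leaf)) (111455, 0, 14, 102100) (.node (.node .leaf (111458, 0, 15, 149895) .leaf) (111459, 0, 15, 228836) (.node .leaf (111460, 0, 15, 253672) .leaf))))) (111461, 0, 15, 136418) (.node (.node (.node (.node (.node .leaf (111466, 0, 17, 112666) .leaf) (111467, 0, 16, 88188) (.node .leaf (111468, 0, 16, 210036) .leaf)) (111469, 0, 16, 93530) (.node (.node .leaf (111474, 0, 15, 16241) .leaf) (111475, 0, 17, 157279) (.node .leaf (111476, 0, 12, 36049) .leaf))) (111477, 0, 15, 27831) (.node (.node (.node .leaf (111482, 0, 15, 54765) .leaf) (111483, 0, 16, 167107) (.node .leaf (111484,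 0, 18, 82562) .leaf)) (111485, 0, 18, 203692) (.node (.node .leaf (111488, 0, 16, 209948) .leaf) (111489, 0, 13, 56248) (.node .leaf (111494, 0, 15, 172915) .leaf)))) (111495, 0, 14, 111294) (.node (.node (.node (.node .leaf (111496, 0, 17, 138822) .leaf) (111497, 0, 17, 100270) (.node .leaf (111502, 0, 17, 227136) .leaf)) (111503, 0, 16, 4289) (.node (.node .leaf (111504, 0, 16, 82666) .leaf) (111505, 0, 17, 203716) (.node .leaf (111510, 0, 16, 54661) .leaf))) (111511, 0, 14, 248555) (.node (.node (.node .leaf (111512, 0, 14, 108662) .leaf) (111513, 0, 18, 258392) (.node .leaf (111518, 0, 17, 69397) .leaf)) (111519, 0, 17, 157239) (.node (.node .leaf (111522, 0, 16, 106852) .leaf) (111523, 0, 17, 163944) (.node .leaf (111524, 0, 12, 13835) .leaf))))))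

/-- part of the orbit tree -/
def itp3_204 : Tree := (.node (.node (.node (.node (.node (.node .leaf (111530, 0, 14, 84984) .leaf) (111531, 0, 17, 201430) (.node .leaf (111532, 0, 13, 56471) .leaf)) (111533, 0, 16, 165305) (.node (.node .leaf (111538, 0, 16, 251794) .leaf) (111539, 0, 14, 102076) (.node .leaf (111540, 0, 16, 147709) .leaf))) (111541, 0, 14, 102715) (.node (.node (.node .leaf (111546, 0, 14, 212238) .leaf) (111547, 0, 12, 187813) (.node .leaf (111548, 0, 15, 218309) .leaf)) (111549, 0, 18, 62287) (.node (.node .leaf (111552, 0, 15, 217432) .leaf) (111553, 0, 17, 241982) (.node .leaf (111558, 0, 14, 195577) .leaf)))) (111559, 0, 15, 41687) (.node (.node (.node (.node .leaf (111560, 0, 17, 95424) .leaf) (111561, 0, 17, 103590) (.node .leaf (111566, 0, 16, 7622) .leaf)) (111567, 0, 17, 18507) (.node (.node .leaf (111568, 0, 17, 76045) .leaf) (111569, 0, 17, 213838) (.node .leaf (111574, 0, 15, 36111) .leaf))) (111575, 0, 17, 41069) (.node (.node (.node .leaf (111576, 0, 17, 127228) .leaf) (111577, 0, 14, 257267)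 (.node .leaf (111582, 0, 17, 26515) .leaf)) (111583, 0, 18, 147133) (.node (.node .leaf (111586, 0, 17, 129518) .leaf) (111587, 0, 18, 237760) (.node .leaf (111588, 0, 16, 25486) .leaf))))) (111589, 0, 18, 33768) (.node (.node (.node (.node (.node .leaf (111594, 0, 16, 70514) .leaf) (111595, 0, 18, 215644) (.node .leaf (111596, 0, 16, 33821) .leaf)) (111597, 0, 16, 173680) (.node (.node .leaf (111602, 0, 17, 226013) .leaf) (111603, 0, 18, 120374) (.node .leaf (111604, 0, 16, 138203) .leaf))) (111605, 0, 14, 16729) (.node (.node (.node .leaf (111610, 0, 17, 87877) .leaf) (111611, 0, 16, 112419) (.node .leaf (111612, 0, 14, 193259) .leaf)) (111613, 0, 16, 56869) (.node (.node .leaf (111617, 0, 16, 55326) .leaf) (111619, 0, 13, 186898) (.node .leaf (111620, 0, 19, 70739) .leaf)))) (111622, 0, 16, 86398) (.node (.node (.node (.node .leaf (111625, 0, 16, 121084) .leaf) (111627, 0, 16, 241059) (.node .leaf (111628, 0, 10, 140483) .leaf)) (111630, 0, 16, 226534) (.node (.node .leaf (111633, 0, 15, 214166) .leaf) (111635, 0, 12,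 44260) (.node .leaf (111636, 0, 16, 162062) .leaf))) (111638, 0, 17, 35543) (.node (.node (.node .leaf (111641, 0, 17, 241162) .leaf) (111643, 0, 18, 120310) (.node .leaf (111644, 0, 18, 231481) .leaf)) (111646, 0, 14, 68787) (.node (.node .leaf (111648, 0, 13, 136772) .leaf) (111650, 0, 15, 130614) (.node .leaf (111653, 0, 15, 143479) .leaf))))))

/-- part of the orbit tree -/
def itp3_205 : Tree := (.node (.node (.node (.node (.node (.node .leaf (111656, 0, 16, 71189) .leaf) (111658, 0, 15, 17968) (.node .leaf (111661, 0, 13, 187115) .leaf)) (111663, 0, 16, 78489) (.node (.node .leaf (111664, 0, 17, 24754) .leaf) (111666, 0, 17, 7165) (.node .leaf (111669, 0, 15, 18049) .leaf))) (111671, 0, 11, 241395) (.node (.node (.node .leaf (111672, 0, 16, 35374) .leaf) (111674, 0, 16, 147045) (.node .leaf (111677, 0, 15, 243461) .leaf)) (111679, 0, 17, 190240) (.node (.node .leaf (111681, 0, 14, 92906) .leaf) (111683, 0, 16, 189117) (.node .leaf (111684, 0, 14, 85209) .leaf)))) (111686, 0, 14, 146424) (.node (.node (.node (.node .leaf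 (111689, 0, 17, 98422) .leaf) (111691, 0, 14, 50981) (.node .leaf (111692, 0, 17, 108101) .leaf)) (111694, 0, 14, 7776) (.node (.node .leaf (111697, 0, 15, 117453) .leaf) (111699, 0, 14, 39656) (.node .leaf (111700, 0, 18, 70536) .leaf))) (111702, 0, 16, 53853) (.node (.node (.node .leaf (111705, 0, 14, 257877) .leaf) (111707, 0, 16, 180080) (.node .leaf (111708, 0, 15, 250035) .leaf)) (111710, 0, 15, 157237) (.node (.node .leaf (111712, 0, 15, 22795) .leaf) (111714, 0, 15, 67886) (.node .leaf (111717, 0, 17, 157949) .leaf))))) (111719, 0, 17, 98447) (.node (.node (.node (.node (.node .leaf (111720, 0, 15, 173138) .leaf) (111722, 0, 14, 208054) (.node .leaf (111725, 0, 14, 164449) .leaf)) (111727, 0, 13, 92691) (.node (.node .leaf (111728, 0, 17, 14392) .leaf) (111730, 0, 13, 225659) (.node .leaf (111733, 0, 17, 7691) .leaf))) (111735, 0, 17, 239678) (.node (.node (.node .leaf (111736, 0, 18, 53924) .leaf) (111738, 0, 16, 87267) (.node .leaf (111741, 0, 13, 56707) .leaf)) (111743, 0, 16, 204005) (.node (.node .leaf (111745,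 0, 16, 164361) .leaf) (111747, 0, 16, 92795) (.node .leaf (111748, 0, 14, 169553) .leaf)))) (111750, 0, 14, 247412) (.node (.node (.node (.node .leaf (111753, 0, 17, 27276) .leaf) (111755, 0, 17, 80553) (.node .leaf (111756, 0, 17, 151206) .leaf)) (111758, 0, 15, 123884) (.node (.node .leaf (111761, 0, 16, 14145) .leaf) (111763, 0, 18, 92004) (.node .leaf (111764, 0, 18, 60932) .leaf))) (111766, 0, 15, 211646) (.node (.node (.node .leaf (111769, 0, 15, 7779) .leaf) (111771, 0, 13, 259601) (.node .leaf (111772, 0, 14, 183196) .leaf)) (111774, 0, 16, 236473) (.node (.node .leaf (111776, 0, 17, 108077) .leaf) (111778, 0, 14, 62626) (.node .leaf (111781, 0, 18, 98334) .leaf))))))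

/-- part of the orbit tree -/
def itp3_206 : Tree := (.node (.node (.node (.node (.node (.node .leaf (111784, 0, 18, 85169) .leaf) (111786, 0, 17, 173251) (.node .leaf (111789, 0, 15, 219226) .leaf)) (111791, 0, 18, 133247) (.node (.node .leaf (111792, 0, 16, 253138) .leaf) (111794, 0, 18, 167159) (.node .leaf (111797, 0, 17, 259816) .leaf))) (111799, 0, 18, 153010) (.node (.node (.node .leaf (111800, 0, 17, 211527) .leaf) (111802, 0, 13, 53813) (.node .leaf (111805, 0, 16, 73743) .leaf)) (111807, 0, 15, 28714) (.node (.node .leaf (111809, 0, 15, 75154) .leaf) (111811, 0, 17, 78577) (.node .leaf (111812, 0, 15, 195760) .leaf)))) (111814, 0, 12, 44274) (.node (.node (.node (.node .leaf (111817, 0, 16, 143391) .leaf) (111819, 0, 15, 151599) (.node .leaf (111820, 0, 12, 136748) .leaf)) (111822, 0, 15, 166250) (.node (.node .leaf (111825, 0, 17, 220615) .leaf) (111827, 0, 17, 214023) (.node .leaf (111828, 0, 16, 35398) .leaf))) (111830, 0, 16, 221748) (.node (.node (.node .leaf (111833, 0, 15, 18153) .leaf) (111835, 0, 12, 10362)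 (.node .leaf (111836, 0, 12, 24794) .leaf)) (111838, 0, 14, 61759) (.node (.node .leaf (111840, 0, 14, 130727) .leaf) (111842, 0, 11, 237092) (.node .leaf (111845, 0, 16, 120980) .leaf))))) (111847, 0, 17, 214881) (.node (.node (.node (.node (.node .leaf (111848, 0, 17, 70715) .leaf) (111850, 0, 16, 195657) (.node .leaf (111853, 0, 12, 13020) .leaf)) (111855, 0, 17, 187002) (.node (.node .leaf (111856, 0, 16, 46676) .leaf) (111858, 0, 15, 24611) (.node .leaf (111861, 0, 16, 241250) .leaf))) (111863, 0, 16, 17936) (.node (.node (.node .leaf (111864, 0, 16, 168908) .leaf) (111866, 0, 17, 35519) (.node .leaf (111869, 0, 14, 150153) .leaf)) (111871, 0, 18, 44172) (.node (.node .leaf (111872, 0, 16, 232621) .leaf) (111874, 0, 13, 182825) (.node .leaf (111877, 0, 15, 240286) .leaf)))) (111879, 0, 13, 17132) (.node (.node (.node (.node .leaf (111880, 0, 15, 114580) .leaf) (111882, 0, 17, 61361) (.node .leaf (111885, 0, 16, 91857) .leaf)) (111887, 0, 17, 43120) (.node (.node .leaf (111888, 0, 16, 123481) .leaf) (111890, 0, 17, 45692)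 (.node .leaf (111893, 0, 19, 121960) .leaf))) (111895, 0, 17, 144410) (.node (.node (.node .leaf (111896, 0, 17, 247745) .leaf) (111898, 0, 19, 194741) (.node .leaf (111901, 0, 14, 204420) .leaf)) (111903, 0, 16, 151201) (.node (.node .leaf (111905, 0, 13, 29087) .leaf) (111907, 0, 16, 213243) (.node .leaf (111908, 0, 15, 43226) .leaf))))))

/-- part of the orbit tree -/
def itp3_207 : Tree := (.node itp3_203 (111525, 0, 18, 256366) itp3_204)

/-- part of the orbit tree -/
def itp3_208 : Tree := (.node itp3_205 (111783, 0, 15, 157804) itp3_206)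

/-- part of the orbit tree -/
def itp3_209 : Tree := (.node (.node (.node (.node (.node (.node .leaf (111913, 0, 16, 16917) .leaf) (111915, 0, 16, 240231) (.node .leaf (111916, 0, 13, 167234) .leaf)) (111918, 0, 18, 253287) (.node (.node .leaf (111921, 0, 17, 188031) .leaf) (111923, 0, 16, 219631) (.node .leaf (111924, 0, 15, 194636) .leaf))) (111926, 0, 18, 69694) (.node (.node (.node .leaf (111929, 0, 15, 11346) .leaf) (111931, 0, 16, 97399) (.node .leaf (111932, 0, 16, 62743) .leaf)) (111934, 0, 14, 107826) (.node (.node .leaf (111936, 0, 14, 61578) .leaf) (111938, 0, 14, 15445) (.node .leaf (111941, 0, 17, 10703) .leaf)))) (111943, 0, 15, 6758) (.node (.node (.node (.node .leaf (111944, 0, 17, 212667) .leaf) (111946, 0, 17, 54985) (.node .leaf (111949, 0, 17, 134231) .leaf)) (111951, 0, 17, 61690) (.node (.node .leaf (111952, 0, 16, 107217) .leaf) (111954, 0, 16, 252154) (.node .leaf (111957, 0, 18, 99554) .leaf))) (111959, 0, 11, 158864) (.node (.node (.node .leaf (111960, 0, 17, 84045) .leaf) (111962, 0, 13, 172095)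 (.node .leaf (111965, 0, 16, 29698) .leaf)) (111967, 0, 11, 74791) (.node (.node .leaf (111969, 0, 16, 203545) .leaf) (111971, 0, 14, 202865) (.node .leaf (111972, 0, 13, 54832) .leaf))))) (111974, 0, 8, 168569) (.node (.node (.node (.node (.node .leaf (111977, 0, 18, 81537) .leaf) (111979, 0, 17, 28324) (.node .leaf (111980, 0, 13, 15532) .leaf)) (111982, 0, 15, 251102) (.node (.node .leaf (111985, 0, 15, 90956) .leaf) (111987, 0, 16, 13161) (.node .leaf (111988, 0, 16, 113161) .leaf))) (111990, 0, 15, 84148) (.node (.node (.node .leaf (111993, 0, 17, 158825) .leaf) (111995, 0, 18, 99355) (.node .leaf (111996, 0, 12, 237457) .leaf)) (111998, 0, 17, 184244) (.node (.node .leaf (112000, 0, 14, 68870) .leaf) (112002, 0, 15, 23843) (.node .leaf (112005, 0, 14, 6903) .leaf)))) (112007, 0, 15, 258693) (.node (.node (.node (.node .leaf (112008, 0, 17, 207006) .leaf) (112010, 0, 18, 212522) (.node .leaf (112013, 0, 15, 258523) .leaf)) (112015, 0, 15, 202777) (.node (.node .leaf (112016, 0, 18, 226643) .leaf) (112018, 0, 17, 107072)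 (.node .leaf (112021, 0, 17, 158721) .leaf))) (112023, 0, 16, 195635) (.node (.node (.node .leaf (112024, 0, 15, 172206) .leaf) (112026, 0, 14, 84188) (.node .leaf (112029, 0, 13, 165533) .leaf)) (112031, 0, 13, 55723) (.node (.node .leaf (112033, 0, 15, 202976) .leaf) (112035, 0, 16, 243376) (.node .leaf (112036, 0, 13, 212691) .leaf))))))

/-- part of the orbit tree -/
def itp3_210 : Tree := (.node (.node (.node (.node (.node (.node .leaf (112041, 0, 19, 258684) .leaf) (112043, 0, 8, 6670) (.node .leaf (112044, 0, 16, 250959) .leaf)) (112046, 0, 17, 84589) (.node (.node .leaf (112049, 0, 15, 40640) .leaf) (112051, 0, 14, 165476) (.node .leaf (112052, 0, 14, 84005) .leaf))) (112054, 0, 15, 172119) (.node (.node (.node .leaf (112057, 0, 17, 179032) .leaf) (112059, 0, 16, 256893) (.node .leaf (112060, 0, 18, 156189) .leaf)) (112062, 0, 11, 150219) (.node (.node .leaf (112064, 0, 17, 157568) .leaf) (112066, 0, 18, 232508) (.node .leaf (112069, 0, 17, 179909) .leaf)))) (112071, 0, 17, 257760) (.node (.node (.node (.node .leaf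 (112072, 0, 15, 16920) .leaf) (112074, 0, 12, 70205) (.node .leaf (112077, 0, 13, 43233) .leaf)) (112079, 0, 15, 213139) (.node (.node .leaf (112080, 0, 12, 135864) .leaf) (112082, 0, 17, 129738) (.node .leaf (112085, 0, 17, 50832) .leaf))) (112087, 0, 15, 122105) (.node (.node (.node .leaf (112088, 0, 16, 145997) .leaf) (112090, 0, 18, 223848) (.node .leaf (112093, 0, 16, 189192) .leaf)) (112095, 0, 15, 242477) (.node (.node .leaf (112097, 0, 16, 101395) .leaf) (112099, 0, 15, 56374) (.node .leaf (112100, 0, 15, 87382) .leaf))))) (112102, 0, 17, 36395) (.node (.node (.node (.node (.node .leaf (112105, 0, 13, 240374) .leaf) (112107, 0, 15, 17028) (.node .leaf (112108, 0, 15, 232645) .leaf)) (112110, 0, 16, 139499) (.node (.node .leaf (112113, 0, 14, 79516) .leaf) (112115, 0, 18, 188142) (.node .leaf (112116, 0, 16, 208131) .leaf))) (112118, 0, 17, 163110) (.node (.node (.node .leaf (112121, 0, 15, 121856) .leaf) (112123, 0, 17, 144498) (.node .leaf (112124, 0, 16, 67739) .leaf)) (112126, 0, 17, 135745) (.node (.node .leaf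 (112128, 0, 13, 224866) .leaf) (112129, 0, 18, 79692) (.node .leaf (112130, 0, 18, 82989) .leaf)))) (112131, 0, 11, 107595) (.node (.node (.node (.node .leaf (112136, 0, 15, 230654) .leaf) (112137, 0, 16, 122320) (.node .leaf (112138, 0, 16, 221621) .leaf)) (112139, 0, 13, 229843) (.node (.node .leaf (112144, 0, 10, 158813) .leaf) (112145, 0, 17, 166971) (.node .leaf (112146, 0, 19, 212088) .leaf))) (112147, 0, 17, 43464) (.node (.node (.node .leaf (112152, 0, 17, 18885) .leaf) (112153, 0, 19, 43427) (.node .leaf (112154, 0, 13, 72160) .leaf)) (112155, 0, 11, 129414) (.node (.node .leaf (112164, 0, 17, 27765) .leaf) (112165, 0, 17, 247480) (.node .leaf (112166, 0, 16, 230407) .leaf))))))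

/-- part of the orbit tree -/
def itp3_211 : Tree := (.node (.node (.node (.node (.node (.node .leaf (112172, 0, 14, 66374) .leaf) (112173, 0, 19, 188359) (.node .leaf (112174, 0, 15, 224923) .leaf)) (112175, 0, 13, 45829) (.node (.node .leaf (112180, 0, 13, 137859) .leaf) (112181, 0, 17, 114413) (.node .leaf (112182, 0, 17, 127729) .leaf))) (112183, 0, 14, 240607) (.node (.node (.node .leaf (112188, 0, 14, 192543) .leaf) (112189, 0, 12, 43313) (.node .leaf (112190, 0, 17, 71789) .leaf)) (112191, 0, 19, 183120) (.node (.node .leaf (112192, 0, 17, 229006) .leaf) (112193, 0, 14, 94150) (.node .leaf (112194, 0, 12, 56986) .leaf)))) (112195, 0, 15, 165812) (.node (.node (.node (.node .leaf (112200, 0, 15, 253044) .leaf) (112201, 0, 18, 99674) (.node .leaf (112202, 0, 17, 2867) .leaf)) (112203, 0, 14, 60245) (.node (.node .leaf (112208, 0, 14, 81950) .leaf) (112209, 0, 15, 203056) (.node .leaf (112210, 0, 13, 174188) .leaf))) (112211, 0, 15, 46744) (.node (.node (.node .leaf (112216, 0, 14, 109186) .leaf) (112217, 0, 16, 246565)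 (.node .leaf (112218, 0, 16, 148208) .leaf)) (112219, 0, 18, 7134) (.node (.node .leaf (112228, 0, 16, 13567) .leaf) (112229, 0, 19, 159185) (.node .leaf (112230, 0, 16, 253069) .leaf))))) (112231, 0, 16, 130075) (.node (.node (.node (.node (.node .leaf (112236, 0, 18, 158144) .leaf) (112237, 0, 18, 165709) (.node .leaf (112238, 0, 17, 210449) .leaf)) (112239, 0, 17, 94015) (.node (.node .leaf (112244, 0, 16, 147977) .leaf) (112245, 0, 15, 6951) (.node .leaf (112246, 0, 17, 222248) .leaf))) (112247, 0, 14, 230478) (.node (.node (.node .leaf (112252, 0, 18, 4501) .leaf) (112253, 0, 16, 61883) (.node .leaf (112254, 0, 14, 82352) .leaf)) (112255, 0, 16, 106966) (.node (.node .leaf (112256, 0, 15, 56843) .leaf) (112257, 0, 18, 156516) (.node .leaf (112258, 0, 17, 250663) .leaf)))) (112259, 0, 17, 94039) (.node (.node (.node (.node .leaf (112264, 0, 17, 13463) .leaf) (112265, 0, 17, 159161) (.node .leaf (112266, 0, 14, 128703) .leaf)) (112267, 0, 16, 99787) (.node (.node .leaf (112272, 0, 17, 174333) .leaf) (112273, 0, 12, 6961)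 (.node .leaf (112274, 0, 17, 109426) .leaf))) (112275, 0, 14, 84756) (.node (.node (.node .leaf (112280, 0, 16, 148065) .leaf) (112281, 0, 15, 6991) (.node .leaf (112282, 0, 16, 109075) .leaf)) (112283, 0, 19, 258877) (.node (.node .leaf (112292, 0, 17, 252956) .leaf) (112293, 0, 14, 86450) (.node .leaf (112294, 0, 15, 13422) .leaf))))))

/-- part of the orbit tree -/
def itp3_212 : Tree := (.node (.node (.node (.node (.node (.node .leaf (112300, 0, 16, 234572) .leaf) (112301, 0, 15, 226346) (.node .leaf (112302, 0, 15, 57074) .leaf)) (112303, 0, 17, 165852) (.node (.node .leaf (112308, 0, 15, 109290) .leaf) (112309, 0, 17, 207335) (.node .leaf (112310, 0, 14, 170404) .leaf))) (112311, 0, 16, 162242) (.node (.node (.node .leaf (112316, 0, 14, 125977) .leaf) (112317, 0, 14, 68735) (.node .leaf (112318, 0, 15, 48188) .leaf)) (112319, 0, 16, 23642) (.node (.node .leaf (112320, 0, 15, 125316) .leaf) (112321, 0, 16, 68066) (.node .leaf (112322, 0, 17, 225011) .leaf)))) (112323, 0, 18, 22983) (.node (.node (.node (.node .leaf (112328,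 0, 18, 27677) .leaf) (112329, 0, 15, 207994) (.node .leaf (112330, 0, 15, 171065) .leaf)) (112331, 0, 15, 162911) (.node (.node .leaf (112336, 0, 16, 192631) .leaf) (112337, 0, 14, 225719) (.node .leaf (112338, 0, 18, 180724) .leaf))) (112339, 0, 17, 213291) (.node (.node (.node .leaf (112344, 0, 16, 137963) .leaf) (112345, 0, 17, 87087) (.node .leaf (112346, 0, 17, 127641) .leaf)) (112347, 0, 12, 1034) (.node (.node .leaf (112356, 0, 10, 230550) .leaf) (112357, 0, 13, 146228) (.node .leaf (112358, 0, 16, 27876) .leaf))))) (112359, 0, 16, 144842) (.node (.node (.node (.node (.node .leaf (112364, 0, 16, 65226) .leaf) (112365, 0, 18, 79652) (.node .leaf (112366, 0, 18, 110319) .leaf)) (112367, 0, 16, 85641) (.node (.node .leaf (112372, 0, 16, 41735) .leaf) (112373, 0, 15, 17249) (.node .leaf (112374, 0, 14, 137746) .leaf))) (112375, 0, 15, 70468) (.node (.node (.node .leaf (112380, 0, 17, 71932) .leaf) (112381, 0, 17, 213458) (.node .leaf (112382, 0, 17, 192654) .leaf)) (112383, 0, 17, 43424) (.node (.node .leaf (112388, 0,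 15, 233311) .leaf) (112389, 0, 16, 225081) (.node .leaf (112390, 0, 12, 138990) .leaf)))) (112391, 0, 16, 18368) (.node (.node (.node (.node .leaf (112396, 0, 17, 109255) .leaf) (112397, 0, 16, 84641) (.node .leaf (112398, 0, 16, 64226) .leaf)) (112399, 0, 17, 6788) (.node (.node .leaf (112404, 0, 14, 229482) .leaf) (112405, 0, 17, 71532) (.node .leaf (112406, 0, 16, 42799) .leaf))) (112407, 0, 17, 18249) (.node (.node (.node .leaf (112412, 0, 16, 223990) .leaf) (112413, 0, 15, 78808) (.node .leaf (112414, 0, 17, 164535) .leaf)) (112415, 0, 18, 156369) (.node (.node .leaf (112416, 0, 13, 193675) .leaf) (112417, 0, 19, 24047) .leaf)))))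

/-- part of the orbit tree -/
def itp3_213 : Tree := (.node itp3_209 (112038, 0, 14, 54945) itp3_210)

/-- part of the orbit tree -/
def itp3_214 : Tree := (.node itp3_211 (112295, 0, 17, 159040) itp3_212)

/-- part of the orbit tree -/
def itp3_215 : Tree := (.node itp3_207 (111655, 0, 18, 178925) itp3_208)

/-- part of the orbit tree -/
def itp3_216 : Tree := (.node itp3_213 (112167, 0, 14, 122153) itp3_214)

/-- part of the orbit tree -/
def itp3_217 : Tree := (.node itp3_201 (110888, 0, 16, 241353) itp3_202)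

/-- part of the orbit tree -/
def itp3_218 : Tree := (.node itp3_215 (111910, 0, 19, 222920) itp3_216)

/-- part of the orbit tree -/
def itp3_219 : Tree := (.node (.node (.node (.node (.node (.node .leaf (112419, 0, 15, 214487) .leaf) (112424, 0, 12, 138775) (.node .leaf (112425, 0, 17, 161911) .leaf)) (112426, 0, 16, 247860) (.node (.node .leaf (112427, 0, 18, 206930) .leaf) (112432, 0, 18, 33405) (.node .leaf (112433, 0, 16, 140730) .leaf))) (112434, 0, 17, 223759) (.node (.node (.node .leaf (112435, 0, 16, 78625) .leaf) (112440, 0, 14, 26849) (.node .leaf (112441, 0, 16, 143823) .leaf)) (112442, 0, 17, 229523) (.node (.node .leaf (112443, 0, 14, 121277) .leaf) (112452, 0, 14, 110102) (.node .leaf (112453, 0, 16, 259896) .leaf)))) (112454, 0, 17, 149092) (.node (.node (.node (.node .leaf (112455, 0, 16, 87450) .leaf) (112460, 0, 12, 83082) (.node .leaf (112461, 0, 16, 139303) .leaf)) (112462, 0, 16, 175352) (.node (.node .leaf (112463, 0, 17, 225282) .leaf) (112468, 0, 17, 252128) (.node .leaf (112469, 0, 15, 98766) .leaf)))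 (112470, 0, 14, 12434) (.node (.node (.node .leaf (112471, 0, 16, 158140) .leaf) (112476, 0, 15, 209532) (.node .leaf (112477, 0, 13, 22642) .leaf)) (112478, 0, 17, 124977) (.node (.node .leaf (112479, 0, 16, 67671) .leaf) (112480, 0, 15, 175105) (.node .leaf (112481, 0, 13, 62767) .leaf))))) (112482, 0, 15, 83059) (.node (.node (.node (.node (.node .leaf (112483, 0, 16, 157516) .leaf) (112488, 0, 16, 127639) (.node .leaf (112489, 0, 15, 70385) .leaf)) (112490, 0, 18, 110319) (.node (.node .leaf (112491, 0, 17, 260033) .leaf) (112496, 0, 18, 56055) (.node .leaf (112497, 0, 15, 164825) .leaf))) (112498, 0, 15, 65407) (.node (.node (.node .leaf (112499, 0, 16, 7961) .leaf) (112504, 0, 17, 232130) (.node .leaf (112505, 0, 17, 158021) .leaf)) (112506, 0, 16, 187111) (.node (.node .leaf (112507, 0, 19, 98615) .leaf) (112516, 0, 15, 71765) (.node .leaf (112517, 0, 17, 8155) .leaf)))) (112518, 0, 18, 110215) (.node (.node (.node (.node .leaf (112519, 0, 15, 43030) .leaf) (112524, 0, 17, 212429) (.node .leaf (112525, 0, 17, 62791)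 .leaf)) (112526, 0, 17, 82971) (.node (.node .leaf (112527, 0, 18, 204085) .leaf) (112532, 0, 16, 12291) (.node .leaf (112533, 0, 17, 229478) .leaf))) (112534, 0, 17, 252017) (.node (.node (.node .leaf (112535, 0, 17, 184387) .leaf) (112540, 0, 13, 83352) (.node .leaf (112541, 0, 18, 108030) .leaf)) (112542, 0, 16, 209645) (.node (.node .leaf (112543, 0, 15, 62939) .leaf) (112544, 0, 16, 83170) (.node .leaf (112545, 0, 16, 204236) .leaf))))))

/-- part of the orbit tree -/
def itp3_220 : Tree := (.node (.node (.node (.node (.node (.node .leaf (112547, 0, 16, 236224) .leaf) (112552, 0, 17, 110206) (.node .leaf (112553, 0, 15, 61309) .leaf)) (112554, 0, 16, 149004) (.node (.node .leaf (112555, 0, 18, 114520) .leaf) (112560, 0, 15, 21206) (.node .leaf (112561, 0, 13, 92986) .leaf))) (112562, 0, 13, 55910) (.node (.node (.node .leaf (112563, 0, 18, 123541) .leaf) (112568, 0, 16, 161614) (.node .leaf (112569, 0, 18, 98726) .leaf)) (112570, 0, 17, 12538) (.node (.node .leaf (112571, 0, 14, 247565) .leaf) (112580, 0, 11, 138879)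 (.node .leaf (112581, 0, 15, 168629) .leaf)))) (112582, 0, 18, 205558) (.node (.node (.node (.node .leaf (112583, 0, 15, 246416) .leaf) (112588, 0, 15, 22347) (.node .leaf (112589, 0, 14, 44493) .leaf)) (112590, 0, 16, 67438) (.node (.node .leaf (112591, 0, 16, 214463) .leaf) (112596, 0, 17, 2694) (.node .leaf (112597, 0, 17, 143783) .leaf))) (112598, 0, 17, 229627) (.node (.node (.node .leaf (112599, 0, 10, 113349) .leaf) (112604, 0, 16, 33301) (.node .leaf (112605, 0, 14, 184184) .leaf)) (112606, 0, 15, 223847) (.node (.node .leaf (112607, 0, 18, 237405) .leaf) (112608, 0, 18, 81925) (.node .leaf (112609, 0, 18, 106595) .leaf))))) (112610, 0, 14, 4128) (.node (.node (.node (.node (.node .leaf (112611, 0, 15, 44340) .leaf) (112616, 0, 16, 222621) (.node .leaf (112617, 0, 13, 230907) .leaf)) (112618, 0, 15, 138886) (.node (.node .leaf (112619, 0, 14, 18344) .leaf) (112624, 0, 16, 211024) (.node .leaf (112625, 0, 13, 251958) .leaf))) (112626, 0, 14, 157813) (.node (.node (.node .leaf (112627, 0, 18, 165907) .leaf) (112632,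 0, 16, 229378) (.node .leaf (112633, 0, 13, 130478) .leaf)) (112634, 0, 16, 26736) (.node (.node .leaf (112635, 0, 18, 143710) .leaf) (112641, 0, 16, 162475) (.node .leaf (112642, 0, 15, 248823) .leaf)))) (112645, 0, 16, 1462) (.node (.node (.node (.node .leaf (112646, 0, 16, 144842) .leaf) (112649, 0, 17, 167991) (.node .leaf (112650, 0, 16, 205163) .leaf)) (112653, 0, 14, 106513) (.node (.node .leaf (112654, 0, 14, 89718) .leaf) (112657, 0, 16, 3165) (.node .leaf (112658, 0, 17, 29884) .leaf))) (112661, 0, 17, 160576) (.node (.node (.node .leaf (112662, 0, 15, 19871) .leaf) (112665, 0, 18, 59073) (.node .leaf (112666, 0, 16, 151844) .leaf)) (112669, 0, 17, 251972) (.node (.node .leaf (112670, 0, 15, 157703) .leaf) (112672, 0, 10, 22329) (.node .leaf (112675, 0, 17, 124794) .leaf))))))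

/-- part of the orbit tree -/
def itp3_221 : Tree := (.node (.node (.node (.node (.node (.node .leaf (112679, 0, 12, 122457) .leaf) (112680, 0, 13, 111635) (.node .leaf (112683, 0, 16, 246498) .leaf)) (112684, 0, 17, 248590) (.node (.node .leaf (112687, 0, 11, 162386) .leaf) (112688, 0, 15, 206969) (.node .leaf (112691, 0, 17, 170277) .leaf))) (112692, 0, 16, 136783) (.node (.node (.node .leaf (112695, 0, 16, 239116) .leaf) (112696, 0, 16, 246501) (.node .leaf (112699, 0, 18, 160697) .leaf)) (112700, 0, 16, 13271) (.node (.node .leaf (112703, 0, 13, 99220) .leaf) (112705, 0, 12, 139809) (.node .leaf (112706, 0, 15, 91759) .leaf)))) (112709, 0, 16, 23868) (.node (.node (.node (.node .leaf (112710, 0, 16, 126048) .leaf) (112713, 0, 15, 193460) (.node .leaf (112714, 0, 18, 214007) .leaf)) (112717, 0, 17, 47008) (.node (.node .leaf (112718, 0, 18, 67324) .leaf) (112721, 0, 16, 175737) (.node .leaf (112722, 0, 16, 124299) .leaf))) (112725, 0, 16, 169818) (.node (.node (.node .leaf (112726, 0, 11, 206617) .leaf) (112729, 0, 13,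 48715) (.node .leaf (112730, 0, 9, 80802) .leaf)) (112733, 0, 17, 180566) (.node (.node .leaf (112734, 0, 16, 225290) .leaf) (112736, 0, 16, 212415) (.node .leaf (112739, 0, 16, 46937) .leaf))))) (112740, 0, 15, 227608) (.node (.node (.node (.node (.node .leaf (112743, 0, 18, 177375) .leaf) (112744, 0, 18, 126105) (.node .leaf (112747, 0, 13, 24005) .leaf)) (112748, 0, 17, 73988) (.node (.node .leaf (112751, 0, 17, 139992) .leaf) (112752, 0, 13, 225523) (.node .leaf (112755, 0, 17, 62889) .leaf))) (112756, 0, 15, 97481) (.node (.node (.node .leaf (112759, 0, 17, 52362) .leaf) (112760, 0, 18, 236143) (.node .leaf (112763, 0, 15, 184369) .leaf)) (112764, 0, 16, 124274) (.node (.node .leaf (112767, 0, 16, 190738) .leaf) (112769, 0, 18, 117442) (.node .leaf (112770, 0, 13, 39907) .leaf)))) (112773, 0, 16, 70275) (.node (.node (.node (.node .leaf (112774, 0, 15, 132227) .leaf) (112777, 0, 17, 73822) (.node .leaf (112778, 0, 16, 179835) .leaf)) (112781, 0, 16, 220995) (.node (.node .leaf (112782, 0, 12, 192031) .leaf) (112785,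 0, 16, 244788) (.node .leaf (112786, 0, 16, 134504) .leaf))) (112789, 0, 13, 223958) (.node (.node (.node .leaf (112790, 0, 17, 29301) .leaf) (112793, 0, 18, 95853) (.node .leaf (112794, 0, 17, 50734) .leaf)) (112797, 0, 15, 85838) (.node (.node .leaf (112798, 0, 14, 39145) .leaf) (112800, 0, 16, 180275) (.node .leaf (112803, 0, 16, 221114) .leaf))))))

/-- part of the orbit tree -/
def itp3_222 : Tree := (.node (.node (.node (.node (.node (.node .leaf (112807, 0, 16, 73895) .leaf) (112808, 0, 16, 58795) (.node .leaf (112811, 0, 14, 87528) .leaf)) (112812, 0, 16, 56456) (.node (.node .leaf (112815, 0, 17, 117307) .leaf) (112816, 0, 16, 47206) (.node .leaf (112819, 0, 18, 76108) .leaf))) (112820, 0, 13, 33093) (.node (.node (.node .leaf (112823, 0, 16, 218705) .leaf) (112824, 0, 15, 171518) (.node .leaf (112827, 0, 5, 115664) .leaf)) (112828, 0, 17, 134545) (.node (.node .leaf (112831, 0, 15, 201886) .leaf) (112833, 0, 17, 102984) (.node .leaf (112834, 0, 15, 258405) .leaf)))) (112837, 0, 17, 257365) (.node (.node (.node (.node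 .leaf (112838, 0, 17, 154633) .leaf) (112841, 0, 16, 25790) (.node .leaf (112842, 0, 12, 120061) .leaf)) (112845, 0, 15, 23965) (.node (.node .leaf (112846, 0, 16, 126430) .leaf) (112849, 0, 12, 14707) (.node .leaf (112850, 0, 16, 100656) .leaf))) (112853, 0, 16, 80) (.node (.node (.node .leaf (112854, 0, 16, 11007) .leaf) (112857, 0, 13, 200226) (.node .leaf (112858, 0, 15, 180094) .leaf)) (112861, 0, 16, 140744) (.node (.node .leaf (112862, 0, 14, 49251) .leaf) (112864, 0, 16, 109237) (.node .leaf (112867, 0, 13, 198448) .leaf))))) (112868, 0, 12, 51569) (.node (.node (.node (.node (.node .leaf (112871, 0, 16, 96301) .leaf) (112872, 0, 16, 233261) (.node .leaf (112875, 0, 17, 147310) .leaf)) (112876, 0, 15, 9197) (.node (.node .leaf (112879, 0, 9, 132685) .leaf) (112880, 0, 17, 250592) (.node .leaf (112883, 0, 18, 156323) .leaf))) (112884, 0, 17, 256963) (.node (.node (.node .leaf (112887, 0, 17, 200411) .leaf) (112888, 0, 17, 10758) (.node .leaf (112891, 0, 17, 105306) .leaf)) (112892, 0, 16, 118363) (.node (.node .leaf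 (112895, 0, 16, 255047) .leaf) (112896, 0, 16, 50278) (.node .leaf (112899, 0, 16, 95546) .leaf)))) (112900, 0, 13, 51099) (.node (.node (.node (.node .leaf (112903, 0, 16, 96216) .leaf) (112904, 0, 17, 187168) (.node .leaf (112907, 0, 16, 106406) .leaf)) (112908, 0, 14, 152039) (.node (.node .leaf (112911, 0, 16, 254139) .leaf) (112912, 0, 17, 165613) (.node .leaf (112915, 0, 18, 210606) .leaf))) (112916, 0, 17, 180174) (.node (.node (.node .leaf (112919, 0, 15, 200589) .leaf) (112920, 0, 14, 153612) (.node .leaf (112923, 0, 18, 256336) .leaf)) (112924, 0, 12, 39510) (.node (.node .leaf (112927, 0, 17, 76309) .leaf) (112929, 0, 13, 254018) (.node .leaf (112930, 0, 13, 173416) .leaf))))))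

/-- part of the orbit tree -/
def itp3_223 : Tree := (.node itp3_219 (112546, 0, 15, 228006) itp3_220)

/-- part of the orbit tree -/
def itp3_224 : Tree := (.node itp3_221 (112804, 0, 17, 37371) itp3_222)

/-- part of the orbit tree -/
def itp3_225 : Tree := (.node (.node (.node (.node (.node (.node .leaf (112934, 0, 18, 11779) .leaf) (112937, 0, 16, 199390) (.node .leaf (112938, 0, 19, 33008) .leaf)) (112941, 0, 18, 95683) (.node (.node .leaf (112942, 0, 17, 47571) .leaf) (112945, 0, 18, 104116) (.node .leaf (112946, 0, 17, 10216) .leaf))) (112949, 0, 13, 87133) (.node (.node (.node .leaf (112950, 0, 16, 58398) .leaf) (112953, 0, 16, 97320) (.node .leaf (112954, 0, 19, 194725) .leaf)) (112957, 0, 16, 225733) (.node (.node .leaf (112958, 0, 17, 180614) .leaf) (112960, 0, 18, 234558) (.node .leaf (112963, 0, 16, 140413) .leaf)))) (112964, 0, 16, 189425) (.node (.node (.node (.node .leaf (112967, 0, 13, 138590) .leaf) (112968, 0, 18, 111014) (.node .leaf (112971, 0, 16, 116524) .leaf)) (112972, 0, 14, 133485) (.node (.node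 .leaf (112975, 0, 17, 243761) .leaf) (112976, 0, 15, 191002) (.node .leaf (112979, 0, 15, 23592) .leaf))) (112980, 0, 17, 120136) (.node (.node (.node .leaf (112983, 0, 16, 74843) .leaf) (112984, 0, 14, 248307) (.node .leaf (112987, 0, 14, 242138) .leaf)) (112988, 0, 14, 258256) (.node (.node .leaf (112991, 0, 15, 118471) .leaf) (112993, 0, 16, 32685) (.node .leaf (112994, 0, 18, 133524) .leaf))))) (112997, 0, 16, 18062) (.node (.node (.node (.node (.node .leaf (112998, 0, 16, 128717) .leaf) (113001, 0, 12, 154165) (.node .leaf (113002, 0, 13, 256630) .leaf)) (113005, 0, 16, 77129) (.node (.node .leaf (113006, 0, 17, 250709) .leaf) (113009, 0, 13, 118334) (.node .leaf (113010, 0, 15, 32610) .leaf))) (113013, 0, 13, 147163) (.node (.node (.node .leaf (113014, 0, 15, 131199) .leaf) (113017, 0, 16, 8800) (.node .leaf (113018, 0, 18, 102947) .leaf)) (113021, 0, 17, 6979) (.node (.node .leaf (113022, 0, 15, 191203) .leaf) (113024, 0, 15, 158130) (.node .leaf (113027, 0, 14, 252401) .leaf)))) (113028, 0, 15, 151697) (.node (.node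 (.node (.node .leaf (113031, 0, 16, 254162) .leaf) (113032, 0, 18, 237203) (.node .leaf (113035, 0, 15, 130153) .leaf)) (113036, 0, 17, 123278) (.node (.node .leaf (113039, 0, 15, 116042) .leaf) (113040, 0, 18, 66297) (.node .leaf (113043, 0, 17, 45989) .leaf))) (113044, 0, 15, 228836) (.node (.node (.node .leaf (113047, 0, 17, 104583) .leaf) (113048, 0, 16, 125029) (.node .leaf (113051, 0, 17, 230460) .leaf)) (113052, 0, 17, 235384) (.node (.node .leaf (113055, 0, 18, 245023) .leaf) (113057, 0, 18, 98849) (.node .leaf (113058, 0, 17, 12898) .leaf))))))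

/-- part of the orbit tree -/
def itp3_226 : Tree := (.node (.node (.node (.node (.node (.node .leaf (113062, 0, 15, 237162) .leaf) (113065, 0, 16, 47799) (.node .leaf (113066, 0, 15, 137210) .leaf)) (113069, 0, 16, 237210) (.node (.node .leaf (113070, 0, 16, 143065) .leaf) (113073, 0, 13, 141021) (.node .leaf (113074, 0, 13, 235393) .leaf))) (113077, 0, 16, 22976) (.node (.node (.node .leaf (113078, 0, 15, 125084) .leaf) (113081, 0, 16, 183361) (.node .leaf (113082, 0, 17, 228637) .leaf)) (113085, 0, 18, 45916) (.node (.node .leaf (113086, 0, 18, 22156) .leaf) (113088, 0, 15, 208005) (.node .leaf (113091, 0, 13, 171481) .leaf)))) (113092, 0, 16, 86936) (.node (.node (.node (.node .leaf (113095, 0, 15, 58052) .leaf) (113096, 0, 15, 247321) (.node .leaf (113099, 0, 17, 161605) .leaf)) (113100, 0, 14, 112900) (.node (.node .leaf (113103, 0, 16, 176076) .leaf) (113104, 0, 17, 228193) (.node .leaf (113107, 0, 16, 60207) .leaf))) (113108, 0, 15, 213570) (.node (.node (.node .leaf (113111, 0, 15, 169010) .leaf) (113112, 0, 18,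 89849) (.node .leaf (113115, 0, 11, 435) .leaf)) (113116, 0, 18, 92122) (.node (.node .leaf (113119, 0, 18, 55193) .leaf) (113121, 0, 18, 190631) (.node .leaf (113122, 0, 12, 113149) .leaf))))) (113125, 0, 14, 184708) (.node (.node (.node (.node (.node .leaf (113126, 0, 17, 247520) .leaf) (113129, 0, 16, 57917) (.node .leaf (113130, 0, 16, 97660) .leaf)) (113133, 0, 16, 62492) (.node (.node .leaf (113134, 0, 18, 83039) .leaf) (113137, 0, 17, 37106) (.node .leaf (113138, 0, 17, 73905) .leaf))) (113141, 0, 15, 43473) (.node (.node (.node .leaf (113142, 0, 17, 110614) .leaf) (113145, 0, 13, 169163) (.node .leaf (113146, 0, 17, 206231) .leaf)) (113149, 0, 11, 60374) (.node (.node .leaf (113150, 0, 13, 88714) .leaf) (113152, 0, 19, 9897) (.node .leaf (113153, 0, 15, 233690) .leaf)))) (113156, 0, 15, 154036) (.node (.node (.node (.node .leaf (113157, 0, 14, 240121) .leaf) (113160, 0, 16, 52277) (.node .leaf (113161, 0, 15, 111938) .leaf)) (113164, 0, 16, 93191) (.node (.node .leaf (113165, 0, 16, 59910) .leaf) (113168, 0, 16, 151647)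 (.node .leaf (113169, 0, 17, 2417) .leaf))) (113172, 0, 12, 78282) (.node (.node (.node .leaf (113173, 0, 16, 161388) .leaf) (113176, 0, 18, 178883) (.node .leaf (113177, 0, 17, 249111) .leaf)) (113180, 0, 14, 50654) (.node (.node .leaf (113181, 0, 17, 171248) .leaf) (113186, 0, 16, 177105) (.node .leaf (113187, 0, 18, 60159) .leaf))))))

/-- part of the orbit tree -/
def itp3_227 : Tree := (.node (.node (.node (.node (.node (.node .leaf (113191, 0, 18, 127529) .leaf) (113194, 0, 16, 153933) (.node .leaf (113195, 0, 14, 99) .leaf)) (113198, 0, 16, 9808) (.node (.node .leaf (113199, 0, 14, 163710) .leaf) (113202, 0, 15, 50471) (.node .leaf (113203, 0, 16, 171017) .leaf))) (113206, 0, 16, 178746) (.node (.node (.node .leaf (113207, 0, 18, 232060) .leaf) (113210, 0, 18, 12219) (.node .leaf (113211, 0, 14, 104135) .leaf)) (113214, 0, 16, 151718) (.node (.node .leaf (113215, 0, 16, 2440) .leaf) (113216, 0, 15, 32291) (.node .leaf (113217, 0, 15, 64092) .leaf)))) (113220, 0, 17, 131390) (.node (.node (.node (.node .leaf (113221,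 0, 16, 50047) .leaf) (113224, 0, 18, 147362) (.node .leaf (113225, 0, 16, 183697) .leaf)) (113228, 0, 17, 132737) (.node (.node .leaf (113229, 0, 13, 45708) .leaf) (113232, 0, 16, 156271) (.node .leaf (113233, 0, 16, 164361) .leaf))) (113236, 0, 15, 154444) (.node (.node (.node .leaf (113237, 0, 14, 178986) .leaf) (113240, 0, 17, 18423) (.node .leaf (113241, 0, 18, 47975) .leaf)) (113244, 0, 18, 32468) (.node (.node .leaf (113245, 0, 14, 40626) .leaf) (113250, 0, 17, 147946) (.node .leaf (113251, 0, 15, 45685) .leaf))))) (113254, 0, 15, 161993) (.node (.node (.node (.node (.node .leaf (113255, 0, 18, 183656) .leaf) (113258, 0, 15, 25714) (.node .leaf (113259, 0, 15, 22761) .leaf)) (113262, 0, 17, 23889) (.node (.node .leaf (113263, 0, 16, 141300) .leaf) (113266, 0, 17, 40365) (.node .leaf (113267, 0, 16, 55769) .leaf))) (113270, 0, 17, 156) (.node (.node (.node .leaf (113271, 0, 15, 48030) .leaf) (113274, 0, 14, 138279) (.node .leaf (113275, 0, 16, 142879) .leaf)) (113278, 0, 14, 133164) (.node (.node .leaf (113279, 0, 14,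 181602) .leaf) (113280, 0, 16, 124854) (.node .leaf (113281, 0, 18, 118766) .leaf)))) (113284, 0, 15, 122517) (.node (.node (.node (.node .leaf (113285, 0, 18, 81651) .leaf) (113288, 0, 17, 246318) (.node .leaf (113289, 0, 15, 75122) .leaf)) (113292, 0, 17, 260877) (.node (.node .leaf (113293, 0, 15, 219759) .leaf) (113296, 0, 18, 122934) (.node .leaf (113297, 0, 17, 229253) .leaf))) (113300, 0, 16, 237355) (.node (.node (.node .leaf (113301, 0, 16, 116229) .leaf) (113304, 0, 15, 68266) (.node .leaf (113305, 0, 15, 217988) .leaf)) (113308, 0, 13, 226743) (.node (.node .leaf (113309, 0, 17, 76953) .leaf) (113314, 0, 17, 66488) (.node .leaf (113315, 0, 18, 220160) .leaf))))))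

/-- part of the orbit tree -/
def itp3_228 : Tree := (.node (.node (.node (.node (.node (.node .leaf (113319, 0, 15, 222499) .leaf) (113322, 0, 17, 104958) (.node .leaf (113323, 0, 15, 241674) .leaf)) (113326, 0, 18, 235065) (.node (.node .leaf (113327, 0, 16, 82107) .leaf) (113330, 0, 17, 226638) (.node .leaf (113331, 0, 18, 76896) .leaf))) (113334, 0, 17, 68179) (.node (.node (.node .leaf (113335, 0, 18, 217981) .leaf) (113338, 0, 14, 254379) (.node .leaf (113339, 0, 17, 197069) .leaf)) (113342, 0, 18, 252040) (.node (.node .leaf (113343, 0, 18, 244193) .leaf) (113344, 0, 16, 249418) (.node .leaf (113345, 0, 15, 159062) .leaf)))) (113348, 0, 17, 177171) (.node (.node (.node (.node .leaf (113349, 0, 9, 152693) .leaf) (113352, 0, 16, 43176) (.node .leaf (113353, 0, 17, 97784) .leaf)) (113356, 0, 16, 37259) (.node (.node .leaf (113357, 0, 17, 29165) .leaf) (113360, 0, 18, 112828) (.node .leaf (113361, 0, 17, 254354) .leaf))) (113364, 0, 17, 247713) (.node (.node (.node .leaf (113365, 0, 18, 11296) .leaf) (113368, 0, 16, 184573)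 (.node .leaf (113369, 0, 14, 199438) .leaf)) (113372, 0, 13, 190942) (.node (.node .leaf (113373, 0, 17, 133560) .leaf) (113378, 0, 16, 88882) (.node .leaf (113379, 0, 17, 13958) .leaf))))) (113382, 0, 18, 61379) (.node (.node (.node (.node (.node .leaf (113383, 0, 18, 4005) .leaf) (113386, 0, 15, 193400) (.node .leaf (113387, 0, 15, 135966) .leaf)) (113390, 0, 18, 182875) (.node (.node .leaf (113391, 0, 16, 141885) .leaf) (113394, 0, 12, 208324) (.node .leaf (113395, 0, 16, 95466) .leaf))) (113398, 0, 16, 169878) (.node (.node (.node .leaf (113399, 0, 16, 161776) .leaf) (113402, 0, 12, 35629) (.node .leaf (113403, 0, 16, 106102) .leaf)) (113406, 0, 16, 45582) (.node (.node .leaf (113407, 0, 18, 254315) .leaf) (113410, 0, 15, 99053) (.node .leaf (113411, 0, 14, 94230) .leaf)))) (113414, 0, 17, 113614) (.node (.node (.node (.node .leaf (113415, 0, 17, 89000) .leaf) (113418, 0, 16, 239477) (.node .leaf (113419, 0, 14, 214803) .leaf)) (113422, 0, 16, 113849) (.node (.node .leaf (113423, 0, 14, 228912) .leaf) (113426, 0, 17,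 90062) (.node .leaf (113427, 0, 18, 203486) .leaf))) (113430, 0, 18, 205011) (.node (.node (.node .leaf (113431, 0, 16, 205821) .leaf) (113434, 0, 17, 111954) (.node .leaf (113435, 0, 17, 81734) .leaf)) (113438, 0, 17, 124419) (.node (.node .leaf (113439, 0, 15, 103265) .leaf) (113440, 0, 14, 113728) .leaf)))))

/-- part of the orbit tree -/
def itp3_229 : Tree := (.node itp3_225 (113061, 0, 16, 113410) itp3_226)

/-- part of the orbit tree -/
def itp3_230 : Tree := (.node itp3_227 (113318, 0, 17, 228517) itp3_228)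

/-- part of the orbit tree -/
def itp3_231 : Tree := (.node itp3_223 (112676, 0, 18, 205202) itp3_224)

/-- part of the orbit tree -/
def itp3_232 : Tree := (.node itp3_229 (113190, 0, 17, 52428) itp3_230)

/-- part of the orbit tree -/
def itp3_233 : Tree := (.node (.node (.node (.node (.node (.node .leaf (113444, 0, 15, 253982) .leaf) (113445, 0, 15, 196728) (.node .leaf (113448, 0, 16, 87772) .leaf)) (113449, 0, 13, 72899) (.node (.node .leaf (113452, 0, 16, 116102) .leaf) (113453, 0, 13, 94447) (.node .leaf (113456, 0, 16, 248502) .leaf))) (113457, 0, 10, 82190) (.node (.node (.node .leaf (113460, 0, 9, 112043) .leaf) (113461, 0, 16, 96301) (.node .leaf (113464, 0, 14, 230640) .leaf)) (113465, 0, 13, 222358) (.node (.node .leaf (113468, 0, 13, 245203) .leaf) (113469, 0, 18, 198169) (.node .leaf (113474, 0, 16, 225714) .leaf)))) (113475, 0, 16, 133133) (.node (.node (.node (.node .leaf (113478, 0, 16, 69295) .leaf) (113479, 0, 17, 219009) (.node .leaf (113482, 0, 15, 236334) .leaf)) (113483, 0, 18, 11669) (.node (.node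 .leaf (113486, 0, 17, 123955) .leaf) (113487, 0, 17, 245021) (.node .leaf (113490, 0, 10, 36926) .leaf))) (113491, 0, 15, 220778) (.node (.node (.node .leaf (113494, 0, 17, 227417) .leaf) (113495, 0, 15, 18811) (.node .leaf (113498, 0, 17, 126424) .leaf)) (113499, 0, 12, 242934) (.node (.node .leaf (113502, 0, 16, 234181) .leaf) (113503, 0, 16, 158947) (.node .leaf (113504, 0, 15, 46011) .leaf))))) (113505, 0, 12, 21469) (.node (.node (.node (.node (.node .leaf (113508, 0, 16, 35480) .leaf) (113509, 0, 17, 27390) (.node .leaf (113512, 0, 18, 169507) .leaf)) (113513, 0, 12, 219000) (.node (.node .leaf (113516, 0, 15, 175872) .leaf) (113517, 0, 18, 75877) (.node .leaf (113520, 0, 17, 183278) .leaf))) (113521, 0, 16, 117522) (.node (.node (.node .leaf (113524, 0, 15, 193229) .leaf) (113525, 0, 17, 135851) (.node .leaf (113528, 0, 17, 227488) .leaf)) (113529, 0, 14, 3600) (.node (.node .leaf (113532, 0, 17, 67517) .leaf) (113533, 0, 16, 220819) (.node .leaf (113538, 0, 16, 39249) .leaf)))) (113539, 0, 16, 180351) (.node (.node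 (.node (.node .leaf (113542, 0, 16, 208068) .leaf) (113543, 0, 14, 48994) (.node .leaf (113546, 0, 15, 29645) .leaf)) (113547, 0, 15, 118809) (.node (.node .leaf (113550, 0, 16, 134352) .leaf) (113551, 0, 13, 22014) (.node .leaf (113554, 0, 17, 192423) .leaf))) (113555, 0, 17, 46729) (.node (.node (.node .leaf (113558, 0, 15, 87185) .leaf) (113559, 0, 17, 111863) (.node .leaf (113562, 0, 15, 132411) .leaf)) (113563, 0, 17, 239692) (.node (.node .leaf (113566, 0, 9, 225545) .leaf) (113567, 0, 17, 233839) (.node .leaf (113568, 0, 13, 134185) .leaf))))))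

/-- part of the orbit tree -/
def itp3_234 : Tree := (.node (.node (.node (.node (.node (.node .leaf (113572, 0, 14, 29492) .leaf) (113573, 0, 15, 104306) (.node .leaf (113576, 0, 13, 190133) .leaf)) (113577, 0, 17, 232393) (.node (.node .leaf (113580, 0, 17, 217740) .leaf) (113581, 0, 17, 180358) (.node .leaf (113584, 0, 16, 210530) .leaf))) (113585, 0, 17, 140273) (.node (.node (.node .leaf (113588, 0, 15, 132546) .leaf) (113589, 0, 13, 23788) (.node .leaf (113592, 0, 16, 70650) .leaf)) (113593, 0, 15, 182637) (.node (.node .leaf (113596, 0, 16, 192350) .leaf) (113597, 0, 18, 46704) (.node .leaf (113602, 0, 17, 32609) .leaf)))) (113603, 0, 15, 40711) (.node (.node (.node (.node .leaf (113606, 0, 14, 179910) .leaf) (113607, 0, 14, 42532) (.node .leaf (113610, 0, 16, 11079) .leaf)) (113611, 0, 18, 178847) (.node (.node .leaf (113614, 0, 16, 152666) .leaf) (113615, 0, 19, 164796) (.node .leaf (113618, 0, 17, 177965) .leaf))) (113619, 0, 16, 190290) (.node (.node (.node .leaf (113622, 0, 15, 146967) .leaf) (113623, 0, 14,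 188017) (.node .leaf (113626, 0, 13, 155057) .leaf)) (113627, 0, 18, 1183) (.node (.node .leaf (113630, 0, 17, 7055) .leaf) (113631, 0, 16, 162690) (.node .leaf (113632, 0, 9, 152739) .leaf))))) (113633, 0, 16, 3469) (.node (.node (.node (.node (.node .leaf (113636, 0, 16, 138642) .leaf) (113637, 0, 11, 196084) (.node .leaf (113640, 0, 15, 179775) .leaf)) (113641, 0, 15, 59153) (.node (.node .leaf (113644, 0, 13, 49442) .leaf) (113645, 0, 16, 169996) (.node .leaf (113648, 0, 16, 23780) .leaf))) (113649, 0, 16, 162683) (.node (.node (.node .leaf (113652, 0, 13, 154952) .leaf) (113653, 0, 12, 1126) (.node .leaf (113656, 0, 16, 51401) .leaf)) (113657, 0, 15, 170266) (.node (.node .leaf (113660, 0, 17, 147551) .leaf) (113661, 0, 18, 61178) (.node .leaf (113664, 0, 16, 208497) .leaf)))) (113666, 0, 14, 202305) (.node (.node (.node (.node .leaf (113668, 0, 16, 163655) .leaf) (113670, 0, 17, 178462) (.node .leaf (113672, 0, 14, 247021) .leaf)) (113674, 0, 17, 11423) (.node (.node .leaf (113676, 0, 17, 113648) .leaf) (113678, 0,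 18, 152450) (.node .leaf (113680, 0, 15, 15921) .leaf))) (113682, 0, 13, 93716) (.node (.node (.node .leaf (113684, 0, 16, 1810) .leaf) (113686, 0, 17, 87863) (.node .leaf (113688, 0, 17, 111131) .leaf)) (113690, 0, 14, 215948) (.node (.node .leaf (113692, 0, 18, 249094) .leaf) (113694, 0, 18, 9588) (.node .leaf (113697, 0, 13, 110071) .leaf))))))

/-- part of the orbit tree -/
def itp3_235 : Tree := (.node (.node (.node (.node (.node (.node .leaf (113701, 0, 13, 161096) .leaf) (113703, 0, 13, 50417) (.node .leaf (113705, 0, 14, 231535) .leaf)) (113707, 0, 15, 186442) (.node (.node .leaf (113709, 0, 16, 241996) .leaf) (113711, 0, 16, 188777) (.node .leaf (113713, 0, 16, 162979) .leaf))) (113715, 0, 17, 165255) (.node (.node (.node .leaf (113717, 0, 18, 257153) .leaf) (113719, 0, 17, 179364) (.node .leaf (113721, 0, 17, 169535) .leaf)) (113723, 0, 17, 40991) (.node (.node .leaf (113725, 0, 17, 59682) .leaf) (113727, 0, 17, 39228) (.node .leaf (113728, 0, 13, 227067) .leaf)))) (113730, 0, 13, 31943) (.node (.node (.node (.node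 .leaf (113732, 0, 18, 71105) .leaf) (113734, 0, 16, 17892) (.node .leaf (113736, 0, 17, 236647) .leaf)) (113738, 0, 17, 153951) (.node (.node .leaf (113740, 0, 16, 123770) .leaf) (113742, 0, 14, 155772) (.node .leaf (113744, 0, 17, 65549) .leaf))) (113746, 0, 14, 190591) (.node (.node (.node .leaf (113748, 0, 18, 229136) .leaf) (113750, 0, 14, 146865) (.node .leaf (113752, 0, 17, 125585) .leaf)) (113754, 0, 15, 8458) (.node (.node .leaf (113756, 0, 18, 234892) .leaf) (113758, 0, 15, 6185) (.node .leaf (113761, 0, 16, 182129) .leaf))))) (113763, 0, 18, 244397) (.node (.node (.node (.node (.node .leaf (113765, 0, 14, 142786) .leaf) (113767, 0, 15, 241271) (.node .leaf (113769, 0, 16, 58089) .leaf)) (113771, 0, 16, 111308) (.node (.node .leaf (113773, 0, 16, 182110) .leaf) (113775, 0, 17, 77612) (.node .leaf (113777, 0, 15, 140329) .leaf))) (113779, 0, 16, 117851) (.node (.node (.node .leaf (113781, 0, 17, 34311) .leaf) (113783, 0, 14, 242502) (.node .leaf (113785, 0, 14, 183989) .leaf)) (113787, 0, 18, 75463) (.node (.node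 .leaf (113789, 0, 15, 172959) .leaf) (113791, 0, 15, 259002) (.node .leaf (113792, 0, 17, 40472) .leaf)))) (113794, 0, 14, 98635) (.node (.node (.node (.node .leaf (113796, 0, 16, 188677) .leaf) (113798, 0, 11, 67959) (.node .leaf (113800, 0, 14, 29828) .leaf)) (113802, 0, 15, 238803) (.node (.node .leaf (113804, 0, 17, 183765) .leaf) (113806, 0, 19, 237040) (.node .leaf (113808, 0, 16, 174395) .leaf))) (113810, 0, 16, 260382) (.node (.node (.node .leaf (113812, 0, 16, 38899) .leaf) (113814, 0, 17, 229249) (.node .leaf (113816, 0, 16, 131698) .leaf)) (113818, 0, 15, 125440) (.node (.node .leaf (113820, 0, 14, 32111) .leaf) (113822, 0, 17, 234781) (.node .leaf (113825, 0, 12, 244284) .leaf))))))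

/-- part of the orbit tree -/
def itp3_236 : Tree := (.node (.node (.node (.node (.node (.node .leaf (113829, 0, 14, 197598) .leaf) (113831, 0, 17, 142675) (.node .leaf (113833, 0, 18, 217248) .leaf)) (113835, 0, 14, 20288) (.node (.node .leaf (113837, 0, 17, 77757) .leaf) (113839, 0, 13, 30307) (.node .leaf (113841, 0, 16, 117962) .leaf))) (113843, 0, 16, 140472) (.node (.node (.node .leaf (113845, 0, 17, 97163) .leaf) (113847, 0, 13, 11182) (.node .leaf (113849, 0, 15, 223024) .leaf)) (113851, 0, 14, 145173) (.node (.node .leaf (113853, 0, 13, 220691) .leaf) (113855, 0, 17, 45369) (.node .leaf (113856, 0, 16, 50834) .leaf)))) (113858, 0, 15, 191437) (.node (.node (.node (.node .leaf (113860, 0, 15, 230091) .leaf) (113862, 0, 17, 86525) (.node .leaf (113864, 0, 17, 106096) .leaf)) (113866, 0, 15, 246908) (.node (.node .leaf (113868, 0, 15, 108371) .leaf) (113870, 0, 13, 113505) (.node .leaf (113872, 0, 14, 115645) .leaf))) (113874, 0, 16, 88086) (.node (.node (.node .leaf (113876, 0, 17, 53113) .leaf) (113878, 0, 15, 206603)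 (.node .leaf (113880, 0, 18, 255525) .leaf)) (113882, 0, 17, 111242) (.node (.node .leaf (113884, 0, 14, 9701) .leaf) (113886, 0, 17, 167715) (.node .leaf (113889, 0, 14, 20603) .leaf))))) (113891, 0, 15, 65630) (.node (.node (.node (.node (.node .leaf (113893, 0, 16, 26968) .leaf) (113895, 0, 13, 161241) (.node .leaf (113897, 0, 17, 161251) .leaf)) (113899, 0, 14, 206278) (.node (.node .leaf (113901, 0, 18, 150720) .leaf) (113903, 0, 16, 204005) (.node .leaf (113905, 0, 13, 141358) .leaf))) (113907, 0, 14, 162866) (.node (.node (.node .leaf (113909, 0, 15, 256861) .leaf) (113911, 0, 16, 815) (.node .leaf (113913, 0, 14, 98012) .leaf)) (113915, 0, 16, 89491) (.node (.node .leaf (113917, 0, 16, 13461) .leaf) (113919, 0, 17, 59827) (.node .leaf (113921, 0, 16, 66678) .leaf)))) (113923, 0, 13, 21587) (.node (.node (.node (.node .leaf (113925, 0, 15, 257953) .leaf) (113927, 0, 16, 28016) (.node .leaf (113929, 0, 12, 205294) .leaf)) (113931, 0, 14, 168530) (.node (.node .leaf (113933, 0, 16, 202957) .leaf) (113935, 0, 18, 60751)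 (.node .leaf (113937, 0, 16, 255562) .leaf))) (113939, 0, 17, 142342) (.node (.node (.node .leaf (113941, 0, 15, 214272) .leaf) (113943, 0, 16, 160037) (.node .leaf (113945, 0, 16, 88507) .leaf)) (113947, 0, 16, 2462) (.node (.node .leaf (113949, 0, 16, 90264) .leaf) (113951, 0, 15, 170937) (.node .leaf (113952, 0, 18, 177304) .leaf))))))

/-- part of the orbit tree -/
def itp3_237 : Tree := (.node itp3_233 (113569, 0, 13, 21767) itp3_234)

/-- part of the orbit tree -/
def itp3_238 : Tree := (.node itp3_235 (113827, 0, 17, 21070) itp3_236)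

/-- part of the orbit tree -/
def itp3_239 : Tree := (.node (.node (.node (.node (.node (.node .leaf (113956, 0, 15, 52101) .leaf) (113958, 0, 18, 231139) (.node .leaf (113960, 0, 12, 155140) .leaf)) (113962, 0, 14, 105048) (.node (.node .leaf (113964, 0, 16, 8473) .leaf) (113966, 0, 18, 248171) (.node .leaf (113968, 0, 14, 38832) .leaf))) (113970, 0, 18, 116629) (.node (.node (.node .leaf (113972, 0, 17, 179571) .leaf) (113974, 0, 15, 87297) (.node .leaf (113976, 0, 15, 176680) .leaf)) (113978, 0, 13, 254477) (.node (.node .leaf (113980, 0, 11, 166667) .leaf) (113982, 0, 17, 114589) (.node .leaf (113985, 0, 17, 159472) .leaf)))) (113987, 0, 14, 212693) (.node (.node (.node (.node .leaf (113989, 0, 18, 243499) .leaf) (113991, 0, 16, 24409) (.node .leaf (113993, 0, 18, 19304) .leaf)) (113995, 0, 17, 183000) (.node (.node .leaf (113997, 0, 17, 29259) .leaf) (113999, 0, 18, 46533) (.node .leaf (114001, 0, 16, 245440) .leaf))) (114003, 0, 15, 83584) (.node (.node (.node .leaf (114005, 0, 16, 115165) .leaf) (114007, 0, 16, 141743)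 (.node .leaf (114009, 0, 18, 144189) .leaf)) (114011, 0, 16, 221976) (.node (.node .leaf (114013, 0, 15, 133662) .leaf) (114015, 0, 15, 181043) (.node .leaf (114016, 0, 16, 191506) .leaf))))) (114018, 0, 14, 54598) (.node (.node (.node (.node (.node .leaf (114020, 0, 14, 113728) .leaf) (114022, 0, 16, 60517) (.node .leaf (114024, 0, 16, 237819) .leaf)) (114026, 0, 15, 192734) (.node (.node .leaf (114028, 0, 17, 235992) .leaf) (114030, 0, 18, 182781) (.node .leaf (114032, 0, 16, 39652) .leaf))) (114034, 0, 17, 225942) (.node (.node (.node .leaf (114036, 0, 16, 189945) .leaf) (114038, 0, 13, 69003) (.node .leaf (114040, 0, 18, 121006) .leaf)) (114042, 0, 13, 34955) (.node (.node .leaf (114044, 0, 14, 135013) .leaf) (114046, 0, 18, 124695) (.node .leaf (114049, 0, 16, 234364) .leaf)))) (114051, 0, 15, 116903) (.node (.node (.node (.node .leaf (114053, 0, 18, 24520) .leaf) (114055, 0, 11, 195194) (.node .leaf (114057, 0, 11, 112356) .leaf)) (114059, 0, 18, 74299) (.node (.node .leaf (114061, 0, 14, 46420) .leaf) (114063, 0, 18,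 57314) (.node .leaf (114065, 0, 17, 125737) .leaf))) (114067, 0, 17, 47884) (.node (.node (.node .leaf (114069, 0, 17, 141630) .leaf) (114071, 0, 17, 33327) (.node .leaf (114073, 0, 14, 249521) .leaf)) (114075, 0, 17, 218317) (.node (.node .leaf (114077, 0, 16, 181154) .leaf) (114079, 0, 17, 174007) (.node .leaf (114080, 0, 15, 66801) .leaf))))))

/-- part of the orbit tree -/
def itp3_240 : Tree := (.node (.node (.node (.node (.node (.node .leaf (114084, 0, 18, 16844) .leaf) (114086, 0, 12, 70121) (.node .leaf (114088, 0, 15, 126573) .leaf)) (114090, 0, 13, 132639) (.node (.node .leaf (114092, 0, 16, 156756) .leaf) (114094, 0, 14, 30978) (.node .leaf (114096, 0, 19, 225799) .leaf))) (114098, 0, 18, 39541) (.node (.node (.node .leaf (114100, 0, 16, 145817) .leaf) (114102, 0, 18, 223676) (.node .leaf (114104, 0, 15, 9506) .leaf)) (114106, 0, 18, 95495) (.node (.node .leaf (114108, 0, 15, 124806) .leaf) (114110, 0, 17, 135156) (.node .leaf (114113, 0, 18, 63994) .leaf)))) (114115, 0, 14, 102445) (.node (.node (.node (.node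 .leaf (114117, 0, 15, 49369) .leaf) (114119, 0, 17, 257840) (.node .leaf (114121, 0, 16, 187490) .leaf)) (114123, 0, 18, 96945) (.node (.node .leaf (114125, 0, 12, 189761) .leaf) (114127, 0, 15, 198060) (.node .leaf (114129, 0, 17, 3753) .leaf))) (114131, 0, 19, 255707) (.node (.node (.node .leaf (114133, 0, 17, 178316) .leaf) (114135, 0, 18, 256169) (.node .leaf (114137, 0, 17, 58421) .leaf)) (114139, 0, 15, 128018) (.node (.node .leaf (114141, 0, 16, 40212) .leaf) (114143, 0, 16, 95066) (.node .leaf (114144, 0, 18, 89211) .leaf))))) (114146, 0, 16, 148044) (.node (.node (.node (.node (.node .leaf (114148, 0, 17, 207690) .leaf) (114150, 0, 18, 162671) (.node .leaf (114152, 0, 15, 79857) .leaf)) (114154, 0, 16, 155285) (.node (.node .leaf (114156, 0, 15, 69330) .leaf) (114158, 0, 18, 8584) (.node .leaf (114160, 0, 18, 92732) .leaf))) (114162, 0, 17, 14873) (.node (.node (.node .leaf (114164, 0, 15, 86815) .leaf) (114166, 0, 18, 179682) (.node .leaf (114168, 0, 16, 216996) .leaf)) (114170, 0, 15, 10339) (.node (.node .leaf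 (114172, 0, 15, 114444) .leaf) (114174, 0, 16, 153470) (.node .leaf (114208, 0, 16, 90593) .leaf)))) (114209, 0, 15, 3961) (.node (.node (.node (.node .leaf (114210, 0, 16, 114213) .leaf) (114211, 0, 13, 255755) (.node .leaf (114212, 0, 16, 88258) .leaf)) (114213, 0, 15, 159844) (.node (.node .leaf (114214, 0, 17, 246072) .leaf) (114215, 0, 16, 59521) (.node .leaf (114216, 0, 17, 214137) .leaf))) (114217, 0, 17, 58853) (.node (.node (.node .leaf (114218, 0, 17, 87225) .leaf) (114219, 0, 17, 193594) (.node .leaf (114220, 0, 18, 50134) .leaf)) (114221, 0, 17, 236860) (.node (.node .leaf (114222, 0, 17, 207780) .leaf) (114223, 0, 14, 94858) (.node .leaf (114224, 0, 16, 8353) .leaf))))))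

/-- part of the orbit tree -/
def itp3_241 : Tree := (.node (.node (.node (.node (.node (.node .leaf (114226, 0, 16, 149905) .leaf) (114227, 0, 16, 174583) (.node .leaf (114228, 0, 15, 204951) .leaf)) (114229, 0, 17, 246001) (.node (.node .leaf (114230, 0, 17, 112590) .leaf) (114231, 0, 17, 257760) (.node .leaf (114232, 0, 16, 80940) .leaf))) (114233, 0, 15, 168723) (.node (.node (.node .leaf (114234, 0, 10, 205391) .leaf) (114235, 0, 14, 35951) (.node .leaf (114236, 0, 17, 177440) .leaf)) (114237, 0, 16, 124265) (.node (.node .leaf (114238, 0, 18, 89426) .leaf) (114239, 0, 14, 46412) (.node .leaf (114272, 0, 17, 134877) .leaf)))) (114273, 0, 18, 191233) (.node (.node (.node (.node .leaf (114274, 0, 13, 219970) .leaf) (114275, 0, 15, 244516) (.node .leaf (114276, 0, 14, 29120) .leaf)) (114277, 0, 17, 141550) (.node (.node .leaf (114278, 0, 16, 221793) .leaf) (114279, 0, 18, 229895) (.node .leaf (114280, 0, 15, 189505) .leaf))) (114281, 0, 17, 48495) (.node (.node (.node .leaf (114282, 0, 16, 98010) .leaf) (114283, 0, 16,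 106172) (.node .leaf (114284, 0, 16, 39772) .leaf)) (114285, 0, 18, 63418) (.node (.node .leaf (114286, 0, 15, 226094) .leaf) (114287, 0, 16, 76288) (.node .leaf (114288, 0, 16, 30763) .leaf))))) (114289, 0, 14, 37716) (.node (.node (.node (.node (.node .leaf (114290, 0, 11, 233561) .leaf) (114291, 0, 17, 117111) (.node .leaf (114292, 0, 17, 18961) .leaf)) (114293, 0, 15, 24088) (.node (.node .leaf (114294, 0, 17, 126788) .leaf) (114295, 0, 16, 129618) (.node .leaf (114296, 0, 18, 37559) .leaf))) (114297, 0, 13, 177868) (.node (.node (.node .leaf (114298, 0, 14, 228037) .leaf) (114299, 0, 17, 74731) (.node .leaf (114300, 0, 13, 159625) .leaf)) (114301, 0, 18, 167919) (.node (.node .leaf (114302, 0, 15, 212908) .leaf) (114303, 0, 13, 220406) (.node .leaf (114336, 0, 16, 124478) .leaf)))) (114337, 0, 14, 245520) (.node (.node (.node (.node .leaf (114338, 0, 16, 173774) .leaf) (114339, 0, 14, 149160) (.node .leaf (114340, 0, 18, 249800) .leaf)) (114341, 0, 17, 208814) (.node (.node .leaf (114342, 0, 15, 29009) .leaf) (114343,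 0, 16, 141439) (.node .leaf (114344, 0, 17, 119667) .leaf))) (114345, 0, 15, 78613) (.node (.node (.node .leaf (114346, 0, 17, 189648) .leaf) (114347, 0, 16, 48638) (.node .leaf (114348, 0, 19, 226239) .leaf)) (114349, 0, 18, 68150) (.node (.node .leaf (114350, 0, 13, 47733) .leaf) (114351, 0, 14, 23059) (.node .leaf (114352, 0, 12, 102078) .leaf))))))

/-- part of the orbit tree -/
def itp3_242 : Tree := (.node (.node (.node (.node (.node (.node .leaf (114354, 0, 17, 56987) .leaf) (114355, 0, 14, 16125) (.node .leaf (114356, 0, 16, 126933) .leaf)) (114357, 0, 17, 88059) (.node (.node .leaf (114358, 0, 18, 133031) .leaf) (114359, 0, 17, 2014) (.node .leaf (114360, 0, 18, 227924) .leaf))) (114361, 0, 15, 215872) (.node (.node (.node .leaf (114362, 0, 12, 195331) .leaf) (114363, 0, 15, 138085) (.node .leaf (114364, 0, 13, 233989) .leaf)) (114365, 0, 17, 220263) (.node (.node .leaf (114366, 0, 14, 180768) .leaf) (114367, 0, 16, 139846) (.node .leaf (114400, 0, 16, 40045) .leaf)))) (114401, 0, 14, 31755) (.node (.node (.node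 (.node .leaf (114402, 0, 14, 153286) .leaf) (114403, 0, 14, 76846) (.node .leaf (114404, 0, 17, 246185) .leaf)) (114405, 0, 16, 17704) (.node (.node .leaf (114406, 0, 17, 10715) .leaf) (114407, 0, 15, 159989) (.node .leaf (114408, 0, 19, 178677) .leaf))) (114409, 0, 17, 154003) (.node (.node (.node .leaf (114410, 0, 17, 179290) .leaf) (114411, 0, 15, 199094) (.node .leaf (114412, 0, 18, 207669) .leaf)) (114413, 0, 16, 94747) (.node (.node .leaf (114414, 0, 17, 250099) .leaf) (114415, 0, 16, 170601) (.node .leaf (114416, 0, 17, 189496) .leaf))))) (114417, 0, 15, 132190) (.node (.node (.node (.node (.node .leaf (114418, 0, 17, 242717) .leaf) (114419, 0, 14, 162078) (.node .leaf (114420, 0, 16, 187675) .leaf)) (114421, 0, 14, 257649) (.node (.node .leaf (114422, 0, 15, 155437) .leaf) (114423, 0, 16, 224600) (.node .leaf (114424, 0, 13, 49568) .leaf))) (114425, 0, 16, 8646) (.node (.node (.node .leaf (114426, 0, 16, 51884) .leaf) (114427, 0, 19, 94691) (.node .leaf (114428, 0, 15, 63619) .leaf)) (114429, 0, 18, 197869) (.node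 (.node .leaf (114430, 0, 13, 177585) .leaf) (114431, 0, 17, 84160) (.node .leaf (114432, 0, 15, 249022) .leaf)))) (114433, 0, 16, 75782) (.node (.node (.node (.node .leaf (114434, 0, 16, 9420) .leaf) (114435, 0, 16, 30755) (.node .leaf (114436, 0, 18, 111523) .leaf)) (114437, 0, 15, 256653) (.node (.node .leaf (114438, 0, 16, 154577) .leaf) (114439, 0, 15, 767) (.node .leaf (114440, 0, 15, 257528) .leaf))) (114441, 0, 17, 200094) (.node (.node (.node .leaf (114442, 0, 17, 52816) .leaf) (114443, 0, 16, 155067) (.node .leaf (114444, 0, 14, 251099) .leaf)) (114445, 0, 15, 210109) (.node (.node .leaf (114446, 0, 16, 165118) .leaf) (114447, 0, 16, 156824) .leaf)))))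

/-- part of the orbit tree -/
def itp3_243 : Tree := (.node itp3_239 (114082, 0, 15, 75978) itp3_240)

/-- part of the orbit tree -/
def itp3_244 : Tree := (.node itp3_241 (114353, 0, 18, 117222) itp3_242)

/-- part of the orbit tree -/
def itp3_245 : Tree := (.node itp3_237 (113699, 0, 14, 254503) itp3_238)

/-- part of the orbit tree -/
def itp3_246 : Tree := (.node itp3_243 (114225, 0, 15, 162191) itp3_244)

/-- part of the orbit tree -/
def itp3_247 : Tree := (.node itp3_231 (112933, 0, 12, 106335) itp3_232)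

/-- part of the orbit tree -/
def itp3_248 : Tree := (.node itp3_245 (113954, 0, 16, 245696) itp3_246)

/-- part of the orbit tree -/
def itp3_249 : Tree := (.node itp3_217 (111397, 0, 17, 97892) itp3_218)

/-- part of the orbit tree -/
def itp3_250 : Tree := (.node itp3_247 (113441, 0, 18, 255342) itp3_248)

/-- part of the orbit tree -/
def itp3_251 : Tree := (.node itp3_187 (108330, 0, 15, 9232) itp3_188)

/-- part of the orbit tree -/
def itp3_252 : Tree := (.node itp3_249 (112418, 0, 18, 126380) itp3_250)

/-- part of the orbit tree -/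
def itp3_253 : Tree := (.node itp3_125 (102196, 0, 14, 214221) itp3_126)

/-- part of the orbit tree -/
def itp3_254 : Tree := (.node itp3_251 (110372, 0, 18, 72924) itp3_252)

/-- part of the orbit tree -/
def itp3_255 : Tree := (.node (.node (.node (.node (.node (.node .leaf (114449, 0, 18, 254822) .leaf) (114450, 0, 14, 188432) (.node .leaf (114451, 0, 16, 2836) .leaf)) (114452, 0, 17, 247125) (.node (.node .leaf (114453, 0, 18, 105595) .leaf) (114454, 0, 16, 11559) (.node .leaf (114455, 0, 17, 145749) .leaf))) (114456, 0, 16, 86228) (.node (.node (.node .leaf (114457, 0, 17, 199162) .leaf) (114458, 0, 15, 178342) (.node .leaf (114459, 0, 17, 9710) .leaf)) (114460, 0, 18, 109710) (.node (.node .leaf (114461, 0, 11, 85224) .leaf) (114462, 0, 18, 64683) (.node .leaf (114463, 0, 14, 7373) .leaf)))) (114496, 0, 14, 172774) (.node (.node (.node (.node .leaf (114497, 0, 17, 148096) .leaf) (114498, 0, 15, 258755) (.node .leaf (114499, 0, 14, 201381) .leaf)) (114500, 0, 17, 125737) (.node (.node .leaf (114501, 0, 15, 242183) .leaf)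 (114502, 0, 17, 131931) (.node .leaf (114503, 0, 17, 207750) .leaf))) (114504, 0, 10, 34686) (.node (.node (.node .leaf (114505, 0, 15, 75654) .leaf) (114506, 0, 16, 120667) (.node .leaf (114507, 0, 16, 79677) .leaf)) (114508, 0, 17, 48733) (.node (.node .leaf (114509, 0, 14, 24123) .leaf) (114510, 0, 17, 190919) (.node .leaf (114511, 0, 16, 45289) .leaf))))) (114512, 0, 16, 55987) (.node (.node (.node (.node (.node .leaf (114513, 0, 17, 15061) .leaf) (114514, 0, 16, 133808) (.node .leaf (114515, 0, 16, 92912) .leaf)) (114516, 0, 18, 58256) (.node (.node .leaf (114517, 0, 11, 1014) .leaf) (114518, 0, 15, 111541) (.node .leaf (114519, 0, 17, 142467) .leaf))) (114520, 0, 17, 67678) (.node (.node (.node .leaf (114521, 0, 15, 217456) .leaf) (114522, 0, 17, 188460) (.node .leaf (114523, 0, 18, 47362) .leaf)) (114524, 0, 13, 227139) (.node (.node .leaf (114525, 0, 14, 77421) .leaf) (114526, 0, 17, 235053) (.node .leaf (114527, 0, 13, 226891) .leaf)))) (114560, 0, 14, 221034) (.node (.node (.node (.node .leaf (114561, 0, 18, 140793)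 .leaf) (114562, 0, 19, 134991) (.node .leaf (114563, 0, 13, 192297) .leaf)) (114564, 0, 18, 222793) (.node (.node .leaf (114565, 0, 18, 230959) .leaf) (114566, 0, 17, 125880) (.node .leaf (114567, 0, 17, 242326) .leaf))) (114568, 0, 16, 97010) (.node (.node (.node .leaf (114569, 0, 10, 184165) .leaf) (114570, 0, 18, 228921) (.node .leaf (114571, 0, 16, 51889) .leaf)) (114572, 0, 17, 82897) (.node (.node .leaf (114573, 0, 15, 107447) .leaf) (114574, 0, 18, 5108) (.node .leaf (114575, 0, 14, 62354) .leaf))))))

/-- part of the orbit tree -/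
def itp3_256 : Tree := (.node (.node (.node (.node (.node (.node .leaf (114577, 0, 11, 21263) .leaf) (114578, 0, 16, 30490) (.node .leaf (114579, 0, 17, 38780) .leaf)) (114580, 0, 14, 30012) (.node (.node .leaf (114581, 0, 13, 142354) .leaf) (114582, 0, 13, 236878) (.node .leaf (114583, 0, 14, 115808) .leaf))) (114584, 0, 15, 197287) (.node (.node (.node .leaf (114585, 0, 15, 47507) .leaf) (114586, 0, 16, 152194) (.node .leaf (114587, 0, 18, 217569) .leaf)) (114588, 0, 16, 211844) (.node (.node .leaf (114589, 0, 16, 181902) .leaf) (114590, 0, 16, 227282) (.node .leaf (114591, 0, 12, 77564) .leaf)))) (114624, 0, 14, 13804) (.node (.node (.node (.node .leaf (114625, 0, 16, 163187) .leaf) (114626, 0, 16, 91593) (.node .leaf (114627, 0, 17, 103681) .leaf)) (114628, 0, 17, 3279) (.node (.node .leaf (114629, 0, 16, 622) .leaf) (114630, 0, 18, 111410) (.node .leaf (114631, 0, 18, 113804) .leaf))) (114632, 0, 18, 135284) (.node (.node (.node .leaf (114633, 0, 16, 192530) .leaf) (114634, 0, 17, 206515) (.node .leaf (114635, 0, 16,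 237623) .leaf)) (114636, 0, 16, 141655) (.node (.node .leaf (114637, 0, 14, 182577) .leaf) (114638, 0, 16, 227698) (.node .leaf (114639, 0, 14, 235796) .leaf))))) (114640, 0, 12, 150969) (.node (.node (.node (.node (.node .leaf (114641, 0, 16, 175583) .leaf) (114642, 0, 15, 113369) (.node .leaf (114643, 0, 18, 261626) .leaf)) (114644, 0, 15, 160922) (.node (.node .leaf (114645, 0, 17, 160920) .leaf) (114646, 0, 13, 247236) (.node .leaf (114647, 0, 18, 247001) .leaf))) (114648, 0, 17, 178231) (.node (.node (.node .leaf (114649, 0, 15, 34887) .leaf) (114650, 0, 16, 79876) (.node .leaf (114651, 0, 12, 120930) .leaf)) (114652, 0, 14, 50986) (.node (.node .leaf (114653, 0, 17, 171524) .leaf) (114654, 0, 18, 65831) (.node .leaf (114655, 0, 17, 123201) .leaf)))) (114689, 0, 17, 189725) (.node (.node (.node (.node .leaf (114690, 0, 17, 218462) .leaf) (114692, 0, 17, 146520) (.node .leaf (114695, 0, 10, 232475) .leaf)) (114696, 0, 14, 8419) (.node (.node .leaf (114699, 0, 16, 102560) .leaf) (114701, 0, 16, 101349) (.node .leaf (114702,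 0, 13, 84453) .leaf))) (114704, 0, 13, 32046) (.node (.node (.node .leaf (114707, 0, 13, 164064) .leaf) (114709, 0, 16, 202639) (.node .leaf (114710, 0, 16, 70696) .leaf)) (114713, 0, 18, 178384) (.node (.node .leaf (114714, 0, 13, 198803) .leaf) (114716, 0, 16, 107581) (.node .leaf (114719, 0, 12, 5473) .leaf))))))

/-- part of the orbit tree -/
def itp3_257 : Tree := (.node (.node (.node (.node (.node (.node .leaf (114722, 0, 16, 24235) .leaf) (114724, 0, 16, 148829) (.node .leaf (114727, 0, 16, 259073) .leaf)) (114728, 0, 15, 207638) (.node (.node .leaf (114731, 0, 13, 90496) .leaf) (114733, 0, 17, 63215) (.node .leaf (114734, 0, 14, 147984) .leaf))) (114736, 0, 18, 150710) (.node (.node (.node .leaf (114739, 0, 13, 261610) .leaf) (114741, 0, 16, 241566) (.node .leaf (114742, 0, 14, 139229) .leaf)) (114745, 0, 16, 65284) (.node (.node .leaf (114746, 0, 13, 870) .leaf) (114748, 0, 17, 55607) (.node .leaf (114751, 0, 17, 55843) .leaf)))) (114753, 0, 11, 102299) (.node (.node (.node (.node .leaf (114754, 0, 16, 194482) .leaf)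 (114756, 0, 18, 221405) (.node .leaf (114759, 0, 16, 59037) .leaf)) (114760, 0, 17, 215653) (.node (.node .leaf (114763, 0, 15, 17408) .leaf) (114765, 0, 14, 234272) (.node .leaf (114766, 0, 18, 140131) .leaf))) (114768, 0, 14, 223542) (.node (.node (.node .leaf (114771, 0, 15, 186474) .leaf) (114773, 0, 18, 249581) (.node .leaf (114774, 0, 15, 196185) .leaf)) (114777, 0, 13, 121476) (.node (.node .leaf (114778, 0, 16, 25109) .leaf) (114780, 0, 16, 68371) (.node .leaf (114783, 0, 15, 19947) .leaf))))) (114785, 0, 15, 146404) (.node (.node (.node (.node (.node .leaf (114786, 0, 17, 209965) .leaf) (114788, 0, 16, 138711) (.node .leaf (114791, 0, 17, 257384) .leaf)) (114792, 0, 16, 34902) (.node (.node .leaf (114795, 0, 17, 80138) .leaf) (114797, 0, 17, 39125) (.node .leaf (114798, 0, 15, 75926) .leaf))) (114800, 0, 16, 7261) (.node (.node (.node .leaf (114803, 0, 18, 109598) .leaf) (114805, 0, 15, 143887) (.node .leaf (114806, 0, 15, 95579) .leaf)) (114809, 0, 14, 42894) (.node (.node .leaf (114810, 0, 15, 223712) .leaf) (114812,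 0, 15, 131302) (.node .leaf (114815, 0, 18, 78049) .leaf)))) (114817, 0, 17, 29207) (.node (.node (.node (.node .leaf (114818, 0, 16, 73553) .leaf) (114820, 0, 15, 43858) (.node .leaf (114823, 0, 18, 80226) .leaf)) (114824, 0, 15, 178153) (.node (.node .leaf (114827, 0, 14, 240867) .leaf) (114829, 0, 18, 159404) (.node .leaf (114830, 0, 15, 232144) .leaf))) (114832, 0, 16, 191012) (.node (.node (.node .leaf (114835, 0, 18, 219751) .leaf) (114837, 0, 15, 144225) (.node .leaf (114838, 0, 16, 230178) .leaf)) (114841, 0, 14, 12250) (.node (.node .leaf (114842, 0, 11, 106393) .leaf) (114844, 0, 17, 136276) (.node .leaf (114847, 0, 17, 83676) .leaf))))))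

/-- part of the orbit tree -/
def itp3_258 : Tree := (.node (.node (.node (.node (.node (.node .leaf (114850, 0, 17, 25179) .leaf) (114852, 0, 13, 237735) (.node .leaf (114855, 0, 14, 17512) .leaf)) (114856, 0, 15, 221365) (.node (.node .leaf (114859, 0, 18, 184809) .leaf) (114861, 0, 18, 214662) (.node .leaf (114862, 0, 18, 194522) .leaf))) (114864, 0, 16, 123345) (.node (.node (.node .leaf (114867, 0, 17, 19843) .leaf) (114869, 0, 16, 80020) (.node .leaf (114870, 0, 17, 35031) .leaf)) (114873, 0, 17, 216941) (.node (.node .leaf (114874, 0, 18, 169068) .leaf) (114876, 0, 14, 261482) (.node .leaf (114879, 0, 12, 150825) .leaf)))) (114881, 0, 15, 202897) (.node (.node (.node (.node .leaf (114882, 0, 14, 83931) .leaf) (114884, 0, 16, 246228) (.node .leaf (114887, 0, 18, 160151) .leaf)) (114888, 0, 16, 148789) (.node (.node .leaf (114891, 0, 18, 259177) .leaf) (114893, 0, 15, 66602) (.node .leaf (114894, 0, 13, 250458) .leaf))) (114896, 0, 17, 55647) (.node (.node (.node .leaf (114899, 0, 17, 92163) .leaf) (114901, 0, 17, 65388)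 (.node .leaf (114902, 0, 15, 85552) .leaf)) (114905, 0, 18, 214364) (.node (.node .leaf (114906, 0, 16, 193823) .leaf) (114908, 0, 18, 150750) (.node .leaf (114911, 0, 15, 142426) .leaf))))) (114913, 0, 14, 4964) (.node (.node (.node (.node (.node .leaf (114914, 0, 13, 107303) .leaf) (114916, 0, 17, 110014) (.node .leaf (114919, 0, 13, 96866) .leaf)) (114920, 0, 16, 186010) (.node (.node .leaf (114923, 0, 15, 166243) .leaf) (114925, 0, 16, 204300) (.node .leaf (114926, 0, 15, 245660) .leaf))) (114928, 0, 17, 107605) (.node (.node (.node .leaf (114931, 0, 17, 5385) .leaf) (114933, 0, 18, 152082) (.node .leaf (114934, 0, 16, 254545) .leaf)) (114937, 0, 16, 20137) (.node (.node .leaf (114938, 0, 16, 173755) .leaf) (114940, 0, 16, 209364) (.node .leaf (114943, 0, 15, 75695) .leaf)))) (114944, 0, 15, 108303) (.node (.node (.node (.node .leaf (114947, 0, 16, 4597) .leaf) (114949, 0, 18, 99994) (.node .leaf (114950, 0, 18, 52745) .leaf)) (114953, 0, 15, 201499) (.node (.node .leaf (114954, 0, 18, 172615) .leaf) (114956, 0, 17, 210216)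 (.node .leaf (114959, 0, 14, 164980) .leaf))) (114961, 0, 17, 212796) (.node (.node (.node .leaf (114962, 0, 17, 15917) .leaf) (114964, 0, 13, 255609) (.node .leaf (114967, 0, 16, 6174) .leaf)) (114968, 0, 17, 129730) (.node (.node .leaf (114971, 0, 15, 19073) .leaf) (114973, 0, 14, 203504) (.node .leaf (114974, 0, 16, 175020) .leaf))))))

/-- part of the orbit tree -/
def itp3_259 : Tree := (.node itp3_255 (114576, 0, 14, 75583) itp3_256)

/-- part of the orbit tree -/
def itp3_260 : Tree := (.node itp3_257 (114849, 0, 15, 227810) itp3_258)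

/-- part of the orbit tree -/
def itp3_261 : Tree := (.node (.node (.node (.node (.node (.node .leaf (114979, 0, 15, 93439) .leaf) (114981, 0, 15, 64400) (.node .leaf (114982, 0, 17, 84684) .leaf)) (114985, 0, 17, 159249) (.node (.node .leaf (114986, 0, 15, 121159) .leaf) (114988, 0, 11, 45121) (.node .leaf (114991, 0, 17, 65538) .leaf))) (114993, 0, 16, 62075) (.node (.node (.node .leaf (114994, 0, 17, 82727) .leaf) (114996, 0, 17, 54344) (.node .leaf (114999, 0, 18, 91412) .leaf)) (115000, 0, 16, 147913) (.node (.node .leaf (115003, 0, 13, 258197) .leaf) (115005, 0, 16, 157690) (.node .leaf (115006, 0, 18, 235569) .leaf)))) (115008, 0, 17, 183689) (.node (.node (.node (.node .leaf (115011, 0, 16, 228810) .leaf) (115013, 0, 18, 136396) (.node .leaf (115014, 0, 17, 238735) .leaf)) (115017, 0, 17, 215953) (.node (.node .leaf (115018, 0, 17, 195277) .leaf) (115020, 0, 16, 224674) (.node .leaf (115023, 0, 18, 187646) .leaf))) (115025, 0, 14, 120827) (.node (.node (.node .leaf (115026, 0, 11, 124409) .leaf) (115028, 0, 14, 36095)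 (.node .leaf (115031, 0, 16, 81084) .leaf)) (115032, 0, 17, 168004) (.node (.node .leaf (115035, 0, 13, 185621) .leaf) (115037, 0, 17, 149761) (.node .leaf (115038, 0, 15, 260418) .leaf))))) (115040, 0, 14, 116348) (.node (.node (.node (.node (.node .leaf (115043, 0, 15, 78965) .leaf) (115045, 0, 16, 41754) (.node .leaf (115046, 0, 14, 70214) .leaf)) (115049, 0, 18, 145051) (.node (.node .leaf (115050, 0, 16, 231367) .leaf) (115052, 0, 12, 135336) (.node .leaf (115055, 0, 12, 238068) .leaf))) (115057, 0, 17, 43761) (.node (.node (.node .leaf (115058, 0, 18, 72621) .leaf) (115060, 0, 14, 36034) (.node .leaf (115063, 0, 15, 81310) .leaf)) (115064, 0, 14, 105393) (.node (.node .leaf (115067, 0, 17, 239647) .leaf) (115069, 0, 13, 147312) (.node .leaf (115070, 0, 15, 62135) .leaf)))) (115072, 0, 15, 135360) (.node (.node (.node (.node .leaf (115075, 0, 17, 163910) .leaf) (115077, 0, 16, 256320) (.node .leaf (115078, 0, 14, 153859) .leaf)) (115081, 0, 15, 41842) (.node (.node .leaf (115082, 0, 15, 17848) .leaf) (115084, 0, 19,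 34113) (.node .leaf (115087, 0, 14, 40189) .leaf))) (115089, 0, 16, 147224) (.node (.node (.node .leaf (115090, 0, 16, 233028) .leaf) (115092, 0, 16, 94579) (.node .leaf (115095, 0, 16, 239735) .leaf)) (115096, 0, 18, 224712) (.node (.node .leaf (115099, 0, 16, 81398) .leaf) (115101, 0, 13, 242829) (.node .leaf (115102, 0, 18, 132302) .leaf))))))

/-- part of the orbit tree -/
def itp3_262 : Tree := (.node (.node (.node (.node (.node (.node .leaf (115107, 0, 13, 101299) .leaf) (115109, 0, 17, 216057) (.node .leaf (115110, 0, 15, 86774) .leaf)) (115113, 0, 16, 122488) (.node (.node .leaf (115114, 0, 15, 216653) .leaf) (115116, 0, 16, 129099) (.node .leaf (115119, 0, 19, 235272) .leaf))) (115121, 0, 17, 213522) (.node (.node (.node .leaf (115122, 0, 13, 193358) .leaf) (115124, 0, 12, 162438) (.node .leaf (115127, 0, 10, 185725) .leaf)) (115128, 0, 18, 127392) (.node (.node .leaf (115131, 0, 17, 120446) .leaf) (115133, 0, 15, 120723) (.node .leaf (115134, 0, 15, 26319) .leaf)))) (115136, 0, 14, 149578) (.node (.node (.node (.node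 .leaf (115139, 0, 16, 260374) .leaf) (115141, 0, 16, 33734) (.node .leaf (115142, 0, 14, 78725) .leaf)) (115145, 0, 17, 64504) (.node (.node .leaf (115146, 0, 17, 84644) .leaf) (115148, 0, 9, 149048) (.node .leaf (115151, 0, 16, 93335) .leaf))) (115153, 0, 16, 180912) (.node (.node (.node .leaf (115154, 0, 15, 251598) .leaf) (115156, 0, 15, 147873) (.node .leaf (115159, 0, 18, 258301) .leaf)) (115160, 0, 17, 54304) (.node (.node .leaf (115163, 0, 15, 91516) .leaf) (115165, 0, 15, 56843) (.node .leaf (115166, 0, 16, 82767) .leaf))))) (115168, 0, 15, 217462) (.node (.node (.node (.node (.node .leaf (115171, 0, 14, 188725) .leaf) (115173, 0, 17, 231475) (.node .leaf (115174, 0, 16, 145520) .leaf)) (115177, 0, 16, 100082) (.node (.node .leaf (115178, 0, 17, 9419) .leaf) (115180, 0, 17, 85453) (.node .leaf (115183, 0, 15, 64910) .leaf))) (115185, 0, 14, 117061) (.node (.node (.node .leaf (115186, 0, 15, 30982) .leaf) (115188, 0, 10, 212139) (.node .leaf (115191, 0, 15, 167415) .leaf)) (115192, 0, 16, 108842) (.node (.node .leaf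 (115195, 0, 19, 179448) .leaf) (115197, 0, 12, 251390) (.node .leaf (115198, 0, 16, 15941) .leaf)))) (115200, 0, 17, 141579) (.node (.node (.node (.node .leaf (115201, 0, 15, 182637) .leaf) (115206, 0, 15, 213005) (.node .leaf (115207, 0, 16, 237675) .leaf)) (115210, 0, 15, 147592) (.node (.node .leaf (115211, 0, 15, 113872) .leaf) (115212, 0, 15, 13744) (.node .leaf (115213, 0, 19, 102089) .leaf))) (115218, 0, 16, 56546) (.node (.node (.node .leaf (115219, 0, 18, 165324) .leaf) (115220, 0, 16, 84877) (.node .leaf (115221, 0, 16, 201379) .leaf)) (115224, 0, 11, 160966) (.node (.node .leaf (115225, 0, 15, 100130) .leaf) (115230, 0, 10, 204224) (.node .leaf (115231, 0, 17, 261542) .leaf))))))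

/-- part of the orbit tree -/
def itp3_263 : Tree := (.node (.node (.node (.node (.node (.node .leaf (115233, 0, 16, 157250) .leaf) (115238, 0, 12, 19448) (.node .leaf (115239, 0, 15, 43934) .leaf)) (115242, 0, 17, 153411) (.node (.node .leaf (115243, 0, 13, 177957) .leaf) (115244, 0, 17, 174829) (.node .leaf (115245, 0, 17, 253475) .leaf))) (115250, 0, 16, 106984) (.node (.node (.node .leaf (115251, 0, 14, 260294) .leaf) (115252, 0, 16, 13959) (.node .leaf (115253, 0, 17, 159657) .leaf)) (115256, 0, 14, 172806) (.node (.node .leaf (115257, 0, 16, 106325) .leaf) (115262, 0, 14, 210025) (.node .leaf (115263, 0, 14, 63059) .leaf)))) (115264, 0, 15, 72428) (.node (.node (.node (.node .leaf (115265, 0, 16, 107499) .leaf) (115270, 0, 11, 36227) (.node .leaf (115271, 0, 15, 185517) .leaf)) (115274, 0, 15, 137218) (.node (.node .leaf (115275, 0, 18, 185942) .leaf) (115276, 0, 14, 233325) (.node .leaf (115277, 0, 16, 120387) .leaf))) (115282, 0, 13, 158717) (.node (.node (.node .leaf (115283, 0, 15, 166811) .leaf) (115284, 0, 17,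 70407) (.node .leaf (115285, 0, 19, 215593) .leaf)) (115288, 0, 17, 73280) (.node (.node .leaf (115289, 0, 17, 122792) .leaf) (115294, 0, 17, 135657) (.node .leaf (115295, 0, 17, 18631) .leaf))))) (115296, 0, 18, 149624) (.node (.node (.node (.node (.node .leaf (115297, 0, 15, 174110) .leaf) (115302, 0, 16, 127113) (.node .leaf (115303, 0, 12, 246040) .leaf)) (115306, 0, 19, 81349) (.node (.node .leaf (115307, 0, 17, 80934) .leaf) (115308, 0, 12, 21699) (.node .leaf (115309, 0, 16, 46245) .leaf))) (115314, 0, 18, 129378) (.node (.node (.node .leaf (115315, 0, 12, 237644) .leaf) (115316, 0, 17, 28173) (.node .leaf (115317, 0, 14, 59752) .leaf)) (115320, 0, 13, 136629) (.node (.node .leaf (115321, 0, 15, 41634) .leaf) (115326, 0, 13, 228531) (.node .leaf (115327, 0, 16, 79309) .leaf)))) (115328, 0, 14, 48641) (.node (.node (.node (.node .leaf (115329, 0, 14, 24167) .leaf) (115334, 0, 15, 120583) (.node .leaf (115335, 0, 16, 80974) .leaf)) (115338, 0, 15, 248764) (.node (.node .leaf (115339, 0, 18, 207834) .leaf) (115340, 0,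 14, 172730) (.node .leaf (115341, 0, 14, 147104) .leaf))) (115346, 0, 17, 224395) (.node (.node (.node .leaf (115347, 0, 16, 226839) .leaf) (115348, 0, 13, 195556) (.node .leaf (115349, 0, 15, 41674) .leaf)) (115352, 0, 17, 28261) (.node (.node .leaf (115353, 0, 16, 938) .leaf) (115358, 0, 16, 101066) (.node .leaf (115359, 0, 16, 237604) .leaf))))))

/-- part of the orbit tree -/
def itp3_264 : Tree := (.node (.node (.node (.node (.node (.node .leaf (115361, 0, 17, 218514) .leaf) (115366, 0, 18, 187634) (.node .leaf (115367, 0, 17, 16708) .leaf)) (115370, 0, 16, 49225) (.node (.node .leaf (115371, 0, 17, 185541) .leaf) (115372, 0, 16, 72324) (.node .leaf (115373, 0, 15, 84265) .leaf))) (115378, 0, 15, 135553) (.node (.node (.node .leaf (115379, 0, 17, 18607) .leaf) (115380, 0, 13, 231150) (.node .leaf (115381, 0, 13, 70884) .leaf)) (115384, 0, 15, 70511) (.node (.node .leaf (115385, 0, 15, 215617) .leaf) (115390, 0, 15, 164159) (.node .leaf (115391, 0, 16, 155993) .leaf)))) (115392, 0, 16, 174725) (.node (.node (.node (.node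 .leaf (115393, 0, 15, 62379) .leaf) (115398, 0, 17, 179585) (.node .leaf (115399, 0, 13, 91332) .leaf)) (115402, 0, 15, 108651) (.node (.node .leaf (115403, 0, 16, 258373) .leaf) (115404, 0, 15, 116796) (.node .leaf (115405, 0, 17, 157226) .leaf))) (115410, 0, 11, 209921) (.node (.node (.node .leaf (115411, 0, 17, 93487) .leaf) (115412, 0, 13, 172910) (.node .leaf (115413, 0, 17, 95639) .leaf)) (115416, 0, 18, 14063) (.node (.node .leaf (115417, 0, 13, 223532) .leaf) (115422, 0, 16, 106880) (.node .leaf (115423, 0, 16, 260270) .leaf))))) (115424, 0, 15, 251791) (.node (.node (.node (.node (.node .leaf (115425, 0, 14, 16148) .leaf) (115430, 0, 17, 112244) (.node .leaf (115431, 0, 14, 6606) .leaf)) (115434, 0, 17, 54625) (.node (.node .leaf (115435, 0, 16, 215721) .leaf) (115436, 0, 17, 82446) (.node .leaf (115437, 0, 17, 203552) .leaf))) (115442, 0, 17, 259842) (.node (.node (.node .leaf (115443, 0, 17, 4133) .leaf) (115444, 0, 15, 253540) (.node .leaf (115445, 0, 17, 163426) .leaf)) (115448, 0, 16, 33471) (.node (.node .leaf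 (115449, 0, 16, 25305) .leaf) (115454, 0, 16, 56458) (.node .leaf (115455, 0, 18, 68575) .leaf)))) (115458, 0, 17, 151031) (.node (.node (.node (.node .leaf (115459, 0, 15, 5337) .leaf) (115460, 0, 17, 111196) (.node .leaf (115461, 0, 13, 99254) .leaf)) (115464, 0, 17, 241383) (.node (.node .leaf (115465, 0, 16, 202295) .leaf) (115470, 0, 17, 182241) (.node .leaf (115471, 0, 14, 141191) .leaf))) (115472, 0, 18, 258858) (.node (.node (.node .leaf (115473, 0, 15, 201548) .leaf) (115478, 0, 15, 148508) (.node .leaf (115479, 0, 16, 162378) .leaf)) (115482, 0, 17, 34455) (.node (.node .leaf (115483, 0, 18, 166067) .leaf) (115484, 0, 16, 126865) .leaf)))))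

/-- part of the orbit tree -/
def itp3_265 : Tree := (.node itp3_261 (115104, 0, 11, 224714) itp3_262)

/-- part of the orbit tree -/
def itp3_266 : Tree := (.node itp3_263 (115360, 0, 15, 233221) itp3_264)

/-- part of the orbit tree -/
def itp3_267 : Tree := (.node itp3_259 (114721, 0, 16, 156526) itp3_260)

/-- part of the orbit tree -/
def itp3_268 : Tree := (.node itp3_265 (115232, 0, 15, 74494) itp3_266)

/-- part of the orbit tree -/
def itp3_269 : Tree := (.node (.node (.node (.node (.node (.node .leaf (115490, 0, 15, 250031) .leaf) (115491, 0, 18, 92627) (.node .leaf (115492, 0, 15, 178601) .leaf)) (115493, 0, 14, 65212) (.node (.node .leaf (115496, 0, 18, 42258) .leaf) (115497, 0, 14, 158525) (.node .leaf (115502, 0, 17, 107900) .leaf))) (115503, 0, 16, 261202) (.node (.node (.node .leaf (115504, 0, 16, 175737) .leaf) (115505, 0, 18, 6329) (.node .leaf (115510, 0, 14, 102873) .leaf)) (115511, 0, 17, 94655) (.node (.node .leaf (115514, 0, 17, 232802) .leaf) (115515, 0, 8, 224516) (.node .leaf (115516, 0, 8, 15352)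 .leaf)))) (115517, 0, 15, 132098) (.node (.node (.node (.node .leaf (115522, 0, 15, 136573) .leaf) (115523, 0, 15, 217530) (.node .leaf (115524, 0, 17, 229906) .leaf)) (115525, 0, 15, 121660) (.node (.node .leaf (115528, 0, 17, 71571) .leaf) (115529, 0, 17, 216765) (.node .leaf (115534, 0, 16, 109927) .leaf))) (115535, 0, 15, 85249) (.node (.node (.node .leaf (115536, 0, 17, 232441) .leaf) (115537, 0, 13, 119511) (.node .leaf (115542, 0, 15, 127146) .leaf)) (115543, 0, 15, 17848) (.node (.node .leaf (115546, 0, 11, 35095) .leaf) (115547, 0, 17, 184377) (.node .leaf (115548, 0, 16, 73336) .leaf))))) (115549, 0, 14, 214870) (.node (.node (.node (.node (.node .leaf (115554, 0, 17, 47657) .leaf) (115555, 0, 17, 23119) (.node .leaf (115556, 0, 12, 119599) .leaf)) (115557, 0, 18, 42550) (.node (.node .leaf (115560, 0, 16, 249748) .leaf) (115561, 0, 14, 144311) (.node .leaf (115566, 0, 15, 173714) .leaf))) (115567, 0, 16, 238808) (.node (.node (.node .leaf (115568, 0, 18, 194291) .leaf) (115569, 0, 17, 225855) (.node .leaf (115574,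 0, 12, 195423) .leaf)) (115575, 0, 16, 138041) (.node (.node .leaf (115578, 0, 13, 59364) .leaf) (115579, 0, 14, 1922) (.node .leaf (115580, 0, 17, 25458) .leaf)))) (115581, 0, 17, 93828) (.node (.node (.node (.node .leaf (115586, 0, 17, 130462) .leaf) (115587, 0, 16, 175158) (.node .leaf (115588, 0, 19, 27377) .leaf)) (115589, 0, 18, 247088) (.node (.node .leaf (115592, 0, 11, 80365) .leaf) (115593, 0, 13, 121227) (.node .leaf (115598, 0, 17, 20715) .leaf))) (115599, 0, 17, 78129) (.node (.node (.node .leaf (115600, 0, 17, 91168) .leaf) (115601, 0, 14, 145972) (.node .leaf (115606, 0, 14, 128117) .leaf)) (115607, 0, 17, 240987) (.node (.node .leaf (115610, 0, 17, 221684) .leaf) (115611, 0, 14, 80090) (.node .leaf (115612, 0, 16, 227483) .leaf))))))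

/-- part of the orbit tree -/
def itp3_270 : Tree := (.node (.node (.node (.node (.node (.node .leaf (115618, 0, 18, 83877) .leaf) (115619, 0, 16, 186810) (.node .leaf (115620, 0, 16, 11939) .leaf)) (115621, 0, 14, 216789) (.node (.node .leaf (115624, 0, 17, 230010) .leaf) (115625, 0, 16, 184958) (.node .leaf (115630, 0, 17, 219934) .leaf))) (115631, 0, 17, 244600) (.node (.node (.node .leaf (115632, 0, 17, 73232) .leaf) (115633, 0, 16, 167859) (.node .leaf (115638, 0, 14, 198355) .leaf)) (115639, 0, 17, 255669) (.node (.node .leaf (115642, 0, 16, 72296) .leaf) (115643, 0, 15, 17872) (.node .leaf (115644, 0, 16, 29550) .leaf)))) (115645, 0, 13, 37640) (.node (.node (.node (.node .leaf (115650, 0, 16, 75478) .leaf) (115651, 0, 18, 261178) (.node .leaf (115652, 0, 16, 12923) .leaf)) (115653, 0, 16, 158549) (.node (.node .leaf (115656, 0, 10, 152427) .leaf) (115657, 0, 15, 176909) (.node .leaf (115662, 0, 14, 211565) .leaf))) (115663, 0, 18, 92603) (.node (.node (.node .leaf (115664, 0, 4, 134822) .leaf) (115665, 0, 13, 192192)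 (.node .leaf (115670, 0, 18, 109823) .leaf)) (115671, 0, 13, 259537) (.node (.node .leaf (115674, 0, 18, 97051) .leaf) (115675, 0, 16, 90192) (.node .leaf (115676, 0, 18, 4637) .leaf))))) (115677, 0, 16, 62075) (.node (.node (.node (.node (.node .leaf (115682, 0, 14, 142627) .leaf) (115683, 0, 12, 164144) (.node .leaf (115684, 0, 12, 85873) .leaf)) (115685, 0, 17, 238659) (.node (.node .leaf (115688, 0, 17, 252656) .leaf) (115689, 0, 17, 99294) (.node .leaf (115694, 0, 16, 12696) .leaf))) (115695, 0, 15, 53758) (.node (.node (.node .leaf (115696, 0, 16, 83610) .leaf) (115697, 0, 16, 204724) (.node .leaf (115702, 0, 14, 27733) .leaf)) (115703, 0, 15, 35891) (.node (.node .leaf (115706, 0, 14, 159982) .leaf) (115707, 0, 18, 168072) (.node .leaf (115708, 0, 16, 250651) .leaf)))) (115709, 0, 14, 260494) (.node (.node (.node (.node .leaf (115712, 0, 14, 204755) .leaf) (115714, 0, 15, 107212) (.node .leaf (115717, 0, 15, 158861) .leaf)) (115719, 0, 14, 169651) (.node (.node .leaf (115721, 0, 15, 63756) .leaf) (115723, 0, 14, 35336)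 (.node .leaf (115724, 0, 17, 66408) .leaf))) (115726, 0, 14, 210765) (.node (.node (.node .leaf (115729, 0, 16, 100320) .leaf) (115731, 0, 15, 101652) (.node .leaf (115732, 0, 14, 148309) .leaf)) (115734, 0, 16, 3712) (.node (.node .leaf (115736, 0, 17, 54996) .leaf) (115738, 0, 15, 135739) (.node .leaf (115741, 0, 18, 236379) .leaf))))))

/-- part of the orbit tree -/
def itp3_271 : Tree := (.node (.node (.node (.node (.node (.node .leaf (115744, 0, 15, 5158) .leaf) (115746, 0, 12, 82947) (.node .leaf (115749, 0, 16, 52579) .leaf)) (115751, 0, 17, 63989) (.node (.node .leaf (115753, 0, 14, 99334) .leaf) (115755, 0, 16, 158836) (.node .leaf (115756, 0, 17, 107061) .leaf))) (115758, 0, 16, 150087) (.node (.node (.node .leaf (115761, 0, 14, 166933) .leaf) (115763, 0, 18, 252976) (.node .leaf (115764, 0, 15, 212575) .leaf)) (115766, 0, 17, 198005) (.node (.node .leaf (115768, 0, 17, 109534) .leaf) (115770, 0, 17, 72142) (.node .leaf (115773, 0, 16, 101869) .leaf)))) (115775, 0, 15, 114827) (.node (.node (.node (.node .leaf (115776,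 0, 14, 135732) .leaf) (115778, 0, 14, 75120) (.node .leaf (115781, 0, 18, 44048) .leaf)) (115783, 0, 15, 130101) (.node (.node .leaf (115785, 0, 17, 176299) .leaf) (115787, 0, 14, 254094) (.node .leaf (115788, 0, 15, 34741) .leaf))) (115790, 0, 16, 225223) (.node (.node (.node .leaf (115793, 0, 12, 191846) .leaf) (115795, 0, 15, 120222) (.node .leaf (115796, 0, 14, 138207) .leaf)) (115798, 0, 18, 222214) (.node (.node .leaf (115800, 0, 19, 10392) .leaf) (115802, 0, 11, 222764) (.node .leaf (115805, 0, 18, 43117) .leaf))))) (115807, 0, 16, 107000) (.node (.node (.node (.node (.node .leaf (115808, 0, 13, 229024) .leaf) (115810, 0, 15, 142981) (.node .leaf (115813, 0, 14, 215309) .leaf)) (115815, 0, 16, 194496) (.node (.node .leaf (115817, 0, 17, 113502) .leaf) (115819, 0, 14, 60283) (.node .leaf (115820, 0, 15, 90651) .leaf))) (115822, 0, 18, 12862) (.node (.node (.node .leaf (115825, 0, 14, 124563) .leaf) (115827, 0, 18, 43156) (.node .leaf (115828, 0, 15, 222933) .leaf)) (115830, 0, 14, 36519) (.node (.node .leaf (115832,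 0, 15, 127828) .leaf) (115834, 0, 16, 160584) (.node .leaf (115837, 0, 16, 120167) .leaf)))) (115839, 0, 17, 146709) (.node (.node (.node (.node .leaf (115840, 0, 15, 100569) .leaf) (115842, 0, 16, 55548) (.node .leaf (115845, 0, 11, 122084) .leaf)) (115847, 0, 16, 144534) (.node (.node .leaf (115849, 0, 17, 216359) .leaf) (115851, 0, 16, 138498) (.node .leaf (115852, 0, 12, 225110) .leaf))) (115854, 0, 13, 181319) (.node (.node (.node .leaf (115857, 0, 12, 120079) .leaf) (115859, 0, 16, 146813) (.node .leaf (115860, 0, 17, 127804) .leaf)) (115862, 0, 17, 170378) (.node (.node .leaf (115864, 0, 8, 120084) .leaf) (115866, 0, 18, 36559) (.node .leaf (115869, 0, 16, 68689) .leaf))))))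

/-- part of the orbit tree -/
def itp3_272 : Tree := (.node (.node (.node (.node (.node (.node .leaf (115872, 0, 15, 34781) .leaf) (115874, 0, 16, 250633) (.node .leaf (115877, 0, 17, 154217) .leaf)) (115879, 0, 16, 199244) (.node (.node .leaf (115881, 0, 16, 144495) .leaf) (115883, 0, 14, 121885) (.node .leaf (115884, 0, 17, 40855) .leaf))) (115886, 0, 17, 129582) (.node (.node (.node .leaf (115889, 0, 10, 43013) .leaf) (115891, 0, 15, 213111) (.node .leaf (115892, 0, 18, 36406) .leaf)) (115894, 0, 17, 222788) (.node (.node .leaf (115896, 0, 17, 138167) .leaf) (115898, 0, 13, 127941) (.node .leaf (115901, 0, 14, 133028) .leaf)))) (115903, 0, 17, 219009) (.node (.node (.node (.node .leaf (115904, 0, 16, 107101) .leaf) (115906, 0, 16, 242298) (.node .leaf (115909, 0, 7, 99438) .leaf)) (115911, 0, 17, 224063) (.node (.node .leaf (115913, 0, 17, 10145) .leaf) (115915, 0, 11, 63901) (.node .leaf (115916, 0, 14, 210908) .leaf))) (115918, 0, 16, 110273) (.node (.node (.node .leaf (115921, 0, 14, 101765) .leaf) (115923, 0, 16,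 76361) (.node .leaf (115924, 0, 13, 109494) .leaf)) (115926, 0, 15, 127756) (.node (.node .leaf (115928, 0, 17, 180114) .leaf) (115930, 0, 16, 54853) (.node .leaf (115933, 0, 17, 157399) .leaf))))) (115935, 0, 17, 61558) (.node (.node (.node (.node (.node .leaf (115936, 0, 17, 125354) .leaf) (115938, 0, 9, 47503) (.node .leaf (115941, 0, 17, 78063) .leaf)) (115943, 0, 18, 200982) (.node (.node .leaf (115945, 0, 15, 158949) .leaf) (115947, 0, 17, 99479) (.node .leaf (115948, 0, 17, 259345) .leaf))) (115950, 0, 16, 107172) (.node (.node (.node .leaf (115953, 0, 14, 61583) .leaf) (115955, 0, 16, 139708) (.node .leaf (115956, 0, 12, 239836) .leaf)) (115958, 0, 18, 194809) (.node (.node .leaf (115960, 0, 16, 148285) .leaf) (115962, 0, 19, 109391) (.node .leaf (115965, 0, 18, 156942) .leaf)))) (115967, 0, 16, 101756) (.node (.node (.node (.node .leaf (115969, 0, 17, 24001) .leaf) (115971, 0, 15, 69092) (.node .leaf (115972, 0, 17, 33924) .leaf)) (115974, 0, 15, 211506) (.node (.node .leaf (115976, 0, 15, 149441) .leaf) (115978,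 0, 16, 247834) (.node .leaf (115981, 0, 15, 147834) .leaf))) (115983, 0, 18, 100736) (.node (.node (.node .leaf (115984, 0, 17, 181746) .leaf) (115986, 0, 17, 209881) (.node .leaf (115989, 0, 12, 138423) .leaf)) (115991, 0, 18, 216210) (.node (.node .leaf (115993, 0, 16, 12) .leaf) (115995, 0, 16, 86057) (.node .leaf (115996, 0, 16, 151082) .leaf))))))

/-- part of the orbit tree -/
def itp3_273 : Tree := (.node itp3_269 (115613, 0, 16, 44981) itp3_270)

/-- part of the orbit tree -/
def itp3_274 : Tree := (.node itp3_271 (115871, 0, 16, 23668) itp3_272)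

/-- part of the orbit tree -/
def itp3_275 : Tree := (.node (.node (.node (.node (.node (.node .leaf (116001, 0, 17, 218676) .leaf) (116003, 0, 13, 132625) (.node .leaf (116004, 0, 17, 110410) .leaf)) (116006, 0, 18, 188244) (.node (.node .leaf (116008, 0, 17, 211659) .leaf) (116010, 0, 16, 53945) (.node .leaf (116013, 0, 16, 84623) .leaf))) (116015, 0, 17, 6826) (.node (.node (.node .leaf (116016, 0, 9, 108193) .leaf) (116018, 0, 17, 151251) (.node .leaf (116021, 0, 16, 71490) .leaf)) (116023, 0, 17, 18279) (.node (.node .leaf (116025, 0, 15, 202003) .leaf) (116027, 0, 14, 154588) (.node .leaf (116028, 0, 16, 250556) .leaf)))) (116030, 0, 16, 164505) (.node (.node (.node (.node .leaf (116033, 0, 15, 210759) .leaf) (116035, 0, 7, 214155) (.node .leaf (116036, 0, 15, 35530) .leaf)) (116038, 0, 14, 221880) (.node (.node .leaf (116040, 0, 17, 127673) .leaf) (116042, 0, 14, 41628) (.node .leaf (116045, 0, 11, 76796) .leaf))) (116047, 0, 17, 119050) (.node (.node (.node .leaf (116048, 0, 17, 110452) .leaf) (116050, 0, 15, 65361)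 (.node .leaf (116053, 0, 15, 95793) .leaf)) (116055, 0, 15, 9748) (.node (.node .leaf (116057, 0, 16, 223882) .leaf) (116059, 0, 14, 121057) (.node .leaf (116060, 0, 17, 242639) .leaf))))) (116062, 0, 15, 189418) (.node (.node (.node (.node (.node .leaf (116065, 0, 16, 119283) .leaf) (116067, 0, 16, 93335) (.node .leaf (116068, 0, 13, 58871) .leaf)) (116070, 0, 17, 139186) (.node (.node .leaf (116072, 0, 18, 221761) .leaf) (116074, 0, 17, 35379) (.node .leaf (116077, 0, 16, 214130) .leaf))) (116079, 0, 18, 44032) (.node (.node (.node .leaf (116080, 0, 15, 173185) .leaf) (116082, 0, 16, 259236) (.node .leaf (116085, 0, 15, 163268) .leaf)) (116087, 0, 14, 208353) (.node (.node .leaf (116089, 0, 16, 216473) .leaf) (116091, 0, 14, 78170) (.node .leaf (116092, 0, 16, 47162) .leaf)))) (116094, 0, 17, 33752) (.node (.node (.node (.node .leaf (116097, 0, 16, 214042) .leaf) (116099, 0, 15, 236270) (.node .leaf (116100, 0, 14, 221737) .leaf)) (116102, 0, 15, 213931) (.node (.node .leaf (116104, 0, 15, 3893) .leaf) (116106, 0, 14, 139226)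 (.node .leaf (116109, 0, 15, 54896) .leaf))) (116111, 0, 16, 99925) (.node (.node (.node .leaf (116112, 0, 15, 224194) .leaf) (116114, 0, 17, 66269) (.node .leaf (116117, 0, 18, 35773) .leaf)) (116119, 0, 16, 121752) (.node (.node .leaf (116121, 0, 14, 169734) .leaf) (116123, 0, 13, 247587) (.node .leaf (116124, 0, 15, 130627) .leaf))))))

/-- part of the orbit tree -/
def itp3_276 : Tree := (.node (.node (.node (.node (.node (.node .leaf (116129, 0, 17, 145680) .leaf) (116131, 0, 18, 37147) (.node .leaf (116132, 0, 16, 71803) .leaf)) (116134, 0, 16, 128849) (.node (.node .leaf (116136, 0, 15, 35490) .leaf) (116138, 0, 13, 221904) (.node .leaf (116141, 0, 17, 44177) .leaf))) (116143, 0, 16, 214243) (.node (.node (.node .leaf (116144, 0, 17, 219405) .leaf) (116146, 0, 14, 130746) (.node .leaf (116149, 0, 18, 229448) .leaf)) (116151, 0, 16, 120969) (.node (.node .leaf (116153, 0, 16, 105715) .leaf) (116155, 0, 15, 52438) (.node .leaf (116156, 0, 17, 33609) .leaf)))) (116158, 0, 13, 224059) (.node (.node (.node (.node .leaf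 (116161, 0, 17, 203920) .leaf) (116163, 0, 17, 62690) (.node .leaf (116164, 0, 14, 211619) .leaf)) (116166, 0, 13, 53969) (.node (.node .leaf (116168, 0, 14, 110370) .leaf) (116170, 0, 16, 144790) (.node .leaf (116173, 0, 17, 244982) .leaf))) (116175, 0, 16, 191699) (.node (.node (.node .leaf (116176, 0, 18, 211070) .leaf) (116178, 0, 17, 56122) (.node .leaf (116181, 0, 17, 254267) .leaf)) (116183, 0, 14, 176414) (.node (.node .leaf (116185, 0, 15, 98554) .leaf) (116187, 0, 16, 157832) (.node .leaf (116188, 0, 18, 108233) .leaf))))) (116190, 0, 16, 151227) (.node (.node (.node (.node (.node .leaf (116193, 0, 18, 175032) .leaf) (116195, 0, 12, 261021) (.node .leaf (116196, 0, 14, 149417) .leaf)) (116198, 0, 15, 205528) (.node (.node .leaf (116200, 0, 15, 53800) .leaf) (116202, 0, 11, 211546) (.node .leaf (116205, 0, 16, 62491) .leaf))) (116207, 0, 16, 203881) (.node (.node (.node .leaf (116208, 0, 13, 151106) .leaf) (116210, 0, 16, 108080) (.node .leaf (116213, 0, 16, 60110) .leaf)) (116215, 0, 13, 98307) (.node (.node .leaf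 (116217, 0, 17, 65008) .leaf) (116219, 0, 17, 202114) (.node .leaf (116220, 0, 15, 56259) .leaf)))) (116222, 0, 16, 229141) (.node (.node (.node (.node .leaf (116228, 0, 15, 12431) .leaf) (116229, 0, 15, 158113) (.node .leaf (116230, 0, 18, 252157) .leaf)) (116231, 0, 17, 98771) (.node (.node .leaf (116232, 0, 19, 71227) .leaf) (116233, 0, 18, 64544) (.node .leaf (116234, 0, 16, 17950) .leaf))) (116235, 0, 17, 201810) (.node (.node (.node .leaf (116240, 0, 17, 14692) .leaf) (116241, 0, 17, 155722) (.node .leaf (116242, 0, 16, 250134) .leaf)) (116243, 0, 17, 64437) (.node (.node .leaf (116252, 0, 16, 218957) .leaf) (116253, 0, 18, 243499) (.node .leaf (116254, 0, 17, 83095) .leaf))))))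

/-- part of the orbit tree -/
def itp3_277 : Tree := (.node (.node (.node (.node (.node (.node .leaf (116260, 0, 17, 373) .leaf) (116261, 0, 16, 57619) (.node .leaf (116262, 0, 18, 173559) .leaf)) (116263, 0, 16, 110902) (.node (.node .leaf (116264, 0, 16, 251908) .leaf) (116265, 0, 17, 196008) (.node .leaf (116266, 0, 16, 12406) .leaf))) (116267, 0, 14, 158040) (.node (.node (.node .leaf (116272, 0, 18, 83054) .leaf) (116273, 0, 14, 204096) (.node .leaf (116274, 0, 16, 175132) .leaf)) (116275, 0, 13, 258112) (.node (.node .leaf (116284, 0, 13, 23736) .leaf) (116285, 0, 14, 48350) (.node .leaf (116286, 0, 17, 68765) .leaf)))) (116287, 0, 14, 126203) (.node (.node (.node (.node .leaf (116292, 0, 18, 24582) .leaf) (116293, 0, 13, 32864) (.node .leaf (116294, 0, 15, 229495) .leaf)) (116295, 0, 14, 118853) (.node (.node .leaf (116296, 0, 17, 163005) .leaf) (116297, 0, 16, 171227) (.node .leaf (116298, 0, 15, 71158) .leaf))) (116299, 0, 13, 249086) (.node (.node (.node .leaf (116304, 0, 13, 25070) .leaf) (116305, 0, 12, 180502)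 (.node .leaf (116306, 0, 18, 231836) .leaf)) (116307, 0, 17, 118962) (.node (.node .leaf (116316, 0, 10, 193647) .leaf) (116317, 0, 16, 56749) (.node .leaf (116318, 0, 17, 72733) .leaf))))) (116319, 0, 18, 214323) (.node (.node (.node (.node (.node .leaf (116324, 0, 15, 70927) .leaf) (116325, 0, 14, 216097) (.node .leaf (116326, 0, 16, 195965) .leaf)) (116327, 0, 13, 187312) (.node (.node .leaf (116328, 0, 16, 96072) .leaf) (116329, 0, 16, 104238) (.node .leaf (116330, 0, 17, 26876) .leaf))) (116331, 0, 17, 143826) (.node (.node (.node .leaf (116336, 0, 13, 72932) .leaf) (116337, 0, 19, 214474) (.node .leaf (116338, 0, 14, 31392) .leaf)) (116339, 0, 16, 39622) (.node (.node .leaf (116348, 0, 13, 210494) .leaf) (116349, 0, 17, 251480) (.node .leaf (116350, 0, 12, 157211) .leaf)))) (116351, 0, 14, 165501) (.node (.node (.node (.node .leaf (116356, 0, 15, 229606) .leaf) (116357, 0, 18, 121288) (.node .leaf (116358, 0, 17, 26772) .leaf)) (116359, 0, 17, 11721) (.node (.node .leaf (116360, 0, 16, 71015) .leaf) (116361, 0, 15,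 221527) (.node .leaf (116362, 0, 16, 184596) .leaf))) (116363, 0, 16, 42043) (.node (.node (.node .leaf (116368, 0, 15, 253180) .leaf) (116369, 0, 15, 118819) (.node .leaf (116370, 0, 16, 167129) .leaf)) (116371, 0, 13, 158911) (.node (.node .leaf (116380, 0, 15, 72844) .leaf) (116381, 0, 14, 73761) (.node .leaf (116382, 0, 18, 36962) .leaf))))))

/-- part of the orbit tree -/
def itp3_278 : Tree := (.node (.node (.node (.node (.node (.node .leaf (116388, 0, 15, 169599) .leaf) (116389, 0, 16, 161305) (.node .leaf (116390, 0, 18, 71070) .leaf)) (116391, 0, 13, 206396) (.node (.node .leaf (116392, 0, 17, 35524) .leaf) (116393, 0, 15, 27298) (.node .leaf (116394, 0, 16, 121569) .leaf))) (116395, 0, 17, 121137) (.node (.node (.node .leaf (116400, 0, 18, 193543) .leaf) (116401, 0, 15, 44329) (.node .leaf (116402, 0, 16, 100140) .leaf)) (116403, 0, 15, 214363) (.node (.node .leaf (116412, 0, 17, 24966) .leaf) (116413, 0, 12, 142292) (.node .leaf (116414, 0, 17, 231924) .leaf)))) (116415, 0, 15, 228337) (.node (.node (.node (.node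 .leaf (116420, 0, 13, 252012) .leaf) (116421, 0, 16, 137066) (.node .leaf (116422, 0, 16, 239401) .leaf)) (116423, 0, 17, 158000) (.node (.node .leaf (116424, 0, 17, 85485) .leaf) (116425, 0, 18, 201923) (.node .leaf (116426, 0, 15, 173471) .leaf))) (116427, 0, 15, 64689) (.node (.node (.node .leaf (116432, 0, 16, 250247) .leaf) (116433, 0, 14, 22044) (.node .leaf (116434, 0, 12, 124511) .leaf)) (116435, 0, 17, 67129) (.node (.node .leaf (116444, 0, 14, 82950) .leaf) (116445, 0, 17, 150183) (.node .leaf (116446, 0, 13, 175220) .leaf))))) (116447, 0, 15, 203394) (.node (.node (.node (.node (.node .leaf (116452, 0, 15, 130297) .leaf) (116453, 0, 18, 64584) (.node .leaf (116454, 0, 15, 44252) .leaf)) (116455, 0, 18, 201786) (.node (.node .leaf (116456, 0, 13, 254018) .leaf) (116457, 0, 12, 196644) (.node .leaf (116458, 0, 18, 176231) .leaf))) (116459, 0, 17, 98747) (.node (.node (.node .leaf (116464, 0, 16, 175245) .leaf) (116465, 0, 16, 62883) (.node .leaf (116466, 0, 16, 191914) .leaf)) (116467, 0, 18, 204241) (.node (.node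 .leaf (116476, 0, 16, 106804) .leaf) (116477, 0, 16, 155682) (.node .leaf (116478, 0, 14, 61713) .leaf)))) (116479, 0, 15, 100432) (.node (.node (.node (.node .leaf (116480, 0, 15, 174193) .leaf) (116481, 0, 14, 29105) (.node .leaf (116482, 0, 16, 115186) .leaf)) (116483, 0, 17, 203053) (.node (.node .leaf (116492, 0, 13, 15856) .leaf) (116493, 0, 15, 158986) (.node .leaf (116494, 0, 16, 253257) .leaf))) (116495, 0, 17, 212271) (.node (.node (.node .leaf (116500, 0, 19, 172442) .leaf) (116501, 0, 18, 143559) (.node .leaf (116502, 0, 15, 84456) .leaf)) (116503, 0, 17, 200902) (.node (.node .leaf (116504, 0, 16, 52250) .leaf) (116505, 0, 13, 159029) .leaf)))))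

/-- part of the orbit tree -/
def itp3_279 : Tree := (.node itp3_275 (116126, 0, 17, 136753) itp3_276)

/-- part of the orbit tree -/
def itp3_280 : Tree := (.node itp3_277 (116383, 0, 16, 28676) itp3_278)

/-- part of the orbit tree -/
def itp3_281 : Tree := (.node itp3_273 (115743, 0, 17, 202901) itp3_274)

/-- part of the orbit tree -/
def itp3_282 : Tree := (.node itp3_279 (116255, 0, 16, 204217) itp3_280)

/-- part of the orbit tree -/
def itp3_283 : Tree := (.node itp3_267 (114976, 0, 17, 175354) itp3_268)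

/-- part of the orbit tree -/
def itp3_284 : Tree := (.node itp3_281 (115998, 0, 18, 108120) itp3_282)

/-- part of the orbit tree -/
def itp3_285 : Tree := (.node (.node (.node (.node (.node (.node .leaf (116507, 0, 18, 99655) .leaf) (116512, 0, 7, 236066) (.node .leaf (116513, 0, 14, 227908) .leaf)) (116514, 0, 17, 182791) (.node (.node .leaf (116515, 0, 15, 156711) .leaf) (116524, 0, 15, 82170) (.node .leaf (116525, 0, 11, 203220) .leaf))) (116526, 0, 18, 54972) (.node (.node (.node .leaf (116527, 0, 16, 61862) .leaf) (116532, 0, 17, 253072) (.node .leaf (116533, 0, 15, 99774) .leaf)) (116534, 0, 13, 35697) (.node (.node .leaf (116535, 0, 18, 27415) .leaf) (116536, 0, 15, 247791) (.node .leaf (116537, 0, 16, 206729) .leaf)))) (116538, 0, 15, 172387) (.node (.node (.node (.node .leaf (116539, 0, 14, 161708) .leaf) (116544, 0, 17, 260945) (.node .leaf (116545, 0, 14, 203575) .leaf)) (116546, 0, 17, 174964) (.node (.node .leaf (116547, 0, 15, 213415) .leaf) (116556, 0, 17, 124906) (.node .leaf (116557, 0, 12, 146516) .leaf)))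 (116558, 0, 18, 47055) (.node (.node (.node .leaf (116559, 0, 15, 22441) .leaf) (116564, 0, 17, 194832) (.node .leaf (116565, 0, 16, 41022) .leaf)) (116566, 0, 17, 59906) (.node (.node .leaf (116567, 0, 17, 2660) .leaf) (116568, 0, 19, 239260) (.node .leaf (116569, 0, 15, 214778) .leaf))))) (116570, 0, 17, 194233) (.node (.node (.node (.node (.node .leaf (116571, 0, 15, 136927) .leaf) (116576, 0, 16, 232945) (.node .leaf (116577, 0, 7, 4290) .leaf)) (116578, 0, 17, 25987) (.node (.node .leaf (116579, 0, 13, 146605) .leaf) (116588, 0, 16, 71792) (.node .leaf (116589, 0, 17, 134265) .leaf))) (116590, 0, 18, 192514) (.node (.node (.node .leaf (116591, 0, 17, 220252) .leaf) (116596, 0, 11, 230426) (.node .leaf (116597, 0, 18, 122164) .leaf)) (116598, 0, 18, 254455) (.node (.node .leaf (116599, 0, 16, 197009) .leaf) (116600, 0, 18, 70043) (.node .leaf (116601, 0, 15, 19727) .leaf)))) (116602, 0, 16, 130380) (.node (.node (.node (.node .leaf (116603, 0, 15, 41159) .leaf) (116608, 0, 17, 132829) (.node .leaf (116609, 0, 15, 190139)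 .leaf)) (116610, 0, 16, 218872) (.node (.node .leaf (116611, 0, 18, 43332) .leaf) (116620, 0, 15, 6758) (.node .leaf (116621, 0, 14, 119991) .leaf))) (116622, 0, 12, 84547) (.node (.node (.node .leaf (116623, 0, 14, 146629) .leaf) (116628, 0, 16, 18347) (.node .leaf (116629, 0, 17, 42957) .leaf)) (116630, 0, 18, 194945) (.node (.node .leaf (116631, 0, 16, 41135) .leaf) (116632, 0, 16, 154384) (.node .leaf (116633, 0, 14, 179062) .leaf))))))

/-- part of the orbit tree -/
def itp3_286 : Tree := (.node (.node (.node (.node (.node (.node .leaf (116635, 0, 15, 256851) .leaf) (116640, 0, 15, 68904) (.node .leaf (116641, 0, 12, 146492) .leaf)) (116642, 0, 14, 23821) (.node (.node .leaf (116643, 0, 6, 48491) .leaf) (116652, 0, 13, 192659) (.node .leaf (116653, 0, 12, 258549) .leaf))) (116654, 0, 11, 147894) (.node (.node (.node .leaf (116655, 0, 13, 172496) .leaf) (116660, 0, 17, 27897) (.node .leaf (116661, 0, 18, 144855) .leaf)) (116662, 0, 16, 230539) (.node (.node .leaf (116663, 0, 16, 122277) .leaf) (116664, 0, 17, 86245) (.node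 .leaf (116665, 0, 15, 110723) .leaf)))) (116666, 0, 16, 192) (.node (.node (.node (.node .leaf (116667, 0, 16, 215076) .leaf) (116672, 0, 13, 93275) (.node .leaf (116673, 0, 17, 101437) .leaf)) (116674, 0, 14, 174304) (.node (.node .leaf (116675, 0, 15, 61902) .leaf) (116684, 0, 16, 251155) (.node .leaf (116685, 0, 14, 233606) .leaf))) (116686, 0, 14, 15713) (.node (.node (.node .leaf (116687, 0, 14, 180387) .leaf) (116692, 0, 16, 84345) (.node .leaf (116693, 0, 19, 200791) .leaf)) (116694, 0, 15, 172299) (.node (.node .leaf (116695, 0, 17, 63525) .leaf) (116696, 0, 17, 78230) (.node .leaf (116697, 0, 17, 119280) .leaf))))) (116698, 0, 16, 25011) (.node (.node (.node (.node (.node .leaf (116699, 0, 18, 33237) .leaf) (116704, 0, 14, 15768) (.node .leaf (116705, 0, 14, 165832) .leaf)) (116706, 0, 16, 251370) (.node (.node .leaf (116707, 0, 17, 101572) .leaf) (116716, 0, 17, 31509) (.node .leaf (116717, 0, 18, 61751) .leaf))) (116718, 0, 15, 76592) (.node (.node (.node .leaf (116719, 0, 13, 203077) .leaf) (116724, 0, 18, 9944)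 (.node .leaf (116725, 0, 17, 159069) .leaf)) (116726, 0, 15, 95997) (.node (.node .leaf (116727, 0, 14, 104091) .leaf) (116728, 0, 18, 172530) (.node .leaf (116729, 0, 15, 63708) .leaf)))) (116730, 0, 18, 84352) (.node (.node (.node (.node .leaf (116731, 0, 16, 200878) .leaf) (116736, 0, 17, 31591) (.node .leaf (116739, 0, 16, 45865) .leaf)) (116740, 0, 16, 228712) (.node (.node .leaf (116743, 0, 19, 127495) .leaf) (116745, 0, 7, 179865) (.node .leaf (116746, 0, 12, 200410) .leaf))) (116749, 0, 15, 165818) (.node (.node (.node .leaf (116750, 0, 13, 32646) .leaf) (116753, 0, 15, 189268) (.node .leaf (116754, 0, 17, 217879) .leaf)) (116757, 0, 10, 186999) (.node (.node .leaf (116758, 0, 15, 189420) .leaf) (116760, 0, 16, 237087) (.node .leaf (116763, 0, 14, 104169) .leaf))))))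

/-- part of the orbit tree -/
def itp3_287 : Tree := (.node (.node (.node (.node (.node (.node .leaf (116767, 0, 17, 110538) .leaf) (116768, 0, 18, 32639) (.node .leaf (116771, 0, 16, 118307) .leaf)) (116772, 0, 18, 131170) (.node (.node .leaf (116775, 0, 17, 195058) .leaf) (116777, 0, 13, 183501) (.node .leaf (116778, 0, 15, 228753) .leaf))) (116781, 0, 16, 101455) (.node (.node (.node .leaf (116782, 0, 17, 15372) .leaf) (116785, 0, 15, 20647) (.node .leaf (116786, 0, 17, 22754) .leaf)) (116789, 0, 15, 119170) (.node (.node .leaf (116790, 0, 17, 25025) .leaf) (116792, 0, 17, 208223) (.node .leaf (116795, 0, 18, 217673) .leaf)))) (116796, 0, 14, 201852) (.node (.node (.node (.node .leaf (116799, 0, 17, 77140) .leaf) (116800, 0, 14, 201185) (.node .leaf (116803, 0, 15, 172450) .leaf)) (116804, 0, 17, 207042) (.node (.node .leaf (116807, 0, 17, 169150) .leaf) (116809, 0, 16, 256333) (.node .leaf (116810, 0, 9, 153617) .leaf))) (116813, 0, 17, 126268) (.node (.node (.node .leaf (116814, 0, 17, 9996) .leaf) (116817, 0, 16, 100818)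 (.node .leaf (116818, 0, 16, 14737) .leaf)) (116821, 0, 16, 110833) (.node (.node .leaf (116822, 0, 16, 178) .leaf) (116824, 0, 18, 247445) (.node .leaf (116827, 0, 11, 161737) .leaf))))) (116828, 0, 19, 226575) (.node (.node (.node (.node (.node .leaf (116831, 0, 17, 2260) .leaf) (116832, 0, 18, 6676) (.node .leaf (116835, 0, 13, 104105) .leaf)) (116836, 0, 15, 153832) (.node (.node .leaf (116839, 0, 17, 256436) .leaf) (116841, 0, 15, 188394) (.node .leaf (116842, 0, 13, 225193) .leaf))) (116845, 0, 15, 190153) (.node (.node (.node .leaf (116846, 0, 18, 218762) .leaf) (116849, 0, 15, 2093) (.node .leaf (116850, 0, 14, 113009) .leaf)) (116853, 0, 17, 178948) (.node (.node .leaf (116854, 0, 15, 199495) .leaf) (116856, 0, 13, 179103) (.node .leaf (116859, 0, 14, 199363) .leaf)))) (116860, 0, 18, 50306) (.node (.node (.node (.node .leaf (116863, 0, 17, 118457) .leaf) (116864, 0, 15, 176668) (.node .leaf (116867, 0, 18, 197440) .leaf)) (116868, 0, 15, 52481) (.node (.node .leaf (116871, 0, 17, 97373) .leaf) (116873, 0, 17, 10643)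 (.node .leaf (116874, 0, 17, 104912) .leaf))) (116877, 0, 17, 163507) (.node (.node (.node .leaf (116878, 0, 17, 249839) .leaf) (116881, 0, 16, 171460) (.node .leaf (116882, 0, 19, 208024) .leaf)) (116885, 0, 17, 19837) (.node (.node .leaf (116886, 0, 15, 130366) .leaf) (116888, 0, 17, 176544) (.node .leaf (116891, 0, 16, 197091) .leaf))))))

/-- part of the orbit tree -/
def itp3_288 : Tree := (.node (.node (.node (.node (.node (.node .leaf (116895, 0, 17, 211136) .leaf) (116896, 0, 17, 249622) (.node .leaf (116899, 0, 14, 22491) .leaf)) (116900, 0, 15, 110603) (.node (.node .leaf (116903, 0, 14, 343) .leaf) (116905, 0, 15, 205414) (.node .leaf (116906, 0, 16, 52728) .leaf))) (116909, 0, 15, 197561) (.node (.node (.node .leaf (116910, 0, 16, 176869) .leaf) (116913, 0, 14, 254158) (.node .leaf (116914, 0, 16, 184296) .leaf)) (116917, 0, 13, 214664) (.node (.node .leaf (116918, 0, 6, 194251) .leaf) (116920, 0, 15, 113237) (.node .leaf (116923, 0, 12, 57888) .leaf)))) (116924, 0, 13, 99190) (.node (.node (.node (.node .leaf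 (116927, 0, 15, 13109) .leaf) (116928, 0, 16, 100075) (.node .leaf (116931, 0, 15, 220106) .leaf)) (116932, 0, 17, 38283) (.node (.node .leaf (116935, 0, 17, 74967) .leaf) (116937, 0, 17, 22820) (.node .leaf (116938, 0, 14, 125048) .leaf))) (116941, 0, 17, 227894) (.node (.node (.node .leaf (116942, 0, 15, 235365) .leaf) (116945, 0, 16, 204504) (.node .leaf (116946, 0, 17, 175771) .leaf)) (116949, 0, 16, 47699) (.node (.node .leaf (116950, 0, 15, 169912) .leaf) (116952, 0, 15, 30460) (.node .leaf (116955, 0, 14, 27493) .leaf))))) (116956, 0, 15, 123397) (.node (.node (.node (.node (.node .leaf (116959, 0, 12, 243901) .leaf) (116960, 0, 18, 167198) (.node .leaf (116963, 0, 18, 140992) .leaf)) (116964, 0, 10, 177213) (.node (.node .leaf (116967, 0, 18, 23005) .leaf) (116969, 0, 19, 18656) (.node .leaf (116970, 0, 16, 38258) .leaf))) (116973, 0, 15, 219955) (.node (.node (.node .leaf (116974, 0, 16, 115072) .leaf) (116977, 0, 17, 243780) (.node .leaf (116978, 0, 14, 133400) .leaf)) (116981, 0, 16, 116569) (.node (.node .leaf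 (116982, 0, 13, 30213) .leaf) (116984, 0, 15, 68598) (.node .leaf (116987, 0, 15, 47786) .leaf)))) (116988, 0, 15, 226539) (.node (.node (.node (.node .leaf (116991, 0, 18, 181687) .leaf) (116993, 0, 14, 211317) (.node .leaf (116994, 0, 16, 166198) .leaf)) (116997, 0, 15, 115621) (.node (.node .leaf (116998, 0, 14, 176149) .leaf) (117000, 0, 16, 130187) (.node .leaf (117003, 0, 15, 19656) .leaf))) (117004, 0, 16, 116136) (.node (.node (.node .leaf (117007, 0, 14, 180555) .leaf) (117008, 0, 17, 106822) (.node .leaf (117011, 0, 14, 139836) .leaf)) (117012, 0, 17, 126077) (.node (.node .leaf (117015, 0, 18, 10278) .leaf) (117017, 0, 17, 73938) (.node .leaf (117018, 0, 14, 185595) .leaf))))))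

/-- part of the orbit tree -/
def itp3_289 : Tree := (.node itp3_285 (116634, 0, 16, 27648) itp3_286)

/-- part of the orbit tree -/
def itp3_290 : Tree := (.node itp3_287 (116892, 0, 14, 151915) itp3_288)

/-- part of the orbit tree -/
def itp3_291 : Tree := (.node (.node (.node (.node (.node (.node .leaf (117022, 0, 13, 191960) .leaf) (117025, 0, 16, 12928) (.node .leaf (117026, 0, 17, 99011) .leaf)) (117029, 0, 14, 2979) (.node (.node .leaf (117030, 0, 10, 113632) .leaf) (117032, 0, 17, 194430) (.node .leaf (117035, 0, 17, 115548) .leaf))) (117036, 0, 17, 134429) (.node (.node (.node .leaf (117039, 0, 17, 228894) .leaf) (117040, 0, 13, 174771) (.node .leaf (117043, 0, 14, 203504) .leaf)) (117044, 0, 18, 168848) (.node (.node .leaf (117047, 0, 18, 73771) .leaf) (117049, 0, 14, 24024) (.node .leaf (117050, 0, 15, 122638) .leaf)))) (117053, 0, 17, 22126) (.node (.node (.node (.node .leaf (117054, 0, 16, 124461) .leaf) (117057, 0, 18, 255026) (.node .leaf (117058, 0, 16, 152942) .leaf)) (117061, 0, 13, 27344) (.node (.node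 .leaf (117062, 0, 16, 121491) .leaf) (117064, 0, 17, 169485) (.node .leaf (117067, 0, 13, 206414) .leaf))) (117068, 0, 17, 207005) (.node (.node (.node .leaf (117071, 0, 15, 170433) .leaf) (117072, 0, 17, 248810) (.node .leaf (117075, 0, 17, 228227) .leaf)) (117076, 0, 17, 111863) (.node (.node .leaf (117079, 0, 13, 213664) .leaf) (117081, 0, 17, 96344) (.node .leaf (117082, 0, 14, 51460) .leaf))))) (117085, 0, 16, 198469) (.node (.node (.node (.node (.node .leaf (117086, 0, 17, 100190) .leaf) (117089, 0, 13, 219142) (.node .leaf (117090, 0, 17, 190533) .leaf)) (117093, 0, 16, 58917) (.node (.node .leaf (117094, 0, 17, 87929) .leaf) (117096, 0, 15, 105976) (.node .leaf (117099, 0, 17, 105430) .leaf))) (117100, 0, 16, 152983) (.node (.node (.node .leaf (117103, 0, 16, 255179) .leaf) (117104, 0, 12, 177888) (.node .leaf (117107, 0, 16, 28790) .leaf)) (117108, 0, 16, 129302) (.node (.node .leaf (117111, 0, 16, 96417) .leaf) (117113, 0, 13, 1362) (.node .leaf (117114, 0, 17, 111630) .leaf)))) (117117, 0, 17, 162383) (.node (.node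 (.node (.node .leaf (117118, 0, 14, 167083) .leaf) (117121, 0, 15, 3281) (.node .leaf (117122, 0, 15, 114061) .leaf)) (117125, 0, 16, 104284) (.node (.node .leaf (117126, 0, 15, 10015) .leaf) (117128, 0, 18, 180067) (.node .leaf (117131, 0, 18, 200255) .leaf))) (117132, 0, 15, 49278) (.node (.node (.node .leaf (117135, 0, 17, 189153) .leaf) (117136, 0, 14, 8969) (.node .leaf (117139, 0, 17, 102997) .leaf)) (117140, 0, 15, 200559) (.node (.node .leaf (117143, 0, 16, 180012) .leaf) (117145, 0, 15, 168123) (.node .leaf (117146, 0, 17, 205287) .leaf))))))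

/-- part of the orbit tree -/
def itp3_292 : Tree := (.node (.node (.node (.node (.node (.node .leaf (117150, 0, 17, 89850) .leaf) (117153, 0, 14, 173450) (.node .leaf (117154, 0, 14, 49287) .leaf)) (117157, 0, 16, 171177) (.node (.node .leaf (117158, 0, 15, 208106) .leaf) (117160, 0, 15, 24692) (.node .leaf (117163, 0, 16, 118839) .leaf))) (117164, 0, 12, 22871) (.node (.node (.node .leaf (117167, 0, 15, 3112) .leaf) (117168, 0, 13, 15801) (.node .leaf (117171, 0, 16, 61279) .leaf)) (117172, 0, 17, 205086) (.node (.node .leaf (117175, 0, 16, 111833) .leaf) (117177, 0, 17, 194631) (.node .leaf (117178, 0, 7, 215044) .leaf)))) (117181, 0, 14, 180580) (.node (.node (.node (.node .leaf (117182, 0, 16, 225575) .leaf) (117185, 0, 15, 181497) (.node .leaf (117186, 0, 15, 124167) .leaf)) (117189, 0, 14, 196058) (.node (.node .leaf (117190, 0, 16, 216473) .leaf) (117192, 0, 18, 263) (.node .leaf (117195, 0, 10, 110916) .leaf))) (117196, 0, 16, 39156) (.node (.node (.node .leaf (117199, 0, 16, 100455) .leaf) (117200, 0, 18, 23754)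 (.node .leaf (117203, 0, 15, 117471) .leaf)) (117204, 0, 16, 132254) (.node (.node .leaf (117207, 0, 17, 120234) .leaf) (117209, 0, 15, 182321) (.node .leaf (117210, 0, 16, 207223) .leaf))))) (117213, 0, 19, 172055) (.node (.node (.node (.node (.node .leaf (117214, 0, 14, 200788) .leaf) (117217, 0, 16, 76113) (.node .leaf (117218, 0, 15, 38925) .leaf)) (117221, 0, 19, 218700) (.node (.node .leaf (117222, 0, 17, 190224) .leaf) (117224, 0, 17, 199410) (.node .leaf (117227, 0, 18, 178865) .leaf))) (117228, 0, 17, 124414) (.node (.node (.node .leaf (117231, 0, 16, 21666) .leaf) (117232, 0, 20, 67209) (.node .leaf (117235, 0, 16, 47061) .leaf)) (117236, 0, 17, 227732) (.node (.node .leaf (117239, 0, 17, 182472) .leaf) (117241, 0, 19, 103105) (.node .leaf (117242, 0, 17, 132199) .leaf)))) (117245, 0, 18, 117286) (.node (.node (.node (.node .leaf (117246, 0, 13, 7073) .leaf) (117250, 0, 15, 192299) (.node .leaf (117251, 0, 14, 46597) .leaf)) (117254, 0, 15, 36918) (.node (.node .leaf (117255, 0, 12, 122487) .leaf) (117256, 0, 16,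 160399) (.node .leaf (117257, 0, 17, 242923) .leaf))) (117260, 0, 17, 150444) (.node (.node (.node .leaf (117261, 0, 13, 117750) .leaf) (117264, 0, 17, 143170) (.node .leaf (117265, 0, 12, 75905) .leaf)) (117268, 0, 15, 136801) (.node (.node .leaf (117269, 0, 14, 194055) .leaf) (117274, 0, 17, 88831) (.node .leaf (117275, 0, 16, 113305) .leaf))))))

/-- part of the orbit tree -/
def itp3_293 : Tree := (.node (.node (.node (.node (.node (.node .leaf (117279, 0, 16, 99258) .leaf) (117282, 0, 14, 134343) (.node .leaf (117283, 0, 16, 117519) .leaf)) (117286, 0, 17, 126268) (.node (.node .leaf (117287, 0, 13, 242706) .leaf) (117288, 0, 15, 37071) (.node .leaf (117289, 0, 12, 104732) .leaf))) (117292, 0, 15, 192466) (.node (.node (.node .leaf (117293, 0, 11, 46844) .leaf) (117296, 0, 14, 134309) (.node .leaf (117297, 0, 15, 115921) .leaf)) (117300, 0, 13, 29624) (.node (.node .leaf (117301, 0, 17, 141974) .leaf) (117306, 0, 16, 69195) (.node .leaf (117307, 0, 16, 218981) .leaf)))) (117310, 0, 16, 157737) (.node (.node (.node (.node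 .leaf (117311, 0, 17, 165967) .leaf) (117314, 0, 16, 178081) (.node .leaf (117315, 0, 16, 167378) .leaf)) (117318, 0, 15, 152727) (.node (.node .leaf (117319, 0, 13, 177393) .leaf) (117320, 0, 16, 71689) (.node .leaf (117321, 0, 16, 129135) .leaf))) (117324, 0, 15, 248402) (.node (.node (.node .leaf (117325, 0, 17, 115020) .leaf) (117328, 0, 16, 207141) (.node .leaf (117329, 0, 17, 107938) .leaf)) (117332, 0, 18, 87608) (.node (.node .leaf (117333, 0, 14, 105601) .leaf) (117338, 0, 17, 143481) (.node .leaf (117339, 0, 15, 160485) .leaf))))) (117342, 0, 17, 152790) (.node (.node (.node (.node (.node .leaf (117343, 0, 16, 190780) .leaf) (117346, 0, 13, 248491) (.node .leaf (117347, 0, 17, 99879) .leaf)) (117350, 0, 14, 89954) (.node (.node .leaf (117351, 0, 14, 257176) .leaf) (117352, 0, 17, 136188) (.node .leaf (117353, 0, 13, 168299) .leaf))) (117356, 0, 16, 178008) (.node (.node (.node .leaf (117357, 0, 17, 61046) .leaf) (117360, 0, 18, 152623) (.node .leaf (117361, 0, 18, 175703) .leaf)) (117364, 0, 16, 11058) (.node (.node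 .leaf (117365, 0, 14, 169844) .leaf) (117370, 0, 17, 80780) (.node .leaf (117371, 0, 17, 200687) .leaf)))) (117374, 0, 16, 207324) (.node (.node (.node (.node .leaf (117375, 0, 16, 123593) .leaf) (117378, 0, 17, 89922) (.node .leaf (117379, 0, 18, 198252) .leaf)) (117382, 0, 18, 204895) (.node (.node .leaf (117383, 0, 16, 215421) .leaf) (117384, 0, 14, 155052) (.node .leaf (117385, 0, 16, 1154) .leaf))) (117388, 0, 16, 8881) (.node (.node (.node .leaf (117389, 0, 16, 162719) .leaf) (117392, 0, 15, 49606) (.node .leaf (117393, 0, 15, 170216) .leaf)) (117396, 0, 15, 33131) (.node (.node .leaf (117397, 0, 15, 59381) .leaf) (117402, 0, 16, 246568) (.node .leaf (117403, 0, 16, 104966) .leaf))))))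

/-- part of the orbit tree -/
def itp3_294 : Tree := (.node (.node (.node (.node (.node (.node .leaf (117407, 0, 12, 255259) .leaf) (117410, 0, 16, 39885) (.node .leaf (117411, 0, 17, 31659) .leaf)) (117414, 0, 17, 41710) (.node (.node .leaf (117415, 0, 17, 1147) .leaf) (117416, 0, 18, 204966) (.node .leaf (117417, 0, 16, 96648) .leaf))) (117420, 0, 13, 90043) (.node (.node (.node .leaf (117421, 0, 16, 198293) .leaf) (117424, 0, 16, 113868) (.node .leaf (117425, 0, 16, 218075) .leaf)) (117428, 0, 7, 232094) (.node (.node .leaf (117429, 0, 17, 105215) .leaf) (117434, 0, 17, 179746) (.node .leaf (117435, 0, 18, 9830) .leaf)))) (117438, 0, 12, 49471) (.node (.node (.node (.node .leaf (117439, 0, 17, 8005) .leaf) (117442, 0, 17, 64190) (.node .leaf (117443, 0, 13, 220902) .leaf)) (117446, 0, 16, 50077) (.node (.node .leaf (117447, 0, 17, 74235) .leaf) (117448, 0, 14, 132390) (.node .leaf (117449, 0, 17, 225125) .leaf))) (117452, 0, 15, 31291) (.node (.node (.node .leaf (117453, 0, 14, 218694) .leaf) (117456, 0, 15, 250574) (.node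 .leaf (117457, 0, 14, 209576) .leaf)) (117460, 0, 16, 257005) (.node (.node .leaf (117461, 0, 16, 199563) .leaf) (117466, 0, 14, 236450) (.node .leaf (117467, 0, 15, 115340) .leaf))))) (117470, 0, 18, 124095) (.node (.node (.node (.node (.node .leaf (117471, 0, 14, 32310) .leaf) (117474, 0, 16, 31426) (.node .leaf (117475, 0, 18, 140268) .leaf)) (117478, 0, 18, 247912) (.node (.node .leaf (117479, 0, 18, 23793) .leaf) (117480, 0, 15, 227372) (.node .leaf (117481, 0, 17, 25744) .leaf))) (117484, 0, 16, 67377) (.node (.node (.node .leaf (117485, 0, 16, 220703) .leaf) (117488, 0, 13, 55611) (.node .leaf (117489, 0, 17, 245096) .leaf)) (117492, 0, 15, 57368) (.node (.node .leaf (117493, 0, 15, 115317) .leaf) (117498, 0, 16, 240774) (.node .leaf (117499, 0, 16, 49030) .leaf)))) (117502, 0, 15, 234917) (.node (.node (.node (.node .leaf (117503, 0, 14, 226755) .leaf) (117504, 0, 16, 123066) (.node .leaf (117505, 0, 17, 244116) .leaf)) (117508, 0, 12, 237479) (.node (.node .leaf (117509, 0, 16, 207910) .leaf) (117514, 0, 18, 189012)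 (.node .leaf (117515, 0, 15, 24760) .leaf))) (117518, 0, 11, 47613) (.node (.node (.node .leaf (117519, 0, 15, 181351) .leaf) (117522, 0, 15, 56595) (.node .leaf (117523, 0, 15, 141072) .leaf)) (117526, 0, 14, 58416) (.node (.node .leaf (117527, 0, 15, 22541) .leaf) (117528, 0, 16, 228560) .leaf)))))

/-- part of the orbit tree -/
def itp3_295 : Tree := (.node itp3_291 (117149, 0, 16, 117393) itp3_292)

/-- part of the orbit tree -/
def itp3_296 : Tree := (.node itp3_293 (117406, 0, 18, 259286) itp3_294)

/-- part of the orbit tree -/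
def itp3_297 : Tree := (.node itp3_289 (116764, 0, 15, 123138) itp3_290)

/-- part of the orbit tree -/
def itp3_298 : Tree := (.node itp3_295 (117278, 0, 16, 91100) itp3_296)

/-- part of the orbit tree -/
def itp3_299 : Tree := (.node (.node (.node (.node (.node (.node .leaf (117532, 0, 14, 233869) .leaf) (117533, 0, 12, 225771) (.node .leaf (117536, 0, 15, 40368) .leaf)) (117537, 0, 16, 7920) (.node (.node .leaf (117540, 0, 16, 51125) .leaf) (117541, 0, 14, 48003) (.node .leaf (117546, 0, 17, 232235) .leaf))) (117547, 0, 14, 116336) (.node (.node (.node .leaf (117550, 0, 17, 122947) .leaf) (117551, 0, 18, 244077) (.node .leaf (117554, 0, 17, 251622) .leaf)) (117555, 0, 17, 210560) (.node (.node .leaf (117558, 0, 16, 257989) .leaf) (117559, 0, 13, 75015) (.node .leaf (117560, 0, 17, 41819) .leaf)))) (117561, 0, 19, 22772) (.node (.node (.node (.node .leaf (117564, 0, 18, 32455) .leaf) (117565, 0, 12, 141289) (.node .leaf (117568, 0, 16, 112688) .leaf)) (117569, 0, 16, 254238) (.node (.node .leaf (117572, 0, 13, 42694) .leaf)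 (117573, 0, 16, 105987) (.node .leaf (117578, 0, 18, 256600) .leaf))) (117579, 0, 15, 58352) (.node (.node (.node .leaf (117582, 0, 17, 50627) .leaf) (117583, 0, 15, 171245) (.node .leaf (117586, 0, 17, 243605) .leaf)) (117587, 0, 11, 219123) (.node (.node .leaf (117590, 0, 17, 154025) .leaf) (117591, 0, 16, 135) (.node .leaf (117592, 0, 17, 49704) .leaf))))) (117593, 0, 14, 8782) (.node (.node (.node (.node (.node .leaf (117596, 0, 18, 88903) .leaf) (117597, 0, 16, 197225) (.node .leaf (117600, 0, 18, 234512) .leaf)) (117601, 0, 17, 226422) (.node (.node .leaf (117604, 0, 15, 178727) .leaf) (117605, 0, 17, 216405) (.node .leaf (117610, 0, 13, 57773) .leaf))) (117611, 0, 16, 106234) (.node (.node (.node .leaf (117614, 0, 17, 112841) .leaf) (117615, 0, 16, 254439) (.node .leaf (117618, 0, 17, 48224) .leaf)) (117619, 0, 12, 197264) (.node (.node .leaf (117622, 0, 17, 34115) .leaf) (117623, 0, 18, 97677) (.node .leaf (117624, 0, 17, 248285) .leaf)))) (117625, 0, 16, 126) (.node (.node (.node (.node .leaf (117628, 0, 16, 9805)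 .leaf) (117629, 0, 18, 163683) (.node .leaf (117632, 0, 15, 90729) .leaf)) (117633, 0, 18, 2557) (.node (.node .leaf (117636, 0, 16, 88906) .leaf) (117637, 0, 16, 161504) (.node .leaf (117642, 0, 15, 86589) .leaf))) (117643, 0, 16, 194482) (.node (.node (.node .leaf (117646, 0, 18, 143095) .leaf) (117647, 0, 16, 183953) (.node .leaf (117650, 0, 17, 150041) .leaf)) (117651, 0, 16, 104313) (.node (.node .leaf (117654, 0, 18, 110922) .leaf) (117655, 0, 15, 256100) (.node .leaf (117656, 0, 18, 81828) .leaf))))))

/-- part of the orbit tree -/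
def itp3_300 : Tree := (.node (.node (.node (.node (.node (.node .leaf (117660, 0, 13, 67207) .leaf) (117661, 0, 17, 60042) (.node .leaf (117664, 0, 15, 208345) .leaf)) (117665, 0, 17, 166394) (.node (.node .leaf (117668, 0, 15, 151743) .leaf) (117669, 0, 15, 199658) (.node .leaf (117674, 0, 17, 12087) .leaf))) (117675, 0, 16, 161305) (.node (.node (.node .leaf (117678, 0, 14, 75010) .leaf) (117679, 0, 14, 116068) (.node .leaf (117682, 0, 13, 176989) .leaf)) (117683, 0, 16, 60019) (.node (.node .leaf (117686, 0, 16, 96463) .leaf) (117687, 0, 18, 169326) (.node .leaf (117688, 0, 15, 144465) .leaf)))) (117689, 0, 13, 256157) (.node (.node (.node (.node .leaf (117692, 0, 16, 249518) .leaf) (117693, 0, 18, 191764) (.node .leaf (117696, 0, 16, 133209) .leaf)) (117697, 0, 17, 190601) (.node (.node .leaf (117700, 0, 19, 143820) .leaf) (117701, 0, 17, 184746) (.node .leaf (117706, 0, 16, 68279) .leaf))) (117707, 0, 12, 105780) (.node (.node (.node .leaf (117710, 0, 14, 83057) .leaf) (117711, 0, 13, 76932) (.node .leaf (117714, 0,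 15, 73887) .leaf)) (117715, 0, 17, 114937) (.node (.node .leaf (117718, 0, 17, 125376) .leaf) (117719, 0, 19, 129498) (.node .leaf (117720, 0, 15, 37939) .leaf))))) (117721, 0, 17, 183581) (.node (.node (.node (.node (.node .leaf (117724, 0, 14, 191278) .leaf) (117725, 0, 9, 45568) (.node .leaf (117728, 0, 17, 66330) .leaf)) (117729, 0, 18, 76925) (.node (.node .leaf (117732, 0, 17, 68174) .leaf) (117733, 0, 15, 121439) (.node .leaf (117738, 0, 18, 30653) .leaf))) (117739, 0, 17, 169665) (.node (.node (.node .leaf (117742, 0, 17, 151428) .leaf) (117743, 0, 12, 20878) (.node .leaf (117746, 0, 17, 191447) .leaf)) (117747, 0, 15, 45817) (.node (.node .leaf (117750, 0, 12, 38090) .leaf) (117751, 0, 5, 193071) (.node .leaf (117752, 0, 13, 89815) .leaf)))) (117753, 0, 18, 241687) (.node (.node (.node (.node .leaf (117756, 0, 16, 235044) .leaf) (117757, 0, 16, 100242) (.node .leaf (117761, 0, 17, 98729) .leaf)) (117763, 0, 17, 53644) (.node (.node .leaf (117765, 0, 15, 141746) .leaf) (117767, 0, 14, 59567) (.node .leaf (117768,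 0, 16, 214103) .leaf))) (117770, 0, 16, 136306) (.node (.node (.node .leaf (117772, 0, 15, 39424) .leaf) (117774, 0, 13, 225906) (.node .leaf (117776, 0, 16, 31095) .leaf)) (117778, 0, 18, 233733) (.node (.node .leaf (117780, 0, 17, 132714) .leaf) (117782, 0, 16, 159900) (.node .leaf (117785, 0, 19, 182981) .leaf))))))

/-- part of the orbit tree -/
def itp3_301 : Tree := (.node (.node (.node (.node (.node (.node .leaf (117789, 0, 15, 124231) .leaf) (117791, 0, 14, 46434) (.node .leaf (117793, 0, 9, 166492) .leaf)) (117795, 0, 15, 181207) (.node (.node .leaf (117797, 0, 16, 177023) .leaf) (117799, 0, 17, 254810) (.node .leaf (117800, 0, 18, 235543) .leaf))) (117802, 0, 15, 28773) (.node (.node (.node .leaf (117804, 0, 17, 30337) .leaf) (117806, 0, 17, 135032) (.node .leaf (117808, 0, 13, 66685) .leaf)) (117810, 0, 14, 82506) (.node (.node .leaf (117812, 0, 18, 11084) .leaf) (117814, 0, 13, 97129) (.node .leaf (117817, 0, 16, 243663) .leaf)))) (117819, 0, 16, 231348) (.node (.node (.node (.node .leaf (117821, 0, 10, 192178)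 .leaf) (117823, 0, 15, 139424) (.node .leaf (117825, 0, 16, 191279) .leaf)) (117827, 0, 16, 244490) (.node (.node .leaf (117829, 0, 16, 160056) .leaf) (117831, 0, 14, 104778) (.node .leaf (117832, 0, 17, 11985) .leaf))) (117834, 0, 16, 98036) (.node (.node (.node .leaf (117836, 0, 17, 6130) .leaf) (117838, 0, 12, 207608) (.node .leaf (117840, 0, 16, 8701) .leaf)) (117842, 0, 18, 74553) (.node (.node .leaf (117844, 0, 11, 19007) .leaf) (117846, 0, 17, 72218) (.node .leaf (117849, 0, 18, 177890) .leaf))))) (117851, 0, 15, 96829) (.node (.node (.node (.node (.node .leaf (117853, 0, 17, 60754) .leaf) (117855, 0, 18, 253924) (.node .leaf (117857, 0, 15, 95023) .leaf)) (117859, 0, 16, 45311) (.node (.node .leaf (117861, 0, 15, 199730) .leaf) (117863, 0, 15, 35292) (.node .leaf (117864, 0, 18, 206116) .leaf))) (117866, 0, 18, 161025) (.node (.node (.node .leaf (117868, 0, 15, 114560) .leaf) (117870, 0, 17, 153586) (.node .leaf (117872, 0, 13, 89335) .leaf)) (117874, 0, 18, 177285) (.node (.node .leaf (117876, 0, 16, 205802) .leaf)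 (117878, 0, 16, 135663) (.node .leaf (117881, 0, 15, 257861) .leaf)))) (117883, 0, 18, 1847) (.node (.node (.node (.node .leaf (117885, 0, 18, 99380) .leaf) (117887, 0, 12, 161834) (.node .leaf (117889, 0, 17, 255686) .leaf)) (117891, 0, 16, 149126) (.node (.node .leaf (117893, 0, 16, 104923) .leaf) (117895, 0, 18, 163749) (.node .leaf (117896, 0, 14, 119645) .leaf))) (117898, 0, 13, 33656) (.node (.node (.node .leaf (117900, 0, 16, 125566) .leaf) (117902, 0, 15, 49691) (.node .leaf (117904, 0, 18, 102032) .leaf)) (117906, 0, 14, 8556) (.node (.node .leaf (117908, 0, 12, 112131) .leaf) (117910, 0, 13, 59286) (.node .leaf (117913, 0, 17, 96940) .leaf))))))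

/-- part of the orbit tree -/
def itp3_302 : Tree := (.node (.node (.node (.node (.node (.node .leaf (117917, 0, 17, 225869) .leaf) (117919, 0, 15, 139880) (.node .leaf (117921, 0, 16, 7510) .leaf)) (117923, 0, 15, 85363) (.node (.node .leaf (117925, 0, 13, 58577) .leaf) (117927, 0, 11, 95312) (.node .leaf (117928, 0, 17, 186536) .leaf))) (117930, 0, 13, 231565) (.node (.node (.node .leaf (117932, 0, 17, 153443) .leaf) (117934, 0, 17, 242094) (.node .leaf (117936, 0, 15, 177172) .leaf)) (117938, 0, 12, 251200) (.node (.node .leaf (117940, 0, 17, 51977) .leaf) (117942, 0, 14, 257123) (.node .leaf (117945, 0, 16, 1958) .leaf)))) (117947, 0, 10, 258004) (.node (.node (.node (.node .leaf (117949, 0, 18, 31160) .leaf) (117951, 0, 16, 102601) (.node .leaf (117953, 0, 17, 245324) .leaf)) (117955, 0, 13, 76800) (.node (.node .leaf (117957, 0, 15, 115025) .leaf) (117959, 0, 17, 141603) (.node .leaf (117960, 0, 16, 178651) .leaf))) (117962, 0, 15, 256510) (.node (.node (.node .leaf (117964, 0, 17, 226019) .leaf) (117966, 0, 13, 39569)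 (.node .leaf (117968, 0, 16, 233876) .leaf)) (117970, 0, 14, 31206) (.node (.node .leaf (117972, 0, 16, 187701) .leaf) (117974, 0, 16, 132859) (.node .leaf (117977, 0, 17, 74278) .leaf))))) (117979, 0, 14, 182868) (.node (.node (.node (.node (.node .leaf (117981, 0, 17, 6347) .leaf) (117983, 0, 12, 46409) (.node .leaf (117985, 0, 14, 181062) .leaf)) (117987, 0, 14, 76596) (.node (.node .leaf (117989, 0, 16, 216819) .leaf) (117991, 0, 16, 218153) (.node .leaf (117992, 0, 17, 111150) .leaf))) (117994, 0, 14, 57867) (.node (.node (.node .leaf (117996, 0, 17, 135145) .leaf) (117998, 0, 14, 56104) (.node .leaf (118000, 0, 16, 126947) .leaf)) (118002, 0, 17, 49094) (.node (.node .leaf (118004, 0, 14, 37763) .leaf) (118006, 0, 15, 228337) (.node .leaf (118009, 0, 18, 24364) .leaf)))) (118011, 0, 12, 162360) (.node (.node (.node (.node .leaf (118013, 0, 18, 201534) .leaf) (118015, 0, 16, 116803) (.node .leaf (118016, 0, 17, 181179) .leaf)) (118018, 0, 17, 234398) (.node (.node .leaf (118020, 0, 18, 195224) .leaf) (118022, 0, 16,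 229133) (.node .leaf (118025, 0, 17, 1605) .leaf))) (118027, 0, 15, 242594) (.node (.node (.node .leaf (118029, 0, 15, 140493) .leaf) (118031, 0, 17, 117951) (.node .leaf (118033, 0, 14, 182202) .leaf)) (118035, 0, 12, 77768) (.node (.node .leaf (118037, 0, 14, 47271) .leaf) (118039, 0, 17, 78478) (.node .leaf (118040, 0, 16, 171638) .leaf))))))

/-- part of the orbit tree -/
def itp3_303 : Tree := (.node itp3_299 (117657, 0, 17, 169367) itp3_300)

/-- part of the orbit tree -/
def itp3_304 : Tree := (.node itp3_301 (117915, 0, 17, 168670) itp3_302)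

/-- part of the orbit tree -/
def itp3_305 : Tree := (.node (.node (.node (.node (.node (.node .leaf (118044, 0, 16, 173909) .leaf) (118046, 0, 12, 123751) (.node .leaf (118048, 0, 18, 116814) .leaf)) (118050, 0, 17, 39019) (.node (.node .leaf (118052, 0, 16, 125557) .leaf) (118054, 0, 15, 131591) (.node .leaf (118057, 0, 14, 75482) .leaf))) (118059, 0, 18, 155029) (.node (.node (.node .leaf (118061, 0, 17, 219591) .leaf) (118063, 0, 14, 45493) (.node .leaf (118065, 0, 16, 244400) .leaf)) (118067, 0, 17, 131160) (.node (.node .leaf (118069, 0, 17, 223582) .leaf) (118071, 0, 17, 142815) (.node .leaf (118072, 0, 15, 67842) .leaf)))) (118074, 0, 19, 50598) (.node (.node (.node (.node .leaf (118076, 0, 16, 109728) .leaf) (118078, 0, 12, 64645) (.node .leaf (118080, 0, 17, 176360) .leaf)) (118082, 0, 16, 88218) (.node (.node .leaf (118084, 0, 15, 102430) .leaf) (118086, 0, 15, 206727) (.node .leaf (118089, 0, 18, 858) .leaf))) (118091, 0, 17, 146662) (.node (.node (.node .leaf (118093, 0, 17, 218592) .leaf) (118095, 0, 14, 103477)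 (.node .leaf (118097, 0, 17, 171824) .leaf)) (118099, 0, 16, 155947) (.node (.node .leaf (118101, 0, 13, 198701) .leaf) (118103, 0, 17, 153608) (.node .leaf (118104, 0, 15, 128240) .leaf))))) (118106, 0, 17, 247024) (.node (.node (.node (.node (.node .leaf (118108, 0, 16, 152479) .leaf) (118110, 0, 15, 40438) (.node .leaf (118112, 0, 15, 249314) .leaf)) (118114, 0, 17, 9616) (.node (.node .leaf (118116, 0, 14, 170987) .leaf) (118118, 0, 15, 154253) (.node .leaf (118121, 0, 13, 26422) .leaf))) (118123, 0, 17, 79635) (.node (.node (.node .leaf (118125, 0, 16, 196941) .leaf) (118127, 0, 16, 69168) (.node .leaf (118129, 0, 17, 15099) .leaf)) (118131, 0, 16, 2632) (.node (.node .leaf (118133, 0, 17, 105767) .leaf) (118135, 0, 14, 87037) (.node .leaf (118136, 0, 15, 196357) .leaf)))) (118138, 0, 14, 178682) (.node (.node (.node (.node .leaf (118140, 0, 17, 208533) .leaf) (118142, 0, 15, 235011) (.node .leaf (118144, 0, 18, 21681) .leaf)) (118146, 0, 14, 176249) (.node (.node .leaf (118148, 0, 15, 28050) .leaf) (118150, 0, 15, 53092)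 (.node .leaf (118153, 0, 15, 168271) .leaf))) (118155, 0, 18, 246122) (.node (.node (.node .leaf (118157, 0, 13, 174188) .leaf) (118159, 0, 16, 163030) (.node .leaf (118161, 0, 13, 96211) .leaf)) (118163, 0, 14, 236711) (.node (.node .leaf (118165, 0, 16, 198862) .leaf) (118167, 0, 15, 238980) (.node .leaf (118168, 0, 15, 246881) .leaf))))))

/-- part of the orbit tree -/
def itp3_306 : Tree := (.node (.node (.node (.node (.node (.node .leaf (118172, 0, 18, 113532) .leaf) (118174, 0, 14, 152334) (.node .leaf (118176, 0, 15, 220996) .leaf)) (118178, 0, 17, 135009) (.node (.node .leaf (118180, 0, 13, 222823) .leaf) (118182, 0, 16, 111214) (.node .leaf (118185, 0, 14, 169651) .leaf))) (118187, 0, 15, 97985) (.node (.node (.node .leaf (118189, 0, 14, 107417) .leaf) (118191, 0, 18, 62396) (.node .leaf (118193, 0, 17, 116599) .leaf)) (118195, 0, 15, 38738) (.node (.node .leaf (118197, 0, 16, 161220) .leaf) (118199, 0, 15, 105910) (.node .leaf (118200, 0, 16, 178539) .leaf)))) (118202, 0, 16, 86297) (.node (.node (.node (.node .leaf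 (118204, 0, 15, 50806) .leaf) (118206, 0, 18, 158607) (.node .leaf (118208, 0, 19, 65665) .leaf)) (118210, 0, 13, 190707) (.node (.node .leaf (118212, 0, 12, 198420) .leaf) (118214, 0, 14, 38894) (.node .leaf (118217, 0, 11, 129993) .leaf))) (118219, 0, 13, 23361) (.node (.node (.node .leaf (118221, 0, 18, 115434) .leaf) (118223, 0, 16, 37583) (.node .leaf (118225, 0, 16, 77657) .leaf)) (118227, 0, 17, 63009) (.node (.node .leaf (118229, 0, 17, 217156) .leaf) (118231, 0, 18, 52994) (.node .leaf (118232, 0, 16, 236779) .leaf))))) (118234, 0, 16, 29849) (.node (.node (.node (.node (.node .leaf (118236, 0, 16, 219865) .leaf) (118238, 0, 17, 133884) (.node .leaf (118240, 0, 16, 32139) .leaf)) (118242, 0, 16, 91623) (.node (.node .leaf (118244, 0, 17, 3297) .leaf) (118246, 0, 13, 125668) (.node .leaf (118249, 0, 15, 192572) .leaf))) (118251, 0, 15, 75339) (.node (.node (.node .leaf (118253, 0, 15, 182559) .leaf) (118255, 0, 17, 235834) (.node .leaf (118257, 0, 18, 175601) .leaf)) (118259, 0, 17, 244257) (.node (.node .leaf (118261,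 0, 17, 142670) .leaf) (118263, 0, 17, 116028) (.node .leaf (118264, 0, 17, 188897) .leaf)))) (118266, 0, 17, 67987) (.node (.node (.node (.node .leaf (118268, 0, 16, 20780) .leaf) (118270, 0, 14, 226958) (.node .leaf (118272, 0, 16, 85439) .leaf)) (118273, 0, 14, 110041) (.node (.node .leaf (118274, 0, 15, 7578) .leaf) (118275, 0, 12, 65020) (.node .leaf (118276, 0, 15, 30128) .leaf))) (118277, 0, 13, 103674) (.node (.node (.node .leaf (118278, 0, 16, 9401) .leaf) (118279, 0, 18, 115948) (.node .leaf (118296, 0, 16, 38599) .leaf)) (118297, 0, 15, 184297) (.node (.node .leaf (118298, 0, 16, 229045) .leaf) (118299, 0, 16, 75675) (.node .leaf (118300, 0, 16, 190938) .leaf))))))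

/-- part of the orbit tree -/
def itp3_307 : Tree := (.node (.node (.node (.node (.node (.node .leaf (118302, 0, 16, 65960) .leaf) (118303, 0, 18, 39186) (.node .leaf (118304, 0, 16, 227239) .leaf)) (118305, 0, 19, 173612) (.node (.node .leaf (118306, 0, 18, 40917) .leaf) (118307, 0, 15, 182011) (.node .leaf (118308, 0, 13, 163689) .leaf))) (118309, 0, 14, 171791) (.node (.node (.node .leaf (118310, 0, 18, 208716) .leaf) (118311, 0, 15, 47590) (.node .leaf (118328, 0, 14, 138119) .leaf)) (118329, 0, 12, 242403) (.node (.node .leaf (118330, 0, 15, 215970) .leaf) (118331, 0, 17, 240580) (.node .leaf (118332, 0, 16, 139940) .leaf)))) (118333, 0, 13, 180930) (.node (.node (.node (.node .leaf (118334, 0, 12, 225921) .leaf) (118335, 0, 14, 234215) (.node .leaf (118336, 0, 18, 141113) .leaf)) (118337, 0, 15, 182111) (.node (.node .leaf (118338, 0, 15, 113237) .leaf) (118339, 0, 16, 254843) (.node .leaf (118340, 0, 19, 138778) .leaf))) (118341, 0, 14, 160788) (.node (.node (.node .leaf (118342, 0, 15, 216639) .leaf) (118343, 0,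 17, 105574) (.node .leaf (118360, 0, 19, 52813) .leaf)) (118361, 0, 18, 170642) (.node (.node .leaf (118362, 0, 16, 206399) .leaf) (118363, 0, 15, 248503) (.node .leaf (118364, 0, 17, 148439) .leaf))))) (118365, 0, 17, 172977) (.node (.node (.node (.node (.node .leaf (118366, 0, 17, 88354) .leaf) (118367, 0, 15, 258964) (.node .leaf (118368, 0, 18, 208685) .leaf)) (118369, 0, 14, 117930) (.node (.node .leaf (118370, 0, 16, 51039) .leaf) (118371, 0, 18, 171633) (.node .leaf (118372, 0, 17, 71151) .leaf))) (118373, 0, 18, 198942) (.node (.node (.node .leaf (118374, 0, 18, 17866) .leaf) (118375, 0, 14, 42412) (.node .leaf (118392, 0, 14, 111431) .leaf)) (118393, 0, 15, 256617) (.node (.node .leaf (118394, 0, 17, 8484) .leaf) (118395, 0, 15, 539) (.node .leaf (118396, 0, 15, 248922) .leaf)))) (118397, 0, 16, 108612) (.node (.node (.node (.node .leaf (118398, 0, 19, 6151) .leaf) (118399, 0, 15, 63585) (.node .leaf (118400, 0, 18, 113348) .leaf)) (118401, 0, 17, 211667) (.node (.node .leaf (118402, 0, 16, 152246) .leaf) (118403,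 0, 18, 2968) (.node .leaf (118404, 0, 13, 247257) .leaf))) (118405, 0, 18, 197616) (.node (.node (.node .leaf (118406, 0, 17, 11691) .leaf) (118407, 0, 16, 152533) (.node .leaf (118424, 0, 16, 231288) .leaf)) (118425, 0, 16, 223006) (.node (.node .leaf (118426, 0, 11, 52956) .leaf) (118427, 0, 16, 145211) (.node .leaf (118428, 0, 17, 88499) .leaf))))))

/-- part of the orbit tree -/
def itp3_308 : Tree := (.node (.node (.node (.node (.node (.node .leaf (118430, 0, 15, 192126) .leaf) (118431, 0, 16, 134680) (.node .leaf (118432, 0, 14, 51150) .leaf)) (118433, 0, 18, 12582) (.node (.node .leaf (118434, 0, 15, 208828) .leaf) (118435, 0, 14, 95890) (.node .leaf (118436, 0, 17, 178387) .leaf))) (118437, 0, 15, 2053) (.node (.node (.node .leaf (118438, 0, 17, 112710) .leaf) (118439, 0, 18, 88096) (.node .leaf (118456, 0, 17, 154532) .leaf)) (118457, 0, 16, 650) (.node (.node .leaf (118458, 0, 16, 111574) .leaf) (118459, 0, 17, 81102) (.node .leaf (118460, 0, 12, 46510) .leaf)))) (118461, 0, 18, 163223) (.node (.node (.node (.node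 .leaf (118462, 0, 15, 249035) .leaf) (118463, 0, 17, 67053) (.node .leaf (118464, 0, 16, 45107) .leaf)) (118465, 0, 18, 20565) (.node (.node .leaf (118466, 0, 15, 122902) .leaf) (118467, 0, 18, 21266) (.node .leaf (118468, 0, 13, 35088) .leaf))) (118469, 0, 17, 115837) (.node (.node (.node .leaf (118470, 0, 16, 29985) .leaf) (118471, 0, 14, 80211) (.node .leaf (118488, 0, 17, 228900) .leaf)) (118489, 0, 15, 3480) (.node (.node .leaf (118490, 0, 16, 114139) .leaf) (118491, 0, 11, 89533) (.node .leaf (118492, 0, 14, 54493) .leaf))))) (118493, 0, 15, 219159) (.node (.node (.node (.node (.node .leaf (118494, 0, 15, 99576) .leaf) (118495, 0, 13, 91294) (.node .leaf (118496, 0, 17, 244678) .leaf)) (118497, 0, 15, 220064) (.node (.node .leaf (118498, 0, 19, 191459) .leaf) (118499, 0, 11, 77336) (.node .leaf (118500, 0, 16, 188505) .leaf))) (118501, 0, 16, 47479) (.node (.node (.node .leaf (118502, 0, 18, 67627) .leaf) (118503, 0, 16, 217349) (.node .leaf (118520, 0, 16, 131886) .leaf)) (118521, 0, 12, 198253) (.node (.node .leaf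 (118522, 0, 16, 125788) .leaf) (118523, 0, 17, 242290) (.node .leaf (118524, 0, 15, 253736) .leaf)))) (118525, 0, 14, 212814) (.node (.node (.node (.node .leaf (118526, 0, 18, 167693) .leaf) (118527, 0, 17, 118127) (.node .leaf (118536, 0, 17, 133074) .leaf)) (118537, 0, 16, 10805) (.node (.node .leaf (118538, 0, 16, 105078) .leaf) (118539, 0, 17, 96784) (.node .leaf (118540, 0, 15, 62320) .leaf))) (118541, 0, 17, 139745) (.node (.node (.node .leaf (118542, 0, 13, 233661) .leaf) (118543, 0, 16, 82739) (.node .leaf (118544, 0, 17, 38814) .leaf)) (118545, 0, 15, 180886) (.node (.node .leaf (118546, 0, 17, 116667) .leaf) (118547, 0, 16, 76516) .leaf)))))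

/-- part of the orbit tree -/
def itp3_309 : Tree := (.node itp3_305 (118170, 0, 15, 88409) itp3_306)

/-- part of the orbit tree -/
def itp3_310 : Tree := (.node itp3_307 (118429, 0, 17, 196765) itp3_308)

/-- part of the orbit tree -/
def itp3_311 : Tree := (.node itp3_303 (117787, 0, 17, 35905) itp3_304)

/-- part of the orbit tree -/
def itp3_312 : Tree := (.node itp3_309 (118301, 0, 16, 45300) itp3_310)

/-- part of the orbit tree -/
def itp3_313 : Tree := (.node itp3_297 (117021, 0, 17, 221135) itp3_298)

/-- part of the orbit tree -/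
def itp3_314 : Tree := (.node itp3_311 (118042, 0, 17, 249427) itp3_312)

/-- part of the orbit tree -/
def itp3_315 : Tree := (.node itp3_283 (115485, 0, 14, 69623) itp3_284)

/-- part of the orbit tree -/
def itp3_316 : Tree := (.node itp3_313 (117529, 0, 15, 75262) itp3_314)

/-- part of the orbit tree -/
def itp3_317 : Tree := (.node (.node (.node (.node (.node (.node .leaf (118549, 0, 17, 48523) .leaf) (118550, 0, 16, 68823) (.node .leaf (118551, 0, 16, 218617) .leaf)) (118568, 0, 14, 246182) (.node (.node .leaf (118569, 0, 18, 205248) .leaf) (118570, 0, 16, 168323) (.node .leaf (118571, 0, 12, 183172) .leaf))) (118572, 0, 16, 67013) (.node (.node (.node .leaf (118573, 0, 14, 220395) .leaf) (118574, 0, 13, 174240) (.node .leaf (118575, 0, 14, 149702) .leaf)) (118576, 0, 15, 236651) (.node (.node .leaf (118577, 0, 15, 245660) .leaf) (118578, 0, 17, 134848) (.node .leaf (118579, 0, 17, 142376) .leaf)))) (118580, 0, 14, 235951) (.node (.node (.node (.node .leaf (118581, 0, 17, 214318) .leaf) (118582, 0, 15, 29149) (.node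 .leaf (118583, 0, 15, 141555) .leaf)) (118600, 0, 17, 237781) (.node (.node .leaf (118601, 0, 18, 1654) .leaf) (118602, 0, 17, 112426) (.node .leaf (118603, 0, 18, 135318) .leaf))) (118604, 0, 17, 236022) (.node (.node (.node .leaf (118605, 0, 16, 162155) .leaf) (118606, 0, 14, 247863) (.node .leaf (118607, 0, 16, 141749) .leaf)) (118608, 0, 18, 49970) (.node (.node .leaf (118609, 0, 15, 170524) .leaf) (118610, 0, 15, 207680) (.node .leaf (118611, 0, 14, 94830) .leaf))))) (118612, 0, 15, 179247) (.node (.node (.node (.node (.node .leaf (118613, 0, 11, 205917) .leaf) (118614, 0, 13, 87133) (.node .leaf (118615, 0, 16, 160888) .leaf)) (118632, 0, 16, 43808) (.node (.node .leaf (118633, 0, 11, 97148) .leaf) (118634, 0, 14, 51744) (.node .leaf (118635, 0, 13, 168718) .leaf))) (118636, 0, 15, 37379) (.node (.node (.node .leaf (118637, 0, 13, 29285) .leaf) (118638, 0, 13, 115238) (.node .leaf (118639, 0, 16, 74304) .leaf)) (118640, 0, 16, 63213) (.node (.node .leaf (118641, 0, 16, 5771) .leaf) (118642, 0, 17, 108232) (.node .leaf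 (118643, 0, 16, 3940) .leaf)))) (118644, 0, 18, 246053) (.node (.node (.node (.node .leaf (118645, 0, 12, 12200) .leaf) (118646, 0, 17, 106475) (.node .leaf (118647, 0, 14, 98189) .leaf)) (118664, 0, 15, 112571) (.node (.node .leaf (118665, 0, 14, 179519) .leaf) (118666, 0, 17, 200060) (.node .leaf (118667, 0, 17, 1767) .leaf))) (118668, 0, 16, 156794) (.node (.node (.node .leaf (118669, 0, 16, 102792) .leaf) (118670, 0, 15, 8404) (.node .leaf (118671, 0, 17, 250937) .leaf)) (118672, 0, 17, 207825) (.node (.node .leaf (118673, 0, 16, 188658) .leaf) (118674, 0, 14, 50083) (.node .leaf (118675, 0, 15, 241879) .leaf))))))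

/-- part of the orbit tree -/
def itp3_318 : Tree := (.node (.node (.node (.node (.node (.node .leaf (118677, 0, 16, 200162) .leaf) (118678, 0, 16, 179390) (.node .leaf (118679, 0, 17, 231924) .leaf)) (118696, 0, 16, 51889) (.node (.node .leaf (118697, 0, 16, 112330) .leaf) (118698, 0, 16, 1673) (.node .leaf (118699, 0, 15, 59119) .leaf))) (118700, 0, 15, 177580) (.node (.node (.node .leaf (118701, 0, 16, 102377) .leaf) (118702, 0, 15, 89566) (.node .leaf (118703, 0, 17, 197872) .leaf)) (118704, 0, 13, 153307) (.node (.node .leaf (118705, 0, 15, 4085) .leaf) (118706, 0, 16, 114345) (.node .leaf (118707, 0, 16, 47906) .leaf)))) (118708, 0, 15, 10694) (.node (.node (.node (.node .leaf (118709, 0, 18, 119332) .leaf) (118710, 0, 14, 246196) (.node .leaf (118711, 0, 13, 104602) .leaf)) (118728, 0, 15, 79839) (.node (.node .leaf (118729, 0, 14, 120761) .leaf) (118730, 0, 14, 26618) (.node .leaf (118731, 0, 15, 34716) .leaf))) (118732, 0, 14, 233516) (.node (.node (.node .leaf (118733, 0, 16, 126618) .leaf) (118734, 0, 14, 24281)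 (.node .leaf (118735, 0, 16, 139632) .leaf)) (118736, 0, 14, 92690) (.node (.node .leaf (118737, 0, 14, 100980) .leaf) (118738, 0, 16, 14903) (.node .leaf (118739, 0, 15, 55889) .leaf))))) (118740, 0, 13, 68678) (.node (.node (.node (.node (.node .leaf (118741, 0, 18, 111447) .leaf) (118742, 0, 18, 189492) (.node .leaf (118743, 0, 10, 48410) .leaf)) (118760, 0, 16, 146474) (.node (.node .leaf (118761, 0, 16, 187468) .leaf) (118762, 0, 17, 227913) (.node .leaf (118763, 0, 14, 232553) .leaf))) (118764, 0, 17, 132361) (.node (.node (.node .leaf (118765, 0, 18, 46088) .leaf) (118766, 0, 17, 66900) (.node .leaf (118767, 0, 15, 243018) .leaf)) (118768, 0, 17, 156135) (.node (.node .leaf (118769, 0, 14, 22399) .leaf) (118770, 0, 13, 209346) (.node .leaf (118771, 0, 17, 250276) .leaf)))) (118772, 0, 16, 153796) (.node (.node (.node (.node .leaf (118773, 0, 17, 141410) .leaf) (118774, 0, 18, 235838) (.node .leaf (118775, 0, 14, 114704) .leaf)) (118784, 0, 17, 38207) (.node (.node .leaf (118787, 0, 17, 172074) .leaf) (118789, 0, 15,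 45836) (.node .leaf (118790, 0, 17, 66128) .leaf))) (118792, 0, 18, 32675) (.node (.node (.node .leaf (118795, 0, 16, 34226) .leaf) (118797, 0, 16, 22928) (.node .leaf (118798, 0, 17, 125132) .leaf)) (118801, 0, 17, 47847) (.node (.node .leaf (118802, 0, 17, 68539) .leaf) (118804, 0, 12, 40148) (.node .leaf (118807, 0, 17, 77192) .leaf))))))

/-- part of the orbit tree -/
def itp3_319 : Tree := (.node (.node (.node (.node (.node (.node .leaf (118810, 0, 17, 138625) .leaf) (118812, 0, 15, 226439) (.node .leaf (118815, 0, 17, 181444) .leaf)) (118816, 0, 16, 124981) (.node (.node .leaf (118819, 0, 14, 109535) .leaf) (118821, 0, 17, 118278) (.node .leaf (118822, 0, 16, 94874) .leaf))) (118824, 0, 14, 66217) (.node (.node (.node .leaf (118827, 0, 17, 46069) .leaf) (118829, 0, 17, 190273) (.node .leaf (118830, 0, 16, 38342) .leaf)) (118833, 0, 17, 164783) (.node (.node .leaf (118834, 0, 15, 30385) .leaf) (118836, 0, 16, 154346) (.node .leaf (118839, 0, 15, 20610) .leaf)))) (118841, 0, 16, 77169) (.node (.node (.node (.node .leaf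 (118842, 0, 17, 71284) .leaf) (118844, 0, 13, 32626) (.node .leaf (118847, 0, 16, 118577) .leaf)) (118848, 0, 18, 52661) (.node (.node .leaf (118851, 0, 14, 117420) .leaf) (118853, 0, 13, 41898) (.node .leaf (118854, 0, 17, 88794) .leaf))) (118856, 0, 15, 10025) (.node (.node (.node .leaf (118859, 0, 17, 104053) .leaf) (118861, 0, 13, 282) (.node .leaf (118862, 0, 13, 210545) .leaf)) (118865, 0, 15, 189148) (.node (.node .leaf (118866, 0, 18, 86833) .leaf) (118868, 0, 17, 146329) (.node .leaf (118871, 0, 18, 95490) .leaf))))) (118873, 0, 16, 2289) (.node (.node (.node (.node (.node .leaf (118874, 0, 15, 96007) .leaf) (118876, 0, 15, 11970) (.node .leaf (118879, 0, 16, 106398) .leaf)) (118880, 0, 16, 225562) (.node (.node .leaf (118883, 0, 17, 180569) .leaf) (118885, 0, 16, 104076) (.node .leaf (118886, 0, 17, 137244) .leaf))) (118888, 0, 12, 87170) (.node (.node (.node .leaf (118891, 0, 16, 60287) .leaf) (118893, 0, 16, 97296) (.node .leaf (118894, 0, 13, 52556) .leaf)) (118897, 0, 16, 106343) (.node (.node .leaf (118898,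 0, 17, 22890) .leaf) (118900, 0, 14, 77932) (.node .leaf (118903, 0, 9, 2056) .leaf)))) (118905, 0, 18, 249009) (.node (.node (.node (.node .leaf (118906, 0, 11, 163058) .leaf) (118908, 0, 17, 86984) (.node .leaf (118911, 0, 17, 173495) .leaf)) (118912, 0, 19, 100195) (.node (.node .leaf (118915, 0, 15, 14112) .leaf) (118917, 0, 15, 197477) (.node .leaf (118918, 0, 12, 61029) .leaf))) (118920, 0, 17, 238331) (.node (.node (.node .leaf (118923, 0, 12, 135864) .leaf) (118925, 0, 17, 228286) (.node .leaf (118926, 0, 17, 183293) .leaf)) (118929, 0, 17, 199310) (.node (.node .leaf (118930, 0, 17, 179154) .leaf) (118932, 0, 17, 208061) (.node .leaf (118935, 0, 18, 171489) .leaf))))))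

/-- part of the orbit tree -/
def itp3_320 : Tree := (.node (.node (.node (.node (.node (.node .leaf (118938, 0, 17, 35467) .leaf) (118940, 0, 18, 247329) (.node .leaf (118943, 0, 15, 21454) .leaf)) (118944, 0, 16, 153692) (.node (.node .leaf (118947, 0, 13, 256256) .leaf) (118949, 0, 16, 153043) (.node .leaf (118950, 0, 16, 255376) .leaf))) (118952, 0, 15, 43278) (.node (.node (.node .leaf (118955, 0, 16, 197532) .leaf) (118957, 0, 14, 28747) (.node .leaf (118958, 0, 15, 114696) .leaf)) (118961, 0, 17, 161668) (.node (.node .leaf (118962, 0, 16, 247512) .leaf) (118964, 0, 16, 52704) (.node .leaf (118967, 0, 15, 97699) .leaf)))) (118969, 0, 14, 143677) (.node (.node (.node (.node .leaf (118970, 0, 17, 207940) .leaf) (118972, 0, 15, 190584) (.node .leaf (118975, 0, 16, 219195) .leaf)) (118976, 0, 17, 191973) (.node (.node .leaf (118979, 0, 12, 183424) .leaf) (118981, 0, 14, 144544) (.node .leaf (118982, 0, 18, 230627) .leaf))) (118984, 0, 16, 235328) (.node (.node (.node .leaf (118987, 0, 17, 140828) .leaf) (118989, 0, 12,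 242035) (.node .leaf (118990, 0, 15, 106875) .leaf)) (118993, 0, 16, 217604) (.node (.node .leaf (118994, 0, 18, 189272) .leaf) (118996, 0, 16, 226359) (.node .leaf (118999, 0, 18, 181611) .leaf))))) (119001, 0, 14, 151630) (.node (.node (.node (.node (.node .leaf (119002, 0, 17, 133572) .leaf) (119004, 0, 16, 237227) (.node .leaf (119007, 0, 16, 143351) .leaf)) (119008, 0, 14, 124432) (.node (.node .leaf (119011, 0, 17, 22099) .leaf) (119013, 0, 17, 141029) (.node .leaf (119014, 0, 14, 235449) .leaf))) (119016, 0, 18, 191050) (.node (.node (.node .leaf (119019, 0, 18, 160715) .leaf) (119021, 0, 16, 203469) (.node .leaf (119022, 0, 18, 228645) .leaf)) (119025, 0, 14, 143118) (.node (.node .leaf (119026, 0, 18, 183904) .leaf) (119028, 0, 16, 239462) (.node .leaf (119031, 0, 12, 136997) .leaf)))) (119033, 0, 15, 181650) (.node (.node (.node (.node .leaf (119034, 0, 8, 226510) .leaf) (119036, 0, 14, 189345) (.node .leaf (119039, 0, 14, 217853) .leaf)) (119041, 0, 13, 21115) (.node (.node .leaf (119042, 0, 16, 123448) .leaf)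 (119044, 0, 17, 35646) (.node .leaf (119047, 0, 17, 80765) .leaf))) (119049, 0, 17, 161763) (.node (.node (.node .leaf (119050, 0, 16, 225330) .leaf) (119052, 0, 15, 190301) (.node .leaf (119055, 0, 16, 204517) .leaf)) (119056, 0, 16, 182856) (.node (.node .leaf (119059, 0, 13, 243062) .leaf) (119061, 0, 15, 139801) (.node .leaf (119062, 0, 15, 238414) .leaf))))))

/-- part of the orbit tree -/
def itp3_321 : Tree := (.node itp3_317 (118676, 0, 14, 87244) itp3_318)

/-- part of the orbit tree -/
def itp3_322 : Tree := (.node itp3_319 (118937, 0, 18, 80584) itp3_320)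

/-- part of the orbit tree -/
def itp3_323 : Tree := (.node (.node (.node (.node (.node (.node .leaf (119067, 0, 15, 90003) .leaf) (119069, 0, 16, 182405) (.node .leaf (119070, 0, 16, 227801) .leaf)) (119073, 0, 16, 218872) (.node (.node .leaf (119074, 0, 14, 190925) .leaf) (119076, 0, 13, 229579) (.node .leaf (119079, 0, 18, 143496) .leaf))) (119081, 0, 16, 244836) (.node (.node (.node .leaf (119082, 0, 16, 52309) .leaf) (119084, 0, 15, 236119) (.node .leaf (119087, 0, 17, 142091) .leaf)) (119088, 0, 16, 115133) (.node (.node .leaf (119091, 0, 17, 182396) .leaf) (119093, 0, 16, 220947) (.node .leaf (119094, 0, 16, 192079) .leaf)))) (119096, 0, 16, 234428) (.node (.node (.node (.node .leaf (119099, 0, 14, 140000) .leaf) (119101, 0, 18, 212320) (.node .leaf (119102, 0, 17, 167203) .leaf)) (119105, 0, 15, 160632) (.node (.node .leaf (119106, 0, 14, 166078) .leaf) (119108, 0, 16, 254392) (.node .leaf (119111, 0, 16, 152059) .leaf))) (119113, 0, 16, 73061) (.node (.node (.node .leaf (119114, 0, 15, 207032) .leaf) (119116, 0,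 16, 115744) (.node .leaf (119119, 0, 16, 200331) .leaf)) (119120, 0, 14, 154784) (.node (.node .leaf (119123, 0, 12, 4237) .leaf) (119125, 0, 15, 162451) (.node .leaf (119126, 0, 19, 51656) .leaf))))) (119128, 0, 14, 177724) (.node (.node (.node (.node (.node .leaf (119131, 0, 16, 144661) .leaf) (119133, 0, 17, 167951) (.node .leaf (119134, 0, 11, 191568) .leaf)) (119137, 0, 15, 13064) (.node (.node .leaf (119138, 0, 17, 180014) .leaf) (119140, 0, 11, 59981) (.node .leaf (119143, 0, 14, 88590) .leaf))) (119145, 0, 15, 136848) (.node (.node (.node .leaf (119146, 0, 18, 239315) .leaf) (119148, 0, 16, 184277) (.node .leaf (119151, 0, 13, 229270) .leaf)) (119152, 0, 16, 174907) (.node (.node .leaf (119155, 0, 17, 168182) .leaf) (119157, 0, 13, 160382) (.node .leaf (119158, 0, 17, 177861) .leaf)))) (119160, 0, 17, 36515) (.node (.node (.node (.node .leaf (119163, 0, 18, 162410) .leaf) (119165, 0, 17, 22502) (.node .leaf (119166, 0, 18, 124837) .leaf)) (119169, 0, 18, 105371) (.node (.node .leaf (119170, 0, 14, 226610) .leaf) (119172,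 0, 16, 114088) (.node .leaf (119175, 0, 16, 240759) .leaf))) (119177, 0, 17, 94471) (.node (.node (.node .leaf (119178, 0, 18, 86186) .leaf) (119180, 0, 15, 14764) (.node .leaf (119183, 0, 15, 58984) .leaf)) (119184, 0, 17, 23874) (.node (.node .leaf (119187, 0, 14, 1311) .leaf) (119189, 0, 15, 103024) (.node .leaf (119190, 0, 16, 78916) .leaf))))))

/-- part of the orbit tree -/
def itp3_324 : Tree := (.node (.node (.node (.node (.node (.node .leaf (119195, 0, 18, 61315) .leaf) (119197, 0, 14, 96492) (.node .leaf (119198, 0, 14, 201180) .leaf)) (119201, 0, 14, 118404) (.node (.node .leaf (119202, 0, 18, 32455) .leaf) (119204, 0, 12, 71617) (.node .leaf (119207, 0, 18, 94718) .leaf))) (119209, 0, 17, 3085) (.node (.node (.node .leaf (119210, 0, 17, 154463) .leaf) (119212, 0, 18, 209497) (.node .leaf (119215, 0, 17, 164378) .leaf)) (119216, 0, 15, 51529) (.node (.node .leaf (119219, 0, 15, 190196) .leaf) (119221, 0, 15, 233458) (.node .leaf (119222, 0, 15, 147377) .leaf)))) (119224, 0, 15, 95023) (.node (.node (.node (.node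 .leaf (119227, 0, 15, 103049) .leaf) (119229, 0, 16, 109162) (.node .leaf (119230, 0, 14, 111802) .leaf)) (119233, 0, 16, 115473) (.node (.node .leaf (119234, 0, 17, 8116) .leaf) (119236, 0, 16, 95922) (.node .leaf (119239, 0, 16, 50929) .leaf))) (119241, 0, 17, 76173) (.node (.node (.node .leaf (119242, 0, 15, 145964) .leaf) (119244, 0, 12, 69566) (.node .leaf (119247, 0, 17, 48866) .leaf)) (119248, 0, 17, 126153) (.node (.node .leaf (119251, 0, 17, 165767) .leaf) (119253, 0, 12, 257665) (.node .leaf (119254, 0, 16, 31654) .leaf))))) (119256, 0, 16, 70236) (.node (.node (.node (.node (.node .leaf (119259, 0, 13, 41503) .leaf) (119261, 0, 16, 117529) (.node .leaf (119262, 0, 17, 31578) .leaf)) (119265, 0, 18, 173058) (.node (.node .leaf (119266, 0, 14, 201793) .leaf) (119268, 0, 17, 163143) (.node .leaf (119271, 0, 16, 249092) .leaf))) (119273, 0, 17, 33178) (.node (.node (.node .leaf (119274, 0, 17, 124379) .leaf) (119276, 0, 13, 29364) (.node .leaf (119279, 0, 15, 125084) .leaf)) (119280, 0, 16, 37315) (.node (.node .leaf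 (119283, 0, 15, 73887) .leaf) (119285, 0, 16, 47088) (.node .leaf (119286, 0, 18, 87351) .leaf)))) (119288, 0, 15, 137641) (.node (.node (.node (.node .leaf (119291, 0, 15, 117251) .leaf) (119293, 0, 18, 23916) (.node .leaf (119294, 0, 15, 225455) .leaf)) (119298, 0, 14, 158780) (.node (.node .leaf (119299, 0, 8, 74063) .leaf) (119300, 0, 17, 192270) (.node .leaf (119301, 0, 16, 255324) .leaf))) (119306, 0, 17, 18852) (.node (.node (.node .leaf (119307, 0, 17, 43458) .leaf) (119308, 0, 17, 132498) (.node .leaf (119309, 0, 15, 23740) .leaf)) (119312, 0, 17, 190181) (.node (.node .leaf (119313, 0, 16, 49099) .leaf) (119318, 0, 18, 11594) (.node .leaf (119319, 0, 18, 75940) .leaf))))))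

/-- part of the orbit tree -/
def itp3_325 : Tree := (.node (.node (.node (.node (.node (.node .leaf (119321, 0, 13, 21847) .leaf) (119326, 0, 16, 133330) (.node .leaf (119327, 0, 14, 190644) .leaf)) (119330, 0, 18, 92105) (.node (.node .leaf (119331, 0, 18, 23621) .leaf) (119332, 0, 17, 233988) (.node .leaf (119333, 0, 16, 61097) .leaf))) (119338, 0, 14, 192503) (.node (.node (.node .leaf (119339, 0, 14, 46809) .leaf) (119340, 0, 17, 142167) (.node .leaf (119341, 0, 13, 74166) .leaf)) (119344, 0, 18, 236527) (.node (.node .leaf (119345, 0, 16, 115393) .leaf) (119350, 0, 14, 134272) (.node .leaf (119351, 0, 15, 247513) .leaf)))) (119352, 0, 15, 225651) (.node (.node (.node (.node .leaf (119353, 0, 15, 35399) .leaf) (119358, 0, 17, 189980) (.node .leaf (119359, 0, 14, 123713) .leaf)) (119362, 0, 14, 205035) (.node (.node .leaf (119363, 0, 11, 124636) .leaf) (119364, 0, 16, 28604) (.node .leaf (119365, 0, 16, 36826) .leaf))) (119370, 0, 16, 248439) (.node (.node (.node .leaf (119371, 0, 15, 103257) .leaf) (119372, 0, 15, 150052)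 (.node .leaf (119373, 0, 16, 174658) .leaf)) (119376, 0, 18, 143050) (.node (.node .leaf (119377, 0, 18, 59201) .leaf) (119382, 0, 15, 207104) (.node .leaf (119383, 0, 18, 94254) .leaf))))) (119384, 0, 17, 2898) (.node (.node (.node (.node (.node .leaf (119385, 0, 18, 3549) .leaf) (119390, 0, 17, 90708) (.node .leaf (119391, 0, 13, 98866) .leaf)) (119394, 0, 16, 134479) (.node (.node .leaf (119395, 0, 17, 191785) .leaf) (119396, 0, 17, 248462) (.node .leaf (119397, 0, 15, 103328) .leaf))) (119402, 0, 16, 178045) (.node (.node (.node .leaf (119403, 0, 16, 51377) .leaf) (119404, 0, 15, 204818) (.node .leaf (119405, 0, 8, 96572) .leaf)) (119408, 0, 16, 75071) (.node (.node .leaf (119409, 0, 15, 105035) .leaf) (119414, 0, 16, 19513) (.node .leaf (119415, 0, 17, 3364) .leaf)))) (119416, 0, 17, 196775) (.node (.node (.node (.node .leaf (119417, 0, 16, 254145) .leaf) (119422, 0, 15, 158113) (.node .leaf (119423, 0, 18, 166343) .leaf)) (119426, 0, 16, 64310) (.node (.node .leaf (119427, 0, 15, 6992) .leaf) (119428, 0, 14, 89959)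 (.node .leaf (119429, 0, 16, 198217) .leaf))) (119434, 0, 15, 8852) (.node (.node (.node .leaf (119435, 0, 15, 162746) .leaf) (119436, 0, 18, 112123) (.node .leaf (119437, 0, 17, 257237) .leaf)) (119440, 0, 19, 87692) (.node (.node .leaf (119441, 0, 17, 200610) .leaf) (119446, 0, 18, 49635) (.node .leaf (119447, 0, 15, 170189) .leaf))))))

/-- part of the orbit tree -/
def itp3_326 : Tree := (.node (.node (.node (.node (.node (.node .leaf (119449, 0, 17, 255294) .leaf) (119454, 0, 17, 11135) (.node .leaf (119455, 0, 18, 32702) .leaf)) (119458, 0, 14, 111874) (.node (.node .leaf (119459, 0, 12, 257068) .leaf) (119460, 0, 16, 8813) (.node .leaf (119461, 0, 18, 162627) .leaf))) (119466, 0, 18, 120155) (.node (.node (.node .leaf (119467, 0, 17, 79165) .leaf) (119468, 0, 17, 48221) (.node .leaf (119469, 0, 15, 168415) .leaf)) (119472, 0, 16, 55475) (.node (.node .leaf (119473, 0, 18, 160424) .leaf) (119478, 0, 16, 111029) (.node .leaf (119479, 0, 13, 255431) .leaf)))) (119480, 0, 17, 195883) (.node (.node (.node (.node .leaf (119481,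 0, 16, 138573) .leaf) (119486, 0, 14, 87669) (.node .leaf (119487, 0, 16, 226379) .leaf)) (119490, 0, 15, 233904) (.node (.node .leaf (119491, 0, 17, 225750) .leaf) (119492, 0, 17, 194742) (.node .leaf (119493, 0, 14, 220867) .leaf))) (119498, 0, 16, 31262) (.node (.node (.node .leaf (119499, 0, 17, 87118) .leaf) (119500, 0, 17, 56622) (.node .leaf (119501, 0, 16, 242783) .leaf)) (119504, 0, 14, 47552) (.node (.node .leaf (119505, 0, 17, 22950) .leaf) (119510, 0, 17, 39273) (.node .leaf (119511, 0, 12, 180295) .leaf))))) (119512, 0, 12, 124058) (.node (.node (.node (.node (.node .leaf (119513, 0, 15, 162878) .leaf) (119518, 0, 16, 29685) (.node .leaf (119519, 0, 13, 142043) .leaf)) (119522, 0, 15, 126344) (.node (.node .leaf (119523, 0, 15, 242854) .leaf) (119524, 0, 11, 31463) (.node .leaf (119525, 0, 6, 70437) .leaf))) (119530, 0, 17, 67348) (.node (.node (.node .leaf (119531, 0, 18, 155579) .leaf) (119532, 0, 16, 251611) (.node .leaf (119533, 0, 14, 182613) .leaf)) (119536, 0, 17, 242229) (.node (.node .leaf (119537, 0,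 17, 217683) .leaf) (119542, 0, 12, 187187) (.node .leaf (119543, 0, 16, 245069) .leaf)))) (119544, 0, 18, 104365) (.node (.node (.node (.node .leaf (119545, 0, 15, 180414) .leaf) (119550, 0, 15, 69375) (.node .leaf (119551, 0, 17, 219089) .leaf)) (119552, 0, 17, 30704) (.node (.node .leaf (119553, 0, 8, 32267) .leaf) (119558, 0, 17, 123039) (.node .leaf (119559, 0, 17, 244145) .leaf))) (119560, 0, 17, 40300) (.node (.node (.node .leaf (119561, 0, 18, 181314) .leaf) (119566, 0, 16, 250611) (.node .leaf (119567, 0, 15, 209557) .leaf)) (119570, 0, 13, 243229) (.node (.node .leaf (119571, 0, 15, 218747) .leaf) (119572, 0, 15, 188187) .leaf)))))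

/-- part of the orbit tree -/
def itp3_327 : Tree := (.node itp3_323 (119192, 0, 15, 162010) itp3_324)

/-- part of the orbit tree -/
def itp3_328 : Tree := (.node itp3_325 (119448, 0, 16, 113680) itp3_326)

/-- part of the orbit tree -/
def itp3_329 : Tree := (.node itp3_321 (118809, 0, 14, 20603) itp3_322)

/-- part of the orbit tree -/
def itp3_330 : Tree := (.node itp3_327 (119320, 0, 15, 221652) itp3_328)

/-- part of the orbit tree -/
def itp3_331 : Tree := (.node (.node (.node (.node (.node (.node .leaf (119578, 0, 17, 66536) .leaf) (119579, 0, 14, 95203) (.node .leaf (119580, 0, 15, 38023) .leaf)) (119581, 0, 14, 6885) (.node (.node .leaf (119584, 0, 18, 234904) .leaf) (119585, 0, 15, 218068) (.node .leaf (119590, 0, 16, 195742) .leaf))) (119591, 0, 16, 181435) (.node (.node (.node .leaf (119592, 0, 17, 122982) .leaf) (119593, 0, 18, 86118) (.node .leaf (119598, 0, 18, 55558) .leaf)) (119599, 0, 11, 142887) (.node (.node .leaf (119602, 0, 14, 38014) .leaf) (119603, 0, 15, 183632) (.node .leaf (119604, 0, 16, 66321)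 .leaf)))) (119605, 0, 14, 219711) (.node (.node (.node (.node .leaf (119610, 0, 18, 32482) .leaf) (119611, 0, 17, 161814) (.node .leaf (119612, 0, 17, 125325) .leaf)) (119613, 0, 15, 200976) (.node (.node .leaf (119616, 0, 11, 12154) .leaf) (119617, 0, 11, 161364) (.node .leaf (119622, 0, 16, 171501) .leaf))) (119623, 0, 16, 163211) (.node (.node (.node .leaf (119624, 0, 16, 50662) .leaf) (119625, 0, 17, 78101) (.node .leaf (119630, 0, 15, 86665) .leaf)) (119631, 0, 19, 22547) (.node (.node .leaf (119634, 0, 11, 111102) .leaf) (119635, 0, 17, 15613) (.node .leaf (119636, 0, 14, 112029) .leaf))))) (119637, 0, 15, 87547) (.node (.node (.node (.node (.node .leaf (119642, 0, 13, 194819) .leaf) (119643, 0, 15, 137573) (.node .leaf (119644, 0, 15, 233477) .leaf)) (119645, 0, 13, 225379) (.node (.node .leaf (119648, 0, 15, 86640) .leaf) (119649, 0, 16, 199518) (.node .leaf (119654, 0, 18, 103960) .leaf))) (119655, 0, 16, 95870) (.node (.node (.node .leaf (119656, 0, 16, 112876) .leaf) (119657, 0, 14, 146144) (.node .leaf (119662,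 0, 15, 242560) .leaf)) (119663, 0, 13, 218086) (.node (.node .leaf (119666, 0, 16, 52468) .leaf) (119667, 0, 16, 210696) (.node .leaf (119668, 0, 14, 179816) .leaf)))) (119669, 0, 11, 197301) (.node (.node (.node (.node .leaf (119674, 0, 14, 127734) .leaf) (119675, 0, 16, 70288) (.node .leaf (119676, 0, 15, 110855) .leaf)) (119677, 0, 18, 31638) (.node (.node .leaf (119680, 0, 14, 247705) .leaf) (119681, 0, 19, 106167) (.node .leaf (119686, 0, 17, 151798) .leaf))) (119687, 0, 15, 229383) (.node (.node (.node .leaf (119688, 0, 14, 208133) .leaf) (119689, 0, 14, 52377) (.node .leaf (119694, 0, 16, 83449) .leaf)) (119695, 0, 16, 58180) (.node (.node .leaf (119698, 0, 17, 74007) .leaf) (119699, 0, 16, 51) (.node .leaf (119700, 0, 18, 18449) .leaf))))))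

/-- part of the orbit tree -/
def itp3_332 : Tree := (.node (.node (.node (.node (.node (.node .leaf (119706, 0, 15, 197775) .leaf) (119707, 0, 17, 255209) (.node .leaf (119708, 0, 17, 206062) .leaf)) (119709, 0, 15, 167407) (.node (.node .leaf (119712, 0, 11, 178835) .leaf) (119713, 0, 15, 58301) (.node .leaf (119718, 0, 18, 27540) .leaf))) (119719, 0, 16, 95442) (.node (.node (.node .leaf (119720, 0, 16, 206602) .leaf) (119721, 0, 17, 2337) (.node .leaf (119726, 0, 13, 247648) .leaf)) (119727, 0, 16, 175722) (.node (.node .leaf (119730, 0, 18, 142050) .leaf) (119731, 0, 16, 182916) (.node .leaf (119732, 0, 12, 213988) .leaf)))) (119733, 0, 15, 238466) (.node (.node (.node (.node .leaf (119738, 0, 15, 3962) .leaf) (119739, 0, 13, 61212) (.node .leaf (119740, 0, 14, 154084) .leaf)) (119741, 0, 12, 202) (.node (.node .leaf (119744, 0, 17, 91105) .leaf) (119745, 0, 15, 116285) (.node .leaf (119750, 0, 16, 133244) .leaf))) (119751, 0, 17, 20818) (.node (.node (.node .leaf (119752, 0, 15, 214649) .leaf) (119753, 0, 19, 76961)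 (.node .leaf (119758, 0, 15, 189152) .leaf)) (119759, 0, 11, 184089) (.node (.node .leaf (119762, 0, 15, 131479) .leaf) (119763, 0, 16, 22713) (.node .leaf (119764, 0, 13, 205463) .leaf))))) (119765, 0, 17, 246513) (.node (.node (.node (.node (.node .leaf (119770, 0, 17, 28169) .leaf) (119771, 0, 14, 45605) (.node .leaf (119772, 0, 17, 67343) .leaf)) (119773, 0, 18, 124777) (.node (.node .leaf (119776, 0, 16, 188953) .leaf) (119777, 0, 13, 47927) (.node .leaf (119782, 0, 17, 196882) .leaf))) (119783, 0, 15, 76888) (.node (.node (.node .leaf (119784, 0, 16, 19852) .leaf) (119785, 0, 16, 20907) (.node .leaf (119790, 0, 17, 237546) .leaf)) (119791, 0, 14, 116420) (.node (.node .leaf (119794, 0, 16, 82020) .leaf) (119795, 0, 16, 75187) (.node .leaf (119796, 0, 17, 191474) .leaf)))) (119797, 0, 14, 51460) (.node (.node (.node (.node .leaf (119802, 0, 14, 222716) .leaf) (119803, 0, 15, 118575) (.node .leaf (119804, 0, 16, 131438) .leaf)) (119805, 0, 16, 191644) (.node (.node .leaf (119809, 0, 17, 191143) .leaf) (119811, 0, 17,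 141719) (.node .leaf (119812, 0, 17, 124886) .leaf))) (119814, 0, 15, 222151) (.node (.node (.node .leaf (119817, 0, 10, 76665) .leaf) (119819, 0, 14, 106266) (.node .leaf (119820, 0, 16, 5754) .leaf)) (119822, 0, 16, 83551) (.node (.node .leaf (119824, 0, 15, 126525) .leaf) (119826, 0, 15, 74417) (.node .leaf (119829, 0, 14, 116750) .leaf))))))

/-- part of the orbit tree -/
def itp3_333 : Tree := (.node (.node (.node (.node (.node (.node .leaf (119832, 0, 17, 153356) .leaf) (119834, 0, 14, 198441) (.node .leaf (119837, 0, 14, 167497) .leaf)) (119839, 0, 17, 253548) (.node (.node .leaf (119841, 0, 19, 48367) .leaf) (119843, 0, 17, 45431) (.node .leaf (119844, 0, 18, 39644) .leaf))) (119846, 0, 18, 26674) (.node (.node (.node .leaf (119849, 0, 16, 22131) .leaf) (119851, 0, 14, 169199) (.node .leaf (119852, 0, 17, 28736) .leaf)) (119854, 0, 16, 150954) (.node (.node .leaf (119856, 0, 15, 37687) .leaf) (119858, 0, 15, 228165) (.node .leaf (119861, 0, 16, 237604) .leaf)))) (119863, 0, 14, 192513) (.node (.node (.node (.node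 .leaf (119864, 0, 16, 89337) .leaf) (119866, 0, 12, 233945) (.node .leaf (119869, 0, 15, 24472) .leaf)) (119871, 0, 18, 54681) (.node (.node .leaf (119873, 0, 18, 98337) .leaf) (119875, 0, 16, 160029) (.node .leaf (119876, 0, 14, 114524) .leaf))) (119878, 0, 18, 153390) (.node (.node (.node .leaf (119881, 0, 12, 95219) .leaf) (119883, 0, 17, 193948) (.node .leaf (119884, 0, 17, 228604) .leaf)) (119886, 0, 16, 142553) (.node (.node .leaf (119888, 0, 16, 202770) .leaf) (119890, 0, 16, 149559) (.node .leaf (119893, 0, 17, 102532) .leaf))))) (119895, 0, 17, 162038) (.node (.node (.node (.node (.node .leaf (119896, 0, 15, 89131) .leaf) (119898, 0, 17, 177241) (.node .leaf (119901, 0, 16, 124111) .leaf)) (119903, 0, 15, 168554) (.node (.node .leaf (119905, 0, 16, 58469) .leaf) (119907, 0, 13, 252913) (.node .leaf (119908, 0, 16, 49750) .leaf))) (119910, 0, 15, 197300) (.node (.node (.node .leaf (119913, 0, 13, 3833) .leaf) (119915, 0, 17, 255627) (.node .leaf (119916, 0, 15, 10442) .leaf)) (119918, 0, 15, 75564) (.node (.node .leaf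 (119920, 0, 18, 52157) .leaf) (119922, 0, 14, 82882) (.node .leaf (119925, 0, 16, 51874) .leaf)))) (119927, 0, 17, 105095) (.node (.node (.node (.node .leaf (119928, 0, 14, 145023) .leaf) (119930, 0, 17, 222810) (.node .leaf (119933, 0, 16, 1810) .leaf)) (119935, 0, 18, 257888) (.node (.node .leaf (119937, 0, 17, 160140) .leaf) (119939, 0, 17, 77192) (.node .leaf (119940, 0, 14, 42216) .leaf))) (119942, 0, 15, 114637) (.node (.node (.node .leaf (119945, 0, 14, 153653) .leaf) (119947, 0, 17, 198672) (.node .leaf (119948, 0, 18, 179491) .leaf)) (119950, 0, 13, 87377) (.node (.node .leaf (119952, 0, 18, 189854) .leaf) (119954, 0, 15, 243131) (.node .leaf (119957, 0, 13, 146651) .leaf))))))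

/-- part of the orbit tree -/
def itp3_334 : Tree := (.node (.node (.node (.node (.node (.node .leaf (119960, 0, 15, 49158) .leaf) (119962, 0, 18, 102435) (.node .leaf (119965, 0, 15, 6467) .leaf)) (119967, 0, 14, 84326) (.node (.node .leaf (119969, 0, 17, 226904) .leaf) (119971, 0, 16, 140925) (.node .leaf (119972, 0, 15, 207541) .leaf))) (119974, 0, 18, 196408) (.node (.node (.node .leaf (119977, 0, 16, 86976) .leaf) (119979, 0, 16, 997) (.node .leaf (119980, 0, 18, 245801) .leaf)) (119982, 0, 13, 10331) (.node (.node .leaf (119984, 0, 15, 205662) .leaf) (119986, 0, 12, 52012) (.node .leaf (119989, 0, 16, 79662) .leaf)))) (119991, 0, 13, 26379) (.node (.node (.node (.node .leaf (119992, 0, 17, 248819) .leaf) (119994, 0, 16, 8624) (.node .leaf (119997, 0, 16, 201398) .leaf)) (119999, 0, 17, 148115) (.node (.node .leaf (120001, 0, 13, 141574) .leaf) (120003, 0, 15, 115060) (.node .leaf (120004, 0, 15, 249454) .leaf))) (120006, 0, 17, 171595) (.node (.node (.node .leaf (120009, 0, 17, 181146) .leaf) (120011, 0, 15, 76776)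 (.node .leaf (120012, 0, 14, 189865) .leaf)) (120014, 0, 17, 48083) (.node (.node .leaf (120016, 0, 19, 102168) .leaf) (120018, 0, 18, 57149) (.node .leaf (120021, 0, 16, 139501) .leaf))))) (120023, 0, 18, 116895) (.node (.node (.node (.node (.node .leaf (120024, 0, 18, 240256) .leaf) (120026, 0, 14, 66608) (.node .leaf (120029, 0, 16, 226245) .leaf)) (120031, 0, 16, 140256) (.node (.node .leaf (120033, 0, 9, 218124) .leaf) (120035, 0, 13, 85243) (.node .leaf (120036, 0, 17, 225855) .leaf))) (120038, 0, 17, 39501) (.node (.node (.node .leaf (120041, 0, 13, 245392) .leaf) (120043, 0, 16, 223587) (.node .leaf (120044, 0, 17, 188419) .leaf)) (120046, 0, 17, 28881) (.node (.node .leaf (120048, 0, 15, 165101) .leaf) (120050, 0, 15, 37798) (.node .leaf (120053, 0, 16, 220647) .leaf)))) (120055, 0, 16, 46485) (.node (.node (.node (.node .leaf (120056, 0, 14, 233800) .leaf) (120058, 0, 17, 31034) (.node .leaf (120061, 0, 11, 243579) .leaf)) (120063, 0, 17, 75797) (.node (.node .leaf (120064, 0, 15, 229160) .leaf) (120066, 0, 12,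 38746) (.node .leaf (120069, 0, 15, 94704) .leaf))) (120071, 0, 17, 45417) (.node (.node (.node .leaf (120072, 0, 15, 234932) .leaf) (120074, 0, 13, 32198) (.node .leaf (120077, 0, 16, 218216) .leaf)) (120079, 0, 11, 132173) (.node (.node .leaf (120081, 0, 16, 217328) .leaf) (120083, 0, 15, 47234) (.node .leaf (120084, 0, 7, 256451) .leaf))))))

/-- part of the orbit tree -/
def itp3_335 : Tree := (.node itp3_331 (119701, 0, 16, 104284) itp3_332)

/-- part of the orbit tree -/
def itp3_336 : Tree := (.node itp3_333 (119959, 0, 14, 102421) itp3_334)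

/-- part of the orbit tree -/
def itp3_337 : Tree := (.node (.node (.node (.node (.node (.node .leaf (120089, 0, 16, 70942) .leaf) (120091, 0, 13, 21022) (.node .leaf (120092, 0, 16, 117851) .leaf)) (120094, 0, 18, 40062) (.node (.node .leaf (120096, 0, 15, 172864) .leaf) (120098, 0, 19, 125520) (.node .leaf (120101, 0, 18, 140305) .leaf))) (120103, 0, 17, 207392) (.node (.node (.node .leaf (120104, 0, 18, 190654) .leaf) (120106, 0, 16, 65740) (.node .leaf (120109, 0, 16, 24477) .leaf)) (120111, 0, 17, 69560) (.node (.node .leaf (120113, 0, 16, 142842) .leaf) (120115, 0, 16, 116104) (.node .leaf (120116, 0, 16, 57910) .leaf)))) (120118, 0, 15, 111123) (.node (.node (.node (.node .leaf (120121, 0, 13, 182118) .leaf) (120123, 0, 16, 77588) (.node .leaf (120124, 0, 15, 188757) .leaf)) (120126, 0, 18, 67879) (.node (.node .leaf (120128, 0, 17, 180787) .leaf) (120130, 0, 16, 234006) (.node .leaf (120133, 0, 16, 197009) .leaf))) (120135, 0, 16, 215891) (.node (.node (.node .leaf (120136, 0, 16, 249150) .leaf) (120138, 0, 18, 9548)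 (.node .leaf (120141, 0, 17, 16110) .leaf)) (120143, 0, 14, 895) (.node (.node .leaf (120145, 0, 17, 23040) .leaf) (120147, 0, 17, 57352) (.node .leaf (120148, 0, 17, 33605) .leaf))))) (120150, 0, 16, 119648) (.node (.node (.node (.node (.node .leaf (120153, 0, 15, 163736) .leaf) (120155, 0, 17, 2708) (.node .leaf (120156, 0, 18, 246997) .leaf)) (120158, 0, 9, 259832) (.node (.node .leaf (120160, 0, 17, 117190) .leaf) (120162, 0, 11, 39395) (.node .leaf (120165, 0, 17, 69763) .leaf))) (120167, 0, 15, 103657) (.node (.node (.node .leaf (120168, 0, 18, 257118) .leaf) (120170, 0, 16, 88134) (.node .leaf (120173, 0, 16, 169479) .leaf)) (120175, 0, 11, 97909) (.node (.node .leaf (120177, 0, 18, 161136) .leaf) (120179, 0, 19, 131536) (.node .leaf (120180, 0, 17, 231600) .leaf)))) (120182, 0, 11, 113457) (.node (.node (.node (.node .leaf (120185, 0, 16, 172012) .leaf) (120187, 0, 17, 9288) (.node .leaf (120188, 0, 17, 109864) .leaf)) (120190, 0, 18, 86445) (.node (.node .leaf (120192, 0, 14, 212927) .leaf) (120194, 0, 17, 206643)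 (.node .leaf (120197, 0, 17, 59762) .leaf))) (120199, 0, 16, 196864) (.node (.node (.node .leaf (120200, 0, 16, 72231) .leaf) (120202, 0, 17, 18946) (.node .leaf (120205, 0, 12, 1006) .leaf)) (120207, 0, 13, 256924) (.node (.node .leaf (120209, 0, 17, 57497) .leaf) (120211, 0, 14, 198891) (.node .leaf (120212, 0, 17, 50858) .leaf))))))

/-- part of the orbit tree -/
def itp3_338 : Tree := (.node (.node (.node (.node (.node (.node .leaf (120217, 0, 15, 229908) .leaf) (120219, 0, 17, 184881) (.node .leaf (120220, 0, 15, 219985) .leaf)) (120222, 0, 14, 134004) (.node (.node .leaf (120224, 0, 17, 111179) .leaf) (120226, 0, 16, 91247) (.node .leaf (120229, 0, 17, 103544) .leaf))) (120231, 0, 15, 162826) (.node (.node (.node .leaf (120232, 0, 13, 88279) .leaf) (120234, 0, 16, 213495) (.node .leaf (120237, 0, 17, 98020) .leaf)) (120239, 0, 17, 235698) (.node (.node .leaf (120241, 0, 13, 105875) .leaf) (120243, 0, 17, 261212) (.node .leaf (120244, 0, 14, 113568) .leaf)))) (120246, 0, 17, 206105) (.node (.node (.node (.node .leaf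 (120249, 0, 17, 96015) .leaf) (120251, 0, 16, 121284) (.node .leaf (120252, 0, 17, 20644) .leaf)) (120254, 0, 17, 178510) (.node (.node .leaf (120256, 0, 16, 21817) .leaf) (120258, 0, 13, 66844) (.node .leaf (120261, 0, 17, 45560) .leaf))) (120263, 0, 17, 219530) (.node (.node (.node .leaf (120264, 0, 13, 159905) .leaf) (120266, 0, 15, 204932) (.node .leaf (120269, 0, 15, 23396) .leaf)) (120271, 0, 15, 260545) (.node (.node .leaf (120273, 0, 14, 183562) .leaf) (120275, 0, 17, 217185) (.node .leaf (120276, 0, 10, 40480) .leaf))))) (120278, 0, 13, 226898) (.node (.node (.node (.node (.node .leaf (120281, 0, 16, 21135) .leaf) (120283, 0, 17, 112823) (.node .leaf (120284, 0, 17, 29884) .leaf)) (120286, 0, 15, 236750) (.node (.node .leaf (120288, 0, 14, 125633) .leaf) (120290, 0, 15, 134889) (.node .leaf (120293, 0, 18, 118002) .leaf))) (120295, 0, 16, 186284) (.node (.node (.node .leaf (120296, 0, 15, 97108) .leaf) (120298, 0, 16, 190511) (.node .leaf (120301, 0, 14, 75374) .leaf)) (120303, 0, 16, 62004) (.node (.node .leaf (120305,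 0, 16, 116479) .leaf) (120307, 0, 16, 38618) (.node .leaf (120308, 0, 18, 123690) .leaf)))) (120310, 0, 17, 20383) (.node (.node (.node (.node .leaf (120313, 0, 17, 77701) .leaf) (120315, 0, 15, 176962) (.node .leaf (120316, 0, 14, 211490) .leaf)) (120318, 0, 14, 188868) (.node (.node .leaf (120320, 0, 16, 237031) .leaf) (120321, 0, 18, 181975) (.node .leaf (120322, 0, 10, 226964) .leaf))) (120323, 0, 16, 235250) (.node (.node (.node .leaf (120328, 0, 17, 809) .leaf) (120329, 0, 17, 77397) (.node .leaf (120330, 0, 17, 86796) .leaf)) (120331, 0, 18, 181799) (.node (.node .leaf (120340, 0, 14, 234508) .leaf) (120341, 0, 17, 34721) (.node .leaf (120342, 0, 16, 31870) .leaf))))))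

/-- part of the orbit tree -/
def itp3_339 : Tree := (.node (.node (.node (.node (.node (.node .leaf (120348, 0, 15, 148063) .leaf) (120349, 0, 16, 172601) (.node .leaf (120350, 0, 19, 201338) .leaf)) (120351, 0, 16, 184268) (.node (.node .leaf (120352, 0, 17, 188653) .leaf) (120353, 0, 18, 118050) (.node .leaf (120354, 0, 16, 32097) .leaf))) (120355, 0, 17, 217521) (.node (.node (.node .leaf (120360, 0, 9, 133745) .leaf) (120361, 0, 16, 21343) (.node .leaf (120362, 0, 15, 123395) .leaf)) (120363, 0, 16, 244525) (.node (.node .leaf (120372, 0, 17, 224306) .leaf) (120373, 0, 16, 45096) (.node .leaf (120374, 0, 17, 65908) .leaf)))) (120375, 0, 15, 219226) (.node (.node (.node (.node .leaf (120380, 0, 18, 131994) .leaf) (120381, 0, 15, 23220) (.node .leaf (120382, 0, 17, 125928) .leaf)) (120383, 0, 15, 63977) (.node (.node .leaf (120384, 0, 15, 247149) .leaf) (120385, 0, 17, 105539) (.node .leaf (120386, 0, 17, 11551) .leaf))) (120387, 0, 15, 64628) (.node (.node (.node .leaf (120392, 0, 16, 223663) .leaf) (120393, 0, 16, 231881)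 (.node .leaf (120394, 0, 13, 145802) .leaf)) (120395, 0, 14, 186860) (.node (.node .leaf (120404, 0, 15, 200001) .leaf) (120405, 0, 17, 103848) (.node .leaf (120406, 0, 16, 154980) .leaf))))) (120407, 0, 18, 163290) (.node (.node (.node (.node (.node .leaf (120412, 0, 16, 206362) .leaf) (120413, 0, 16, 116927) (.node .leaf (120414, 0, 16, 30972) .leaf)) (120415, 0, 15, 39066) (.node (.node .leaf (120416, 0, 16, 178279) .leaf) (120417, 0, 16, 173988) (.node .leaf (120418, 0, 17, 202727) .leaf))) (120419, 0, 14, 259969) (.node (.node (.node .leaf (120424, 0, 19, 152315) .leaf) (120425, 0, 16, 33340) (.node .leaf (120426, 0, 16, 113289) .leaf)) (120427, 0, 14, 119321) (.node (.node .leaf (120436, 0, 18, 176524) .leaf) (120437, 0, 17, 59090) (.node .leaf (120438, 0, 17, 87697) .leaf)))) (120439, 0, 16, 112375) (.node (.node (.node (.node .leaf (120444, 0, 16, 154384) .leaf) (120445, 0, 18, 574) (.node .leaf (120446, 0, 16, 111458) .leaf)) (120447, 0, 17, 256588) (.node (.node .leaf (120448, 0, 16, 45499) .leaf) (120449, 0, 18,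 20957) (.node .leaf (120450, 0, 18, 247292) .leaf))) (120451, 0, 17, 105682) (.node (.node (.node .leaf (120456, 0, 14, 50962) .leaf) (120457, 0, 18, 171580) (.node .leaf (120458, 0, 16, 208736) .leaf)) (120459, 0, 17, 205920) (.node (.node .leaf (120468, 0, 16, 9317) .leaf) (120469, 0, 17, 163147) (.node .leaf (120470, 0, 17, 237800) .leaf))))))

/-- part of the orbit tree -/
def itp3_340 : Tree := (.node (.node (.node (.node (.node (.node .leaf (120476, 0, 12, 54613) .leaf) (120477, 0, 15, 169943) (.node .leaf (120478, 0, 17, 99696) .leaf)) (120479, 0, 17, 91414) (.node (.node .leaf (120480, 0, 15, 244302) .leaf) (120481, 0, 18, 199082) (.node .leaf (120482, 0, 19, 178422) .leaf))) (120483, 0, 16, 133645) (.node (.node (.node .leaf (120488, 0, 15, 106454) .leaf) (120489, 0, 17, 254774) (.node .leaf (120490, 0, 17, 152170) .leaf)) (120491, 0, 14, 12181) (.node (.node .leaf (120500, 0, 17, 88431) .leaf) (120501, 0, 18, 72542) (.node .leaf (120502, 0, 14, 43805) .leaf)))) (120503, 0, 14, 59443) (.node (.node (.node (.node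 .leaf (120508, 0, 14, 253600) .leaf) (120509, 0, 10, 212678) (.node .leaf (120510, 0, 15, 154497) .leaf)) (120511, 0, 16, 159459) (.node (.node .leaf (120512, 0, 17, 252733) .leaf) (120513, 0, 17, 211803) (.node .leaf (120514, 0, 17, 166680) .leaf))) (120515, 0, 17, 158590) (.node (.node (.node .leaf (120520, 0, 19, 130725) .leaf) (120521, 0, 17, 73411) (.node .leaf (120522, 0, 14, 227306) .leaf)) (120523, 0, 14, 20198) (.node (.node .leaf (120532, 0, 15, 105035) .leaf) (120533, 0, 17, 140737) (.node .leaf (120534, 0, 18, 51822) .leaf))))) (120535, 0, 16, 118195) (.node (.node (.node (.node (.node .leaf (120540, 0, 14, 245715) .leaf) (120541, 0, 15, 221109) (.node .leaf (120542, 0, 13, 192502) .leaf)) (120543, 0, 12, 135056) (.node (.node .leaf (120544, 0, 18, 53448) .leaf) (120545, 0, 19, 217376) (.node .leaf (120546, 0, 15, 188540) .leaf))) (120547, 0, 16, 90251) (.node (.node (.node .leaf (120552, 0, 16, 123538) .leaf) (120553, 0, 16, 244668) (.node .leaf (120554, 0, 15, 133856) .leaf)) (120555, 0, 15, 21454) (.node (.node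 .leaf (120564, 0, 17, 168382) .leaf) (120565, 0, 16, 160216) (.node .leaf (120566, 0, 18, 190871) .leaf)))) (120567, 0, 17, 205309) (.node (.node (.node (.node .leaf (120572, 0, 17, 125817) .leaf) (120573, 0, 16, 242263) (.node .leaf (120574, 0, 15, 123907) .leaf)) (120575, 0, 15, 23077) (.node (.node .leaf (120580, 0, 16, 66841) .leaf) (120581, 0, 17, 220215) (.node .leaf (120582, 0, 15, 191851) .leaf))) (120583, 0, 14, 3493) (.node (.node (.node .leaf (120588, 0, 13, 126853) .leaf) (120589, 0, 17, 227352) (.node .leaf (120590, 0, 18, 133111) .leaf)) (120591, 0, 14, 24281) (.node (.node .leaf (120592, 0, 16, 68850) .leaf) (120593, 0, 16, 204022) .leaf)))))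

/-- part of the orbit tree -/
def itp3_341 : Tree := (.node itp3_337 (120214, 0, 15, 208600) itp3_338)

/-- part of the orbit tree -/
def itp3_342 : Tree := (.node itp3_339 (120471, 0, 14, 103737) itp3_340)

/-- part of the orbit tree -/
def itp3_343 : Tree := (.node itp3_335 (119831, 0, 16, 139388) itp3_336)

/-- part of the orbit tree -/
def itp3_344 : Tree := (.node itp3_341 (120343, 0, 17, 140624) itp3_342)

/-- part of the orbit tree -/
def itp3_345 : Tree := (.node itp3_329 (119064, 0, 14, 192182) itp3_330)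

/-- part of the orbit tree -/
def itp3_346 : Tree := (.node itp3_343 (120086, 0, 13, 40625) itp3_344)

/-- part of the orbit tree -/
def itp3_347 : Tree := (.node (.node (.node (.node (.node (.node .leaf (120595, 0, 15, 48558) .leaf) (120600, 0, 12, 121096) (.node .leaf (120601, 0, 16, 80238) .leaf)) (120602, 0, 17, 35117) (.node (.node .leaf (120603, 0, 16, 22322) .leaf) (120612, 0, 17, 177683) (.node .leaf (120613, 0, 17, 139581) .leaf))) (120614, 0, 16, 233569) (.node (.node (.node .leaf (120615, 0, 16, 117071) .leaf) (120620, 0, 18, 37519) (.node .leaf (120621, 0, 14, 29677) .leaf)) (120622, 0, 18, 228093) (.node (.node .leaf (120623, 0, 16, 74707) .leaf) (120624, 0, 18, 29176) (.node .leaf (120625, 0, 11, 141526) .leaf)))) (120626, 0, 14, 108352) (.node (.node (.node (.node .leaf (120627, 0, 14, 114852) .leaf) (120632, 0, 16, 185085) (.node .leaf (120633, 0, 12, 144027) .leaf)) (120634, 0, 14, 226070) (.node (.node .leaf (120635, 0, 15, 221886) .leaf) (120644, 0, 16, 89491) (.node .leaf (120645, 0, 16, 197821) .leaf)))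 (120646, 0, 15, 177633) (.node (.node (.node .leaf (120647, 0, 13, 60623) .leaf) (120652, 0, 16, 62200) (.node .leaf (120653, 0, 19, 257569) .leaf)) (120654, 0, 15, 155517) (.node (.node .leaf (120655, 0, 17, 1619) .leaf) (120656, 0, 15, 87160) (.node .leaf (120657, 0, 17, 200022) .leaf))))) (120658, 0, 14, 116275) (.node (.node (.node (.node (.node .leaf (120659, 0, 17, 58660) .leaf) (120664, 0, 14, 177038) (.node .leaf (120665, 0, 13, 255946) .leaf)) (120666, 0, 11, 254891) (.node (.node .leaf (120667, 0, 15, 4024) .leaf) (120676, 0, 12, 8345) (.node .leaf (120677, 0, 14, 162231) .leaf))) (120678, 0, 11, 248043) (.node (.node (.node .leaf (120679, 0, 17, 102853) .leaf) (120684, 0, 15, 51717) (.node .leaf (120685, 0, 16, 203115) .leaf)) (120686, 0, 17, 205431) (.node (.node .leaf (120687, 0, 17, 97113) .leaf) (120688, 0, 15, 237027) (.node .leaf (120689, 0, 15, 159836) .leaf)))) (120690, 0, 16, 183750) (.node (.node (.node (.node .leaf (120691, 0, 18, 104494) .leaf) (120696, 0, 16, 112763) (.node .leaf (120697, 0, 15, 88093)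 .leaf)) (120698, 0, 17, 59486) (.node (.node .leaf (120699, 0, 17, 2104) .leaf) (120708, 0, 17, 207596) (.node .leaf (120709, 0, 18, 60510) .leaf))) (120710, 0, 12, 162505) (.node (.node (.node .leaf (120711, 0, 15, 170671) .leaf) (120716, 0, 18, 155628) (.node .leaf (120717, 0, 16, 126738) .leaf)) (120718, 0, 16, 24401) (.node (.node .leaf (120719, 0, 16, 257712) .leaf) (120720, 0, 15, 179355) (.node .leaf (120721, 0, 17, 101372) .leaf))))))

/-- part of the orbit tree -/
def itp3_348 : Tree := (.node (.node (.node (.node (.node (.node .leaf (120723, 0, 14, 200135) .leaf) (120728, 0, 15, 216578) (.node .leaf (120729, 0, 18, 241252) .leaf)) (120730, 0, 16, 114293) (.node (.node .leaf (120731, 0, 16, 196161) .leaf) (120740, 0, 16, 8473) (.node .leaf (120741, 0, 15, 49535) .leaf))) (120742, 0, 18, 8200) (.node (.node (.node .leaf (120743, 0, 16, 162086) .leaf) (120748, 0, 15, 132225) (.node .leaf (120749, 0, 16, 189671) .leaf)) (120750, 0, 18, 218276) (.node (.node .leaf (120751, 0, 15, 242882) .leaf) (120752, 0, 19, 246161)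 (.node .leaf (120753, 0, 13, 163849) .leaf)))) (120754, 0, 16, 208970) (.node (.node (.node (.node .leaf (120755, 0, 15, 159949) .leaf) (120760, 0, 13, 17911) (.node .leaf (120761, 0, 13, 42385) .leaf)) (120762, 0, 9, 71122) (.node (.node .leaf (120763, 0, 14, 128436) .leaf) (120772, 0, 15, 191994) (.node .leaf (120773, 0, 17, 40972) .leaf))) (120774, 0, 17, 66952) (.node (.node (.node .leaf (120775, 0, 15, 220326) .leaf) (120780, 0, 15, 157170) (.node .leaf (120781, 0, 16, 165268) .leaf)) (120782, 0, 14, 210391) (.node (.node .leaf (120783, 0, 17, 243258) .leaf) (120784, 0, 17, 131356) (.node .leaf (120785, 0, 17, 188794) .leaf))))) (120786, 0, 16, 68707) (.node (.node (.node (.node (.node .leaf (120787, 0, 18, 218445) .leaf) (120792, 0, 17, 134797) (.node .leaf (120793, 0, 18, 50402) .leaf)) (120794, 0, 15, 124671) (.node (.node .leaf (120795, 0, 15, 103623) .leaf) (120804, 0, 15, 233712) (.node .leaf (120805, 0, 15, 117214) .leaf))) (120806, 0, 15, 138170) (.node (.node (.node .leaf (120807, 0, 14, 195548) .leaf) (120812,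 0, 15, 93703) (.node .leaf (120813, 0, 17, 74562) .leaf)) (120814, 0, 18, 37406) (.node (.node .leaf (120815, 0, 15, 56900) .leaf) (120816, 0, 18, 235803) (.node .leaf (120817, 0, 17, 114741) .leaf)))) (120818, 0, 14, 23244) (.node (.node (.node (.node .leaf (120819, 0, 15, 47786) .leaf) (120824, 0, 14, 226183) (.node .leaf (120825, 0, 16, 76457) .leaf)) (120826, 0, 13, 39925) (.node (.node .leaf (120827, 0, 13, 180955) .leaf) (120833, 0, 11, 166190) (.node .leaf (120834, 0, 14, 15952) .leaf))) (120837, 0, 19, 63027) (.node (.node (.node .leaf (120838, 0, 8, 83823) .leaf) (120841, 0, 17, 156594) (.node .leaf (120842, 0, 16, 250606) .leaf)) (120845, 0, 17, 7343) (.node (.node .leaf (120846, 0, 15, 110067) .leaf) (120848, 0, 17, 173814) (.node .leaf (120851, 0, 17, 173667) .leaf))))))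

/-- part of the orbit tree -/
def itp3_349 : Tree := (.node (.node (.node (.node (.node (.node .leaf (120855, 0, 14, 92343) .leaf) (120856, 0, 14, 78776) (.node .leaf (120859, 0, 15, 33787) .leaf)) (120860, 0, 14, 13175) (.node (.node .leaf (120863, 0, 15, 98859) .leaf) (120865, 0, 16, 165350) (.node .leaf (120866, 0, 19, 210341) .leaf))) (120869, 0, 14, 179397) (.node (.node (.node .leaf (120870, 0, 17, 14949) .leaf) (120873, 0, 17, 41086) (.node .leaf (120874, 0, 13, 69693) .leaf)) (120877, 0, 15, 90533) (.node (.node .leaf (120878, 0, 15, 76062) .leaf) (120880, 0, 18, 252924) (.node .leaf (120883, 0, 14, 158368) .leaf)))) (120884, 0, 15, 107745) (.node (.node (.node (.node .leaf (120887, 0, 16, 103605) .leaf) (120888, 0, 14, 145485) (.node .leaf (120891, 0, 17, 231438) .leaf)) (120892, 0, 16, 131438) (.node (.node .leaf (120895, 0, 17, 241965) .leaf) (120897, 0, 18, 189589) (.node .leaf (120898, 0, 16, 221432) .leaf))) (120901, 0, 16, 44729) (.node (.node (.node .leaf (120902, 0, 17, 224757) .leaf) (120905, 0, 14, 49421)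 (.node .leaf (120906, 0, 15, 94542) .leaf)) (120909, 0, 14, 63534) (.node (.node .leaf (120910, 0, 17, 128377) .leaf) (120912, 0, 17, 31910) (.node .leaf (120915, 0, 17, 216864) .leaf))))) (120916, 0, 18, 17797) (.node (.node (.node (.node (.node .leaf (120919, 0, 17, 77885) .leaf) (120920, 0, 14, 153918) (.node .leaf (120923, 0, 14, 256381) .leaf)) (120924, 0, 16, 27645) (.node (.node .leaf (120927, 0, 18, 249950) .leaf) (120929, 0, 17, 126816) (.node .leaf (120930, 0, 11, 138738) .leaf))) (120933, 0, 16, 120387) (.node (.node (.node .leaf (120934, 0, 15, 26112) .leaf) (120937, 0, 17, 248568) (.node .leaf (120938, 0, 17, 194414) .leaf)) (120941, 0, 15, 80175) (.node (.node .leaf (120942, 0, 14, 34931) .leaf) (120944, 0, 15, 227155) (.node .leaf (120947, 0, 15, 182032) .leaf)))) (120948, 0, 18, 216688) (.node (.node (.node (.node .leaf (120951, 0, 16, 19767) .leaf) (120952, 0, 14, 86731) (.node .leaf (120955, 0, 15, 57992) .leaf)) (120956, 0, 14, 93160) (.node (.node .leaf (120959, 0, 15, 42923) .leaf) (120961, 0, 11, 203033)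 (.node .leaf (120962, 0, 17, 34843) .leaf))) (120965, 0, 17, 204858) (.node (.node (.node .leaf (120966, 0, 17, 194310) .leaf) (120969, 0, 15, 119771) (.node .leaf (120970, 0, 14, 36034) .leaf)) (120973, 0, 17, 66978) (.node (.node .leaf (120974, 0, 15, 138650) .leaf) (120976, 0, 17, 71327) (.node .leaf (120979, 0, 14, 42947) .leaf))))))

/-- part of the orbit tree -/
def itp3_350 : Tree := (.node (.node (.node (.node (.node (.node .leaf (120983, 0, 17, 2122) .leaf) (120984, 0, 17, 130051) (.node .leaf (120987, 0, 18, 136433) .leaf)) (120988, 0, 17, 236945) (.node (.node .leaf (120991, 0, 14, 143938) .leaf) (120993, 0, 13, 4844) (.node .leaf (120994, 0, 15, 128273) .leaf))) (120997, 0, 15, 11215) (.node (.node (.node .leaf (120998, 0, 12, 105356) .leaf) (121001, 0, 17, 44753) (.node .leaf (121002, 0, 17, 73613) .leaf)) (121005, 0, 18, 184780) (.node (.node .leaf (121006, 0, 17, 221328) .leaf) (121008, 0, 16, 166623) (.node .leaf (121011, 0, 17, 211612) .leaf)))) (121012, 0, 17, 177148) (.node (.node (.node (.node .leaf (121015,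 0, 16, 197567) .leaf) (121016, 0, 17, 33033) (.node .leaf (121019, 0, 13, 73476) .leaf)) (121020, 0, 17, 38500) (.node (.node .leaf (121023, 0, 11, 216904) .leaf) (121025, 0, 17, 90573) (.node .leaf (121026, 0, 15, 53393) .leaf))) (121029, 0, 18, 19132) (.node (.node (.node .leaf (121030, 0, 16, 129791) .leaf) (121033, 0, 17, 101201) (.node .leaf (121034, 0, 17, 14861) .leaf)) (121037, 0, 17, 259148) (.node (.node .leaf (121038, 0, 16, 253799) .leaf) (121040, 0, 17, 191404) (.node .leaf (121043, 0, 18, 65353) .leaf))))) (121044, 0, 18, 209160) (.node (.node (.node (.node (.node .leaf (121047, 0, 17, 163924) .leaf) (121048, 0, 18, 107657) (.node .leaf (121051, 0, 13, 97911) .leaf)) (121052, 0, 14, 63255) (.node (.node .leaf (121055, 0, 14, 83796) .leaf) (121057, 0, 13, 7367) (.node .leaf (121058, 0, 14, 109979) .leaf))) (121061, 0, 14, 213321) (.node (.node (.node .leaf (121062, 0, 16, 192778) .leaf) (121065, 0, 17, 89586) (.node .leaf (121066, 0, 16, 83719) .leaf)) (121069, 0, 16, 91345) (.node (.node .leaf (121070, 0, 17,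 210970) .leaf) (121072, 0, 14, 122969) (.node .leaf (121075, 0, 17, 98883) .leaf)))) (121076, 0, 16, 121210) (.node (.node (.node (.node .leaf (121079, 0, 16, 261470) .leaf) (121080, 0, 16, 55683) (.node .leaf (121083, 0, 11, 92383) .leaf)) (121084, 0, 15, 173726) (.node (.node .leaf (121087, 0, 18, 202690) .leaf) (121088, 0, 15, 183297) (.node .leaf (121091, 0, 17, 228418) .leaf))) (121092, 0, 17, 149758) (.node (.node (.node .leaf (121095, 0, 15, 214369) .leaf) (121096, 0, 11, 59801) (.node .leaf (121099, 0, 16, 88538) .leaf)) (121100, 0, 18, 172642) (.node (.node .leaf (121103, 0, 18, 90361) .leaf) (121105, 0, 16, 21554) (.node .leaf (121106, 0, 15, 124017) .leaf))))))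

/-- part of the orbit tree -/
def itp3_351 : Tree := (.node itp3_347 (120722, 0, 15, 87273) itp3_348)

/-- part of the orbit tree -/
def itp3_352 : Tree := (.node itp3_349 (120980, 0, 15, 223618) itp3_350)

/-- part of the orbit tree -/
def itp3_353 : Tree := (.node (.node (.node (.node (.node (.node .leaf (121110, 0, 17, 122194) .leaf) (121113, 0, 15, 62119) (.node .leaf (121114, 0, 17, 82939) .leaf)) (121117, 0, 15, 149641) (.node (.node .leaf (121118, 0, 14, 260298) .leaf) (121120, 0, 17, 84713) (.node .leaf (121123, 0, 17, 30647) .leaf))) (121124, 0, 14, 130775) (.node (.node (.node .leaf (121127, 0, 14, 165032) .leaf) (121128, 0, 16, 106613) (.node .leaf (121131, 0, 17, 4393) .leaf)) (121132, 0, 15, 253800) (.node (.node .leaf (121135, 0, 15, 159284) .leaf) (121137, 0, 16, 221127) (.node .leaf (121138, 0, 16, 192388) .leaf)))) (121141, 0, 15, 222948) (.node (.node (.node (.node .leaf (121142, 0, 16, 186023) .leaf) (121145, 0, 17, 102317) (.node .leaf (121146, 0, 14, 16113) .leaf)) (121149, 0, 14, 82812) (.node (.node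 .leaf (121150, 0, 12, 62271) .leaf) (121152, 0, 16, 108167) (.node .leaf (121155, 0, 16, 122421) .leaf))) (121156, 0, 18, 135284) (.node (.node (.node .leaf (121159, 0, 14, 237864) .leaf) (121160, 0, 17, 230175) (.node .leaf (121163, 0, 17, 79017) .leaf)) (121164, 0, 12, 244284) (.node (.node .leaf (121167, 0, 14, 133759) .leaf) (121169, 0, 15, 16561) (.node .leaf (121170, 0, 15, 127469) .leaf))))) (121173, 0, 14, 147372) (.node (.node (.node (.node (.node .leaf (121174, 0, 16, 233200) .leaf) (121177, 0, 17, 72492) (.node .leaf (121178, 0, 18, 72561) .leaf)) (121181, 0, 16, 74255) (.node (.node .leaf (121182, 0, 14, 222316) .leaf) (121184, 0, 16, 175474) (.node .leaf (121187, 0, 18, 204081) .leaf))) (121188, 0, 14, 224638) (.node (.node (.node .leaf (121191, 0, 15, 205842) .leaf) (121192, 0, 17, 35050) (.node .leaf (121195, 0, 17, 18851) .leaf)) (121196, 0, 17, 45513) (.node (.node .leaf (121199, 0, 16, 145086) .leaf) (121201, 0, 14, 13633) (.node .leaf (121202, 0, 18, 99586) .leaf)))) (121205, 0, 16, 3170) (.node (.node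 (.node (.node .leaf (121206, 0, 14, 113697) .leaf) (121209, 0, 17, 120615) (.node .leaf (121210, 0, 15, 237722) .leaf)) (121213, 0, 17, 239674) (.node (.node .leaf (121214, 0, 18, 235961) .leaf) (121216, 0, 16, 23307) (.node .leaf (121219, 0, 18, 145110) .leaf))) (121220, 0, 5, 129175) (.node (.node (.node .leaf (121223, 0, 14, 18891) .leaf) (121224, 0, 18, 224534) (.node .leaf (121227, 0, 12, 249552) .leaf)) (121228, 0, 16, 70155) (.node (.node .leaf (121231, 0, 12, 260083) .leaf) (121233, 0, 14, 181048) (.node .leaf (121234, 0, 17, 226171) .leaf))))))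

/-- part of the orbit tree -/
def itp3_354 : Tree := (.node (.node (.node (.node (.node (.node .leaf (121238, 0, 15, 215640) .leaf) (121241, 0, 15, 213710) (.node .leaf (121242, 0, 14, 193426) .leaf)) (121245, 0, 18, 57219) (.node (.node .leaf (121246, 0, 16, 94144) .leaf) (121248, 0, 16, 217342) (.node .leaf (121251, 0, 17, 216028) .leaf))) (121252, 0, 17, 34205) (.node (.node (.node .leaf (121255, 0, 16, 79041) .leaf) (121256, 0, 12, 95590) (.node .leaf (121259, 0, 16, 237888) .leaf)) (121260, 0, 18, 85061) (.node (.node .leaf (121263, 0, 17, 64518) .leaf) (121265, 0, 18, 116941) (.node .leaf (121266, 0, 15, 222212) .leaf)))) (121269, 0, 17, 43589) (.node (.node (.node (.node .leaf (121270, 0, 16, 72473) .leaf) (121273, 0, 17, 257365) (.node .leaf (121274, 0, 12, 154902) .leaf)) (121277, 0, 13, 250998) (.node (.node .leaf (121278, 0, 14, 156725) .leaf) (121280, 0, 16, 209293) (.node .leaf (121283, 0, 18, 159324) .leaf))) (121284, 0, 15, 106525) (.node (.node (.node .leaf (121287, 0, 15, 4417) .leaf) (121288, 0, 17, 210332)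 (.node .leaf (121291, 0, 17, 165056) .leaf)) (121292, 0, 18, 84609) (.node (.node .leaf (121295, 0, 15, 40309) .leaf) (121297, 0, 15, 258264) (.node .leaf (121298, 0, 18, 147844) .leaf))))) (121301, 0, 16, 102557) (.node (.node (.node (.node (.node .leaf (121302, 0, 18, 8414) .leaf) (121305, 0, 18, 203332) (.node .leaf (121306, 0, 14, 174872) .leaf)) (121309, 0, 17, 242949) (.node (.node .leaf (121310, 0, 16, 132422) .leaf) (121312, 0, 17, 172554) (.node .leaf (121315, 0, 18, 201558) .leaf))) (121316, 0, 12, 859) (.node (.node (.node .leaf (121319, 0, 12, 93259) .leaf) (121320, 0, 16, 139232) (.node .leaf (121323, 0, 17, 241571) .leaf)) (121324, 0, 14, 140995) (.node (.node .leaf (121327, 0, 15, 235136) .leaf) (121329, 0, 16, 167378) (.node .leaf (121330, 0, 12, 201224) .leaf)))) (121333, 0, 14, 62159) (.node (.node (.node (.node .leaf (121334, 0, 13, 82835) .leaf) (121337, 0, 18, 34771) (.node .leaf (121338, 0, 13, 251410) .leaf)) (121341, 0, 17, 6227) (.node (.node .leaf (121342, 0, 14, 69299) .leaf) (121344, 0, 17, 54572)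 (.node .leaf (121345, 0, 16, 166914) .leaf))) (121348, 0, 13, 97062) (.node (.node (.node .leaf (121349, 0, 18, 62239) .leaf) (121352, 0, 17, 223133) (.node .leaf (121353, 0, 15, 157342) .leaf)) (121356, 0, 17, 220862) (.node (.node .leaf (121357, 0, 16, 6531) .leaf) (121362, 0, 16, 84904) (.node .leaf (121363, 0, 16, 166419) .leaf))))))

/-- part of the orbit tree -/
def itp3_355 : Tree := (.node (.node (.node (.node (.node (.node .leaf (121367, 0, 10, 93595) .leaf) (121370, 0, 16, 106804) (.node .leaf (121371, 0, 18, 260122) .leaf)) (121374, 0, 17, 30414) (.node (.node .leaf (121375, 0, 14, 100103) .leaf) (121376, 0, 18, 108582) (.node .leaf (121377, 0, 16, 174486) .leaf))) (121380, 0, 17, 251707) (.node (.node (.node .leaf (121381, 0, 15, 168117) .leaf) (121384, 0, 16, 82618) (.node .leaf (121385, 0, 16, 35854) .leaf)) (121388, 0, 16, 212391) (.node (.node .leaf (121389, 0, 15, 91273) .leaf) (121394, 0, 13, 90496) (.node .leaf (121395, 0, 16, 159628) .leaf)))) (121398, 0, 12, 88227) (.node (.node (.node (.node .leaf (121399,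 0, 18, 112837) .leaf) (121402, 0, 18, 214040) (.node .leaf (121403, 0, 18, 165136) .leaf)) (121406, 0, 17, 172835) (.node (.node .leaf (121407, 0, 15, 64013) .leaf) (121408, 0, 17, 141443) (.node .leaf (121409, 0, 16, 182501) .leaf))) (121412, 0, 18, 135584) (.node (.node (.node .leaf (121413, 0, 15, 192966) .leaf) (121416, 0, 12, 26426) (.node .leaf (121417, 0, 15, 146964) .leaf)) (121420, 0, 15, 137255) (.node (.node .leaf (121421, 0, 17, 16649) .leaf) (121426, 0, 15, 65779) (.node .leaf (121427, 0, 14, 215564) .leaf))))) (121430, 0, 14, 224319) (.node (.node (.node (.node (.node .leaf (121431, 0, 17, 121270) .leaf) (121434, 0, 15, 206187) (.node .leaf (121435, 0, 16, 237712) .leaf)) (121438, 0, 15, 203848) (.node (.node .leaf (121439, 0, 14, 122765) .leaf) (121440, 0, 14, 74614) (.node .leaf (121441, 0, 16, 240002) .leaf))) (121444, 0, 17, 72277) (.node (.node (.node .leaf (121445, 0, 17, 129587) .leaf) (121448, 0, 16, 72240) (.node .leaf (121449, 0, 15, 255624) .leaf)) (121452, 0, 16, 222509) (.node (.node .leaf (121453,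 0, 19, 80899) .leaf) (121458, 0, 16, 28200) (.node .leaf (121459, 0, 17, 145158) .leaf)))) (121462, 0, 18, 143909) (.node (.node (.node (.node .leaf (121463, 0, 16, 18459) .leaf) (121466, 0, 17, 11934) (.node .leaf (121467, 0, 14, 187802) .leaf)) (121470, 0, 18, 6077) (.node (.node .leaf (121471, 0, 16, 63451) .leaf) (121472, 0, 17, 222533) (.node .leaf (121473, 0, 15, 81003) .leaf))) (121476, 0, 12, 257068) (.node (.node (.node .leaf (121477, 0, 18, 213878) .leaf) (121480, 0, 15, 233433) (.node .leaf (121481, 0, 16, 69873) .leaf)) (121484, 0, 18, 117172) (.node (.node .leaf (121485, 0, 16, 240106) .leaf) (121490, 0, 17, 64895) (.node .leaf (121491, 0, 15, 41711) .leaf))))))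

/-- part of the orbit tree -/
def itp3_356 : Tree := (.node (.node (.node (.node (.node (.node .leaf (121495, 0, 15, 187890) .leaf) (121498, 0, 15, 186599) (.node .leaf (121499, 0, 17, 145537) .leaf)) (121502, 0, 14, 188868) (.node (.node .leaf (121503, 0, 17, 131490) .leaf) (121504, 0, 17, 57082) (.node .leaf (121505, 0, 18, 16737) .leaf))) (121508, 0, 16, 59353) (.node (.node (.node .leaf (121509, 0, 16, 147068) .leaf) (121512, 0, 16, 195426) (.node .leaf (121513, 0, 17, 44029) .leaf)) (121516, 0, 13, 36302) (.node (.node .leaf (121517, 0, 17, 185568) .leaf) (121522, 0, 17, 231115) (.node .leaf (121523, 0, 15, 122853) .leaf)))) (121526, 0, 11, 249769) (.node (.node (.node (.node .leaf (121527, 0, 11, 208847) .leaf) (121530, 0, 14, 119570) (.node .leaf (121531, 0, 16, 78708) .leaf)) (121534, 0, 12, 125489) (.node (.node .leaf (121535, 0, 13, 68183) .leaf) (121536, 0, 16, 212431) (.node .leaf (121537, 0, 17, 24559) .leaf))) (121540, 0, 13, 34474) (.node (.node (.node .leaf (121541, 0, 14, 203772) .leaf) (121544, 0, 17, 251731)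 (.node .leaf (121545, 0, 17, 162423) .leaf)) (121548, 0, 18, 172850) (.node (.node .leaf (121549, 0, 17, 148308) .leaf) (121554, 0, 15, 235513) (.node .leaf (121555, 0, 18, 227231) .leaf))))) (121558, 0, 16, 56406) (.node (.node (.node (.node (.node .leaf (121559, 0, 16, 216764) .leaf) (121562, 0, 16, 149975) (.node .leaf (121563, 0, 17, 86535) .leaf)) (121566, 0, 17, 101186) (.node (.node .leaf (121567, 0, 17, 159716) .leaf) (121568, 0, 16, 147653) (.node .leaf (121569, 0, 15, 6635) .leaf))) (121572, 0, 14, 232799) (.node (.node (.node .leaf (121573, 0, 12, 224569) .leaf) (121576, 0, 16, 102884) (.node .leaf (121577, 0, 17, 94594) .leaf)) (121580, 0, 16, 108743) (.node (.node .leaf (121581, 0, 18, 84129) .leaf) (121586, 0, 14, 39948) (.node .leaf (121587, 0, 15, 100207) .leaf)))) (121590, 0, 17, 106844) (.node (.node (.node (.node .leaf (121591, 0, 15, 260210) .leaf) (121594, 0, 17, 210141) (.node .leaf (121595, 0, 18, 154098) .leaf)) (121598, 0, 14, 84928) (.node (.node .leaf (121599, 0, 15, 201454) .leaf) (121602, 0, 14,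 241748) (.node .leaf (121603, 0, 17, 99219) .leaf))) (121606, 0, 15, 231799) (.node (.node (.node .leaf (121607, 0, 15, 223505) .leaf) (121610, 0, 14, 103884) (.node .leaf (121611, 0, 16, 95658) .leaf)) (121614, 0, 16, 85820) (.node (.node .leaf (121615, 0, 15, 85129) .leaf) (121616, 0, 18, 148537) .leaf)))))

/-- part of the orbit tree -/
def itp3_357 : Tree := (.node itp3_353 (121237, 0, 15, 195099) itp3_354)

/-- part of the orbit tree -/
def itp3_358 : Tree := (.node itp3_355 (121494, 0, 15, 50268) itp3_356)

/-- part of the orbit tree -/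
def itp3_359 : Tree := (.node itp3_351 (120852, 0, 12, 208643) itp3_352)

/-- part of the orbit tree -/
def itp3_360 : Tree := (.node itp3_357 (121366, 0, 14, 152406) itp3_358)

/-- part of the orbit tree -/
def itp3_361 : Tree := (.node (.node (.node (.node (.node (.node .leaf (121620, 0, 17, 15140) .leaf) (121621, 0, 17, 156170) (.node .leaf (121624, 0, 15, 175781) .leaf)) (121625, 0, 11, 155098) (.node (.node .leaf (121628, 0, 16, 165023) .leaf) (121629, 0, 12, 166038) (.node .leaf (121634, 0, 15, 48033) .leaf))) (121635, 0, 16, 65177) (.node (.node (.node .leaf (121638, 0, 17, 55466) .leaf) (121639, 0, 14, 25316) (.node .leaf (121642, 0, 17, 150827) .leaf)) (121643, 0, 17, 163423) (.node (.node .leaf (121646, 0, 14, 173850) .leaf) (121647, 0, 15, 149372) (.node .leaf (121648, 0, 17, 211251) .leaf)))) (121649, 0, 19, 226231) (.node (.node (.node (.node .leaf (121652, 0, 13, 83502) .leaf) (121653, 0, 14, 204544) (.node .leaf (121656, 0, 19, 112201) .leaf)) (121657, 0, 18, 87599) (.node (.node .leaf (121660, 0, 14, 102250)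 .leaf) (121661, 0, 16, 259484) (.node .leaf (121666, 0, 18, 229943) .leaf))) (121667, 0, 12, 121625) (.node (.node (.node .leaf (121670, 0, 16, 58353) .leaf) (121671, 0, 17, 919) (.node .leaf (121674, 0, 17, 196426) .leaf)) (121675, 0, 16, 78213) (.node (.node .leaf (121678, 0, 18, 71606) .leaf) (121679, 0, 15, 140815) (.node .leaf (121680, 0, 18, 258722) .leaf))))) (121681, 0, 17, 201412) (.node (.node (.node (.node (.node .leaf (121684, 0, 17, 25518) .leaf) (121685, 0, 16, 146048) (.node .leaf (121688, 0, 15, 120634) .leaf)) (121689, 0, 13, 79708) (.node (.node .leaf (121692, 0, 18, 35122) .leaf) (121693, 0, 13, 69247) (.node .leaf (121698, 0, 15, 250151) .leaf))) (121699, 0, 16, 42515) (.node (.node (.node .leaf (121702, 0, 16, 256004) .leaf) (121703, 0, 13, 198754) (.node .leaf (121706, 0, 16, 136609) .leaf)) (121707, 0, 17, 19599) (.node (.node .leaf (121710, 0, 16, 27324) .leaf) (121711, 0, 17, 144274) (.node .leaf (121712, 0, 15, 221625) .leaf)))) (121713, 0, 17, 6449) (.node (.node (.node (.node .leaf (121716, 0,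 14, 73380) .leaf) (121717, 0, 16, 214922) (.node .leaf (121720, 0, 17, 187599) .leaf)) (121721, 0, 18, 146601) (.node (.node .leaf (121724, 0, 15, 128056) .leaf) (121725, 0, 15, 240918) (.node .leaf (121730, 0, 17, 75614) .leaf))) (121731, 0, 16, 116536) (.node (.node (.node .leaf (121734, 0, 12, 73341) .leaf) (121735, 0, 16, 19687) (.node .leaf (121738, 0, 15, 197318) .leaf)) (121739, 0, 17, 186726) (.node (.node .leaf (121742, 0, 16, 211941) .leaf) (121743, 0, 14, 252803) (.node .leaf (121744, 0, 15, 134958) .leaf))))))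

/-- part of the orbit tree -/
def itp3_362 : Tree := (.node (.node (.node (.node (.node (.node .leaf (121748, 0, 14, 144909) .leaf) (121749, 0, 14, 185963) (.node .leaf (121752, 0, 15, 10934) .leaf)) (121753, 0, 17, 51920) (.node (.node .leaf (121756, 0, 17, 5013) .leaf) (121757, 0, 18, 62451) (.node .leaf (121762, 0, 18, 71646) .leaf))) (121763, 0, 13, 183501) (.node (.node (.node .leaf (121766, 0, 17, 223427) .leaf) (121767, 0, 16, 194030) (.node .leaf (121770, 0, 11, 2355) .leaf)) (121771, 0, 13, 238700) (.node (.node .leaf (121774, 0, 17, 12304) .leaf) (121775, 0, 17, 53366) (.node .leaf (121776, 0, 16, 66779) .leaf)))) (121777, 0, 12, 184436) (.node (.node (.node (.node .leaf (121780, 0, 15, 81400) .leaf) (121781, 0, 17, 122270) (.node .leaf (121784, 0, 16, 25542) .leaf)) (121785, 0, 14, 146152) (.node (.node .leaf (121788, 0, 17, 202848) .leaf) (121789, 0, 17, 260102) (.node .leaf (121794, 0, 14, 12894) .leaf))) (121795, 0, 15, 158576) (.node (.node (.node .leaf (121798, 0, 13, 161019) .leaf) (121799, 0, 16, 169117)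 (.node .leaf (121802, 0, 16, 26688) .leaf)) (121803, 0, 16, 164332) (.node (.node .leaf (121806, 0, 17, 20835) .leaf) (121807, 0, 17, 45317) (.node .leaf (121808, 0, 18, 91560) .leaf))))) (121809, 0, 16, 99790) (.node (.node (.node (.node (.node .leaf (121812, 0, 16, 89227) .leaf) (121813, 0, 17, 101097) (.node .leaf (121816, 0, 16, 83526) .leaf)) (121817, 0, 13, 237654) (.node (.node .leaf (121820, 0, 17, 227603) .leaf) (121821, 0, 15, 90229) (.node .leaf (121826, 0, 14, 85844) .leaf))) (121827, 0, 18, 202362) (.node (.node (.node .leaf (121830, 0, 14, 98062) .leaf) (121831, 0, 16, 106344) (.node .leaf (121834, 0, 18, 107976) .leaf)) (121835, 0, 17, 261350) (.node (.node .leaf (121838, 0, 18, 252629) .leaf) (121839, 0, 18, 99323) (.node .leaf (121840, 0, 17, 53712) .leaf)))) (121841, 0, 17, 166142) (.node (.node (.node (.node .leaf (121844, 0, 16, 153470) .leaf) (121845, 0, 17, 63459) (.node .leaf (121848, 0, 17, 19397) .leaf)) (121849, 0, 16, 156258) (.node (.node .leaf (121852, 0, 18, 29414) .leaf) (121853, 0, 17, 7551)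 (.node .leaf (121856, 0, 14, 29917) .leaf))) (121858, 0, 16, 75000) (.node (.node (.node .leaf (121860, 0, 17, 19966) .leaf) (121862, 0, 19, 150171) (.node .leaf (121864, 0, 17, 151877) .leaf)) (121866, 0, 18, 57114) (.node (.node .leaf (121868, 0, 18, 84085) .leaf) (121870, 0, 17, 211011) (.node .leaf (121873, 0, 17, 191726) .leaf))))))

/-- part of the orbit tree -/
def itp3_363 : Tree := (.node (.node (.node (.node (.node (.node .leaf (121877, 0, 16, 101681) .leaf) (121879, 0, 16, 230888) (.node .leaf (121881, 0, 18, 202928) .leaf)) (121883, 0, 16, 61634) (.node (.node .leaf (121885, 0, 13, 61525) .leaf) (121887, 0, 15, 167903) (.node .leaf (121888, 0, 15, 229160) .leaf))) (121890, 0, 15, 143117) (.node (.node (.node .leaf (121892, 0, 17, 214539) .leaf) (121894, 0, 15, 210833) (.node .leaf (121896, 0, 16, 150114) .leaf)) (121898, 0, 13, 107024) (.node (.node .leaf (121900, 0, 13, 13695) .leaf) (121902, 0, 13, 13238) (.node .leaf (121905, 0, 19, 167718) .leaf)))) (121907, 0, 17, 91988) (.node (.node (.node (.node .leaf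 (121909, 0, 18, 61499) .leaf) (121911, 0, 10, 202825) (.node .leaf (121913, 0, 13, 246403) .leaf)) (121915, 0, 18, 168614) (.node (.node .leaf (121917, 0, 15, 261024) .leaf) (121919, 0, 16, 258773) (.node .leaf (121920, 0, 17, 204379) .leaf))) (121922, 0, 14, 151166) (.node (.node (.node .leaf (121924, 0, 12, 129635) .leaf) (121926, 0, 15, 135697) (.node .leaf (121928, 0, 15, 225250) .leaf)) (121930, 0, 17, 34704) (.node (.node .leaf (121932, 0, 16, 69887) .leaf) (121934, 0, 15, 21189) (.node .leaf (121937, 0, 13, 99944) .leaf))))) (121939, 0, 14, 54861) (.node (.node (.node (.node (.node .leaf (121941, 0, 17, 114507) .leaf) (121943, 0, 19, 146889) (.node .leaf (121945, 0, 18, 238576) .leaf)) (121947, 0, 15, 193493) (.node (.node .leaf (121949, 0, 15, 236243) .leaf) (121951, 0, 17, 183030) (.node .leaf (121952, 0, 14, 5550) .leaf))) (121954, 0, 16, 83339) (.node (.node (.node .leaf (121956, 0, 19, 11405) .leaf) (121958, 0, 18, 97448) (.node .leaf (121960, 0, 18, 135912) .leaf)) (121962, 0, 15, 129690) (.node (.node .leaf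 (121964, 0, 15, 28149) .leaf) (121966, 0, 14, 219440) (.node .leaf (121969, 0, 16, 186284) .leaf)))) (121971, 0, 11, 81886) (.node (.node (.node (.node .leaf (121973, 0, 16, 177342) .leaf) (121975, 0, 11, 213187) (.node .leaf (121977, 0, 10, 43013) .leaf)) (121979, 0, 17, 120130) (.node (.node .leaf (121981, 0, 18, 16941) .leaf) (121983, 0, 17, 114947) (.node .leaf (121984, 0, 17, 28061) .leaf))) (121986, 0, 18, 230895) (.node (.node (.node .leaf (121988, 0, 15, 135808) .leaf) (121990, 0, 17, 129778) (.node .leaf (121992, 0, 18, 50767) .leaf)) (121994, 0, 16, 104042) (.node (.node .leaf (121996, 0, 17, 65388) .leaf) (121998, 0, 14, 69742) (.node .leaf (122001, 0, 18, 16965) .leaf))))))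

/-- part of the orbit tree -/
def itp3_364 : Tree := (.node (.node (.node (.node (.node (.node .leaf (122005, 0, 14, 146776) .leaf) (122007, 0, 17, 120106) (.node .leaf (122009, 0, 16, 43225) .leaf)) (122011, 0, 15, 213163) (.node (.node .leaf (122013, 0, 16, 186308) .leaf) (122015, 0, 16, 210810) (.node .leaf (122016, 0, 8, 69783) .leaf))) (122018, 0, 17, 194789) (.node (.node (.node .leaf (122020, 0, 14, 119041) .leaf) (122022, 0, 18, 33060) (.node .leaf (122024, 0, 17, 129547) .leaf)) (122026, 0, 16, 135801) (.node (.node .leaf (122028, 0, 15, 259225) .leaf) (122030, 0, 14, 28004) (.node .leaf (122033, 0, 16, 81743) .leaf)))) (122035, 0, 17, 139316) (.node (.node (.node (.node .leaf (122037, 0, 13, 215346) .leaf) (122039, 0, 15, 137495) (.node .leaf (122041, 0, 16, 87433) .leaf)) (122043, 0, 14, 1452) (.node (.node .leaf (122045, 0, 14, 93354) .leaf) (122047, 0, 17, 15503) (.node .leaf (122048, 0, 12, 100689) .leaf))) (122050, 0, 16, 55668) (.node (.node (.node .leaf (122052, 0, 17, 150026) .leaf) (122054, 0, 14, 57431)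 (.node .leaf (122056, 0, 15, 240841) .leaf)) (122058, 0, 17, 210937) (.node (.node .leaf (122060, 0, 14, 172182) .leaf) (122062, 0, 17, 84196) (.node .leaf (122065, 0, 18, 201058) .leaf))))) (122067, 0, 18, 258749) (.node (.node (.node (.node (.node .leaf (122069, 0, 17, 206913) .leaf) (122071, 0, 16, 161892) (.node .leaf (122073, 0, 15, 61523) .leaf)) (122075, 0, 17, 25823) (.node (.node .leaf (122077, 0, 16, 69081) .leaf) (122079, 0, 17, 24060) (.node .leaf (122080, 0, 18, 164516) .leaf))) (122082, 0, 18, 250497) (.node (.node (.node .leaf (122084, 0, 10, 210688) .leaf) (122086, 0, 16, 256930) (.node .leaf (122088, 0, 16, 42812) .leaf)) (122090, 0, 15, 128793) (.node (.node .leaf (122092, 0, 12, 253340) .leaf) (122094, 0, 16, 118330) (.node .leaf (122097, 0, 15, 92101) .leaf)))) (122099, 0, 18, 167863) (.node (.node (.node (.node .leaf (122101, 0, 16, 9140) .leaf) (122103, 0, 14, 95121) (.node .leaf (122105, 0, 14, 101721) .leaf)) (122107, 0, 15, 156971) (.node (.node .leaf (122109, 0, 17, 258628) .leaf) (122111, 0, 14,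 218633) (.node .leaf (122113, 0, 14, 210639) .leaf))) (122115, 0, 18, 157418) (.node (.node (.node .leaf (122117, 0, 15, 200684) .leaf) (122119, 0, 14, 62550) (.node .leaf (122121, 0, 16, 100773) .leaf)) (122123, 0, 12, 17266) (.node (.node .leaf (122125, 0, 16, 259768) .leaf) (122127, 0, 16, 7882) (.node .leaf (122128, 0, 18, 85217) .leaf))))))

/-- part of the orbit tree -/
def itp3_365 : Tree := (.node itp3_361 (121745, 0, 15, 241022) itp3_362)

/-- part of the orbit tree -/
def itp3_366 : Tree := (.node itp3_363 (122003, 0, 16, 240183) itp3_364)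

/-- part of the orbit tree -/
def itp3_367 : Tree := (.node (.node (.node (.node (.node (.node .leaf (122132, 0, 18, 104415) .leaf) (122134, 0, 16, 51194) (.node .leaf (122136, 0, 16, 232292) .leaf)) (122138, 0, 18, 151055) (.node (.node .leaf (122140, 0, 16, 242247) .leaf) (122142, 0, 15, 12562) (.node .leaf (122145, 0, 17, 15674) .leaf))) (122147, 0, 16, 259649) (.node (.node (.node .leaf (122149, 0, 16, 1049) .leaf) (122151, 0, 16, 100700) (.node .leaf (122153, 0, 13, 137378) .leaf)) (122155, 0, 14, 215175) (.node (.node .leaf (122157, 0, 17, 139649) .leaf) (122159, 0, 18, 91072) (.node .leaf (122160, 0, 14, 12779) .leaf)))) (122162, 0, 15, 252313) (.node (.node (.node (.node .leaf (122164, 0, 17, 171050) .leaf) (122166, 0, 13, 248847) (.node .leaf (122168, 0, 16, 56183) .leaf)) (122170, 0, 17, 209669) (.node (.node .leaf (122172, 0, 15, 173162) .leaf) (122174, 0, 17, 85016) (.node .leaf (122177, 0, 17, 23625) .leaf))) (122179, 0, 16, 68716) (.node (.node (.node .leaf (122181, 0, 14, 25962) .leaf) (122183, 0, 15, 44252)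 (.node .leaf (122185, 0, 17, 162257) .leaf)) (122187, 0, 18, 145757) (.node (.node .leaf (122189, 0, 17, 241202) .leaf) (122191, 0, 18, 200919) (.node .leaf (122192, 0, 16, 181370) .leaf))))) (122194, 0, 16, 195609) (.node (.node (.node (.node (.node .leaf (122196, 0, 17, 224118) .leaf) (122198, 0, 17, 241020) (.node .leaf (122200, 0, 17, 130807) .leaf)) (122202, 0, 13, 111047) (.node (.node .leaf (122204, 0, 14, 229866) .leaf) (122206, 0, 16, 100580) (.node .leaf (122209, 0, 12, 18105) .leaf))) (122211, 0, 15, 241355) (.node (.node (.node .leaf (122213, 0, 11, 224927) .leaf) (122215, 0, 17, 119254) (.node .leaf (122217, 0, 15, 44069) .leaf)) (122219, 0, 16, 214103) (.node (.node .leaf (122221, 0, 16, 185144) .leaf) (122223, 0, 17, 80714) (.node .leaf (122224, 0, 16, 26977) .leaf)))) (122226, 0, 13, 229651) (.node (.node (.node (.node .leaf (122228, 0, 16, 136828) .leaf) (122230, 0, 14, 42633) (.node .leaf (122232, 0, 17, 33789) .leaf)) (122234, 0, 17, 224143) (.node (.node .leaf (122236, 0, 15, 195808) .leaf) (122238, 0,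 16, 70802) (.node .leaf (122241, 0, 13, 106949) .leaf))) (122243, 0, 13, 61920) (.node (.node (.node .leaf (122245, 0, 17, 104678) .leaf) (122247, 0, 17, 214079) (.node .leaf (122249, 0, 14, 230493) .leaf)) (122251, 0, 15, 119230) (.node (.node .leaf (122253, 0, 17, 18129) .leaf) (122255, 0, 16, 191835) (.node .leaf (122256, 0, 12, 195720) .leaf))))))

/-- part of the orbit tree -/
def itp3_368 : Tree := (.node (.node (.node (.node (.node (.node .leaf (122260, 0, 16, 33685) .leaf) (122262, 0, 17, 151792) (.node .leaf (122264, 0, 12, 72814) .leaf)) (122266, 0, 17, 130662) (.node (.node .leaf (122268, 0, 15, 26889) .leaf) (122270, 0, 16, 229755) (.node .leaf (122273, 0, 14, 241242) .leaf))) (122275, 0, 16, 260629) (.node (.node (.node .leaf (122277, 0, 15, 168723) .leaf) (122279, 0, 16, 246582) (.node .leaf (122281, 0, 17, 36776) .leaf)) (122283, 0, 14, 122765) (.node (.node .leaf (122285, 0, 17, 46731) .leaf) (122287, 0, 17, 185257) (.node .leaf (122288, 0, 18, 229762) .leaf)))) (122290, 0, 17, 27120) (.node (.node (.node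 (.node .leaf (122292, 0, 17, 2848) .leaf) (122294, 0, 16, 136941) (.node .leaf (122296, 0, 14, 137115) .leaf)) (122298, 0, 17, 214974) (.node (.node .leaf (122300, 0, 18, 70659) .leaf) (122302, 0, 17, 195697) (.node .leaf (122305, 0, 13, 183107) .leaf))) (122307, 0, 17, 91048) (.node (.node (.node .leaf (122309, 0, 17, 193120) .leaf) (122311, 0, 14, 238149) (.node .leaf (122313, 0, 10, 155974) .leaf)) (122315, 0, 14, 114430) (.node (.node .leaf (122317, 0, 16, 55288) .leaf) (122319, 0, 14, 259625) (.node .leaf (122320, 0, 15, 21360) .leaf))))) (122322, 0, 18, 66389) (.node (.node (.node (.node (.node .leaf (122324, 0, 15, 27219) .leaf) (122326, 0, 13, 80502) (.node .leaf (122328, 0, 14, 151198) .leaf)) (122330, 0, 15, 206541) (.node (.node .leaf (122332, 0, 16, 12675) .leaf) (122334, 0, 14, 252401) (.node .leaf (122337, 0, 16, 259792) .leaf))) (122339, 0, 13, 37011) (.node (.node (.node .leaf (122341, 0, 18, 129429) .leaf) (122343, 0, 19, 43440) (.node .leaf (122345, 0, 10, 255278) .leaf)) (122347, 0, 14, 177419) (.node (.node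 .leaf (122349, 0, 15, 252941) .leaf) (122351, 0, 16, 166691) (.node .leaf (122352, 0, 13, 219269) .leaf)))) (122354, 0, 18, 12666) (.node (.node (.node (.node .leaf (122356, 0, 16, 108053) .leaf) (122358, 0, 16, 143747) (.node .leaf (122360, 0, 16, 97565) .leaf)) (122362, 0, 15, 11576) (.node (.node .leaf (122364, 0, 15, 85129) .leaf) (122366, 0, 18, 5147) (.node .leaf (122384, 0, 17, 110126) .leaf))) (122385, 0, 17, 259840) (.node (.node (.node .leaf (122386, 0, 16, 149084) .leaf) (122387, 0, 17, 233659) (.node .leaf (122388, 0, 15, 250163) .leaf)) (122389, 0, 14, 195005) (.node (.node .leaf (122390, 0, 13, 215550) .leaf) (122391, 0, 17, 240024) (.node .leaf (122392, 0, 14, 83122) .leaf))))))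

/-- part of the orbit tree -/
def itp3_369 : Tree := (.node (.node (.node (.node (.node (.node .leaf (122394, 0, 16, 175296) .leaf) (122395, 0, 17, 62958) (.node .leaf (122396, 0, 11, 211887) .leaf)) (122397, 0, 13, 90753) (.node (.node .leaf (122398, 0, 17, 93286) .leaf) (122399, 0, 16, 101376) (.node .leaf (122416, 0, 17, 76557) .leaf))) (122417, 0, 16, 166410) (.node (.node (.node .leaf (122418, 0, 15, 211798) .leaf) (122419, 0, 15, 90744) (.node .leaf (122420, 0, 13, 175161) .leaf)) (122421, 0, 15, 127560) (.node (.node .leaf (122422, 0, 15, 16907) .leaf) (122423, 0, 17, 204133) (.node .leaf (122424, 0, 18, 14776) .leaf)))) (122425, 0, 17, 257779) (.node (.node (.node (.node .leaf (122426, 0, 16, 155312) .leaf) (122427, 0, 14, 179926) (.node .leaf (122428, 0, 17, 210870) .leaf)) (122429, 0, 14, 8075) (.node (.node .leaf (122430, 0, 14, 157587) .leaf) (122431, 0, 15, 260089) (.node .leaf (122448, 0, 13, 128676) .leaf))) (122449, 0, 15, 241546) (.node (.node (.node .leaf (122450, 0, 17, 6747) .leaf) (122451, 0, 13, 64061)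 (.node .leaf (122452, 0, 14, 231865) .leaf)) (122453, 0, 16, 103227) (.node (.node .leaf (122454, 0, 13, 25035) .leaf) (122455, 0, 17, 145637) (.node .leaf (122456, 0, 16, 225254) .leaf))))) (122457, 0, 11, 214294) (.node (.node (.node (.node (.node .leaf (122458, 0, 17, 193610) .leaf) (122459, 0, 13, 188325) (.node .leaf (122460, 0, 16, 218821) .leaf)) (122461, 0, 17, 80395) (.node (.node .leaf (122462, 0, 15, 132832) .leaf) (122463, 0, 14, 184953) (.node .leaf (122480, 0, 16, 35758) .leaf))) (122481, 0, 15, 172525) (.node (.node (.node .leaf (122482, 0, 18, 201134) .leaf) (122483, 0, 15, 80626) (.node .leaf (122484, 0, 13, 193715) .leaf)) (122485, 0, 13, 44445) (.node (.node .leaf (122486, 0, 16, 206989) .leaf) (122487, 0, 11, 248043) (.node .leaf (122488, 0, 15, 25619) .leaf)))) (122489, 0, 14, 145436) (.node (.node (.node (.node .leaf (122490, 0, 17, 231744) .leaf) (122491, 0, 14, 118894) (.node .leaf (122492, 0, 16, 23856) .leaf)) (122493, 0, 16, 48470) (.node (.node .leaf (122494, 0, 15, 68885) .leaf) (122495, 0, 19,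 126323) (.node .leaf (122512, 0, 16, 138823) .leaf))) (122513, 0, 15, 18281) (.node (.node (.node .leaf (122514, 0, 15, 124887) .leaf) (122515, 0, 16, 67505) (.node .leaf (122516, 0, 17, 36561) .leaf)) (122517, 0, 14, 28343) (.node (.node .leaf (122518, 0, 14, 231720) .leaf) (122519, 0, 18, 118790) (.node .leaf (122520, 0, 15, 168554) .leaf))))))

/-- part of the orbit tree -/
def itp3_370 : Tree := (.node (.node (.node (.node (.node (.node .leaf (122522, 0, 16, 72873) .leaf) (122523, 0, 15, 214407) (.node .leaf (122524, 0, 18, 35782) .leaf)) (122525, 0, 16, 185064) (.node (.node .leaf (122526, 0, 18, 222132) .leaf) (122527, 0, 15, 203530) (.node .leaf (122544, 0, 17, 244743) .leaf))) (122545, 0, 16, 80483) (.node (.node (.node .leaf (122546, 0, 15, 35647) .leaf) (122547, 0, 13, 134212) (.node .leaf (122548, 0, 14, 72784) .leaf)) (122549, 0, 18, 222530) (.node (.node .leaf (122550, 0, 16, 185601) .leaf) (122551, 0, 17, 144743) (.node .leaf (122552, 0, 16, 231889) .leaf)))) (122553, 0, 13, 96761) (.node (.node (.node (.node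 .leaf (122554, 0, 16, 24995) .leaf) (122555, 0, 16, 145549) (.node .leaf (122556, 0, 16, 128716) .leaf)) (122557, 0, 17, 241634) (.node (.node .leaf (122558, 0, 15, 61593) .leaf) (122559, 0, 13, 4351) (.node .leaf (122576, 0, 17, 253300) .leaf))) (122577, 0, 18, 212242) (.node (.node (.node .leaf (122578, 0, 17, 167249) .leaf) (122579, 0, 13, 259985) (.node .leaf (122580, 0, 12, 255063) .leaf)) (122581, 0, 12, 197681) (.node (.node .leaf (122582, 0, 14, 250274) .leaf) (122583, 0, 17, 100492) (.node .leaf (122584, 0, 16, 175185) .leaf))))) (122585, 0, 16, 62847) (.node (.node (.node (.node (.node .leaf (122586, 0, 15, 43209) .leaf) (122587, 0, 17, 18607) (.node .leaf (122588, 0, 17, 54092) .leaf)) (122589, 0, 18, 74153) (.node (.node .leaf (122590, 0, 17, 37354) .leaf) (122591, 0, 11, 29068) (.node .leaf (122608, 0, 16, 54913) .leaf))) (122609, 0, 17, 90857) (.node (.node (.node .leaf (122610, 0, 16, 54197) .leaf) (122611, 0, 12, 166555) (.node .leaf (122612, 0, 15, 83162) .leaf)) (122613, 0, 18, 4036) (.node (.node .leaf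 (122614, 0, 15, 175272) .leaf) (122615, 0, 14, 90081) (.node .leaf (122616, 0, 18, 250203) .leaf)))) (122617, 0, 17, 136063) (.node (.node (.node (.node .leaf (122618, 0, 13, 238396) .leaf) (122619, 0, 17, 213850) (.node .leaf (122620, 0, 15, 182842) .leaf)) (122621, 0, 17, 259944) (.node (.node .leaf (122622, 0, 7, 236063) .leaf) (122623, 0, 18, 227961) (.node .leaf (122624, 0, 10, 212795) .leaf))) (122625, 0, 17, 91669) (.node (.node (.node .leaf (122626, 0, 16, 55113) .leaf) (122627, 0, 18, 167527) (.node .leaf (122628, 0, 13, 246778) .leaf)) (122629, 0, 16, 205724) (.node (.node .leaf (122630, 0, 17, 168927) .leaf) (122631, 0, 17, 61818) .leaf)))))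

/-- part of the orbit tree -/
def itp3_371 : Tree := (.node itp3_367 (122258, 0, 16, 158163) itp3_368)

/-- part of the orbit tree -/
def itp3_372 : Tree := (.node itp3_369 (122521, 0, 16, 44533) itp3_370)

/-- part of the orbit tree -/
def itp3_373 : Tree := (.node itp3_365 (121875, 0, 16, 244939) itp3_366)

/-- part of the orbit tree -/
def itp3_374 : Tree := (.node itp3_371 (122393, 0, 16, 204188) itp3_372)

/-- part of the orbit tree -/
def itp3_375 : Tree := (.node itp3_359 (121109, 0, 16, 157478) itp3_360)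

/-- part of the orbit tree -/
def itp3_376 : Tree := (.node itp3_373 (122130, 0, 16, 173203) itp3_374)

/-- part of the orbit tree -/
def itp3_377 : Tree := (.node itp3_345 (119573, 0, 12, 147325) itp3_346)

/-- part of the orbit tree -/
def itp3_378 : Tree := (.node itp3_375 (121617, 0, 14, 7447) itp3_376)

/-- part of the orbit tree -/
def itp3_379 : Tree := (.node itp3_315 (116506, 0, 16, 253033) itp3_316)

/-- part of the orbit tree -/
def itp3_380 : Tree := (.node itp3_377 (120594, 0, 16, 175285) itp3_378)

/-- part of the orbit tree -/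
def itp3_381 : Tree := (.node (.node (.node (.node (.node (.node .leaf (122633, 0, 16, 81703) .leaf) (122634, 0, 18, 15829) (.node .leaf (122635, 0, 17, 28418) .leaf)) (122636, 0, 16, 109242) (.node (.node .leaf (122637, 0, 15, 258964) .leaf) (122638, 0, 14, 148168) (.node .leaf (122639, 0, 12, 7142) .leaf))) (122656, 0, 16, 61740) (.node (.node (.node .leaf (122657, 0, 16, 6943) .leaf) (122658, 0, 16, 106761) (.node .leaf (122659, 0, 14, 82287) .leaf)) (122660, 0, 17, 51215) (.node (.node .leaf (122661, 0, 16, 156674) .leaf) (122662, 0, 19, 251230) (.node .leaf (122663, 0, 18, 101488) .leaf)))) (122664, 0, 15, 174253) (.node (.node (.node (.node .leaf (122665, 0, 15, 61827) .leaf) (122666, 0, 15, 230545) (.node .leaf (122667, 0, 17, 222455) .leaf)) (122668, 0, 12, 191895) (.node (.node .leaf (122669, 0, 9, 167582) .leaf) (122670, 0, 17, 212930) (.node .leaf (122671, 0, 17, 91884) .leaf))) (122688, 0, 16, 223153) (.node (.node (.node .leaf (122689, 0, 16, 28729) .leaf) (122690, 0, 16, 114810) (.node .leaf (122691, 0, 16,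 186093) .leaf)) (122692, 0, 15, 43388) (.node (.node .leaf (122693, 0, 14, 213378) .leaf) (122694, 0, 15, 192734) (.node .leaf (122695, 0, 17, 43504) .leaf))))) (122696, 0, 18, 232749) (.node (.node (.node (.node (.node .leaf (122697, 0, 18, 119811) .leaf) (122698, 0, 17, 255458) (.node .leaf (122699, 0, 17, 146545) .leaf)) (122700, 0, 17, 127536) (.node (.node .leaf (122701, 0, 17, 158850) .leaf) (122702, 0, 15, 137794) (.node .leaf (122703, 0, 17, 212135) .leaf))) (122720, 0, 17, 236458) (.node (.node (.node .leaf (122721, 0, 17, 228300) .leaf) (122722, 0, 15, 183183) (.node .leaf (122723, 0, 17, 240615) .leaf)) (122724, 0, 15, 26022) (.node (.node .leaf (122725, 0, 15, 213743) .leaf) (122726, 0, 14, 232916) (.node .leaf (122727, 0, 17, 135882) .leaf)))) (122728, 0, 17, 114226) (.node (.node (.node (.node .leaf (122729, 0, 13, 43273) .leaf) (122730, 0, 15, 71765) (.node .leaf (122731, 0, 16, 3697) .leaf)) (122732, 0, 11, 36666) (.node (.node .leaf (122733, 0, 15, 185876) .leaf) (122734, 0, 16, 55092) (.node .leaf (122735,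 0, 15, 81510) .leaf))) (122752, 0, 16, 36690) (.node (.node (.node .leaf (122753, 0, 15, 101813) .leaf) (122754, 0, 18, 15862) (.node .leaf (122755, 0, 13, 81422) .leaf)) (122756, 0, 17, 192591) (.node (.node .leaf (122757, 0, 13, 43361) .leaf) (122758, 0, 17, 1237) (.node .leaf (122759, 0, 17, 213267) .leaf))))))

/-- part of the orbit tree -/
def itp3_382 : Tree := (.node (.node (.node (.node (.node (.node .leaf (122761, 0, 18, 239661) .leaf) (122762, 0, 16, 232892) (.node .leaf (122763, 0, 16, 119954) .leaf)) (122764, 0, 15, 225640) (.node (.node .leaf (122765, 0, 13, 17405) .leaf) (122766, 0, 16, 127649) (.node .leaf (122767, 0, 16, 180523) .leaf))) (122784, 0, 13, 157222) (.node (.node (.node .leaf (122785, 0, 16, 165440) .leaf) (122786, 0, 16, 137770) (.node .leaf (122787, 0, 16, 17156) .leaf)) (122788, 0, 18, 155397) (.node (.node .leaf (122789, 0, 18, 180067) .leaf) (122790, 0, 16, 200480) (.node .leaf (122791, 0, 18, 257862) .leaf)))) (122792, 0, 16, 71876) (.node (.node (.node (.node .leaf (122793, 0, 15, 213482)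 .leaf) (122794, 0, 16, 192694) (.node .leaf (122795, 0, 14, 127997) .leaf)) (122796, 0, 16, 223193) (.node (.node .leaf (122797, 0, 17, 39675) .leaf) (122798, 0, 16, 76472) (.node .leaf (122799, 0, 19, 117470) .leaf))) (122816, 0, 13, 132949) (.node (.node (.node .leaf (122817, 0, 14, 190259) .leaf) (122818, 0, 17, 218992) (.node .leaf (122819, 0, 18, 91780) .leaf)) (122820, 0, 17, 174277) (.node (.node .leaf (122821, 0, 9, 187920) .leaf) (122822, 0, 16, 224851) (.node .leaf (122823, 0, 18, 233013) .leaf))))) (122824, 0, 14, 8909) (.node (.node (.node (.node (.node .leaf (122825, 0, 13, 156778) .leaf) (122826, 0, 15, 94952) (.node .leaf (122827, 0, 17, 103054) .leaf)) (122828, 0, 12, 148057) (.node (.node .leaf (122829, 0, 18, 64392) .leaf) (122830, 0, 17, 84939) (.node .leaf (122831, 0, 11, 258821) .leaf))) (122848, 0, 17, 68768) (.node (.node (.node .leaf (122849, 0, 17, 126150) .leaf) (122850, 0, 15, 23685) (.node .leaf (122851, 0, 17, 7054) .leaf)) (122852, 0, 17, 79235) (.node (.node .leaf (122853, 0, 14, 101601) .leaf)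 (122854, 0, 15, 26022) (.node .leaf (122855, 0, 15, 34240) .leaf)))) (122856, 0, 18, 81998) (.node (.node (.node (.node .leaf (122857, 0, 16, 248158) .leaf) (122858, 0, 11, 174140) (.node .leaf (122859, 0, 19, 170363) .leaf)) (122860, 0, 15, 200731) (.node (.node .leaf (122861, 0, 15, 91773) .leaf) (122862, 0, 13, 147518) (.node .leaf (122863, 0, 17, 172120) .leaf))) (122880, 0, 17, 54855) (.node (.node (.node .leaf (122883, 0, 15, 224557) .leaf) (122885, 0, 14, 3842) (.node .leaf (122886, 0, 14, 215838) .leaf)) (122889, 0, 14, 136121) (.node (.node .leaf (122890, 0, 14, 238586) .leaf) (122892, 0, 18, 183036) (.node .leaf (122895, 0, 17, 129196) .leaf))))))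

/-- part of the orbit tree -/
def itp3_383 : Tree := (.node (.node (.node (.node (.node (.node .leaf (122899, 0, 14, 72667) .leaf) (122901, 0, 16, 161623) (.node .leaf (122902, 0, 14, 247572) .leaf)) (122905, 0, 14, 27628) (.node (.node .leaf (122906, 0, 15, 239721) .leaf) (122908, 0, 15, 45737) (.node .leaf (122911, 0, 16, 233050) .leaf))) (122912, 0, 14, 237947) (.node (.node (.node .leaf (122915, 0, 15, 135207) .leaf) (122917, 0, 17, 231240) (.node .leaf (122918, 0, 16, 177332) .leaf)) (122921, 0, 17, 71756) (.node (.node .leaf (122922, 0, 14, 41877) .leaf) (122924, 0, 15, 79098) (.node .leaf (122927, 0, 17, 29002) .leaf)))) (122928, 0, 16, 108007) (.node (.node (.node (.node .leaf (122931, 0, 15, 26321) .leaf) (122933, 0, 11, 127422) (.node .leaf (122934, 0, 17, 52449) .leaf)) (122937, 0, 14, 221209) (.node (.node .leaf (122938, 0, 18, 185699) .leaf) (122940, 0, 15, 244060) (.node .leaf (122943, 0, 15, 133407) .leaf))) (122944, 0, 16, 244929) (.node (.node (.node .leaf (122947, 0, 16, 134274) .leaf) (122949, 0, 17, 172744)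 (.node .leaf (122950, 0, 10, 185799) .leaf)) (122953, 0, 17, 96575) (.node (.node .leaf (122954, 0, 15, 99861) .leaf) (122956, 0, 18, 106618) (.node .leaf (122959, 0, 17, 106534) .leaf))))) (122960, 0, 18, 115860) (.node (.node (.node (.node (.node .leaf (122963, 0, 12, 82769) .leaf) (122965, 0, 14, 54334) (.node .leaf (122966, 0, 18, 91490) .leaf)) (122969, 0, 13, 147903) (.node (.node .leaf (122970, 0, 17, 258275) .leaf) (122972, 0, 15, 157580) (.node .leaf (122975, 0, 15, 157804) .leaf))) (122976, 0, 15, 46900) (.node (.node (.node .leaf (122979, 0, 14, 67447) .leaf) (122981, 0, 16, 253890) (.node .leaf (122982, 0, 16, 122418) .leaf)) (122985, 0, 12, 84547) (.node (.node .leaf (122986, 0, 13, 246409) .leaf) (122988, 0, 17, 174991) (.node .leaf (122991, 0, 17, 56620) .leaf)))) (122992, 0, 17, 102151) (.node (.node (.node (.node .leaf (122995, 0, 15, 229154) .leaf) (122997, 0, 12, 108852) (.node .leaf (122998, 0, 16, 6248) .leaf)) (123001, 0, 16, 2719) (.node (.node .leaf (123002, 0, 14, 113372) .leaf) (123004, 0, 16, 203398)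 (.node .leaf (123007, 0, 18, 175066) .leaf))) (123008, 0, 15, 147789) (.node (.node (.node .leaf (123011, 0, 16, 56644) .leaf) (123013, 0, 17, 169992) (.node .leaf (123014, 0, 13, 206923) .leaf)) (123017, 0, 16, 253866) (.node (.node .leaf (123018, 0, 19, 159478) .leaf) (123020, 0, 16, 24054) (.node .leaf (123023, 0, 16, 149701) .leaf))))))

/-- part of the orbit tree -/
def itp3_384 : Tree := (.node (.node (.node (.node (.node (.node .leaf (123027, 0, 16, 100699) .leaf) (123029, 0, 17, 57437) (.node .leaf (123030, 0, 19, 86046) .leaf)) (123033, 0, 16, 108892) (.node (.node .leaf (123034, 0, 15, 216229) .leaf) (123036, 0, 16, 102255) (.node .leaf (123039, 0, 16, 15923) .leaf))) (123040, 0, 18, 84664) (.node (.node (.node .leaf (123043, 0, 18, 106574) .leaf) (123045, 0, 15, 103421) (.node .leaf (123046, 0, 17, 99965) .leaf)) (123049, 0, 16, 172704) (.node (.node .leaf (123050, 0, 18, 147205) .leaf) (123052, 0, 17, 165011) (.node .leaf (123055, 0, 15, 190016) .leaf)))) (123056, 0, 12, 157668) (.node (.node (.node (.node .leaf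 (123059, 0, 15, 251576) .leaf) (123061, 0, 15, 256936) (.node .leaf (123062, 0, 17, 154603) .leaf)) (123065, 0, 13, 54358) (.node (.node .leaf (123066, 0, 15, 18256) .leaf) (123068, 0, 17, 62053) (.node .leaf (123071, 0, 17, 82745) .leaf))) (123072, 0, 15, 76747) (.node (.node (.node .leaf (123075, 0, 16, 34254) .leaf) (123077, 0, 18, 127630) (.node .leaf (123078, 0, 16, 41981) .leaf)) (123081, 0, 17, 231200) (.node (.node .leaf (123082, 0, 14, 145020) .leaf) (123084, 0, 16, 237843) (.node .leaf (123087, 0, 19, 165683) .leaf))))) (123088, 0, 13, 213604) (.node (.node (.node (.node (.node .leaf (123091, 0, 16, 193336) .leaf) (123093, 0, 18, 232155) (.node .leaf (123094, 0, 16, 185611) .leaf)) (123097, 0, 15, 104032) (.node (.node .leaf (123098, 0, 17, 9763) .leaf) (123100, 0, 16, 120805) (.node .leaf (123103, 0, 16, 26297) .leaf))) (123104, 0, 15, 18840) (.node (.node (.node .leaf (123107, 0, 17, 129220) .leaf) (123109, 0, 15, 28587) (.node .leaf (123110, 0, 15, 122615) .leaf)) (123113, 0, 12, 195114) (.node (.node .leaf (123114,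 0, 13, 87427) .leaf) (123116, 0, 18, 187417) (.node .leaf (123119, 0, 15, 224581) .leaf)))) (123120, 0, 16, 22635) (.node (.node (.node (.node .leaf (123123, 0, 17, 233010) .leaf) (123125, 0, 17, 137565) (.node .leaf (123126, 0, 17, 78189) .leaf)) (123129, 0, 18, 36060) (.node (.node .leaf (123130, 0, 15, 81280) .leaf) (123132, 0, 17, 43759) (.node .leaf (123135, 0, 14, 259219) .leaf))) (123137, 0, 15, 25276) (.node (.node (.node .leaf (123138, 0, 14, 140310) .leaf) (123140, 0, 17, 216336) (.node .leaf (123143, 0, 17, 195923) .leaf)) (123144, 0, 13, 86443) (.node (.node .leaf (123147, 0, 15, 57832) .leaf) (123149, 0, 17, 194365) (.node .leaf (123150, 0, 17, 214625) .leaf))))))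

/-- part of the orbit tree -/
def itp3_385 : Tree := (.node itp3_381 (122760, 0, 18, 215115) itp3_382)

/-- part of the orbit tree -/
def itp3_386 : Tree := (.node itp3_383 (123024, 0, 16, 203502) itp3_384)

/-- part of the orbit tree -/
def itp3_387 : Tree := (.node (.node (.node (.node (.node (.node .leaf (123154, 0, 16, 23619) .leaf) (123156, 0, 18, 143993) (.node .leaf (123159, 0, 16, 230181) .leaf)) (123160, 0, 14, 43000) (.node (.node .leaf (123163, 0, 18, 71332) .leaf) (123165, 0, 17, 33227) (.node .leaf (123166, 0, 16, 147704) .leaf))) (123169, 0, 17, 73654) (.node (.node (.node .leaf (123170, 0, 16, 44778) .leaf) (123172, 0, 16, 80261) (.node .leaf (123175, 0, 17, 128678) .leaf)) (123176, 0, 13, 240644) (.node (.node .leaf (123179, 0, 18, 256541) .leaf) (123181, 0, 13, 164635) (.node .leaf (123182, 0, 17, 146283) .leaf)))) (123185, 0, 15, 190453) (.node (.node (.node (.node .leaf (123186, 0, 15, 219062) .leaf) (123188, 0, 12, 216947) (.node .leaf (123191, 0, 16, 233203) .leaf)) (123192, 0, 15, 121586) (.node (.node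 .leaf (123195, 0, 17, 102984) .leaf) (123197, 0, 18, 130241) (.node .leaf (123198, 0, 15, 19869) .leaf))) (123201, 0, 16, 65235) (.node (.node (.node .leaf (123202, 0, 16, 101226) .leaf) (123204, 0, 15, 7173) (.node .leaf (123207, 0, 16, 109913) .leaf)) (123208, 0, 16, 166276) (.node (.node .leaf (123211, 0, 16, 232302) .leaf) (123213, 0, 19, 189032) (.node .leaf (123214, 0, 12, 204523) .leaf))))) (123217, 0, 18, 150720) (.node (.node (.node (.node (.node .leaf (123218, 0, 18, 261532) .leaf) (123220, 0, 17, 155587) (.node .leaf (123223, 0, 14, 252847) .leaf)) (123224, 0, 13, 17272) (.node (.node .leaf (123227, 0, 15, 127803) .leaf) (123229, 0, 12, 39485) (.node .leaf (123230, 0, 17, 76414) .leaf))) (123233, 0, 17, 83772) (.node (.node (.node .leaf (123234, 0, 15, 63072) .leaf) (123236, 0, 16, 90383) (.node .leaf (123239, 0, 17, 53331) .leaf)) (123240, 0, 14, 78040) (.node (.node .leaf (123243, 0, 18, 148946) .leaf) (123245, 0, 14, 250557) (.node .leaf (123246, 0, 18, 156641) .leaf)))) (123249, 0, 18, 101747) (.node (.node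 (.node (.node .leaf (123250, 0, 17, 15664) .leaf) (123252, 0, 15, 202745) (.node .leaf (123255, 0, 17, 58485) .leaf)) (123256, 0, 14, 215181) (.node (.node .leaf (123259, 0, 16, 13092) .leaf) (123261, 0, 11, 107595) (.node .leaf (123262, 0, 16, 5399) .leaf))) (123265, 0, 15, 250581) (.node (.node (.node .leaf (123266, 0, 16, 45852) .leaf) (123268, 0, 17, 121370) (.node .leaf (123271, 0, 14, 148922) .leaf)) (123272, 0, 16, 247457) (.node (.node .leaf (123275, 0, 15, 161506) .leaf) (123277, 0, 14, 83796) (.node .leaf (123278, 0, 16, 62984) .leaf))))))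

/-- part of the orbit tree -/
def itp3_388 : Tree := (.node (.node (.node (.node (.node (.node .leaf (123282, 0, 18, 183113) .leaf) (123284, 0, 16, 238159) (.node .leaf (123287, 0, 16, 13132) .leaf)) (123288, 0, 17, 114420) (.node (.node .leaf (123291, 0, 14, 3767) .leaf) (123293, 0, 18, 209314) (.node .leaf (123294, 0, 17, 164094) .leaf))) (123297, 0, 18, 176095) (.node (.node (.node .leaf (123298, 0, 15, 204419) .leaf) (123300, 0, 16, 184815) (.node .leaf (123303, 0, 17, 211120) .leaf)) (123304, 0, 15, 52564) (.node (.node .leaf (123307, 0, 16, 97559) .leaf) (123309, 0, 16, 5137) (.node .leaf (123310, 0, 16, 107602) .leaf)))) (123313, 0, 16, 28927) (.node (.node (.node (.node .leaf (123314, 0, 15, 114876) .leaf) (123316, 0, 14, 65306) (.node .leaf (123319, 0, 14, 72185) .leaf)) (123320, 0, 17, 158363) (.node (.node .leaf (123323, 0, 17, 197954) .leaf) (123325, 0, 17, 158788) (.node .leaf (123326, 0, 17, 261620) .leaf))) (123329, 0, 18, 232031) (.node (.node (.node .leaf (123330, 0, 15, 252314) .leaf) (123332, 0, 17, 240748)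 (.node .leaf (123335, 0, 19, 138544) .leaf)) (123336, 0, 11, 80365) (.node (.node .leaf (123339, 0, 16, 72804) .leaf) (123341, 0, 15, 30050) (.node .leaf (123342, 0, 18, 116001) .leaf))))) (123345, 0, 15, 130217) (.node (.node (.node (.node (.node .leaf (123346, 0, 17, 106959) .leaf) (123348, 0, 16, 51401) (.node .leaf (123351, 0, 10, 96394) .leaf)) (123352, 0, 19, 216859) (.node (.node .leaf (123355, 0, 16, 196167) .leaf) (123357, 0, 16, 134455) (.node .leaf (123358, 0, 16, 245108) .leaf))) (123361, 0, 16, 194389) (.node (.node (.node .leaf (123362, 0, 19, 214537) .leaf) (123364, 0, 13, 113513) (.node .leaf (123367, 0, 18, 221242) .leaf)) (123368, 0, 16, 17639) (.node (.node .leaf (123371, 0, 14, 137105) .leaf) (123373, 0, 16, 229015) (.node .leaf (123374, 0, 15, 119688) .leaf)))) (123377, 0, 15, 33187) (.node (.node (.node (.node .leaf (123378, 0, 17, 78079) .leaf) (123380, 0, 17, 42896) (.node .leaf (123383, 0, 12, 71372) .leaf)) (123384, 0, 18, 143889) (.node (.node .leaf (123387, 0, 18, 230221) .leaf) (123389, 0, 15,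 136226) (.node .leaf (123390, 0, 13, 46721) .leaf))) (123394, 0, 11, 109074) (.node (.node (.node .leaf (123395, 0, 14, 223233) .leaf) (123396, 0, 15, 49940) (.node .leaf (123397, 0, 14, 196462) .leaf)) (123400, 0, 18, 188335) (.node (.node .leaf (123401, 0, 16, 147401) .leaf) (123406, 0, 14, 243369) (.node .leaf (123407, 0, 17, 218831) .leaf))))))

/-- part of the orbit tree -/
def itp3_389 : Tree := (.node (.node (.node (.node (.node (.node .leaf (123411, 0, 17, 73463) .leaf) (123412, 0, 16, 179009) (.node .leaf (123413, 0, 15, 154407) .leaf)) (123416, 0, 17, 43002) (.node (.node .leaf (123417, 0, 15, 18332) .leaf) (123422, 0, 16, 118524) (.node .leaf (123423, 0, 18, 232310) .leaf))) (123426, 0, 15, 19493) (.node (.node (.node .leaf (123427, 0, 18, 136459) .leaf) (123428, 0, 15, 248033) (.node .leaf (123429, 0, 17, 229988) .leaf)) (123432, 0, 17, 216779) (.node (.node .leaf (123433, 0, 12, 78908) .leaf) (123438, 0, 15, 48476) (.node .leaf (123439, 0, 14, 32906) .leaf)))) (123442, 0, 14, 55730) (.node (.node (.node (.node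 .leaf (123443, 0, 17, 14804) .leaf) (123444, 0, 16, 241084) (.node .leaf (123445, 0, 17, 128146) .leaf)) (123448, 0, 15, 79933) (.node (.node .leaf (123449, 0, 15, 221459) .leaf) (123454, 0, 16, 181513) (.node .leaf (123455, 0, 15, 194172) .leaf))) (123458, 0, 13, 92581) (.node (.node (.node .leaf (123459, 0, 18, 209035) .leaf) (123460, 0, 16, 65226) (.node .leaf (123461, 0, 17, 215540) .leaf)) (123464, 0, 16, 158539) (.node (.node .leaf (123465, 0, 15, 12901) .leaf) (123470, 0, 18, 261156) (.node .leaf (123471, 0, 13, 15433) .leaf))))) (123474, 0, 16, 47297) (.node (.node (.node (.node (.node .leaf (123475, 0, 17, 83581) .leaf) (123476, 0, 17, 119239) (.node .leaf (123477, 0, 17, 78241) .leaf)) (123480, 0, 16, 7613) (.node (.node .leaf (123481, 0, 15, 208154) .leaf) (123486, 0, 15, 173178) (.node .leaf (123487, 0, 15, 148508) .leaf))) (123490, 0, 17, 5295) (.node (.node (.node .leaf (123491, 0, 13, 150913) .leaf) (123492, 0, 13, 41575) (.node .leaf (123493, 0, 13, 16897) .leaf)) (123496, 0, 14, 202305) (.node (.node .leaf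 (123497, 0, 17, 85871) .leaf) (123502, 0, 14, 251866) (.node .leaf (123503, 0, 18, 55296) .leaf)))) (123506, 0, 16, 242484) (.node (.node (.node (.node .leaf (123507, 0, 14, 15223) .leaf) (123508, 0, 16, 259382) (.node .leaf (123509, 0, 17, 146004) .leaf)) (123512, 0, 13, 50825) (.node (.node .leaf (123513, 0, 15, 9967) .leaf) (123518, 0, 14, 110479) (.node .leaf (123519, 0, 18, 85993) .leaf))) (123522, 0, 14, 164166) (.node (.node (.node .leaf (123523, 0, 18, 253310) .leaf) (123524, 0, 16, 152606) (.node .leaf (123525, 0, 15, 85767) .leaf)) (123528, 0, 16, 99240) (.node (.node .leaf (123529, 0, 16, 43203) .leaf) (123534, 0, 15, 74147) (.node .leaf (123535, 0, 17, 115141) .leaf))))))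

/-- part of the orbit tree -/
def itp3_390 : Tree := (.node (.node (.node (.node (.node (.node .leaf (123539, 0, 16, 175774) .leaf) (123540, 0, 19, 90335) (.node .leaf (123541, 0, 17, 52269) .leaf)) (123544, 0, 12, 143600) (.node (.node .leaf (123545, 0, 17, 109680) .leaf) (123550, 0, 15, 156209) (.node .leaf (123551, 0, 15, 15135) .leaf))) (123554, 0, 19, 261196) (.node (.node (.node .leaf (123555, 0, 17, 107874) .leaf) (123556, 0, 17, 158499) (.node .leaf (123557, 0, 14, 12813) .leaf)) (123560, 0, 15, 213840) (.node (.node .leaf (123561, 0, 17, 238390) .leaf) (123566, 0, 16, 92621) (.node .leaf (123567, 0, 15, 182832) .leaf)))) (123570, 0, 14, 101050) (.node (.node (.node (.node .leaf (123571, 0, 17, 175838) .leaf) (123572, 0, 16, 206782) (.node .leaf (123573, 0, 16, 148731) .leaf)) (123576, 0, 16, 165972) (.node (.node .leaf (123577, 0, 17, 121699) .leaf) (123582, 0, 18, 20995) (.node .leaf (123583, 0, 17, 83477) .leaf))) (123586, 0, 16, 22430) (.node (.node (.node .leaf (123587, 0, 18, 32994) .leaf) (123588, 0, 14, 81560)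 (.node .leaf (123589, 0, 8, 122622) .leaf)) (123592, 0, 16, 121634) (.node (.node .leaf (123593, 0, 15, 246341) .leaf) (123598, 0, 18, 19533) (.node .leaf (123599, 0, 15, 136547) .leaf))))) (123602, 0, 14, 143307) (.node (.node (.node (.node (.node .leaf (123603, 0, 14, 194068) .leaf) (123604, 0, 15, 214733) (.node .leaf (123605, 0, 16, 221563) .leaf)) (123608, 0, 17, 88694) (.node (.node .leaf (123609, 0, 17, 113168) .leaf) (123614, 0, 15, 13168) (.node .leaf (123615, 0, 17, 25493) .leaf))) (123618, 0, 10, 238790) (.node (.node (.node .leaf (123619, 0, 16, 244749) .leaf) (123620, 0, 17, 144749) (.node .leaf (123621, 0, 16, 185611) .leaf)) (123624, 0, 16, 10710) (.node (.node .leaf (123625, 0, 15, 196358) .leaf) (123630, 0, 18, 78151) (.node .leaf (123631, 0, 15, 223337) .leaf)))) (123634, 0, 18, 74814) (.node (.node (.node (.node .leaf (123635, 0, 18, 232222) .leaf) (123636, 0, 14, 17759) (.node .leaf (123637, 0, 13, 138353) .leaf)) (123640, 0, 15, 184542) (.node (.node .leaf (123641, 0, 15, 176613) .leaf) (123646, 0, 14,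 214961) (.node .leaf (123647, 0, 17, 73375) .leaf))) (123648, 0, 17, 147134) (.node (.node (.node .leaf (123649, 0, 15, 26512) .leaf) (123654, 0, 16, 240081) (.node .leaf (123655, 0, 17, 184611) .leaf)) (123658, 0, 17, 80976) (.node (.node .leaf (123659, 0, 18, 52632) .leaf) (123660, 0, 14, 43839) .leaf)))))

/-- part of the orbit tree -/
def itp3_391 : Tree := (.node itp3_387 (123281, 0, 18, 228106) itp3_388)

/-- part of the orbit tree -/
def itp3_392 : Tree := (.node itp3_389 (123538, 0, 15, 63408) itp3_390)

/-- part of the orbit tree -/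
def itp3_393 : Tree := (.node itp3_385 (122896, 0, 15, 43655) itp3_386)

/-- part of the orbit tree -/
def itp3_394 : Tree := (.node itp3_391 (123410, 0, 17, 250439) itp3_392)

/-- part of the orbit tree -/
def itp3_395 : Tree := (.node (.node (.node (.node (.node (.node .leaf (123664, 0, 16, 73750) .leaf) (123665, 0, 17, 114800) (.node .leaf (123670, 0, 18, 18704) .leaf)) (123671, 0, 14, 43382) (.node (.node .leaf (123674, 0, 18, 215718) .leaf) (123675, 0, 17, 177613) (.node .leaf (123676, 0, 16, 187849) .leaf))) (123677, 0, 17, 253131) (.node (.node (.node .leaf (123680, 0, 18, 21430) .leaf) (123681, 0, 16, 46032) (.node .leaf (123686, 0, 18, 80560) .leaf)) (123687, 0, 15, 36341) (.node (.node .leaf (123690, 0, 17, 16730) .leaf) (123691, 0, 14, 247405) (.node .leaf (123692, 0, 16, 151309) .leaf)))) (123693, 0, 16, 175979) (.node (.node (.node (.node .leaf (123696, 0, 16, 79170) .leaf) (123697, 0, 16, 224364) (.node .leaf (123702, 0, 17, 41517) .leaf)) (123703, 0, 12, 195331) (.node (.node .leaf (123706, 0, 16, 145324) .leaf)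 (123707, 0, 14, 28290) (.node .leaf (123708, 0, 12, 237763) .leaf))) (123709, 0, 16, 55102) (.node (.node (.node .leaf (123712, 0, 17, 12997) .leaf) (123713, 0, 13, 16154) (.node .leaf (123718, 0, 16, 258395) .leaf)) (123719, 0, 16, 113573) (.node (.node .leaf (123722, 0, 14, 214904) .leaf) (123723, 0, 13, 239390) (.node .leaf (123724, 0, 15, 142974) .leaf))))) (123725, 0, 17, 174747) (.node (.node (.node (.node (.node .leaf (123728, 0, 7, 4290) .leaf) (123729, 0, 16, 149996) (.node .leaf (123734, 0, 15, 100269) .leaf)) (123735, 0, 18, 253571) (.node (.node .leaf (123738, 0, 11, 201260) .leaf) (123739, 0, 16, 84738) (.node .leaf (123740, 0, 17, 165187) .leaf))) (123741, 0, 9, 56429) (.node (.node (.node .leaf (123744, 0, 18, 203582) .leaf) (123745, 0, 16, 82448) (.node .leaf (123750, 0, 16, 166993) .leaf)) (123751, 0, 11, 54655) (.node (.node .leaf (123754, 0, 15, 19597) .leaf) (123755, 0, 14, 44267) (.node .leaf (123756, 0, 14, 102079) .leaf)))) (123757, 0, 17, 116205) (.node (.node (.node (.node .leaf (123760, 0, 18, 82277)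 .leaf) (123761, 0, 18, 106755) (.node .leaf (123766, 0, 15, 10339) .leaf)) (123767, 0, 16, 172937) (.node (.node .leaf (123770, 0, 15, 144600) .leaf) (123771, 0, 16, 185534) (.node .leaf (123772, 0, 18, 220638) .leaf))) (123773, 0, 17, 106855) (.node (.node (.node .leaf (123776, 0, 18, 102103) .leaf) (123777, 0, 13, 251897) (.node .leaf (123782, 0, 17, 6584) .leaf)) (123783, 0, 13, 17961) (.node (.node .leaf (123786, 0, 16, 178932) .leaf) (123787, 0, 14, 54551) (.node .leaf (123788, 0, 15, 203606) .leaf))))))

/-- part of the orbit tree -/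
def itp3_396 : Tree := (.node (.node (.node (.node (.node (.node .leaf (123792, 0, 17, 243484) .leaf) (123793, 0, 16, 106767) (.node .leaf (123798, 0, 15, 187930) .leaf)) (123799, 0, 14, 13920) (.node (.node .leaf (123802, 0, 17, 64207) .leaf) (123803, 0, 16, 8903) (.node .leaf (123804, 0, 16, 93600) .leaf))) (123805, 0, 14, 210062) (.node (.node (.node .leaf (123808, 0, 17, 62429) .leaf) (123809, 0, 13, 140506) (.node .leaf (123814, 0, 18, 91314) .leaf)) (123815, 0, 13, 212380) (.node (.node .leaf (123818, 0, 16, 110849) .leaf) (123819, 0, 15, 108573) (.node .leaf (123820, 0, 18, 157276) .leaf)))) (123821, 0, 13, 14433) (.node (.node (.node (.node .leaf (123824, 0, 16, 48361) .leaf) (123825, 0, 15, 56325) (.node .leaf (123830, 0, 17, 120303) .leaf)) (123831, 0, 16, 84842) (.node (.node .leaf (123834, 0, 16, 100293) .leaf) (123835, 0, 17, 253675) (.node .leaf (123836, 0, 16, 4266) .leaf))) (123837, 0, 17, 147508) (.node (.node (.node .leaf (123840, 0, 17, 120413) .leaf) (123841, 0, 17, 148905) (.node .leaf (123846, 0, 16,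 16690) .leaf)) (123847, 0, 17, 137244) (.node (.node .leaf (123850, 0, 15, 185523) .leaf) (123851, 0, 17, 77844) (.node .leaf (123852, 0, 14, 213980) .leaf))))) (123853, 0, 17, 22802) (.node (.node (.node (.node (.node .leaf (123856, 0, 12, 237739) .leaf) (123857, 0, 17, 129413) (.node .leaf (123862, 0, 15, 111772) .leaf)) (123863, 0, 14, 87290) (.node (.node .leaf (123866, 0, 19, 41541) .leaf) (123867, 0, 16, 215105) (.node .leaf (123868, 0, 15, 180513) .leaf))) (123869, 0, 16, 139591) (.node (.node (.node .leaf (123872, 0, 16, 110138) .leaf) (123873, 0, 16, 193145) (.node .leaf (123878, 0, 18, 80952) .leaf)) (123879, 0, 17, 222486) (.node (.node .leaf (123882, 0, 18, 187271) .leaf) (123883, 0, 18, 146401) (.node .leaf (123884, 0, 14, 242305) .leaf)))) (123885, 0, 16, 217831) (.node (.node (.node (.node .leaf (123888, 0, 12, 251503) .leaf) (123889, 0, 17, 33935) (.node .leaf (123894, 0, 17, 180073) .leaf)) (123895, 0, 16, 70624) (.node (.node .leaf (123898, 0, 15, 41938) .leaf) (123899, 0, 15, 231009) (.node .leaf (123900,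 0, 15, 18464) .leaf))) (123901, 0, 16, 76466) (.node (.node (.node .leaf (123905, 0, 16, 231595) .leaf) (123907, 0, 14, 31916) (.node .leaf (123908, 0, 15, 241304) .leaf)) (123910, 0, 18, 42473) (.node (.node .leaf (123912, 0, 17, 256375) .leaf) (123914, 0, 16, 185195) (.node .leaf (123917, 0, 17, 208946) .leaf))))))

/-- part of the orbit tree -/
def itp3_397 : Tree := (.node (.node (.node (.node (.node (.node .leaf (123921, 0, 14, 218332) .leaf) (123923, 0, 16, 132345) (.node .leaf (123924, 0, 15, 120942) .leaf)) (123926, 0, 15, 187836) (.node (.node .leaf (123928, 0, 17, 102690) .leaf) (123930, 0, 16, 49415) (.node .leaf (123933, 0, 16, 224220) .leaf))) (123935, 0, 16, 33710) (.node (.node (.node .leaf (123937, 0, 16, 141180) .leaf) (123939, 0, 16, 73171) (.node .leaf (123940, 0, 15, 185234) .leaf)) (123942, 0, 16, 80864) (.node (.node .leaf (123944, 0, 16, 57986) .leaf) (123946, 0, 15, 241249) (.node .leaf (123949, 0, 16, 24608) .leaf)))) (123951, 0, 17, 93154) (.node (.node (.node (.node .leaf (123953, 0, 14, 24361)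 .leaf) (123955, 0, 16, 224037) (.node .leaf (123956, 0, 14, 42340) .leaf)) (123958, 0, 17, 120393) (.node (.node .leaf (123960, 0, 14, 170711) .leaf) (123962, 0, 16, 248562) (.node .leaf (123965, 0, 15, 136918) .leaf))) (123967, 0, 14, 130724) (.node (.node (.node .leaf (123969, 0, 17, 249889) .leaf) (123971, 0, 17, 202282) (.node .leaf (123972, 0, 17, 259602) .leaf)) (123974, 0, 14, 7776) (.node (.node .leaf (123976, 0, 13, 33777) .leaf) (123978, 0, 14, 119764) (.node .leaf (123981, 0, 15, 23220) .leaf))))) (123983, 0, 16, 68241) (.node (.node (.node (.node (.node .leaf (123985, 0, 18, 108247) .leaf) (123987, 0, 16, 151205) (.node .leaf (123988, 0, 16, 98532) .leaf)) (123990, 0, 13, 157846) (.node (.node .leaf (123992, 0, 17, 195492) .leaf) (123994, 0, 13, 64791) (.node .leaf (123997, 0, 16, 209750) .leaf))) (123999, 0, 16, 56100) (.node (.node (.node .leaf (124001, 0, 16, 175403) .leaf) (124003, 0, 17, 7647) (.node .leaf (124004, 0, 16, 103615) .leaf)) (124006, 0, 14, 50330) (.node (.node .leaf (124008, 0, 16, 7833) .leaf)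 (124010, 0, 16, 259819) (.node .leaf (124013, 0, 16, 14506) .leaf)))) (124015, 0, 18, 250072) (.node (.node (.node (.node .leaf (124017, 0, 14, 56285) .leaf) (124019, 0, 15, 157066) (.node .leaf (124020, 0, 17, 257258) .leaf)) (124022, 0, 18, 202140) (.node (.node .leaf (124024, 0, 17, 127057) .leaf) (124026, 0, 15, 98333) (.node .leaf (124029, 0, 15, 76052) .leaf))) (124031, 0, 11, 108078) (.node (.node (.node .leaf (124033, 0, 14, 14530) .leaf) (124035, 0, 17, 250032) (.node .leaf (124036, 0, 17, 7921) .leaf)) (124038, 0, 15, 144099) (.node (.node .leaf (124040, 0, 13, 97917) .leaf) (124042, 0, 16, 11864) (.node .leaf (124045, 0, 11, 175427) .leaf))))))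

/-- part of the orbit tree -/
def itp3_398 : Tree := (.node (.node (.node (.node (.node (.node .leaf (124049, 0, 17, 151092) .leaf) (124051, 0, 17, 37875) (.node .leaf (124052, 0, 15, 72339) .leaf)) (124054, 0, 17, 98421) (.node (.node .leaf (124056, 0, 18, 198184) .leaf) (124058, 0, 11, 153101) (.node .leaf (124061, 0, 10, 253805) .leaf))) (124063, 0, 12, 209863) (.node (.node (.node .leaf (124065, 0, 17, 83400) .leaf) (124067, 0, 13, 122963) (.node .leaf (124068, 0, 16, 91131) .leaf)) (124070, 0, 16, 80150) (.node (.node .leaf (124072, 0, 14, 259706) .leaf) (124074, 0, 16, 7688) (.node .leaf (124077, 0, 13, 249929) .leaf)))) (124079, 0, 16, 14395) (.node (.node (.node (.node .leaf (124081, 0, 19, 182307) .leaf) (124083, 0, 15, 235526) (.node .leaf (124084, 0, 17, 201997) .leaf)) (124086, 0, 17, 64895) (.node (.node .leaf (124088, 0, 17, 98444) .leaf) (124090, 0, 16, 89592) (.node .leaf (124093, 0, 17, 54424) .leaf))) (124095, 0, 17, 99517) (.node (.node (.node .leaf (124097, 0, 17, 24648) .leaf) (124099, 0, 12, 98592)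 (.node .leaf (124100, 0, 16, 2112) .leaf)) (124102, 0, 16, 241161) (.node (.node .leaf (124104, 0, 15, 136443) .leaf) (124106, 0, 15, 80776) (.node .leaf (124109, 0, 14, 183742) .leaf))))) (124111, 0, 15, 73147) (.node (.node (.node (.node (.node .leaf (124113, 0, 11, 174416) .leaf) (124115, 0, 16, 260469) (.node .leaf (124116, 0, 11, 159765) .leaf)) (124118, 0, 14, 204848) (.node (.node .leaf (124120, 0, 16, 27822) .leaf) (124122, 0, 13, 81035) (.node .leaf (124125, 0, 17, 33599) .leaf))) (124127, 0, 16, 124366) (.node (.node (.node .leaf (124129, 0, 16, 73026) .leaf) (124131, 0, 16, 166613) (.node .leaf (124132, 0, 18, 197557) .leaf)) (124134, 0, 15, 152464) (.node (.node .leaf (124136, 0, 16, 73486) .leaf) (124138, 0, 17, 20267) (.node .leaf (124141, 0, 14, 116299) .leaf)))) (124143, 0, 18, 38510) (.node (.node (.node (.node .leaf (124145, 0, 16, 107173) .leaf) (124147, 0, 16, 33734) (.node .leaf (124148, 0, 15, 97248) .leaf)) (124150, 0, 16, 11205) (.node (.node .leaf (124152, 0, 9, 120838) .leaf) (124154, 0, 15, 143476)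 (.node .leaf (124157, 0, 13, 130613) .leaf))) (124159, 0, 17, 136775) (.node (.node (.node .leaf (124160, 0, 6, 159387) .leaf) (124162, 0, 17, 187924) (.node .leaf (124165, 0, 16, 69717) .leaf)) (124167, 0, 14, 255995) (.node (.node .leaf (124169, 0, 13, 230868) .leaf) (124171, 0, 12, 129856) (.node .leaf (124172, 0, 17, 238567) .leaf))))))

/-- part of the orbit tree -/
def itp3_399 : Tree := (.node itp3_395 (123789, 0, 17, 82552) itp3_396)

/-- part of the orbit tree -/
def itp3_400 : Tree := (.node itp3_397 (124047, 0, 14, 63261) itp3_398)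

/-- part of the orbit tree -/
def itp3_401 : Tree := (.node (.node (.node (.node (.node (.node .leaf (124176, 0, 18, 5838) .leaf) (124178, 0, 16, 83691) (.node .leaf (124181, 0, 18, 53131) .leaf)) (124183, 0, 14, 106414) (.node (.node .leaf (124185, 0, 17, 185136) .leaf) (124187, 0, 15, 138064) (.node .leaf (124188, 0, 17, 120081) .leaf))) (124190, 0, 17, 219728) (.node (.node (.node .leaf (124192, 0, 17, 91502) .leaf) (124194, 0, 16, 238366) (.node .leaf (124197, 0, 16, 113707) .leaf)) (124199, 0, 17, 60430) (.node (.node .leaf (124201, 0, 16, 237712) .leaf) (124203, 0, 17, 192693) (.node .leaf (124204, 0, 19, 227797) .leaf)))) (124206, 0, 15, 79519) (.node (.node (.node (.node .leaf (124208, 0, 11, 146842) .leaf) (124210, 0, 13, 150814) (.node .leaf (124213, 0, 18, 138153) .leaf)) (124215, 0, 17, 169051) (.node (.node .leaf (124217, 0, 16, 36392) .leaf) (124219, 0, 16, 35040) (.node .leaf (124220, 0, 19, 65920) .leaf))) (124222, 0, 19, 20901) (.node (.node (.node .leaf (124224, 0, 17, 93932) .leaf) (124226, 0, 17, 21560)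 (.node .leaf (124229, 0, 18, 122200) .leaf)) (124231, 0, 14, 172205) (.node (.node .leaf (124233, 0, 15, 253278) .leaf) (124235, 0, 13, 13612) (.node .leaf (124236, 0, 15, 260973) .leaf))))) (124238, 0, 15, 149635) (.node (.node (.node (.node (.node .leaf (124240, 0, 16, 202778) .leaf) (124242, 0, 18, 61544) (.node .leaf (124245, 0, 17, 238861) .leaf)) (124247, 0, 17, 54875) (.node (.node .leaf (124249, 0, 16, 113078) .leaf) (124251, 0, 15, 59795) (.node .leaf (124252, 0, 15, 101787) .leaf))) (124254, 0, 15, 12502) (.node (.node (.node .leaf (124256, 0, 17, 5094) .leaf) (124258, 0, 17, 221133) (.node .leaf (124261, 0, 18, 13781) .leaf)) (124263, 0, 18, 231048) (.node (.node .leaf (124265, 0, 15, 51734) .leaf) (124267, 0, 14, 84006) (.node .leaf (124268, 0, 11, 165479) .leaf)))) (124270, 0, 15, 93717) (.node (.node (.node (.node .leaf (124272, 0, 18, 156944) .leaf) (124274, 0, 15, 101730) (.node .leaf (124277, 0, 15, 44792) .leaf)) (124279, 0, 8, 130781) (.node (.node .leaf (124281, 0, 16, 54946) .leaf) (124283, 0, 16, 212688)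 (.node .leaf (124284, 0, 11, 61585) .leaf))) (124286, 0, 18, 202979) (.node (.node (.node .leaf (124288, 0, 16, 63889) .leaf) (124290, 0, 17, 108980) (.node .leaf (124293, 0, 15, 8404) .leaf)) (124295, 0, 15, 84046) (.node (.node .leaf (124297, 0, 14, 13757) .leaf) (124299, 0, 15, 224330) (.node .leaf (124300, 0, 16, 189738) .leaf))))))

/-- part of the orbit tree -/
def itp3_402 : Tree := (.node (.node (.node (.node (.node (.node .leaf (124304, 0, 13, 61689) .leaf) (124306, 0, 16, 250337) (.node .leaf (124309, 0, 19, 153729) .leaf)) (124311, 0, 16, 198820) (.node (.node .leaf (124313, 0, 12, 17466) .leaf) (124315, 0, 15, 70687) (.node .leaf (124316, 0, 16, 40319) .leaf))) (124318, 0, 18, 118106) (.node (.node (.node .leaf (124320, 0, 17, 258660) .leaf) (124322, 0, 15, 4983) (.node .leaf (124325, 0, 18, 207649) .leaf)) (124327, 0, 15, 162564) (.node (.node .leaf (124329, 0, 16, 79770) .leaf) (124331, 0, 14, 172229) (.node .leaf (124332, 0, 17, 93828) .leaf)))) (124334, 0, 17, 48890) (.node (.node (.node (.node .leaf (124336,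 0, 18, 101875) .leaf) (124338, 0, 18, 55828) (.node .leaf (124341, 0, 15, 109504) .leaf)) (124343, 0, 16, 148402) (.node (.node .leaf (124345, 0, 17, 212545) .leaf) (124347, 0, 17, 54835) (.node .leaf (124348, 0, 17, 235146) .leaf))) (124350, 0, 12, 61440) (.node (.node (.node .leaf (124352, 0, 16, 188037) .leaf) (124354, 0, 15, 181042) (.node .leaf (124357, 0, 17, 215634) .leaf)) (124359, 0, 17, 69828) (.node (.node .leaf (124361, 0, 17, 27959) .leaf) (124363, 0, 14, 1740) (.node .leaf (124364, 0, 18, 102316) .leaf))))) (124366, 0, 15, 57225) (.node (.node (.node (.node (.node .leaf (124368, 0, 16, 43123) .leaf) (124370, 0, 15, 212993) (.node .leaf (124373, 0, 16, 78343) .leaf)) (124375, 0, 18, 25122) (.node (.node .leaf (124377, 0, 14, 208572) .leaf) (124379, 0, 16, 127923) (.node .leaf (124380, 0, 15, 260089) .leaf))) (124382, 0, 15, 120192) (.node (.node (.node .leaf (124384, 0, 17, 238479) .leaf) (124386, 0, 17, 19453) (.node .leaf (124389, 0, 14, 230844) .leaf)) (124391, 0, 15, 70018) (.node (.node .leaf (124393, 0,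 13, 69693) .leaf) (124395, 0, 16, 194639) (.node .leaf (124396, 0, 18, 164953) .leaf)))) (124398, 0, 15, 188028) (.node (.node (.node (.node .leaf (124400, 0, 16, 188599) .leaf) (124402, 0, 16, 146699) (.node .leaf (124405, 0, 18, 127818) .leaf)) (124407, 0, 12, 138040) (.node (.node .leaf (124409, 0, 10, 9545) .leaf) (124411, 0, 18, 36537) (.node .leaf (124412, 0, 16, 213240) .leaf))) (124414, 0, 16, 109609) (.node (.node (.node .leaf (124416, 0, 17, 119977) .leaf) (124417, 0, 13, 65785) (.node .leaf (124418, 0, 13, 146651) .leaf)) (124419, 0, 16, 20700) (.node (.node .leaf (124428, 0, 17, 213288) .leaf) (124429, 0, 16, 71686) (.node .leaf (124430, 0, 15, 175105) .leaf))))))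

/-- part of the orbit tree -/
def itp3_403 : Tree := (.node (.node (.node (.node (.node (.node .leaf (124432, 0, 13, 235722) .leaf) (124433, 0, 17, 227500) (.node .leaf (124434, 0, 17, 182511) .leaf)) (124435, 0, 17, 141449) (.node (.node .leaf (124444, 0, 15, 99441) .leaf) (124445, 0, 17, 91159) (.node .leaf (124446, 0, 16, 188332) .leaf))) (124447, 0, 17, 34434) (.node (.node (.node .leaf (124448, 0, 18, 191338) .leaf) (124449, 0, 16, 192653) (.node .leaf (124450, 0, 13, 244559) .leaf)) (124451, 0, 16, 219945) (.node (.node .leaf (124460, 0, 18, 63441) .leaf) (124461, 0, 15, 25868) (.node .leaf (124462, 0, 17, 108532) .leaf)))) (124463, 0, 18, 83858) (.node (.node (.node (.node .leaf (124464, 0, 14, 188245) .leaf) (124465, 0, 14, 29529) (.node .leaf (124466, 0, 17, 79655) .leaf)) (124467, 0, 17, 224777) (.node (.node .leaf (124476, 0, 16, 167812) .leaf) (124477, 0, 17, 159714) (.node .leaf (124478, 0, 15, 238246) .leaf))) (124479, 0, 15, 129928) (.node (.node (.node .leaf (124480, 0, 12, 166425) .leaf) (124481, 0, 16,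 251149) (.node .leaf (124482, 0, 18, 156753) .leaf)) (124483, 0, 11, 211546) (.node (.node .leaf (124492, 0, 17, 38562) .leaf) (124493, 0, 16, 30404) (.node .leaf (124494, 0, 18, 116359) .leaf))))) (124495, 0, 7, 75489) (.node (.node (.node (.node (.node .leaf (124496, 0, 15, 62028) .leaf) (124497, 0, 17, 107515) (.node .leaf (124498, 0, 16, 4775) .leaf)) (124499, 0, 18, 82447) (.node (.node .leaf (124508, 0, 15, 94036) .leaf) (124509, 0, 16, 134801) (.node .leaf (124510, 0, 14, 245458) .leaf))) (124511, 0, 11, 220852) (.node (.node (.node .leaf (124512, 0, 18, 61737) .leaf) (124513, 0, 13, 174087) (.node .leaf (124514, 0, 16, 203099) .leaf)) (124515, 0, 15, 12719) (.node (.node .leaf (124524, 0, 16, 236887) .leaf) (124525, 0, 16, 228657) (.node .leaf (124526, 0, 12, 183666) .leaf)))) (124527, 0, 12, 251380) (.node (.node (.node (.node .leaf (124528, 0, 18, 260537) .leaf) (124529, 0, 15, 203231) (.node .leaf (124530, 0, 15, 94125) .leaf)) (124531, 0, 14, 210563) (.node (.node .leaf (124540, 0, 16, 4702) .leaf) (124541, 0,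 11, 150384) (.node .leaf (124542, 0, 15, 260652) .leaf))) (124543, 0, 14, 107266) (.node (.node (.node .leaf (124544, 0, 12, 227221) .leaf) (124545, 0, 18, 15854) (.node .leaf (124546, 0, 14, 141232) .leaf)) (124547, 0, 18, 251292) (.node (.node .leaf (124556, 0, 15, 61761) .leaf) (124557, 0, 18, 174191) (.node .leaf (124558, 0, 17, 15115) .leaf))))))

/-- part of the orbit tree -/
def itp3_404 : Tree := (.node (.node (.node (.node (.node (.node .leaf (124560, 0, 17, 69568) .leaf) (124561, 0, 16, 126886) (.node .leaf (124562, 0, 17, 24549) .leaf)) (124563, 0, 13, 107370) (.node (.node .leaf (124572, 0, 14, 165815) .leaf) (124573, 0, 18, 56985) (.node .leaf (124574, 0, 12, 148318) .leaf))) (124575, 0, 15, 172856) (.node (.node (.node .leaf (124576, 0, 16, 31840) .leaf) (124577, 0, 17, 82148) (.node .leaf (124578, 0, 17, 61880) .leaf)) (124579, 0, 16, 117795) (.node (.node .leaf (124588, 0, 17, 101451) .leaf) (124589, 0, 16, 164029) (.node .leaf (124590, 0, 17, 209150) .leaf)))) (124591, 0, 17, 15639) (.node (.node (.node (.node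 .leaf (124592, 0, 15, 132149) .leaf) (124593, 0, 18, 210450) (.node .leaf (124594, 0, 16, 165710) .leaf)) (124595, 0, 15, 242806) (.node (.node .leaf (124604, 0, 17, 6286) .leaf) (124605, 0, 17, 107411) (.node .leaf (124606, 0, 17, 84139) .leaf))) (124607, 0, 16, 150497) (.node (.node (.node .leaf (124608, 0, 16, 146506) .leaf) (124609, 0, 14, 25956) (.node .leaf (124610, 0, 17, 119864) .leaf)) (124611, 0, 15, 109904) (.node (.node .leaf (124620, 0, 16, 43467) .leaf) (124621, 0, 15, 192741) (.node .leaf (124622, 0, 16, 213433) .leaf))))) (124623, 0, 17, 242155) (.node (.node (.node (.node (.node .leaf (124624, 0, 16, 156998) .leaf) (124625, 0, 15, 136082) (.node .leaf (124626, 0, 17, 238286) .leaf)) (124627, 0, 14, 130016) (.node (.node .leaf (124636, 0, 10, 31229) .leaf) (124637, 0, 15, 34323) (.node .leaf (124638, 0, 14, 76248) .leaf))) (124639, 0, 15, 224865) (.node (.node (.node .leaf (124640, 0, 17, 202470) .leaf) (124641, 0, 16, 71790) (.node .leaf (124642, 0, 16, 149187) .leaf)) (124643, 0, 18, 192540) (.node (.node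 .leaf (124652, 0, 14, 120001) .leaf) (124653, 0, 17, 232943) (.node .leaf (124654, 0, 16, 23160) .leaf)))) (124655, 0, 18, 47646) (.node (.node (.node (.node .leaf (124656, 0, 14, 79798) .leaf) (124657, 0, 16, 224920) (.node .leaf (124658, 0, 16, 16022) .leaf)) (124659, 0, 15, 57072) (.node (.node .leaf (124668, 0, 9, 225800) .leaf) (124669, 0, 17, 129817) (.node .leaf (124670, 0, 16, 19013) .leaf))) (124671, 0, 14, 180811) (.node (.node (.node .leaf (124676, 0, 14, 162760) .leaf) (124677, 0, 18, 170926) (.node .leaf (124678, 0, 14, 207853) .leaf)) (124679, 0, 15, 195851) (.node (.node .leaf (124680, 0, 19, 121302) .leaf) (124681, 0, 14, 34581) .leaf)))))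

/-- part of the orbit tree -/
def itp3_405 : Tree := (.node itp3_401 (124302, 0, 15, 242959) itp3_402)

/-- part of the orbit tree -/
def itp3_406 : Tree := (.node itp3_403 (124559, 0, 16, 81949) itp3_404)

/-- part of the orbit tree -/
def itp3_407 : Tree := (.node itp3_399 (123919, 0, 18, 155671) itp3_400)

/-- part of the orbit tree -/
def itp3_408 : Tree := (.node itp3_405 (124431, 0, 13, 150631) itp3_406)

/-- part of the orbit tree -/
def itp3_409 : Tree := (.node itp3_393 (123153, 0, 18, 125952) itp3_394)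

/-- part of the orbit tree -/
def itp3_410 : Tree := (.node itp3_407 (124174, 0, 12, 74245) itp3_408)

/-- part of the orbit tree -/
def itp3_411 : Tree := (.node (.node (.node (.node (.node (.node .leaf (124683, 0, 17, 26762) .leaf) (124692, 0, 9, 80545) (.node .leaf (124693, 0, 10, 58363) .leaf)) (124694, 0, 15, 185043) (.node (.node .leaf (124695, 0, 17, 35837) .leaf) (124696, 0, 11, 139046) (.node .leaf (124697, 0, 18, 128526) .leaf))) (124698, 0, 16, 18258) (.node (.node (.node .leaf (124699, 0, 18, 138876) .leaf) (124708, 0, 16, 143709) (.node .leaf (124709, 0, 15, 26739) .leaf)) (124710, 0, 16, 121135) (.node (.node .leaf (124711, 0, 15, 49278) .leaf) (124712, 0, 16, 42204) (.node .leaf (124713, 0, 17, 196082) .leaf)))) (124714, 0, 16, 216238) (.node (.node (.node (.node .leaf (124715, 0, 16, 187589) .leaf) (124724, 0, 11, 198760) (.node .leaf (124725, 0, 12, 256014) .leaf)) (124726, 0, 18, 153677) (.node (.node .leaf (124727, 0, 13, 128759) .leaf) (124728, 0, 17, 70867) (.node .leaf (124729, 0, 18, 35588) .leaf)))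 (124730, 0, 9, 17654) (.node (.node (.node .leaf (124731, 0, 17, 42128) .leaf) (124740, 0, 15, 69966) (.node .leaf (124741, 0, 15, 85491) .leaf)) (124742, 0, 17, 16747) (.node (.node .leaf (124743, 0, 16, 41229) .leaf) (124744, 0, 17, 200181) (.node .leaf (124745, 0, 15, 257427) .leaf))))) (124746, 0, 10, 157998) (.node (.node (.node (.node (.node .leaf (124747, 0, 19, 12288) .leaf) (124756, 0, 16, 90667) (.node .leaf (124757, 0, 16, 231805) .leaf)) (124758, 0, 18, 145726) (.node (.node .leaf (124759, 0, 16, 54135) .leaf) (124760, 0, 17, 95648) (.node .leaf (124761, 0, 18, 110212) .leaf))) (124762, 0, 16, 8152) (.node (.node (.node .leaf (124763, 0, 17, 50659) .leaf) (124772, 0, 17, 158167) (.node .leaf (124773, 0, 17, 195293) .leaf)) (124774, 0, 13, 215710) (.node (.node .leaf (124775, 0, 19, 252043) .leaf) (124776, 0, 18, 1536) (.node .leaf (124777, 0, 17, 173432) .leaf)))) (124778, 0, 17, 201764) (.node (.node (.node (.node .leaf (124779, 0, 15, 85258) .leaf) (124788, 0, 17, 25326) (.node .leaf (124789, 0, 16, 33416) .leaf))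 (124790, 0, 16, 78539) (.node (.node .leaf (124791, 0, 16, 110205) .leaf) (124792, 0, 18, 166560) (.node .leaf (124793, 0, 17, 54158) .leaf))) (124794, 0, 16, 90834) (.node (.node (.node .leaf (124795, 0, 15, 211964) .leaf) (124804, 0, 17, 64574) (.node .leaf (124805, 0, 15, 3236) .leaf)) (124806, 0, 14, 113895) (.node (.node .leaf (124807, 0, 18, 89217) .leaf) (124808, 0, 18, 158143) (.node .leaf (124809, 0, 16, 135199) .leaf))))))

/-- part of the orbit tree -/
def itp3_412 : Tree := (.node (.node (.node (.node (.node (.node .leaf (124811, 0, 18, 252131) .leaf) (124820, 0, 17, 169111) (.node .leaf (124821, 0, 16, 54246) .leaf)) (124822, 0, 17, 90810) (.node (.node .leaf (124823, 0, 17, 206036) .leaf) (124824, 0, 16, 34860) (.node .leaf (124825, 0, 18, 26698) .leaf))) (124826, 0, 17, 259899) (.node (.node (.node .leaf (124827, 0, 14, 79983) .leaf) (124836, 0, 10, 98612) (.node .leaf (124837, 0, 17, 198481) .leaf)) (124838, 0, 13, 158022) (.node (.node .leaf (124839, 0, 18, 12392) .leaf) (124840, 0, 17, 129932) (.node .leaf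 (124841, 0, 8, 85403) .leaf)))) (124842, 0, 17, 43945) (.node (.node (.node (.node .leaf (124843, 0, 17, 173545) .leaf) (124852, 0, 15, 106338) (.node .leaf (124853, 0, 18, 110316) .leaf)) (124854, 0, 15, 8112) (.node (.node .leaf (124855, 0, 16, 12065) .leaf) (124856, 0, 15, 90691) (.node .leaf (124857, 0, 17, 211821) .leaf))) (124858, 0, 14, 166449) (.node (.node (.node .leaf (124859, 0, 17, 144282) .leaf) (124868, 0, 16, 42164) (.node .leaf (124869, 0, 17, 195994) .leaf)) (124870, 0, 17, 216262) (.node (.node .leaf (124871, 0, 15, 71144) .leaf) (124872, 0, 16, 143669) (.node .leaf (124873, 0, 15, 26651) .leaf))))) (124874, 0, 15, 121159) (.node (.node (.node (.node (.node .leaf (124875, 0, 14, 10940) .leaf) (124884, 0, 18, 184898) (.node .leaf (124885, 0, 18, 73335) .leaf)) (124886, 0, 16, 44596) (.node (.node .leaf (124887, 0, 14, 20050) .leaf) (124888, 0, 17, 18371) (.node .leaf (124889, 0, 17, 197324) .leaf))) (124890, 0, 17, 241585) (.node (.node (.node .leaf (124891, 0, 15, 128671) .leaf) (124900, 0, 15, 121278) (.node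 .leaf (124901, 0, 15, 229520) .leaf)) (124902, 0, 17, 122260) (.node (.node .leaf (124903, 0, 15, 81394) .leaf) (124904, 0, 17, 168202) (.node .leaf (124905, 0, 16, 160108) .leaf)))) (124906, 0, 16, 246063) (.node (.node (.node (.node .leaf (124907, 0, 12, 195939) .leaf) (124916, 0, 18, 194020) (.node .leaf (124917, 0, 19, 136578) .leaf)) (124918, 0, 12, 239041) (.node (.node .leaf (124919, 0, 17, 214439) .leaf) (124920, 0, 16, 80585) (.node .leaf (124921, 0, 17, 2361) .leaf))) (124922, 0, 18, 185019) (.node (.node (.node .leaf (124923, 0, 16, 35733) .leaf) (124929, 0, 16, 149565) (.node .leaf (124930, 0, 18, 94524) .leaf)) (124933, 0, 17, 180093) (.node (.node .leaf (124934, 0, 16, 200225) .leaf) (124936, 0, 16, 36291) (.node .leaf (124939, 0, 15, 81280) .leaf))))))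

/-- part of the orbit tree -/
def itp3_413 : Tree := (.node (.node (.node (.node (.node (.node .leaf (124943, 0, 13, 66723) .leaf) (124945, 0, 18, 12392) (.node .leaf (124946, 0, 13, 98347) .leaf)) (124949, 0, 15, 2379) (.node (.node .leaf (124950, 0, 18, 112904) .leaf) (124952, 0, 16, 1316) (.node .leaf (124955, 0, 18, 214485) .leaf))) (124956, 0, 16, 162361) (.node (.node (.node .leaf (124959, 0, 17, 248677) .leaf) (124961, 0, 12, 82888) (.node .leaf (124962, 0, 16, 62347) .leaf)) (124965, 0, 19, 246391) (.node (.node .leaf (124966, 0, 13, 160555) .leaf) (124968, 0, 16, 230966) (.node .leaf (124971, 0, 18, 145013) .leaf)))) (124972, 0, 17, 94661) (.node (.node (.node (.node .leaf (124975, 0, 18, 49305) .leaf) (124977, 0, 16, 248732) (.node .leaf (124978, 0, 14, 166878) .leaf)) (124981, 0, 15, 197310) (.node (.node .leaf (124982, 0, 16, 176893) .leaf) (124984, 0, 17, 96302) (.node .leaf (124987, 0, 18, 51570) .leaf))) (124988, 0, 15, 198451) (.node (.node (.node .leaf (124991, 0, 16, 30467) .leaf) (124993, 0, 17, 74427)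 (.node .leaf (124994, 0, 17, 76214) .leaf)) (124997, 0, 16, 190455) (.node (.node .leaf (124998, 0, 16, 43995) .leaf) (125000, 0, 13, 142168) (.node .leaf (125003, 0, 16, 236036) .leaf))))) (125004, 0, 15, 253542) (.node (.node (.node (.node (.node .leaf (125007, 0, 18, 124185) .leaf) (125009, 0, 17, 219886) (.node .leaf (125010, 0, 17, 191149) .leaf)) (125013, 0, 18, 222157) (.node (.node .leaf (125014, 0, 15, 73821) .leaf) (125016, 0, 13, 106256) (.node .leaf (125019, 0, 16, 12115) .leaf))) (125020, 0, 17, 139955) (.node (.node (.node .leaf (125023, 0, 15, 5744) .leaf) (125025, 0, 15, 141646) (.node .leaf (125026, 0, 7, 235789) .leaf)) (125029, 0, 15, 236285) (.node (.node .leaf (125030, 0, 14, 142241) .leaf) (125032, 0, 13, 218706) (.node .leaf (125035, 0, 18, 190222) .leaf)))) (125036, 0, 15, 54675) (.node (.node (.node (.node .leaf (125039, 0, 16, 91600) .leaf) (125041, 0, 17, 20763) (.node .leaf (125042, 0, 14, 123224) .leaf)) (125045, 0, 17, 125963) (.node (.node .leaf (125046, 0, 16, 120955) .leaf) (125048, 0, 13,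 169189) (.node .leaf (125051, 0, 17, 37368) .leaf))) (125052, 0, 15, 221113) (.node (.node (.node .leaf (125055, 0, 14, 204165) .leaf) (125057, 0, 16, 57143) (.node .leaf (125058, 0, 13, 180565) .leaf)) (125061, 0, 17, 69396) (.node (.node .leaf (125062, 0, 16, 48712) .leaf) (125064, 0, 16, 115643) (.node .leaf (125067, 0, 15, 29415) .leaf))))))

/-- part of the orbit tree -/
def itp3_414 : Tree := (.node (.node (.node (.node (.node (.node .leaf (125071, 0, 18, 234409) .leaf) (125073, 0, 17, 67327) (.node .leaf (125074, 0, 18, 47011) .leaf)) (125077, 0, 15, 227810) (.node (.node .leaf (125078, 0, 15, 208386) .leaf) (125080, 0, 19, 243021) (.node .leaf (125083, 0, 14, 119519) .leaf))) (125084, 0, 14, 23487) (.node (.node (.node .leaf (125087, 0, 14, 31500) .leaf) (125089, 0, 15, 251074) (.node .leaf (125090, 0, 11, 156801) .leaf)) (125093, 0, 18, 29214) (.node (.node .leaf (125094, 0, 16, 115522) .leaf) (125096, 0, 17, 69948) (.node .leaf (125099, 0, 16, 41343) .leaf)))) (125100, 0, 11, 180652) (.node (.node (.node (.node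 .leaf (125103, 0, 14, 39004) .leaf) (125105, 0, 16, 31733) (.node .leaf (125106, 0, 17, 117417) .leaf)) (125109, 0, 18, 103860) (.node (.node .leaf (125110, 0, 16, 243124) .leaf) (125112, 0, 14, 223593) (.node .leaf (125115, 0, 17, 227611) .leaf))) (125116, 0, 17, 46938) (.node (.node (.node .leaf (125119, 0, 16, 67078) .leaf) (125121, 0, 16, 243121) (.node .leaf (125122, 0, 16, 132594) .leaf)) (125125, 0, 16, 87966) (.node (.node .leaf (125126, 0, 17, 146641) .leaf) (125128, 0, 15, 105265) (.node .leaf (125131, 0, 14, 49164) .leaf))))) (125132, 0, 16, 84332) (.node (.node (.node (.node (.node .leaf (125135, 0, 16, 152944) .leaf) (125137, 0, 16, 89717) (.node .leaf (125138, 0, 16, 61225) .leaf)) (125141, 0, 16, 205160) (.node (.node .leaf (125142, 0, 15, 17540) .leaf) (125144, 0, 18, 198682) (.node .leaf (125147, 0, 12, 178265) .leaf))) (125148, 0, 15, 103130) (.node (.node (.node .leaf (125151, 0, 13, 164218) .leaf) (125153, 0, 14, 48708) (.node .leaf (125154, 0, 16, 69127) .leaf)) (125157, 0, 14, 34663) (.node (.node .leaf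 (125158, 0, 18, 79652) .leaf) (125160, 0, 15, 162746) (.node .leaf (125163, 0, 17, 87911) .leaf)))) (125164, 0, 14, 170278) (.node (.node (.node (.node .leaf (125167, 0, 15, 206970) .leaf) (125169, 0, 16, 9087) (.node .leaf (125170, 0, 13, 226898) .leaf)) (125173, 0, 16, 196402) (.node (.node .leaf (125174, 0, 16, 216945) .leaf) (125176, 0, 17, 1007) (.node .leaf (125179, 0, 14, 111532) .leaf))) (125180, 0, 18, 15052) (.node (.node (.node .leaf (125183, 0, 14, 101007) .leaf) (125184, 0, 15, 163501) (.node .leaf (125187, 0, 16, 47724) .leaf)) (125188, 0, 15, 78604) (.node (.node .leaf (125191, 0, 14, 33615) .leaf) (125193, 0, 15, 249809) (.node .leaf (125194, 0, 17, 163730) .leaf))))))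

/-- part of the orbit tree -/
def itp3_415 : Tree := (.node itp3_411 (124810, 0, 13, 98765) itp3_412)

/-- part of the orbit tree -/
def itp3_416 : Tree := (.node itp3_413 (125068, 0, 15, 244902) itp3_414)

/-- part of the orbit tree -/
def itp3_417 : Tree := (.node (.node (.node (.node (.node (.node .leaf (125198, 0, 17, 197470) .leaf) (125200, 0, 17, 2139) (.node .leaf (125203, 0, 17, 112903) .leaf)) (125204, 0, 16, 161606) (.node (.node .leaf (125207, 0, 15, 247322) .leaf) (125209, 0, 16, 112516) (.node .leaf (125210, 0, 18, 199349) .leaf))) (125213, 0, 17, 102055) (.node (.node (.node .leaf (125214, 0, 17, 95656) .leaf) (125216, 0, 17, 197543) (.node .leaf (125219, 0, 16, 176891) .leaf)) (125220, 0, 18, 145657) (.node (.node .leaf (125223, 0, 14, 52710) .leaf) (125225, 0, 15, 110613) (.node .leaf (125226, 0, 12, 95335) .leaf)))) (125229, 0, 17, 64775) (.node (.node (.node (.node .leaf (125230, 0, 15, 163412) .leaf) (125232, 0, 17, 95569) (.node .leaf (125235, 0, 17, 117196) .leaf)) (125236, 0, 16, 199244) (.node (.node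 .leaf (125239, 0, 16, 178960) .leaf) (125241, 0, 16, 179313) (.node .leaf (125242, 0, 15, 199730) .leaf))) (125245, 0, 14, 113150) (.node (.node (.node .leaf (125246, 0, 17, 210193) .leaf) (125248, 0, 18, 155817) (.node .leaf (125251, 0, 16, 250090) .leaf)) (125252, 0, 17, 153994) (.node (.node .leaf (125255, 0, 15, 125030) .leaf) (125257, 0, 17, 38293) (.node .leaf (125258, 0, 17, 74953) .leaf))))) (125261, 0, 16, 40052) (.node (.node (.node (.node (.node .leaf (125262, 0, 14, 76855) .leaf) (125264, 0, 17, 6396) (.node .leaf (125267, 0, 15, 123277) .leaf)) (125268, 0, 16, 143308) (.node (.node .leaf (125271, 0, 16, 102812) .leaf) (125273, 0, 16, 189283) (.node .leaf (125274, 0, 17, 217663) .leaf))) (125277, 0, 18, 189473) (.node (.node (.node .leaf (125278, 0, 16, 77090) .leaf) (125280, 0, 16, 219949) (.node .leaf (125283, 0, 17, 56095) .leaf)) (125284, 0, 14, 74800) (.node (.node .leaf (125287, 0, 16, 38252) .leaf) (125289, 0, 15, 125087) (.node .leaf (125290, 0, 16, 138977) .leaf)))) (125293, 0, 13, 235393) (.node (.node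 (.node (.node .leaf (125294, 0, 16, 141250) .leaf) (125296, 0, 15, 201481) (.node .leaf (125299, 0, 16, 40071) .leaf)) (125300, 0, 18, 207402) (.node (.node .leaf (125303, 0, 16, 170601) .leaf) (125305, 0, 15, 237161) (.node .leaf (125306, 0, 15, 26292) .leaf))) (125309, 0, 15, 126932) (.node (.node (.node .leaf (125310, 0, 16, 20520) .leaf) (125312, 0, 14, 118468) (.node .leaf (125315, 0, 16, 32664) .leaf)) (125316, 0, 14, 238598) (.node (.node .leaf (125319, 0, 15, 136261) .leaf) (125321, 0, 15, 228726) (.node .leaf (125322, 0, 17, 59544) .leaf))))))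

/-- part of the orbit tree -/
def itp3_418 : Tree := (.node (.node (.node (.node (.node (.node .leaf (125326, 0, 15, 45879) .leaf) (125328, 0, 16, 243762) (.node .leaf (125331, 0, 15, 21811) .leaf)) (125332, 0, 15, 121939) (.node (.node .leaf (125335, 0, 17, 30323) .leaf) (125337, 0, 12, 68480) (.node .leaf (125338, 0, 17, 47836) .leaf))) (125341, 0, 17, 226461) (.node (.node (.node .leaf (125342, 0, 16, 174574) .leaf) (125344, 0, 17, 38608) (.node .leaf (125347, 0, 17, 66194) .leaf)) (125348, 0, 18, 45043) (.node (.node .leaf (125351, 0, 16, 73648) .leaf) (125353, 0, 16, 152366) (.node .leaf (125354, 0, 16, 241952) .leaf)))) (125357, 0, 17, 32609) (.node (.node (.node (.node .leaf (125358, 0, 14, 118333) .leaf) (125360, 0, 15, 181560) (.node .leaf (125363, 0, 16, 226404) .leaf)) (125364, 0, 17, 47653) (.node (.node .leaf (125367, 0, 15, 223205) .leaf) (125369, 0, 8, 11131) (.node .leaf (125370, 0, 16, 116694) .leaf))) (125373, 0, 15, 4696) (.node (.node (.node .leaf (125374, 0, 14, 243915) .leaf) (125376, 0, 16, 63395)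 (.node .leaf (125379, 0, 14, 83936) .leaf)) (125380, 0, 15, 52864) (.node (.node .leaf (125383, 0, 10, 97987) .leaf) (125385, 0, 16, 143965) (.node .leaf (125386, 0, 16, 229918) .leaf))))) (125389, 0, 14, 88801) (.node (.node (.node (.node (.node .leaf (125390, 0, 16, 60349) .leaf) (125392, 0, 15, 167926) (.node .leaf (125395, 0, 17, 212917) .leaf)) (125396, 0, 16, 177877) (.node (.node .leaf (125399, 0, 13, 12025) .leaf) (125401, 0, 16, 86794) (.node .leaf (125402, 0, 15, 129611) .leaf))) (125405, 0, 15, 29483) (.node (.node (.node .leaf (125406, 0, 16, 171339) .leaf) (125408, 0, 16, 60228) (.node .leaf (125411, 0, 19, 88600) .leaf)) (125412, 0, 17, 247157) (.node (.node .leaf (125415, 0, 11, 206085) .leaf) (125417, 0, 13, 80296) (.node .leaf (125418, 0, 17, 256426) .leaf)))) (125421, 0, 17, 10219) (.node (.node (.node (.node .leaf (125422, 0, 14, 104119) .leaf) (125424, 0, 17, 99331) (.node .leaf (125427, 0, 15, 208110) .leaf)) (125428, 0, 18, 58031) (.node (.node .leaf (125431, 0, 14, 3427) .leaf) (125433, 0, 18, 11776)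 (.node .leaf (125434, 0, 15, 192958) .leaf))) (125437, 0, 16, 227550) (.node (.node (.node .leaf (125438, 0, 15, 182429) .leaf) (125440, 0, 14, 171106) (.node .leaf (125441, 0, 18, 156749) .leaf)) (125444, 0, 17, 58239) (.node (.node .leaf (125445, 0, 16, 154990) .leaf) (125450, 0, 17, 127382) (.node .leaf (125451, 0, 17, 247714) .leaf))))))

/-- part of the orbit tree -/
def itp3_419 : Tree := (.node (.node (.node (.node (.node (.node .leaf (125455, 0, 16, 112831) .leaf) (125456, 0, 10, 60052) (.node .leaf (125457, 0, 17, 177082) .leaf)) (125460, 0, 18, 50525) (.node (.node .leaf (125461, 0, 16, 52391) .leaf) (125466, 0, 16, 231875) (.node .leaf (125467, 0, 16, 110932) .leaf))) (125470, 0, 18, 104295) (.node (.node (.node .leaf (125471, 0, 13, 249417) .leaf) (125472, 0, 14, 102366) (.node .leaf (125473, 0, 17, 94136) .leaf)) (125476, 0, 15, 106101) (.node (.node .leaf (125477, 0, 15, 247643) .leaf) (125482, 0, 17, 195171) (.node .leaf (125483, 0, 18, 137733) .leaf)))) (125486, 0, 14, 171163) (.node (.node (.node (.node .leaf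 (125487, 0, 18, 140070) .leaf) (125488, 0, 14, 104350) (.node .leaf (125489, 0, 11, 202733) .leaf)) (125492, 0, 18, 256131) (.node (.node .leaf (125493, 0, 15, 111021) .leaf) (125498, 0, 16, 169328) (.node .leaf (125499, 0, 17, 52318) .leaf))) (125502, 0, 14, 47893) (.node (.node (.node .leaf (125503, 0, 17, 23411) .leaf) (125504, 0, 17, 126637) (.node .leaf (125505, 0, 17, 40390) .leaf)) (125508, 0, 17, 120718) (.node (.node .leaf (125509, 0, 17, 189147) .leaf) (125514, 0, 16, 170768) (.node .leaf (125515, 0, 18, 237352) .leaf))))) (125518, 0, 18, 243995) (.node (.node (.node (.node (.node .leaf (125519, 0, 12, 122933) .leaf) (125520, 0, 18, 235256) (.node .leaf (125521, 0, 15, 226974) .leaf)) (125524, 0, 12, 183555) (.node (.node .leaf (125525, 0, 17, 37933) .leaf) (125530, 0, 13, 241904) (.node .leaf (125531, 0, 15, 803) .leaf))) (125534, 0, 13, 55910) (.node (.node (.node .leaf (125535, 0, 14, 14848) .leaf) (125536, 0, 18, 244194) (.node .leaf (125537, 0, 17, 123084) .leaf)) (125540, 0, 15, 187515) (.node (.node .leaf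 (125541, 0, 18, 237521) .leaf) (125546, 0, 16, 102629) (.node .leaf (125547, 0, 17, 94339) .leaf)))) (125550, 0, 17, 181265) (.node (.node (.node (.node .leaf (125551, 0, 17, 84384) .leaf) (125552, 0, 17, 118548) (.node .leaf (125553, 0, 16, 32107) .leaf)) (125556, 0, 18, 241673) (.node (.node .leaf (125557, 0, 15, 125223) .leaf) (125562, 0, 15, 256176) (.node .leaf (125563, 0, 18, 198870) .leaf))) (125566, 0, 15, 45799) (.node (.node (.node .leaf (125567, 0, 13, 209397) .leaf) (125568, 0, 15, 76811) (.node .leaf (125569, 0, 18, 62279) .leaf)) (125572, 0, 15, 10754) (.node (.node .leaf (125573, 0, 16, 51812) .leaf) (125578, 0, 15, 143077) (.node .leaf (125579, 0, 9, 30667) .leaf))))))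

/-- part of the orbit tree -/
def itp3_420 : Tree := (.node (.node (.node (.node (.node (.node .leaf (125583, 0, 19, 245721) .leaf) (125584, 0, 15, 219901) (.node .leaf (125585, 0, 16, 66515) .leaf)) (125588, 0, 14, 75232) (.node (.node .leaf (125589, 0, 14, 228558) .leaf) (125594, 0, 18, 73417) (.node .leaf (125595, 0, 17, 130735) .leaf))) (125598, 0, 15, 141070) (.node (.node (.node .leaf (125599, 0, 16, 116620) .leaf) (125600, 0, 16, 202964) (.node .leaf (125601, 0, 12, 133167) .leaf)) (125604, 0, 15, 142876) (.node (.node .leaf (125605, 0, 17, 30514) .leaf) (125610, 0, 15, 218095) (.node .leaf (125611, 0, 15, 36111) .leaf)))) (125614, 0, 17, 21578) (.node (.node (.node (.node .leaf (125615, 0, 15, 226780) .leaf) (125616, 0, 16, 141303) (.node .leaf (125617, 0, 15, 32473) .leaf)) (125620, 0, 16, 88482) (.node (.node .leaf (125621, 0, 17, 113092) .leaf) (125626, 0, 8, 75033) (.node .leaf (125627, 0, 17, 228407) .leaf))) (125630, 0, 19, 219652) (.node (.node (.node .leaf (125631, 0, 14, 66346) .leaf) (125632, 0, 17, 227751)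 (.node .leaf (125633, 0, 13, 235969) .leaf)) (125636, 0, 13, 213124) (.node (.node .leaf (125637, 0, 14, 237794) .leaf) (125642, 0, 17, 161391) (.node .leaf (125643, 0, 15, 60540) .leaf))))) (125646, 0, 16, 13625) (.node (.node (.node (.node (.node .leaf (125647, 0, 17, 151644) .leaf) (125648, 0, 19, 197239) (.node .leaf (125649, 0, 17, 123284) .leaf)) (125652, 0, 18, 80081) (.node (.node .leaf (125653, 0, 17, 121015) .leaf) (125658, 0, 15, 153) (.node .leaf (125659, 0, 17, 154039) .leaf))) (125662, 0, 19, 163716) (.node (.node (.node .leaf (125663, 0, 16, 175370) .leaf) (125664, 0, 14, 29266) (.node .leaf (125665, 0, 16, 151717) .leaf)) (125668, 0, 12, 19313) (.node (.node .leaf (125669, 0, 15, 43799) .leaf) (125674, 0, 19, 198639) (.node .leaf (125675, 0, 17, 86603) .leaf)))) (125678, 0, 18, 95352) (.node (.node (.node (.node .leaf (125679, 0, 13, 253610) .leaf) (125680, 0, 15, 133639) (.node .leaf (125681, 0, 15, 191073) .leaf)) (125684, 0, 16, 144164) (.node (.node .leaf (125685, 0, 16, 185154) .leaf) (125690, 0, 17,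 98234) (.node .leaf (125691, 0, 17, 106460) .leaf))) (125694, 0, 11, 83609) (.node (.node (.node .leaf (125695, 0, 16, 88992) .leaf) (125698, 0, 18, 30330) (.node .leaf (125699, 0, 16, 248541) .leaf)) (125702, 0, 14, 20313) (.node (.node .leaf (125703, 0, 16, 44863) .leaf) (125704, 0, 16, 197575) .leaf)))))

/-- part of the orbit tree -/
def itp3_421 : Tree := (.node itp3_417 (125325, 0, 16, 90616) itp3_418)

/-- part of the orbit tree -/
def itp3_422 : Tree := (.node itp3_419 (125582, 0, 17, 20984) itp3_420)

/-- part of the orbit tree -/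
def itp3_423 : Tree := (.node itp3_415 (124940, 0, 17, 46304) itp3_416)

/-- part of the orbit tree -/
def itp3_424 : Tree := (.node itp3_421 (125454, 0, 14, 116917) itp3_422)

/-- part of the orbit tree -/
def itp3_425 : Tree := (.node (.node (.node (.node (.node (.node .leaf (125708, 0, 16, 211684) .leaf) (125709, 0, 15, 252546) (.node .leaf (125714, 0, 15, 255237) .leaf)) (125715, 0, 16, 113707) (.node (.node .leaf (125718, 0, 16, 145164) .leaf) (125719, 0, 15, 186218) (.node .leaf (125720, 0, 16, 59371) .leaf))) (125721, 0, 17, 105460) (.node (.node (.node .leaf (125724, 0, 15, 170230) .leaf) (125725, 0, 14, 107223) (.node .leaf (125730, 0, 17, 228751) .leaf)) (125731, 0, 17, 237033) (.node (.node .leaf (125734, 0, 15, 214188) .leaf) (125735, 0, 16, 51402) (.node .leaf (125736, 0, 15, 2098) .leaf)))) (125737, 0, 16, 111929) (.node (.node (.node (.node .leaf (125740, 0, 17, 103178) .leaf) (125741, 0, 16, 248356) (.node .leaf (125746, 0, 11, 67034) .leaf)) (125747, 0, 18, 49441) (.node (.node .leaf (125750, 0, 17, 59154)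 .leaf) (125751, 0, 16, 179772) (.node .leaf (125752, 0, 17, 159847) .leaf))) (125753, 0, 14, 246735) (.node (.node (.node .leaf (125756, 0, 14, 255484) .leaf) (125757, 0, 17, 113874) (.node .leaf (125762, 0, 17, 117625) .leaf)) (125763, 0, 15, 261274) (.node (.node .leaf (125766, 0, 18, 206303) .leaf) (125767, 0, 17, 126282) (.node .leaf (125768, 0, 18, 26945) .leaf))))) (125769, 0, 13, 35111) (.node (.node (.node (.node (.node .leaf (125772, 0, 15, 20578) .leaf) (125773, 0, 16, 192420) (.node .leaf (125778, 0, 13, 91305) .leaf)) (125779, 0, 15, 99535) (.node (.node .leaf (125782, 0, 18, 115346) .leaf) (125783, 0, 14, 236476) (.node .leaf (125784, 0, 16, 135444) .leaf))) (125785, 0, 16, 192882) (.node (.node (.node .leaf (125788, 0, 15, 141367) .leaf) (125789, 0, 16, 182353) (.node .leaf (125794, 0, 17, 46707) .leaf)) (125795, 0, 17, 192349) (.node (.node .leaf (125798, 0, 18, 11818) .leaf) (125799, 0, 17, 36928) (.node .leaf (125800, 0, 18, 242845) .leaf)))) (125801, 0, 15, 126387) (.node (.node (.node (.node .leaf (125804,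 0, 16, 117632) .leaf) (125805, 0, 13, 244721) (.node .leaf (125810, 0, 15, 180357) .leaf)) (125811, 0, 18, 39339) (.node (.node .leaf (125814, 0, 17, 49048) .leaf) (125815, 0, 17, 177689) (.node .leaf (125816, 0, 16, 72417) .leaf))) (125817, 0, 16, 236357) (.node (.node (.node .leaf (125820, 0, 18, 74690) .leaf) (125821, 0, 17, 115620) (.node .leaf (125826, 0, 19, 140186) .leaf)) (125827, 0, 12, 31412) (.node (.node .leaf (125830, 0, 17, 186451) .leaf) (125831, 0, 14, 145461) (.node .leaf (125832, 0, 17, 74100) .leaf))))))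

/-- part of the orbit tree -/
def itp3_426 : Tree := (.node (.node (.node (.node (.node (.node .leaf (125836, 0, 14, 220777) .leaf) (125837, 0, 16, 85384) (.node .leaf (125842, 0, 18, 39205) .leaf)) (125843, 0, 17, 31043) (.node (.node .leaf (125846, 0, 18, 40966) .leaf) (125847, 0, 19, 16480) (.node .leaf (125848, 0, 14, 257176) .leaf))) (125849, 0, 15, 199934) (.node (.node (.node .leaf (125852, 0, 12, 75935) .leaf) (125853, 0, 14, 210397) (.node .leaf (125858, 0, 17, 125573) .leaf)) (125859, 0, 13, 67518) (.node (.node .leaf (125862, 0, 18, 74125) .leaf) (125863, 0, 14, 227491) (.node .leaf (125864, 0, 18, 171832) .leaf)))) (125865, 0, 17, 132432) (.node (.node (.node (.node .leaf (125868, 0, 15, 173595) .leaf) (125869, 0, 19, 31309) (.node .leaf (125874, 0, 17, 234192) .leaf)) (125875, 0, 17, 225974) (.node (.node .leaf (125878, 0, 17, 219003) .leaf) (125879, 0, 16, 69205) (.node .leaf (125880, 0, 16, 141960) .leaf))) (125881, 0, 16, 1803) (.node (.node (.node .leaf (125884, 0, 14, 21909) .leaf) (125885, 0, 17, 15912)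 (.node .leaf (125890, 0, 17, 101366) .leaf)) (125891, 0, 17, 93072) (.node (.node .leaf (125894, 0, 17, 1037) .leaf) (125895, 0, 16, 154915) (.node .leaf (125896, 0, 15, 196171) .leaf))))) (125897, 0, 14, 205008) (.node (.node (.node (.node (.node .leaf (125900, 0, 16, 182120) .leaf) (125901, 0, 15, 141070) (.node .leaf (125906, 0, 15, 3558) .leaf)) (125907, 0, 19, 201669) (.node (.node .leaf (125910, 0, 13, 160507) .leaf) (125911, 0, 13, 207590) (.node .leaf (125912, 0, 15, 200456) .leaf))) (125913, 0, 15, 26232) (.node (.node (.node .leaf (125916, 0, 15, 94229) .leaf) (125917, 0, 16, 207163) (.node .leaf (125922, 0, 14, 198170) .leaf)) (125923, 0, 17, 155749) (.node (.node .leaf (125926, 0, 15, 178464) .leaf) (125927, 0, 12, 153926) (.node .leaf (125928, 0, 16, 1268) .leaf)))) (125929, 0, 11, 155098) (.node (.node (.node (.node .leaf (125932, 0, 18, 117917) .leaf) (125933, 0, 16, 8903) (.node .leaf (125938, 0, 15, 94444) .leaf)) (125939, 0, 16, 6192) (.node (.node .leaf (125942, 0, 15, 49525) .leaf) (125943, 0, 16, 87775)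 (.node .leaf (125944, 0, 17, 232939) .leaf))) (125945, 0, 16, 11052) (.node (.node (.node .leaf (125948, 0, 15, 242888) .leaf) (125949, 0, 15, 152625) (.node .leaf (125952, 0, 17, 103610) .leaf)) (125954, 0, 19, 163016) (.node (.node .leaf (125956, 0, 17, 232400) .leaf) (125958, 0, 17, 187381) (.node .leaf (125961, 0, 18, 96013) .leaf))))))

/-- part of the orbit tree -/
def itp3_427 : Tree := (.node (.node (.node (.node (.node (.node .leaf (125965, 0, 14, 88085) .leaf) (125967, 0, 17, 7691) (.node .leaf (125968, 0, 17, 254540) .leaf)) (125970, 0, 16, 2622) (.node (.node .leaf (125972, 0, 18, 105809) .leaf) (125974, 0, 9, 41888) (.node .leaf (125977, 0, 13, 200536) .leaf))) (125979, 0, 15, 155517) (.node (.node (.node .leaf (125981, 0, 16, 208611) .leaf) (125983, 0, 18, 50833) (.node .leaf (125984, 0, 16, 47366) .leaf)) (125986, 0, 17, 125219) (.node (.node .leaf (125988, 0, 14, 32805) .leaf) (125990, 0, 17, 98015) (.node .leaf (125993, 0, 13, 154114) .leaf)))) (125995, 0, 16, 208093) (.node (.node (.node (.node .leaf (125997,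 0, 16, 9503) .leaf) (125999, 0, 9, 202238) (.node .leaf (126000, 0, 18, 171846) .leaf)) (126002, 0, 15, 233846) (.node (.node .leaf (126004, 0, 16, 57435) .leaf) (126006, 0, 16, 198697) (.node .leaf (126009, 0, 11, 1197) .leaf))) (126011, 0, 18, 87176) (.node (.node (.node .leaf (126013, 0, 18, 15758) .leaf) (126015, 0, 17, 93611) (.node .leaf (126016, 0, 14, 117808) .leaf)) (126018, 0, 15, 100432) (.node (.node .leaf (126020, 0, 15, 242477) .leaf) (126022, 0, 16, 110963) (.node .leaf (126025, 0, 15, 138635) .leaf))))) (126027, 0, 16, 216494) (.node (.node (.node (.node (.node .leaf (126029, 0, 15, 140456) .leaf) (126031, 0, 18, 226445) (.node .leaf (126032, 0, 15, 244422) .leaf)) (126034, 0, 14, 21172) (.node (.node .leaf (126036, 0, 17, 116187) .leaf) (126038, 0, 16, 142761) (.node .leaf (126041, 0, 13, 67956) .leaf))) (126043, 0, 16, 79355) (.node (.node (.node .leaf (126045, 0, 14, 23805) .leaf) (126047, 0, 17, 40475) (.node .leaf (126048, 0, 15, 250752) .leaf)) (126050, 0, 13, 219464) (.node (.node .leaf (126052, 0,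 17, 183847) .leaf) (126054, 0, 19, 178822) (.node .leaf (126057, 0, 16, 131720) .leaf)))) (126059, 0, 16, 18011) (.node (.node (.node (.node .leaf (126061, 0, 14, 32149) .leaf) (126063, 0, 17, 32632) (.node .leaf (126064, 0, 19, 182220) .leaf)) (126066, 0, 17, 77758) (.node (.node .leaf (126068, 0, 17, 47313) .leaf) (126070, 0, 15, 49875) (.node .leaf (126073, 0, 19, 29822) .leaf))) (126075, 0, 18, 146958) (.node (.node (.node .leaf (126077, 0, 16, 133987) .leaf) (126079, 0, 17, 132909) (.node .leaf (126080, 0, 14, 75257) .leaf)) (126082, 0, 16, 30172) (.node (.node .leaf (126084, 0, 16, 23502) .leaf) (126086, 0, 17, 19711) (.node .leaf (126089, 0, 16, 253959) .leaf))))))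

/-- part of the orbit tree -/
def itp3_428 : Tree := (.node (.node (.node (.node (.node (.node .leaf (126093, 0, 16, 190588) .leaf) (126095, 0, 17, 166145) (.node .leaf (126096, 0, 15, 21029) .leaf)) (126098, 0, 17, 244311) (.node (.node .leaf (126100, 0, 14, 222351) .leaf) (126102, 0, 10, 144554) (.node .leaf (126105, 0, 17, 188823) .leaf))) (126107, 0, 17, 68069) (.node (.node (.node .leaf (126109, 0, 16, 106865) .leaf) (126111, 0, 12, 61780) (.node .leaf (126112, 0, 18, 219609) .leaf)) (126114, 0, 14, 45483) (.node (.node .leaf (126116, 0, 16, 137007) .leaf) (126118, 0, 15, 183990) (.node .leaf (126121, 0, 16, 60402) .leaf)))) (126123, 0, 15, 113623) (.node (.node (.node (.node .leaf (126125, 0, 13, 53969) .leaf) (126127, 0, 13, 99060) (.node .leaf (126128, 0, 15, 77615) .leaf)) (126130, 0, 14, 67196) (.node (.node .leaf (126132, 0, 18, 217138) .leaf) (126134, 0, 16, 47168) (.node .leaf (126137, 0, 16, 168871) .leaf))) (126139, 0, 15, 246658) (.node (.node (.node .leaf (126141, 0, 17, 174724) .leaf) (126143, 0, 17, 260769)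 (.node .leaf (126144, 0, 14, 151423) .leaf)) (126146, 0, 16, 204634) (.node (.node .leaf (126148, 0, 15, 836) .leaf) (126150, 0, 16, 206457) (.node .leaf (126153, 0, 16, 53227) .leaf))))) (126155, 0, 17, 206745) (.node (.node (.node (.node (.node .leaf (126157, 0, 16, 176374) .leaf) (126159, 0, 13, 88196) (.node .leaf (126160, 0, 14, 14122) .leaf)) (126162, 0, 16, 91919) (.node (.node .leaf (126164, 0, 16, 3593) .leaf) (126166, 0, 17, 105920) (.node .leaf (126169, 0, 14, 178461) .leaf))) (126171, 0, 17, 86383) (.node (.node (.node .leaf (126173, 0, 16, 183287) .leaf) (126175, 0, 16, 208498) (.node .leaf (126176, 0, 12, 83082) .leaf)) (126178, 0, 17, 5295) (.node (.node .leaf (126180, 0, 16, 97870) .leaf) (126182, 0, 16, 169532) (.node .leaf (126185, 0, 14, 229748) .leaf)))) (126187, 0, 16, 154259) (.node (.node (.node (.node .leaf (126189, 0, 16, 249340) .leaf) (126191, 0, 13, 190578) (.node .leaf (126192, 0, 14, 96165) .leaf)) (126194, 0, 17, 158970) (.node (.node .leaf (126196, 0, 17, 198840) .leaf) (126198, 0, 15, 57546)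 (.node .leaf (126201, 0, 14, 246807) .leaf))) (126203, 0, 13, 11365) (.node (.node (.node .leaf (126205, 0, 17, 113418) .leaf) (126207, 0, 16, 36903) (.node .leaf (126209, 0, 15, 207479) .leaf)) (126211, 0, 15, 106692) (.node (.node .leaf (126213, 0, 17, 87402) .leaf) (126215, 0, 16, 104935) (.node .leaf (126216, 0, 15, 144671) .leaf))))))

/-- part of the orbit tree -/
def itp3_429 : Tree := (.node itp3_425 (125833, 0, 15, 95403) itp3_426)

/-- part of the orbit tree -/
def itp3_430 : Tree := (.node itp3_427 (126091, 0, 17, 176162) itp3_428)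

/-- part of the orbit tree -/
def itp3_431 : Tree := (.node (.node (.node (.node (.node (.node .leaf (126220, 0, 15, 255704) .leaf) (126222, 0, 17, 3754) (.node .leaf (126225, 0, 17, 166068) .leaf)) (126227, 0, 17, 252049) (.node (.node .leaf (126229, 0, 16, 205724) .leaf) (126231, 0, 16, 254386) (.node .leaf (126232, 0, 17, 19786) .leaf))) (126234, 0, 15, 1857) (.node (.node (.node .leaf (126236, 0, 15, 102446) .leaf) (126238, 0, 12, 161884) (.node .leaf (126241, 0, 15, 153469) .leaf)) (126243, 0, 17, 114447) (.node (.node .leaf (126245, 0, 15, 10336) .leaf) (126247, 0, 13, 245778) (.node .leaf (126248, 0, 15, 81642) .leaf)))) (126250, 0, 16, 199869) (.node (.node (.node (.node .leaf (126252, 0, 10, 170962) .leaf) (126254, 0, 13, 95136) (.node .leaf (126257, 0, 17, 8587) .leaf)) (126259, 0, 16, 248313) (.node (.node .leaf (126261, 0, 18, 113250) .leaf) (126263, 0, 11, 112356) (.node .leaf (126264, 0, 19, 214719) .leaf))) (126266, 0, 16, 136858) (.node (.node (.node .leaf (126268, 0, 16, 229276) .leaf) (126270, 0, 16, 143289)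 (.node .leaf (126273, 0, 14, 226045) .leaf)) (126275, 0, 13, 39567) (.node (.node .leaf (126277, 0, 16, 69088) .leaf) (126279, 0, 16, 193377) (.node .leaf (126280, 0, 15, 90009) .leaf))))) (126282, 0, 16, 141629) (.node (.node (.node (.node (.node .leaf (126284, 0, 18, 245330) .leaf) (126286, 0, 18, 13983) (.node .leaf (126289, 0, 15, 123442) .leaf)) (126291, 0, 13, 191609) (.node (.node .leaf (126293, 0, 15, 121617) .leaf) (126295, 0, 18, 37732) (.node .leaf (126296, 0, 16, 243641) .leaf))) (126298, 0, 16, 24523) (.node (.node (.node .leaf (126300, 0, 16, 116900) .leaf) (126302, 0, 12, 139478) (.node .leaf (126305, 0, 14, 37266) .leaf)) (126307, 0, 11, 115127) (.node (.node .leaf (126309, 0, 15, 28906) .leaf) (126311, 0, 15, 129172) (.node .leaf (126312, 0, 17, 48197) .leaf)))) (126314, 0, 17, 197705) (.node (.node (.node (.node .leaf (126316, 0, 15, 181080) .leaf) (126318, 0, 16, 76586) (.node .leaf (126321, 0, 17, 190919) .leaf)) (126323, 0, 18, 244194) (.node (.node .leaf (126325, 0, 10, 132636) .leaf) (126327, 0, 16,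 229569) (.node .leaf (126328, 0, 8, 11321) .leaf))) (126330, 0, 17, 97308) (.node (.node (.node .leaf (126332, 0, 12, 46510) .leaf) (126334, 0, 18, 83263) (.node .leaf (126337, 0, 16, 39454) .leaf)) (126339, 0, 17, 210894) (.node (.node .leaf (126341, 0, 15, 189699) .leaf) (126343, 0, 18, 200429) (.node .leaf (126344, 0, 14, 141740) .leaf))))))

/-- part of the orbit tree -/
def itp3_432 : Tree := (.node (.node (.node (.node (.node (.node .leaf (126348, 0, 17, 39734) .leaf) (126350, 0, 16, 117523) (.node .leaf (126353, 0, 19, 8126) .leaf)) (126355, 0, 17, 85915) (.node (.node .leaf (126357, 0, 17, 37877) .leaf) (126359, 0, 17, 228231) (.node .leaf (126360, 0, 16, 186944) .leaf))) (126362, 0, 15, 232037) (.node (.node (.node .leaf (126364, 0, 16, 189283) .leaf) (126366, 0, 14, 242502) (.node .leaf (126369, 0, 10, 124692) .leaf)) (126371, 0, 12, 15419) (.node (.node .leaf (126373, 0, 17, 235529) .leaf) (126375, 0, 18, 28795) (.node .leaf (126376, 0, 15, 240096) .leaf)))) (126378, 0, 18, 195013) (.node (.node (.node (.node .leaf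 (126380, 0, 17, 76731) .leaf) (126382, 0, 17, 181193) (.node .leaf (126385, 0, 16, 201803) .leaf)) (126387, 0, 14, 148590) (.node (.node .leaf (126389, 0, 16, 126719) .leaf) (126391, 0, 14, 163149) (.node .leaf (126392, 0, 16, 119221) .leaf))) (126394, 0, 18, 33168) (.node (.node (.node .leaf (126396, 0, 16, 125078) .leaf) (126398, 0, 18, 46399) (.node .leaf (126401, 0, 16, 49812) .leaf)) (126403, 0, 13, 207590) (.node (.node .leaf (126405, 0, 16, 179593) .leaf) (126407, 0, 14, 25707) (.node .leaf (126408, 0, 16, 247955) .leaf))))) (126410, 0, 14, 170166) (.node (.node (.node (.node (.node .leaf (126412, 0, 19, 258480) .leaf) (126414, 0, 17, 255561) (.node .leaf (126417, 0, 16, 177250) .leaf)) (126419, 0, 13, 89104) (.node (.node .leaf (126421, 0, 13, 52095) .leaf) (126423, 0, 16, 138302) (.node .leaf (126424, 0, 16, 2000) .leaf))) (126426, 0, 16, 257954) (.node (.node (.node .leaf (126428, 0, 18, 100837) .leaf) (126430, 0, 15, 55744) (.node .leaf (126433, 0, 17, 114590) .leaf)) (126435, 0, 19, 153580) (.node (.node .leaf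 (126437, 0, 14, 147387) .leaf) (126439, 0, 18, 225182) (.node .leaf (126440, 0, 15, 50022) .leaf)))) (126442, 0, 18, 103235) (.node (.node (.node (.node .leaf (126444, 0, 15, 95025) .leaf) (126446, 0, 17, 170819) (.node .leaf (126449, 0, 17, 248168) .leaf)) (126451, 0, 18, 8474) (.node (.node .leaf (126453, 0, 16, 112245) .leaf) (126455, 0, 16, 71627) (.node .leaf (126456, 0, 15, 178995) .leaf))) (126458, 0, 16, 256790) (.node (.node (.node .leaf (126460, 0, 11, 198087) .leaf) (126462, 0, 17, 60853) (.node .leaf (126472, 0, 17, 97034) .leaf)) (126473, 0, 17, 88957) (.node (.node .leaf (126474, 0, 17, 60222) .leaf) (126475, 0, 14, 51798) (.node .leaf (126476, 0, 14, 197655) .leaf))))))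

/-- part of the orbit tree -/
def itp3_433 : Tree := (.node (.node (.node (.node (.node (.node .leaf (126478, 0, 16, 60517) .leaf) (126479, 0, 16, 12923) (.node .leaf (126488, 0, 18, 200188) .leaf)) (126489, 0, 17, 87250) (.node (.node .leaf (126490, 0, 17, 58766) .leaf) (126491, 0, 17, 179360) (.node .leaf (126492, 0, 15, 94945) .leaf))) (126493, 0, 17, 207823) (.node (.node (.node .leaf (126494, 0, 8, 170643) .leaf) (126495, 0, 17, 150062) (.node .leaf (126504, 0, 16, 176366) .leaf)) (126505, 0, 16, 151688) (.node (.node .leaf (126506, 0, 17, 254155) .leaf) (126507, 0, 16, 196781) (.node .leaf (126508, 0, 17, 162077) .leaf)))) (126509, 0, 18, 158123) (.node (.node (.node (.node .leaf (126510, 0, 17, 102767) .leaf) (126511, 0, 17, 211342) (.node .leaf (126520, 0, 15, 51387) .leaf)) (126521, 0, 16, 10712) (.node (.node .leaf (126522, 0, 18, 104606) .leaf) (126523, 0, 14, 96504) (.node .leaf (126524, 0, 17, 61848) .leaf))) (126525, 0, 14, 4606) (.node (.node (.node .leaf (126526, 0, 13, 255897) .leaf) (126527, 0, 18, 82395)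 (.node .leaf (126536, 0, 17, 184733) .leaf)) (126537, 0, 16, 143867) (.node (.node .leaf (126538, 0, 14, 183282) .leaf) (126539, 0, 15, 221662) (.node .leaf (126540, 0, 17, 220317) .leaf))))) (126541, 0, 17, 66995) (.node (.node (.node (.node (.node .leaf (126542, 0, 17, 46319) .leaf) (126543, 0, 18, 191937) (.node .leaf (126552, 0, 17, 43464) .leaf)) (126553, 0, 16, 18862) (.node (.node .leaf (126554, 0, 17, 129517) .leaf) (126555, 0, 15, 72075) (.node .leaf (126556, 0, 19, 37099) .leaf))) (126557, 0, 15, 226117) (.node (.node (.node .leaf (126558, 0, 14, 180761) .leaf) (126559, 0, 16, 73896) (.node .leaf (126568, 0, 11, 24202) .leaf)) (126569, 0, 14, 133028) (.node (.node .leaf (126570, 0, 16, 243448) .leaf) (126571, 0, 16, 27179) (.node .leaf (126572, 0, 10, 139671) .leaf)))) (126573, 0, 14, 66349) (.node (.node (.node (.node .leaf (126574, 0, 15, 45934) .leaf) (126575, 0, 16, 21256) (.node .leaf (126584, 0, 17, 141436) .leaf)) (126585, 0, 10, 29010) (.node (.node .leaf (126586, 0, 14, 114702) .leaf) (126587, 0, 16, 135806)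 (.node .leaf (126588, 0, 17, 236318) .leaf))) (126589, 0, 16, 134735) (.node (.node (.node .leaf (126590, 0, 18, 183099) .leaf) (126591, 0, 17, 142173) (.node .leaf (126600, 0, 15, 207889) .leaf)) (126601, 0, 18, 248951) (.node (.node .leaf (126602, 0, 18, 74513) .leaf) (126603, 0, 10, 227903) (.node .leaf (126604, 0, 12, 46206) .leaf))))))

/-- part of the orbit tree -/
def itp3_434 : Tree := (.node (.node (.node (.node (.node (.node .leaf (126606, 0, 16, 148759) .leaf) (126607, 0, 13, 66850) (.node .leaf (126616, 0, 13, 48533) .leaf)) (126617, 0, 16, 111650) (.node (.node .leaf (126618, 0, 15, 218599) .leaf) (126619, 0, 16, 68809) (.node .leaf (126620, 0, 14, 180872) .leaf))) (126621, 0, 12, 39846) (.node (.node (.node .leaf (126622, 0, 16, 76538) .leaf) (126623, 0, 13, 56612) (.node .leaf (126632, 0, 15, 10212) .leaf)) (126633, 0, 15, 126791) (.node (.node .leaf (126634, 0, 17, 24091) .leaf) (126635, 0, 17, 132917) (.node .leaf (126636, 0, 17, 117108) .leaf)))) (126637, 0, 16, 65185) (.node (.node (.node (.node .leaf (126638,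 0, 18, 85730) .leaf) (126639, 0, 13, 30760) (.node .leaf (126648, 0, 18, 155569) .leaf)) (126649, 0, 17, 235953) (.node (.node .leaf (126650, 0, 16, 141549) .leaf) (126651, 0, 16, 258034) (.node .leaf (126652, 0, 14, 157330) .leaf))) (126653, 0, 18, 165620) (.node (.node (.node .leaf (126654, 0, 13, 22512) .leaf) (126655, 0, 18, 134878) (.node .leaf (126664, 0, 17, 168937) .leaf)) (126665, 0, 17, 42737) (.node (.node .leaf (126666, 0, 18, 71346) .leaf) (126667, 0, 18, 128724) (.node .leaf (126668, 0, 16, 60660) .leaf))))) (126669, 0, 15, 177626) (.node (.node (.node (.node (.node .leaf (126670, 0, 16, 197766) .leaf) (126671, 0, 15, 118775) (.node .leaf (126680, 0, 14, 58655) .leaf)) (126681, 0, 15, 188068) (.node (.node .leaf (126682, 0, 16, 224999) .leaf) (126683, 0, 15, 233089) (.node .leaf (126684, 0, 15, 170498) .leaf))) (126685, 0, 17, 49964) (.node (.node (.node .leaf (126686, 0, 16, 219076) .leaf) (126687, 0, 17, 207710) (.node .leaf (126696, 0, 17, 257763) .leaf)) (126697, 0, 15, 112589) (.node (.node .leaf (126698,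 0, 17, 1681) .leaf) (126699, 0, 14, 155583) (.node .leaf (126700, 0, 14, 226369) .leaf)))) (126701, 0, 14, 248016) (.node (.node (.node (.node .leaf (126702, 0, 16, 162188) .leaf) (126703, 0, 17, 8354) (.node .leaf (126712, 0, 16, 79159) .leaf)) (126713, 0, 17, 246075) (.node (.node .leaf (126714, 0, 17, 159847) .leaf) (126715, 0, 15, 10569) (.node .leaf (126716, 0, 15, 255752) .leaf))) (126717, 0, 18, 114214) (.node (.node (.node .leaf (126718, 0, 13, 23601) .leaf) (126719, 0, 15, 153172) (.node .leaf (126720, 0, 18, 95861) .leaf)) (126721, 0, 17, 56465) (.node (.node .leaf (126722, 0, 16, 171527) .leaf) (126723, 0, 18, 50985) .leaf)))))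

/-- part of the orbit tree -/
def itp3_435 : Tree := (.node itp3_431 (126346, 0, 17, 127536) itp3_432)

/-- part of the orbit tree -/
def itp3_436 : Tree := (.node itp3_433 (126605, 0, 17, 259412) itp3_434)

/-- part of the orbit tree -/
def itp3_437 : Tree := (.node itp3_429 (125963, 0, 16, 53114) itp3_430)

/-- part of the orbit tree -/
def itp3_438 : Tree := (.node itp3_435 (126477, 0, 18, 90718) itp3_436)

/-- part of the orbit tree -/
def itp3_439 : Tree := (.node itp3_423 (125197, 0, 15, 176642) itp3_424)

/-- part of the orbit tree -/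
def itp3_440 : Tree := (.node itp3_437 (126218, 0, 16, 160183) itp3_438)

/-- part of the orbit tree -/
def itp3_441 : Tree := (.node itp3_409 (123661, 0, 14, 193041) itp3_410)

/-- part of the orbit tree -/
def itp3_442 : Tree := (.node itp3_439 (125705, 0, 15, 51251) itp3_440)

/-- part of the orbit tree -/
def itp3_443 : Tree := (.node (.node (.node (.node (.node (.node .leaf (126725, 0, 17, 58802) .leaf) (126726, 0, 13, 57626) (.node .leaf (126727, 0, 14, 178228) .leaf)) (126736, 0, 15, 148642) (.node (.node .leaf (126737, 0, 15, 173252) .leaf) (126738, 0, 15, 201863) (.node .leaf (126739, 0, 15, 176607) .leaf))) (126740, 0, 16, 163201) (.node (.node (.node .leaf (126741, 0, 17, 171495) .leaf) (126742, 0, 15, 169964) (.node .leaf (126743, 0, 16, 249282) .leaf)) (126752, 0, 17, 210690) (.node (.node .leaf (126753, 0, 18, 251748) .leaf) (126754, 0, 15, 157479) (.node .leaf (126755, 0, 15, 165697) .leaf)))) (126756, 0, 16, 200225) (.node (.node (.node (.node .leaf (126757, 0, 16, 257607) .leaf) (126758, 0, 12, 155140) (.node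 .leaf (126759, 0, 14, 179810) .leaf)) (126768, 0, 14, 85847) (.node (.node .leaf (126769, 0, 14, 110385) .leaf) (126770, 0, 16, 103931) (.node .leaf (126771, 0, 16, 65300) .leaf))) (126772, 0, 17, 660) (.node (.node (.node .leaf (126773, 0, 14, 154554) .leaf) (126774, 0, 16, 9809) (.node .leaf (126775, 0, 14, 50743) .leaf)) (126784, 0, 18, 77567) (.node (.node .leaf (126785, 0, 18, 243223) .leaf) (126786, 0, 16, 132692) (.node .leaf (126787, 0, 18, 40867) .leaf))))) (126788, 0, 16, 225106) (.node (.node (.node (.node (.node .leaf (126789, 0, 18, 67788) .leaf) (126790, 0, 16, 47504) (.node .leaf (126791, 0, 14, 188177) .leaf)) (126800, 0, 16, 219145) (.node (.node .leaf (126801, 0, 16, 118338) .leaf) (126802, 0, 10, 32257) (.node .leaf (126803, 0, 16, 40551) .leaf))) (126804, 0, 14, 71431) (.node (.node (.node .leaf (126805, 0, 17, 228922) .leaf) (126806, 0, 14, 18210) (.node .leaf (126807, 0, 15, 42820) .leaf)) (126816, 0, 16, 21493) (.node (.node .leaf (126817, 0, 11, 133851) .leaf) (126818, 0, 17, 244615) (.node .leaf (126819,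 0, 15, 126407) .leaf)))) (126820, 0, 18, 142568) (.node (.node (.node (.node .leaf (126821, 0, 17, 30150) .leaf) (126822, 0, 14, 78978) (.node .leaf (126823, 0, 15, 236980) .leaf)) (126832, 0, 14, 140753) (.node (.node .leaf (126833, 0, 13, 31789) .leaf) (126834, 0, 18, 118129) (.node .leaf (126835, 0, 17, 234591) .leaf))) (126836, 0, 15, 23070) (.node (.node (.node .leaf (126837, 0, 16, 131888) .leaf) (126838, 0, 18, 216279) (.node .leaf (126839, 0, 17, 240817) .leaf)) (126848, 0, 16, 181788) (.node (.node .leaf (126849, 0, 16, 40754) .leaf) (126850, 0, 15, 77422) (.node .leaf (126851, 0, 17, 227136) .leaf))))))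

/-- part of the orbit tree -/
def itp3_444 : Tree := (.node (.node (.node (.node (.node (.node .leaf (126853, 0, 12, 188463) .leaf) (126854, 0, 17, 246523) (.node .leaf (126855, 0, 16, 205469) .leaf)) (126864, 0, 15, 45290) (.node (.node .leaf (126865, 0, 15, 190916) .leaf) (126866, 0, 13, 99213) (.node .leaf (126867, 0, 15, 91115) .leaf))) (126868, 0, 16, 60043) (.node (.node (.node .leaf (126869, 0, 9, 2797) .leaf) (126870, 0, 17, 75653) (.node .leaf (126871, 0, 17, 88776) .leaf)) (126880, 0, 15, 106504) (.node (.node .leaf (126881, 0, 16, 123448) .leaf) (126882, 0, 12, 61485) (.node .leaf (126883, 0, 12, 133706) .leaf)))) (126884, 0, 15, 115723) (.node (.node (.node (.node .leaf (126885, 0, 19, 96589) .leaf) (126886, 0, 15, 51470) (.node .leaf (126887, 0, 15, 10600) .leaf)) (126896, 0, 17, 118240) (.node (.node .leaf (126897, 0, 18, 234702) .leaf) (126898, 0, 16, 140690) (.node .leaf (126899, 0, 15, 31932) .leaf))) (126900, 0, 17, 254334) (.node (.node (.node .leaf (126901, 0, 15, 196888) .leaf) (126902, 0, 16, 176475)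 (.node .leaf (126903, 0, 14, 132001) .leaf)) (126912, 0, 18, 115067) (.node (.node .leaf (126913, 0, 15, 51128) .leaf) (126914, 0, 10, 37214) (.node .leaf (126915, 0, 16, 208842) .leaf))))) (126916, 0, 15, 129112) (.node (.node (.node (.node (.node .leaf (126917, 0, 15, 178341) .leaf) (126918, 0, 12, 199161) (.node .leaf (126919, 0, 14, 86231) .leaf)) (126928, 0, 17, 59488) (.node (.node .leaf (126929, 0, 13, 219464) .leaf) (126930, 0, 17, 190731) (.node .leaf (126931, 0, 14, 133485) .leaf))) (126932, 0, 14, 169853) (.node (.node (.node .leaf (126933, 0, 15, 52819) .leaf) (126934, 0, 16, 98063) (.node .leaf (126935, 0, 15, 143438) .leaf)) (126944, 0, 16, 254876) (.node (.node .leaf (126945, 0, 17, 142056) .leaf) (126946, 0, 14, 236203) (.node .leaf (126947, 0, 15, 152256) .leaf)))) (126948, 0, 14, 105601) (.node (.node (.node (.node .leaf (126949, 0, 15, 136139) .leaf) (126950, 0, 16, 238472) (.node .leaf (126951, 0, 16, 213998) .leaf)) (126960, 0, 12, 103786) (.node (.node .leaf (126961, 0, 15, 21181) .leaf) (126962, 0,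 15, 123646) (.node .leaf (126963, 0, 15, 66200) .leaf))) (126964, 0, 17, 256631) (.node (.node (.node .leaf (126965, 0, 13, 27550) .leaf) (126966, 0, 16, 121821) (.node .leaf (126967, 0, 16, 154411) .leaf)) (126977, 0, 19, 87850) (.node (.node .leaf (126978, 0, 16, 58998) .leaf) (126980, 0, 19, 129654) (.node .leaf (126983, 0, 16, 18997) .leaf))))))

/-- part of the orbit tree -/
def itp3_445 : Tree := (.node (.node (.node (.node (.node (.node .leaf (126986, 0, 12, 177896) .leaf) (126988, 0, 16, 105349) (.node .leaf (126991, 0, 17, 10969) .leaf)) (126993, 0, 15, 220006) (.node (.node .leaf (126994, 0, 15, 191269) .leaf) (126996, 0, 18, 229923) (.node .leaf (126999, 0, 16, 177843) .leaf))) (127001, 0, 17, 98046) (.node (.node (.node .leaf (127002, 0, 18, 52925) .leaf) (127004, 0, 13, 257395) (.node .leaf (127007, 0, 15, 154671) .leaf)) (127009, 0, 15, 141510) (.node (.node .leaf (127010, 0, 16, 105340) .leaf) (127012, 0, 18, 192899) (.node .leaf (127015, 0, 15, 213440) .leaf)))) (127017, 0, 18, 3422) (.node (.node (.node (.node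 .leaf (127018, 0, 14, 94688) .leaf) (127020, 0, 15, 54299) (.node .leaf (127023, 0, 17, 88019) .leaf)) (127025, 0, 15, 154838) (.node (.node .leaf (127026, 0, 14, 123088) .leaf) (127028, 0, 15, 35286) (.node .leaf (127031, 0, 18, 80277) .leaf))) (127033, 0, 15, 161035) (.node (.node (.node .leaf (127034, 0, 17, 198422) .leaf) (127036, 0, 16, 175182) (.node .leaf (127039, 0, 15, 205093) .leaf)) (127041, 0, 16, 69536) (.node (.node .leaf (127042, 0, 13, 260598) .leaf) (127044, 0, 16, 168176) (.node .leaf (127047, 0, 15, 39119) .leaf))))) (127049, 0, 17, 27693) (.node (.node (.node (.node (.node .leaf (127050, 0, 15, 121966) .leaf) (127052, 0, 15, 115471) (.node .leaf (127055, 0, 17, 66859) .leaf)) (127057, 0, 16, 12768) (.node (.node .leaf (127058, 0, 17, 98723) .leaf) (127060, 0, 18, 59557) (.node .leaf (127063, 0, 17, 88294) .leaf))) (127065, 0, 15, 136312) (.node (.node (.node .leaf (127066, 0, 18, 238651) .leaf) (127068, 0, 17, 243193) (.node .leaf (127071, 0, 17, 228734) .leaf)) (127073, 0, 18, 82496) (.node (.node .leaf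 (127074, 0, 15, 115702) .leaf) (127076, 0, 17, 105221) (.node .leaf (127079, 0, 18, 124357) .leaf)))) (127081, 0, 14, 223192) (.node (.node (.node (.node .leaf (127082, 0, 15, 186267) .leaf) (127084, 0, 15, 48645) (.node .leaf (127087, 0, 16, 69465) .leaf)) (127089, 0, 13, 211477) (.node (.node .leaf (127090, 0, 16, 166486) .leaf) (127092, 0, 18, 139887) (.node .leaf (127095, 0, 17, 152339) .leaf))) (127097, 0, 13, 192192) (.node (.node (.node .leaf (127098, 0, 14, 221084) .leaf) (127100, 0, 18, 182515) (.node .leaf (127103, 0, 15, 30347) .leaf)) (127105, 0, 16, 242745) (.node (.node .leaf (127106, 0, 16, 218655) .leaf) (127108, 0, 16, 180592) (.node .leaf (127111, 0, 18, 225324) .leaf))))))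

/-- part of the orbit tree -/
def itp3_446 : Tree := (.node (.node (.node (.node (.node (.node .leaf (127114, 0, 17, 244867) .leaf) (127116, 0, 17, 84196) (.node .leaf (127119, 0, 17, 63655) .leaf)) (127121, 0, 15, 37301) (.node (.node .leaf (127122, 0, 16, 73961) .leaf) (127124, 0, 16, 70953) (.node .leaf (127127, 0, 17, 67290) .leaf))) (127129, 0, 16, 31529) (.node (.node (.node .leaf (127130, 0, 15, 117365) .leaf) (127132, 0, 13, 23834) (.node .leaf (127135, 0, 17, 126022) .leaf)) (127137, 0, 13, 49100) (.node (.node .leaf (127138, 0, 18, 142101) .leaf) (127140, 0, 16, 26249) (.node .leaf (127143, 0, 15, 120522) .leaf)))) (127145, 0, 16, 170580) (.node (.node (.node (.node .leaf (127146, 0, 14, 180617) .leaf) (127148, 0, 14, 148241) (.node .leaf (127151, 0, 19, 190394) .leaf)) (127153, 0, 17, 182169) (.node (.node .leaf (127154, 0, 13, 24035) .leaf) (127156, 0, 17, 117388) (.node .leaf (127159, 0, 16, 241311) .leaf))) (127161, 0, 12, 57857) (.node (.node (.node .leaf (127162, 0, 18, 46975) .leaf) (127164, 0, 17, 73744)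 (.node .leaf (127167, 0, 16, 37196) .leaf)) (127169, 0, 18, 180169) (.node (.node .leaf (127170, 0, 17, 93948) .leaf) (127172, 0, 17, 170490) (.node .leaf (127175, 0, 17, 207014) .leaf))))) (127177, 0, 17, 152917) (.node (.node (.node (.node (.node .leaf (127178, 0, 12, 254985) .leaf) (127180, 0, 16, 139874) (.node .leaf (127183, 0, 15, 246330) .leaf)) (127185, 0, 13, 173802) (.node (.node .leaf (127186, 0, 15, 96355) .leaf) (127188, 0, 18, 61196) (.node .leaf (127191, 0, 15, 249836) .leaf))) (127193, 0, 15, 33650) (.node (.node (.node .leaf (127194, 0, 14, 78641) .leaf) (127196, 0, 16, 1424) (.node .leaf (127199, 0, 13, 111820) .leaf)) (127201, 0, 18, 251210) (.node (.node .leaf (127202, 0, 15, 156937) .leaf) (127204, 0, 17, 199695) (.node .leaf (127207, 0, 18, 179276) .leaf)))) (127209, 0, 16, 127186) (.node (.node (.node (.node .leaf (127210, 0, 18, 16529) .leaf) (127212, 0, 18, 76183) (.node .leaf (127215, 0, 16, 180016) .leaf)) (127217, 0, 16, 111669) (.node (.node .leaf (127218, 0, 16, 7516) .leaf) (127220, 0, 14, 95322)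 (.node .leaf (127223, 0, 15, 9050) .leaf))) (127225, 0, 16, 89769) (.node (.node (.node .leaf (127226, 0, 19, 61429) .leaf) (127228, 0, 16, 96410) (.node .leaf (127231, 0, 16, 188801) .leaf)) (127232, 0, 16, 256487) (.node (.node .leaf (127235, 0, 18, 250210) .leaf) (127237, 0, 16, 249812) (.node .leaf (127238, 0, 14, 198695) .leaf))))))

/-- part of the orbit tree -/
def itp3_447 : Tree := (.node itp3_443 (126852, 0, 17, 168670) itp3_444)

/-- part of the orbit tree -/
def itp3_448 : Tree := (.node itp3_445 (127113, 0, 15, 134623) itp3_446)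

/-- part of the orbit tree -/
def itp3_449 : Tree := (.node (.node (.node (.node (.node (.node .leaf (127243, 0, 17, 176679) .leaf) (127245, 0, 16, 40444) (.node .leaf (127246, 0, 17, 168980) .leaf)) (127248, 0, 14, 106257) (.node (.node .leaf (127251, 0, 12, 108855) .leaf) (127253, 0, 14, 112930) (.node .leaf (127254, 0, 17, 2174) .leaf))) (127256, 0, 16, 146668) (.node (.node (.node .leaf (127259, 0, 16, 50385) .leaf) (127261, 0, 14, 189865) (.node .leaf (127262, 0, 17, 58082) .leaf)) (127264, 0, 16, 169197) (.node (.node .leaf (127267, 0, 18, 55959) .leaf) (127269, 0, 18, 176862) (.node .leaf (127270, 0, 16, 978) .leaf)))) (127272, 0, 14, 163441) (.node (.node (.node (.node .leaf (127275, 0, 17, 196367) .leaf) (127277, 0, 15, 153666) (.node .leaf (127278, 0, 14, 140874) .leaf)) (127280, 0, 18, 201345) (.node (.node .leaf (127283, 0, 15, 86855) .leaf) (127285, 0, 12, 50216) (.node .leaf (127286, 0, 17, 95604) .leaf))) (127288, 0, 15, 79641) (.node (.node (.node .leaf (127291, 0, 12, 113115) .leaf) (127293, 0, 17, 11956)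 (.node .leaf (127294, 0, 13, 24095) .leaf)) (127296, 0, 17, 68519) (.node (.node .leaf (127299, 0, 18, 48100) .leaf) (127301, 0, 16, 119522) (.node .leaf (127302, 0, 15, 25249) .leaf))))) (127304, 0, 16, 208447) (.node (.node (.node (.node (.node .leaf (127307, 0, 17, 191149) .leaf) (127309, 0, 17, 228802) (.node .leaf (127310, 0, 10, 149305) .leaf)) (127312, 0, 16, 116635) (.node (.node .leaf (127315, 0, 16, 30407) .leaf) (127317, 0, 16, 240311) (.node .leaf (127318, 0, 16, 20724) .leaf))) (127320, 0, 12, 77063) (.node (.node (.node .leaf (127323, 0, 17, 58921) .leaf) (127325, 0, 17, 102191) (.node .leaf (127326, 0, 17, 16236) .leaf)) (127328, 0, 17, 131154) (.node (.node .leaf (127331, 0, 16, 241681) .leaf) (127333, 0, 16, 191060) (.node .leaf (127334, 0, 16, 219912) .leaf)))) (127336, 0, 18, 141051) (.node (.node (.node (.node .leaf (127339, 0, 14, 103817) .leaf) (127341, 0, 16, 131272) (.node .leaf (127342, 0, 15, 242068) .leaf)) (127344, 0, 18, 47761) (.node (.node .leaf (127347, 0, 18, 116804) .leaf) (127349, 0, 15,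 41282) (.node .leaf (127350, 0, 17, 69889) .leaf))) (127352, 0, 16, 20493) (.node (.node (.node .leaf (127355, 0, 14, 257500) .leaf) (127357, 0, 13, 165082) (.node .leaf (127358, 0, 18, 210073) .leaf)) (127360, 0, 16, 22926) (.node (.node .leaf (127363, 0, 17, 125138) .leaf) (127365, 0, 17, 32701) (.node .leaf (127366, 0, 16, 106285) .leaf))))))

/-- part of the orbit tree -/
def itp3_450 : Tree := (.node (.node (.node (.node (.node (.node .leaf (127371, 0, 15, 66126) .leaf) (127373, 0, 15, 38177) (.node .leaf (127374, 0, 16, 74877) .leaf)) (127376, 0, 17, 167550) (.node (.node .leaf (127379, 0, 11, 237092) .leaf) (127381, 0, 17, 133451) (.node .leaf (127382, 0, 16, 255864) .leaf))) (127384, 0, 16, 181732) (.node (.node (.node .leaf (127387, 0, 16, 226488) .leaf) (127389, 0, 17, 189399) (.node .leaf (127390, 0, 14, 217739) .leaf)) (127392, 0, 17, 261598) (.node (.node .leaf (127395, 0, 15, 150941) .leaf) (127397, 0, 14, 205979) (.node .leaf (127398, 0, 18, 46059) .leaf)))) (127400, 0, 17, 118296) (.node (.node (.node (.node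 .leaf (127403, 0, 18, 26629) .leaf) (127405, 0, 17, 65795) (.node .leaf (127406, 0, 18, 22903) .leaf)) (127408, 0, 14, 217714) (.node (.node .leaf (127411, 0, 14, 189230) .leaf) (127413, 0, 13, 89294) (.node .leaf (127414, 0, 16, 60557) .leaf))) (127416, 0, 17, 243950) (.node (.node (.node .leaf (127419, 0, 17, 133554) .leaf) (127421, 0, 17, 237277) (.node .leaf (127422, 0, 10, 182549) .leaf)) (127424, 0, 16, 236717) (.node (.node .leaf (127427, 0, 14, 110680) .leaf) (127429, 0, 19, 10039) (.node .leaf (127430, 0, 18, 104043) .leaf))))) (127432, 0, 14, 112949) (.node (.node (.node (.node (.node .leaf (127435, 0, 11, 2422) .leaf) (127437, 0, 17, 90224) (.node .leaf (127438, 0, 18, 97527) .leaf)) (127440, 0, 10, 124152) (.node (.node .leaf (127443, 0, 16, 21691) .leaf) (127445, 0, 11, 81341) (.node .leaf (127446, 0, 17, 254109) .leaf))) (127448, 0, 19, 171374) (.node (.node (.node .leaf (127451, 0, 14, 207922) .leaf) (127453, 0, 13, 202789) (.node .leaf (127454, 0, 17, 199169) .leaf)) (127456, 0, 17, 38744) (.node (.node .leaf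 (127459, 0, 17, 75547) .leaf) (127461, 0, 16, 88637) (.node .leaf (127462, 0, 16, 60257) .leaf)))) (127464, 0, 17, 104082) (.node (.node (.node (.node .leaf (127467, 0, 15, 197251) .leaf) (127469, 0, 14, 110753) (.node .leaf (127470, 0, 17, 509) .leaf)) (127472, 0, 14, 192269) (.node (.node .leaf (127475, 0, 17, 221006) .leaf) (127477, 0, 17, 208075) (.node .leaf (127478, 0, 17, 171415) .leaf))) (127480, 0, 13, 51861) (.node (.node (.node .leaf (127483, 0, 12, 151864) .leaf) (127485, 0, 15, 5072) (.node .leaf (127486, 0, 16, 161547) .leaf)) (127488, 0, 17, 126757) (.node (.node .leaf (127489, 0, 17, 69443) .leaf) (127494, 0, 17, 34339) (.node .leaf (127495, 0, 18, 50537) .leaf))))))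

/-- part of the orbit tree -/
def itp3_451 : Tree := (.node (.node (.node (.node (.node (.node .leaf (127497, 0, 18, 112794) .leaf) (127502, 0, 15, 172987) (.node .leaf (127503, 0, 17, 148445) .leaf)) (127504, 0, 17, 235376) (.node (.node .leaf (127505, 0, 17, 227094) .leaf) (127510, 0, 18, 196214) (.node .leaf (127511, 0, 13, 177055) .leaf))) (127512, 0, 18, 111336) (.node (.node (.node .leaf (127513, 0, 17, 249452) .leaf) (127518, 0, 15, 45) (.node .leaf (127519, 0, 14, 153859) .leaf)) (127520, 0, 14, 161314) (.node (.node .leaf (127521, 0, 18, 12044) .leaf) (127526, 0, 13, 232918) (.node .leaf (127527, 0, 13, 224688) .leaf)))) (127528, 0, 14, 171198) (.node (.node (.node (.node .leaf (127529, 0, 17, 8494) .leaf) (127534, 0, 18, 199633) (.node .leaf (127535, 0, 14, 86783) .leaf)) (127536, 0, 16, 212) (.node (.node .leaf (127537, 0, 18, 154106) .leaf) (127542, 0, 16, 128387) (.node .leaf (127543, 0, 16, 249493) .leaf))) (127544, 0, 14, 178461) (.node (.node (.node .leaf (127545, 0, 18, 153979) .leaf) (127550, 0, 17, 97575)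 (.node .leaf (127551, 0, 17, 209021) .leaf)) (127552, 0, 13, 165283) (.node (.node .leaf (127553, 0, 16, 157125) .leaf) (127558, 0, 14, 181453) (.node .leaf (127559, 0, 17, 40419) .leaf))))) (127560, 0, 14, 244030) (.node (.node (.node (.node (.node .leaf (127561, 0, 16, 122896) .leaf) (127566, 0, 18, 142929) (.node .leaf (127567, 0, 18, 30591) .leaf)) (127568, 0, 16, 65014) (.node (.node .leaf (127569, 0, 14, 7568) .leaf) (127574, 0, 17, 45627) (.node .leaf (127575, 0, 17, 191253) .leaf))) (127576, 0, 14, 186478) (.node (.node (.node .leaf (127577, 0, 15, 235238) .leaf) (127582, 0, 17, 22695) (.node .leaf (127583, 0, 12, 217358) .leaf)) (127584, 0, 16, 143016) (.node (.node .leaf (127585, 0, 14, 30598) .leaf) (127590, 0, 14, 244167) (.node .leaf (127591, 0, 13, 123113) .leaf)))) (127592, 0, 11, 181300) (.node (.node (.node (.node .leaf (127593, 0, 16, 40218) .leaf) (127598, 0, 18, 217947) (.node .leaf (127599, 0, 15, 68213) .leaf)) (127600, 0, 16, 259587) (.node (.node .leaf (127601, 0, 12, 202341) .leaf) (127606, 0, 14,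 171781) (.node .leaf (127607, 0, 14, 235039) .leaf))) (127608, 0, 18, 119707) (.node (.node (.node .leaf (127609, 0, 17, 191468) .leaf) (127614, 0, 14, 47773) (.node .leaf (127615, 0, 17, 228483) .leaf)) (127616, 0, 17, 227375) (.node (.node .leaf (127617, 0, 15, 235593) .leaf) (127622, 0, 14, 76846) (.node .leaf (127623, 0, 15, 192847) .leaf))))))

/-- part of the orbit tree -/
def itp3_452 : Tree := (.node (.node (.node (.node (.node (.node .leaf (127625, 0, 11, 133363) .leaf) (127630, 0, 17, 116402) (.node .leaf (127631, 0, 16, 237468) .leaf)) (127632, 0, 15, 183735) (.node (.node .leaf (127633, 0, 16, 122908) .leaf) (127638, 0, 18, 219864) (.node .leaf (127639, 0, 15, 35098) .leaf))) (127640, 0, 17, 141099) (.node (.node (.node .leaf (127641, 0, 16, 32261) .leaf) (127646, 0, 14, 241732) (.node .leaf (127647, 0, 17, 125290) .leaf)) (127648, 0, 14, 116299) (.node (.node .leaf (127649, 0, 15, 237413) .leaf) (127654, 0, 18, 20772) (.node .leaf (127655, 0, 16, 129722) .leaf)))) (127656, 0, 15, 77015) (.node (.node (.node (.node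 .leaf (127657, 0, 17, 177700) .leaf) (127662, 0, 12, 212804) (.node .leaf (127663, 0, 9, 189078) .leaf)) (127664, 0, 15, 134031) (.node (.node .leaf (127665, 0, 16, 125331) .leaf) (127670, 0, 15, 141266) (.node .leaf (127671, 0, 17, 230127) .leaf))) (127672, 0, 15, 11799) (.node (.node (.node .leaf (127673, 0, 16, 52849) .leaf) (127678, 0, 18, 183630) (.node .leaf (127679, 0, 11, 108407) .leaf)) (127680, 0, 16, 58315) (.node (.node .leaf (127681, 0, 11, 178917) .leaf) (127686, 0, 16, 97199) (.node .leaf (127687, 0, 18, 105417) .leaf))))) (127688, 0, 15, 2391) (.node (.node (.node (.node (.node .leaf (127689, 0, 17, 186199) .leaf) (127694, 0, 16, 106040) (.node .leaf (127695, 0, 14, 247574) .leaf)) (127696, 0, 16, 169277) (.node (.node .leaf (127697, 0, 17, 166554) .leaf) (127702, 0, 16, 197202) (.node .leaf (127703, 0, 15, 88956) .leaf))) (127704, 0, 18, 20324) (.node (.node (.node .leaf (127705, 0, 18, 44802) .leaf) (127710, 0, 17, 256206) (.node .leaf (127711, 0, 16, 116228) .leaf)) (127712, 0, 18, 106177) (.node (.node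 .leaf (127713, 0, 15, 247791) .leaf) (127718, 0, 15, 159834) (.node .leaf (127719, 0, 15, 151680) .leaf)))) (127720, 0, 18, 81092) (.node (.node (.node (.node .leaf (127721, 0, 18, 208243) .leaf) (127726, 0, 17, 21954) (.node .leaf (127727, 0, 16, 46500) .leaf)) (127728, 0, 17, 256055) (.node (.node .leaf (127729, 0, 16, 98671) .leaf) (127734, 0, 13, 2063) (.node .leaf (127735, 0, 12, 59497) .leaf))) (127736, 0, 16, 214161) (.node (.node (.node .leaf (127737, 0, 17, 238839) .leaf) (127742, 0, 18, 142743) (.node .leaf (127743, 0, 14, 183793) .leaf)) (127746, 0, 16, 1209) (.node (.node .leaf (127747, 0, 17, 261394) .leaf) (127748, 0, 15, 160882) .leaf)))))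

/-- part of the orbit tree -/
def itp3_453 : Tree := (.node itp3_449 (127368, 0, 18, 45842) itp3_450)

/-- part of the orbit tree -/
def itp3_454 : Tree := (.node itp3_451 (127624, 0, 16, 89527) itp3_452)

/-- part of the orbit tree -/
def itp3_455 : Tree := (.node itp3_447 (126985, 0, 17, 198315) itp3_448)

/-- part of the orbit tree -/
def itp3_456 : Tree := (.node itp3_453 (127496, 0, 17, 248509) itp3_454)

/-- part of the orbit tree -/
def itp3_457 : Tree := (.node (.node (.node (.node (.node (.node .leaf (127754, 0, 17, 60965) .leaf) (127755, 0, 15, 120970) (.node .leaf (127756, 0, 14, 20970) .leaf)) (127757, 0, 18, 45452) (.node (.node .leaf (127762, 0, 15, 160335) .leaf) (127763, 0, 14, 11105) (.node .leaf (127764, 0, 14, 255264) .leaf))) (127765, 0, 18, 60481) (.node (.node (.node .leaf (127770, 0, 18, 170195) .leaf) (127771, 0, 12, 237791) (.node .leaf (127772, 0, 18, 200636) .leaf)) (127773, 0, 17, 87698) (.node (.node .leaf (127778, 0, 16, 5761) .leaf) (127779, 0, 15, 63207) (.node .leaf (127780, 0, 17, 61148)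 .leaf)))) (127781, 0, 17, 106465) (.node (.node (.node (.node .leaf (127786, 0, 12, 103215) .leaf) (127787, 0, 16, 248321) (.node .leaf (127788, 0, 18, 219679) .leaf)) (127789, 0, 16, 154990) (.node (.node .leaf (127794, 0, 17, 200517) .leaf) (127795, 0, 12, 167602) (.node .leaf (127796, 0, 16, 198610) .leaf))) (127797, 0, 16, 255924) (.node (.node (.node .leaf (127802, 0, 17, 255449) .leaf) (127803, 0, 14, 43818) (.node .leaf (127804, 0, 16, 74314) .leaf)) (127805, 0, 16, 11160) (.node (.node .leaf (127810, 0, 15, 23603) .leaf) (127811, 0, 15, 38804) (.node .leaf (127812, 0, 18, 73460) .leaf))))) (127813, 0, 14, 130706) (.node (.node (.node (.node (.node .leaf (127818, 0, 17, 152170) .leaf) (127819, 0, 17, 192385) (.node .leaf (127820, 0, 17, 211820) .leaf)) (127821, 0, 15, 227566) (.node (.node .leaf (127826, 0, 15, 142021) .leaf) (127827, 0, 15, 29675) (.node .leaf (127828, 0, 14, 222881) .leaf))) (127829, 0, 16, 231111) (.node (.node (.node .leaf (127834, 0, 17, 10815) .leaf) (127835, 0, 18, 39287) (.node .leaf (127836,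 0, 17, 82745) .leaf)) (127837, 0, 16, 107359) (.node (.node .leaf (127842, 0, 13, 228359) .leaf) (127843, 0, 15, 236641) (.node .leaf (127844, 0, 13, 136449) .leaf)))) (127845, 0, 17, 193895) (.node (.node (.node (.node .leaf (127850, 0, 16, 117669) .leaf) (127851, 0, 14, 113145) (.node .leaf (127852, 0, 16, 12441) .leaf)) (127853, 0, 13, 53503) (.node (.node .leaf (127858, 0, 17, 66642) .leaf) (127859, 0, 14, 69345) (.node .leaf (127860, 0, 16, 180384) .leaf))) (127861, 0, 17, 39310) (.node (.node (.node .leaf (127866, 0, 17, 245075) .leaf) (127867, 0, 16, 124029) (.node .leaf (127868, 0, 14, 149708) .leaf)) (127869, 0, 17, 174250) (.node (.node .leaf (127874, 0, 17, 100990) .leaf) (127875, 0, 17, 92696) (.node .leaf (127876, 0, 12, 58232) .leaf))))))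

/-- part of the orbit tree -/
def itp3_458 : Tree := (.node (.node (.node (.node (.node (.node .leaf (127882, 0, 17, 241638) .leaf) (127883, 0, 16, 216960) (.node .leaf (127884, 0, 17, 182563) .leaf)) (127885, 0, 16, 140934) (.node (.node .leaf (127890, 0, 10, 258603) .leaf) (127891, 0, 12, 236296) (.node .leaf (127892, 0, 14, 21833) .leaf))) (127893, 0, 17, 162635) (.node (.node (.node .leaf (127898, 0, 16, 120755) .leaf) (127899, 0, 14, 79829) (.node .leaf (127900, 0, 17, 48821) .leaf)) (127901, 0, 18, 24275) (.node (.node .leaf (127906, 0, 15, 182746) .leaf) (127907, 0, 16, 37108) (.node .leaf (127908, 0, 16, 256141) .leaf)))) (127909, 0, 14, 198891) (.node (.node (.node (.node .leaf (127914, 0, 16, 140102) .leaf) (127915, 0, 16, 17525) (.node .leaf (127916, 0, 15, 118037) .leaf)) (127917, 0, 17, 126215) (.node (.node .leaf (127922, 0, 18, 63966) .leaf) (127923, 0, 15, 189954) (.node .leaf (127924, 0, 17, 102616) .leaf))) (127925, 0, 15, 94398) (.node (.node (.node .leaf (127930, 0, 14, 21936) .leaf) (127931, 0, 17, 134302)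 (.node .leaf (127932, 0, 17, 115423) .leaf)) (127933, 0, 15, 218406) (.node (.node .leaf (127938, 0, 17, 257114) .leaf) (127939, 0, 17, 131230) (.node .leaf (127940, 0, 17, 162613) .leaf))))) (127941, 0, 12, 223640) (.node (.node (.node (.node (.node .leaf (127946, 0, 16, 198342) .leaf) (127947, 0, 13, 9478) (.node .leaf (127948, 0, 12, 109670) .leaf)) (127949, 0, 14, 84992) (.node (.node .leaf (127954, 0, 8, 105132) .leaf) (127955, 0, 15, 246658) (.node .leaf (127956, 0, 19, 3523) .leaf))) (127957, 0, 17, 70093) (.node (.node (.node .leaf (127962, 0, 15, 179509) .leaf) (127963, 0, 18, 154963) (.node .leaf (127964, 0, 13, 59231) .leaf)) (127965, 0, 16, 179825) (.node (.node .leaf (127970, 0, 16, 125709) .leaf) (127971, 0, 18, 68459) (.node .leaf (127972, 0, 19, 33291) .leaf)))) (127973, 0, 12, 89873) (.node (.node (.node (.node .leaf (127978, 0, 16, 249493) .leaf) (127979, 0, 17, 8930) (.node .leaf (127980, 0, 15, 257187) .leaf)) (127981, 0, 15, 149493) (.node (.node .leaf (127986, 0, 15, 59302) .leaf) (127987, 0, 19, 179848)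 (.node .leaf (127988, 0, 17, 195166) .leaf))) (127989, 0, 17, 207335) (.node (.node (.node .leaf (127994, 0, 16, 112320) .leaf) (127995, 0, 15, 87718) (.node .leaf (127996, 0, 18, 105045) .leaf)) (127997, 0, 13, 246651) (.node (.node .leaf (128000, 0, 15, 1008) .leaf) (128002, 0, 17, 256898) (.node .leaf (128005, 0, 15, 9667) .leaf))))))

/-- part of the orbit tree -/
def itp3_459 : Tree := (.node (.node (.node (.node (.node (.node .leaf (128008, 0, 19, 195685) .leaf) (128010, 0, 13, 196894) (.node .leaf (128013, 0, 18, 53087) .leaf)) (128015, 0, 16, 226565) (.node (.node .leaf (128016, 0, 17, 161030) .leaf) (128018, 0, 14, 258445) (.node .leaf (128021, 0, 17, 162029) .leaf))) (128023, 0, 16, 207048) (.node (.node (.node .leaf (128024, 0, 15, 171930) .leaf) (128026, 0, 15, 119829) (.node .leaf (128029, 0, 15, 178601) .leaf)) (128031, 0, 17, 86491) (.node (.node .leaf (128032, 0, 17, 98042) .leaf) (128034, 0, 13, 169608) (.node .leaf (128037, 0, 17, 199501) .leaf)))) (128039, 0, 17, 176315) (.node (.node (.node (.node .leaf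 (128040, 0, 16, 103526) .leaf) (128042, 0, 17, 42933) (.node .leaf (128045, 0, 16, 111189) .leaf)) (128047, 0, 14, 32496) (.node (.node .leaf (128048, 0, 16, 109149) .leaf) (128050, 0, 16, 64120) (.node .leaf (128053, 0, 16, 208447) .leaf))) (128055, 0, 15, 9021) (.node (.node (.node .leaf (128056, 0, 14, 254608) .leaf) (128058, 0, 15, 2786) (.node .leaf (128061, 0, 16, 246947) .leaf)) (128063, 0, 17, 132773) (.node (.node .leaf (128064, 0, 17, 23418) .leaf) (128066, 0, 18, 242440) (.node .leaf (128069, 0, 16, 32073) .leaf))))) (128071, 0, 14, 145947) (.node (.node (.node (.node (.node .leaf (128072, 0, 18, 45542) .leaf) (128074, 0, 17, 219540) (.node .leaf (128077, 0, 16, 38869) .leaf)) (128079, 0, 18, 229287) (.node (.node .leaf (128080, 0, 15, 142732) .leaf) (128082, 0, 16, 39691) (.node .leaf (128085, 0, 17, 70251) .leaf))) (128087, 0, 18, 123853) (.node (.node (.node .leaf (128088, 0, 15, 182032) .leaf) (128090, 0, 16, 179859) (.node .leaf (128093, 0, 15, 210931) .leaf)) (128095, 0, 18, 157654) (.node (.node .leaf (128096,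 0, 16, 75376) .leaf) (128098, 0, 13, 183810) (.node .leaf (128101, 0, 13, 25035) .leaf)))) (128103, 0, 10, 190513) (.node (.node (.node (.node .leaf (128104, 0, 18, 171286) .leaf) (128106, 0, 14, 140446) (.node .leaf (128109, 0, 14, 148563) .leaf)) (128111, 0, 17, 201846) (.node (.node .leaf (128112, 0, 15, 180443) .leaf) (128114, 0, 15, 233726) (.node .leaf (128117, 0, 13, 137630) .leaf))) (128119, 0, 17, 40647) (.node (.node (.node .leaf (128120, 0, 15, 58691) .leaf) (128122, 0, 9, 111974) (.node .leaf (128125, 0, 15, 15366) .leaf)) (128127, 0, 18, 29787) (.node (.node .leaf (128128, 0, 16, 242585) .leaf) (128130, 0, 14, 204498) (.node .leaf (128133, 0, 18, 169906) .leaf))))))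

/-- part of the orbit tree -/
def itp3_460 : Tree := (.node (.node (.node (.node (.node (.node .leaf (128136, 0, 17, 27503) .leaf) (128138, 0, 17, 80714) (.node .leaf (128141, 0, 17, 229174) .leaf)) (128143, 0, 13, 38724) (.node (.node .leaf (128144, 0, 18, 13986) .leaf) (128146, 0, 16, 91783) (.node .leaf (128149, 0, 16, 61415) .leaf))) (128151, 0, 16, 133934) (.node (.node (.node .leaf (128152, 0, 18, 77811) .leaf) (128154, 0, 13, 213791) (.node .leaf (128157, 0, 16, 68032) .leaf)) (128159, 0, 17, 236122) (.node (.node .leaf (128160, 0, 19, 183955) .leaf) (128162, 0, 7, 75489) (.node .leaf (128165, 0, 15, 190624) .leaf)))) (128167, 0, 15, 65746) (.node (.node (.node (.node .leaf (128168, 0, 15, 221338) .leaf) (128170, 0, 19, 117885) (.node .leaf (128173, 0, 18, 131644) .leaf)) (128175, 0, 16, 190970) (.node (.node .leaf (128176, 0, 17, 47205) .leaf) (128178, 0, 13, 159090) (.node .leaf (128181, 0, 18, 254994) .leaf))) (128183, 0, 15, 226852) (.node (.node (.node .leaf (128184, 0, 16, 21241) .leaf) (128186, 0, 19, 18666)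 (.node .leaf (128189, 0, 16, 115082) .leaf)) (128191, 0, 17, 236728) (.node (.node .leaf (128192, 0, 11, 256787) .leaf) (128194, 0, 15, 29780) (.node .leaf (128197, 0, 17, 130356) .leaf))))) (128199, 0, 17, 44305) (.node (.node (.node (.node (.node .leaf (128200, 0, 17, 197097) .leaf) (128202, 0, 17, 152012) (.node .leaf (128205, 0, 15, 252076) .leaf)) (128207, 0, 18, 166025) (.node (.node .leaf (128208, 0, 10, 220196) .leaf) (128210, 0, 13, 161175) (.node .leaf (128213, 0, 16, 230753) .leaf))) (128215, 0, 16, 152484) (.node (.node (.node .leaf (128216, 0, 15, 96700) .leaf) (128218, 0, 18, 171787) (.node .leaf (128221, 0, 15, 86346) .leaf)) (128223, 0, 17, 61660) (.node (.node .leaf (128224, 0, 16, 143236) .leaf) (128226, 0, 15, 97899) (.node .leaf (128229, 0, 15, 176170) .leaf)))) (128231, 0, 16, 239332) (.node (.node (.node (.node .leaf (128232, 0, 17, 2588) .leaf) (128234, 0, 16, 103671) (.node .leaf (128237, 0, 17, 54105) .leaf)) (128239, 0, 16, 99196) (.node (.node .leaf (128240, 0, 14, 22481) .leaf) (128242, 0, 17,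 67572) (.node .leaf (128245, 0, 16, 50908) .leaf))) (128247, 0, 17, 122545) (.node (.node (.node .leaf (128248, 0, 17, 2675) .leaf) (128250, 0, 16, 254465) (.node .leaf (128253, 0, 15, 11328) .leaf)) (128255, 0, 19, 260905) (.node (.node .leaf (128257, 0, 17, 179517) .leaf) (128259, 0, 15, 183242) (.node .leaf (128260, 0, 17, 213674) .leaf))))))

/-- part of the orbit tree -/
def itp3_461 : Tree := (.node itp3_457 (127877, 0, 18, 31377) itp3_458)

/-- part of the orbit tree -/
def itp3_462 : Tree := (.node itp3_459 (128135, 0, 16, 247703) itp3_460)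

/-- part of the orbit tree -/
def itp3_463 : Tree := (.node (.node (.node (.node (.node (.node .leaf (128265, 0, 17, 114295) .leaf) (128267, 0, 17, 61010) (.node .leaf (128268, 0, 16, 91954) .leaf)) (128270, 0, 9, 104928) (.node (.node .leaf (128273, 0, 14, 52171) .leaf) (128275, 0, 12, 205753) (.node .leaf (128276, 0, 16, 60920) .leaf))) (128278, 0, 13, 198026) (.node (.node (.node .leaf (128281, 0, 18, 247330) .leaf) (128283, 0, 16, 169479) (.node .leaf (128284, 0, 16, 1892) .leaf)) (128286, 0, 15, 151362) (.node (.node .leaf (128289, 0, 16, 245815) .leaf) (128291, 0, 17, 10309) (.node .leaf (128292, 0, 17, 18783) .leaf)))) (128294, 0, 17, 3702) (.node (.node (.node (.node .leaf (128297, 0, 15, 177538) .leaf) (128299, 0, 15, 255399) (.node .leaf (128300, 0, 16, 199832) .leaf)) (128302, 0, 15, 212194) (.node (.node .leaf (128305, 0, 15, 190543) .leaf) (128307, 0, 15, 243818) (.node .leaf (128308, 0, 17, 143626) .leaf))) (128310, 0, 14, 161920) (.node (.node (.node .leaf (128313, 0, 16, 52695) .leaf) (128315, 0, 17, 177199)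 (.node .leaf (128316, 0, 16, 96878) .leaf)) (128318, 0, 15, 83127) (.node (.node .leaf (128321, 0, 15, 189879) .leaf) (128323, 0, 17, 106828) (.node .leaf (128324, 0, 18, 181124) .leaf))))) (128326, 0, 17, 96265) (.node (.node (.node (.node (.node .leaf (128329, 0, 10, 134955) .leaf) (128331, 0, 18, 230612) (.node .leaf (128332, 0, 12, 134580) .leaf)) (128334, 0, 16, 220561) (.node (.node .leaf (128337, 0, 13, 166204) .leaf) (128339, 0, 18, 252185) (.node .leaf (128340, 0, 17, 151673) .leaf))) (128342, 0, 16, 220416) (.node (.node (.node .leaf (128345, 0, 17, 44196) .leaf) (128347, 0, 15, 130177) (.node .leaf (128348, 0, 17, 24558) .leaf)) (128350, 0, 16, 243612) (.node (.node .leaf (128353, 0, 10, 235709) .leaf) (128355, 0, 16, 174777) (.node .leaf (128356, 0, 18, 205785) .leaf)))) (128358, 0, 15, 160764) (.node (.node (.node (.node .leaf (128361, 0, 14, 122628) .leaf) (128363, 0, 17, 39507) (.node .leaf (128364, 0, 15, 218130) .leaf)) (128366, 0, 16, 22116) (.node (.node .leaf (128369, 0, 16, 126539) .leaf) (128371, 0,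 17, 132665) (.node .leaf (128372, 0, 14, 116856) .leaf))) (128374, 0, 17, 2985) (.node (.node (.node .leaf (128377, 0, 16, 239441) .leaf) (128379, 0, 16, 194420) (.node .leaf (128380, 0, 17, 74468) .leaf)) (128382, 0, 17, 142897) (.node (.node .leaf (128385, 0, 16, 68948) .leaf) (128387, 0, 15, 23744) (.node .leaf (128388, 0, 15, 76647) .leaf))))))

/-- part of the orbit tree -/
def itp3_464 : Tree := (.node (.node (.node (.node (.node (.node .leaf (128393, 0, 17, 124872) .leaf) (128395, 0, 17, 162136) (.node .leaf (128396, 0, 18, 258104) .leaf)) (128398, 0, 16, 141705) (.node (.node .leaf (128401, 0, 16, 226480) .leaf) (128403, 0, 14, 140437) (.node .leaf (128404, 0, 15, 241141) .leaf))) (128406, 0, 16, 196048) (.node (.node (.node .leaf (128409, 0, 16, 86312) .leaf) (128411, 0, 16, 31052) (.node .leaf (128412, 0, 17, 100461) .leaf)) (128414, 0, 16, 55368) (.node (.node .leaf (128417, 0, 14, 132880) .leaf) (128419, 0, 15, 218933) (.node .leaf (128420, 0, 18, 187989) .leaf)))) (128422, 0, 13, 233072) (.node (.node (.node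 (.node .leaf (128425, 0, 16, 39618) .leaf) (128427, 0, 18, 225968) (.node .leaf (128428, 0, 13, 64461) .leaf)) (128430, 0, 16, 109544) (.node (.node .leaf (128433, 0, 16, 32581) .leaf) (128435, 0, 14, 77664) (.node .leaf (128436, 0, 13, 42496) .leaf))) (128438, 0, 18, 128549) (.node (.node (.node .leaf (128441, 0, 12, 191540) .leaf) (128443, 0, 18, 66630) (.node .leaf (128444, 0, 15, 164760) .leaf)) (128446, 0, 16, 74357) (.node (.node .leaf (128449, 0, 15, 87518) .leaf) (128451, 0, 15, 210502) (.node .leaf (128452, 0, 18, 95213) .leaf))))) (128454, 0, 18, 170911) (.node (.node (.node (.node (.node .leaf (128457, 0, 16, 114498) .leaf) (128459, 0, 18, 70622) (.node .leaf (128460, 0, 16, 104817) .leaf)) (128462, 0, 17, 117403) (.node (.node .leaf (128465, 0, 15, 7734) .leaf) (128467, 0, 17, 52058) (.node .leaf (128468, 0, 17, 51059) .leaf))) (128470, 0, 16, 104278) (.node (.node (.node .leaf (128473, 0, 18, 146350) .leaf) (128475, 0, 16, 8646) (.node .leaf (128476, 0, 14, 257927) .leaf)) (128478, 0, 17, 2037) (.node (.node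 .leaf (128481, 0, 12, 93590) .leaf) (128483, 0, 15, 15795) (.node .leaf (128484, 0, 17, 3815) .leaf)))) (128486, 0, 17, 58614) (.node (.node (.node (.node .leaf (128489, 0, 18, 49736) .leaf) (128491, 0, 16, 207418) (.node .leaf (128492, 0, 17, 58491) .leaf)) (128494, 0, 18, 180590) (.node (.node .leaf (128497, 0, 16, 202179) .leaf) (128499, 0, 15, 112208) (.node .leaf (128500, 0, 17, 248966) .leaf))) (128502, 0, 14, 102499) (.node (.node (.node .leaf (128505, 0, 16, 177342) .leaf) (128507, 0, 14, 89292) (.node .leaf (128508, 0, 17, 168589) .leaf)) (128510, 0, 17, 47419) (.node (.node .leaf (128516, 0, 14, 162241) .leaf) (128517, 0, 16, 8431) (.node .leaf (128518, 0, 17, 102835) .leaf))))))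

/-- part of the orbit tree -/
def itp3_465 : Tree := (.node (.node (.node (.node (.node (.node .leaf (128524, 0, 18, 190774) .leaf) (128525, 0, 17, 51827) (.node .leaf (128526, 0, 17, 97071) .leaf)) (128527, 0, 16, 205313) (.node (.node .leaf (128532, 0, 15, 177403) .leaf) (128533, 0, 13, 152733) (.node .leaf (128534, 0, 14, 255198) .leaf))) (128535, 0, 17, 197816) (.node (.node (.node .leaf (128540, 0, 14, 37219) .leaf) (128541, 0, 15, 28933) (.node .leaf (128542, 0, 17, 200153) .leaf)) (128543, 0, 17, 87287) (.node (.node .leaf (128548, 0, 15, 247643) .leaf) (128549, 0, 17, 89573) (.node .leaf (128550, 0, 17, 60601) .leaf)))) (128551, 0, 17, 161560) (.node (.node (.node (.node .leaf (128556, 0, 13, 257623) .leaf) (128557, 0, 18, 112505) (.node .leaf (128558, 0, 17, 1573) .leaf)) (128559, 0, 18, 21120) (.node (.node .leaf (128564, 0, 16, 94781) .leaf) (128565, 0, 16, 207635) (.node .leaf (128566, 0, 13, 170575) .leaf))) (128567, 0, 15, 50017) (.node (.node (.node .leaf (128572, 0, 14, 104609) .leaf) (128573, 0, 17, 246159)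 (.node .leaf (128574, 0, 14, 182963) .leaf)) (128575, 0, 18, 10749) (.node (.node .leaf (128580, 0, 14, 139595) .leaf) (128581, 0, 17, 30821) (.node .leaf (128582, 0, 15, 117049) .leaf))))) (128583, 0, 15, 136811) (.node (.node (.node (.node (.node .leaf (128588, 0, 15, 99248) .leaf) (128589, 0, 18, 37625) (.node .leaf (128590, 0, 18, 74661) .leaf)) (128591, 0, 17, 227979) (.node (.node .leaf (128596, 0, 17, 122493) .leaf) (128597, 0, 16, 134803) (.node .leaf (128598, 0, 18, 36440) .leaf))) (128599, 0, 17, 124641) (.node (.node (.node .leaf (128604, 0, 13, 261093) .leaf) (128605, 0, 18, 203651) (.node .leaf (128606, 0, 16, 218451) .leaf)) (128607, 0, 14, 150438) (.node (.node .leaf (128612, 0, 17, 220225) .leaf) (128613, 0, 16, 66927) (.node .leaf (128614, 0, 19, 130552) .leaf)))) (128615, 0, 13, 191773) (.node (.node (.node (.node .leaf (128620, 0, 14, 243421) .leaf) (128621, 0, 16, 126963) (.node .leaf (128622, 0, 17, 24239) .leaf)) (128623, 0, 17, 132993) (.node (.node .leaf (128628, 0, 13, 185736) .leaf) (128629, 0, 15,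 144878) (.node .leaf (128630, 0, 10, 230829) .leaf))) (128631, 0, 16, 222667) (.node (.node (.node .leaf (128636, 0, 14, 114731) .leaf) (128637, 0, 16, 4214) (.node .leaf (128638, 0, 18, 141401) .leaf)) (128639, 0, 17, 82003) (.node (.node .leaf (128644, 0, 16, 117160) .leaf) (128645, 0, 14, 233606) (.node .leaf (128646, 0, 15, 139738) .leaf))))))

/-- part of the orbit tree -/
def itp3_466 : Tree := (.node (.node (.node (.node (.node (.node .leaf (128652, 0, 15, 74548) .leaf) (128653, 0, 14, 227866) (.node .leaf (128654, 0, 17, 77337) .leaf)) (128655, 0, 16, 118399) (.node (.node .leaf (128660, 0, 16, 245598) .leaf) (128661, 0, 17, 50071) (.node .leaf (128662, 0, 18, 95188) .leaf))) (128663, 0, 17, 103346) (.node (.node (.node .leaf (128668, 0, 17, 132713) .leaf) (128669, 0, 9, 68844) (.node .leaf (128670, 0, 16, 48560) .leaf)) (128671, 0, 14, 243242) (.node (.node .leaf (128676, 0, 12, 46242) .leaf) (128677, 0, 14, 191884) (.node .leaf (128678, 0, 16, 116) .leaf)))) (128679, 0, 13, 67070) (.node (.node (.node (.node .leaf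 (128684, 0, 16, 24126) .leaf) (128685, 0, 14, 132880) (.node .leaf (128686, 0, 16, 243276) .leaf)) (128687, 0, 17, 181642) (.node (.node .leaf (128692, 0, 14, 180820) .leaf) (128693, 0, 15, 247906) (.node .leaf (128694, 0, 17, 161825) .leaf))) (128695, 0, 14, 226056) (.node (.node (.node .leaf (128700, 0, 16, 141512) .leaf) (128701, 0, 16, 29158) (.node .leaf (128702, 0, 13, 23993) .leaf)) (128703, 0, 13, 235924) (.node (.node .leaf (128708, 0, 17, 78114) .leaf) (128709, 0, 17, 119108) (.node .leaf (128710, 0, 15, 162128) .leaf))))) (128711, 0, 13, 8318) (.node (.node (.node (.node (.node .leaf (128716, 0, 15, 97214) .leaf) (128717, 0, 15, 259292) (.node .leaf (128718, 0, 16, 168908) .leaf)) (128719, 0, 18, 51938) (.node (.node .leaf (128724, 0, 17, 215415) .leaf) (128725, 0, 17, 114426) (.node .leaf (128726, 0, 18, 137554) .leaf))) (128727, 0, 12, 194868) (.node (.node (.node .leaf (128732, 0, 13, 200008) .leaf) (128733, 0, 16, 101513) (.node .leaf (128734, 0, 17, 15562) .leaf)) (128735, 0, 15, 56492) (.node (.node .leaf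 (128740, 0, 14, 146135) .leaf) (128741, 0, 17, 177414) (.node .leaf (128742, 0, 16, 197722) .leaf)))) (128743, 0, 15, 89460) (.node (.node (.node (.node .leaf (128748, 0, 16, 8015) .leaf) (128749, 0, 18, 155546) (.node .leaf (128750, 0, 16, 85866) .leaf)) (128751, 0, 17, 110348) (.node (.node .leaf (128756, 0, 16, 17026) .leaf) (128757, 0, 13, 41700) (.node .leaf (128758, 0, 16, 70311) .leaf))) (128759, 0, 12, 127681) (.node (.node (.node .leaf (128764, 0, 18, 157466) .leaf) (128765, 0, 18, 165756) (.node .leaf (128766, 0, 16, 210751) .leaf)) (128767, 0, 17, 246046) (.node (.node .leaf (128768, 0, 16, 219129) .leaf) (128769, 0, 17, 178193) .leaf)))))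

/-- part of the orbit tree -/
def itp3_467 : Tree := (.node itp3_463 (128390, 0, 17, 181013) itp3_464)

/-- part of the orbit tree -/
def itp3_468 : Tree := (.node itp3_465 (128647, 0, 18, 256999) itp3_466)

/-- part of the orbit tree -/
def itp3_469 : Tree := (.node itp3_461 (128007, 0, 14, 249265) itp3_462)

/-- part of the orbit tree -/
def itp3_470 : Tree := (.node itp3_467 (128519, 0, 16, 247965) itp3_468)

/-- part of the orbit tree -/
def itp3_471 : Tree := (.node itp3_455 (127240, 0, 14, 197499) itp3_456)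

/-- part of the orbit tree -/
def itp3_472 : Tree := (.node itp3_469 (128262, 0, 17, 135823) itp3_470)

/-- part of the orbit tree -/
def itp3_473 : Tree := (.node (.node (.node (.node (.node (.node .leaf (128771, 0, 19, 190394) .leaf) (128776, 0, 14, 2979) (.node .leaf (128777, 0, 14, 102919) .leaf)) (128778, 0, 17, 254929) (.node (.node .leaf (128779, 0, 17, 49698) .leaf) (128784, 0, 16, 169929) (.node .leaf (128785, 0, 15, 118730) .leaf))) (128786, 0, 17, 32649) (.node (.node (.node .leaf (128787, 0, 16, 40943) .leaf) (128792, 0, 17, 163157) (.node .leaf (128793, 0, 14, 9339) .leaf)) (128794, 0, 16, 103719) (.node (.node .leaf (128795, 0, 14, 178807) .leaf) (128800, 0, 15, 105525) (.node .leaf (128801, 0, 16, 48234) .leaf)))) (128802, 0, 17, 68649) (.node (.node (.node (.node .leaf (128803, 0, 17, 11625) .leaf) (128808, 0, 16, 95913) (.node .leaf (128809, 0, 16, 170482) .leaf)) (128810, 0, 16, 171739) (.node (.node .leaf (128811, 0, 18, 51189) .leaf) (128816, 0, 15, 256707) (.node .leaf (128817, 0, 17, 181311) .leaf)))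 (128818, 0, 15, 689) (.node (.node (.node .leaf (128819, 0, 15, 234522) .leaf) (128824, 0, 13, 196703) (.node .leaf (128825, 0, 18, 57767) .leaf)) (128826, 0, 18, 59437) (.node (.node .leaf (128827, 0, 16, 176387) .leaf) (128832, 0, 17, 47541) (.node .leaf (128833, 0, 15, 188571) .leaf))))) (128834, 0, 16, 93530) (.node (.node (.node (.node (.node .leaf (128835, 0, 14, 101692) .leaf) (128840, 0, 15, 21289) (.node .leaf (128841, 0, 14, 194689) .leaf)) (128842, 0, 16, 215234) (.node (.node .leaf (128843, 0, 18, 123509) .leaf) (128848, 0, 17, 148778) (.node .leaf (128849, 0, 15, 173388) .leaf))) (128850, 0, 13, 201999) (.node (.node (.node .leaf (128851, 0, 14, 259433) .leaf) (128856, 0, 15, 140767) (.node .leaf (128857, 0, 16, 31985) .leaf)) (128858, 0, 15, 118189) (.node (.node .leaf (128859, 0, 15, 119025) .leaf) (128864, 0, 18, 115903) (.node .leaf (128865, 0, 17, 251628) .leaf)))) (128866, 0, 17, 157359) (.node (.node (.node (.node .leaf (128867, 0, 9, 30179) .leaf) (128872, 0, 18, 70418) (.node .leaf (128873, 0, 17, 127860)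 .leaf)) (128874, 0, 16, 181841) (.node (.node .leaf (128875, 0, 18, 40831) .leaf) (128880, 0, 16, 242249) (.node .leaf (128881, 0, 18, 110265) .leaf))) (128882, 0, 15, 7930) (.node (.node (.node .leaf (128883, 0, 16, 65180) .leaf) (128888, 0, 17, 224071) (.node .leaf (128889, 0, 15, 232225) .leaf)) (128890, 0, 16, 45223) (.node (.node .leaf (128891, 0, 14, 187140) .leaf) (128896, 0, 17, 217430) (.node .leaf (128897, 0, 13, 73877) .leaf))))))

/-- part of the orbit tree -/
def itp3_474 : Tree := (.node (.node (.node (.node (.node (.node .leaf (128899, 0, 13, 188426) .leaf) (128904, 0, 18, 255339) (.node .leaf (128905, 0, 15, 197901) .leaf)) (128906, 0, 18, 177486) (.node (.node .leaf (128907, 0, 13, 133782) .leaf) (128912, 0, 17, 243878) (.node .leaf (128913, 0, 17, 229006) .leaf))) (128914, 0, 17, 190595) (.node (.node (.node .leaf (128915, 0, 16, 38652) .leaf) (128920, 0, 17, 105790) (.node .leaf (128921, 0, 18, 97624) .leaf)) (128922, 0, 16, 52507) (.node (.node .leaf (128923, 0, 16, 31840) .leaf) (128928, 0, 8, 183046)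 (.node .leaf (128929, 0, 19, 142176) .leaf)))) (128930, 0, 16, 236323) (.node (.node (.node (.node .leaf (128931, 0, 15, 228165) .leaf) (128936, 0, 15, 61086) (.node .leaf (128937, 0, 13, 40942) .leaf)) (128938, 0, 16, 114363) (.node (.node .leaf (128939, 0, 17, 227228) .leaf) (128944, 0, 15, 23210) (.node .leaf (128945, 0, 15, 131972) .leaf))) (128946, 0, 16, 242392) (.node (.node (.node .leaf (128947, 0, 16, 125942) .leaf) (128952, 0, 14, 45110) (.node .leaf (128953, 0, 14, 161453) .leaf)) (128954, 0, 17, 219204) (.node (.node .leaf (128955, 0, 18, 206472) .leaf) (128960, 0, 15, 199132) (.node .leaf (128961, 0, 17, 86258) .leaf))))) (128962, 0, 18, 57774) (.node (.node (.node (.node (.node .leaf (128963, 0, 16, 178304) .leaf) (128968, 0, 18, 254784) (.node .leaf (128969, 0, 12, 28555) .leaf)) (128970, 0, 15, 122824) (.node (.node .leaf (128971, 0, 17, 81838) .leaf) (128976, 0, 15, 98090) (.node .leaf (128977, 0, 18, 12870) .leaf))) (128978, 0, 15, 98821) (.node (.node (.node .leaf (128979, 0, 15, 52854) .leaf) (128984,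 0, 16, 103862) (.node .leaf (128985, 0, 14, 248984) .leaf)) (128986, 0, 15, 163268) (.node (.node .leaf (128987, 0, 15, 9450) .leaf) (128992, 0, 16, 106880) (.node .leaf (128993, 0, 17, 11768) .leaf)))) (128994, 0, 16, 61861) (.node (.node (.node (.node .leaf (128995, 0, 16, 4547) .leaf) (129000, 0, 17, 171594) (.node .leaf (129001, 0, 18, 222334) .leaf)) (129002, 0, 13, 185405) (.node (.node .leaf (129003, 0, 13, 208662) .leaf) (129008, 0, 18, 544) (.node .leaf (129009, 0, 18, 154382) .leaf))) (129010, 0, 17, 256594) (.node (.node (.node .leaf (129011, 0, 14, 158102) .leaf) (129016, 0, 15, 130125) (.node .leaf (129017, 0, 18, 72747) .leaf)) (129018, 0, 16, 44136) (.node (.node .leaf (129019, 0, 18, 88544) .leaf) (129024, 0, 16, 215867) (.node .leaf (129027, 0, 13, 195175) .leaf))))))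

/-- part of the orbit tree -/
def itp3_475 : Tree := (.node (.node (.node (.node (.node (.node .leaf (129031, 0, 16, 34170) .leaf) (129032, 0, 15, 237991) (.node .leaf (129035, 0, 14, 135419) .leaf)) (129036, 0, 17, 122554) (.node (.node .leaf (129039, 0, 16, 4529) .leaf) (129040, 0, 17, 115996) (.node .leaf (129043, 0, 14, 35985) .leaf))) (129044, 0, 15, 213712) (.node (.node (.node .leaf (129047, 0, 16, 19580) .leaf) (129048, 0, 16, 254084) (.node .leaf (129051, 0, 16, 151751) .leaf)) (129052, 0, 17, 239692) (.node (.node .leaf (129055, 0, 15, 158180) .leaf) (129056, 0, 17, 144945) (.node .leaf (129059, 0, 17, 67327) .leaf)))) (129060, 0, 16, 18732) (.node (.node (.node (.node .leaf (129063, 0, 17, 129136) .leaf) (129064, 0, 17, 168740) (.node .leaf (129067, 0, 15, 224753) .leaf)) (129068, 0, 16, 174599) (.node (.node .leaf (129071, 0, 18, 203332) .leaf) (129072, 0, 15, 16583) (.node .leaf (129075, 0, 17, 127387) .leaf))) (129076, 0, 15, 194506) (.node (.node (.node .leaf (129079, 0, 16, 214921) .leaf) (129080, 0, 16,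 43611) (.node .leaf (129083, 0, 16, 88882) .leaf)) (129084, 0, 16, 185670) (.node (.node .leaf (129087, 0, 13, 222234) .leaf) (129088, 0, 19, 55247) (.node .leaf (129091, 0, 16, 92044) .leaf))))) (129092, 0, 16, 61164) (.node (.node (.node (.node (.node .leaf (129095, 0, 17, 89775) .leaf) (129096, 0, 14, 260397) (.node .leaf (129099, 0, 15, 213524) .leaf)) (129100, 0, 16, 183156) (.node (.node .leaf (129103, 0, 14, 14188) .leaf) (129104, 0, 18, 91463) (.node .leaf (129107, 0, 15, 54299) .leaf))) (129108, 0, 16, 203354) (.node (.node (.node .leaf (129111, 0, 16, 206586) .leaf) (129112, 0, 14, 35330) (.node .leaf (129115, 0, 13, 16007) .leaf)) (129116, 0, 16, 258246) (.node (.node .leaf (129119, 0, 16, 66402) .leaf) (129120, 0, 15, 252986) (.node .leaf (129123, 0, 17, 253927) .leaf)))) (129124, 0, 18, 255257) (.node (.node (.node (.node .leaf (129127, 0, 17, 106746) .leaf) (129128, 0, 14, 129442) (.node .leaf (129131, 0, 18, 210299) .leaf)) (129132, 0, 18, 114817) (.node (.node .leaf (129135, 0, 15, 84582) .leaf) (129136, 0,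 16, 107631) (.node .leaf (129139, 0, 17, 108817) .leaf))) (129140, 0, 18, 157520) (.node (.node (.node .leaf (129143, 0, 15, 11535) .leaf) (129144, 0, 16, 229879) (.node .leaf (129147, 0, 17, 82829) .leaf)) (129148, 0, 15, 167372) (.node (.node .leaf (129151, 0, 16, 212112) .leaf) (129152, 0, 16, 76355) (.node .leaf (129155, 0, 15, 39424) .leaf))))))

/-- part of the orbit tree -/
def itp3_476 : Tree := (.node (.node (.node (.node (.node (.node .leaf (129159, 0, 15, 41763) .leaf) (129160, 0, 15, 4558) (.node .leaf (129163, 0, 8, 106642) .leaf)) (129164, 0, 15, 159443) (.node (.node .leaf (129167, 0, 14, 165563) .leaf) (129168, 0, 16, 217622) (.node .leaf (129171, 0, 14, 212216) .leaf))) (129172, 0, 14, 224053) (.node (.node (.node .leaf (129175, 0, 4, 187254) .leaf) (129176, 0, 17, 96142) (.node .leaf (129179, 0, 12, 251492) .leaf)) (129180, 0, 17, 6181) (.node (.node .leaf (129183, 0, 14, 108921) .leaf) (129184, 0, 14, 139702) (.node .leaf (129187, 0, 16, 233973) .leaf)))) (129188, 0, 12, 137365) (.node (.node (.node (.node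 .leaf (129191, 0, 15, 239830) .leaf) (129192, 0, 18, 93380) (.node .leaf (129195, 0, 15, 111725) .leaf)) (129196, 0, 16, 15629) (.node (.node .leaf (129199, 0, 15, 172677) .leaf) (129200, 0, 16, 258222) (.node .leaf (129203, 0, 18, 147954) .leaf))) (129204, 0, 15, 102323) (.node (.node (.node .leaf (129207, 0, 16, 118915) .leaf) (129208, 0, 15, 162939) (.node .leaf (129211, 0, 16, 248888) .leaf)) (129212, 0, 15, 148824) (.node (.node .leaf (129215, 0, 15, 259355) .leaf) (129216, 0, 16, 147653) (.node .leaf (129219, 0, 16, 70276) .leaf))))) (129220, 0, 16, 187589) (.node (.node (.node (.node (.node .leaf (129223, 0, 13, 248229) .leaf) (129224, 0, 18, 18756) (.node .leaf (129227, 0, 17, 129048) .leaf)) (129228, 0, 18, 23678) (.node (.node .leaf (129231, 0, 19, 231173) .leaf) (129232, 0, 17, 14480) (.node .leaf (129235, 0, 17, 222322) .leaf))) (129236, 0, 11, 435) (.node (.node (.node .leaf (129239, 0, 17, 72559) .leaf) (129240, 0, 15, 138504) (.node .leaf (129243, 0, 11, 240971) .leaf)) (129244, 0, 16, 16559) (.node (.node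 .leaf (129247, 0, 18, 127475) .leaf) (129248, 0, 18, 122578) (.node .leaf (129251, 0, 16, 64371) .leaf)))) (129252, 0, 17, 94739) (.node (.node (.node (.node .leaf (129255, 0, 17, 49744) .leaf) (129256, 0, 13, 224936) (.node .leaf (129259, 0, 16, 188139) .leaf)) (129260, 0, 16, 215891) (.node (.node .leaf (129263, 0, 15, 190408) .leaf) (129264, 0, 16, 209765) (.node .leaf (129267, 0, 16, 164646) .leaf))) (129268, 0, 13, 120633) (.node (.node (.node .leaf (129271, 0, 17, 26213) .leaf) (129272, 0, 17, 71421) (.node .leaf (129275, 0, 16, 193508) .leaf)) (129276, 0, 18, 77790) (.node (.node .leaf (129279, 0, 18, 36089) .leaf) (129281, 0, 14, 65371) (.node .leaf (129282, 0, 17, 85784) .leaf))))))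

/-- part of the orbit tree -/
def itp3_477 : Tree := (.node itp3_473 (128898, 0, 15, 37078) itp3_474)

/-- part of the orbit tree -/
def itp3_478 : Tree := (.node itp3_475 (129156, 0, 16, 70496) itp3_476)

/-- part of the orbit tree -/
def itp3_479 : Tree := (.node (.node (.node (.node (.node (.node .leaf (129286, 0, 17, 95803) .leaf) (129289, 0, 15, 73578) (.node .leaf (129290, 0, 16, 223872) .leaf)) (129293, 0, 14, 189408) (.node (.node .leaf (129294, 0, 16, 218019) .leaf) (129297, 0, 15, 165646) (.node .leaf (129298, 0, 14, 210765) .leaf))) (129301, 0, 16, 179757) (.node (.node (.node .leaf (129302, 0, 15, 200302) .leaf) (129305, 0, 14, 223644) (.node .leaf (129306, 0, 14, 70357) .leaf)) (129309, 0, 18, 71297) (.node (.node .leaf (129310, 0, 12, 42973) .leaf) (129313, 0, 17, 259246) (.node .leaf (129314, 0, 15, 80288) .leaf)))) (129317, 0, 14, 249229) (.node (.node (.node (.node .leaf (129318, 0, 18, 163278) .leaf) (129321, 0, 16, 25184) (.node .leaf (129322, 0, 14, 24949) .leaf)) (129325, 0, 16, 124949) (.node (.node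 .leaf (129326, 0, 15, 22614) .leaf) (129329, 0, 17, 101627) (.node .leaf (129330, 0, 17, 216918) .leaf))) (129333, 0, 17, 112088) (.node (.node (.node .leaf (129334, 0, 17, 77899) .leaf) (129337, 0, 18, 239971) (.node .leaf (129338, 0, 16, 137504) .leaf)) (129341, 0, 15, 27531) (.node (.node .leaf (129342, 0, 17, 121559) .leaf) (129345, 0, 15, 109948) (.node .leaf (129346, 0, 17, 140702) .leaf))))) (129349, 0, 14, 250465) (.node (.node (.node (.node (.node .leaf (129350, 0, 15, 138429) .leaf) (129353, 0, 13, 110661) (.node .leaf (129354, 0, 17, 6) .leaf)) (129357, 0, 17, 100710) (.node (.node .leaf (129358, 0, 15, 14629) .leaf) (129361, 0, 15, 126344) (.node .leaf (129362, 0, 17, 158422) .leaf))) (129365, 0, 14, 107671) (.node (.node (.node .leaf (129366, 0, 16, 5579) .leaf) (129369, 0, 16, 209174) (.node .leaf (129370, 0, 17, 161875) .leaf)) (129373, 0, 18, 85515) (.node (.node .leaf (129374, 0, 11, 65367) .leaf) (129377, 0, 16, 40488) (.node .leaf (129378, 0, 17, 77419) .leaf)))) (129381, 0, 16, 175979) (.node (.node (.node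 (.node .leaf (129382, 0, 16, 71496) .leaf) (129385, 0, 15, 179120) (.node .leaf (129386, 0, 15, 101302) .leaf)) (129389, 0, 18, 148983) (.node (.node .leaf (129390, 0, 19, 209616) .leaf) (129393, 0, 12, 173696) (.node .leaf (129394, 0, 15, 202716) .leaf))) (129397, 0, 17, 55709) (.node (.node (.node .leaf (129398, 0, 19, 92353) .leaf) (129401, 0, 18, 150556) (.node .leaf (129402, 0, 18, 95142) .leaf)) (129405, 0, 17, 64198) (.node (.node .leaf (129406, 0, 16, 98909) .leaf) (129409, 0, 15, 157777) (.node .leaf (129410, 0, 18, 259267) .leaf))))))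

/-- part of the orbit tree -/
def itp3_480 : Tree := (.node (.node (.node (.node (.node (.node .leaf (129414, 0, 10, 101342) .leaf) (129417, 0, 17, 175875) (.node .leaf (129418, 0, 16, 130442) .leaf)) (129421, 0, 18, 29930) (.node (.node .leaf (129422, 0, 17, 115881) .leaf) (129425, 0, 16, 13161) (.node .leaf (129426, 0, 14, 98869) .leaf))) (129429, 0, 17, 10535) (.node (.node (.node .leaf (129430, 0, 14, 104804) .leaf) (129433, 0, 15, 55797) (.node .leaf (129434, 0, 13, 230879) .leaf)) (129437, 0, 15, 173800) (.node (.node .leaf (129438, 0, 15, 202676) .leaf) (129441, 0, 15, 91044) (.node .leaf (129442, 0, 13, 54247) .leaf)))) (129445, 0, 13, 83848) (.node (.node (.node (.node .leaf (129446, 0, 15, 60100) .leaf) (129449, 0, 16, 214588) (.node .leaf (129450, 0, 13, 194175) .leaf)) (129453, 0, 16, 109844) (.node (.node .leaf (129454, 0, 16, 184156) .leaf) (129457, 0, 16, 203761) (.node .leaf (129458, 0, 17, 65343) .leaf))) (129461, 0, 18, 205522) (.node (.node (.node .leaf (129462, 0, 16, 163874) .leaf) (129465, 0, 16, 107775)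 (.node .leaf (129466, 0, 17, 36394) .leaf)) (129469, 0, 18, 252898) (.node (.node .leaf (129470, 0, 16, 158398) .leaf) (129473, 0, 14, 138517) (.node .leaf (129474, 0, 17, 45716) .leaf))))) (129477, 0, 16, 80884) (.node (.node (.node (.node (.node .leaf (129478, 0, 15, 119636) .leaf) (129481, 0, 16, 206671) (.node .leaf (129482, 0, 14, 214741) .leaf)) (129485, 0, 16, 34964) (.node (.node .leaf (129486, 0, 18, 80328) .leaf) (129489, 0, 13, 27619) (.node .leaf (129490, 0, 14, 121535) .leaf))) (129493, 0, 12, 213921) (.node (.node (.node .leaf (129494, 0, 15, 193506) .leaf) (129497, 0, 15, 89882) (.node .leaf (129498, 0, 18, 77859) .leaf)) (129501, 0, 15, 91705) (.node (.node .leaf (129502, 0, 18, 54906) .leaf) (129505, 0, 16, 221215) (.node .leaf (129506, 0, 15, 184643) .leaf)))) (129509, 0, 15, 143361) (.node (.node (.node (.node .leaf (129510, 0, 14, 44638) .leaf) (129513, 0, 13, 11450) (.node .leaf (129514, 0, 15, 105721) .leaf)) (129517, 0, 16, 5529) (.node (.node .leaf (129518, 0, 16, 107994) .leaf) (129521, 0, 17, 71401)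 (.node .leaf (129522, 0, 17, 42933) .leaf))) (129525, 0, 16, 18516) (.node (.node (.node .leaf (129526, 0, 17, 129047) .leaf) (129529, 0, 19, 152815) (.node .leaf (129530, 0, 16, 19753) .leaf)) (129533, 0, 18, 230248) (.node (.node .leaf (129534, 0, 13, 253327) .leaf) (129538, 0, 15, 42597) (.node .leaf (129539, 0, 16, 196427) .leaf))))))

/-- part of the orbit tree -/
def itp3_481 : Tree := (.node (.node (.node (.node (.node (.node .leaf (129543, 0, 15, 32854) .leaf) (129546, 0, 13, 19705) (.node .leaf (129547, 0, 16, 136663) .leaf)) (129550, 0, 15, 56743) (.node (.node .leaf (129551, 0, 16, 15809) .leaf) (129554, 0, 17, 47433) (.node .leaf (129555, 0, 18, 35261) .leaf))) (129558, 0, 17, 44942) (.node (.node (.node .leaf (129559, 0, 12, 24588) .leaf) (129562, 0, 17, 171217) (.node .leaf (129563, 0, 14, 162999) .leaf)) (129566, 0, 15, 173554) (.node (.node .leaf (129567, 0, 13, 138300) .leaf) (129570, 0, 18, 121711) (.node .leaf (129571, 0, 16, 76431) .leaf)))) (129574, 0, 17, 127946) (.node (.node (.node (.node .leaf (129575,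 0, 15, 130396) .leaf) (129578, 0, 17, 257905) (.node .leaf (129579, 0, 18, 223453) .leaf)) (129582, 0, 16, 216814) (.node (.node .leaf (129583, 0, 17, 210484) .leaf) (129586, 0, 17, 241049) (.node .leaf (129587, 0, 16, 217818) .leaf))) (129590, 0, 15, 119428) (.node (.node (.node .leaf (129591, 0, 15, 232362) .leaf) (129594, 0, 16, 214789) (.node .leaf (129595, 0, 17, 96066) .leaf)) (129598, 0, 15, 110087) (.node (.node .leaf (129599, 0, 13, 221494) .leaf) (129602, 0, 14, 109466) (.node .leaf (129603, 0, 15, 174017) .leaf))))) (129606, 0, 16, 103097) (.node (.node (.node (.node (.node .leaf (129607, 0, 16, 94943) .leaf) (129610, 0, 12, 232962) (.node .leaf (129611, 0, 14, 224868) .leaf)) (129614, 0, 14, 243489) (.node (.node .leaf (129615, 0, 11, 218951) .leaf) (129618, 0, 15, 250831) (.node .leaf (129619, 0, 18, 209833) .leaf))) (129622, 0, 16, 256748) (.node (.node (.node .leaf (129623, 0, 16, 175658) .leaf) (129626, 0, 14, 156293) (.node .leaf (129627, 0, 17, 15275) .leaf)) (129630, 0, 16, 7576) (.node (.node .leaf (129631,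 0, 12, 148662) .leaf) (129634, 0, 15, 99301) (.node .leaf (129635, 0, 11, 147465) .leaf)))) (129638, 0, 18, 261368) (.node (.node (.node (.node .leaf (129639, 0, 14, 162090) .leaf) (129642, 0, 16, 34295) (.node .leaf (129643, 0, 16, 26001) .leaf)) (129646, 0, 16, 202340) (.node (.node .leaf (129647, 0, 17, 23730) .leaf) (129650, 0, 17, 259347) (.node .leaf (129651, 0, 18, 109629) .leaf))) (129654, 0, 18, 57625) (.node (.node (.node .leaf (129655, 0, 15, 383) .leaf) (129658, 0, 15, 204687) (.node .leaf (129659, 0, 18, 138692) .leaf)) (129662, 0, 14, 90258) (.node (.node .leaf (129663, 0, 17, 211388) .leaf) (129666, 0, 15, 202252) (.node .leaf (129667, 0, 17, 85794) .leaf))))))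

/-- part of the orbit tree -/
def itp3_482 : Tree := (.node (.node (.node (.node (.node (.node .leaf (129671, 0, 17, 208959) .leaf) (129674, 0, 16, 160654) (.node .leaf (129675, 0, 17, 168936) .leaf)) (129678, 0, 13, 99213) (.node (.node .leaf (129679, 0, 16, 252579) .leaf) (129682, 0, 18, 90362) (.node .leaf (129683, 0, 17, 183845) .leaf))) (129686, 0, 17, 137056) (.node (.node (.node .leaf (129687, 0, 16, 83657) .leaf) (129690, 0, 14, 100966) (.node .leaf (129691, 0, 16, 60349) .leaf)) (129694, 0, 16, 13048) (.node (.node .leaf (129695, 0, 19, 109653) .leaf) (129698, 0, 18, 158470) (.node .leaf (129699, 0, 14, 12840) .leaf)))) (129702, 0, 17, 222400) (.node (.node (.node (.node .leaf (129703, 0, 16, 230566) .leaf) (129706, 0, 14, 96379) (.node .leaf (129707, 0, 17, 104477) .leaf)) (129710, 0, 14, 65159) (.node (.node .leaf (129711, 0, 15, 173993) .leaf) (129714, 0, 15, 75190) (.node .leaf (129715, 0, 15, 148702) .leaf))) (129718, 0, 18, 72853) (.node (.node (.node .leaf (129719, 0, 9, 15299) .leaf) (129722, 0, 15, 196654)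 (.node .leaf (129723, 0, 17, 254024) .leaf)) (129726, 0, 14, 166001) (.node (.node .leaf (129727, 0, 16, 252267) .leaf) (129730, 0, 16, 212112) (.node .leaf (129731, 0, 16, 71592) .leaf))))) (129734, 0, 19, 78235) (.node (.node (.node (.node (.node .leaf (129735, 0, 13, 223413) .leaf) (129738, 0, 16, 238618) (.node .leaf (129739, 0, 17, 130356) .leaf)) (129742, 0, 16, 121607) (.node (.node .leaf (129743, 0, 14, 229929) .leaf) (129746, 0, 17, 79984) (.node .leaf (129747, 0, 16, 221534) .leaf))) (129750, 0, 16, 97766) (.node (.node (.node .leaf (129751, 0, 17, 73283) .leaf) (129754, 0, 17, 119532) (.node .leaf (129755, 0, 18, 229691) .leaf)) (129758, 0, 16, 241137) (.node (.node .leaf (129759, 0, 15, 243736) .leaf) (129762, 0, 17, 144268) (.node .leaf (129763, 0, 15, 27298) .leaf)))) (129766, 0, 13, 3654) (.node (.node (.node (.node .leaf (129767, 0, 16, 60960) .leaf) (129770, 0, 15, 186640) (.node .leaf (129771, 0, 17, 32830) .leaf)) (129774, 0, 17, 42509) (.node (.node .leaf (129775, 0, 17, 196387) .leaf) (129778, 0, 16,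 17786) (.node .leaf (129779, 0, 15, 138324) .leaf))) (129782, 0, 16, 161299) (.node (.node (.node .leaf (129783, 0, 16, 169589) .leaf) (129786, 0, 17, 27304) (.node .leaf (129787, 0, 16, 194248) .leaf)) (129790, 0, 16, 21387) (.node (.node .leaf (129791, 0, 15, 35285) .leaf) (129792, 0, 17, 13133) .leaf)))))

/-- part of the orbit tree -/
def itp3_483 : Tree := (.node itp3_479 (129413, 0, 16, 151922) itp3_480)

/-- part of the orbit tree -/
def itp3_484 : Tree := (.node itp3_481 (129670, 0, 17, 92433) itp3_482)

/-- part of the orbit tree -/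
def itp3_485 : Tree := (.node itp3_477 (129028, 0, 16, 230506) itp3_478)

/-- part of the orbit tree -/
def itp3_486 : Tree := (.node itp3_483 (129542, 0, 17, 186744) itp3_484)

/-- part of the orbit tree -/
def itp3_487 : Tree := (.node (.node (.node (.node (.node (.node .leaf (129796, 0, 17, 120553) .leaf) (129797, 0, 16, 233415) (.node .leaf (129800, 0, 13, 213864) .leaf)) (129801, 0, 17, 72262) (.node (.node .leaf (129804, 0, 16, 143350) .leaf) (129805, 0, 11, 222555) (.node .leaf (129808, 0, 17, 122626) .leaf))) (129809, 0, 16, 174974) (.node (.node (.node .leaf (129812, 0, 15, 160315) .leaf) (129813, 0, 17, 168541) (.node .leaf (129816, 0, 15, 28288) .leaf)) (129817, 0, 16, 224432) (.node (.node .leaf (129820, 0, 17, 215683) .leaf) (129821, 0, 17, 47045) (.node .leaf (129824, 0, 14, 211128) .leaf)))) (129825, 0, 15, 252126) (.node (.node (.node (.node .leaf (129828, 0, 16, 44003) .leaf) (129829, 0, 15, 193229) (.node .leaf (129832, 0, 17, 72992) .leaf)) (129833, 0, 16, 26444) (.node (.node .leaf (129836, 0, 17, 74755)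 .leaf) (129837, 0, 15, 115813) (.node .leaf (129840, 0, 18, 82157) .leaf))) (129841, 0, 15, 106635) (.node (.node (.node .leaf (129844, 0, 18, 96718) .leaf) (129845, 0, 14, 33851) (.node .leaf (129848, 0, 17, 18580) .leaf)) (129849, 0, 17, 230675) (.node (.node .leaf (129852, 0, 13, 220246) .leaf) (129853, 0, 16, 28327) (.node .leaf (129856, 0, 11, 219595) .leaf))))) (129857, 0, 16, 244141) (.node (.node (.node (.node (.node .leaf (129860, 0, 16, 221416) .leaf) (129861, 0, 18, 251725) (.node .leaf (129864, 0, 16, 97363) .leaf)) (129865, 0, 15, 105525) (.node (.node .leaf (129868, 0, 16, 83312) .leaf) (129869, 0, 13, 212433) (.node .leaf (129872, 0, 18, 74142) .leaf))) (129873, 0, 15, 253606) (.node (.node (.node .leaf (129876, 0, 17, 260245) .leaf) (129877, 0, 12, 129243) (.node .leaf (129880, 0, 14, 93460) .leaf)) (129881, 0, 14, 255072) (.node (.node .leaf (129884, 0, 16, 201225) .leaf) (129885, 0, 15, 84775) (.node .leaf (129888, 0, 16, 167028) .leaf)))) (129889, 0, 16, 45656) (.node (.node (.node (.node .leaf (129892,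 0, 13, 27421) .leaf) (129893, 0, 16, 35707) (.node .leaf (129896, 0, 17, 157416) .leaf)) (129897, 0, 18, 169920) (.node (.node .leaf (129900, 0, 16, 6645) .leaf) (129901, 0, 16, 175843) (.node .leaf (129904, 0, 16, 141931) .leaf))) (129905, 0, 16, 182797) (.node (.node (.node .leaf (129908, 0, 16, 165279) .leaf) (129909, 0, 17, 193326) (.node .leaf (129912, 0, 17, 4126) .leaf)) (129913, 0, 7, 61333) (.node (.node .leaf (129916, 0, 13, 14032) .leaf) (129917, 0, 13, 13869) (.node .leaf (129920, 0, 14, 173127) .leaf))))))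

/-- part of the orbit tree -/
def itp3_488 : Tree := (.node (.node (.node (.node (.node (.node .leaf (129924, 0, 18, 157312) .leaf) (129925, 0, 17, 163074) (.node .leaf (129928, 0, 14, 33247) .leaf)) (129929, 0, 13, 174639) (.node (.node .leaf (129932, 0, 16, 47356) .leaf) (129933, 0, 18, 54578) (.node .leaf (129936, 0, 17, 56338) .leaf))) (129937, 0, 13, 15476) (.node (.node (.node .leaf (129940, 0, 16, 4214) .leaf) (129941, 0, 17, 1367) (.node .leaf (129944, 0, 16, 165367) .leaf)) (129945, 0, 14, 56537) (.node (.node .leaf (129948, 0, 18, 64234) .leaf) (129949, 0, 16, 172996) (.node .leaf (129952, 0, 17, 110514) .leaf)))) (129953, 0, 17, 212409) (.node (.node (.node (.node .leaf (129956, 0, 17, 104081) .leaf) (129957, 0, 14, 82596) (.node .leaf (129960, 0, 15, 231978) .leaf)) (129961, 0, 15, 251685) (.node (.node .leaf (129964, 0, 14, 258326) .leaf) (129965, 0, 15, 108600) (.node .leaf (129968, 0, 17, 201313) .leaf))) (129969, 0, 17, 84815) (.node (.node (.node .leaf (129972, 0, 14, 93564) .leaf) (129973, 0, 16, 210002)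 (.node .leaf (129976, 0, 18, 127615) .leaf)) (129977, 0, 16, 106963) (.node (.node .leaf (129980, 0, 16, 100320) .leaf) (129981, 0, 18, 253646) (.node .leaf (129984, 0, 18, 16663) .leaf))))) (129985, 0, 14, 77479) (.node (.node (.node (.node (.node .leaf (129988, 0, 15, 146954) .leaf) (129989, 0, 18, 71556) (.node .leaf (129992, 0, 15, 256857) .leaf)) (129993, 0, 10, 193189) (.node (.node .leaf (129996, 0, 18, 250490) .leaf) (129997, 0, 17, 36280) (.node .leaf (130000, 0, 15, 243348) .leaf))) (130001, 0, 16, 218866) (.node (.node (.node .leaf (130004, 0, 18, 18684) .leaf) (130005, 0, 14, 225233) (.node .leaf (130008, 0, 15, 103180) .leaf)) (130009, 0, 18, 95082) (.node (.node .leaf (130012, 0, 16, 109103) .leaf) (130013, 0, 16, 195406) (.node .leaf (130016, 0, 13, 181556) .leaf)))) (130017, 0, 16, 140626) (.node (.node (.node (.node .leaf (130020, 0, 18, 213760) .leaf) (130021, 0, 13, 138353) (.node .leaf (130024, 0, 17, 57516) .leaf)) (130025, 0, 12, 202) (.node (.node .leaf (130028, 0, 14, 55695) .leaf) (130029, 0, 14,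 127154) (.node .leaf (130032, 0, 15, 48481) .leaf))) (130033, 0, 14, 23815) (.node (.node (.node .leaf (130036, 0, 17, 33858) .leaf) (130037, 0, 18, 224472) (.node .leaf (130040, 0, 16, 170233) .leaf)) (130041, 0, 17, 129369) (.node (.node .leaf (130044, 0, 15, 172506) .leaf) (130045, 0, 16, 230980) (.node .leaf (130049, 0, 16, 149383) .leaf))))))

/-- part of the orbit tree -/
def itp3_489 : Tree := (.node (.node (.node (.node (.node (.node .leaf (130053, 0, 17, 163492) .leaf) (130055, 0, 17, 208513) (.node .leaf (130057, 0, 17, 25119) .leaf)) (130059, 0, 18, 72975) (.node (.node .leaf (130061, 0, 16, 35424) .leaf) (130063, 0, 13, 68377) (.node .leaf (130065, 0, 16, 26903) .leaf))) (130067, 0, 11, 229733) (.node (.node (.node .leaf (130069, 0, 15, 1777) .leaf) (130071, 0, 17, 130680) (.node .leaf (130073, 0, 18, 137802) .leaf)) (130075, 0, 15, 215663) (.node (.node .leaf (130077, 0, 17, 140137) .leaf) (130079, 0, 13, 70884) (.node .leaf (130081, 0, 13, 85106) .leaf)))) (130083, 0, 16, 35481) (.node (.node (.node (.node .leaf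 (130085, 0, 17, 95569) .leaf) (130087, 0, 18, 9588) (.node .leaf (130089, 0, 18, 231543) .leaf)) (130091, 0, 17, 145871) (.node (.node .leaf (130093, 0, 15, 217289) .leaf) (130095, 0, 14, 139032) (.node .leaf (130097, 0, 17, 209959) .leaf))) (130099, 0, 16, 156674) (.node (.node (.node .leaf (130101, 0, 14, 224000) .leaf) (130103, 0, 15, 33650) (.node .leaf (130105, 0, 16, 70079) .leaf)) (130107, 0, 15, 16794) (.node (.node .leaf (130109, 0, 17, 229788) .leaf) (130111, 0, 17, 30905) (.node .leaf (130113, 0, 18, 149355) .leaf))))) (130115, 0, 17, 110361) (.node (.node (.node (.node (.node .leaf (130117, 0, 18, 14454) .leaf) (130119, 0, 18, 249860) (.node .leaf (130121, 0, 16, 198809) .leaf)) (130123, 0, 14, 83333) (.node (.node .leaf (130125, 0, 14, 53994) .leaf) (130127, 0, 17, 211608) (.node .leaf (130129, 0, 15, 12701) .leaf))) (130131, 0, 16, 252399) (.node (.node (.node .leaf (130133, 0, 17, 151168) .leaf) (130135, 0, 15, 146514) (.node .leaf (130137, 0, 16, 56065) .leaf)) (130139, 0, 16, 209779) (.node (.node .leaf (130141,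 0, 17, 84463) .leaf) (130143, 0, 16, 85102) (.node .leaf (130145, 0, 17, 211553) .leaf)))) (130147, 0, 16, 227025) (.node (.node (.node (.node .leaf (130149, 0, 16, 139223) .leaf) (130151, 0, 17, 175374) (.node .leaf (130153, 0, 14, 876) .leaf)) (130155, 0, 18, 86857) (.node (.node .leaf (130157, 0, 18, 110560) .leaf) (130159, 0, 17, 92778) (.node .leaf (130161, 0, 16, 85143) .leaf))) (130163, 0, 15, 173285) (.node (.node (.node .leaf (130165, 0, 18, 26498) .leaf) (130167, 0, 15, 79783) (.node .leaf (130169, 0, 15, 162617) .leaf)) (130171, 0, 13, 151161) (.node (.node .leaf (130173, 0, 16, 252182) .leaf) (130175, 0, 16, 201279) (.node .leaf (130177, 0, 14, 53389) .leaf))))))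

/-- part of the orbit tree -/
def itp3_490 : Tree := (.node (.node (.node (.node (.node (.node .leaf (130181, 0, 15, 250005) .leaf) (130183, 0, 16, 113035) (.node .leaf (130185, 0, 16, 193813) .leaf)) (130187, 0, 15, 175462) (.node (.node .leaf (130189, 0, 13, 183350) .leaf) (130191, 0, 14, 236563) (.node .leaf (130193, 0, 17, 252286) .leaf))) (130195, 0, 17, 12556) (.node (.node (.node .leaf (130197, 0, 16, 108131) .leaf) (130199, 0, 17, 151057) (.node .leaf (130201, 0, 12, 209890) .leaf)) (130203, 0, 12, 122213) (.node (.node .leaf (130205, 0, 17, 85247) .leaf) (130207, 0, 15, 123974) (.node .leaf (130209, 0, 16, 252792) .leaf)))) (130211, 0, 16, 211696) (.node (.node (.node (.node .leaf (130213, 0, 16, 254555) .leaf) (130215, 0, 18, 83437) (.node .leaf (130217, 0, 14, 130784) .leaf)) (130219, 0, 17, 44741) (.node (.node .leaf (130221, 0, 16, 116675) .leaf) (130223, 0, 16, 110449) (.node .leaf (130225, 0, 13, 107309) .leaf))) (130227, 0, 15, 84998) (.node (.node (.node .leaf (130229, 0, 15, 56169) .leaf) (130231, 0, 17,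 51755) (.node .leaf (130233, 0, 14, 151272) .leaf)) (130235, 0, 15, 108186) (.node (.node .leaf (130237, 0, 15, 12789) .leaf) (130239, 0, 18, 252295) (.node .leaf (130241, 0, 17, 244235) .leaf))))) (130243, 0, 15, 139120) (.node (.node (.node (.node (.node .leaf (130245, 0, 16, 230184) .leaf) (130247, 0, 17, 24685) (.node .leaf (130249, 0, 18, 73118) .leaf)) (130251, 0, 15, 194028) (.node (.node .leaf (130253, 0, 16, 221827) .leaf) (130255, 0, 17, 35569) (.node .leaf (130257, 0, 17, 229876) .leaf))) (130259, 0, 17, 27014) (.node (.node (.node .leaf (130261, 0, 14, 129917) .leaf) (130263, 0, 16, 136859) (.node .leaf (130265, 0, 11, 255942) .leaf)) (130267, 0, 13, 33562) (.node (.node .leaf (130269, 0, 16, 253669) .leaf) (130271, 0, 17, 195591) (.node .leaf (130273, 0, 14, 35336) .leaf)))) (130275, 0, 17, 123355) (.node (.node (.node (.node .leaf (130277, 0, 16, 193813) .leaf) (130279, 0, 17, 73063) (.node .leaf (130281, 0, 18, 169062) .leaf)) (130283, 0, 17, 246851) (.node (.node .leaf (130285, 0, 13, 139145) .leaf) (130287,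 0, 18, 261472) (.node .leaf (130289, 0, 15, 182699) .leaf))) (130291, 0, 16, 70796) (.node (.node (.node .leaf (130293, 0, 16, 192648) .leaf) (130295, 0, 15, 224145) (.node .leaf (130297, 0, 14, 60467) .leaf)) (130299, 0, 17, 130576) (.node (.node .leaf (130301, 0, 17, 27007) .leaf) (130303, 0, 15, 99637) (.node .leaf (130304, 0, 16, 41260) .leaf))))))

/-- part of the orbit tree -/
def itp3_491 : Tree := (.node itp3_487 (129921, 0, 16, 148513) itp3_488)

/-- part of the orbit tree -/
def itp3_492 : Tree := (.node itp3_489 (130179, 0, 14, 149498) itp3_490)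

/-- part of the orbit tree -/
def itp3_493 : Tree := (.node (.node (.node (.node (.node (.node .leaf (130308, 0, 15, 81078) .leaf) (130310, 0, 12, 79427) (.node .leaf (130312, 0, 16, 204813) .leaf)) (130314, 0, 13, 159784) (.node (.node .leaf (130316, 0, 17, 144557) .leaf) (130318, 0, 18, 122079) (.node .leaf (130320, 0, 17, 186330) .leaf))) (130322, 0, 14, 142821) (.node (.node (.node .leaf (130324, 0, 13, 43207) .leaf) (130326, 0, 14, 213173) (.node .leaf (130328, 0, 15, 146758) .leaf)) (130330, 0, 17, 120116) (.node (.node .leaf (130332, 0, 16, 90491) .leaf) (130334, 0, 16, 240169) (.node .leaf (130336, 0, 16, 121894) .leaf)))) (130338, 0, 18, 220741) (.node (.node (.node (.node .leaf (130340, 0, 15, 145219) .leaf) (130342, 0, 14, 19273) (.node .leaf (130344, 0, 14, 11256) .leaf)) (130346, 0, 15, 97245) (.node (.node .leaf (130348, 0, 13, 215463) .leaf) (130350, 0, 18, 41429) (.node .leaf (130352, 0, 18, 240336) .leaf))) (130354, 0, 15, 75280) (.node (.node (.node .leaf (130356, 0, 16, 120269) .leaf) (130358, 0, 17, 73523)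 (.node .leaf (130360, 0, 16, 213068) .leaf)) (130362, 0, 18, 197512) (.node (.node .leaf (130364, 0, 15, 81745) .leaf) (130366, 0, 14, 186147) (.node .leaf (130368, 0, 16, 159507) .leaf))))) (130370, 0, 17, 212790) (.node (.node (.node (.node (.node .leaf (130372, 0, 14, 165563) .leaf) (130374, 0, 15, 198165) (.node .leaf (130376, 0, 12, 4922) .leaf)) (130378, 0, 17, 72366) (.node (.node .leaf (130380, 0, 15, 29608) .leaf) (130382, 0, 15, 74637) (.node .leaf (130384, 0, 17, 167760) .leaf))) (130386, 0, 16, 91938) (.node (.node (.node .leaf (130388, 0, 13, 11877) .leaf) (130390, 0, 16, 202815) (.node .leaf (130392, 0, 16, 157132) .leaf)) (130394, 0, 15, 221947) (.node (.node .leaf (130396, 0, 14, 6865) .leaf) (130398, 0, 18, 258723) (.node .leaf (130400, 0, 14, 99500) .leaf)))) (130402, 0, 16, 13507) (.node (.node (.node (.node .leaf (130404, 0, 12, 89541) .leaf) (130406, 0, 18, 5059) (.node .leaf (130408, 0, 15, 213374) .leaf)) (130410, 0, 16, 165442) (.node (.node .leaf (130412, 0, 18, 227421) .leaf) (130414, 0, 18, 63839)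 (.node .leaf (130416, 0, 17, 258650) .leaf))) (130418, 0, 16, 6696) (.node (.node (.node .leaf (130420, 0, 17, 206224) .leaf) (130422, 0, 18, 156981) (.node .leaf (130424, 0, 14, 202950) .leaf)) (130426, 0, 17, 61620) (.node (.node .leaf (130428, 0, 17, 65544) .leaf) (130430, 0, 14, 167849) (.node .leaf (130432, 0, 17, 234143) .leaf))))))

/-- part of the orbit tree -/
def itp3_494 : Tree := (.node (.node (.node (.node (.node (.node .leaf (130436, 0, 15, 240572) .leaf) (130438, 0, 17, 195481) (.node .leaf (130440, 0, 17, 112391) .leaf)) (130442, 0, 15, 59170) (.node (.node .leaf (130444, 0, 14, 99524) .leaf) (130446, 0, 15, 56833) (.node .leaf (130448, 0, 17, 92083) .leaf))) (130450, 0, 16, 47855) (.node (.node (.node .leaf (130452, 0, 15, 202926) .leaf) (130454, 0, 16, 33740) (.node .leaf (130456, 0, 16, 249682) .leaf)) (130458, 0, 17, 171895) (.node (.node .leaf (130460, 0, 15, 258610) .leaf) (130462, 0, 16, 173652) (.node .leaf (130464, 0, 17, 39274) .leaf)))) (130466, 0, 16, 117071) (.node (.node (.node (.node .leaf (130468,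 0, 17, 4946) .leaf) (130470, 0, 16, 127084) (.node .leaf (130472, 0, 18, 165587) .leaf)) (130474, 0, 15, 93857) (.node (.node .leaf (130476, 0, 17, 63950) .leaf) (130478, 0, 12, 251380) (.node .leaf (130480, 0, 16, 188735) .leaf))) (130482, 0, 15, 241946) (.node (.node (.node .leaf (130484, 0, 18, 157092) .leaf) (130486, 0, 18, 231481) (.node .leaf (130488, 0, 17, 61477) .leaf)) (130490, 0, 19, 103554) (.node (.node .leaf (130492, 0, 14, 64900) .leaf) (130494, 0, 13, 109985) (.node .leaf (130496, 0, 18, 63513) .leaf))))) (130498, 0, 18, 108604) (.node (.node (.node (.node (.node .leaf (130500, 0, 17, 49466) .leaf) (130502, 0, 12, 188064) (.node .leaf (130504, 0, 17, 238419) .leaf)) (130506, 0, 13, 19233) (.node (.node .leaf (130508, 0, 16, 189602) .leaf) (130510, 0, 8, 144444) (.node .leaf (130512, 0, 15, 163916) .leaf))) (130514, 0, 16, 186187) (.node (.node (.node .leaf (130516, 0, 16, 178543) .leaf) (130518, 0, 19, 43094) (.node .leaf (130520, 0, 15, 42452) .leaf)) (130522, 0, 17, 128497) (.node (.node .leaf (130524, 0,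 16, 40183) .leaf) (130526, 0, 15, 117970) (.node .leaf (130528, 0, 17, 144581) .leaf)))) (130530, 0, 16, 122039) (.node (.node (.node (.node .leaf (130532, 0, 17, 248527) .leaf) (130534, 0, 15, 238506) (.node .leaf (130536, 0, 19, 120436) .leaf)) (130538, 0, 15, 79403) (.node (.node .leaf (130540, 0, 15, 41284) .leaf) (130542, 0, 15, 215350) (.node .leaf (130544, 0, 15, 101305) .leaf))) (130546, 0, 18, 56220) (.node (.node (.node .leaf (130548, 0, 15, 146734) .leaf) (130550, 0, 16, 58047) (.node .leaf (130552, 0, 18, 241185) .leaf)) (130554, 0, 17, 213213) (.node (.node .leaf (130556, 0, 11, 186290) .leaf) (130558, 0, 17, 81856) (.node .leaf (130560, 0, 16, 17379) .leaf))))))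

/-- part of the orbit tree -/
def itp3_495 : Tree := (.node (.node (.node (.node (.node (.node .leaf (130562, 0, 19, 240529) .leaf) (130563, 0, 12, 127679) (.node .leaf (130564, 0, 14, 176818) .leaf)) (130565, 0, 14, 152276) (.node (.node .leaf (130566, 0, 16, 254615) .leaf) (130567, 0, 17, 232866) (.node .leaf (130568, 0, 11, 44553) .leaf))) (130569, 0, 16, 192593) (.node (.node (.node .leaf (130570, 0, 12, 130604) .leaf) (130571, 0, 14, 73290) (.node .leaf (130572, 0, 11, 38698) .leaf)) (130573, 0, 17, 36684) (.node (.node .leaf (130574, 0, 15, 81424) .leaf) (130575, 0, 13, 75625) (.node .leaf (130576, 0, 16, 144661) .leaf)))) (130577, 0, 17, 27707) (.node (.node (.node (.node .leaf (130578, 0, 18, 107489) .leaf) (130579, 0, 13, 82823) (.node .leaf (130580, 0, 18, 51943) .leaf)) (130581, 0, 16, 135974) (.node (.node .leaf (130582, 0, 17, 105154) .leaf) (130583, 0, 15, 96932) (.node .leaf (130584, 0, 16, 185948) .leaf))) (130585, 0, 16, 144954) (.node (.node (.node .leaf (130586, 0, 15, 231033) .leaf) (130587, 0, 16, 222751)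 (.node .leaf (130588, 0, 18, 192383) .leaf)) (130589, 0, 12, 134937) (.node (.node .leaf (130590, 0, 17, 215270) .leaf) (130591, 0, 13, 70088) (.node .leaf (130592, 0, 17, 98404) .leaf))))) (130593, 0, 12, 223175) (.node (.node (.node (.node (.node .leaf (130594, 0, 16, 186011) .leaf) (130595, 0, 18, 36789) (.node .leaf (130596, 0, 14, 112967) .leaf)) (130597, 0, 15, 71898) (.node (.node .leaf (130598, 0, 17, 43398) .leaf) (130599, 0, 15, 2308) (.node .leaf (130600, 0, 17, 119925) .leaf))) (130601, 0, 17, 232795) (.node (.node (.node .leaf (130602, 0, 16, 146439) .leaf) (130603, 0, 17, 136639) (.node .leaf (130604, 0, 11, 236767) .leaf)) (130605, 0, 15, 127558) (.node (.node .leaf (130606, 0, 14, 17178) .leaf) (130607, 0, 16, 142492) (.node .leaf (130608, 0, 17, 215071) .leaf)))) (130609, 0, 14, 69937) (.node (.node (.node (.node .leaf (130610, 0, 17, 41069) .leaf) (130611, 0, 16, 194883) (.node .leaf (130612, 0, 18, 246034) .leaf)) (130613, 0, 12, 224812) (.node (.node .leaf (130614, 0, 14, 188272) .leaf) (130615, 0, 15,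 160081) (.node .leaf (130616, 0, 16, 238211) .leaf))) (130617, 0, 16, 129965) (.node (.node (.node .leaf (130618, 0, 15, 36236) .leaf) (130619, 0, 16, 136159) (.node .leaf (130620, 0, 17, 124042) .leaf)) (130621, 0, 17, 230576) (.node (.node .leaf (130622, 0, 15, 46255) .leaf) (130623, 0, 19, 21705) (.node .leaf (130624, 0, 17, 123159) .leaf))))))

/-- part of the orbit tree -/
def itp3_496 : Tree := (.node (.node (.node (.node (.node (.node .leaf (130626, 0, 17, 258843) .leaf) (130627, 0, 14, 20820) (.node .leaf (130628, 0, 16, 120884) .leaf)) (130629, 0, 17, 15706) (.node (.node .leaf (130630, 0, 17, 34833) .leaf) (130631, 0, 16, 26743) (.node .leaf (130632, 0, 15, 246927) .leaf))) (130633, 0, 13, 206057) (.node (.node (.node .leaf (130634, 0, 14, 203143) .leaf) (130635, 0, 18, 160972) (.node .leaf (130636, 0, 13, 167656) .leaf)) (130637, 0, 15, 204234) (.node (.node .leaf (130638, 0, 18, 175497) .leaf) (130639, 0, 17, 212916) (.node .leaf (130640, 0, 14, 235842) .leaf)))) (130641, 0, 17, 227620) (.node (.node (.node (.node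 .leaf (130642, 0, 15, 182631) .leaf) (130643, 0, 16, 141569) (.node .leaf (130644, 0, 15, 237665) .leaf)) (130645, 0, 17, 212999) (.node (.node .leaf (130646, 0, 16, 192580) .leaf) (130647, 0, 18, 135202) (.node .leaf (130648, 0, 16, 165635) .leaf))) (130649, 0, 14, 89276) (.node (.node (.node .leaf (130650, 0, 16, 60671) .leaf) (130651, 0, 16, 3225) (.node .leaf (130652, 0, 17, 63518) .leaf)) (130653, 0, 18, 91551) (.node (.node .leaf (130654, 0, 16, 200812) .leaf) (130655, 0, 17, 13754) (.node .leaf (130656, 0, 16, 91747) .leaf))))) (130657, 0, 12, 133764) (.node (.node (.node (.node (.node .leaf (130658, 0, 18, 167441) .leaf) (130659, 0, 17, 219809) (.node .leaf (130660, 0, 15, 203134) .leaf)) (130661, 0, 17, 144295) (.node (.node .leaf (130662, 0, 16, 61708) .leaf) (130663, 0, 14, 174114) (.node .leaf (130664, 0, 16, 53114) .leaf))) (130665, 0, 18, 12060) (.node (.node (.node .leaf (130666, 0, 12, 106335) .leaf) (130667, 0, 16, 98105) (.node .leaf (130668, 0, 15, 63065) .leaf)) (130669, 0, 13, 109260) (.node (.node .leaf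 (130670, 0, 13, 108156) .leaf) (130671, 0, 17, 148158) (.node .leaf (130672, 0, 17, 200853) .leaf)))) (130673, 0, 12, 84411) (.node (.node (.node (.node .leaf (130674, 0, 16, 63719) .leaf) (130675, 0, 16, 74484) (.node .leaf (130676, 0, 16, 43924) .leaf)) (130677, 0, 14, 19442) (.node (.node .leaf (130678, 0, 14, 165882) .leaf) (130679, 0, 16, 57044) (.node .leaf (130680, 0, 16, 177967) .leaf))) (130681, 0, 13, 107303) (.node (.node (.node .leaf (130682, 0, 15, 4731) .leaf) (130683, 0, 15, 150357) (.node .leaf (130684, 0, 17, 167436) .leaf)) (130685, 0, 14, 159338) (.node (.node .leaf (130686, 0, 16, 159078) .leaf) (130687, 0, 15, 13384) .leaf)))))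

/-- part of the orbit tree -/
def itp3_497 : Tree := (.node itp3_493 (130434, 0, 18, 63799) itp3_494)

/-- part of the orbit tree -/
def itp3_498 : Tree := (.node itp3_495 (130625, 0, 16, 65905) itp3_496)

/-- part of the orbit tree -/
def itp3_499 : Tree := (.node itp3_491 (130051, 0, 16, 202658) itp3_492)

/-- part of the orbit tree -/
def itp3_500 : Tree := (.node itp3_497 (130561, 0, 17, 158711) itp3_498)

/-- part of the orbit tree -/
def itp3_501 : Tree := (.node itp3_485 (129285, 0, 15, 50808) itp3_486)

/-- part of the orbit tree -/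
def itp3_502 : Tree := (.node itp3_499 (130306, 0, 14, 21936) itp3_500)

/-- part of the orbit tree -/
def itp3_503 : Tree := (.node itp3_471 (127749, 0, 17, 168980) itp3_472)

/-- part of the orbit tree -/
def itp3_504 : Tree := (.node itp3_501 (129793, 0, 15, 127194) itp3_502)

/-- part of the orbit tree -/
def itp3_505 : Tree := (.node itp3_441 (124682, 0, 17, 79702) itp3_442)

/-- part of the orbit tree -/
def itp3_506 : Tree := (.node itp3_503 (128770, 0, 16, 133084) itp3_504)

/-- part of the orbit tree -/
def itp3_507 : Tree := (.node itp3_379 (118548, 0, 16, 44733) itp3_380)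

/-- part of the orbit tree -/
def itp3_508 : Tree := (.node itp3_505 (126724, 0, 17, 1492) itp3_506)

/-- part of the orbit tree -/
def itp3_509 : Tree := (.node itp3_253 (106280, 0, 14, 114707) itp3_254)

/-- part of the orbit tree -/
def itp3_510 : Tree := (.node itp3_507 (122632, 0, 17, 122689) itp3_508)

/-- part of the orbit tree -/
def itr_3 : Tree := (.node itp3_509 (114448, 0, 17, 241717) itp3_510)

end Cfsg.Agent.Lib.Helper28.J3IsoData
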