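import Cfsg.Agent.Lib.Helper28.BSGSF4

/-!
# The orbit of the triple cover of `J₃` on isotropic vectors: part 4 of the orbit tree

Generated by a script.
-/

set_option autoImplicit false

namespace Cfsg.Agent.Lib.Helper28.J3IsoData

open Cfsg.Agent.Lib.Helper28.BSGSMat (Tree)

/-- part of the orbit tree -/
def itp4_1 : Tree := (.node (.node (.node (.node (.node (.node .leaf (130689, 0, 17, 64765) .leaf) (130690, 0, 18, 7160) (.node .leaf (130691, 0, 14, 109784) .leaf)) (130692, 0, 9, 101527) (.node (.node .leaf (130693, 0, 14, 50654) .leaf) (130694, 0, 13, 95645) (.node .leaf (130695, 0, 12, 15819) .leaf))) (130696, 0, 14, 203030) (.node (.node (.node .leaf (130697, 0, 16, 186725) .leaf) (130698, 0, 17, 61796) (.node .leaf (130699, 0, 17, 231744) .leaf)) (130700, 0, 17, 91659) (.node (.node .leaf (130701, 0, 17, 212773) .leaf) (130702, 0, 16, 167545) (.node .leaf (130703, 0, 12, 241763) .leaf)))) (130704, 0, 16, 156878) (.node (.node (.node (.node .leaf (130705, 0, 14, 165032) .leaf) (130706, 0, 13, 158990) (.node .leaf (130707,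 0, 15, 251021) .leaf)) (130708, 0, 18, 260705) (.node (.node .leaf (130709, 0, 14, 179595) .leaf) (130710, 0, 16, 200136) (.node .leaf (130711, 0, 14, 257454) .leaf))) (130712, 0, 17, 94176) (.node (.node (.node .leaf (130713, 0, 17, 41264) .leaf) (130714, 0, 11, 70003) (.node .leaf (130715, 0, 15, 127253) .leaf)) (130716, 0, 17, 200957) (.node (.node .leaf (130717, 0, 16, 38931) .leaf) (130718, 0, 15, 75856) (.node .leaf (130719, 0, 18, 116790) .leaf))))) (130720, 0, 16, 167552) (.node (.node (.node (.node (.node .leaf (130721, 0, 18, 259848) .leaf) (130722, 0, 17, 149323) (.node .leaf (130723, 0, 12, 173869) .leaf)) (130724, 0, 13, 208461) (.node (.node .leaf (130725, 0, 18, 249387) .leaf) (130726, 0, 14, 163432) (.node .leaf (130727, 0, 13, 171534) .leaf))) (130728, 0, 18, 156700) (.node (.node (.node .leaf (130729, 0, 13, 15666) .leaf) (130730, 0, 18, 101486) (.node .leaf (130731, 0, 12, 251200) .leaf)) (130732, 0, 18, 68565) (.node (.node .leaf (130733, 0, 17, 148015) .leaf) (130734, 0, 15, 23536) (.node .leaf (130735,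 0, 16, 109149) .leaf)))) (130736, 0, 17, 94011) (.node (.node (.node (.node .leaf (130737, 0, 16, 172376) .leaf) (130738, 0, 16, 16158) (.node .leaf (130739, 0, 17, 84266) .leaf)) (130740, 0, 13, 165739) (.node (.node .leaf (130741, 0, 15, 56901) .leaf) (130742, 0, 16, 93977) (.node .leaf (130743, 0, 18, 210487) .leaf))) (130744, 0, 14, 215715) (.node (.node (.node .leaf (130745, 0, 17, 150468) .leaf) (130746, 0, 13, 260760) (.node .leaf (130747, 0, 16, 107446) .leaf)) (130748, 0, 16, 159223) (.node (.node .leaf (130749, 0, 15, 13529) .leaf) (130750, 0, 14, 99717) (.node .leaf (130751, 0, 14, 181187) .leaf))))))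

/-- part of the orbit tree -/
def itp4_2 : Tree := (.node (.node (.node (.node (.node (.node .leaf (130753, 0, 15, 235131) .leaf) (130754, 0, 12, 17266) (.node .leaf (130755, 0, 18, 181854) .leaf)) (130756, 0, 15, 119837) (.node (.node .leaf (130757, 0, 14, 232755) .leaf) (130758, 0, 16, 139035) (.node .leaf (130759, 0, 14, 25921) .leaf))) (130760, 0, 7, 213404) (.node (.node (.node .leaf (130761, 0, 18, 71858) .leaf) (130762, 0, 15, 43502) (.node .leaf (130763, 0, 16, 58310) .leaf)) (130764, 0, 18, 92838) (.node (.node .leaf (130765, 0, 17, 223151) .leaf) (130766, 0, 16, 14979) (.node .leaf (130767, 0, 17, 36829) .leaf)))) (130768, 0, 14, 69192) (.node (.node (.node (.node .leaf (130769, 0, 18, 126510) .leaf) (130770, 0, 17, 144772) (.node .leaf (130771, 0, 16, 27818) .leaf)) (130772, 0, 17, 79723) (.node (.node .leaf (130773, 0, 18, 120589) .leaf) (130774, 0, 16, 26446) (.node .leaf (130775, 0, 13, 34600) .leaf))) (130776, 0, 16, 79722) (.node (.node (.node .leaf (130777, 0, 17, 224836) .leaf) (130778, 0, 16, 162805) (.node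 .leaf (130779, 0, 16, 34358) .leaf)) (130780, 0, 16, 201459) (.node (.node .leaf (130781, 0, 7, 258709) .leaf) (130782, 0, 16, 148182) (.node .leaf (130783, 0, 16, 172720) .leaf))))) (130784, 0, 13, 32232) (.node (.node (.node (.node (.node .leaf (130785, 0, 16, 36644) .leaf) (130786, 0, 17, 81528) (.node .leaf (130787, 0, 16, 118187) .leaf)) (130788, 0, 16, 43287) (.node (.node .leaf (130789, 0, 16, 42157) .leaf) (130790, 0, 16, 70894) (.node .leaf (130791, 0, 17, 71755) .leaf))) (130792, 0, 16, 146582) (.node (.node (.node .leaf (130793, 0, 14, 26040) .leaf) (130794, 0, 16, 198741) (.node .leaf (130795, 0, 18, 256051) .leaf)) (130796, 0, 17, 155987) (.node (.node .leaf (130797, 0, 15, 137893) .leaf) (130798, 0, 16, 240633) (.node .leaf (130799, 0, 16, 250128) .leaf)))) (130800, 0, 18, 41212) (.node (.node (.node (.node .leaf (130801, 0, 13, 189915) .leaf) (130802, 0, 17, 215182) (.node .leaf (130803, 0, 12, 70048) .leaf)) (130804, 0, 16, 146590) (.node (.node .leaf (130805, 0, 16, 187640) .leaf) (130806, 0, 14, 224443) (.node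 .leaf (130807, 0, 16, 232669) .leaf))) (130808, 0, 17, 19040) (.node (.node (.node .leaf (130809, 0, 17, 136014) .leaf) (130810, 0, 15, 94208) (.node .leaf (130811, 0, 14, 129852) .leaf)) (130812, 0, 16, 6406) (.node (.node .leaf (130813, 0, 17, 63840) .leaf) (130814, 0, 16, 84259) (.node .leaf (130815, 0, 15, 230433) .leaf))))))

/-- part of the orbit tree -/
def itp4_3 : Tree := (.node (.node (.node (.node (.node (.node .leaf (131074, 0, 12, 138228) .leaf) (131076, 0, 11, 226034) (.node .leaf (131079, 0, 15, 60978) .leaf)) (131080, 0, 18, 248559) (.node (.node .leaf (131083, 0, 16, 56842) .leaf) (131085, 0, 16, 257244) (.node .leaf (131086, 0, 17, 1871) .leaf))) (131088, 0, 15, 78724) (.node (.node (.node .leaf (131091, 0, 15, 33735) .leaf) (131093, 0, 14, 125633) (.node .leaf (131094, 0, 16, 23170) .leaf)) (131097, 0, 14, 259706) (.node (.node .leaf (131098, 0, 11, 152683) .leaf) (131100, 0, 17, 208703) (.node .leaf (131103, 0, 16, 160344) .leaf)))) (131104, 0, 18, 16420) (.node (.node (.node (.node .leaf (131107, 0, 17,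 257061) .leaf) (131109, 0, 17, 39265) (.node .leaf (131110, 0, 17, 248342) .leaf)) (131113, 0, 17, 165338) (.node (.node .leaf (131114, 0, 15, 210329) .leaf) (131116, 0, 17, 154783) (.node .leaf (131119, 0, 16, 257244) .leaf))) (131121, 0, 17, 160417) (.node (.node (.node .leaf (131122, 0, 14, 223316) .leaf) (131124, 0, 16, 131410) (.node .leaf (131127, 0, 17, 241937) .leaf)) (131128, 0, 16, 7657) (.node (.node .leaf (131131, 0, 17, 94287) .leaf) (131133, 0, 16, 59168) (.node .leaf (131134, 0, 18, 87676) .leaf))))) (131136, 0, 19, 8535) (.node (.node (.node (.node (.node .leaf (131139, 0, 15, 182693) .leaf) (131141, 0, 14, 63506) (.node .leaf (131142, 0, 17, 192406) .leaf)) (131145, 0, 16, 117579) (.node (.node .leaf (131146, 0, 14, 218346) .leaf) (131148, 0, 9, 126328) (.node .leaf (131151, 0, 18, 232879) .leaf))) (131153, 0, 16, 218913) (.node (.node (.node .leaf (131154, 0, 16, 190077) .leaf) (131156, 0, 17, 155681) (.node .leaf (131159, 0, 15, 249954) .leaf)) (131160, 0, 16, 31898) (.node (.node .leaf (131163, 0, 17, 21967)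 .leaf) (131165, 0, 16, 115360) (.node .leaf (131166, 0, 14, 71068) .leaf)))) (131169, 0, 14, 23773) (.node (.node (.node (.node .leaf (131170, 0, 17, 126337) .leaf) (131172, 0, 13, 201601) (.node .leaf (131175, 0, 14, 117682) .leaf)) (131176, 0, 16, 192367) (.node (.node .leaf (131179, 0, 14, 49017) .leaf) (131181, 0, 16, 182620) (.node .leaf (131182, 0, 18, 26172) .leaf))) (131184, 0, 16, 29445) (.node (.node (.node .leaf (131187, 0, 16, 58036) .leaf) (131189, 0, 18, 101298) (.node .leaf (131190, 0, 17, 124010) .leaf)) (131193, 0, 17, 180407) (.node (.node .leaf (131194, 0, 12, 225771) .leaf) (131196, 0, 16, 190084) (.node .leaf (131199, 0, 14, 219096) .leaf))))))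

/-- part of the orbit tree -/
def itp4_4 : Tree := (.node (.node (.node (.node (.node (.node .leaf (131203, 0, 16, 74054) .leaf) (131205, 0, 17, 66974) (.node .leaf (131206, 0, 17, 46557) .leaf)) (131209, 0, 13, 140200) (.node (.node .leaf (131210, 0, 16, 174438) .leaf) (131212, 0, 16, 245856) (.node .leaf (131215, 0, 17, 242887) .leaf))) (131217, 0, 16, 49090) (.node (.node (.node .leaf (131218, 0, 17, 193707) .leaf) (131220, 0, 16, 39409) (.node .leaf (131223, 0, 17, 75949) .leaf)) (131224, 0, 15, 98582) (.node (.node .leaf (131227, 0, 14, 245036) .leaf) (131229, 0, 18, 141891) (.node .leaf (131230, 0, 16, 59408) .leaf)))) (131233, 0, 17, 242750) (.node (.node (.node (.node .leaf (131234, 0, 14, 231179) .leaf) (131236, 0, 18, 192013) (.node .leaf (131239, 0, 17, 220750) .leaf)) (131240, 0, 16, 67468) (.node (.node .leaf (131243, 0, 16, 82677) .leaf) (131245, 0, 18, 74175) (.node .leaf (131246, 0, 16, 37091) .leaf))) (131248, 0, 16, 236518) (.node (.node (.node .leaf (131251, 0, 16, 142010) .leaf) (131253, 0, 12, 245205)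 (.node .leaf (131254, 0, 18, 134281) .leaf)) (131257, 0, 17, 75860) (.node (.node .leaf (131258, 0, 18, 252614) .leaf) (131260, 0, 18, 177088) (.node .leaf (131263, 0, 15, 197507) .leaf))))) (131265, 0, 17, 168382) (.node (.node (.node (.node (.node .leaf (131266, 0, 15, 205026) .leaf) (131268, 0, 17, 167806) (.node .leaf (131271, 0, 17, 212797) .leaf)) (131272, 0, 15, 8716) (.node (.node .leaf (131275, 0, 13, 74630) .leaf) (131277, 0, 15, 1087) (.node .leaf (131278, 0, 15, 111971) .leaf))) (131280, 0, 16, 52744) (.node (.node (.node .leaf (131283, 0, 15, 97867) .leaf) (131285, 0, 18, 5965) (.node .leaf (131286, 0, 14, 108302) .leaf)) (131289, 0, 12, 3540) (.node (.node .leaf (131290, 0, 15, 113800) .leaf) (131292, 0, 16, 185011) (.node .leaf (131295, 0, 16, 221936) .leaf)))) (131296, 0, 15, 112026) (.node (.node (.node (.node .leaf (131299, 0, 18, 3563) .leaf) (131301, 0, 19, 91373) (.node .leaf (131302, 0, 14, 54446) .leaf)) (131305, 0, 18, 227414) (.node (.node .leaf (131306, 0, 18, 178036) .leaf) (131308, 0, 16, 237843)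 (.node .leaf (131311, 0, 15, 135504) .leaf))) (131313, 0, 18, 105026) (.node (.node (.node .leaf (131314, 0, 16, 11038) .leaf) (131316, 0, 16, 113777) (.node .leaf (131319, 0, 14, 3373) .leaf)) (131320, 0, 10, 207344) (.node (.node .leaf (131323, 0, 14, 20518) .leaf) (131325, 0, 13, 80160) (.node .leaf (131326, 0, 17, 179871) .leaf))))))

/-- part of the orbit tree -/
def itp4_5 : Tree := (.node itp4_1 (130752, 0, 10, 226845) itp4_2)

/-- part of the orbit tree -/
def itp4_6 : Tree := (.node itp4_3 (131200, 0, 18, 122075) itp4_4)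

/-- part of the orbit tree -/
def itp4_7 : Tree := (.node (.node (.node (.node (.node (.node .leaf (131330, 0, 16, 12258) .leaf) (131332, 0, 17, 112781) (.node .leaf (131335, 0, 17, 90309) .leaf)) (131336, 0, 17, 183357) (.node (.node .leaf (131339, 0, 16, 171088) .leaf) (131341, 0, 15, 136568) (.node .leaf (131342, 0, 13, 238907) .leaf))) (131344, 0, 13, 168432) (.node (.node (.node .leaf (131347, 0, 19, 58) .leaf) (131349, 0, 16, 104277) (.node .leaf (131350, 0, 12, 9737) .leaf)) (131353, 0, 19, 197332) (.node (.node .leaf (131354, 0, 16, 177032) .leaf) (131356, 0, 16, 206055) (.node .leaf (131359, 0, 17, 169403) .leaf)))) (131360, 0, 16, 178842) (.node (.node (.node (.node .leaf (131363, 0, 17, 152083) .leaf) (131365, 0, 16, 171177) (.node .leaf (131366, 0, 17, 208373) .leaf)) (131369, 0, 16, 2344) (.node (.node .leaf (131370, 0, 15, 38893) .leaf) (131372, 0, 18, 12059) (.node .leaf (131375, 0, 16, 106055) .leaf))) (131377, 0, 15, 96867) (.node (.node (.node .leaf (131378, 0, 14, 51744) .leaf) (131380, 0, 16, 107302) (.node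 .leaf (131383, 0, 17, 4965) .leaf)) (131384, 0, 19, 9968) (.node (.node .leaf (131387, 0, 13, 135134) .leaf) (131389, 0, 18, 222936) (.node .leaf (131390, 0, 16, 186011) .leaf))))) (131392, 0, 14, 230179) (.node (.node (.node (.node (.node .leaf (131395, 0, 15, 142918) .leaf) (131397, 0, 13, 219750) (.node .leaf (131398, 0, 15, 191013) .leaf)) (131401, 0, 16, 83677) (.node (.node .leaf (131402, 0, 14, 40436) .leaf) (131404, 0, 17, 68251) (.node .leaf (131407, 0, 15, 12251) .leaf))) (131409, 0, 14, 241858) (.node (.node (.node .leaf (131410, 0, 15, 43859) .leaf) (131412, 0, 16, 235249) (.node .leaf (131415, 0, 17, 29206) .leaf)) (131416, 0, 18, 66416) (.node (.node .leaf (131419, 0, 18, 159405) .leaf) (131421, 0, 17, 75075) (.node .leaf (131422, 0, 13, 178152) .leaf)))) (131425, 0, 16, 26800) (.node (.node (.node (.node .leaf (131426, 0, 18, 68194) .leaf) (131428, 0, 18, 45557) (.node .leaf (131431, 0, 16, 76881) .leaf)) (131432, 0, 13, 175438) (.node (.node .leaf (131435, 0, 11, 244176) .leaf) (131437, 0, 14, 160779) (.node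 .leaf (131438, 0, 15, 246856) .leaf))) (131440, 0, 16, 192643) (.node (.node (.node .leaf (131443, 0, 16, 213184) .leaf) (131445, 0, 18, 45781) (.node .leaf (131446, 0, 15, 235909) .leaf)) (131449, 0, 16, 141140) (.node (.node .leaf (131450, 0, 17, 99646) .leaf) (131452, 0, 17, 131431) (.node .leaf (131455, 0, 16, 241723) .leaf))))))

/-- part of the orbit tree -/
def itp4_8 : Tree := (.node (.node (.node (.node (.node (.node .leaf (131459, 0, 17, 116389) .leaf) (131461, 0, 13, 174058) (.node .leaf (131462, 0, 17, 202665) .leaf)) (131465, 0, 18, 181323) (.node (.node .leaf (131466, 0, 16, 68370) .leaf) (131468, 0, 16, 25108) (.node .leaf (131471, 0, 18, 217892) .leaf))) (131473, 0, 19, 22561) (.node (.node (.node .leaf (131474, 0, 16, 87775) .leaf) (131476, 0, 16, 32274) (.node .leaf (131479, 0, 14, 102298) .leaf)) (131480, 0, 16, 191379) (.node (.node .leaf (131483, 0, 17, 234273) .leaf) (131485, 0, 16, 195111) (.node .leaf (131486, 0, 17, 215652) .leaf)))) (131489, 0, 17, 218077) (.node (.node (.node (.node .leaf (131490,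 0, 16, 9599) .leaf) (131492, 0, 16, 85113) (.node .leaf (131495, 0, 16, 64570) .leaf)) (131496, 0, 15, 217282) (.node (.node .leaf (131499, 0, 16, 20787) .leaf) (131501, 0, 11, 116316) (.node .leaf (131502, 0, 15, 145860) .leaf))) (131504, 0, 16, 199951) (.node (.node (.node .leaf (131507, 0, 14, 179532) .leaf) (131509, 0, 16, 250954) (.node .leaf (131510, 0, 13, 156681) .leaf)) (131513, 0, 14, 118711) (.node (.node .leaf (131514, 0, 14, 30898) .leaf) (131516, 0, 15, 125316) (.node .leaf (131519, 0, 18, 41463) .leaf))))) (131521, 0, 17, 161373) (.node (.node (.node (.node (.node .leaf (131522, 0, 17, 247553) .leaf) (131524, 0, 16, 77066) (.node .leaf (131527, 0, 17, 40265) .leaf)) (131528, 0, 17, 50671) (.node (.node .leaf (131531, 0, 15, 95411) .leaf) (131533, 0, 12, 256244) (.node .leaf (131534, 0, 15, 86656) .leaf))) (131536, 0, 18, 224380) (.node (.node (.node .leaf (131539, 0, 18, 187455) .leaf) (131541, 0, 18, 243001) (.node .leaf (131542, 0, 15, 249578) .leaf)) (131545, 0, 17, 59959) (.node (.node .leaf (131546, 0, 18,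 88939) .leaf) (131548, 0, 18, 94407) (.node .leaf (131551, 0, 16, 49284) .leaf)))) (131552, 0, 18, 86649) (.node (.node (.node (.node .leaf (131555, 0, 12, 58149) .leaf) (131557, 0, 14, 95306) (.node .leaf (131558, 0, 16, 50454) .leaf)) (131561, 0, 17, 55842) (.node (.node .leaf (131562, 0, 14, 151703) .leaf) (131564, 0, 16, 247800) (.node .leaf (131567, 0, 17, 111396) .leaf))) (131569, 0, 18, 34799) (.node (.node (.node .leaf (131570, 0, 17, 79788) .leaf) (131572, 0, 14, 88978) (.node .leaf (131575, 0, 16, 126697) .leaf)) (131576, 0, 14, 147985) (.node (.node .leaf (131579, 0, 16, 258642) .leaf) (131581, 0, 15, 256032) (.node .leaf (131582, 0, 16, 153980) .leaf))))))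

/-- part of the orbit tree -/
def itp4_9 : Tree := (.node (.node (.node (.node (.node (.node .leaf (131585, 0, 16, 231367) .leaf) (131590, 0, 16, 134823) (.node .leaf (131591, 0, 14, 60190) .leaf)) (131594, 0, 18, 4636) (.node (.node .leaf (131595, 0, 16, 62074) .leaf) (131596, 0, 16, 110814) (.node .leaf (131597, 0, 16, 105340) .leaf))) (131602, 0, 16, 179163) (.node (.node (.node .leaf (131603, 0, 16, 58101) .leaf) (131604, 0, 15, 208052) (.node .leaf (131605, 0, 14, 95642) .leaf)) (131608, 0, 12, 211564) (.node (.node .leaf (131609, 0, 15, 252426) .leaf) (131614, 0, 16, 11866) (.node .leaf (131615, 0, 16, 176908) .leaf)))) (131618, 0, 18, 110631) (.node (.node (.node (.node .leaf (131619, 0, 17, 121879) .leaf) (131620, 0, 17, 21879) (.node .leaf (131621, 0, 18, 46353) .leaf)) (131624, 0, 17, 176841) (.node (.node .leaf (131625, 0, 15, 60391) .leaf) (131630, 0, 15, 206246) (.node .leaf (131631, 0, 17, 97416) .leaf))) (131632, 0, 16, 11939) (.node (.node (.node .leaf (131633, 0, 16, 193639) .leaf) (131638, 0, 15, 113100)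 (.node .leaf (131639, 0, 15, 254178) .leaf)) (131642, 0, 17, 207949) (.node (.node .leaf (131643, 0, 16, 95587) .leaf) (131644, 0, 17, 2234) (.node .leaf (131645, 0, 18, 59612) .leaf))))) (131650, 0, 14, 89346) (.node (.node (.node (.node (.node .leaf (131651, 0, 15, 114020) .leaf) (131652, 0, 17, 13316) (.node .leaf (131653, 0, 17, 220134) .leaf)) (131656, 0, 16, 141503) (.node (.node .leaf (131657, 0, 15, 118375) .leaf) (131662, 0, 16, 213433) (.node .leaf (131663, 0, 16, 238047) .leaf))) (131664, 0, 17, 68387) (.node (.node (.node .leaf (131665, 0, 17, 169236) .leaf) (131670, 0, 17, 203892) (.node .leaf (131671, 0, 14, 181602) .leaf)) (131674, 0, 11, 133581) (.node (.node .leaf (131675, 0, 17, 123049) .leaf) (131676, 0, 14, 27081) (.node .leaf (131677, 0, 15, 35247) .leaf)))) (131680, 0, 14, 198354) (.node (.node (.node (.node .leaf (131681, 0, 19, 23025) .leaf) (131686, 0, 16, 235440) (.node .leaf (131687, 0, 15, 167858) .leaf)) (131690, 0, 16, 29551) (.node (.node .leaf (131691, 0, 17, 37641) .leaf) (131692, 0, 13, 38238)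 (.node .leaf (131693, 0, 17, 129551) .leaf))) (131698, 0, 15, 237147) (.node (.node (.node .leaf (131699, 0, 17, 52932) .leaf) (131700, 0, 15, 133428) (.node .leaf (131701, 0, 17, 108482) .leaf)) (131704, 0, 17, 40117) (.node (.node .leaf (131705, 0, 15, 181659) .leaf) (131710, 0, 17, 143897) (.node .leaf (131711, 0, 8, 217844) .leaf))))))

/-- part of the orbit tree -/
def itp4_10 : Tree := (.node (.node (.node (.node (.node (.node .leaf (131715, 0, 12, 16616) .leaf) (131716, 0, 14, 191019) (.node .leaf (131717, 0, 13, 45829) .leaf)) (131720, 0, 15, 251187) (.node (.node .leaf (131721, 0, 14, 210261) .leaf) (131726, 0, 17, 125125) (.node .leaf (131727, 0, 17, 154707) .leaf))) (131728, 0, 16, 189376) (.node (.node (.node .leaf (131729, 0, 17, 223384) .leaf) (131734, 0, 16, 188920) (.node .leaf (131735, 0, 15, 77185) .leaf)) (131738, 0, 18, 123182) (.node (.node .leaf (131739, 0, 10, 243712) .leaf) (131740, 0, 14, 30273) (.node .leaf (131741, 0, 14, 143215) .leaf)))) (131744, 0, 13, 195422) (.node (.node (.node (.node .leaf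 (131745, 0, 12, 138040) .leaf) (131750, 0, 16, 32595) (.node .leaf (131751, 0, 16, 140925) .leaf)) (131754, 0, 17, 191186) (.node (.node .leaf (131755, 0, 17, 93829) .leaf) (131756, 0, 16, 228797) (.node .leaf (131757, 0, 18, 1923) .leaf))) (131762, 0, 18, 30392) (.node (.node (.node .leaf (131763, 0, 17, 78664) .leaf) (131764, 0, 11, 123351) (.node .leaf (131765, 0, 16, 243961) .leaf)) (131768, 0, 16, 226390) (.node (.node .leaf (131769, 0, 19, 77176) .leaf) (131774, 0, 14, 249749) (.node .leaf (131775, 0, 15, 47639) .leaf))))) (131776, 0, 18, 170541) (.node (.node (.node (.node (.node .leaf (131777, 0, 12, 162379) .leaf) (131782, 0, 18, 88787) (.node .leaf (131783, 0, 13, 201549) .leaf)) (131786, 0, 16, 126864) (.node (.node .leaf (131787, 0, 16, 69622) .leaf) (131788, 0, 16, 153661) (.node .leaf (131789, 0, 15, 26352) .leaf))) (131794, 0, 15, 111197) (.node (.node (.node .leaf (131795, 0, 16, 86587) .leaf) (131796, 0, 14, 50263) (.node .leaf (131797, 0, 18, 15165) .leaf)) (131800, 0, 18, 152022) (.node (.node .leaf (131801,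 0, 15, 2296) .leaf) (131806, 0, 17, 241382) (.node .leaf (131807, 0, 16, 106391) .leaf)))) (131810, 0, 16, 153796) (.node (.node (.node (.node .leaf (131811, 0, 15, 8603) .leaf) (131812, 0, 17, 108795) (.node .leaf (131813, 0, 16, 104069) .leaf)) (131816, 0, 15, 88618) (.node (.node .leaf (131817, 0, 15, 218150) .leaf) (131822, 0, 14, 52549) (.node .leaf (131823, 0, 13, 169067) .leaf))) (131824, 0, 16, 256397) (.node (.node (.node .leaf (131825, 0, 15, 199147) .leaf) (131830, 0, 13, 163979) (.node .leaf (131831, 0, 17, 2049) .leaf)) (131834, 0, 18, 50350) (.node (.node .leaf (131835, 0, 16, 31830) .leaf) (131836, 0, 15, 128310) .leaf)))))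

/-- part of the orbit tree -/
def itp4_11 : Tree := (.node itp4_7 (131456, 0, 15, 30713) itp4_8)

/-- part of the orbit tree -/
def itp4_12 : Tree := (.node itp4_9 (131714, 0, 18, 41102) itp4_10)

/-- part of the orbit tree -/
def itp4_13 : Tree := (.node itp4_5 (131073, 0, 15, 96605) itp4_6)

/-- part of the orbit tree -/
def itp4_14 : Tree := (.node itp4_11 (131584, 0, 19, 206175) itp4_12)

/-- part of the orbit tree -/
def itp4_15 : Tree := (.node (.node (.node (.node (.node (.node .leaf (131840, 0, 18, 246460) .leaf) (131841, 0, 16, 9651) (.node .leaf (131846, 0, 16, 153043) .leaf)) (131847, 0, 16, 85173) (.node (.node .leaf (131850, 0, 17, 49234) .leaf) (131851, 0, 18, 170364) (.node .leaf (131852, 0, 16, 87869) .leaf))) (131853, 0, 16, 145672) (.node (.node (.node .leaf (131858, 0, 13, 257445) .leaf) (131859, 0, 18, 200131) (.node .leaf (131860, 0, 15, 165027) .leaf)) (131861, 0, 16, 103033) (.node (.node .leaf (131864, 0, 10, 89814) .leaf) (131865, 0, 17, 198648) (.node .leaf (131870, 0, 16, 51641) .leaf)))) (131871,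 0, 16, 168087) (.node (.node (.node (.node .leaf (131874, 0, 17, 88004) .leaf) (131875, 0, 18, 200426) (.node .leaf (131876, 0, 13, 259843) .leaf)) (131877, 0, 15, 170373) (.node (.node .leaf (131880, 0, 17, 125880) .leaf) (131881, 0, 12, 3076) (.node .leaf (131886, 0, 15, 246341) .leaf))) (131887, 0, 17, 105323) (.node (.node (.node .leaf (131888, 0, 15, 51520) .leaf) (131889, 0, 18, 87571) (.node .leaf (131894, 0, 17, 57203) .leaf)) (131895, 0, 18, 198401) (.node (.node .leaf (131898, 0, 14, 181192) .leaf) (131899, 0, 17, 140206) (.node .leaf (131900, 0, 15, 154817) .leaf))))) (131901, 0, 18, 215720) (.node (.node (.node (.node (.node .leaf (131906, 0, 18, 29252) .leaf) (131907, 0, 17, 139024) (.node .leaf (131908, 0, 18, 124203) .leaf)) (131909, 0, 17, 226838) (.node (.node .leaf (131912, 0, 17, 225450) .leaf) (131913, 0, 16, 92845) (.node .leaf (131918, 0, 15, 58317) .leaf))) (131919, 0, 14, 48875) (.node (.node (.node .leaf (131920, 0, 15, 126144) .leaf) (131921, 0, 14, 243182) (.node .leaf (131926, 0, 11, 48640) .leaf))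 (131927, 0, 13, 139905) (.node (.node .leaf (131930, 0, 18, 172731) .leaf) (131931, 0, 16, 46848) (.node .leaf (131932, 0, 18, 248765) .leaf)))) (131933, 0, 17, 73839) (.node (.node (.node (.node .leaf (131936, 0, 12, 190268) .leaf) (131937, 0, 18, 17600) (.node .leaf (131942, 0, 16, 118176) .leaf)) (131943, 0, 17, 76157) (.node (.node .leaf (131946, 0, 16, 124370) .leaf) (131947, 0, 16, 244988) (.node .leaf (131948, 0, 11, 178205) .leaf))) (131949, 0, 17, 142227) (.node (.node (.node .leaf (131954, 0, 14, 232662) .leaf) (131955, 0, 16, 224432) (.node .leaf (131956, 0, 17, 189904) .leaf)) (131957, 0, 14, 132534) (.node (.node .leaf (131960, 0, 16, 31574) .leaf) (131961, 0, 17, 139896) (.node .leaf (131966, 0, 12, 126009) .leaf))))))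

/-- part of the orbit tree -/
def itp4_16 : Tree := (.node (.node (.node (.node (.node (.node .leaf (131970, 0, 16, 236199) .leaf) (131971, 0, 14, 115593) (.node .leaf (131972, 0, 14, 158716) .leaf)) (131973, 0, 17, 21734) (.node (.node .leaf (131976, 0, 15, 38985) .leaf) (131977, 0, 17, 38689) (.node .leaf (131982, 0, 15, 69414) .leaf))) (131983, 0, 15, 218632) (.node (.node (.node .leaf (131984, 0, 14, 132131) .leaf) (131985, 0, 14, 23821) (.node .leaf (131990, 0, 16, 82828) .leaf)) (131991, 0, 14, 117346) (.node (.node .leaf (131994, 0, 17, 220983) .leaf) (131995, 0, 17, 245585) (.node .leaf (131996, 0, 15, 37282) .leaf)))) (131997, 0, 17, 182412) (.node (.node (.node (.node .leaf (132000, 0, 17, 88362) .leaf) (132001, 0, 13, 218865) (.node .leaf (132006, 0, 14, 12332) .leaf)) (132007, 0, 13, 180638) (.node (.node .leaf (132010, 0, 16, 134449) .leaf) (132011, 0, 15, 183537) (.node .leaf (132012, 0, 14, 236126) .leaf))) (132013, 0, 15, 239095) (.node (.node (.node .leaf (132018, 0, 17, 160090) .leaf) (132019, 0, 16, 168252)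 (.node .leaf (132020, 0, 16, 202844) .leaf)) (132021, 0, 15, 220954) (.node (.node .leaf (132024, 0, 17, 234421) .leaf) (132025, 0, 15, 124033) (.node .leaf (132030, 0, 13, 28129) .leaf))))) (132031, 0, 15, 24052) (.node (.node (.node (.node (.node .leaf (132032, 0, 15, 79961) .leaf) (132033, 0, 17, 160625) (.node .leaf (132038, 0, 15, 113968) .leaf)) (132039, 0, 17, 255006) (.node (.node .leaf (132042, 0, 17, 207025) .leaf) (132043, 0, 16, 94623) (.node .leaf (132044, 0, 17, 206050) .leaf))) (132045, 0, 17, 246916) (.node (.node (.node .leaf (132050, 0, 13, 111835) .leaf) (132051, 0, 17, 257525) (.node .leaf (132052, 0, 16, 9140) .leaf)) (132053, 0, 17, 235849) (.node (.node .leaf (132056, 0, 15, 91540) .leaf) (132057, 0, 16, 61211) (.node .leaf (132062, 0, 17, 3218) .leaf)))) (132063, 0, 16, 60660) (.node (.node (.node (.node .leaf (132066, 0, 15, 180007) .leaf) (132067, 0, 17, 230383) (.node .leaf (132068, 0, 17, 133775) .leaf)) (132069, 0, 15, 94566) (.node (.node .leaf (132072, 0, 17, 114121) .leaf) (132073, 0, 17, 255207)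 (.node .leaf (132078, 0, 13, 98098) .leaf))) (132079, 0, 16, 160648) (.node (.node (.node .leaf (132080, 0, 18, 19449) .leaf) (132081, 0, 17, 43935) (.node .leaf (132086, 0, 13, 177868) .leaf)) (132087, 0, 17, 115353) (.node (.node .leaf (132090, 0, 17, 212548) .leaf) (132091, 0, 17, 162403) (.node .leaf (132092, 0, 16, 111650) .leaf))))))

/-- part of the orbit tree -/
def itp4_17 : Tree := (.node (.node (.node (.node (.node (.node .leaf (132096, 0, 15, 11655) .leaf) (132098, 0, 14, 247285) (.node .leaf (132101, 0, 17, 165948) .leaf)) (132103, 0, 16, 254918) (.node (.node .leaf (132105, 0, 15, 38023) .leaf) (132107, 0, 17, 115874) (.node .leaf (132108, 0, 17, 178182) .leaf))) (132110, 0, 17, 86132) (.node (.node (.node .leaf (132113, 0, 14, 607) .leaf) (132115, 0, 17, 256557) (.node .leaf (132116, 0, 17, 4111) .leaf)) (132118, 0, 18, 81962) (.node (.node .leaf (132120, 0, 16, 134324) .leaf) (132122, 0, 18, 220305) (.node .leaf (132125, 0, 17, 185841) .leaf)))) (132127, 0, 13, 230868) (.node (.node (.node (.node .leaf (132129,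 0, 16, 113386) .leaf) (132131, 0, 13, 57809) (.node .leaf (132132, 0, 16, 208784) .leaf)) (132134, 0, 14, 51170) (.node (.node .leaf (132136, 0, 18, 229140) .leaf) (132138, 0, 15, 143153) (.node .leaf (132141, 0, 12, 105506) .leaf))) (132143, 0, 18, 160848) (.node (.node (.node .leaf (132144, 0, 16, 205529) .leaf) (132146, 0, 18, 52745) (.node .leaf (132149, 0, 14, 196680) .leaf)) (132151, 0, 14, 59450) (.node (.node .leaf (132153, 0, 16, 124711) .leaf) (132155, 0, 15, 46850) (.node .leaf (132156, 0, 18, 81506) .leaf))))) (132158, 0, 18, 154504) (.node (.node (.node (.node (.node .leaf (132161, 0, 14, 142371) .leaf) (132163, 0, 13, 115793) (.node .leaf (132164, 0, 17, 133648) .leaf)) (132166, 0, 16, 21241) (.node (.node .leaf (132168, 0, 17, 204391) .leaf) (132170, 0, 13, 151106) (.node .leaf (132173, 0, 10, 47522) .leaf))) (132175, 0, 12, 217552) (.node (.node (.node .leaf (132176, 0, 16, 213930) .leaf) (132178, 0, 16, 125833) (.node .leaf (132181, 0, 16, 140744) .leaf)) (132183, 0, 16, 182986) (.node (.node .leaf (132185,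 0, 15, 99924) .leaf) (132187, 0, 12, 54897) (.node .leaf (132188, 0, 12, 89873) .leaf)))) (132190, 0, 14, 228872) (.node (.node (.node (.node .leaf (132192, 0, 17, 67591) .leaf) (132194, 0, 15, 221231) (.node .leaf (132197, 0, 17, 77364) .leaf)) (132199, 0, 16, 244074) (.node (.node .leaf (132201, 0, 17, 244661) .leaf) (132203, 0, 9, 107985) (.node .leaf (132204, 0, 16, 11441) .leaf))) (132206, 0, 16, 30196) (.node (.node (.node .leaf (132209, 0, 15, 43065) .leaf) (132211, 0, 18, 129052) (.node .leaf (132212, 0, 12, 66028) .leaf)) (132214, 0, 12, 74073) (.node (.node .leaf (132216, 0, 15, 234605) .leaf) (132218, 0, 16, 31775) (.node .leaf (132221, 0, 17, 242270) .leaf))))))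

/-- part of the orbit tree -/
def itp4_18 : Tree := (.node (.node (.node (.node (.node (.node .leaf (132225, 0, 14, 9749) .leaf) (132227, 0, 14, 142514) (.node .leaf (132228, 0, 18, 65360) .leaf)) (132230, 0, 16, 110453) (.node (.node .leaf (132232, 0, 17, 227186) .leaf) (132234, 0, 19, 242638) (.node .leaf (132237, 0, 15, 146094) .leaf))) (132239, 0, 12, 223883) (.node (.node (.node .leaf (132240, 0, 17, 125720) .leaf) (132242, 0, 17, 131946) (.node .leaf (132245, 0, 19, 157539) .leaf)) (132247, 0, 17, 210758) (.node (.node .leaf (132249, 0, 15, 31704) .leaf) (132251, 0, 17, 76797) (.node .leaf (132252, 0, 15, 229017) .leaf)))) (132254, 0, 15, 38635) (.node (.node (.node (.node .leaf (132256, 0, 11, 249222) .leaf) (132258, 0, 16, 171427) (.node .leaf (132261, 0, 18, 201923) .leaf)) (132263, 0, 15, 148710) (.node (.node .leaf (132265, 0, 17, 67704) .leaf) (132267, 0, 15, 244516) (.node .leaf (132268, 0, 16, 30053) .leaf))) (132270, 0, 17, 236823) (.node (.node (.node .leaf (132273, 0, 15, 184124) .leaf) (132275, 0, 16, 1424)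 (.node .leaf (132276, 0, 18, 101616) .leaf)) (132278, 0, 17, 65917) (.node (.node .leaf (132280, 0, 11, 31886) .leaf) (132282, 0, 17, 180334) (.node .leaf (132285, 0, 15, 23229) .leaf))))) (132287, 0, 14, 242383) (.node (.node (.node (.node (.node .leaf (132288, 0, 17, 240885) .leaf) (132290, 0, 18, 11542) (.node .leaf (132293, 0, 13, 254807) .leaf)) (132295, 0, 16, 140693) (.node (.node .leaf (132297, 0, 13, 95958) .leaf) (132299, 0, 18, 14638) (.node .leaf (132300, 0, 15, 110670) .leaf))) (132302, 0, 17, 57451) (.node (.node (.node .leaf (132305, 0, 14, 256700) .leaf) (132307, 0, 18, 718) (.node .leaf (132308, 0, 18, 126339) .leaf)) (132310, 0, 17, 48550) (.node (.node .leaf (132312, 0, 16, 88334) .leaf) (132314, 0, 16, 172317) (.node .leaf (132317, 0, 19, 206973) .leaf)))) (132319, 0, 14, 169807) (.node (.node (.node (.node .leaf (132321, 0, 15, 57664) .leaf) (132323, 0, 18, 198962) (.node .leaf (132324, 0, 17, 51059) .leaf)) (132326, 0, 17, 118278) (.node (.node .leaf (132328, 0, 17, 164504) .leaf) (132330, 0, 14, 250557)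 (.node .leaf (132333, 0, 18, 160961) .leaf))) (132335, 0, 13, 199672) (.node (.node (.node .leaf (132336, 0, 14, 188245) .leaf) (132338, 0, 15, 233328) (.node .leaf (132341, 0, 16, 59563) .leaf)) (132343, 0, 16, 196825) (.node (.node .leaf (132345, 0, 15, 6827) .leaf) (132347, 0, 18, 103768) (.node .leaf (132348, 0, 17, 154393) .leaf))))))

/-- part of the orbit tree -/
def itp4_19 : Tree := (.node itp4_15 (131967, 0, 18, 94219) itp4_16)

/-- part of the orbit tree -/
def itp4_20 : Tree := (.node itp4_17 (132223, 0, 16, 255143) itp4_18)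

/-- part of the orbit tree -/
def itp4_21 : Tree := (.node (.node (.node (.node (.node (.node .leaf (132352, 0, 16, 51812) .leaf) (132354, 0, 17, 41768) (.node .leaf (132357, 0, 15, 76360) .leaf)) (132359, 0, 17, 197669) (.node (.node .leaf (132361, 0, 16, 210675) .leaf) (132363, 0, 16, 102820) (.node .leaf (132364, 0, 16, 155621) .leaf))) (132366, 0, 16, 180115) (.node (.node (.node .leaf (132369, 0, 16, 58812) .leaf) (132371, 0, 12, 200142) (.node .leaf (132372, 0, 17, 242299) .leaf)) (132374, 0, 13, 189022) (.node (.node .leaf (132376, 0, 15, 110272) .leaf) (132378, 0, 13, 65253) (.node .leaf (132381, 0, 16, 96133) .leaf)))) (132383, 0, 14, 10144) (.node (.node (.node (.node .leaf (132385, 0, 15, 257600) .leaf) (132387, 0, 16, 215227) (.node .leaf (132388, 0, 17, 247923) .leaf)) (132390, 0, 13, 233982) (.node (.node .leaf (132392, 0, 14, 56672) .leaf) (132394, 0, 14, 177536) (.node .leaf (132397, 0, 15, 1061) .leaf))) (132399, 0, 11, 87040) (.node (.node (.node .leaf (132400, 0, 16, 246168) .leaf) (132402, 0, 13, 10730)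 (.node .leaf (132405, 0, 13, 255915) .leaf)) (132407, 0, 15, 68045) (.node (.node .leaf (132409, 0, 16, 94762) .leaf) (132411, 0, 14, 170584) (.node .leaf (132412, 0, 15, 87065) .leaf))))) (132414, 0, 18, 179307) (.node (.node (.node (.node (.node .leaf (132417, 0, 17, 183232) .leaf) (132419, 0, 15, 74674) (.node .leaf (132420, 0, 16, 191987) .leaf)) (132422, 0, 15, 66945) (.node (.node .leaf (132424, 0, 17, 48147) .leaf) (132426, 0, 15, 233472) (.node .leaf (132429, 0, 12, 25942) .leaf))) (132431, 0, 18, 243251) (.node (.node (.node .leaf (132432, 0, 16, 57822) .leaf) (132434, 0, 16, 68714) (.node .leaf (132437, 0, 14, 180779) .leaf)) (132439, 0, 16, 76377) (.node (.node .leaf (132441, 0, 12, 22442) .leaf) (132443, 0, 17, 226309) (.node .leaf (132444, 0, 14, 195941) .leaf)))) (132446, 0, 17, 240960) (.node (.node (.node (.node .leaf (132448, 0, 11, 103038) .leaf) (132450, 0, 18, 49755) (.node .leaf (132453, 0, 18, 117207) .leaf)) (132455, 0, 14, 139685) (.node (.node .leaf (132457, 0, 13, 220246) .leaf) (132459, 0, 18, 46116)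 (.node .leaf (132460, 0, 17, 233157) .leaf))) (132462, 0, 12, 188128) (.node (.node (.node .leaf (132465, 0, 18, 114748) .leaf) (132467, 0, 15, 141390) (.node .leaf (132468, 0, 14, 124431) .leaf)) (132470, 0, 16, 164653) (.node (.node .leaf (132472, 0, 14, 226190) .leaf) (132474, 0, 17, 40854) (.node .leaf (132477, 0, 16, 71414) .leaf))))))

/-- part of the orbit tree -/
def itp4_22 : Tree := (.node (.node (.node (.node (.node (.node .leaf (132481, 0, 17, 230497) .leaf) (132483, 0, 17, 185412) (.node .leaf (132484, 0, 16, 220452) .leaf)) (132486, 0, 14, 134401) (.node (.node .leaf (132488, 0, 16, 82335) .leaf) (132490, 0, 16, 4538) (.node .leaf (132493, 0, 17, 243362) .leaf))) (132495, 0, 15, 24272) (.node (.node (.node .leaf (132496, 0, 16, 72786) .leaf) (132498, 0, 16, 189577) (.node .leaf (132501, 0, 17, 76488) .leaf)) (132503, 0, 17, 38194) (.node (.node .leaf (132505, 0, 15, 252332) .leaf) (132507, 0, 17, 166281) (.node .leaf (132508, 0, 17, 196841) .leaf)))) (132510, 0, 18, 28936) (.node (.node (.node (.node .leaf (132512,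 0, 16, 132871) .leaf) (132514, 0, 13, 81879) (.node .leaf (132517, 0, 18, 46775) .leaf)) (132519, 0, 17, 117062) (.node (.node .leaf (132521, 0, 15, 46261) .leaf) (132523, 0, 15, 220359) (.node .leaf (132524, 0, 15, 160585) .leaf))) (132526, 0, 13, 205676) (.node (.node (.node .leaf (132529, 0, 17, 141535) .leaf) (132531, 0, 17, 239588) (.node .leaf (132532, 0, 18, 142980) .leaf)) (132534, 0, 13, 124574) (.node (.node .leaf (132536, 0, 14, 39789) .leaf) (132538, 0, 13, 90650) (.node .leaf (132541, 0, 17, 48478) .leaf))))) (132543, 0, 17, 113503) (.node (.node (.node (.node (.node .leaf (132544, 0, 16, 3713) .leaf) (132546, 0, 14, 51957) (.node .leaf (132549, 0, 15, 197812) .leaf)) (132551, 0, 13, 60614) (.node (.node .leaf (132553, 0, 14, 183167) .leaf) (132555, 0, 18, 162119) (.node .leaf (132556, 0, 13, 112390) .leaf))) (132558, 0, 15, 213535) (.node (.node (.node .leaf (132561, 0, 15, 200031) .leaf) (132563, 0, 15, 58669) (.node .leaf (132564, 0, 16, 151543) .leaf)) (132566, 0, 16, 204754) (.node (.node .leaf (132568, 0,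 17, 114413) .leaf) (132570, 0, 16, 153247) (.node .leaf (132573, 0, 16, 104670) .leaf)))) (132575, 0, 17, 121388) (.node (.node (.node (.node .leaf (132577, 0, 17, 1699) .leaf) (132579, 0, 17, 177463) (.node .leaf (132580, 0, 16, 212055) .leaf)) (132582, 0, 17, 248034) (.node (.node .leaf (132584, 0, 15, 177425) .leaf) (132586, 0, 14, 28873) (.node .leaf (132589, 0, 16, 168738) .leaf))) (132591, 0, 9, 43404) (.node (.node (.node .leaf (132592, 0, 18, 97569) .leaf) (132594, 0, 15, 246025) (.node .leaf (132597, 0, 17, 107620) .leaf)) (132599, 0, 14, 62529) (.node (.node .leaf (132601, 0, 14, 170697) .leaf) (132603, 0, 15, 190714) (.node .leaf (132604, 0, 15, 221594) .leaf))))))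

/-- part of the orbit tree -/
def itp4_23 : Tree := (.node (.node (.node (.node (.node (.node .leaf (132612, 0, 14, 153526) .leaf) (132613, 0, 16, 173132) (.node .leaf (132614, 0, 18, 114628) .leaf)) (132615, 0, 17, 255722) (.node (.node .leaf (132616, 0, 16, 49719) .leaf) (132617, 0, 15, 47351) (.node .leaf (132618, 0, 19, 207429) .leaf))) (132619, 0, 17, 125138) (.node (.node (.node .leaf (132624, 0, 16, 155229) .leaf) (132625, 0, 12, 1907) (.node .leaf (132626, 0, 14, 112175) .leaf)) (132627, 0, 17, 257793) (.node (.node .leaf (132636, 0, 9, 52188) .leaf) (132637, 0, 17, 168690) (.node .leaf (132638, 0, 15, 215490) .leaf)))) (132639, 0, 12, 96896) (.node (.node (.node (.node .leaf (132640, 0, 17, 95996) .leaf) (132641, 0, 17, 104090) (.node .leaf (132642, 0, 14, 179667) .leaf)) (132643, 0, 17, 58621) (.node (.node .leaf (132652, 0, 16, 223815) .leaf) (132653, 0, 17, 104718) (.node .leaf (132654, 0, 14, 146018) .leaf))) (132655, 0, 10, 186884) (.node (.node (.node .leaf (132660, 0, 16, 210826) .leaf) (132661, 0, 17, 251884)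 (.node .leaf (132662, 0, 15, 177208) .leaf)) (132663, 0, 16, 60694) (.node (.node .leaf (132664, 0, 15, 248267) .leaf) (132665, 0, 16, 102629) (.node .leaf (132666, 0, 12, 31508) .leaf))))) (132667, 0, 18, 39794) (.node (.node (.node (.node (.node .leaf (132672, 0, 14, 28705) .leaf) (132673, 0, 18, 141583) (.node .leaf (132674, 0, 16, 18346) .leaf)) (132675, 0, 14, 115069) (.node (.node .leaf (132684, 0, 17, 189856) .leaf) (132685, 0, 8, 48270) (.node .leaf (132686, 0, 17, 69074) .leaf))) (132687, 0, 17, 179063) (.node (.node (.node .leaf (132692, 0, 15, 31178) .leaf) (132693, 0, 16, 243359) (.node .leaf (132694, 0, 13, 132828) .leaf)) (132695, 0, 16, 116886) (.node (.node .leaf (132696, 0, 17, 84546) .leaf) (132697, 0, 7, 109092) (.node .leaf (132698, 0, 14, 66617) .leaf)))) (132699, 0, 15, 64001) (.node (.node (.node (.node .leaf (132708, 0, 16, 225846) .leaf) (132709, 0, 15, 76568) (.node .leaf (132710, 0, 14, 39492) .leaf)) (132711, 0, 18, 181098) (.node (.node .leaf (132712, 0, 16, 14818) .leaf) (132713, 0, 16, 55684)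 (.node .leaf (132714, 0, 16, 92615) .leaf))) (132715, 0, 14, 22251) (.node (.node (.node .leaf (132720, 0, 17, 228317) .leaf) (132721, 0, 15, 33865) (.node .leaf (132722, 0, 15, 37807) .leaf)) (132723, 0, 15, 182913) (.node (.node .leaf (132732, 0, 16, 161940) .leaf) (132733, 0, 18, 170226) (.node .leaf (132734, 0, 15, 132654) .leaf))))))

/-- part of the orbit tree -/
def itp4_24 : Tree := (.node (.node (.node (.node (.node (.node .leaf (132736, 0, 15, 59907) .leaf) (132737, 0, 16, 2661) (.node .leaf (132738, 0, 16, 28848) .leaf)) (132739, 0, 16, 88640) (.node (.node .leaf (132748, 0, 15, 194232) .leaf) (132749, 0, 13, 218221) (.node .leaf (132750, 0, 16, 189745) .leaf))) (132751, 0, 15, 214779) (.node (.node (.node .leaf (132756, 0, 15, 174965) .leaf) (132757, 0, 15, 150291) (.node .leaf (132758, 0, 16, 260944) .leaf)) (132759, 0, 18, 139381) (.node (.node .leaf (132760, 0, 16, 66728) .leaf) (132761, 0, 17, 220550) (.node .leaf (132762, 0, 13, 124907) .leaf)))) (132763, 0, 16, 46580) (.node (.node (.node (.node .leaf (132772,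 0, 16, 252117) .leaf) (132773, 0, 16, 181243) (.node .leaf (132774, 0, 16, 166128) .leaf)) (132775, 0, 13, 157846) (.node (.node .leaf (132776, 0, 19, 134996) .leaf) (132777, 0, 16, 22138) (.node .leaf (132778, 0, 17, 124710) .leaf))) (132779, 0, 18, 245256) (.node (.node (.node .leaf (132784, 0, 18, 104867) .leaf) (132785, 0, 17, 96709) (.node .leaf (132786, 0, 15, 51590) .leaf)) (132787, 0, 17, 74338) (.node (.node .leaf (132796, 0, 14, 230680) .leaf) (132797, 0, 18, 222590) (.node .leaf (132798, 0, 12, 185661) .leaf))))) (132799, 0, 14, 243683) (.node (.node (.node (.node (.node .leaf (132804, 0, 12, 114517) .leaf) (132805, 0, 16, 219584) (.node .leaf (132806, 0, 11, 190851) .leaf)) (132807, 0, 16, 133605) (.node (.node .leaf (132808, 0, 16, 207572) .leaf) (132809, 0, 12, 83323) (.node .leaf (132810, 0, 15, 62776) .leaf))) (132811, 0, 18, 170888) (.node (.node (.node .leaf (132816, 0, 16, 112318) .leaf) (132817, 0, 15, 257936) (.node .leaf (132818, 0, 17, 43253) .leaf)) (132819, 0, 16, 2018) (.node (.node .leaf (132828,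 0, 12, 205631) .leaf) (132829, 0, 16, 96785) (.node .leaf (132830, 0, 18, 52045) .leaf)))) (132831, 0, 16, 168547) (.node (.node (.node (.node .leaf (132832, 0, 14, 35696) .leaf) (132833, 0, 17, 27414) (.node .leaf (132834, 0, 16, 87344) .leaf)) (132835, 0, 17, 199710) (.node (.node .leaf (132844, 0, 18, 10435) .leaf) (132845, 0, 14, 161709) (.node .leaf (132846, 0, 17, 245937) .leaf))) (132847, 0, 15, 206728) (.node (.node (.node .leaf (132852, 0, 15, 182790) .leaf) (132853, 0, 17, 60807) (.node .leaf (132854, 0, 18, 236067) .leaf)) (132855, 0, 17, 198133) (.node (.node .leaf (132856, 0, 17, 8488) .leaf) (132857, 0, 17, 161798) .leaf)))))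

/-- part of the orbit tree -/
def itp4_25 : Tree := (.node itp4_21 (132479, 0, 14, 18131) itp4_22)

/-- part of the orbit tree -/
def itp4_26 : Tree := (.node itp4_23 (132735, 0, 15, 248023) itp4_24)

/-- part of the orbit tree -/
def itp4_27 : Tree := (.node itp4_19 (132093, 0, 16, 257292) itp4_20)

/-- part of the orbit tree -/
def itp4_28 : Tree := (.node itp4_25 (132606, 0, 17, 143807) itp4_26)

/-- part of the orbit tree -/
def itp4_29 : Tree := (.node itp4_13 (131329, 0, 15, 106174) itp4_14)

/-- part of the orbit tree -/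
def itp4_30 : Tree := (.node itp4_27 (132350, 0, 17, 111467) itp4_28)

/-- part of the orbit tree -/
def itp4_31 : Tree := (.node (.node (.node (.node (.node (.node .leaf (132859, 0, 15, 102516) .leaf) (132868, 0, 15, 176213) (.node .leaf (132869, 0, 15, 67128) .leaf)) (132870, 0, 16, 88103) (.node (.node .leaf (132871, 0, 15, 22045) .leaf) (132872, 0, 14, 260837) (.node .leaf (132873, 0, 18, 203395) .leaf))) (132874, 0, 15, 174784) (.node (.node (.node .leaf (132875, 0, 19, 150182) .leaf) (132880, 0, 13, 178622) (.node .leaf (132881, 0, 16, 214862) .leaf)) (132882, 0, 17, 194317) (.node (.node .leaf (132883, 0, 16, 198882) .leaf) (132892, 0, 18, 113555) (.node .leaf (132893, 0, 17, 161041) .leaf)))) (132894, 0, 16, 60342) (.node (.node (.node (.node .leaf (132895, 0, 16, 3024) .leaf) (132896, 0, 17, 111170) (.node .leaf (132897, 0, 15, 256876) .leaf)) (132898, 0, 15, 230573) (.node (.node .leaf (132899, 0, 18, 222411) .leaf) (132908, 0, 15, 51251) (.node .leaf (132909, 0, 16, 10325) .leaf))) (132910, 0, 17, 104470) (.node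 (.node (.node .leaf (132911, 0, 18, 169631) .leaf) (132916, 0, 18, 113577) (.node .leaf (132917, 0, 16, 30104) .leaf)) (132918, 0, 17, 116187) (.node (.node .leaf (132919, 0, 17, 2805) .leaf) (132920, 0, 17, 208424) (.node .leaf (132921, 0, 15, 96006) .leaf))))) (132922, 0, 14, 50778) (.node (.node (.node (.node (.node .leaf (132923, 0, 17, 211206) .leaf) (132928, 0, 16, 177659) (.node .leaf (132929, 0, 18, 152989) .leaf)) (132930, 0, 16, 255454) (.node (.node .leaf (132931, 0, 13, 198072) .leaf) (132940, 0, 16, 131651) (.node .leaf (132941, 0, 16, 18726) .leaf))) (132942, 0, 12, 125489) (.node (.node (.node .leaf (132943, 0, 16, 242463) .leaf) (132948, 0, 11, 62605) (.node .leaf (132949, 0, 12, 182023) .leaf)) (132950, 0, 17, 226907) (.node (.node .leaf (132951, 0, 18, 77685) .leaf) (132952, 0, 16, 134056) (.node .leaf (132953, 0, 17, 21126) .leaf)))) (132954, 0, 16, 243731) (.node (.node (.node (.node .leaf (132955, 0, 14, 244468) .leaf) (132964, 0, 16, 100141) (.node .leaf (132965, 0, 13, 118011) .leaf)) (132966, 0, 19,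 55048) (.node (.node .leaf (132967, 0, 16, 140425) .leaf) (132968, 0, 17, 65620) (.node .leaf (132969, 0, 13, 228336) .leaf))) (132970, 0, 17, 183219) (.node (.node (.node .leaf (132971, 0, 15, 45320) .leaf) (132976, 0, 16, 236606) (.node .leaf (132977, 0, 15, 206397) .leaf)) (132978, 0, 16, 29772) (.node (.node .leaf (132979, 0, 16, 161304) .leaf) (132988, 0, 17, 121568) (.node .leaf (132989, 0, 14, 80518) .leaf))))))

/-- part of the orbit tree -/
def itp4_32 : Tree := (.node (.node (.node (.node (.node (.node .leaf (132991, 0, 12, 27299) .leaf) (132992, 0, 14, 229153) (.node .leaf (132993, 0, 16, 239633) .leaf)) (132994, 0, 15, 38739) (.node (.node .leaf (132995, 0, 14, 183933) .leaf) (133004, 0, 14, 87244) (.node .leaf (133005, 0, 18, 111786) .leaf))) (133006, 0, 16, 1257) (.node (.node (.node .leaf (133007, 0, 16, 23548) .leaf) (133012, 0, 13, 227018) (.node .leaf (133013, 0, 17, 125287) .leaf)) (133014, 0, 17, 40632) (.node (.node .leaf (133015, 0, 18, 182166) .leaf) (133016, 0, 14, 123723) (.node .leaf (133017, 0, 15,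 244325) .leaf)))) (133018, 0, 16, 133945) (.node (.node (.node (.node .leaf (133019, 0, 17, 173561) .leaf) (133028, 0, 13, 31393) (.node .leaf (133029, 0, 18, 39623) .leaf)) (133030, 0, 16, 234820) (.node (.node .leaf (133031, 0, 17, 117474) .leaf) (133032, 0, 15, 190647) (.node .leaf (133033, 0, 17, 45465) .leaf))) (133034, 0, 16, 210495) (.node (.node (.node .leaf (133035, 0, 16, 251481) .leaf) (133040, 0, 14, 29917) (.node .leaf (133041, 0, 17, 187313) .leaf)) (133042, 0, 17, 224242) (.node (.node .leaf (133043, 0, 17, 116097) .leaf) (133052, 0, 12, 10092) (.node .leaf (133053, 0, 16, 47218) .leaf))))) (133054, 0, 15, 67886) (.node (.node (.node (.node (.node .leaf (133055, 0, 16, 104239) .leaf) (133060, 0, 17, 7122) (.node .leaf (133061, 0, 16, 197016) .leaf)) (133062, 0, 17, 84983) (.node (.node .leaf (133063, 0, 17, 59882) .leaf) (133064, 0, 14, 249143) (.node .leaf (133065, 0, 16, 190223) .leaf))) (133066, 0, 9, 218956) (.node (.node (.node .leaf (133067, 0, 17, 243498) .leaf) (133072, 0, 13, 86365) (.node .leaf (133073,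 0, 16, 198771) .leaf)) (133074, 0, 16, 178479) (.node (.node .leaf (133075, 0, 17, 256743) .leaf) (133084, 0, 15, 17951) (.node .leaf (133085, 0, 17, 105970) .leaf)))) (133086, 0, 19, 11438) (.node (.node (.node (.node .leaf (133087, 0, 14, 128604) .leaf) (133088, 0, 17, 207108) (.node .leaf (133089, 0, 16, 911) .leaf)) (133090, 0, 12, 111315) (.node (.node .leaf (133091, 0, 15, 170311) .leaf) (133100, 0, 16, 79295) (.node .leaf (133101, 0, 17, 120281) .leaf))) (133102, 0, 15, 26010) (.node (.node (.node .leaf (133103, 0, 14, 97916) .leaf) (133108, 0, 17, 152394) (.node .leaf (133109, 0, 15, 100372) .leaf)) (133110, 0, 15, 113464) (.node (.node .leaf (133111, 0, 17, 254486) .leaf) (133112, 0, 13, 50891) (.node .leaf (133113, 0, 14, 234671) .leaf))))))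

/-- part of the orbit tree -/
def itp4_33 : Tree := (.node (.node (.node (.node (.node (.node .leaf (133115, 0, 17, 96151) .leaf) (133120, 0, 16, 79309) (.node .leaf (133123, 0, 17, 185360) .leaf)) (133124, 0, 18, 72273) (.node (.node .leaf (133127, 0, 15, 43789) .leaf) (133129, 0, 16, 120574) (.node .leaf (133130, 0, 17, 26530) .leaf))) (133133, 0, 15, 240099) (.node (.node (.node .leaf (133134, 0, 17, 137407) .leaf) (133137, 0, 15, 215700) (.node .leaf (133138, 0, 15, 138685) .leaf)) (133141, 0, 17, 79241) (.node (.node .leaf (133142, 0, 14, 140446) .leaf) (133144, 0, 16, 92160) (.node .leaf (133147, 0, 13, 18554) .leaf)))) (133148, 0, 14, 230971) (.node (.node (.node (.node .leaf (133151, 0, 17, 145255) .leaf) (133153, 0, 18, 187998) (.node .leaf (133154, 0, 14, 224797) .leaf)) (133157, 0, 15, 147061) (.node (.node .leaf (133158, 0, 15, 233257) .leaf) (133160, 0, 14, 7072) (.node .leaf (133163, 0, 13, 213894) .leaf))) (133164, 0, 13, 36295) (.node (.node (.node .leaf (133167, 0, 11, 103104) .leaf) (133168, 0, 19, 18029)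 (.node .leaf (133171, 0, 16, 122860) .leaf)) (133172, 0, 16, 135597) (.node (.node .leaf (133175, 0, 15, 237809) .leaf) (133177, 0, 17, 187650) (.node .leaf (133178, 0, 13, 224350) .leaf))))) (133181, 0, 13, 41503) (.node (.node (.node (.node (.node .leaf (133182, 0, 16, 70467) .leaf) (133185, 0, 16, 91368) (.node .leaf (133186, 0, 13, 54708) .leaf)) (133189, 0, 18, 203765) (.node (.node .leaf (133190, 0, 17, 174761) .leaf) (133192, 0, 15, 31443) (.node .leaf (133195, 0, 16, 117392) .leaf))) (133196, 0, 17, 17392) (.node (.node (.node .leaf (133199, 0, 16, 127923) .leaf) (133200, 0, 18, 10014) (.node .leaf (133203, 0, 18, 64108) .leaf)) (133204, 0, 17, 209965) (.node (.node .leaf (133207, 0, 17, 110206) .leaf) (133209, 0, 15, 189152) (.node .leaf (133210, 0, 10, 217763) .leaf)))) (133213, 0, 18, 187331) (.node (.node (.node (.node .leaf (133214, 0, 16, 14019) .leaf) (133216, 0, 15, 87230) (.node .leaf (133219, 0, 17, 58621) .leaf)) (133220, 0, 17, 16337) (.node (.node .leaf (133223, 0, 18, 56798) .leaf) (133225, 0, 15, 62334)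 (.node .leaf (133226, 0, 18, 139523) .leaf))) (133229, 0, 16, 167011) (.node (.node (.node .leaf (133230, 0, 14, 212287) .leaf) (133233, 0, 17, 159508) (.node .leaf (133234, 0, 17, 253512) .leaf)) (133237, 0, 17, 4105) (.node (.node .leaf (133238, 0, 18, 148973) .leaf) (133240, 0, 18, 56486) (.node .leaf (133243, 0, 17, 93690) .leaf))))))

/-- part of the orbit tree -/
def itp4_34 : Tree := (.node (.node (.node (.node (.node (.node .leaf (133247, 0, 17, 32787) .leaf) (133249, 0, 14, 166923) (.node .leaf (133250, 0, 16, 193250) .leaf)) (133253, 0, 16, 62230) (.node (.node .leaf (133254, 0, 14, 82506) .leaf) (133256, 0, 14, 16313) (.node .leaf (133259, 0, 16, 102117) .leaf))) (133260, 0, 14, 114300) (.node (.node (.node .leaf (133263, 0, 14, 258552) .leaf) (133264, 0, 17, 173011) (.node .leaf (133267, 0, 14, 201359) .leaf)) (133268, 0, 16, 123825) (.node (.node .leaf (133271, 0, 16, 93586) .leaf) (133273, 0, 17, 204652) (.node .leaf (133274, 0, 17, 175919) .leaf)))) (133277, 0, 17, 159612) (.node (.node (.node (.node .leaf (133278,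 0, 11, 169484) .leaf) (133280, 0, 17, 43314) (.node .leaf (133283, 0, 17, 6515) .leaf)) (133284, 0, 16, 36881) (.node (.node .leaf (133287, 0, 16, 73810) .leaf) (133289, 0, 13, 158924) (.node .leaf (133290, 0, 17, 174785) .leaf))) (133293, 0, 18, 91264) (.node (.node (.node .leaf (133294, 0, 17, 54748) .leaf) (133297, 0, 17, 143617) (.node .leaf (133298, 0, 17, 13995) .leaf)) (133301, 0, 15, 133154) (.node (.node .leaf (133302, 0, 16, 243809) .leaf) (133304, 0, 18, 209989) (.node .leaf (133307, 0, 16, 165145) .leaf))))) (133308, 0, 18, 52700) (.node (.node (.node (.node (.node .leaf (133311, 0, 14, 97695) .leaf) (133312, 0, 16, 51265) (.node .leaf (133315, 0, 17, 81139) .leaf)) (133316, 0, 17, 61794) (.node (.node .leaf (133319, 0, 16, 213998) .leaf) (133321, 0, 18, 146973) (.node .leaf (133322, 0, 17, 233281) .leaf))) (133325, 0, 17, 16640) (.node (.node (.node .leaf (133326, 0, 13, 230623) .leaf) (133329, 0, 16, 41591) (.node .leaf (133330, 0, 15, 70443) .leaf)) (133333, 0, 18, 158033) (.node (.node .leaf (133334, 0, 18,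 224310) .leaf) (133336, 0, 16, 135621) (.node .leaf (133339, 0, 14, 75215) .leaf)))) (133340, 0, 18, 44207) (.node (.node (.node (.node .leaf (133343, 0, 18, 122756) .leaf) (133345, 0, 16, 240011) (.node .leaf (133346, 0, 14, 168849) .leaf)) (133349, 0, 17, 203505) (.node (.node .leaf (133350, 0, 18, 174770) .leaf) (133352, 0, 15, 72249) (.node .leaf (133355, 0, 14, 22127) .leaf))) (133356, 0, 13, 122639) (.node (.node (.node .leaf (133359, 0, 17, 185464) .leaf) (133360, 0, 17, 230995) (.node .leaf (133363, 0, 10, 145167) .leaf)) (133364, 0, 15, 99010) (.node (.node .leaf (133367, 0, 15, 18450) .leaf) (133369, 0, 15, 228895) (.node .leaf (133370, 0, 16, 183900) .leaf))))))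

/-- part of the orbit tree -/
def itp4_35 : Tree := (.node itp4_31 (132990, 0, 13, 188877) itp4_32)

/-- part of the orbit tree -/
def itp4_36 : Tree := (.node itp4_33 (133244, 0, 15, 77904) itp4_34)

/-- part of the orbit tree -/
def itp4_37 : Tree := (.node (.node (.node (.node (.node (.node .leaf (133374, 0, 15, 194431) .leaf) (133376, 0, 16, 169913) (.node .leaf (133379, 0, 13, 206842) .leaf)) (133380, 0, 12, 175770) (.node (.node .leaf (133383, 0, 15, 19694) .leaf) (133385, 0, 12, 78109) (.node .leaf (133386, 0, 15, 32833) .leaf))) (133389, 0, 17, 216576) (.node (.node (.node .leaf (133390, 0, 15, 121639) .leaf) (133393, 0, 18, 3978) (.node .leaf (133394, 0, 17, 114633) .leaf)) (133397, 0, 17, 119402) (.node (.node .leaf (133398, 0, 15, 100074) .leaf) (133400, 0, 13, 182900) (.node .leaf (133403, 0, 18, 44953) .leaf)))) (133404, 0, 17, 193367) (.node (.node (.node (.node .leaf (133407, 0, 14, 184452) .leaf) (133409, 0, 17, 42635) (.node .leaf (133410, 0, 15, 71639) .leaf)) (133413, 0, 15, 83209) (.node (.node .leaf (133414,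 0, 17, 62794) .leaf) (133416, 0, 14, 244180) (.node .leaf (133419, 0, 18, 238693) .leaf))) (133420, 0, 17, 27172) (.node (.node (.node .leaf (133423, 0, 18, 143540) .leaf) (133424, 0, 13, 35155) (.node .leaf (133427, 0, 14, 79887) .leaf)) (133428, 0, 14, 253242) (.node (.node .leaf (133431, 0, 14, 159097) .leaf) (133433, 0, 12, 74215) (.node .leaf (133434, 0, 16, 232381) .leaf))))) (133437, 0, 15, 17916) (.node (.node (.node (.node (.node .leaf (133438, 0, 11, 43143) .leaf) (133441, 0, 16, 73049) (.node .leaf (133442, 0, 16, 12887) .leaf)) (133445, 0, 13, 261142) (.node (.node .leaf (133446, 0, 16, 150858) .leaf) (133448, 0, 15, 209081) (.node .leaf (133451, 0, 16, 157924) .leaf))) (133452, 0, 17, 85924) (.node (.node (.node .leaf (133455, 0, 16, 65272) .leaf) (133456, 0, 17, 109779) (.node .leaf (133459, 0, 17, 7567) .leaf)) (133460, 0, 16, 244809) (.node (.node .leaf (133463, 0, 18, 134154) .leaf) (133465, 0, 16, 82068) (.node .leaf (133466, 0, 17, 61655) .leaf)))) (133469, 0, 12, 96695) (.node (.node (.node (.node .leaf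 (133470, 0, 15, 53536) .leaf) (133472, 0, 16, 173871) (.node .leaf (133475, 0, 17, 214665) .leaf)) (133476, 0, 15, 184297) (.node (.node .leaf (133479, 0, 17, 229290) .leaf) (133481, 0, 15, 13108) (.node .leaf (133482, 0, 16, 99191) .leaf))) (133485, 0, 13, 158592) (.node (.node (.node .leaf (133486, 0, 16, 113236) .leaf) (133489, 0, 17, 166135) (.node .leaf (133490, 0, 14, 211371) .leaf)) (133493, 0, 17, 63466) (.node (.node .leaf (133494, 0, 14, 83638) .leaf) (133496, 0, 18, 174855) (.node .leaf (133499, 0, 17, 203588) .leaf))))))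

/-- part of the orbit tree -/
def itp4_38 : Tree := (.node (.node (.node (.node (.node (.node .leaf (133503, 0, 15, 205415) .leaf) (133505, 0, 16, 57557) (.node .leaf (133506, 0, 17, 86166) .leaf)) (133509, 0, 18, 55798) (.node (.node .leaf (133510, 0, 18, 92597) .leaf) (133512, 0, 13, 140587) (.node .leaf (133515, 0, 17, 92422) .leaf))) (133516, 0, 15, 173895) (.node (.node (.node .leaf (133519, 0, 15, 240715) .leaf) (133520, 0, 15, 162022) (.node .leaf (133523, 0, 17, 247973) .leaf)) (133524, 0, 17, 147909) (.node (.node .leaf (133527, 0, 17, 100977) .leaf) (133529, 0, 17, 48408) (.node .leaf (133530, 0, 17, 68955) .leaf)))) (133533, 0, 14, 33851) (.node (.node (.node (.node .leaf (133534, 0, 15, 78968) .leaf) (133536, 0, 7, 199494) (.node .leaf (133539, 0, 17, 65168) .leaf)) (133540, 0, 17, 209509) (.node (.node .leaf (133543, 0, 17, 164237) .leaf) (133545, 0, 15, 261246) (.node .leaf (133546, 0, 15, 150818) .leaf))) (133549, 0, 15, 99171) (.node (.node (.node .leaf (133550, 0, 16, 18392) .leaf) (133553, 0, 14, 90132) (.node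 .leaf (133554, 0, 16, 53576) .leaf)) (133557, 0, 13, 109142) (.node (.node .leaf (133558, 0, 14, 6677) .leaf) (133560, 0, 16, 250790) (.node .leaf (133563, 0, 17, 190152) .leaf))))) (133564, 0, 15, 225192) (.node (.node (.node (.node (.node .leaf (133567, 0, 17, 7655) .leaf) (133568, 0, 17, 27212) (.node .leaf (133571, 0, 18, 186998) .leaf)) (133572, 0, 16, 217878) (.node (.node .leaf (133575, 0, 14, 189269) .leaf) (133577, 0, 15, 110539) (.node .leaf (133578, 0, 16, 223394) .leaf))) (133581, 0, 10, 42723) (.node (.node (.node .leaf (133582, 0, 15, 71615) .leaf) (133585, 0, 17, 17812) (.node .leaf (133586, 0, 18, 128200) .leaf)) (133589, 0, 13, 146057) (.node (.node .leaf (133590, 0, 15, 31590) .leaf) (133592, 0, 14, 194086) (.node .leaf (133595, 0, 16, 214906) .leaf)))) (133596, 0, 16, 35131) (.node (.node (.node (.node .leaf (133599, 0, 14, 79975) .leaf) (133601, 0, 17, 216680) (.node .leaf (133602, 0, 17, 196404) .leaf)) (133605, 0, 15, 78197) (.node (.node .leaf (133606, 0, 17, 67782) .leaf) (133608, 0, 16, 148568) (.node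 .leaf (133611, 0, 17, 259099) .leaf))) (133612, 0, 17, 163195) (.node (.node (.node .leaf (133615, 0, 15, 249144) .leaf) (133616, 0, 18, 221616) (.node .leaf (133619, 0, 13, 184556) .leaf)) (133620, 0, 17, 139446) (.node (.node .leaf (133623, 0, 17, 233717) .leaf) (133625, 0, 15, 119298) (.node .leaf (133626, 0, 17, 25438) .leaf))))))

/-- part of the orbit tree -/
def itp4_39 : Tree := (.node (.node (.node (.node (.node (.node .leaf (133630, 0, 16, 87307) .leaf) (133634, 0, 15, 18840) (.node .leaf (133635, 0, 17, 184636) .leaf)) (133638, 0, 17, 194319) (.node (.node .leaf (133639, 0, 14, 44577) .leaf) (133640, 0, 18, 232188) (.node .leaf (133641, 0, 16, 119762) .leaf))) (133644, 0, 13, 128481) (.node (.node (.node .leaf (133645, 0, 15, 240847) .leaf) (133648, 0, 16, 71318) (.node .leaf (133649, 0, 16, 217016) .leaf)) (133652, 0, 17, 219339) (.node (.node .leaf (133653, 0, 16, 243885) .leaf) (133658, 0, 15, 136312) (.node .leaf (133659, 0, 17, 19798) .leaf)))) (133662, 0, 14, 27493) (.node (.node (.node (.node .leaf (133663,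 0, 14, 52496) .leaf) (133664, 0, 15, 138602) (.node .leaf (133665, 0, 16, 193070) .leaf)) (133668, 0, 14, 25207) (.node (.node .leaf (133669, 0, 13, 146265) .leaf) (133674, 0, 15, 73604) (.node .leaf (133675, 0, 15, 214698) .leaf))) (133678, 0, 10, 89814) (.node (.node (.node .leaf (133679, 0, 13, 114352) .leaf) (133682, 0, 14, 80440) (.node .leaf (133683, 0, 16, 121438) .leaf)) (133686, 0, 13, 66331) (.node (.node .leaf (133687, 0, 17, 239069) .leaf) (133688, 0, 17, 151429) (.node .leaf (133689, 0, 17, 186414) .leaf))))) (133692, 0, 15, 161446) (.node (.node (.node (.node (.node .leaf (133693, 0, 15, 169664) .leaf) (133696, 0, 16, 211178) (.node .leaf (133697, 0, 16, 90564) .leaf)) (133700, 0, 12, 83959) (.node (.node .leaf (133701, 0, 15, 204505) .leaf) (133706, 0, 11, 67206) (.node .leaf (133707, 0, 15, 156458) .leaf))) (133710, 0, 14, 148761) (.node (.node (.node .leaf (133711, 0, 13, 7223) .leaf) (133714, 0, 16, 88907) (.node .leaf (133715, 0, 14, 113453) .leaf)) (133718, 0, 16, 90728) (.node (.node .leaf (133719, 0, 18,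 163933) .leaf) (133720, 0, 17, 107648) (.node .leaf (133721, 0, 18, 183952) .leaf)))) (133724, 0, 16, 252829) (.node (.node (.node (.node .leaf (133725, 0, 17, 194483) .leaf) (133730, 0, 15, 10475) (.node .leaf (133731, 0, 15, 259260) .leaf)) (133734, 0, 16, 4552) (.node (.node .leaf (133735, 0, 14, 101281) .leaf) (133736, 0, 16, 175996) (.node .leaf (133737, 0, 17, 245040) .leaf))) (133740, 0, 17, 53345) (.node (.node (.node .leaf (133741, 0, 16, 166223) .leaf) (133744, 0, 18, 196763) (.node .leaf (133745, 0, 8, 158264) .leaf)) (133748, 0, 16, 211384) (.node (.node .leaf (133749, 0, 18, 252382) .leaf) (133754, 0, 15, 209400) (.node .leaf (133755, 0, 16, 92374) .leaf))))))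

/-- part of the orbit tree -/
def itp4_40 : Tree := (.node (.node (.node (.node (.node (.node .leaf (133759, 0, 13, 202699) .leaf) (133760, 0, 17, 53257) (.node .leaf (133761, 0, 16, 224977) .leaf)) (133764, 0, 11, 175892) (.node (.node .leaf (133765, 0, 16, 63034) .leaf) (133770, 0, 13, 64266) (.node .leaf (133771, 0, 17, 7020) .leaf))) (133774, 0, 15, 49705) (.node (.node (.node .leaf (133775, 0, 16, 8783) .leaf) (133778, 0, 16, 85645) (.node .leaf (133779, 0, 19, 202659) .leaf)) (133782, 0, 12, 209296) (.node (.node .leaf (133783, 0, 18, 92350) .leaf) (133784, 0, 17, 250746) (.node .leaf (133785, 0, 18, 209692) .leaf)))) (133788, 0, 15, 13182) (.node (.node (.node (.node .leaf (133789, 0, 16, 158288) .leaf) (133794, 0, 16, 120167) (.node .leaf (133795, 0, 19, 7263) .leaf)) (133798, 0, 16, 14956) (.node (.node .leaf (133799, 0, 17, 68642) .leaf) (133800, 0, 16, 83871) (.node .leaf (133801, 0, 16, 147644) .leaf))) (133804, 0, 17, 211074) (.node (.node (.node .leaf (133805, 0, 16, 90540) .leaf) (133808, 0, 15, 252917) (.node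 .leaf (133809, 0, 15, 99035) .leaf)) (133812, 0, 11, 181300) (.node (.node .leaf (133813, 0, 17, 261574) .leaf) (133818, 0, 16, 100522) (.node .leaf (133819, 0, 17, 163893) .leaf))))) (133822, 0, 12, 110985) (.node (.node (.node (.node (.node .leaf (133823, 0, 15, 65320) .leaf) (133826, 0, 16, 221425) (.node .leaf (133827, 0, 15, 80351) .leaf)) (133830, 0, 18, 101687) (.node (.node .leaf (133831, 0, 16, 214722) .leaf) (133832, 0, 15, 180649) (.node .leaf (133833, 0, 15, 146225) .leaf))) (133836, 0, 16, 194698) (.node (.node (.node .leaf (133837, 0, 18, 137452) .leaf) (133840, 0, 13, 171108) (.node .leaf (133841, 0, 14, 162818) .leaf)) (133844, 0, 17, 33128) (.node (.node .leaf (133845, 0, 18, 186438) .leaf) (133850, 0, 13, 130203) (.node .leaf (133851, 0, 10, 239029) .leaf)))) (133854, 0, 9, 119034) (.node (.node (.node (.node .leaf (133855, 0, 16, 77980) .leaf) (133856, 0, 14, 257988) (.node .leaf (133857, 0, 17, 200610) .leaf)) (133860, 0, 16, 232084) (.node (.node .leaf (133861, 0, 16, 119738) .leaf) (133866, 0, 13, 39545)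 (.node .leaf (133867, 0, 18, 44617) .leaf))) (133870, 0, 19, 41818) (.node (.node (.node .leaf (133871, 0, 16, 184660) .leaf) (133874, 0, 18, 27405) (.node .leaf (133875, 0, 17, 10194) .leaf)) (133878, 0, 16, 65175) (.node (.node .leaf (133879, 0, 17, 7921) .leaf) (133880, 0, 15, 223715) .leaf)))))

/-- part of the orbit tree -/
def itp4_41 : Tree := (.node itp4_37 (133500, 0, 16, 148568) itp4_38)

/-- part of the orbit tree -/
def itp4_42 : Tree := (.node itp4_39 (133758, 0, 15, 19461) itp4_40)

/-- part of the orbit tree -/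
def itp4_43 : Tree := (.node itp4_35 (133114, 0, 17, 140524) itp4_36)

/-- part of the orbit tree -/
def itp4_44 : Tree := (.node itp4_41 (133629, 0, 16, 58696) itp4_42)

/-- part of the orbit tree -/
def itp4_45 : Tree := (.node (.node (.node (.node (.node (.node .leaf (133884, 0, 16, 71422) .leaf) (133885, 0, 14, 217040) (.node .leaf (133890, 0, 18, 257004) .leaf)) (133891, 0, 14, 145119) (.node (.node .leaf (133894, 0, 16, 250575) .leaf) (133895, 0, 16, 209577) (.node .leaf (133896, 0, 17, 40529) .leaf))) (133897, 0, 16, 78897) (.node (.node (.node .leaf (133900, 0, 16, 70146) .leaf) (133901, 0, 14, 215852) (.node .leaf (133904, 0, 16, 127349) .leaf)) (133905, 0, 17, 9210) (.node (.node .leaf (133908, 0, 13, 233064) .leaf) (133909, 0, 16, 120646) (.node .leaf (133914, 0, 18, 243233) .leaf)))) (133915, 0, 16, 43701) (.node (.node (.node (.node .leaf (133918, 0, 15, 233218) .leaf) (133919, 0, 18, 185768) (.node .leaf (133920, 0, 15, 110652) .leaf)) (133921, 0, 17, 86106) (.node (.node .leaf (133924, 0, 16, 100639) .leaf) (133925,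 0, 15, 187578) (.node .leaf (133930, 0, 18, 129127) .leaf))) (133931, 0, 18, 237897) (.node (.node (.node .leaf (133934, 0, 15, 195746) .leaf) (133935, 0, 15, 122452) (.node .leaf (133938, 0, 16, 170060) .leaf)) (133939, 0, 12, 161834) (.node (.node .leaf (133942, 0, 16, 172399) .leaf) (133943, 0, 18, 213566) (.node .leaf (133944, 0, 18, 126449) .leaf))))) (133945, 0, 15, 147405) (.node (.node (.node (.node (.node .leaf (133948, 0, 17, 137726) .leaf) (133949, 0, 15, 79028) (.node .leaf (133952, 0, 17, 119119) .leaf)) (133953, 0, 17, 78121) (.node (.node .leaf (133956, 0, 16, 125036) .leaf) (133957, 0, 18, 260410) (.node .leaf (133962, 0, 16, 173298) .leaf))) (133963, 0, 14, 165065) (.node (.node (.node .leaf (133966, 0, 13, 171473) .leaf) (133967, 0, 16, 64468) (.node .leaf (133970, 0, 16, 147853) .leaf)) (133971, 0, 10, 137561) (.node (.node .leaf (133974, 0, 18, 16016) .leaf) (133975, 0, 15, 139386) (.node .leaf (133976, 0, 18, 101506) .leaf)))) (133977, 0, 16, 203341) (.node (.node (.node (.node .leaf (133980, 0, 16, 112033)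 .leaf) (133981, 0, 18, 91472) (.node .leaf (133986, 0, 13, 84593) .leaf)) (133987, 0, 15, 201567) (.node (.node .leaf (133990, 0, 18, 210284) .leaf) (133991, 0, 18, 93250) (.node .leaf (133992, 0, 19, 65314) .leaf))) (133993, 0, 16, 4529) (.node (.node (.node .leaf (133996, 0, 15, 50689) .leaf) (133997, 0, 17, 9831) (.node .leaf (134000, 0, 15, 41711) .leaf)) (134001, 0, 17, 17033) (.node (.node .leaf (134004, 0, 13, 175080) .leaf) (134005, 0, 15, 31658) (.node .leaf (134010, 0, 17, 251730) .leaf))))))

/-- part of the orbit tree -/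
def itp4_46 : Tree := (.node (.node (.node (.node (.node (.node .leaf (134014, 0, 14, 257649) .leaf) (134015, 0, 17, 200215) (.node .leaf (134016, 0, 16, 14314) .leaf)) (134017, 0, 16, 159428) (.node (.node .leaf (134020, 0, 18, 149751) .leaf) (134021, 0, 14, 62854) (.node .leaf (134026, 0, 16, 210180) .leaf))) (134027, 0, 8, 93226) (.node (.node (.node .leaf (134030, 0, 15, 84505) .leaf) (134031, 0, 14, 229435) (.node .leaf (134034, 0, 14, 197811) .leaf)) (134035, 0, 13, 258112) (.node (.node .leaf (134038, 0, 16, 251507) .leaf) (134039, 0, 14, 253430) (.node .leaf (134040, 0, 12, 174976) .leaf)))) (134041, 0, 17, 37224) (.node (.node (.node (.node .leaf (134044, 0, 15, 54429) .leaf) (134045, 0, 14, 43083) (.node .leaf (134050, 0, 19, 161555) .leaf)) (134051, 0, 17, 169845) (.node (.node .leaf (134054, 0, 13, 56719) .leaf) (134055, 0, 18, 175702) (.node .leaf (134056, 0, 15, 106620) .leaf))) (134057, 0, 17, 123592) (.node (.node (.node .leaf (134060, 0, 18, 80781) .leaf) (134061, 0, 18, 121835) (.node .leaf (134064, 0, 15,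 89955) .leaf)) (134065, 0, 16, 114437) (.node (.node .leaf (134068, 0, 15, 82699) .leaf) (134069, 0, 14, 99878) (.node .leaf (134074, 0, 11, 16120) .leaf))))) (134075, 0, 15, 182968) (.node (.node (.node (.node (.node .leaf (134078, 0, 16, 147941) .leaf) (134079, 0, 17, 6347) (.node .leaf (134082, 0, 17, 231186) .leaf)) (134083, 0, 17, 194054) (.node (.node .leaf (134086, 0, 17, 129039) .leaf) (134087, 0, 18, 237857) (.node .leaf (134088, 0, 16, 91101) .leaf))) (134089, 0, 19, 187602) (.node (.node (.node .leaf (134092, 0, 14, 88830) .leaf) (134093, 0, 16, 113304) (.node .leaf (134096, 0, 15, 81424) .leaf)) (134097, 0, 15, 16568) (.node (.node .leaf (134100, 0, 17, 26251) .leaf) (134101, 0, 17, 124757) (.node .leaf (134106, 0, 17, 72568) .leaf)))) (134107, 0, 12, 213590) (.node (.node (.node (.node .leaf (134110, 0, 18, 160398) .leaf) (134111, 0, 15, 81227) (.node .leaf (134112, 0, 18, 19888) .leaf)) (134113, 0, 18, 215876) (.node (.node .leaf (134116, 0, 15, 224631) .leaf) (134117, 0, 15, 38133) (.node .leaf (134122, 0, 17,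 135300) .leaf))) (134123, 0, 11, 18858) (.node (.node (.node .leaf (134126, 0, 15, 28569) .leaf) (134127, 0, 19, 254280) (.node .leaf (134130, 0, 16, 36078) .leaf)) (134131, 0, 17, 185792) (.node (.node .leaf (134134, 0, 18, 220387) .leaf) (134135, 0, 17, 43741) (.node .leaf (134136, 0, 15, 232960) .leaf))))))

/-- part of the orbit tree -/
def itp4_47 : Tree := (.node (.node (.node (.node (.node (.node .leaf (134140, 0, 15, 127261) .leaf) (134141, 0, 13, 51512) (.node .leaf (134145, 0, 14, 143766) .leaf)) (134147, 0, 13, 121316) (.node (.node .leaf (134149, 0, 16, 20107) .leaf) (134151, 0, 16, 108037) (.node .leaf (134152, 0, 15, 133885) .leaf))) (134154, 0, 17, 223830) (.node (.node (.node .leaf (134156, 0, 10, 195897) .leaf) (134158, 0, 14, 222203) (.node .leaf (134160, 0, 16, 138830) .leaf)) (134162, 0, 15, 128572) (.node (.node .leaf (134164, 0, 17, 24915) .leaf) (134166, 0, 15, 212534) (.node .leaf (134169, 0, 16, 44540) .leaf)))) (134171, 0, 10, 214414) (.node (.node (.node (.node .leaf (134173, 0, 18, 44013) .leaf)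 (134175, 0, 16, 129992) (.node .leaf (134176, 0, 18, 205968) .leaf)) (134178, 0, 16, 196032) (.node (.node .leaf (134180, 0, 17, 204211) .leaf) (134182, 0, 16, 150934) (.node .leaf (134185, 0, 12, 239104) .leaf))) (134187, 0, 15, 45387) (.node (.node (.node .leaf (134189, 0, 15, 120909) .leaf) (134191, 0, 16, 34920) (.node .leaf (134193, 0, 18, 113827) .leaf)) (134195, 0, 17, 184856) (.node (.node .leaf (134197, 0, 15, 214391) .leaf) (134199, 0, 16, 54693) (.node .leaf (134200, 0, 16, 227677) .leaf))))) (134202, 0, 16, 25002) (.node (.node (.node (.node (.node .leaf (134204, 0, 18, 213118) .leaf) (134206, 0, 14, 135259) (.node .leaf (134208, 0, 16, 12338) .leaf)) (134210, 0, 18, 251968) (.node (.node .leaf (134212, 0, 12, 228544) .leaf) (134214, 0, 16, 142565) (.node .leaf (134217, 0, 15, 98333) .leaf))) (134219, 0, 15, 53304) (.node (.node (.node .leaf (134221, 0, 16, 64669) .leaf) (134223, 0, 17, 59675) (.node .leaf (134225, 0, 16, 122320) .leaf)) (134227, 0, 15, 36341) (.node (.node .leaf (134229, 0, 17, 124147) .leaf) (134231,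 0, 16, 100485) (.node .leaf (134232, 0, 15, 202798) .leaf)))) (134234, 0, 16, 82986) (.node (.node (.node (.node .leaf (134236, 0, 15, 205069) .leaf) (134238, 0, 15, 211767) (.node .leaf (134241, 0, 15, 201750) .leaf)) (134243, 0, 18, 130645) (.node (.node .leaf (134245, 0, 15, 38739) .leaf) (134247, 0, 17, 164729) (.node .leaf (134248, 0, 17, 108452) .leaf))) (134250, 0, 14, 211883) (.node (.node (.node .leaf (134252, 0, 16, 152237) .leaf) (134254, 0, 16, 12491) (.node .leaf (134256, 0, 17, 144963) .leaf)) (134258, 0, 12, 222822) (.node (.node .leaf (134260, 0, 14, 135008) .leaf) (134262, 0, 17, 175265) (.node .leaf (134265, 0, 16, 62397) .leaf))))))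

/-- part of the orbit tree -/
def itp4_48 : Tree := (.node (.node (.node (.node (.node (.node .leaf (134269, 0, 15, 259937) .leaf) (134271, 0, 14, 7955) (.node .leaf (134272, 0, 13, 178287) .leaf)) (134274, 0, 15, 256074) (.node (.node .leaf (134276, 0, 18, 164172) .leaf) (134278, 0, 16, 250217) (.node .leaf (134281, 0, 17, 32145) .leaf))) (134283, 0, 19, 77236) (.node (.node (.node .leaf (134285, 0, 15, 201854) .leaf) (134287, 0, 18, 64524) (.node .leaf (134289, 0, 17, 8284) .leaf)) (134291, 0, 15, 94329) (.node (.node .leaf (134293, 0, 15, 100372) .leaf) (134295, 0, 13, 84314) (.node .leaf (134296, 0, 17, 83131) .leaf)))) (134298, 0, 15, 243079) (.node (.node (.node (.node .leaf (134300, 0, 16, 187521) .leaf) (134302, 0, 16, 232612) (.node .leaf (134305, 0, 16, 64757) .leaf)) (134307, 0, 15, 201863) (.node (.node .leaf (134309, 0, 13, 92895) .leaf) (134311, 0, 13, 15098) (.node .leaf (134312, 0, 15, 151367) .leaf))) (134314, 0, 12, 108341) (.node (.node (.node .leaf (134316, 0, 16, 241441) .leaf) (134318, 0, 15, 196356)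 (.node .leaf (134320, 0, 16, 54061) .leaf)) (134322, 0, 17, 211807) (.node (.node .leaf (134324, 0, 15, 258796) .leaf) (134326, 0, 19, 83010) (.node .leaf (134329, 0, 18, 69169) .leaf))))) (134331, 0, 16, 24084) (.node (.node (.node (.node (.node .leaf (134333, 0, 17, 79634) .leaf) (134335, 0, 18, 260080) (.node .leaf (134337, 0, 12, 78479) .leaf)) (134339, 0, 18, 143623) (.node (.node .leaf (134341, 0, 17, 68524) .leaf) (134343, 0, 13, 19994) (.node .leaf (134344, 0, 10, 259953) .leaf))) (134346, 0, 16, 33461) (.node (.node (.node .leaf (134348, 0, 17, 71130) .leaf) (134350, 0, 17, 171639) (.node .leaf (134352, 0, 15, 128685) .leaf)) (134354, 0, 17, 138975) (.node (.node .leaf (134356, 0, 18, 231856) .leaf) (134358, 0, 17, 181178) (.node .leaf (134361, 0, 14, 214303) .leaf)))) (134363, 0, 16, 16231) (.node (.node (.node (.node .leaf (134365, 0, 17, 87649) .leaf) (134367, 0, 16, 1604) (.node .leaf (134368, 0, 12, 195921) .leaf)) (134370, 0, 17, 70947) (.node (.node .leaf (134372, 0, 18, 33356) .leaf) (134374, 0, 18, 223806)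 (.node .leaf (134377, 0, 15, 7394) .leaf))) (134379, 0, 16, 239249) (.node (.node (.node .leaf (134381, 0, 16, 9665) .leaf) (134383, 0, 17, 95716) (.node .leaf (134385, 0, 17, 184969) .leaf)) (134387, 0, 18, 69898) (.node (.node .leaf (134389, 0, 15, 30732) .leaf) (134391, 0, 17, 75817) (.node .leaf (134392, 0, 16, 165073) .leaf))))))

/-- part of the orbit tree -/
def itp4_49 : Tree := (.node itp4_45 (134011, 0, 17, 210740) itp4_46)

/-- part of the orbit tree -/
def itp4_50 : Tree := (.node itp4_47 (134267, 0, 17, 107416) itp4_48)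

/-- part of the orbit tree -/
def itp4_51 : Tree := (.node (.node (.node (.node (.node (.node .leaf (134396, 0, 14, 138790) .leaf) (134398, 0, 18, 257495) (.node .leaf (134401, 0, 13, 185973) .leaf)) (134403, 0, 19, 81415) (.node (.node .leaf (134405, 0, 17, 43368) .leaf) (134407, 0, 16, 132209) (.node .leaf (134408, 0, 16, 108681) .leaf))) (134410, 0, 16, 63660) (.node (.node (.node .leaf (134412, 0, 12, 137946) .leaf) (134414, 0, 16, 127656) (.node .leaf (134416, 0, 18, 194989) .leaf)) (134418, 0, 18, 42337) (.node (.node .leaf (134420, 0, 16, 34480) .leaf) (134422, 0, 18, 224962) (.node .leaf (134425, 0, 13, 18975) .leaf)))) (134427, 0, 18, 238189) (.node (.node (.node (.node .leaf (134429, 0, 16, 144642) .leaf) (134431, 0, 17, 154044) (.node .leaf (134432, 0, 15, 127569) .leaf)) (134434, 0, 18, 137763) (.node (.node .leaf (134436, 0, 16, 232780) .leaf) (134438, 0, 15, 126946) (.node .leaf (134441, 0, 16, 213475) .leaf))) (134443, 0, 17, 43409) (.node (.node (.node .leaf (134445, 0, 16, 162361) .leaf) (134447, 0, 17, 185996)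 (.node .leaf (134449, 0, 15, 122249) .leaf)) (134451, 0, 17, 216818) (.node (.node .leaf (134453, 0, 16, 141300) .leaf) (134455, 0, 15, 19174) (.node .leaf (134456, 0, 18, 224827) .leaf))))) (134458, 0, 18, 34377) (.node (.node (.node (.node (.node .leaf (134460, 0, 17, 69926) .leaf) (134462, 0, 16, 194900) (.node .leaf (134464, 0, 16, 55249) .leaf)) (134466, 0, 14, 112562) (.node (.node .leaf (134468, 0, 14, 57012) .leaf) (134470, 0, 17, 82110) (.node .leaf (134473, 0, 14, 139881) .leaf))) (134475, 0, 13, 101393) (.node (.node (.node .leaf (134477, 0, 14, 138058) .leaf) (134479, 0, 15, 215919) (.node .leaf (134481, 0, 15, 163748) .leaf)) (134483, 0, 17, 208769) (.node (.node .leaf (134485, 0, 15, 165652) .leaf) (134487, 0, 17, 202402) (.node .leaf (134488, 0, 17, 150459) .leaf)))) (134490, 0, 14, 125567) (.node (.node (.node (.node .leaf (134492, 0, 16, 33657) .leaf) (134494, 0, 13, 253140) (.node .leaf (134497, 0, 13, 199684) .leaf)) (134499, 0, 16, 154657) (.node (.node .leaf (134501, 0, 17, 101608) .leaf) (134503, 0, 17,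 156930) (.node .leaf (134504, 0, 15, 81991) .leaf))) (134506, 0, 17, 174133) (.node (.node (.node .leaf (134508, 0, 16, 127193) .leaf) (134510, 0, 16, 55080) (.node .leaf (134512, 0, 18, 103479) .leaf)) (134514, 0, 16, 50194) (.node (.node .leaf (134516, 0, 16, 107312) .leaf) (134518, 0, 15, 150338) (.node .leaf (134521, 0, 17, 94111) .leaf))))))

/-- part of the orbit tree -/
def itp4_52 : Tree := (.node (.node (.node (.node (.node (.node .leaf (134525, 0, 14, 223466) .leaf) (134527, 0, 16, 63728) (.node .leaf (134528, 0, 16, 212786) .leaf)) (134530, 0, 17, 19006) (.node (.node .leaf (134532, 0, 18, 81967) .leaf) (134534, 0, 16, 174173) (.node .leaf (134537, 0, 17, 253925) .leaf))) (134539, 0, 12, 167872) (.node (.node (.node .leaf (134541, 0, 17, 255686) .leaf) (134543, 0, 17, 177891) (.node .leaf (134545, 0, 16, 229928) .leaf)) (134547, 0, 17, 63640) (.node (.node .leaf (134549, 0, 17, 244491) .leaf) (134551, 0, 14, 191278) (.node .leaf (134552, 0, 18, 107352) .leaf)))) (134554, 0, 17, 6131) (.node (.node (.node (.node .leaf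 (134556, 0, 18, 252997) .leaf) (134558, 0, 12, 13367) (.node .leaf (134561, 0, 17, 192904) .leaf)) (134563, 0, 17, 237997) (.node (.node .leaf (134565, 0, 15, 182443) .leaf) (134567, 0, 15, 235662) (.node .leaf (134568, 0, 15, 174244) .leaf))) (134570, 0, 19, 91219) (.node (.node (.node .leaf (134572, 0, 17, 55225) .leaf) (134574, 0, 17, 212939) (.node .leaf (134576, 0, 16, 27067) .leaf)) (134578, 0, 15, 80286) (.node (.node .leaf (134580, 0, 11, 20632) .leaf) (134582, 0, 14, 107425) (.node .leaf (134585, 0, 13, 175173) .leaf))))) (134587, 0, 18, 261216) (.node (.node (.node (.node (.node .leaf (134589, 0, 15, 63585) .leaf) (134591, 0, 18, 200723) (.node .leaf (134593, 0, 17, 168187) .leaf)) (134595, 0, 17, 186084) (.node (.node .leaf (134597, 0, 17, 174552) .leaf) (134599, 0, 16, 260605) (.node .leaf (134600, 0, 16, 232740) .leaf))) (134602, 0, 12, 25942) (.node (.node (.node .leaf (134604, 0, 19, 127545) .leaf) (134606, 0, 19, 137803) (.node .leaf (134608, 0, 15, 69966) .leaf)) (134610, 0, 18, 88301) (.node (.node .leaf (134612,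 0, 14, 12779) .leaf) (134614, 0, 17, 34337) (.node .leaf (134617, 0, 17, 238332) .leaf)))) (134619, 0, 17, 19086) (.node (.node (.node (.node .leaf (134621, 0, 17, 193557) .leaf) (134623, 0, 14, 144787) (.node .leaf (134624, 0, 17, 137906) .leaf)) (134626, 0, 17, 127680) (.node (.node .leaf (134628, 0, 17, 82507) .leaf) (134630, 0, 16, 4718) (.node .leaf (134633, 0, 16, 43264) .leaf))) (134635, 0, 16, 213362) (.node (.node (.node .leaf (134637, 0, 12, 231349) .leaf) (134639, 0, 17, 186256) (.node .leaf (134641, 0, 15, 254811) .leaf)) (134643, 0, 17, 122136) (.node (.node .leaf (134645, 0, 13, 19063) .leaf) (134647, 0, 16, 238085) (.node .leaf (134648, 0, 18, 75429) .leaf))))))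

/-- part of the orbit tree -/
def itp4_53 : Tree := (.node (.node (.node (.node (.node (.node .leaf (134652, 0, 16, 73606) .leaf) (134654, 0, 14, 20387) (.node .leaf (134656, 0, 17, 789) .leaf)) (134657, 0, 17, 144570) (.node (.node .leaf (134658, 0, 16, 86832) .leaf) (134659, 0, 15, 111446) (.node .leaf (134660, 0, 18, 135817) .leaf))) (134661, 0, 15, 55888) (.node (.node (.node .leaf (134662, 0, 13, 92691) .leaf) (134663, 0, 16, 238549) (.node .leaf (134680, 0, 15, 193022) .leaf)) (134681, 0, 16, 48830) (.node (.node .leaf (134682, 0, 17, 69373) .leaf) (134683, 0, 17, 126619) (.node .leaf (134684, 0, 18, 36579) .leaf)))) (134685, 0, 16, 34717) (.node (.node (.node (.node .leaf (134686, 0, 17, 79838) .leaf) (134687, 0, 14, 120760) (.node .leaf (134696, 0, 16, 129538) .leaf)) (134697, 0, 13, 118046) (.node (.node .leaf (134698, 0, 12, 32093) .leaf) (134699, 0, 15, 19294) (.node .leaf (134700, 0, 17, 70747) .leaf))) (134701, 0, 17, 128061) (.node (.node (.node .leaf (134702, 0, 16, 28013) .leaf) (134703, 0, 17, 42008) (.node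 .leaf (134704, 0, 16, 94389) .leaf)) (134705, 0, 16, 102611) (.node (.node .leaf (134706, 0, 16, 8336) .leaf) (134707, 0, 17, 49398) (.node .leaf (134708, 0, 17, 84374) .leaf))))) (134709, 0, 17, 109040) (.node (.node (.node (.node (.node .leaf (134710, 0, 17, 192775) .leaf) (134711, 0, 12, 43049) (.node .leaf (134728, 0, 14, 57218) .leaf)) (134729, 0, 18, 109677) (.node (.node .leaf (134730, 0, 15, 210928) .leaf) (134731, 0, 16, 93918) (.node .leaf (134732, 0, 18, 95528) .leaf))) (134733, 0, 16, 103758) (.node (.node (.node .leaf (134734, 0, 15, 9485) .leaf) (134735, 0, 15, 201155) (.node .leaf (134736, 0, 15, 148456) .leaf)) (134737, 0, 18, 127392) (.node (.node .leaf (134738, 0, 14, 109466) .leaf) (134739, 0, 16, 41349) (.node .leaf (134740, 0, 15, 15605) .leaf)))) (134741, 0, 13, 157147) (.node (.node (.node (.node .leaf (134742, 0, 17, 30912) .leaf) (134743, 0, 18, 39078) (.node .leaf (134752, 0, 17, 25190) .leaf)) (134753, 0, 18, 33280) (.node (.node .leaf (134754, 0, 17, 172134) .leaf) (134755, 0, 16, 63816) (.node .leaf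 (134756, 0, 18, 23365) .leaf))) (134757, 0, 15, 47907) (.node (.node (.node .leaf (134758, 0, 16, 68448) .leaf) (134759, 0, 15, 125702) (.node .leaf (134776, 0, 16, 251006) .leaf)) (134777, 0, 15, 101712) (.node (.node .leaf (134778, 0, 15, 94094) .leaf) (134779, 0, 17, 102376) (.node .leaf (134780, 0, 16, 109411) .leaf))))))

/-- part of the orbit tree -/
def itp4_54 : Tree := (.node (.node (.node (.node (.node (.node .leaf (134782, 0, 14, 148241) .leaf) (134783, 0, 16, 112331) (.node .leaf (134792, 0, 17, 210785) .leaf)) (134793, 0, 17, 20961) (.node (.node .leaf (134794, 0, 16, 123298) .leaf) (134795, 0, 18, 165437) (.node .leaf (134796, 0, 15, 84092) .leaf))) (134797, 0, 16, 201042) (.node (.node (.node .leaf (134798, 0, 12, 120961) .leaf) (134799, 0, 18, 63776) (.node .leaf (134800, 0, 10, 60490) .leaf)) (134801, 0, 15, 3116) (.node (.node .leaf (134802, 0, 15, 148345) .leaf) (134803, 0, 15, 6743) (.node .leaf (134804, 0, 12, 250902) .leaf)))) (134805, 0, 14, 13583) (.node (.node (.node (.node .leaf (134806, 0, 17, 15460)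 .leaf) (134807, 0, 15, 91434) (.node .leaf (134816, 0, 18, 106474) .leaf)) (134817, 0, 15, 63961) (.node (.node .leaf (134818, 0, 11, 84101) .leaf) (134819, 0, 16, 201131) (.node .leaf (134820, 0, 17, 57322) .leaf))) (134821, 0, 16, 83631) (.node (.node (.node .leaf (134822, 0, 3, 210840) .leaf) (134823, 0, 15, 5770) (.node .leaf (134840, 0, 16, 15517) .leaf)) (134841, 0, 17, 74305) (.node (.node .leaf (134842, 0, 16, 251119) .leaf) (134843, 0, 11, 29284) (.node .leaf (134844, 0, 18, 148352) .leaf))))) (134845, 0, 15, 72546) (.node (.node (.node (.node (.node .leaf (134846, 0, 17, 109554) .leaf) (134847, 0, 14, 19271) (.node .leaf (134848, 0, 16, 230775) .leaf)) (134849, 0, 15, 73471) (.node (.node .leaf (134850, 0, 14, 44732) .leaf) (134851, 0, 15, 20186) (.node .leaf (134852, 0, 17, 116666) .leaf))) (134853, 0, 17, 75740) (.node (.node (.node .leaf (134854, 0, 12, 135704) .leaf) (134855, 0, 15, 30713) (.node .leaf (134872, 0, 15, 71965) .leaf)) (134873, 0, 15, 213043) (.node (.node .leaf (134874, 0, 14, 192879) .leaf) (134875,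 0, 15, 43073) (.node .leaf (134876, 0, 16, 222720) .leaf)))) (134877, 0, 16, 96785) (.node (.node (.node (.node .leaf (134878, 0, 17, 51794) .leaf) (134879, 0, 14, 186204) (.node .leaf (134888, 0, 18, 135905) .leaf)) (134889, 0, 14, 12434) (.node (.node .leaf (134890, 0, 18, 129683) .leaf) (134891, 0, 15, 90295) (.node .leaf (134892, 0, 17, 28156) .leaf))) (134893, 0, 16, 144594) (.node (.node (.node .leaf (134894, 0, 17, 230798) .leaf) (134895, 0, 9, 122016) (.node .leaf (134896, 0, 11, 36491) .leaf)) (134897, 0, 16, 186277) (.node (.node .leaf (134898, 0, 16, 222969) .leaf) (134899, 0, 13, 81879) .leaf)))))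

/-- part of the orbit tree -/
def itp4_55 : Tree := (.node itp4_51 (134523, 0, 17, 131564) itp4_52)

/-- part of the orbit tree -/
def itp4_56 : Tree := (.node itp4_53 (134781, 0, 18, 258637) itp4_54)

/-- part of the orbit tree -/
def itp4_57 : Tree := (.node itp4_49 (134137, 0, 15, 61467) itp4_50)

/-- part of the orbit tree -/
def itp4_58 : Tree := (.node itp4_55 (134650, 0, 17, 224938) itp4_56)

/-- part of the orbit tree -/
def itp4_59 : Tree := (.node itp4_43 (133373, 0, 16, 215804) itp4_44)

/-- part of the orbit tree -/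
def itp4_60 : Tree := (.node itp4_57 (134394, 0, 18, 231753) itp4_58)

/-- part of the orbit tree -/
def itp4_61 : Tree := (.node itp4_29 (131837, 0, 17, 70992) itp4_30)

/-- part of the orbit tree -/
def itp4_62 : Tree := (.node itp4_59 (133881, 0, 16, 78029) itp4_60)

/-- part of the orbit tree -/
def itp4_63 : Tree := (.node (.node (.node (.node (.node (.node .leaf (134901, 0, 16, 43192) .leaf) (134902, 0, 15, 123967) (.node .leaf (134903, 0, 13, 213194) .leaf)) (134912, 0, 14, 237921) (.node (.node .leaf (134913, 0, 17, 213255) .leaf) (134914, 0, 9, 221701) (.node .leaf (134915, 0, 15, 80683) .leaf))) (134916, 0, 16, 235586) (.node (.node (.node .leaf (134917, 0, 13, 227364) .leaf) (134918, 0, 16, 182375) (.node .leaf (134919, 0, 15, 141313) .leaf)) (134936, 0, 17, 136733) (.node (.node .leaf (134937, 0, 11, 203978) .leaf) (134938, 0, 15, 175241) (.node .leaf (134939, 0, 11, 239425) .leaf)))) (134940, 0, 17, 26880) (.node (.node (.node (.node .leaf (134941, 0, 17, 206313) .leaf) (134942, 0, 17, 229746) (.node .leaf (134943,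 0, 17, 120924) .leaf)) (134952, 0, 16, 73185) (.node (.node .leaf (134953, 0, 18, 159594) .leaf) (134954, 0, 16, 253737) (.node .leaf (134955, 0, 9, 212815) .leaf))) (134956, 0, 18, 177711) (.node (.node (.node .leaf (134957, 0, 16, 153161) .leaf) (134958, 0, 14, 255498) (.node .leaf (134959, 0, 16, 185248) .leaf)) (134960, 0, 17, 185025) (.node (.node .leaf (134961, 0, 16, 120997) .leaf) (134962, 0, 15, 230116) (.node .leaf (134963, 0, 15, 143575) .leaf))))) (134964, 0, 17, 130710) (.node (.node (.node (.node (.node .leaf (134965, 0, 15, 239544) .leaf) (134966, 0, 16, 136932) (.node .leaf (134967, 0, 15, 220065) .leaf)) (134984, 0, 13, 14433) (.node (.node .leaf (134985, 0, 17, 134681) .leaf) (134986, 0, 18, 245338) (.node .leaf (134987, 0, 16, 100669) .leaf))) (134988, 0, 14, 186204) (.node (.node (.node .leaf (134989, 0, 15, 7762) .leaf) (134990, 0, 13, 110350) (.node .leaf (134991, 0, 18, 259616) .leaf)) (134992, 0, 15, 173067) (.node (.node .leaf (134993, 0, 13, 152532) .leaf) (134994, 0, 15, 254871) (.node .leaf (134995,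 0, 15, 197617) .leaf)))) (134996, 0, 18, 166545) (.node (.node (.node (.node .leaf (134997, 0, 10, 164408) .leaf) (134998, 0, 18, 209764) (.node .leaf (134999, 0, 17, 92746) .leaf)) (135008, 0, 13, 245778) (.node (.node .leaf (135009, 0, 16, 259801) .leaf) (135010, 0, 17, 167991) (.node .leaf (135011, 0, 17, 7851) .leaf))) (135012, 0, 16, 260401) (.node (.node (.node .leaf (135013, 0, 13, 100804) .leaf) (135014, 0, 16, 174356) (.node .leaf (135015, 0, 17, 156086) .leaf)) (135032, 0, 16, 209821) (.node (.node .leaf (135033, 0, 16, 92851) .leaf) (135034, 0, 16, 183802) (.node .leaf (135035, 0, 17, 142748) .leaf))))))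

/-- part of the orbit tree -/
def itp4_64 : Tree := (.node (.node (.node (.node (.node (.node .leaf (135037, 0, 16, 202158) .leaf) (135038, 0, 16, 173298) (.node .leaf (135039, 0, 12, 64988) .leaf)) (135048, 0, 17, 249986) (.node (.node .leaf (135049, 0, 15, 258965) .leaf) (135050, 0, 14, 14576) (.node .leaf (135051, 0, 17, 172976) .leaf))) (135052, 0, 16, 110495) (.node (.node (.node .leaf (135053, 0, 16, 248502) .leaf) (135054, 0, 17, 162549) (.node .leaf (135055, 0, 8, 170643) .leaf)) (135056, 0, 11, 85224) (.node (.node .leaf (135057, 0, 17, 241240) .leaf) (135058, 0, 16, 173210) (.node .leaf (135059, 0, 13, 196221) .leaf)))) (135060, 0, 17, 227101) (.node (.node (.node (.node .leaf (135061, 0, 17, 92891) .leaf) (135062, 0, 12, 141112) (.node .leaf (135063, 0, 16, 182110) .leaf)) (135072, 0, 17, 149268) (.node (.node .leaf (135073, 0, 17, 187896) .leaf) (135074, 0, 16, 224699) (.node .leaf (135075, 0, 17, 232925) .leaf))) (135076, 0, 16, 132285) (.node (.node (.node .leaf (135077, 0, 18, 189659) .leaf) (135078, 0, 15,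 218264) (.node .leaf (135079, 0, 16, 242942) .leaf)) (135096, 0, 14, 56190) (.node (.node .leaf (135097, 0, 15, 164432) .leaf) (135098, 0, 17, 209014) (.node .leaf (135099, 0, 16, 92706) .leaf))))) (135100, 0, 19, 153968) (.node (.node (.node (.node (.node .leaf (135101, 0, 15, 178454) .leaf) (135102, 0, 14, 85009) (.node .leaf (135103, 0, 15, 256307) .leaf)) (135104, 0, 15, 221844) (.node (.node .leaf (135105, 0, 16, 179339) .leaf) (135106, 0, 15, 35558) (.node .leaf (135107, 0, 16, 257198) .leaf))) (135108, 0, 17, 157134) (.node (.node (.node .leaf (135109, 0, 16, 165288) .leaf) (135110, 0, 12, 194043) (.node .leaf (135111, 0, 17, 44245) .leaf)) (135128, 0, 17, 130814) (.node (.node .leaf (135129, 0, 16, 188742) .leaf) (135130, 0, 16, 217349) (.node .leaf (135131, 0, 19, 242019) .leaf)))) (135132, 0, 17, 229859) (.node (.node (.node (.node .leaf (135133, 0, 14, 186469) .leaf) (135134, 0, 12, 27025) (.node .leaf (135135, 0, 18, 231488) .leaf)) (135144, 0, 16, 225920) (.node (.node .leaf (135145, 0, 16, 44076) .leaf) (135146,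 0, 17, 139941) (.node .leaf (135147, 0, 17, 214110) .leaf))) (135148, 0, 17, 35359) (.node (.node (.node .leaf (135149, 0, 17, 240581) .leaf) (135150, 0, 18, 138118) (.node .leaf (135151, 0, 16, 80707) .leaf)) (135152, 0, 11, 26984) (.node (.node .leaf (135153, 0, 16, 143430) .leaf) (135154, 0, 17, 229658) (.node .leaf (135155, 0, 15, 171790) .leaf))))))

/-- part of the orbit tree -/
def itp4_65 : Tree := (.node (.node (.node (.node (.node (.node .leaf (135157, 0, 15, 259592) .leaf) (135158, 0, 17, 149067) (.node .leaf (135159, 0, 16, 239401) .leaf)) (135168, 0, 15, 155331) (.node (.node .leaf (135171, 0, 17, 213850) .leaf) (135173, 0, 17, 165766) (.node .leaf (135174, 0, 16, 222569) .leaf))) (135176, 0, 17, 137370) (.node (.node (.node .leaf (135179, 0, 17, 117528) .leaf) (135181, 0, 14, 41502) (.node .leaf (135182, 0, 17, 70237) .leaf)) (135185, 0, 13, 50928) (.node (.node .leaf (135186, 0, 18, 95923) .leaf) (135188, 0, 16, 195565) (.node .leaf (135191, 0, 15, 110582) .leaf)))) (135193, 0, 16, 145218) (.node (.node (.node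 (.node .leaf (135194, 0, 16, 230942) .leaf) (135196, 0, 18, 145965) (.node .leaf (135199, 0, 15, 232046) .leaf)) (135201, 0, 17, 120354) (.node (.node .leaf (135202, 0, 17, 26494) .leaf) (135204, 0, 16, 126993) (.node .leaf (135207, 0, 14, 16717) .leaf))) (135209, 0, 15, 233672) (.node (.node (.node .leaf (135210, 0, 16, 36322) .leaf) (135212, 0, 18, 215437) (.node .leaf (135215, 0, 16, 195022) .leaf)) (135216, 0, 17, 129530) (.node (.node .leaf (135219, 0, 16, 18598) .leaf) (135221, 0, 14, 122825) (.node .leaf (135222, 0, 17, 148581) .leaf))))) (135224, 0, 18, 70502) (.node (.node (.node (.node (.node .leaf (135227, 0, 14, 41530) .leaf) (135229, 0, 13, 79189) (.node .leaf (135230, 0, 15, 25085) .leaf)) (135233, 0, 12, 62370) (.node (.node .leaf (135234, 0, 18, 25696) .leaf) (135236, 0, 17, 54673) (.node .leaf (135239, 0, 10, 91341) .leaf))) (135241, 0, 17, 258491) (.node (.node (.node .leaf (135242, 0, 15, 147960) .leaf) (135244, 0, 15, 207102) (.node .leaf (135247, 0, 19, 170173) .leaf)) (135248, 0, 17, 216080) (.node (.node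 .leaf (135251, 0, 16, 195667) .leaf) (135253, 0, 15, 64073) (.node .leaf (135254, 0, 17, 140566) .leaf)))) (135256, 0, 17, 14054) (.node (.node (.node (.node .leaf (135259, 0, 13, 55755) .leaf) (135261, 0, 14, 4309) (.node .leaf (135262, 0, 16, 142) .leaf)) (135264, 0, 19, 251782) (.node (.node .leaf (135267, 0, 12, 157402) .leaf) (135269, 0, 15, 190197) (.node .leaf (135270, 0, 16, 218806) .leaf))) (135272, 0, 13, 212250) (.node (.node (.node .leaf (135275, 0, 12, 109163) .leaf) (135277, 0, 17, 50029) (.node .leaf (135278, 0, 19, 95022) .leaf)) (135281, 0, 15, 260190) (.node (.node .leaf (135282, 0, 17, 71616) .leaf) (135284, 0, 17, 32454) (.node .leaf (135287, 0, 14, 159537) .leaf))))))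

/-- part of the orbit tree -/
def itp4_66 : Tree := (.node (.node (.node (.node (.node (.node .leaf (135290, 0, 16, 172958) .leaf) (135292, 0, 16, 210161) (.node .leaf (135295, 0, 15, 256797) .leaf)) (135297, 0, 17, 203585) (.node (.node .leaf (135298, 0, 17, 104940) .leaf) (135300, 0, 16, 61674) (.node .leaf (135303, 0, 18, 166958) .leaf))) (135305, 0, 13, 258525) (.node (.node (.node .leaf (135306, 0, 17, 244852) .leaf) (135308, 0, 14, 251886) (.node .leaf (135311, 0, 15, 222513) .leaf)) (135312, 0, 13, 176540) (.node (.node .leaf (135315, 0, 17, 165317) .leaf) (135317, 0, 18, 157913) (.node .leaf (135318, 0, 17, 173046) .leaf)))) (135320, 0, 17, 37892) (.node (.node (.node (.node .leaf (135323, 0, 16, 74823) .leaf) (135325, 0, 16, 260150) (.node .leaf (135326, 0, 15, 130306) .leaf)) (135328, 0, 17, 16229) (.node (.node .leaf (135331, 0, 15, 101945) .leaf) (135333, 0, 15, 6486) (.node .leaf (135334, 0, 11, 174906) .leaf))) (135336, 0, 11, 124836) (.node (.node (.node .leaf (135339, 0, 17, 91301) .leaf) (135341, 0, 16, 62410)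 (.node .leaf (135342, 0, 16, 36514) .leaf)) (135345, 0, 15, 4285) (.node (.node .leaf (135346, 0, 18, 106977) .leaf) (135348, 0, 17, 99146) (.node .leaf (135351, 0, 16, 13065) .leaf))))) (135353, 0, 16, 64033) (.node (.node (.node (.node (.node .leaf (135354, 0, 18, 184276) .leaf) (135356, 0, 17, 56338) (.node .leaf (135359, 0, 17, 136849) .leaf)) (135360, 0, 14, 72421) (.node (.node .leaf (135363, 0, 16, 135948) .leaf) (135365, 0, 15, 81110) (.node .leaf (135366, 0, 18, 36234) .leaf))) (135368, 0, 14, 127097) (.node (.node (.node .leaf (135371, 0, 14, 16677) .leaf) (135373, 0, 14, 120394) (.node .leaf (135374, 0, 18, 26390) .leaf)) (135377, 0, 14, 80764) (.node (.node .leaf (135378, 0, 15, 35647) .leaf) (135380, 0, 16, 123449) (.node .leaf (135383, 0, 13, 41554) .leaf)))) (135385, 0, 17, 204516) (.node (.node (.node (.node .leaf (135386, 0, 14, 28413) .leaf) (135388, 0, 15, 129426) (.node .leaf (135391, 0, 18, 18638) .leaf)) (135393, 0, 15, 18652) (.node (.node .leaf (135394, 0, 15, 129183) .leaf) (135396, 0, 14, 37273) (.node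 .leaf (135399, 0, 13, 240046) .leaf))) (135401, 0, 11, 185437) (.node (.node (.node .leaf (135402, 0, 16, 253191) .leaf) (135404, 0, 18, 193134) (.node .leaf (135407, 0, 15, 197698) .leaf)) (135408, 0, 16, 184559) (.node (.node .leaf (135411, 0, 16, 221356) .leaf) (135413, 0, 16, 133546) (.node .leaf (135414, 0, 14, 244201) .leaf))))))

/-- part of the orbit tree -/
def itp4_67 : Tree := (.node itp4_63 (135036, 0, 14, 238844) itp4_64)

/-- part of the orbit tree -/
def itp4_68 : Tree := (.node itp4_65 (135289, 0, 18, 201410) itp4_66)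

/-- part of the orbit tree -/
def itp4_69 : Tree := (.node (.node (.node (.node (.node (.node .leaf (135419, 0, 13, 83252) .leaf) (135421, 0, 17, 187830) (.node .leaf (135422, 0, 16, 105585) .leaf)) (135424, 0, 11, 136677) (.node (.node .leaf (135427, 0, 18, 238777) .leaf) (135429, 0, 17, 75250) (.node .leaf (135430, 0, 17, 38321) .leaf))) (135432, 0, 16, 196473) (.node (.node (.node .leaf (135435, 0, 16, 158060) .leaf) (135437, 0, 17, 186698) (.node .leaf (135438, 0, 17, 223254) .leaf)) (135441, 0, 16, 222340) (.node (.node .leaf (135442, 0, 14, 185543) .leaf) (135444, 0, 15, 138254) (.node .leaf (135447, 0, 15, 240978) .leaf)))) (135449, 0, 16, 82204) (.node (.node (.node (.node .leaf (135450, 0, 16, 61791) .leaf) (135452, 0, 16, 104537) (.node .leaf (135455, 0, 13, 10266) .leaf)) (135457, 0, 16, 136996) (.node (.node .leaf (135458, 0, 17, 239463) .leaf) (135460, 0, 15, 71666) (.node .leaf (135463, 0, 14, 228898) .leaf))) (135465, 0, 14, 121693) (.node (.node (.node .leaf (135466, 0, 13, 27137) .leaf) (135468, 0, 17, 60409)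 (.node .leaf (135471, 0, 15, 19506) .leaf)) (135472, 0, 17, 73241) (.node (.node .leaf (135475, 0, 14, 81748) .leaf) (135477, 0, 18, 22098) (.node .leaf (135478, 0, 17, 35190) .leaf))))) (135480, 0, 17, 174735) (.node (.node (.node (.node (.node .leaf (135483, 0, 16, 17881) .leaf) (135485, 0, 17, 119478) (.node .leaf (135486, 0, 18, 246665) .leaf)) (135489, 0, 17, 5185) (.node (.node .leaf (135490, 0, 15, 247316) .leaf) (135492, 0, 15, 175890) (.node .leaf (135495, 0, 17, 204625) .leaf))) (135497, 0, 18, 21455) (.node (.node (.node .leaf (135498, 0, 16, 123788) .leaf) (135500, 0, 18, 55534) (.node .leaf (135503, 0, 16, 80585) .leaf)) (135504, 0, 14, 15257) (.node (.node .leaf (135507, 0, 19, 89639) .leaf) (135509, 0, 16, 7594) (.node .leaf (135510, 0, 13, 100194) .leaf)))) (135512, 0, 15, 183292) (.node (.node (.node (.node .leaf (135515, 0, 18, 90201) .leaf) (135517, 0, 15, 63286) (.node .leaf (135518, 0, 16, 238330) .leaf)) (135520, 0, 16, 208997) (.node (.node .leaf (135523, 0, 15, 11655) .leaf) (135525, 0, 17, 202326) (.node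 .leaf (135526, 0, 17, 173834) .leaf))) (135528, 0, 16, 252665) (.node (.node (.node .leaf (135531, 0, 17, 158629) .leaf) (135533, 0, 15, 221465) (.node .leaf (135534, 0, 16, 150934) .leaf)) (135537, 0, 18, 198135) (.node (.node .leaf (135538, 0, 15, 177588) .leaf) (135540, 0, 17, 211342) (.node .leaf (135543, 0, 16, 158961) .leaf))))))

/-- part of the orbit tree -/
def itp4_70 : Tree := (.node (.node (.node (.node (.node (.node .leaf (135546, 0, 18, 36908) .leaf) (135548, 0, 15, 129322) (.node .leaf (135551, 0, 13, 18793) .leaf)) (135553, 0, 14, 232411) (.node (.node .leaf (135554, 0, 14, 146328) .leaf) (135556, 0, 16, 252561) (.node .leaf (135559, 0, 15, 158669) .leaf))) (135561, 0, 17, 202302) (.node (.node (.node .leaf (135562, 0, 17, 173922) .leaf) (135564, 0, 15, 96006) (.node .leaf (135567, 0, 18, 51013) .leaf)) (135568, 0, 16, 70632) (.node (.node .leaf (135571, 0, 16, 156198) .leaf) (135573, 0, 17, 117421) (.node .leaf (135574, 0, 15, 31470) .leaf)))) (135576, 0, 14, 211430) (.node (.node (.node (.node .leaf (135579,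 0, 15, 166074) .leaf) (135581, 0, 18, 257845) (.node .leaf (135582, 0, 15, 155510) .leaf)) (135584, 0, 17, 55430) (.node (.node .leaf (135587, 0, 14, 92634) .leaf) (135589, 0, 19, 47373) (.node .leaf (135590, 0, 18, 85993) .leaf))) (135592, 0, 15, 12826) (.node (.node (.node .leaf (135595, 0, 16, 259475) .leaf) (135597, 0, 15, 171157) (.node .leaf (135598, 0, 17, 107893) .leaf)) (135601, 0, 17, 194683) (.node (.node .leaf (135602, 0, 15, 215096) .leaf) (135604, 0, 13, 139582) (.node .leaf (135607, 0, 16, 90161) .leaf))))) (135609, 0, 18, 56803) (.node (.node (.node (.node (.node .leaf (135610, 0, 16, 93600) .leaf) (135612, 0, 17, 1190) (.node .leaf (135615, 0, 17, 111845) .leaf)) (135616, 0, 13, 130310) (.node (.node .leaf (135619, 0, 15, 19546) .leaf) (135621, 0, 15, 121653) (.node .leaf (135622, 0, 16, 92221) .leaf))) (135624, 0, 13, 71578) (.node (.node (.node .leaf (135627, 0, 13, 234720) .leaf) (135629, 0, 14, 78249) (.node .leaf (135630, 0, 17, 216485) .leaf)) (135633, 0, 17, 119518) (.node (.node .leaf (135634, 0, 14,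 207179) .leaf) (135636, 0, 17, 147533) (.node .leaf (135639, 0, 17, 258062) .leaf)))) (135641, 0, 16, 48272) (.node (.node (.node (.node .leaf (135642, 0, 17, 68819) .leaf) (135644, 0, 16, 73329) (.node .leaf (135647, 0, 16, 120214) .leaf)) (135649, 0, 17, 256680) (.node (.node .leaf (135650, 0, 14, 154347) .leaf) (135652, 0, 16, 209901) (.node .leaf (135655, 0, 15, 216653) .leaf))) (135657, 0, 16, 118576) (.node (.node (.node .leaf (135658, 0, 15, 32627) .leaf) (135660, 0, 16, 71285) (.node .leaf (135663, 0, 15, 238801) .leaf)) (135664, 0, 16, 194298) (.node (.node .leaf (135667, 0, 16, 49880) .leaf) (135669, 0, 17, 184521) (.node .leaf (135670, 0, 15, 221589) .leaf))))))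

/-- part of the orbit tree -/
def itp4_71 : Tree := (.node (.node (.node (.node (.node (.node .leaf (135675, 0, 15, 240954) .leaf) (135677, 0, 17, 146005) (.node .leaf (135678, 0, 15, 232201) .leaf)) (135682, 0, 10, 73560) (.node (.node .leaf (135683, 0, 17, 246512) .leaf) (135684, 0, 18, 150416) (.node .leaf (135685, 0, 14, 184601) .leaf))) (135690, 0, 15, 67342) (.node (.node (.node .leaf (135691, 0, 18, 240874) .leaf) (135692, 0, 17, 25259) (.node .leaf (135693, 0, 16, 36462) .leaf)) (135696, 0, 14, 2790) (.node (.node .leaf (135697, 0, 14, 186610) .leaf) (135702, 0, 17, 91104) (.node .leaf (135703, 0, 14, 99206) .leaf)))) (135704, 0, 11, 27456) (.node (.node (.node (.node .leaf (135705, 0, 14, 184088) .leaf) (135710, 0, 15, 130095) (.node .leaf (135711, 0, 17, 239134) .leaf)) (135712, 0, 17, 96582) (.node (.node .leaf (135713, 0, 17, 119566) .leaf) (135718, 0, 17, 4160) (.node .leaf (135719, 0, 15, 61478) .leaf))) (135720, 0, 16, 221372) (.node (.node (.node .leaf (135721, 0, 16, 244920) .leaf) (135726, 0, 15, 194515)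 (.node .leaf (135727, 0, 15, 44797) .leaf)) (135730, 0, 15, 151862) (.node (.node .leaf (135731, 0, 16, 19850) .leaf) (135732, 0, 13, 210992) (.node .leaf (135733, 0, 13, 121573) .leaf))))) (135738, 0, 17, 29870) (.node (.node (.node (.node (.node .leaf (135739, 0, 14, 38088) .leaf) (135740, 0, 16, 223575) (.node .leaf (135741, 0, 9, 130510) .leaf)) (135744, 0, 18, 176032) (.node (.node .leaf (135745, 0, 16, 63118) .leaf) (135750, 0, 14, 28979) (.node .leaf (135751, 0, 16, 90593) .leaf))) (135752, 0, 16, 148796) (.node (.node (.node .leaf (135753, 0, 18, 7186) .leaf) (135758, 0, 16, 250451) (.node .leaf (135759, 0, 17, 101245) .leaf)) (135762, 0, 16, 143429) (.node (.node .leaf (135763, 0, 18, 184355) .leaf) (135764, 0, 17, 219459) (.node .leaf (135765, 0, 10, 65381) .leaf)))) (135770, 0, 13, 5597) (.node (.node (.node (.node .leaf (135771, 0, 16, 62907) .leaf) (135772, 0, 17, 97499) (.node .leaf (135773, 0, 15, 105661) .leaf)) (135778, 0, 18, 15064) (.node (.node .leaf (135779, 0, 16, 156662) .leaf) (135780, 0, 18, 110007)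 (.node .leaf (135781, 0, 15, 259225) .leaf))) (135786, 0, 15, 91773) (.node (.node (.node .leaf (135787, 0, 15, 166250) .leaf) (135788, 0, 16, 83755) (.node .leaf (135789, 0, 17, 61213) .leaf)) (135792, 0, 17, 27541) (.node (.node .leaf (135793, 0, 13, 35827) .leaf) (135798, 0, 17, 66195) (.node .leaf (135799, 0, 14, 123637) .leaf))))))

/-- part of the orbit tree -/
def itp4_72 : Tree := (.node (.node (.node (.node (.node (.node .leaf (135801, 0, 15, 175723) .leaf) (135806, 0, 15, 206603) (.node .leaf (135807, 0, 15, 163969) .leaf)) (135808, 0, 14, 83779) (.node (.node .leaf (135809, 0, 14, 204397) .leaf) (135814, 0, 13, 53292) (.node .leaf (135815, 0, 16, 93401) .leaf))) (135816, 0, 11, 180257) (.node (.node (.node .leaf (135817, 0, 17, 259313) .leaf) (135822, 0, 16, 239911) (.node .leaf (135823, 0, 16, 156574) .leaf)) (135826, 0, 16, 55751) (.node (.node .leaf (135827, 0, 17, 164073) .leaf) (135828, 0, 15, 85672) (.node .leaf (135829, 0, 18, 202630) .leaf)))) (135834, 0, 16, 13147) (.node (.node (.node (.node .leaf (135835,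 0, 18, 67639) .leaf) (135836, 0, 15, 107572) (.node .leaf (135837, 0, 16, 24881) .leaf)) (135842, 0, 17, 250427) (.node (.node .leaf (135843, 0, 17, 101141) .leaf) (135844, 0, 17, 148820) (.node .leaf (135845, 0, 16, 7290) .leaf))) (135850, 0, 14, 39921) (.node (.node (.node .leaf (135851, 0, 16, 90505) .leaf) (135852, 0, 13, 127735) (.node .leaf (135853, 0, 16, 70289) .leaf)) (135856, 0, 16, 150719) (.node (.node .leaf (135857, 0, 16, 5521) .leaf) (135862, 0, 15, 65311) (.node .leaf (135863, 0, 19, 8057) .leaf))))) (135864, 0, 11, 173603) (.node (.node (.node (.node (.node .leaf (135865, 0, 16, 65293) .leaf) (135870, 0, 15, 187015) (.node .leaf (135871, 0, 15, 146145) .leaf)) (135874, 0, 15, 194491) (.node (.node .leaf (135875, 0, 15, 147324) .leaf) (135876, 0, 16, 221396) (.node .leaf (135877, 0, 18, 218746) .leaf))) (135882, 0, 16, 138535) (.node (.node (.node .leaf (135883, 0, 14, 6884) .leaf) (135884, 0, 19, 103300) (.node .leaf (135885, 0, 17, 95202) .leaf)) (135888, 0, 17, 128874) (.node (.node .leaf (135889, 0, 19,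 77841) .leaf) (135894, 0, 14, 40556) (.node .leaf (135895, 0, 15, 32266) .leaf)))) (135896, 0, 16, 230307) (.node (.node (.node (.node .leaf (135897, 0, 16, 209556) .leaf) (135902, 0, 15, 179188) (.node .leaf (135903, 0, 16, 154514) .leaf)) (135904, 0, 17, 25283) (.node (.node .leaf (135905, 0, 17, 25772) .leaf) (135910, 0, 14, 128428) (.node .leaf (135911, 0, 18, 69034) .leaf))) (135912, 0, 17, 172370) (.node (.node (.node .leaf (135913, 0, 18, 184689) .leaf) (135918, 0, 17, 73520) (.node .leaf (135919, 0, 17, 214558) .leaf)) (135922, 0, 16, 240826) (.node (.node .leaf (135923, 0, 17, 216284) .leaf) (135924, 0, 14, 27432) .leaf)))))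

/-- part of the orbit tree -/
def itp4_73 : Tree := (.node itp4_69 (135545, 0, 17, 259361) itp4_70)

/-- part of the orbit tree -/
def itp4_74 : Tree := (.node itp4_71 (135800, 0, 16, 85696) itp4_72)

/-- part of the orbit tree -/
def itp4_75 : Tree := (.node itp4_67 (135156, 0, 16, 202350) itp4_68)

/-- part of the orbit tree -/
def itp4_76 : Tree := (.node itp4_73 (135672, 0, 18, 218883) itp4_74)

/-- part of the orbit tree -/
def itp4_77 : Tree := (.node (.node (.node (.node (.node (.node .leaf (135930, 0, 17, 71387) .leaf) (135931, 0, 15, 92484) (.node .leaf (135932, 0, 14, 33204) .leaf)) (135933, 0, 17, 66) (.node (.node .leaf (135938, 0, 17, 129211) .leaf) (135939, 0, 17, 237973) (.node .leaf (135940, 0, 16, 28628) .leaf))) (135941, 0, 17, 67970) (.node (.node (.node .leaf (135946, 0, 17, 173434) .leaf) (135947, 0, 16, 148764) (.node .leaf (135948, 0, 15, 248956) .leaf)) (135949, 0, 17, 187494) (.node (.node .leaf (135952, 0, 11, 239762) .leaf) (135953, 0, 16, 215284) (.node .leaf (135958, 0, 17, 180628) .leaf)))) (135959,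 0, 14, 239742) (.node (.node (.node (.node .leaf (135960, 0, 18, 36003) .leaf) (135961, 0, 17, 93548) (.node .leaf (135966, 0, 14, 58380) .leaf)) (135967, 0, 18, 1130) (.node (.node .leaf (135968, 0, 17, 187186) .leaf) (135969, 0, 18, 146260) (.node .leaf (135974, 0, 15, 195244) .leaf))) (135975, 0, 14, 217682) (.node (.node (.node .leaf (135976, 0, 14, 231263) .leaf) (135977, 0, 16, 122481) (.node .leaf (135982, 0, 17, 104364) .leaf)) (135983, 0, 18, 96202) (.node (.node .leaf (135986, 0, 16, 193351) .leaf) (135987, 0, 17, 43625) (.node .leaf (135988, 0, 14, 39492) .leaf))))) (135989, 0, 16, 31266) (.node (.node (.node (.node (.node .leaf (135994, 0, 18, 137691) .leaf) (135995, 0, 18, 210620) (.node .leaf (135996, 0, 18, 180188) .leaf)) (135997, 0, 17, 120730) (.node (.node .leaf (136000, 0, 17, 149571) .leaf) (136001, 0, 14, 4461) (.node .leaf (136006, 0, 16, 250695) .leaf))) (136007, 0, 15, 209697) (.node (.node (.node .leaf (136008, 0, 19, 40921) .leaf) (136009, 0, 17, 64497) (.node .leaf (136014, 0, 16, 128735) .leaf))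 (136015, 0, 17, 71353) (.node (.node .leaf (136018, 0, 15, 102961) .leaf) (136019, 0, 16, 94807) (.node .leaf (136020, 0, 15, 147880) .leaf)))) (136021, 0, 15, 6278) (.node (.node (.node (.node .leaf (136026, 0, 17, 212059) .leaf) (136027, 0, 16, 91509) (.node .leaf (136028, 0, 12, 188079) .leaf)) (136029, 0, 14, 147145) (.node (.node .leaf (136034, 0, 15, 56635) .leaf) (136035, 0, 14, 503) (.node .leaf (136036, 0, 17, 100503) .leaf))) (136037, 0, 16, 92401) (.node (.node (.node .leaf (136042, 0, 18, 14247) .leaf) (136043, 0, 14, 159369) (.node .leaf (136044, 0, 14, 106696) .leaf)) (136045, 0, 16, 260582) (.node (.node .leaf (136048, 0, 16, 82879) .leaf) (136049, 0, 17, 207239) (.node .leaf (136054, 0, 16, 172263) .leaf))))))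

/-- part of the orbit tree -/
def itp4_78 : Tree := (.node (.node (.node (.node (.node (.node .leaf (136056, 0, 17, 108835) .leaf) (136057, 0, 16, 68639) (.node .leaf (136062, 0, 15, 34175) .leaf)) (136063, 0, 16, 25881) (.node (.node .leaf (136064, 0, 15, 214989) .leaf) (136065, 0, 14, 260494) (.node .leaf (136070, 0, 10, 14287) .leaf))) (136071, 0, 16, 159457) (.node (.node (.node .leaf (136072, 0, 16, 90709) .leaf) (136073, 0, 18, 201490) (.node .leaf (136078, 0, 17, 2899) .leaf)) (136079, 0, 15, 164989) (.node (.node .leaf (136082, 0, 14, 15908) .leaf) (136083, 0, 11, 157450) (.node .leaf (136084, 0, 11, 67259) .leaf)))) (136085, 0, 16, 124637) (.node (.node (.node (.node .leaf (136090, 0, 17, 150053) .leaf) (136091, 0, 18, 167318) (.node .leaf (136092, 0, 17, 82903) .leaf)) (136093, 0, 11, 203513) (.node (.node .leaf (136098, 0, 17, 72733) .leaf) (136099, 0, 14, 130171) (.node .leaf (136100, 0, 16, 172727) .leaf))) (136101, 0, 12, 64409) (.node (.node (.node .leaf (136106, 0, 16, 211333) .leaf) (136107, 0, 15, 252387)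 (.node .leaf (136108, 0, 16, 149547) .leaf)) (136109, 0, 18, 4357) (.node (.node .leaf (136112, 0, 17, 174940) .leaf) (136113, 0, 14, 185355) (.node .leaf (136118, 0, 16, 212019) .leaf))))) (136119, 0, 17, 245005) (.node (.node (.node (.node (.node .leaf (136120, 0, 15, 147904) .leaf) (136121, 0, 13, 61843) (.node .leaf (136126, 0, 18, 96499) .leaf)) (136127, 0, 15, 104597) (.node (.node .leaf (136130, 0, 17, 97646) .leaf) (136131, 0, 17, 105736) (.node .leaf (136132, 0, 17, 231223) .leaf))) (136133, 0, 16, 62478) (.node (.node (.node .leaf (136138, 0, 17, 219382) .leaf) (136139, 0, 14, 243856) (.node .leaf (136140, 0, 14, 143856) .leaf)) (136141, 0, 15, 78981) (.node (.node .leaf (136144, 0, 8, 233180) .leaf) (136145, 0, 15, 120818) (.node .leaf (136150, 0, 18, 137651) .leaf)))) (136151, 0, 18, 253054) (.node (.node (.node (.node .leaf (136152, 0, 16, 222272) .leaf) (136153, 0, 17, 81262) (.node .leaf (136158, 0, 12, 72064) .leaf)) (136159, 0, 15, 129510) (.node (.node .leaf (136160, 0, 16, 34080) .leaf) (136161, 0, 16, 247512)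 (.node .leaf (136166, 0, 15, 151480) .leaf))) (136167, 0, 15, 215905) (.node (.node (.node .leaf (136168, 0, 16, 28604) .leaf) (136169, 0, 13, 145042) (.node .leaf (136174, 0, 17, 27168) .leaf)) (136175, 0, 12, 238077) (.node (.node .leaf (136178, 0, 16, 72612) .leaf) (136179, 0, 14, 213642) (.node .leaf (136180, 0, 17, 36043) .leaf))))))

/-- part of the orbit tree -/
def itp4_79 : Tree := (.node (.node (.node (.node (.node (.node .leaf (136186, 0, 16, 127288) .leaf) (136187, 0, 14, 239638) (.node .leaf (136188, 0, 16, 213584) .leaf)) (136189, 0, 15, 147321) (.node (.node .leaf (136193, 0, 15, 238605) .leaf) (136195, 0, 17, 20142) (.node .leaf (136196, 0, 15, 229615) .leaf))) (136198, 0, 17, 26781) (.node (.node (.node .leaf (136201, 0, 14, 98709) .leaf) (136203, 0, 18, 53680) (.node .leaf (136204, 0, 16, 223859) .leaf)) (136206, 0, 16, 33281) (.node (.node .leaf (136208, 0, 16, 80958) .leaf) (136210, 0, 15, 27675) (.node .leaf (136213, 0, 17, 124283) .leaf)))) (136215, 0, 17, 18245) (.node (.node (.node (.node .leaf (136216,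 0, 17, 203174) .leaf) (136218, 0, 15, 35818) (.node .leaf (136221, 0, 17, 245987) .leaf)) (136223, 0, 17, 168134) (.node (.node .leaf (136224, 0, 17, 33528) .leaf) (136226, 0, 14, 73659) (.node .leaf (136229, 0, 14, 42187) .leaf))) (136231, 0, 15, 116478) (.node (.node (.node .leaf (136232, 0, 16, 26724) .leaf) (136234, 0, 18, 211491) (.node .leaf (136237, 0, 15, 20055) .leaf)) (136239, 0, 10, 239141) (.node (.node .leaf (136241, 0, 17, 44320) .leaf) (136243, 0, 12, 231304) (.node .leaf (136244, 0, 18, 35603) .leaf))))) (136246, 0, 15, 220877) (.node (.node (.node (.node (.node .leaf (136249, 0, 16, 62005) .leaf) (136251, 0, 13, 107024) (.node .leaf (136252, 0, 15, 24975) .leaf)) (136254, 0, 15, 97109) (.node (.node .leaf (136256, 0, 15, 12013) .leaf) (136258, 0, 18, 97992) (.node .leaf (136261, 0, 14, 98635) .leaf))) (136263, 0, 15, 158009) (.node (.node (.node .leaf (136264, 0, 16, 134005) .leaf) (136266, 0, 18, 219984) (.node .leaf (136269, 0, 16, 93143) .leaf)) (136271, 0, 11, 229909) (.node (.node .leaf (136273, 0, 16,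 100512) .leaf) (136275, 0, 15, 255739) (.node .leaf (136276, 0, 16, 110227) .leaf)))) (136278, 0, 18, 149217) (.node (.node (.node (.node .leaf (136281, 0, 18, 37702) .leaf) (136283, 0, 17, 166478) (.node .leaf (136284, 0, 17, 18947) .leaf)) (136286, 0, 14, 175229) (.node (.node .leaf (136289, 0, 15, 164700) .leaf) (136291, 0, 18, 92974) (.node .leaf (136292, 0, 15, 203835) .leaf))) (136294, 0, 14, 85277) (.node (.node (.node .leaf (136297, 0, 16, 123110) .leaf) (136299, 0, 15, 45251) (.node .leaf (136300, 0, 14, 80291) .leaf)) (136302, 0, 15, 108417) (.node (.node .leaf (136304, 0, 15, 175236) .leaf) (136306, 0, 15, 83190) (.node .leaf (136309, 0, 16, 99336) .leaf))))))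

/-- part of the orbit tree -/
def itp4_80 : Tree := (.node (.node (.node (.node (.node (.node .leaf (136312, 0, 14, 149016) .leaf) (136314, 0, 17, 110186) (.node .leaf (136317, 0, 18, 237968) .leaf)) (136319, 0, 17, 100441) (.node (.node .leaf (136320, 0, 14, 151451) .leaf) (136322, 0, 12, 108521) (.node .leaf (136325, 0, 16, 158120) .leaf))) (136327, 0, 18, 98778) (.node (.node (.node .leaf (136328, 0, 16, 173319) .leaf) (136330, 0, 18, 173788) (.node .leaf (136333, 0, 15, 164660) .leaf)) (136335, 0, 14, 163737) (.node (.node .leaf (136337, 0, 16, 155715) .leaf) (136339, 0, 14, 100401) (.node .leaf (136340, 0, 15, 149104) .leaf)))) (136342, 0, 18, 180786) (.node (.node (.node (.node .leaf (136345, 0, 16, 166623) .leaf) (136347, 0, 19, 90797) (.node .leaf (136348, 0, 19, 112527) .leaf)) (136350, 0, 17, 59306) (.node (.node .leaf (136353, 0, 13, 93119) .leaf) (136355, 0, 14, 164813) (.node .leaf (136356, 0, 16, 188855) .leaf))) (136358, 0, 17, 242066) (.node (.node (.node .leaf (136361, 0, 16, 98595) .leaf) (136363, 0, 15,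 85327) (.node .leaf (136364, 0, 9, 50223) .leaf)) (136366, 0, 17, 103434) (.node (.node .leaf (136368, 0, 15, 83047) .leaf) (136370, 0, 16, 175125) (.node .leaf (136373, 0, 17, 90708) .leaf))))) (136375, 0, 17, 166438) (.node (.node (.node (.node (.node .leaf (136376, 0, 17, 110331) .leaf) (136378, 0, 16, 149129) (.node .leaf (136381, 0, 17, 100552) .leaf)) (136383, 0, 16, 199737) (.node (.node .leaf (136385, 0, 18, 20031) .leaf) (136387, 0, 8, 239181) (.node .leaf (136388, 0, 16, 164036) .leaf))) (136390, 0, 16, 229502) (.node (.node (.node .leaf (136393, 0, 18, 31769) .leaf) (136395, 0, 16, 76860) (.node .leaf (136396, 0, 17, 33424) .leaf)) (136398, 0, 17, 128377) (.node (.node .leaf (136400, 0, 14, 25063) .leaf) (136402, 0, 16, 102807) (.node .leaf (136405, 0, 17, 18388) .leaf)))) (136407, 0, 12, 84178) (.node (.node (.node (.node .leaf (136408, 0, 16, 35707) .leaf) (136410, 0, 17, 221961) (.node .leaf (136413, 0, 14, 44360) .leaf)) (136415, 0, 14, 224586) (.node (.node .leaf (136416, 0, 16, 223771) .leaf) (136418, 0, 14,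 57911) (.node .leaf (136421, 0, 18, 93015) .leaf))) (136423, 0, 13, 15218) (.node (.node (.node .leaf (136424, 0, 16, 229511) .leaf) (136426, 0, 15, 182191) (.node .leaf (136429, 0, 14, 216783) .leaf)) (136431, 0, 16, 20166) (.node (.node .leaf (136433, 0, 17, 207393) .leaf) (136435, 0, 14, 44465) (.node .leaf (136436, 0, 16, 222192) .leaf))))))

/-- part of the orbit tree -/
def itp4_81 : Tree := (.node itp4_77 (136055, 0, 18, 147585) itp4_78)

/-- part of the orbit tree -/
def itp4_82 : Tree := (.node itp4_79 (136311, 0, 17, 54317) itp4_80)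

/-- part of the orbit tree -/
def itp4_83 : Tree := (.node (.node (.node (.node (.node (.node .leaf (136441, 0, 15, 69561) .leaf) (136443, 0, 14, 24476) (.node .leaf (136444, 0, 13, 231788) .leaf)) (136446, 0, 16, 24862) (.node (.node .leaf (136449, 0, 12, 213311) .leaf) (136451, 0, 17, 87644) (.node .leaf (136452, 0, 17, 222988) .leaf))) (136454, 0, 14, 36734) (.node (.node (.node .leaf (136457, 0, 17, 240547) .leaf) (136459, 0, 17, 17361) (.node .leaf (136460, 0, 14, 232848) .leaf)) (136462, 0, 11, 240257) (.node (.node .leaf (136464, 0, 16, 224999) .leaf) (136466, 0, 16, 249455) (.node .leaf (136469, 0, 17, 149263) .leaf)))) (136471, 0, 15, 202538) (.node (.node (.node (.node .leaf (136472, 0, 14, 48082) .leaf) (136474, 0, 17, 125943) (.node .leaf (136477, 0, 13, 25239) .leaf)) (136479, 0, 17, 19002) (.node (.node .leaf (136480, 0, 19, 257514) .leaf) (136482, 0, 16, 179663) (.node .leaf (136485, 0, 16, 17192) .leaf))) (136487, 0, 17, 156810) (.node (.node (.node .leaf (136488, 0, 15, 116850) .leaf) (136490, 0, 15, 38999)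 (.node .leaf (136493, 0, 6, 69943) .leaf)) (136495, 0, 16, 16658) (.node (.node .leaf (136497, 0, 18, 19139) .leaf) (136499, 0, 16, 238257) (.node .leaf (136500, 0, 9, 109724) .leaf))))) (136502, 0, 17, 64697) (.node (.node (.node (.node (.node .leaf (136505, 0, 14, 217153) .leaf) (136507, 0, 14, 215085) (.node .leaf (136508, 0, 18, 34412) .leaf)) (136510, 0, 17, 224798) (.node (.node .leaf (136512, 0, 19, 232601) .leaf) (136514, 0, 17, 187580) (.node .leaf (136517, 0, 18, 218588) .leaf))) (136519, 0, 15, 132601) (.node (.node (.node .leaf (136520, 0, 17, 108801) .leaf) (136522, 0, 15, 63780) (.node .leaf (136525, 0, 18, 94276) .leaf)) (136527, 0, 18, 156742) (.node (.node .leaf (136529, 0, 17, 70826) .leaf) (136531, 0, 18, 165681) (.node .leaf (136532, 0, 17, 84336) .leaf)))) (136534, 0, 15, 172290) (.node (.node (.node (.node .leaf (136537, 0, 18, 99807) .leaf) (136539, 0, 15, 155927) (.node .leaf (136540, 0, 12, 107500) .leaf)) (136542, 0, 18, 178258) (.node (.node .leaf (136545, 0, 16, 26378) .leaf) (136547, 0, 14, 101581)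 (.node .leaf (136548, 0, 12, 48719) .leaf))) (136550, 0, 17, 126570) (.node (.node (.node .leaf (136553, 0, 16, 148114) .leaf) (136555, 0, 15, 201399) (.node .leaf (136556, 0, 15, 174096) .leaf)) (136558, 0, 17, 82018) (.node (.node .leaf (136560, 0, 15, 196409) .leaf) (136562, 0, 13, 107285) (.node .leaf (136565, 0, 17, 159060) .leaf))))))

/-- part of the orbit tree -/
def itp4_84 : Tree := (.node (.node (.node (.node (.node (.node .leaf (136568, 0, 14, 55969) .leaf) (136570, 0, 16, 100996) (.node .leaf (136573, 0, 14, 165832) .leaf)) (136575, 0, 17, 94138) (.node (.node .leaf (136576, 0, 15, 160021) .leaf) (136578, 0, 18, 81930) (.node .leaf (136581, 0, 16, 174160) .leaf))) (136583, 0, 15, 91705) (.node (.node (.node .leaf (136584, 0, 16, 148196) .leaf) (136586, 0, 16, 66728) (.node .leaf (136589, 0, 16, 36296) .leaf)) (136591, 0, 16, 122349) (.node (.node .leaf (136593, 0, 16, 165792) .leaf) (136595, 0, 17, 112899) (.node .leaf (136596, 0, 15, 172435) .leaf)))) (136598, 0, 17, 84449) (.node (.node (.node (.node .leaf (136601,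 0, 16, 183486) .leaf) (136603, 0, 16, 99662) (.node .leaf (136604, 0, 16, 150287) .leaf)) (136606, 0, 14, 214494) (.node (.node .leaf (136609, 0, 15, 101468) .leaf) (136611, 0, 16, 51875) (.node .leaf (136612, 0, 14, 82883) .leaf))) (136614, 0, 17, 5094) (.node (.node (.node .leaf (136617, 0, 18, 91840) .leaf) (136619, 0, 12, 192315) (.node .leaf (136620, 0, 18, 82163) .leaf)) (136622, 0, 12, 145022) (.node (.node .leaf (136624, 0, 11, 197301) .leaf) (136626, 0, 13, 150518) (.node .leaf (136629, 0, 12, 99767) .leaf))))) (136631, 0, 11, 159173) (.node (.node (.node (.node (.node .leaf (136632, 0, 12, 75565) .leaf) (136634, 0, 18, 172394) (.node .leaf (136637, 0, 17, 130664) .leaf)) (136639, 0, 16, 44621) (.node (.node .leaf (136641, 0, 16, 43484) .leaf) (136643, 0, 17, 213422) (.node .leaf (136644, 0, 17, 74416) .leaf))) (136646, 0, 17, 29333) (.node (.node (.node .leaf (136649, 0, 16, 17216) .leaf) (136651, 0, 17, 240434) (.node .leaf (136652, 0, 16, 198440) .leaf)) (136654, 0, 18, 232705) (.node (.node .leaf (136656, 0, 15,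 34308) .leaf) (136658, 0, 11, 144355) (.node .leaf (136661, 0, 16, 41015) .leaf)))) (136663, 0, 15, 191142) (.node (.node (.node (.node .leaf (136664, 0, 17, 83550) .leaf) (136666, 0, 6, 5755) (.node .leaf (136669, 0, 15, 106267) .leaf)) (136671, 0, 18, 53054) (.node (.node .leaf (136672, 0, 16, 232952) .leaf) (136674, 0, 16, 25994) (.node .leaf (136677, 0, 10, 240587) .leaf))) (136679, 0, 17, 235782) (.node (.node (.node .leaf (136680, 0, 15, 223076) .leaf) (136682, 0, 16, 91611) (.node .leaf (136685, 0, 16, 60603) .leaf)) (136687, 0, 18, 113822) (.node (.node .leaf (136689, 0, 16, 34901) .leaf) (136691, 0, 16, 120944) (.node .leaf (136692, 0, 16, 230419) .leaf))))))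

/-- part of the orbit tree -/
def itp4_85 : Tree := (.node (.node (.node (.node (.node (.node .leaf (136697, 0, 16, 215228) .leaf) (136699, 0, 18, 261608) (.node .leaf (136700, 0, 16, 224911) .leaf)) (136702, 0, 14, 34557) (.node (.node .leaf (136704, 0, 16, 223259) .leaf) (136705, 0, 15, 231549) (.node .leaf (136706, 0, 14, 135852) .leaf))) (136707, 0, 12, 186456) (.node (.node (.node .leaf (136712, 0, 15, 69698) .leaf) (136713, 0, 15, 215404) (.node .leaf (136714, 0, 15, 194608) .leaf)) (136715, 0, 16, 41246) (.node (.node .leaf (136724, 0, 12, 76141) .leaf) (136725, 0, 16, 117003) (.node .leaf (136726, 0, 15, 31048) .leaf)))) (136727, 0, 17, 17001) (.node (.node (.node (.node .leaf (136732, 0, 18, 199925) .leaf) (136733, 0, 16, 213127) (.node .leaf (136734, 0, 16, 154832) .leaf)) (136735, 0, 15, 179382) (.node (.node .leaf (136740, 0, 13, 194761) .leaf) (136741, 0, 15, 47787) (.node .leaf (136742, 0, 18, 69819) .leaf))) (136743, 0, 16, 215445) (.node (.node (.node .leaf (136748, 0, 11, 135765) .leaf) (136749, 0, 18, 171827)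 (.node .leaf (136750, 0, 16, 129575) .leaf)) (136751, 0, 16, 238345) (.node (.node .leaf (136752, 0, 16, 192802) .leaf) (136753, 0, 16, 195549) (.node .leaf (136754, 0, 13, 215966) .leaf))))) (136755, 0, 18, 213118) (.node (.node (.node (.node (.node .leaf (136760, 0, 16, 138174) .leaf) (136761, 0, 15, 56901) (.node .leaf (136762, 0, 13, 127948) .leaf)) (136763, 0, 16, 240354) (.node (.node .leaf (136772, 0, 12, 15294) .leaf) (136773, 0, 14, 56280) (.node .leaf (136774, 0, 16, 93083) .leaf))) (136775, 0, 16, 158741) (.node (.node (.node .leaf (136780, 0, 14, 138790) .leaf) (136781, 0, 11, 196160) (.node .leaf (136782, 0, 17, 216579) .leaf)) (136783, 0, 15, 241253) (.node (.node .leaf (136784, 0, 15, 162504) .leaf) (136785, 0, 9, 170670) (.node .leaf (136786, 0, 15, 207597) .leaf)))) (136787, 0, 13, 248459) (.node (.node (.node (.node .leaf (136792, 0, 11, 212542) .leaf) (136793, 0, 16, 48950) (.node .leaf (136794, 0, 16, 69493) .leaf)) (136795, 0, 16, 126739) (.node (.node .leaf (136800, 0, 17, 57182) .leaf) (136801, 0, 14,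 165488) (.node .leaf (136802, 0, 16, 153933) .leaf))) (136803, 0, 18, 178475) (.node (.node (.node .leaf (136808, 0, 17, 77040) .leaf) (136809, 0, 14, 117910) (.node .leaf (136810, 0, 17, 31957) .leaf)) (136811, 0, 14, 40115) (.node (.node .leaf (136820, 0, 12, 54965) .leaf) (136821, 0, 16, 167835) (.node .leaf (136822, 0, 17, 212679) .leaf))))))

/-- part of the orbit tree -/
def itp4_86 : Tree := (.node (.node (.node (.node (.node (.node .leaf (136828, 0, 15, 15401) .leaf) (136829, 0, 14, 156935) (.node .leaf (136830, 0, 17, 250971) .leaf)) (136831, 0, 15, 187845) (.node (.node .leaf (136836, 0, 17, 13738) .leaf) (136837, 0, 17, 75348) (.node .leaf (136838, 0, 13, 253400) .leaf))) (136839, 0, 15, 30321) (.node (.node (.node .leaf (136844, 0, 15, 57142) .leaf) (136845, 0, 15, 165400) (.node .leaf (136846, 0, 16, 210756) .leaf)) (136847, 0, 16, 93802) (.node (.node .leaf (136848, 0, 14, 231236) .leaf) (136849, 0, 16, 157039) (.node .leaf (136850, 0, 14, 250931) .leaf)))) (136851, 0, 16, 101661) (.node (.node (.node (.node .leaf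 (136856, 0, 15, 55005) .leaf) (136857, 0, 9, 167923) (.node .leaf (136858, 0, 15, 212655) .leaf)) (136859, 0, 15, 92033) (.node (.node .leaf (136864, 0, 16, 193764) .leaf) (136865, 0, 13, 136322) (.node .leaf (136866, 0, 16, 238785) .leaf))) (136867, 0, 16, 214183) (.node (.node (.node .leaf (136872, 0, 18, 253217) .leaf) (136873, 0, 17, 12570) (.node .leaf (136874, 0, 16, 98649) .leaf)) (136875, 0, 17, 158845) (.node (.node .leaf (136884, 0, 12, 212566) .leaf) (136885, 0, 15, 92024) (.node .leaf (136886, 0, 17, 54820) .leaf))))) (136887, 0, 16, 167690) (.node (.node (.node (.node (.node .leaf (136892, 0, 18, 167946) .leaf) (136893, 0, 17, 159852) (.node .leaf (136894, 0, 18, 245807) .leaf)) (136895, 0, 16, 204873) (.node (.node .leaf (136896, 0, 10, 135741) .leaf) (136897, 0, 16, 161265) (.node .leaf (136898, 0, 12, 129615) .leaf))) (136899, 0, 14, 206292) (.node (.node (.node .leaf (136904, 0, 18, 45071) .leaf) (136905, 0, 14, 41359) (.node .leaf (136906, 0, 15, 69843) .leaf)) (136907, 0, 18, 65612) (.node (.node .leaf (136916,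 0, 18, 138198) .leaf) (136917, 0, 16, 17144) (.node .leaf (136918, 0, 14, 99524) .leaf)))) (136919, 0, 17, 91298) (.node (.node (.node (.node .leaf (136924, 0, 15, 192842) .leaf) (136925, 0, 14, 135455) (.node .leaf (136926, 0, 15, 237916) .leaf)) (136927, 0, 14, 213014) (.node (.node .leaf (136932, 0, 15, 108353) .leaf) (136933, 0, 16, 83751) (.node .leaf (136934, 0, 15, 194648) .leaf))) (136935, 0, 3, 5890) (.node (.node (.node .leaf (136940, 0, 17, 230105) .leaf) (136941, 0, 15, 221887) (.node .leaf (136942, 0, 15, 185084) .leaf)) (136943, 0, 16, 19434) (.node (.node .leaf (136944, 0, 16, 255543) .leaf) (136945, 0, 17, 213231) .leaf)))))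

/-- part of the orbit tree -/
def itp4_87 : Tree := (.node itp4_83 (136567, 0, 17, 226905) itp4_84)

/-- part of the orbit tree -/
def itp4_88 : Tree := (.node itp4_85 (136823, 0, 16, 63581) itp4_86)

/-- part of the orbit tree -/
def itp4_89 : Tree := (.node itp4_81 (136181, 0, 17, 100270) itp4_82)

/-- part of the orbit tree -/
def itp4_90 : Tree := (.node itp4_87 (136694, 0, 14, 27745) itp4_88)

/-- part of the orbit tree -/
def itp4_91 : Tree := (.node itp4_75 (135416, 0, 15, 62839) itp4_76)

/-- part of the orbit tree -/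
def itp4_92 : Tree := (.node itp4_89 (136438, 0, 16, 35714) itp4_90)

/-- part of the orbit tree -/
def itp4_93 : Tree := (.node (.node (.node (.node (.node (.node .leaf (136947, 0, 16, 43165) .leaf) (136952, 0, 17, 127837) (.node .leaf (136953, 0, 15, 74697) .leaf)) (136954, 0, 15, 138031) (.node (.node .leaf (136955, 0, 13, 16897) .leaf) (136960, 0, 15, 73021) (.node .leaf (136961, 0, 17, 214035) .leaf))) (136962, 0, 16, 105034) (.node (.node (.node .leaf (136963, 0, 18, 96812) .leaf) (136968, 0, 14, 192503) (.node .leaf (136969, 0, 15, 241295) .leaf)) (136970, 0, 18, 139219) (.node (.node .leaf (136971, 0, 12, 221108) .leaf) (136980, 0, 17, 166681) (.node .leaf (136981, 0, 15, 158591) .leaf)))) (136982, 0, 16, 195748) (.node (.node (.node (.node .leaf (136983, 0, 18, 42378) .leaf) (136988, 0, 15, 130634) (.node .leaf (136989, 0, 14, 20199) .leaf)) (136990, 0, 14, 130724) (.node (.node .leaf (136991, 0, 15, 73410) .leaf) (136996, 0, 15, 139050) (.node .leaf (136997, 0, 11, 17924) .leaf))) (136998, 0, 16, 128856) (.node (.node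 (.node .leaf (136999, 0, 18, 241270) .leaf) (137004, 0, 18, 122145) (.node .leaf (137005, 0, 15, 44184) .leaf)) (137006, 0, 14, 36100) (.node (.node .leaf (137007, 0, 15, 214250) .leaf) (137008, 0, 17, 113103) (.node .leaf (137009, 0, 17, 88489) .leaf))))) (137010, 0, 17, 59882) (.node (.node (.node (.node (.node .leaf (137011, 0, 16, 239517) .leaf) (137016, 0, 16, 195677) (.node .leaf (137017, 0, 15, 228401) .leaf)) (137018, 0, 17, 70703) (.node (.node .leaf (137019, 0, 14, 142356) .leaf) (137028, 0, 17, 211626) (.node .leaf (137029, 0, 16, 91012) .leaf))) (137030, 0, 17, 53976) (.node (.node (.node .leaf (137031, 0, 16, 141705) .leaf) (137036, 0, 15, 113746) (.node .leaf (137037, 0, 12, 100632) .leaf)) (137038, 0, 15, 14404) (.node (.node .leaf (137039, 0, 16, 156010) .leaf) (137040, 0, 18, 209729) (.node .leaf (137041, 0, 14, 80090) .leaf)))) (137042, 0, 13, 34969) (.node (.node (.node (.node .leaf (137043, 0, 14, 164381) .leaf) (137048, 0, 16, 261412) (.node .leaf (137049, 0, 17, 204098) .leaf)) (137050, 0, 15, 12719) (.node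 (.node .leaf (137051, 0, 16, 157825) .leaf) (137056, 0, 16, 43804) (.node .leaf (137057, 0, 11, 19322) .leaf))) (137058, 0, 17, 250063) (.node (.node (.node .leaf (137059, 0, 15, 100833) .leaf) (137064, 0, 16, 167556) (.node .leaf (137065, 0, 18, 159458) .leaf)) (137066, 0, 15, 211539) (.node (.node .leaf (137067, 0, 17, 212679) .leaf) (137076, 0, 16, 12630) (.node .leaf (137077, 0, 14, 133644) .leaf))))))

/-- part of the orbit tree -/
def itp4_94 : Tree := (.node (.node (.node (.node (.node (.node .leaf (137079, 0, 16, 98314) .leaf) (137084, 0, 15, 53234) (.node .leaf (137085, 0, 15, 12180) .leaf)) (137086, 0, 18, 209848) (.node (.node .leaf (137087, 0, 17, 92822) .leaf) (137092, 0, 17, 53833) (.node .leaf (137093, 0, 15, 164896) .leaf))) (137094, 0, 17, 211515) (.node (.node (.node .leaf (137095, 0, 18, 90901) .leaf) (137100, 0, 15, 16862) (.node .leaf (137101, 0, 17, 156155) .leaf)) (137102, 0, 16, 250023) (.node (.node .leaf (137103, 0, 17, 100745) .leaf) (137104, 0, 14, 9520) (.node .leaf (137105, 0, 13, 50518) .leaf))))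 (137106, 0, 15, 95509) (.node (.node (.node (.node .leaf (137107, 0, 14, 92926) .leaf) (137112, 0, 16, 12606) (.node .leaf (137113, 0, 17, 157712) .leaf)) (137114, 0, 13, 217229) (.node (.node .leaf (137115, 0, 13, 98402) .leaf) (137120, 0, 18, 249950) (.node .leaf (137121, 0, 15, 112374) .leaf))) (137122, 0, 17, 14380) (.node (.node (.node .leaf (137123, 0, 16, 155906) .leaf) (137128, 0, 14, 226056) (.node .leaf (137129, 0, 17, 234350) .leaf)) (137130, 0, 13, 140077) (.node (.node .leaf (137131, 0, 16, 181067) .leaf) (137140, 0, 15, 202726) (.node .leaf (137141, 0, 14, 98459) .leaf))))) (137142, 0, 15, 149443) (.node (.node (.node (.node (.node .leaf (137143, 0, 17, 173989) .leaf) (137148, 0, 14, 78462) (.node .leaf (137149, 0, 15, 92679) .leaf)) (137150, 0, 16, 56155) (.node (.node .leaf (137151, 0, 17, 164469) .leaf) (137152, 0, 15, 194014) (.node .leaf (137153, 0, 15, 44272) .leaf))) (137154, 0, 14, 26566) (.node (.node (.node .leaf (137155, 0, 18, 34720) .leaf) (137160, 0, 15, 139074) (.node .leaf (137161, 0, 17, 258589)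 .leaf)) (137162, 0, 16, 128816) (.node (.node .leaf (137163, 0, 14, 241182) .leaf) (137172, 0, 16, 195637) (.node .leaf (137173, 0, 16, 42267) .leaf)))) (137174, 0, 17, 140976) (.node (.node (.node (.node .leaf (137175, 0, 17, 181974) .leaf) (137180, 0, 17, 86797) (.node .leaf (137181, 0, 17, 111467) .leaf)) (137182, 0, 17, 130779) (.node (.node .leaf (137183, 0, 15, 239605) .leaf) (137188, 0, 13, 128969) (.node .leaf (137189, 0, 17, 241383) .leaf))) (137190, 0, 16, 139195) (.node (.node (.node .leaf (137191, 0, 13, 243062) .leaf) (137196, 0, 17, 8365) (.node .leaf (137197, 0, 16, 214139) .leaf)) (137198, 0, 16, 193831) (.node (.node .leaf (137199, 0, 14, 44041) .leaf) (137200, 0, 17, 130594) (.node .leaf (137201, 0, 18, 239372) .leaf))))))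

/-- part of the orbit tree -/
def itp4_95 : Tree := (.node (.node (.node (.node (.node (.node .leaf (137203, 0, 16, 128000) .leaf) (137208, 0, 18, 70846) (.node .leaf (137209, 0, 15, 216464) .leaf)) (137210, 0, 14, 195788) (.node (.node .leaf (137211, 0, 17, 250264) .leaf) (137217, 0, 15, 49337) (.node .leaf (137218, 0, 14, 89931) .leaf))) (137221, 0, 17, 168202) (.node (.node (.node .leaf (137222, 0, 18, 84441) .leaf) (137225, 0, 18, 189729) (.node .leaf (137226, 0, 16, 112087) .leaf)) (137229, 0, 15, 187394) (.node (.node .leaf (137230, 0, 15, 248522) .leaf) (137232, 0, 17, 49615) (.node .leaf (137235, 0, 14, 256201) .leaf)))) (137236, 0, 12, 156073) (.node (.node (.node (.node .leaf (137239, 0, 17, 200590) .leaf) (137240, 0, 17, 32018) (.node .leaf (137243, 0, 18, 118097) .leaf)) (137244, 0, 16, 17457) (.node (.node .leaf (137247, 0, 16, 128114) .leaf) (137248, 0, 16, 248371) (.node .leaf (137251, 0, 17, 170857) .leaf))) (137252, 0, 16, 201225) (.node (.node (.node .leaf (137255, 0, 14, 172618) .leaf) (137256, 0, 13, 204975)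 (.node .leaf (137259, 0, 17, 48881) .leaf)) (137260, 0, 11, 90034) (.node (.node .leaf (137263, 0, 17, 61166) .leaf) (137265, 0, 15, 111385) (.node .leaf (137266, 0, 14, 152759) .leaf))))) (137269, 0, 17, 105206) (.node (.node (.node (.node (.node .leaf (137270, 0, 16, 11178) .leaf) (137273, 0, 18, 235137) (.node .leaf (137274, 0, 17, 179755) .leaf)) (137277, 0, 17, 94314) (.node (.node .leaf (137278, 0, 18, 139233) .leaf) (137280, 0, 19, 215641) (.node .leaf (137283, 0, 13, 195098) .leaf))) (137284, 0, 17, 226170) (.node (.node (.node .leaf (137287, 0, 17, 74226) .leaf) (137288, 0, 12, 132399) (.node .leaf (137291, 0, 14, 57218) .leaf)) (137292, 0, 16, 31282) (.node (.node .leaf (137295, 0, 17, 59041) .leaf) (137297, 0, 17, 119402) (.node .leaf (137298, 0, 16, 25129) .leaf)))) (137301, 0, 14, 125769) (.node (.node (.node (.node .leaf (137302, 0, 15, 69162) .leaf) (137305, 0, 18, 142071) (.node .leaf (137306, 0, 15, 149425) .leaf)) (137309, 0, 17, 249553) (.node (.node .leaf (137310, 0, 18, 124086) .leaf) (137313, 0, 13, 41418)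 (.node .leaf (137314, 0, 16, 70025) .leaf))) (137317, 0, 14, 39145) (.node (.node (.node .leaf (137318, 0, 17, 132566) .leaf) (137321, 0, 17, 73995) (.node .leaf (137322, 0, 18, 36951) .leaf)) (137325, 0, 17, 179569) (.node (.node .leaf (137326, 0, 17, 192330) .leaf) (137328, 0, 14, 145913) (.node .leaf (137331, 0, 18, 21779) .leaf))))))

/-- part of the orbit tree -/
def itp4_96 : Tree := (.node (.node (.node (.node (.node (.node .leaf (137335, 0, 16, 141838) .leaf) (137336, 0, 12, 69331) (.node .leaf (137339, 0, 16, 49039) .leaf)) (137340, 0, 17, 9538) (.node (.node .leaf (137343, 0, 16, 180370) .leaf) (137344, 0, 12, 67408) (.node .leaf (137347, 0, 17, 46604) .leaf))) (137348, 0, 16, 227405) (.node (.node (.node .leaf (137351, 0, 18, 212661) .leaf) (137352, 0, 18, 37453) (.node .leaf (137355, 0, 16, 23696) .leaf)) (137356, 0, 17, 234193) (.node (.node .leaf (137359, 0, 17, 140173) .leaf) (137361, 0, 16, 75912) (.node .leaf (137362, 0, 17, 106405) .leaf)))) (137365, 0, 11, 5829) (.node (.node (.node (.node .leaf (137366,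 0, 15, 190153) .leaf) (137369, 0, 16, 133758) (.node .leaf (137370, 0, 16, 244285) .leaf)) (137373, 0, 18, 144221) (.node (.node .leaf (137374, 0, 18, 134229) .leaf) (137377, 0, 17, 140148) (.node .leaf (137378, 0, 12, 234024) .leaf))) (137381, 0, 14, 91493) (.node (.node (.node .leaf (137382, 0, 15, 54566) .leaf) (137385, 0, 17, 182760) (.node .leaf (137386, 0, 16, 227508) .leaf)) (137389, 0, 13, 46837) (.node (.node .leaf (137390, 0, 16, 192702) .leaf) (137392, 0, 17, 134316) (.node .leaf (137395, 0, 18, 245232) .leaf))))) (137396, 0, 17, 261462) (.node (.node (.node (.node (.node .leaf (137399, 0, 15, 150805) .leaf) (137400, 0, 16, 190000) (.node .leaf (137403, 0, 16, 218988) .leaf)) (137404, 0, 17, 39213) (.node (.node .leaf (137407, 0, 16, 75889) .leaf) (137409, 0, 14, 81205) (.node .leaf (137410, 0, 15, 178088) .leaf))) (137413, 0, 17, 96745) (.node (.node (.node .leaf (137414, 0, 13, 46165) .leaf) (137417, 0, 16, 202925) (.node .leaf (137418, 0, 16, 154932) .leaf)) (137421, 0, 15, 205198) (.node (.node .leaf (137422,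 0, 14, 168397) .leaf) (137424, 0, 14, 238854) (.node .leaf (137427, 0, 18, 170096) .leaf)))) (137428, 0, 16, 236581) (.node (.node (.node (.node .leaf (137431, 0, 17, 59245) .leaf) (137432, 0, 17, 246704) (.node .leaf (137435, 0, 13, 160492) .leaf)) (137436, 0, 18, 113837) (.node (.node .leaf (137439, 0, 14, 3569) .leaf) (137440, 0, 14, 186022) (.node .leaf (137443, 0, 16, 222949) .leaf))) (137444, 0, 18, 192389) (.node (.node (.node .leaf (137447, 0, 15, 257169) .leaf) (137448, 0, 15, 62270) (.node .leaf (137451, 0, 19, 82813) .leaf)) (137452, 0, 17, 51741) (.node (.node .leaf (137455, 0, 16, 198157) .leaf) (137457, 0, 18, 3336) (.node .leaf (137458, 0, 17, 130774) .leaf))))))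

/-- part of the orbit tree -/
def itp4_97 : Tree := (.node itp4_93 (137078, 0, 18, 252196) itp4_94)

/-- part of the orbit tree -/
def itp4_98 : Tree := (.node itp4_95 (137332, 0, 16, 236370) itp4_96)

/-- part of the orbit tree -/
def itp4_99 : Tree := (.node (.node (.node (.node (.node (.node .leaf (137462, 0, 16, 246601) .leaf) (137465, 0, 12, 158477) (.node .leaf (137466, 0, 14, 87752) .leaf)) (137469, 0, 12, 152110) (.node (.node .leaf (137470, 0, 17, 207317) .leaf) (137473, 0, 17, 221901) (.node .leaf (137474, 0, 14, 184974) .leaf))) (137477, 0, 16, 220142) (.node (.node (.node .leaf (137478, 0, 17, 191405) .leaf) (137481, 0, 18, 83797) (.node .leaf (137482, 0, 15, 86580) .leaf)) (137485, 0, 18, 97910) (.node (.node .leaf (137486, 0, 16, 208169) .leaf) (137488, 0, 17, 9772) (.node .leaf (137491, 0, 16, 19133) .leaf)))) (137492, 0, 17, 115677) (.node (.node (.node (.node .leaf (137495, 0, 14, 29598) .leaf) (137496, 0, 16, 52400) (.node .leaf (137499, 0, 18, 159525) .leaf)) (137500, 0, 14, 255557) (.node (.node .leaf (137503,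 0, 17, 197361) .leaf) (137504, 0, 15, 35166) (.node .leaf (137507, 0, 16, 80157) .leaf))) (137508, 0, 11, 86733) (.node (.node (.node .leaf (137511, 0, 12, 58257) .leaf) (137512, 0, 11, 175302) (.node .leaf (137515, 0, 17, 161296) .leaf)) (137516, 0, 16, 169445) (.node (.node .leaf (137519, 0, 15, 2317) .leaf) (137521, 0, 16, 135533) (.node .leaf (137522, 0, 18, 176980) .leaf))))) (137525, 0, 15, 141390) (.node (.node (.node (.node (.node .leaf (137526, 0, 16, 235533) .leaf) (137529, 0, 16, 13557) (.node .leaf (137530, 0, 15, 154056) .leaf)) (137533, 0, 16, 3542) (.node (.node .leaf (137534, 0, 16, 9941) .leaf) (137536, 0, 18, 59437) (.node .leaf (137539, 0, 14, 243980) .leaf))) (137540, 0, 16, 30541) (.node (.node (.node .leaf (137543, 0, 17, 90445) .leaf) (137544, 0, 17, 189132) (.node .leaf (137547, 0, 13, 228854) .leaf)) (137548, 0, 18, 193686) (.node (.node .leaf (137551, 0, 13, 76941) .leaf) (137553, 0, 18, 159774) (.node .leaf (137554, 0, 17, 235220) .leaf)))) (137557, 0, 14, 149821) (.node (.node (.node (.node .leaf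 (137558, 0, 17, 125385) .leaf) (137561, 0, 9, 21894) (.node .leaf (137562, 0, 18, 124357) .leaf)) (137565, 0, 16, 45577) (.node (.node .leaf (137566, 0, 17, 122086) .leaf) (137569, 0, 16, 76916) (.node .leaf (137570, 0, 18, 177149) .leaf))) (137573, 0, 14, 211613) (.node (.node (.node .leaf (137574, 0, 18, 188981) .leaf) (137577, 0, 14, 116456) (.node .leaf (137578, 0, 16, 30644) .leaf)) (137581, 0, 15, 73477) (.node (.node .leaf (137582, 0, 14, 133289) .leaf) (137584, 0, 17, 105357) (.node .leaf (137587, 0, 16, 45808) .leaf))))))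

/-- part of the orbit tree -/
def itp4_100 : Tree := (.node (.node (.node (.node (.node (.node .leaf (137591, 0, 16, 4845) .leaf) (137592, 0, 18, 125232) (.node .leaf (137595, 0, 16, 22636) .leaf)) (137596, 0, 16, 231222) (.node (.node .leaf (137599, 0, 16, 141169) .leaf) (137600, 0, 16, 123059) (.node .leaf (137603, 0, 15, 20975) .leaf))) (137604, 0, 18, 237486) (.node (.node (.node .leaf (137607, 0, 17, 143090) .leaf) (137608, 0, 15, 68143) (.node .leaf (137611, 0, 16, 47987) .leaf)) (137612, 0, 14, 226610) (.node (.node .leaf (137615, 0, 16, 178521) .leaf) (137617, 0, 14, 118635) (.node .leaf (137618, 0, 16, 146897) .leaf)))) (137621, 0, 18, 241782) (.node (.node (.node (.node .leaf (137622, 0, 16, 132338) .leaf) (137625, 0, 16, 108554) (.node .leaf (137626, 0, 17, 38059) .leaf)) (137629, 0, 14, 102697) (.node (.node .leaf (137630, 0, 12, 191414) .leaf) (137633, 0, 17, 196146) (.node .leaf (137634, 0, 15, 216689) .leaf))) (137637, 0, 17, 182033) (.node (.node (.node .leaf (137638, 0, 18, 68310) .leaf) (137641, 0, 14, 142859)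 (.node .leaf (137642, 0, 11, 93161) .leaf)) (137645, 0, 16, 57993) (.node (.node .leaf (137646, 0, 16, 122954) .leaf) (137648, 0, 14, 26113) (.node .leaf (137651, 0, 17, 219667) .leaf))))) (137652, 0, 17, 24354) (.node (.node (.node (.node (.node .leaf (137655, 0, 12, 126817) .leaf) (137656, 0, 18, 148377) (.node .leaf (137659, 0, 16, 259034) .leaf)) (137660, 0, 16, 32462) (.node (.node .leaf (137663, 0, 15, 118674) .leaf) (137665, 0, 14, 254231) (.node .leaf (137666, 0, 16, 151627) .leaf))) (137669, 0, 15, 105994) (.node (.node (.node .leaf (137670, 0, 13, 12118) .leaf) (137673, 0, 16, 199563) (.node .leaf (137674, 0, 16, 68250) .leaf)) (137677, 0, 19, 33786) (.node (.node .leaf (137678, 0, 14, 50634) .leaf) (137680, 0, 19, 1906) (.node .leaf (137683, 0, 14, 163731) .leaf)))) (137684, 0, 16, 111058) (.node (.node (.node (.node .leaf (137687, 0, 16, 142) .leaf) (137688, 0, 13, 205907) (.node .leaf (137691, 0, 17, 169231) .leaf)) (137692, 0, 16, 138185) (.node (.node .leaf (137695, 0, 15, 59922) .leaf) (137696, 0, 16, 95442)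 (.node .leaf (137699, 0, 18, 95343) .leaf))) (137700, 0, 14, 85489) (.node (.node (.node .leaf (137703, 0, 16, 199538) .leaf) (137704, 0, 13, 12207) (.node .leaf (137707, 0, 18, 106227) .leaf)) (137708, 0, 15, 223337) (.node (.node .leaf (137711, 0, 15, 254446) .leaf) (137713, 0, 13, 60139) (.node .leaf (137714, 0, 14, 154786) .leaf))))))

/-- part of the orbit tree -/
def itp4_101 : Tree := (.node (.node (.node (.node (.node (.node .leaf (137718, 0, 15, 205994) .leaf) (137721, 0, 14, 117113) (.node .leaf (137722, 0, 17, 31034) .leaf)) (137725, 0, 17, 163690) (.node (.node .leaf (137726, 0, 16, 249398) .leaf) (137728, 0, 16, 3247) (.node .leaf (137729, 0, 15, 60617) .leaf))) (137732, 0, 16, 13708) (.node (.node (.node .leaf (137733, 0, 17, 54762) .leaf) (137736, 0, 14, 141623) (.node .leaf (137737, 0, 14, 182609) .leaf)) (137740, 0, 17, 135188) (.node (.node .leaf (137741, 0, 17, 163514) .leaf) (137746, 0, 13, 206047) (.node .leaf (137747, 0, 14, 246969) .leaf)))) (137750, 0, 18, 86924) (.node (.node (.node (.node .leaf (137751,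 0, 17, 199330) .leaf) (137754, 0, 15, 65863) (.node .leaf (137755, 0, 17, 106275) .leaf)) (137758, 0, 18, 79972) (.node (.node .leaf (137759, 0, 13, 254014) .leaf) (137762, 0, 17, 10093) (.node .leaf (137763, 0, 17, 163395) .leaf))) (137766, 0, 18, 159324) (.node (.node (.node .leaf (137767, 0, 17, 350) .leaf) (137770, 0, 15, 29415) (.node .leaf (137771, 0, 17, 169183) .leaf)) (137774, 0, 17, 19396) (.node (.node .leaf (137775, 0, 16, 60354) .leaf) (137776, 0, 16, 98063) (.node .leaf (137777, 0, 12, 106345) .leaf))))) (137780, 0, 17, 247540) (.node (.node (.node (.node (.node .leaf (137781, 0, 16, 108106) .leaf) (137784, 0, 17, 86901) (.node .leaf (137785, 0, 16, 199259) .leaf)) (137788, 0, 15, 207976) (.node (.node .leaf (137789, 0, 13, 95558) .leaf) (137794, 0, 14, 66285) (.node .leaf (137795, 0, 17, 185962) .leaf))) (137798, 0, 13, 228848) (.node (.node (.node .leaf (137799, 0, 15, 74974) .leaf) (137802, 0, 17, 5012) (.node .leaf (137803, 0, 18, 242015) .leaf)) (137806, 0, 18, 10935) (.node (.node .leaf (137807, 0, 14, 51921)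 .leaf) (137808, 0, 15, 40041) (.node .leaf (137809, 0, 16, 130586) .leaf)))) (137812, 0, 6, 189300) (.node (.node (.node (.node .leaf (137813, 0, 17, 116537) .leaf) (137816, 0, 18, 211940) (.node .leaf (137817, 0, 13, 143323) .leaf)) (137820, 0, 17, 133608) (.node (.node .leaf (137821, 0, 18, 254625) .leaf) (137824, 0, 11, 28124) (.node .leaf (137825, 0, 13, 36282) .leaf))) (137828, 0, 13, 21759) (.node (.node (.node .leaf (137829, 0, 18, 46233) .leaf) (137832, 0, 15, 228617) (.node .leaf (137833, 0, 11, 74791) .leaf)) (137836, 0, 14, 160103) (.node (.node .leaf (137837, 0, 14, 168193) .leaf) (137842, 0, 17, 214444) (.node .leaf (137843, 0, 18, 239050) .leaf))))))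

/-- part of the orbit tree -/
def itp4_102 : Tree := (.node (.node (.node (.node (.node (.node .leaf (137847, 0, 18, 236777) .leaf) (137850, 0, 17, 189325) (.node .leaf (137851, 0, 16, 47779) .leaf)) (137854, 0, 16, 40080) (.node (.node .leaf (137855, 0, 14, 113009) .leaf) (137858, 0, 14, 248704) (.node .leaf (137859, 0, 12, 45856) .leaf))) (137862, 0, 18, 258723) (.node (.node (.node .leaf (137863, 0, 16, 201413) .leaf) (137866, 0, 18, 131218) (.node .leaf (137867, 0, 16, 22972) .leaf)) (137870, 0, 16, 120635) (.node (.node .leaf (137871, 0, 15, 140961) .leaf) (137872, 0, 15, 58352) (.node .leaf (137873, 0, 16, 77220) .leaf)))) (137876, 0, 17, 68503) (.node (.node (.node (.node .leaf (137877, 0, 13, 15029) .leaf) (137880, 0, 12, 237078) (.node .leaf (137881, 0, 16, 116536) .leaf)) (137884, 0, 16, 196427) (.node (.node .leaf (137885, 0, 18, 243749) .leaf) (137888, 0, 17, 32630) (.node .leaf (137889, 0, 14, 94262) .leaf))) (137892, 0, 14, 108915) (.node (.node (.node .leaf (137893, 0, 14, 22853) .leaf) (137896, 0, 14, 38378)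 (.node .leaf (137897, 0, 13, 183492) .leaf)) (137900, 0, 17, 191223) (.node (.node .leaf (137901, 0, 17, 46041) .leaf) (137906, 0, 16, 178208) (.node .leaf (137907, 0, 16, 153670) .leaf))))) (137910, 0, 16, 237295) (.node (.node (.node (.node (.node .leaf (137911, 0, 16, 156005) .leaf) (137914, 0, 16, 40376) (.node .leaf (137915, 0, 17, 32222) .leaf)) (137918, 0, 17, 42139) (.node (.node .leaf (137919, 0, 12, 17661) .leaf) (137920, 0, 16, 88822) (.node .leaf (137921, 0, 16, 197592) .leaf))) (137924, 0, 18, 116736) (.node (.node (.node .leaf (137925, 0, 12, 97477) .leaf) (137928, 0, 18, 110698) (.node .leaf (137929, 0, 17, 210141) .leaf)) (137932, 0, 16, 249719) (.node (.node .leaf (137933, 0, 18, 104025) .leaf) (137938, 0, 15, 186707) (.node .leaf (137939, 0, 17, 171356) .leaf)))) (137942, 0, 14, 188528) (.node (.node (.node (.node .leaf (137943, 0, 17, 131094) .leaf) (137946, 0, 11, 12014) (.node .leaf (137947, 0, 17, 161728) .leaf)) (137950, 0, 14, 50664) (.node (.node .leaf (137951, 0, 16, 9614) .leaf) (137954, 0, 14, 249742)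 (.node .leaf (137955, 0, 16, 104096) .leaf))) (137958, 0, 17, 110739) (.node (.node (.node .leaf (137959, 0, 14, 256445) .leaf) (137962, 0, 15, 102251) (.node .leaf (137963, 0, 15, 97340) .leaf)) (137966, 0, 16, 112200) (.node (.node .leaf (137967, 0, 16, 87598) .leaf) (137968, 0, 17, 33411) .leaf)))))

/-- part of the orbit tree -/
def itp4_103 : Tree := (.node itp4_99 (137588, 0, 17, 228529) itp4_100)

/-- part of the orbit tree -/
def itp4_104 : Tree := (.node itp4_101 (137846, 0, 16, 30220) itp4_102)

/-- part of the orbit tree -/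
def itp4_105 : Tree := (.node itp4_97 (137202, 0, 16, 136784) itp4_98)

/-- part of the orbit tree -/
def itp4_106 : Tree := (.node itp4_103 (137717, 0, 16, 169462) itp4_104)

/-- part of the orbit tree -/
def itp4_107 : Tree := (.node (.node (.node (.node (.node (.node .leaf (137972, 0, 15, 11799) .leaf) (137973, 0, 17, 23494) (.node .leaf (137976, 0, 16, 173851) .leaf)) (137977, 0, 16, 58040) (.node (.node .leaf (137980, 0, 17, 50315) .leaf) (137981, 0, 13, 163422) (.node .leaf (137984, 0, 14, 153078) .leaf))) (137985, 0, 15, 3288) (.node (.node (.node .leaf (137988, 0, 18, 10987) .leaf) (137989, 0, 16, 227230) (.node .leaf (137992, 0, 16, 180074) .leaf)) (137993, 0, 13, 58948) (.node (.node .leaf (137996, 0, 16, 111200) .leaf) (137997, 0, 15, 170329) (.node .leaf (138002, 0, 16, 248690) .leaf)))) (138003, 0, 16, 103004) (.node (.node (.node (.node .leaf (138006, 0, 14, 111727) .leaf) (138007, 0, 17, 24558) (.node .leaf (138010, 0, 12, 205294) .leaf)) (138011, 0, 14, 148309) (.node (.node .leaf (138014, 0, 15, 89843) .leaf)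 (138015, 0, 18, 198621) (.node .leaf (138018, 0, 14, 49294) .leaf))) (138019, 0, 17, 170400) (.node (.node (.node .leaf (138022, 0, 16, 180115) .leaf) (138023, 0, 16, 59069) (.node .leaf (138026, 0, 15, 10770) .leaf)) (138027, 0, 17, 160572) (.node (.node .leaf (138030, 0, 15, 256432) .leaf) (138031, 0, 14, 199126) (.node .leaf (138032, 0, 18, 187771) .leaf))))) (138033, 0, 16, 198436) (.node (.node (.node (.node (.node .leaf (138036, 0, 17, 189528) .leaf) (138037, 0, 13, 96313) (.node .leaf (138040, 0, 11, 63715) .leaf)) (138041, 0, 15, 257464) (.node (.node .leaf (138044, 0, 16, 248715) .leaf) (138045, 0, 17, 103077) (.node .leaf (138050, 0, 13, 124174) .leaf))) (138051, 0, 16, 244768) (.node (.node (.node .leaf (138054, 0, 17, 109915) .leaf) (138055, 0, 16, 115517) (.node .leaf (138058, 0, 13, 242144) .leaf)) (138059, 0, 18, 217478) (.node (.node .leaf (138062, 0, 16, 231619) .leaf) (138063, 0, 18, 76193) (.node .leaf (138064, 0, 14, 31626) .leaf)))) (138065, 0, 16, 154734) (.node (.node (.node (.node .leaf (138068, 0, 18,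 132247) .leaf) (138069, 0, 13, 23993) (.node .leaf (138072, 0, 17, 37142) .leaf)) (138073, 0, 15, 31222) (.node (.node .leaf (138076, 0, 14, 192011) .leaf) (138077, 0, 15, 46885) (.node .leaf (138080, 0, 16, 249768) .leaf))) (138081, 0, 8, 76120) (.node (.node (.node .leaf (138084, 0, 16, 259723) .leaf) (138085, 0, 14, 218693) (.node .leaf (138088, 0, 15, 125488) .leaf)) (138089, 0, 16, 68182) (.node (.node .leaf (138092, 0, 13, 124407) .leaf) (138093, 0, 15, 78709) (.node .leaf (138098, 0, 17, 59352) .leaf))))))

/-- part of the orbit tree -/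
def itp4_108 : Tree := (.node (.node (.node (.node (.node (.node .leaf (138102, 0, 16, 37359) .leaf) (138103, 0, 18, 16029) (.node .leaf (138106, 0, 16, 180800) .leaf)) (138107, 0, 18, 139814) (.node (.node .leaf (138110, 0, 16, 195427) .leaf) (138111, 0, 17, 139869) (.node .leaf (138114, 0, 13, 134637) .leaf))) (138115, 0, 12, 21699) (.node (.node (.node .leaf (138118, 0, 17, 29424) .leaf) (138119, 0, 13, 45233) (.node .leaf (138122, 0, 17, 150636) .leaf)) (138123, 0, 16, 175114) (.node (.node .leaf (138126, 0, 16, 39020) .leaf) (138127, 0, 14, 169257) (.node .leaf (138128, 0, 15, 234345) .leaf)))) (138129, 0, 14, 117319) (.node (.node (.node (.node .leaf (138132, 0, 15, 227495) .leaf) (138133, 0, 15, 235713) (.node .leaf (138136, 0, 15, 227829) .leaf)) (138137, 0, 16, 73947) (.node (.node .leaf (138140, 0, 18, 89407) .leaf) (138141, 0, 19, 114009) (.node .leaf (138144, 0, 10, 39061) .leaf))) (138145, 0, 15, 180667) (.node (.node (.node .leaf (138148, 0, 17, 133895) .leaf) (138149, 0, 17, 48806) (.node .leaf (138152, 0, 16,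 6076) .leaf)) (138153, 0, 17, 142119) (.node (.node .leaf (138156, 0, 15, 11935) .leaf) (138157, 0, 18, 52985) (.node .leaf (138162, 0, 17, 72276) .leaf))))) (138163, 0, 16, 220991) (.node (.node (.node (.node (.node .leaf (138166, 0, 17, 74615) .leaf) (138167, 0, 16, 115473) (.node .leaf (138170, 0, 14, 212940) .leaf)) (138171, 0, 16, 253866) (.node (.node .leaf (138174, 0, 15, 234384) .leaf) (138175, 0, 13, 117438) (.node .leaf (138176, 0, 16, 113941) .leaf))) (138177, 0, 14, 255035) (.node (.node (.node .leaf (138180, 0, 17, 158324) .leaf) (138181, 0, 14, 105254) (.node .leaf (138184, 0, 17, 87945) .leaf)) (138185, 0, 15, 200359) (.node (.node .leaf (138188, 0, 15, 206996) .leaf) (138189, 0, 16, 44938) (.node .leaf (138194, 0, 16, 9105) .leaf)))) (138195, 0, 17, 105281) (.node (.node (.node (.node .leaf (138198, 0, 17, 154764) .leaf) (138199, 0, 17, 107106) (.node .leaf (138202, 0, 16, 220863) .leaf)) (138203, 0, 15, 167971) (.node (.node .leaf (138206, 0, 15, 223132) .leaf) (138207, 0, 13, 231418) (.node .leaf (138210,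 0, 15, 206957) .leaf))) (138211, 0, 17, 59617) (.node (.node (.node .leaf (138214, 0, 16, 12708) .leaf) (138215, 0, 12, 200286) (.node .leaf (138218, 0, 17, 246513) .leaf)) (138219, 0, 15, 105439) (.node (.node .leaf (138222, 0, 16, 136252) .leaf) (138223, 0, 17, 193626) (.node .leaf (138224, 0, 17, 205047) .leaf))))))

/-- part of the orbit tree -/
def itp4_109 : Tree := (.node (.node (.node (.node (.node (.node .leaf (138228, 0, 11, 203220) .leaf) (138229, 0, 16, 260530) (.node .leaf (138232, 0, 16, 66927) .leaf)) (138233, 0, 14, 124169) (.node (.node .leaf (138236, 0, 13, 9064) .leaf) (138237, 0, 12, 162374) (.node .leaf (138240, 0, 18, 113357) .leaf))) (138242, 0, 17, 27218) (.node (.node (.node .leaf (138244, 0, 15, 247248) .leaf) (138246, 0, 16, 11682) (.node .leaf (138248, 0, 17, 86097) .leaf)) (138250, 0, 17, 151498) (.node (.node .leaf (138252, 0, 18, 208716) .leaf) (138254, 0, 14, 51006) (.node .leaf (138257, 0, 15, 238148) .leaf)))) (138259, 0, 14, 163175) (.node (.node (.node (.node .leaf (138261, 0, 17, 236391)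 .leaf) (138263, 0, 15, 183106) (.node .leaf (138265, 0, 15, 98185) .leaf)) (138267, 0, 16, 55289) (.node (.node .leaf (138269, 0, 16, 196756) .leaf) (138271, 0, 15, 59622) (.node .leaf (138273, 0, 13, 171753) .leaf))) (138275, 0, 17, 95899) (.node (.node (.node .leaf (138277, 0, 16, 57844) .leaf) (138279, 0, 13, 199046) (.node .leaf (138281, 0, 18, 160885) .leaf)) (138283, 0, 18, 107609) (.node (.node .leaf (138285, 0, 17, 52575) .leaf) (138287, 0, 15, 105850) (.node .leaf (138288, 0, 15, 176433) .leaf))))) (138290, 0, 17, 72178) (.node (.node (.node (.node (.node .leaf (138292, 0, 16, 52780) .leaf) (138294, 0, 14, 206430) (.node .leaf (138296, 0, 17, 154541) .leaf)) (138298, 0, 17, 212074) (.node (.node .leaf (138300, 0, 12, 152940) .leaf) (138302, 0, 15, 249026) (.node .leaf (138305, 0, 16, 176279) .leaf))) (138307, 0, 15, 21275) (.node (.node (.node .leaf (138309, 0, 16, 115828) .leaf) (138311, 0, 13, 252305) (.node .leaf (138313, 0, 17, 38159) .leaf)) (138315, 0, 17, 116010) (.node (.node .leaf (138317, 0, 16, 44076) .leaf)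 (138319, 0, 18, 130057) (.node .leaf (138320, 0, 17, 234673) .leaf)))) (138322, 0, 17, 31939) (.node (.node (.node (.node .leaf (138324, 0, 14, 4487) .leaf) (138326, 0, 17, 82338) (.node .leaf (138328, 0, 16, 228909) .leaf)) (138330, 0, 16, 220441) (.node (.node .leaf (138332, 0, 16, 65840) .leaf) (138334, 0, 16, 222266) (.node .leaf (138336, 0, 15, 88836) .leaf))) (138338, 0, 15, 227135) (.node (.node (.node .leaf (138340, 0, 16, 188496) .leaf) (138342, 0, 18, 12802) (.node .leaf (138344, 0, 17, 30161) .leaf)) (138346, 0, 16, 143033) (.node (.node .leaf (138348, 0, 14, 214975) .leaf) (138350, 0, 14, 137114) (.node .leaf (138353, 0, 12, 246583) .leaf))))))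

/-- part of the orbit tree -/
def itp4_110 : Tree := (.node (.node (.node (.node (.node (.node .leaf (138357, 0, 15, 260628) .leaf) (138359, 0, 17, 75770) (.node .leaf (138361, 0, 18, 23049) .leaf)) (138363, 0, 16, 46730) (.node (.node .leaf (138365, 0, 16, 122764) .leaf) (138367, 0, 16, 118118) (.node .leaf (138369, 0, 15, 21386) .leaf))) (138371, 0, 16, 138558) (.node (.node (.node .leaf (138373, 0, 17, 142487) .leaf) (138375, 0, 18, 115941) (.node .leaf (138377, 0, 16, 92291) .leaf)) (138379, 0, 18, 14502) (.node (.node .leaf (138381, 0, 10, 86432) .leaf) (138383, 0, 16, 77433) (.node .leaf (138384, 0, 18, 31826) .leaf)))) (138386, 0, 17, 234528) (.node (.node (.node (.node .leaf (138388, 0, 15, 131919) .leaf) (138390, 0, 16, 48174) (.node .leaf (138392, 0, 15, 38606) .leaf)) (138394, 0, 15, 172181) (.node (.node .leaf (138396, 0, 16, 248211) .leaf) (138398, 0, 15, 65953) (.node .leaf (138400, 0, 15, 227246) .leaf))) (138402, 0, 15, 128685) (.node (.node (.node .leaf (138404, 0, 15, 67763) .leaf) (138406, 0, 16, 188609)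 (.node .leaf (138408, 0, 16, 236850) .leaf)) (138410, 0, 16, 30016) (.node (.node .leaf (138412, 0, 15, 123439) .leaf) (138414, 0, 9, 256534) (.node .leaf (138417, 0, 16, 147131) .leaf))))) (138419, 0, 17, 224926) (.node (.node (.node (.node (.node .leaf (138421, 0, 13, 75627) .leaf) (138423, 0, 11, 184089) (.node .leaf (138425, 0, 18, 6947) .leaf)) (138427, 0, 17, 23192) (.node (.node .leaf (138429, 0, 14, 8704) .leaf) (138431, 0, 18, 94757) (.node .leaf (138432, 0, 12, 152110) .leaf))) (138434, 0, 17, 104414) (.node (.node (.node .leaf (138436, 0, 15, 11571) .leaf) (138438, 0, 17, 247105) (.node .leaf (138440, 0, 14, 189027) .leaf)) (138442, 0, 15, 86208) (.node (.node .leaf (138444, 0, 18, 187200) .leaf) (138446, 0, 16, 208861) (.node .leaf (138449, 0, 17, 155592) .leaf)))) (138451, 0, 15, 200685) (.node (.node (.node (.node .leaf (138453, 0, 19, 157419) .leaf) (138455, 0, 16, 256665) (.node .leaf (138457, 0, 16, 31312) .leaf)) (138459, 0, 17, 98072) (.node (.node .leaf (138461, 0, 14, 59511) .leaf) (138463, 0, 17, 70486)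 (.node .leaf (138465, 0, 15, 207976) .leaf))) (138467, 0, 16, 171640) (.node (.node (.node .leaf (138469, 0, 14, 202059) .leaf) (138471, 0, 15, 57701) (.node .leaf (138473, 0, 16, 105622) .leaf)) (138475, 0, 15, 160996) (.node (.node .leaf (138477, 0, 15, 78035) .leaf) (138479, 0, 16, 24822) (.node .leaf (138480, 0, 17, 111707) .leaf))))))

/-- part of the orbit tree -/
def itp4_111 : Tree := (.node itp4_107 (138099, 0, 15, 1982) itp4_108)

/-- part of the orbit tree -/
def itp4_112 : Tree := (.node itp4_109 (138355, 0, 15, 168722) itp4_110)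

/-- part of the orbit tree -/
def itp4_113 : Tree := (.node (.node (.node (.node (.node (.node .leaf (138484, 0, 14, 206543) .leaf) (138486, 0, 18, 52925) (.node .leaf (138488, 0, 15, 111438) .leaf)) (138490, 0, 17, 180710) (.node (.node .leaf (138492, 0, 15, 239840) .leaf) (138494, 0, 19, 194757) (.node .leaf (138496, 0, 17, 169987) .leaf))) (138498, 0, 15, 247846) (.node (.node (.node .leaf (138500, 0, 17, 172320) .leaf) (138502, 0, 17, 258309) (.node .leaf (138504, 0, 14, 112562) .leaf)) (138506, 0, 18, 155584) (.node (.node .leaf (138508, 0, 16, 33976) .leaf) (138510, 0, 16, 119965) (.node .leaf (138513, 0, 14, 48) .leaf)))) (138515, 0, 17, 170628) (.node (.node (.node (.node .leaf (138517, 0, 13, 200171) .leaf) (138519, 0, 15, 58777) (.node .leaf (138521, 0, 16, 104554) .leaf)) (138523, 0, 17, 226701) (.node (.node .leaf (138525, 0, 16, 255863) .leaf) (138527, 0, 14, 3845) (.node .leaf (138529, 0, 16, 162058) .leaf))) (138531, 0, 18, 9141) (.node (.node (.node .leaf (138533, 0, 16, 84659) .leaf) (138535, 0, 15, 257637)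 (.node .leaf (138537, 0, 15, 218632) .leaf)) (138539, 0, 17, 97252) (.node (.node .leaf (138541, 0, 17, 225067) .leaf) (138543, 0, 15, 147214) (.node .leaf (138544, 0, 18, 256931) .leaf))))) (138546, 0, 17, 114336) (.node (.node (.node (.node (.node .leaf (138548, 0, 17, 250496) .leaf) (138550, 0, 15, 164517) (.node .leaf (138552, 0, 16, 179278) .leaf)) (138554, 0, 16, 87100) (.node (.node .leaf (138556, 0, 18, 128792) .leaf) (138558, 0, 15, 42813) (.node .leaf (138561, 0, 17, 220298) .leaf))) (138563, 0, 16, 17094) (.node (.node (.node .leaf (138565, 0, 18, 76736) .leaf) (138567, 0, 18, 183269) (.node .leaf (138569, 0, 15, 243222) .leaf)) (138571, 0, 17, 24164) (.node (.node .leaf (138573, 0, 15, 200280) .leaf) (138575, 0, 18, 155261) (.node .leaf (138576, 0, 15, 232144) .leaf)))) (138578, 0, 14, 39712) (.node (.node (.node (.node .leaf (138580, 0, 16, 242675) .leaf) (138582, 0, 17, 189501) (.node .leaf (138584, 0, 17, 110408) .leaf)) (138586, 0, 11, 65389) (.node (.node .leaf (138588, 0, 15, 124627) .leaf) (138590, 0, 12,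 50766) (.node .leaf (138592, 0, 19, 194928) .leaf))) (138594, 0, 17, 239957) (.node (.node (.node .leaf (138596, 0, 17, 180307) .leaf) (138598, 0, 16, 126913) (.node .leaf (138600, 0, 16, 37426) .leaf)) (138602, 0, 14, 101581) (.node (.node .leaf (138604, 0, 16, 58827) .leaf) (138606, 0, 17, 66909) (.node .leaf (138609, 0, 17, 22390) .leaf))))))

/-- part of the orbit tree -/
def itp4_114 : Tree := (.node (.node (.node (.node (.node (.node .leaf (138613, 0, 15, 141419) .leaf) (138615, 0, 19, 67653) (.node .leaf (138617, 0, 15, 48618) .leaf)) (138619, 0, 16, 201982) (.node (.node .leaf (138621, 0, 15, 163320) .leaf) (138623, 0, 15, 208349) (.node .leaf (138625, 0, 16, 46185) .leaf))) (138627, 0, 17, 114506) (.node (.node (.node .leaf (138629, 0, 16, 183156) .leaf) (138631, 0, 15, 74502) (.node .leaf (138633, 0, 16, 24309) .leaf)) (138635, 0, 14, 243335) (.node (.node .leaf (138637, 0, 17, 139752) .leaf) (138639, 0, 16, 238577) (.node .leaf (138640, 0, 15, 161628) .leaf)))) (138642, 0, 15, 206713) (.node (.node (.node (.node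 .leaf (138644, 0, 13, 151167) .leaf) (138646, 0, 17, 68830) (.node .leaf (138648, 0, 16, 21188) .leaf)) (138650, 0, 14, 235871) (.node (.node .leaf (138652, 0, 15, 27623) .leaf) (138654, 0, 18, 80834) (.node .leaf (138656, 0, 16, 197884) .leaf))) (138658, 0, 15, 30783) (.node (.node (.node .leaf (138660, 0, 17, 126800) .leaf) (138662, 0, 16, 132898) (.node .leaf (138664, 0, 16, 74084) .leaf)) (138666, 0, 18, 37539) (.node (.node .leaf (138668, 0, 17, 71751) .leaf) (138670, 0, 17, 191934) (.node .leaf (138673, 0, 13, 105679) .leaf))))) (138675, 0, 18, 22503) (.node (.node (.node (.node (.node .leaf (138677, 0, 16, 114824) .leaf) (138679, 0, 17, 62921) (.node .leaf (138681, 0, 10, 218377) .leaf)) (138683, 0, 16, 190834) (.node (.node .leaf (138685, 0, 14, 76308) .leaf) (138687, 0, 16, 180838) (.node .leaf (138688, 0, 17, 177613) .leaf))) (138690, 0, 17, 89535) (.node (.node (.node .leaf (138692, 0, 17, 51920) .leaf) (138694, 0, 18, 134281) (.node .leaf (138696, 0, 17, 155473) .leaf)) (138698, 0, 16, 112419) (.node (.node .leaf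 (138700, 0, 17, 96564) .leaf) (138702, 0, 17, 247870) (.node .leaf (138705, 0, 15, 130492) .leaf)))) (138707, 0, 16, 44441) (.node (.node (.node (.node .leaf (138709, 0, 16, 58632) .leaf) (138711, 0, 15, 38074) (.node .leaf (138713, 0, 17, 251940) .leaf)) (138715, 0, 16, 104699) (.node (.node .leaf (138717, 0, 13, 3988) .leaf) (138719, 0, 17, 255974) (.node .leaf (138721, 0, 16, 102889) .leaf))) (138723, 0, 15, 162203) (.node (.node (.node .leaf (138725, 0, 18, 46911) .leaf) (138727, 0, 17, 124698) (.node .leaf (138729, 0, 15, 174980) .leaf)) (138731, 0, 15, 261025) (.node (.node .leaf (138733, 0, 16, 168615) .leaf) (138735, 0, 17, 60442) (.node .leaf (138736, 0, 16, 114225) .leaf))))))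

/-- part of the orbit tree -/
def itp4_115 : Tree := (.node (.node (.node (.node (.node (.node .leaf (138740, 0, 17, 143116) .leaf) (138742, 0, 17, 229161) (.node .leaf (138744, 0, 15, 87213) .leaf)) (138746, 0, 16, 91026) (.node (.node .leaf (138748, 0, 17, 2708) .leaf) (138750, 0, 17, 88753) (.node .leaf (138768, 0, 16, 224850) .leaf))) (138769, 0, 18, 102457) (.node (.node (.node .leaf (138770, 0, 14, 147063) .leaf) (138771, 0, 17, 161867) (.node .leaf (138772, 0, 17, 112138) .leaf)) (138773, 0, 17, 257828) (.node (.node .leaf (138774, 0, 12, 132948) .leaf) (138775, 0, 11, 1878) (.node .leaf (138776, 0, 12, 205707) .leaf)))) (138777, 0, 14, 109484) (.node (.node (.node (.node .leaf (138778, 0, 18, 7151) .leaf) (138779, 0, 15, 168663) (.node .leaf (138780, 0, 15, 89238) .leaf)) (138781, 0, 13, 198072) (.node (.node .leaf (138782, 0, 4, 177380) .leaf) (138783, 0, 14, 60874) (.node .leaf (138784, 0, 11, 138738) .leaf))) (138785, 0, 16, 195988) (.node (.node (.node .leaf (138786, 0, 14, 207513) .leaf) (138787, 0, 18, 95159)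 (.node .leaf (138788, 0, 18, 140497) .leaf)) (138789, 0, 18, 58584) (.node (.node .leaf (138790, 0, 13, 87428) .leaf) (138791, 0, 16, 199850) (.node .leaf (138792, 0, 12, 10359) .leaf))))) (138793, 0, 15, 160089) (.node (.node (.node (.node (.node .leaf (138794, 0, 15, 245765) .leaf) (138795, 0, 16, 100393) (.node .leaf (138796, 0, 14, 153450) .leaf)) (138797, 0, 17, 57647) (.node (.node .leaf (138798, 0, 16, 86380) .leaf) (138799, 0, 17, 255542) (.node .leaf (138816, 0, 16, 124779) .leaf))) (138817, 0, 17, 171239) (.node (.node (.node .leaf (138818, 0, 12, 134937) .leaf) (138819, 0, 15, 249026) (.node .leaf (138820, 0, 16, 235638) .leaf)) (138821, 0, 18, 173508) (.node (.node .leaf (138822, 0, 16, 28676) .leaf) (138823, 0, 15, 141610) (.node .leaf (138824, 0, 15, 22809) .leaf)))) (138825, 0, 17, 47487) (.node (.node (.node (.node .leaf (138826, 0, 13, 67900) .leaf) (138827, 0, 16, 48299) (.node .leaf (138828, 0, 16, 24634) .leaf)) (138829, 0, 17, 76740) (.node (.node .leaf (138830, 0, 15, 77855) .leaf) (138831, 0, 17, 181174)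 (.node .leaf (138864, 0, 17, 191639) .leaf))) (138865, 0, 17, 46521) (.node (.node (.node .leaf (138866, 0, 17, 66789) .leaf) (138867, 0, 14, 180066) (.node .leaf (138868, 0, 16, 210434) .leaf)) (138869, 0, 12, 251492) (.node (.node .leaf (138870, 0, 15, 157223) .leaf) (138871, 0, 13, 74454) (.node .leaf (138872, 0, 16, 76473) .leaf))))))

/-- part of the orbit tree -/
def itp4_116 : Tree := (.node (.node (.node (.node (.node (.node .leaf (138874, 0, 11, 126585) .leaf) (138875, 0, 11, 243543) (.node .leaf (138876, 0, 17, 30998) .leaf)) (138877, 0, 19, 127996) (.node (.node .leaf (138878, 0, 17, 233828) .leaf) (138879, 0, 10, 116810) (.node .leaf (138880, 0, 16, 229645) .leaf))) (138881, 0, 13, 22182) (.node (.node (.node .leaf (138882, 0, 18, 184616) .leaf) (138883, 0, 17, 143694) (.node .leaf (138884, 0, 14, 243758) .leaf)) (138885, 0, 16, 141755) (.node (.node .leaf (138886, 0, 14, 190475) .leaf) (138887, 0, 17, 133229) (.node .leaf (138888, 0, 16, 107669) .leaf)))) (138889, 0, 17, 83187) (.node (.node (.node (.node .leaf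 (138890, 0, 17, 62640) .leaf) (138891, 0, 19, 5334) (.node .leaf (138892, 0, 13, 39433) .leaf)) (138893, 0, 17, 97744) (.node (.node .leaf (138894, 0, 14, 225915) .leaf) (138895, 0, 15, 11765) (.node .leaf (138928, 0, 16, 66676) .leaf))) (138929, 0, 15, 135883) (.node (.node (.node .leaf (138930, 0, 15, 238216) .leaf) (138931, 0, 18, 213742) (.node .leaf (138932, 0, 16, 228201) .leaf)) (138933, 0, 14, 74311) (.node (.node .leaf (138934, 0, 15, 37659) .leaf) (138935, 0, 18, 228301) (.node .leaf (138936, 0, 17, 55093) .leaf))))) (138937, 0, 17, 14163) (.node (.node (.node (.node (.node .leaf (138938, 0, 14, 132762) .leaf) (138939, 0, 18, 24500) (.node .leaf (138940, 0, 16, 60950) .leaf)) (138941, 0, 15, 116955) (.node (.node .leaf (138942, 0, 17, 114227) .leaf) (138943, 0, 17, 139433) (.node .leaf (138960, 0, 16, 8692) .leaf))) (138961, 0, 15, 162010) (.node (.node (.node .leaf (138962, 0, 12, 248198) .leaf) (138963, 0, 17, 205725) (.node .leaf (138964, 0, 17, 155369) .leaf)) (138965, 0, 19, 150171) (.node (.node .leaf (138966,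 0, 18, 260824) .leaf) (138967, 0, 17, 257973) (.node .leaf (138968, 0, 16, 52072) .leaf)))) (138969, 0, 15, 168518) (.node (.node (.node (.node .leaf (138970, 0, 16, 124515) .leaf) (138971, 0, 18, 67077) (.node .leaf (138972, 0, 17, 36709) .leaf)) (138973, 0, 16, 28419) (.node (.node .leaf (138974, 0, 16, 89095) .leaf) (138975, 0, 16, 81702) (.node .leaf (138976, 0, 15, 254078) .leaf))) (138977, 0, 15, 196632) (.node (.node (.node .leaf (138978, 0, 18, 176219) .leaf) (138979, 0, 13, 151613) (.node .leaf (138980, 0, 14, 87317) .leaf)) (138981, 0, 16, 199739) (.node (.node .leaf (138982, 0, 14, 166264) .leaf) (138983, 0, 12, 58441) .leaf)))))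

/-- part of the orbit tree -/
def itp4_117 : Tree := (.node itp4_113 (138611, 0, 12, 245508) itp4_114)

/-- part of the orbit tree -/
def itp4_118 : Tree := (.node itp4_115 (138873, 0, 15, 117471) itp4_116)

/-- part of the orbit tree -/
def itp4_119 : Tree := (.node itp4_111 (138225, 0, 17, 245905) itp4_112)

/-- part of the orbit tree -/
def itp4_120 : Tree := (.node itp4_117 (138738, 0, 10, 214538) itp4_118)

/-- part of the orbit tree -/
def itp4_121 : Tree := (.node itp4_105 (137461, 0, 15, 160277) itp4_106)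

/-- part of the orbit tree -/
def itp4_122 : Tree := (.node itp4_119 (138482, 0, 16, 58494) itp4_120)

/-- part of the orbit tree -/
def itp4_123 : Tree := (.node itp4_91 (135925, 0, 15, 140762) itp4_92)

/-- part of the orbit tree -/
def itp4_124 : Tree := (.node itp4_121 (137969, 0, 16, 25317) itp4_122)

/-- part of the orbit tree -/
def itp4_125 : Tree := (.node itp4_61 (132858, 0, 17, 99992) itp4_62)

/-- part of the orbit tree -/
def itp4_126 : Tree := (.node itp4_123 (136946, 0, 17, 177682) itp4_124)

/-- part of the orbit tree -/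
def itp4_127 : Tree := (.node (.node (.node (.node (.node (.node .leaf (138985, 0, 17, 104890) .leaf) (138986, 0, 16, 10470) (.node .leaf (138987, 0, 16, 30117) .leaf)) (138988, 0, 11, 114569) (.node (.node .leaf (138989, 0, 19, 255655) .leaf) (138990, 0, 11, 153595) (.node .leaf (138991, 0, 17, 3797) .leaf))) (139024, 0, 16, 52262) (.node (.node (.node .leaf (139025, 0, 15, 11328) .leaf) (139026, 0, 15, 50822) (.node .leaf (139027, 0, 16, 97381) .leaf)) (139028, 0, 18, 62725) (.node (.node .leaf (139029, 0, 16, 5475) .leaf) (139030, 0, 17, 178587) (.node .leaf (139031, 0, 13, 83270) .leaf)))) (139032, 0, 13, 246888) (.node (.node (.node (.node .leaf (139033, 0, 15, 133592) .leaf) (139034, 0, 17, 11290) (.node .leaf (139035, 0, 15, 219645) .leaf)) (139036, 0, 16, 184477) (.node (.node .leaf (139037, 0, 16, 254555) .leaf) (139038, 0, 18, 229560) (.node .leaf (139039, 0, 10, 221406) .leaf))) (139040, 0, 18, 9480) (.node (.node (.node .leaf (139041, 0, 14, 162854) .leaf) (139042, 0, 17, 249210) (.node .leaf (139043, 0, 17, 4037)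 .leaf)) (139044, 0, 16, 154133) (.node (.node .leaf (139045, 0, 13, 91843) .leaf) (139046, 0, 10, 54912) (.node .leaf (139047, 0, 14, 256841) .leaf))))) (139048, 0, 17, 53140) (.node (.node (.node (.node (.node .leaf (139049, 0, 18, 169658) .leaf) (139050, 0, 14, 182843) (.node .leaf (139051, 0, 17, 141917) .leaf)) (139052, 0, 16, 238397) (.node (.node .leaf (139053, 0, 17, 213851) .leaf) (139054, 0, 10, 193304) (.node .leaf (139055, 0, 13, 197077) .leaf))) (139072, 0, 18, 65672) (.node (.node (.node .leaf (139073, 0, 19, 219558) .leaf) (139074, 0, 14, 36560) (.node .leaf (139075, 0, 16, 28342) .leaf)) (139076, 0, 13, 229269) (.node (.node .leaf (139077, 0, 17, 67504) .leaf) (139078, 0, 18, 47091) (.node .leaf (139079, 0, 18, 184009) .leaf)))) (139080, 0, 15, 260973) (.node (.node (.node (.node .leaf (139081, 0, 16, 242490) .leaf) (139082, 0, 16, 174920) (.node .leaf (139083, 0, 17, 150318) .leaf)) (139084, 0, 17, 234761) (.node (.node .leaf (139085, 0, 18, 117799) .leaf) (139086, 0, 17, 168555) (.node .leaf (139087, 0, 16,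 160269) .leaf))) (139120, 0, 14, 134004) (.node (.node (.node .leaf (139121, 0, 17, 19763) .leaf) (139122, 0, 17, 123654) (.node .leaf (139123, 0, 17, 244264) .leaf)) (139124, 0, 13, 38006) (.node (.node .leaf (139125, 0, 15, 29712) .leaf) (139126, 0, 14, 236571) (.node .leaf (139127, 0, 16, 74805) .leaf))))))

/-- part of the orbit tree -/
def itp4_128 : Tree := (.node (.node (.node (.node (.node (.node .leaf (139129, 0, 18, 157867) .leaf) (139130, 0, 16, 252136) (.node .leaf (139131, 0, 9, 211086) .leaf)) (139132, 0, 14, 40693) (.node (.node .leaf (139133, 0, 17, 182235) .leaf) (139134, 0, 17, 226951) (.node .leaf (139135, 0, 13, 77737) .leaf))) (139136, 0, 17, 190571) (.node (.node (.node .leaf (139137, 0, 17, 49951) .leaf) (139138, 0, 14, 95068) (.node .leaf (139139, 0, 14, 103226) .leaf)) (139140, 0, 12, 38774) (.node (.node .leaf (139141, 0, 17, 183896) .leaf) (139142, 0, 16, 84607) (.node .leaf (139143, 0, 16, 109081) .leaf)))) (139144, 0, 18, 132833) (.node (.node (.node (.node .leaf (139145, 0, 12, 23513) .leaf) (139146,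 0, 11, 218820) (.node .leaf (139147, 0, 17, 243362) .leaf)) (139148, 0, 14, 147394) (.node (.node .leaf (139149, 0, 19, 140484) .leaf) (139150, 0, 18, 225255) (.node .leaf (139151, 0, 15, 117942) .leaf))) (139184, 0, 15, 86233) (.node (.node (.node .leaf (139185, 0, 16, 244409) .leaf) (139186, 0, 16, 134117) (.node .leaf (139187, 0, 15, 57498) .leaf)) (139188, 0, 15, 92666) (.node (.node .leaf (139189, 0, 17, 116132) .leaf) (139190, 0, 16, 14815) (.node .leaf (139191, 0, 15, 55737) .leaf))))) (139192, 0, 14, 67851) (.node (.node (.node (.node (.node .leaf (139193, 0, 18, 234791) .leaf) (139194, 0, 17, 140644) (.node .leaf (139195, 0, 15, 47191) .leaf)) (139196, 0, 17, 226838) (.node (.node .leaf (139197, 0, 13, 240644) .leaf) (139198, 0, 14, 138311) (.node .leaf (139199, 0, 17, 195617) .leaf))) (139216, 0, 17, 50711) (.node (.node (.node .leaf (139217, 0, 13, 119244) .leaf) (139218, 0, 15, 24975) (.node .leaf (139219, 0, 17, 96075) .leaf)) (139220, 0, 17, 67721) (.node (.node .leaf (139221, 0, 16, 125167) .leaf) (139222, 0,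 15, 22700) (.node .leaf (139223, 0, 15, 47306) .leaf)))) (139224, 0, 16, 11403) (.node (.node (.node (.node .leaf (139225, 0, 13, 161189) .leaf) (139226, 0, 13, 148503) (.node .leaf (139227, 0, 15, 173169) .leaf)) (139228, 0, 17, 208145) (.node (.node .leaf (139229, 0, 13, 249207) .leaf) (139230, 0, 16, 163124) (.node .leaf (139231, 0, 15, 171346) .leaf))) (139232, 0, 15, 16906) (.node (.node (.node .leaf (139233, 0, 17, 41580) .leaf) (139234, 0, 16, 9625) (.node .leaf (139235, 0, 14, 162999) .leaf)) (139236, 0, 16, 31529) (.node (.node .leaf (139237, 0, 16, 39759) .leaf) (139238, 0, 16, 154244) (.node .leaf (139239, 0, 14, 117610) .leaf))))))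

/-- part of the orbit tree -/
def itp4_129 : Tree := (.node (.node (.node (.node (.node (.node .leaf (139241, 0, 18, 97881) .leaf) (139242, 0, 17, 52997) (.node .leaf (139243, 0, 11, 169515) .leaf)) (139244, 0, 14, 155313) (.node (.node .leaf (139245, 0, 12, 179927) .leaf) (139246, 0, 17, 200340) (.node .leaf (139247, 0, 17, 257778) .leaf))) (139264, 0, 19, 47944) (.node (.node (.node .leaf (139267, 0, 17, 10414) .leaf) (139269, 0, 14, 82344) (.node .leaf (139270, 0, 14, 61931) .leaf)) (139273, 0, 17, 133370) (.node (.node .leaf (139274, 0, 16, 244134) .leaf) (139276, 0, 15, 143049) (.node .leaf (139279, 0, 15, 144405) .leaf)))) (139280, 0, 14, 183742) (.node (.node (.node (.node .leaf (139283, 0, 16, 151803) .leaf) (139285, 0, 12, 191373) (.node .leaf (139286, 0, 16, 219857) .leaf)) (139289, 0, 12, 75078) (.node (.node .leaf (139290, 0, 14, 38149) .leaf) (139292, 0, 17, 22591) (.node .leaf (139295, 0, 18, 125283) .leaf))) (139297, 0, 17, 160638) (.node (.node (.node .leaf (139298, 0, 16, 246589) .leaf) (139300, 0, 11, 244063)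 (.node .leaf (139303, 0, 15, 203384) .leaf)) (139304, 0, 14, 46720) (.node (.node .leaf (139307, 0, 14, 67267) .leaf) (139309, 0, 17, 28613) (.node .leaf (139310, 0, 13, 48049) .leaf))))) (139313, 0, 18, 125338) (.node (.node (.node (.node (.node .leaf (139314, 0, 15, 22726) .leaf) (139316, 0, 16, 53870) (.node .leaf (139319, 0, 16, 90669) .leaf)) (139320, 0, 18, 219688) (.node (.node .leaf (139323, 0, 13, 229014) .leaf) (139325, 0, 15, 137104) (.node .leaf (139326, 0, 15, 183623) .leaf))) (139329, 0, 15, 178924) (.node (.node (.node .leaf (139330, 0, 15, 199600) .leaf) (139332, 0, 16, 171231) (.node .leaf (139335, 0, 17, 208259) .leaf)) (139336, 0, 12, 2398) (.node (.node .leaf (139339, 0, 16, 112642) .leaf) (139341, 0, 17, 12141) (.node .leaf (139342, 0, 15, 114421) .leaf)))) (139345, 0, 10, 27224) (.node (.node (.node (.node .leaf (139346, 0, 16, 97606) .leaf) (139348, 0, 17, 45853) (.node .leaf (139351, 0, 15, 88949) .leaf)) (139352, 0, 17, 176038) (.node (.node .leaf (139355, 0, 16, 204773) .leaf) (139357, 0, 17, 161507)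 (.node .leaf (139358, 0, 13, 247456) .leaf))) (139360, 0, 16, 106184) (.node (.node (.node .leaf (139363, 0, 15, 12180) .leaf) (139365, 0, 16, 73947) (.node .leaf (139366, 0, 16, 37016) .leaf)) (139369, 0, 17, 212064) (.node (.node .leaf (139370, 0, 16, 171046) .leaf) (139372, 0, 8, 255269) (.node .leaf (139375, 0, 17, 178709) .leaf))))))

/-- part of the orbit tree -/
def itp4_130 : Tree := (.node (.node (.node (.node (.node (.node .leaf (139379, 0, 14, 143752) .leaf) (139381, 0, 17, 249357) (.node .leaf (139382, 0, 15, 190669) .leaf)) (139385, 0, 17, 82997) (.node (.node .leaf (139386, 0, 14, 60112) .leaf) (139388, 0, 15, 105840) (.node .leaf (139391, 0, 15, 11571) .leaf))) (139393, 0, 14, 86543) (.node (.node (.node .leaf (139394, 0, 16, 58195) .leaf) (139396, 0, 14, 95292) (.node .leaf (139399, 0, 13, 165511) .leaf)) (139400, 0, 12, 76415) (.node (.node .leaf (139403, 0, 18, 151777) .leaf) (139405, 0, 18, 127802) (.node .leaf (139406, 0, 15, 161490) .leaf)))) (139409, 0, 15, 104404) (.node (.node (.node (.node .leaf (139410,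 0, 14, 10135) .leaf) (139412, 0, 17, 85649) (.node .leaf (139415, 0, 15, 65234) .leaf)) (139416, 0, 17, 217642) (.node (.node .leaf (139419, 0, 15, 9751) .leaf) (139421, 0, 15, 232303) (.node .leaf (139422, 0, 12, 146220) .leaf))) (139424, 0, 14, 161323) (.node (.node (.node .leaf (139427, 0, 14, 247671) .leaf) (139429, 0, 15, 151576) (.node .leaf (139430, 0, 14, 93460) .leaf)) (139433, 0, 16, 50585) (.node (.node .leaf (139434, 0, 18, 225711) .leaf) (139436, 0, 18, 137385) (.node .leaf (139439, 0, 15, 86774) .leaf))))) (139440, 0, 17, 162887) (.node (.node (.node (.node (.node .leaf (139443, 0, 13, 110977) .leaf) (139445, 0, 18, 9966) (.node .leaf (139446, 0, 16, 104370) .leaf)) (139449, 0, 17, 47545) (.node (.node .leaf (139450, 0, 18, 197171) .leaf) (139452, 0, 16, 169308) (.node .leaf (139455, 0, 17, 205824) .leaf))) (139456, 0, 17, 218027) (.node (.node (.node .leaf (139459, 0, 17, 189175) .leaf) (139461, 0, 15, 226712) (.node .leaf (139462, 0, 17, 68711) .leaf)) (139465, 0, 15, 122905) (.node (.node .leaf (139466, 0,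 16, 200924) .leaf) (139468, 0, 17, 116266) (.node .leaf (139471, 0, 18, 248217) .leaf)))) (139472, 0, 17, 75101) (.node (.node (.node (.node .leaf (139475, 0, 16, 37889) .leaf) (139477, 0, 16, 181361) (.node .leaf (139478, 0, 11, 45618) .leaf)) (139481, 0, 17, 55498) (.node (.node .leaf (139482, 0, 17, 92297) .leaf) (139484, 0, 17, 399) (.node .leaf (139487, 0, 16, 131456) .leaf))) (139489, 0, 16, 30607) (.node (.node (.node .leaf (139490, 0, 18, 116435) .leaf) (139492, 0, 15, 219063) (.node .leaf (139495, 0, 16, 123104) .leaf)) (139496, 0, 16, 84748) (.node (.node .leaf (139499, 0, 15, 64335) .leaf) (139501, 0, 15, 102985) (.node .leaf (139502, 0, 17, 8714) .leaf))))))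

/-- part of the orbit tree -/
def itp4_131 : Tree := (.node itp4_127 (139128, 0, 14, 166093) itp4_128)

/-- part of the orbit tree -/
def itp4_132 : Tree := (.node itp4_129 (139376, 0, 14, 229835) itp4_130)

/-- part of the orbit tree -/
def itp4_133 : Tree := (.node (.node (.node (.node (.node (.node .leaf (139506, 0, 18, 241701) .leaf) (139508, 0, 13, 77794) (.node .leaf (139511, 0, 14, 40865) .leaf)) (139512, 0, 18, 209753) (.node (.node .leaf (139515, 0, 15, 164634) .leaf) (139517, 0, 18, 38136) (.node .leaf (139518, 0, 15, 75172) .leaf))) (139520, 0, 17, 146073) (.node (.node (.node .leaf (139523, 0, 17, 126455) .leaf) (139525, 0, 15, 31384) (.node .leaf (139526, 0, 18, 218015) .leaf)) (139529, 0, 16, 65383) (.node (.node .leaf (139530, 0, 17, 85796) .leaf) (139532, 0, 16, 182570) (.node .leaf (139535, 0, 17, 227446) .leaf)))) (139536, 0, 17, 141917) (.node (.node (.node (.node .leaf (139539, 0, 17, 127631) .leaf) (139541, 0, 17, 134254) (.node .leaf (139542, 0, 17, 76746) .leaf)) (139545, 0, 13, 165682) (.node (.node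 .leaf (139546, 0, 15, 210801) .leaf) (139548, 0, 17, 155255) (.node .leaf (139551, 0, 17, 69248) .leaf))) (139553, 0, 14, 227471) (.node (.node (.node .leaf (139554, 0, 15, 24905) .leaf) (139556, 0, 15, 67663) (.node .leaf (139559, 0, 10, 47116) .leaf)) (139560, 0, 13, 117565) (.node (.node .leaf (139563, 0, 15, 31329) .leaf) (139565, 0, 14, 249265) (.node .leaf (139566, 0, 15, 23634) .leaf))))) (139569, 0, 18, 239967) (.node (.node (.node (.node (.node .leaf (139570, 0, 15, 137500) .leaf) (139572, 0, 17, 75850) (.node .leaf (139575, 0, 17, 180313) .leaf)) (139576, 0, 19, 93345) (.node (.node .leaf (139579, 0, 14, 134295) .leaf) (139581, 0, 16, 112100) (.node .leaf (139582, 0, 12, 1447) .leaf))) (139585, 0, 13, 110713) (.node (.node (.node .leaf (139586, 0, 17, 257107) .leaf) (139588, 0, 17, 162620) (.node .leaf (139591, 0, 15, 55679) .leaf)) (139592, 0, 17, 61117) (.node (.node .leaf (139595, 0, 13, 181700) .leaf) (139597, 0, 18, 240834) (.node .leaf (139598, 0, 14, 96722) .leaf)))) (139601, 0, 15, 247852) (.node (.node (.node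 (.node .leaf (139602, 0, 17, 161903) .leaf) (139604, 0, 16, 201065) (.node .leaf (139607, 0, 17, 172330) .leaf)) (139608, 0, 17, 69074) (.node (.node .leaf (139611, 0, 16, 48529) .leaf) (139613, 0, 15, 119959) (.node .leaf (139614, 0, 17, 25812) .leaf))) (139616, 0, 17, 154602) (.node (.node (.node .leaf (139619, 0, 16, 256937) .leaf) (139621, 0, 15, 164527) (.node .leaf (139622, 0, 17, 209644) .leaf)) (139625, 0, 16, 40468) (.node (.node .leaf (139626, 0, 17, 77399) .leaf) (139628, 0, 18, 18257) (.node .leaf (139631, 0, 17, 155126) .leaf))))))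

/-- part of the orbit tree -/
def itp4_134 : Tree := (.node (.node (.node (.node (.node (.node .leaf (139635, 0, 11, 103420) .leaf) (139637, 0, 17, 207342) (.node .leaf (139638, 0, 11, 84665) .leaf)) (139641, 0, 17, 190017) (.node (.node .leaf (139642, 0, 17, 3379) .leaf) (139644, 0, 14, 105052) (.node .leaf (139647, 0, 17, 11008) .leaf))) (139649, 0, 16, 112108) (.node (.node (.node .leaf (139650, 0, 17, 1200) .leaf) (139652, 0, 16, 103391) (.node .leaf (139655, 0, 17, 74995) .leaf)) (139656, 0, 16, 198238) (.node (.node .leaf (139659, 0, 17, 211016) .leaf) (139661, 0, 18, 204909) (.node .leaf (139662, 0, 17, 254221) .leaf)))) (139665, 0, 17, 246554) (.node (.node (.node (.node .leaf (139666, 0, 17, 160326) .leaf) (139668, 0, 18, 191717) (.node .leaf (139671, 0, 9, 152693) .leaf)) (139672, 0, 16, 61534) (.node (.node .leaf (139675, 0, 16, 81949) .leaf) (139677, 0, 15, 10523) (.node .leaf (139678, 0, 17, 59335) .leaf))) (139680, 0, 14, 168392) (.node (.node (.node .leaf (139683, 0, 16, 136741) .leaf) (139685, 0, 13, 229155)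 (.node .leaf (139686, 0, 16, 198311) .leaf)) (139689, 0, 8, 8826) (.node (.node .leaf (139690, 0, 17, 54235) .leaf) (139692, 0, 15, 1097) (.node .leaf (139695, 0, 18, 2718) .leaf))))) (139696, 0, 16, 122419) (.node (.node (.node (.node (.node .leaf (139699, 0, 18, 28272) .leaf) (139701, 0, 14, 49421) (.node .leaf (139702, 0, 13, 46901) .leaf)) (139705, 0, 16, 152716) (.node (.node .leaf (139706, 0, 17, 174990) .leaf) (139708, 0, 15, 246408) (.node .leaf (139711, 0, 18, 246755) .leaf))) (139712, 0, 12, 247573) (.node (.node (.node .leaf (139715, 0, 16, 161622) .leaf) (139717, 0, 14, 234107) (.node .leaf (139718, 0, 17, 175635) .leaf)) (139721, 0, 16, 67578) (.node (.node .leaf (139722, 0, 16, 46758) .leaf) (139724, 0, 17, 74185) (.node .leaf (139727, 0, 17, 27629) .leaf)))) (139728, 0, 15, 114496) (.node (.node (.node (.node .leaf (139731, 0, 16, 3843) .leaf) (139733, 0, 12, 124045) (.node .leaf (139734, 0, 14, 21969) .leaf)) (139737, 0, 18, 228030) (.node (.node .leaf (139738, 0, 14, 183037) .leaf) (139740, 0, 16, 238587) (.node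 .leaf (139743, 0, 16, 136120) .leaf))) (139745, 0, 16, 36972) (.node (.node (.node .leaf (139746, 0, 16, 74032) .leaf) (139748, 0, 15, 62915) (.node .leaf (139751, 0, 10, 67331) .leaf)) (139752, 0, 16, 140254) (.node (.node .leaf (139755, 0, 13, 219451) .leaf) (139757, 0, 16, 143421) (.node .leaf (139758, 0, 16, 229502) .leaf))))))

/-- part of the orbit tree -/
def itp4_135 : Tree := (.node (.node (.node (.node (.node (.node .leaf (139762, 0, 14, 219078) .leaf) (139764, 0, 18, 167318) (.node .leaf (139767, 0, 15, 212437) .leaf)) (139768, 0, 16, 21800) (.node (.node .leaf (139771, 0, 18, 74094) .leaf) (139773, 0, 14, 29467) (.node .leaf (139774, 0, 16, 115271) .leaf))) (139778, 0, 16, 58552) (.node (.node (.node .leaf (139779, 0, 14, 1246) .leaf) (139780, 0, 15, 180601) (.node .leaf (139781, 0, 15, 38999) .leaf)) (139784, 0, 15, 21752) (.node (.node .leaf (139785, 0, 18, 134614) .leaf) (139790, 0, 17, 194563) (.node .leaf (139791, 0, 15, 137317) .leaf)))) (139794, 0, 15, 171245) (.node (.node (.node (.node .leaf (139795, 0,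 16, 162955) .leaf) (139796, 0, 18, 46991) (.node .leaf (139797, 0, 17, 192161) .leaf)) (139800, 0, 18, 139790) (.node (.node .leaf (139801, 0, 14, 31520) .leaf) (139806, 0, 15, 32854) (.node .leaf (139807, 0, 19, 126031) .leaf))) (139808, 0, 12, 180072) (.node (.node (.node .leaf (139809, 0, 11, 155406) .leaf) (139814, 0, 17, 251502) (.node .leaf (139815, 0, 17, 210440) .leaf)) (139818, 0, 11, 180608) (.node (.node .leaf (139819, 0, 15, 76467) .leaf) (139820, 0, 17, 218863) (.node .leaf (139821, 0, 17, 69569) .leaf))))) (139824, 0, 14, 243096) (.node (.node (.node (.node (.node .leaf (139825, 0, 11, 10075) .leaf) (139830, 0, 14, 140023) (.node .leaf (139831, 0, 15, 85597) .leaf)) (139834, 0, 10, 46966) (.node (.node .leaf (139835, 0, 14, 192088) .leaf) (139836, 0, 13, 73753) (.node .leaf (139837, 0, 17, 227639) .leaf))) (139840, 0, 17, 187931) (.node (.node (.node .leaf (139841, 0, 15, 180160) .leaf) (139846, 0, 15, 94593) (.node .leaf (139847, 0, 14, 207023) .leaf)) (139850, 0, 15, 109478) (.node (.node .leaf (139851, 0, 14,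 84928) .leaf) (139852, 0, 15, 49824) (.node .leaf (139853, 0, 16, 10817) .leaf)))) (139856, 0, 17, 42574) (.node (.node (.node (.node .leaf (139857, 0, 17, 51510) .leaf) (139862, 0, 13, 198519) (.node .leaf (139863, 0, 17, 89689) .leaf)) (139866, 0, 16, 250867) (.node (.node .leaf (139867, 0, 13, 248792) .leaf) (139868, 0, 17, 178933) (.node .leaf (139869, 0, 16, 154259) .leaf))) (139874, 0, 15, 160662) (.node (.node (.node .leaf (139875, 0, 16, 26029) .leaf) (139876, 0, 17, 255225) (.node .leaf (139877, 0, 17, 68779) .leaf)) (139880, 0, 14, 258166) (.node (.node .leaf (139881, 0, 13, 200720) .leaf) (139886, 0, 16, 170352) (.node .leaf (139887, 0, 17, 180025) .leaf))))))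

/-- part of the orbit tree -/
def itp4_136 : Tree := (.node (.node (.node (.node (.node (.node .leaf (139891, 0, 16, 138744) .leaf) (139892, 0, 15, 102927) (.node .leaf (139893, 0, 16, 248609) .leaf)) (139896, 0, 16, 198542) (.node (.node .leaf (139897, 0, 18, 89760) .leaf) (139902, 0, 12, 168161) (.node .leaf (139903, 0, 13, 323) .leaf))) (139904, 0, 18, 205719) (.node (.node (.node .leaf (139905, 0, 12, 87843) .leaf) (139910, 0, 18, 170338) (.node .leaf (139911, 0, 12, 49228) .leaf)) (139914, 0, 17, 3299) (.node (.node .leaf (139915, 0, 16, 46668) .leaf) (139916, 0, 12, 105356) (.node .leaf (139917, 0, 17, 246434) .leaf)))) (139920, 0, 15, 96507) (.node (.node (.node (.node .leaf (139921, 0, 15, 113572) .leaf) (139926, 0, 17, 12996) (.node .leaf (139927, 0, 16, 177850) .leaf)) (139930, 0, 15, 162325) (.node (.node .leaf (139931, 0, 17, 9019) .leaf) (139932, 0, 14, 214905) (.node .leaf (139933, 0, 18, 239391) .leaf))) (139938, 0, 16, 96327) (.node (.node (.node .leaf (139939, 0, 15, 246363) .leaf) (139940, 0, 15, 4417) (.node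 .leaf (139941, 0, 16, 152884) .leaf)) (139944, 0, 16, 170395) (.node (.node .leaf (139945, 0, 14, 49333) .leaf) (139950, 0, 15, 222460) (.node .leaf (139951, 0, 13, 230554) .leaf))))) (139954, 0, 17, 257411) (.node (.node (.node (.node (.node .leaf (139955, 0, 16, 111789) .leaf) (139956, 0, 16, 162540) (.node .leaf (139957, 0, 12, 9154) .leaf)) (139960, 0, 17, 61293) (.node (.node .leaf (139961, 0, 17, 177731) .leaf) (139966, 0, 16, 72873) (.node .leaf (139967, 0, 13, 205100) .leaf))) (139970, 0, 11, 71988) (.node (.node (.node .leaf (139971, 0, 17, 190427) .leaf) (139972, 0, 15, 28722) (.node .leaf (139973, 0, 17, 36948) .leaf)) (139976, 0, 16, 244763) (.node (.node .leaf (139977, 0, 17, 167151) .leaf) (139982, 0, 16, 142196) (.node .leaf (139983, 0, 16, 255465) .leaf)))) (139986, 0, 15, 182275) (.node (.node (.node (.node .leaf (139987, 0, 19, 229639) .leaf) (139988, 0, 19, 221036) (.node .leaf (139989, 0, 12, 190465) .leaf)) (139992, 0, 16, 5340) (.node (.node .leaf (139993, 0, 18, 62650) .leaf) (139998, 0, 13, 23938) (.node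 .leaf (139999, 0, 15, 105916) .leaf))) (140000, 0, 13, 142221) (.node (.node (.node .leaf (140001, 0, 17, 238210) .leaf) (140006, 0, 15, 244962) (.node .leaf (140007, 0, 12, 183172) .leaf)) (140010, 0, 17, 76131) (.node (.node .leaf (140011, 0, 18, 55103) .leaf) (140012, 0, 15, 89695) .leaf)))))

/-- part of the orbit tree -/
def itp4_137 : Tree := (.node itp4_133 (139632, 0, 15, 200669) itp4_134)

/-- part of the orbit tree -/
def itp4_138 : Tree := (.node itp4_135 (139890, 0, 14, 195998) itp4_136)

/-- part of the orbit tree -/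
def itp4_139 : Tree := (.node itp4_131 (139240, 0, 18, 206711) itp4_132)

/-- part of the orbit tree -/
def itp4_140 : Tree := (.node itp4_137 (139761, 0, 15, 152787) itp4_138)

/-- part of the orbit tree -/
def itp4_141 : Tree := (.node (.node (.node (.node (.node (.node .leaf (140016, 0, 11, 23931) .leaf) (140017, 0, 17, 132181) (.node .leaf (140022, 0, 15, 21431) .leaf)) (140023, 0, 13, 234298) (.node (.node .leaf (140026, 0, 15, 221077) .leaf) (140027, 0, 11, 67259) (.node .leaf (140028, 0, 13, 206346) .leaf))) (140029, 0, 15, 247404) (.node (.node (.node .leaf (140034, 0, 18, 214732) .leaf) (140035, 0, 13, 125147) (.node .leaf (140036, 0, 18, 140954) .leaf)) (140037, 0, 15, 184236) (.node (.node .leaf (140040, 0, 18, 45851) .leaf) (140041, 0, 15, 191029) (.node .leaf (140046, 0, 15, 74868) .leaf)))) (140047, 0, 18, 113169) (.node (.node (.node (.node .leaf (140050, 0, 16, 81561) .leaf) (140051, 0, 17, 237101) (.node .leaf (140052, 0, 16, 22431) .leaf)) (140053, 0, 16, 47097) (.node (.node .leaf (140056, 0, 18, 150308)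 .leaf) (140057, 0, 12, 174914) (.node .leaf (140062, 0, 15, 205346) .leaf))) (140063, 0, 14, 246340) (.node (.node (.node .leaf (140064, 0, 18, 72988) .leaf) (140065, 0, 18, 130426) (.node .leaf (140070, 0, 17, 29722) .leaf)) (140071, 0, 18, 38012) (.node (.node .leaf (140074, 0, 17, 157857) .leaf) (140075, 0, 15, 32589) (.node .leaf (140076, 0, 16, 241932) .leaf))))) (140077, 0, 12, 254401) (.node (.node (.node (.node (.node .leaf (140080, 0, 17, 222537) .leaf) (140081, 0, 14, 230703) (.node .leaf (140086, 0, 17, 181524) .leaf)) (140087, 0, 16, 191529) (.node (.node .leaf (140090, 0, 16, 20629) .leaf) (140091, 0, 18, 133563) (.node .leaf (140092, 0, 17, 96754) .leaf))) (140093, 0, 16, 237268) (.node (.node (.node .leaf (140096, 0, 17, 269) .leaf) (140097, 0, 16, 153635) (.node .leaf (140102, 0, 15, 104034) .leaf)) (140103, 0, 18, 249676) (.node (.node .leaf (140106, 0, 16, 197603) .leaf) (140107, 0, 15, 88781) (.node .leaf (140108, 0, 16, 221396) .leaf)))) (140109, 0, 14, 229554) (.node (.node (.node (.node .leaf (140112,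 0, 16, 161787) .leaf) (140113, 0, 18, 11989) (.node .leaf (140118, 0, 17, 254100) .leaf)) (140119, 0, 18, 167258) (.node (.node .leaf (140122, 0, 15, 95509) .leaf) (140123, 0, 17, 207931) (.node .leaf (140124, 0, 15, 57978) .leaf))) (140125, 0, 16, 179028) (.node (.node (.node .leaf (140130, 0, 17, 206783) .leaf) (140131, 0, 17, 247769) (.node .leaf (140132, 0, 18, 151225) .leaf)) (140133, 0, 17, 175839) (.node (.node .leaf (140136, 0, 14, 104091) .leaf) (140137, 0, 16, 249781) (.node .leaf (140142, 0, 14, 80644) .leaf))))))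

/-- part of the orbit tree -/
def itp4_142 : Tree := (.node (.node (.node (.node (.node (.node .leaf (140146, 0, 13, 90090) .leaf) (140147, 0, 17, 179117) (.node .leaf (140148, 0, 16, 95724) .leaf)) (140149, 0, 17, 54922) (.node (.node .leaf (140152, 0, 18, 141911) .leaf) (140153, 0, 17, 182833) (.node .leaf (140158, 0, 15, 213841) .leaf))) (140159, 0, 18, 238391) (.node (.node (.node .leaf (140160, 0, 19, 33251) .leaf) (140161, 0, 17, 110784) (.node .leaf (140166, 0, 14, 163457) .leaf)) (140167, 0, 16, 10159) (.node (.node .leaf (140170, 0, 17, 259166) .leaf) (140171, 0, 13, 201784) (.node .leaf (140172, 0, 17, 171352) .leaf)))) (140173, 0, 16, 163134) (.node (.node (.node (.node .leaf (140176, 0, 17, 106264) .leaf) (140177, 0, 17, 247350) (.node .leaf (140182, 0, 18, 233648) .leaf)) (140183, 0, 15, 225494) (.node (.node .leaf (140186, 0, 18, 101387) .leaf) (140187, 0, 16, 93293) (.node .leaf (140188, 0, 18, 199321) .leaf))) (140189, 0, 18, 86967) (.node (.node (.node .leaf (140194, 0, 17, 186931) .leaf) (140195, 0, 13, 206264)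 (.node .leaf (140196, 0, 17, 60409) .leaf)) (140197, 0, 17, 176855) (.node (.node .leaf (140200, 0, 12, 163448) .leaf) (140201, 0, 18, 85992) (.node .leaf (140206, 0, 16, 50824) .leaf))))) (140207, 0, 17, 110649) (.node (.node (.node (.node (.node .leaf (140210, 0, 17, 41574) .leaf) (140211, 0, 17, 16896) (.node .leaf (140212, 0, 18, 171279) .leaf)) (140213, 0, 16, 50209) (.node (.node .leaf (140216, 0, 15, 2190) .leaf) (140217, 0, 16, 210877) (.node .leaf (140222, 0, 15, 179933) .leaf))) (140223, 0, 14, 247503) (.node (.node (.node .leaf (140226, 0, 18, 179008) .leaf) (140227, 0, 16, 154406) (.node .leaf (140228, 0, 16, 118393) .leaf)) (140229, 0, 18, 209440) (.node (.node .leaf (140232, 0, 14, 220152) .leaf) (140233, 0, 15, 77467) (.node .leaf (140238, 0, 16, 43003) .leaf)))) (140239, 0, 16, 18333) (.node (.node (.node (.node .leaf (140242, 0, 15, 49941) .leaf) (140243, 0, 13, 9075) (.node .leaf (140244, 0, 13, 243855) .leaf)) (140245, 0, 17, 84597) (.node (.node .leaf (140248, 0, 18, 77070) .leaf) (140249, 0, 15, 226336)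 (.node .leaf (140254, 0, 15, 47713) .leaf))) (140255, 0, 18, 147400) (.node (.node (.node .leaf (140256, 0, 15, 183406) .leaf) (140257, 0, 17, 38208) (.node .leaf (140262, 0, 16, 219905) .leaf)) (140263, 0, 9, 92656) (.node (.node .leaf (140266, 0, 16, 234797) .leaf) (140267, 0, 15, 235438) (.node .leaf (140268, 0, 17, 23023) .leaf))))))

/-- part of the orbit tree -/
def itp4_143 : Tree := (.node (.node (.node (.node (.node (.node .leaf (140272, 0, 17, 47768) .leaf) (140273, 0, 16, 161955) (.node .leaf (140278, 0, 15, 77303) .leaf)) (140279, 0, 14, 226521) (.node (.node .leaf (140282, 0, 9, 126328) .leaf) (140283, 0, 14, 123224) (.node .leaf (140284, 0, 13, 33918) .leaf))) (140285, 0, 14, 30263) (.node (.node (.node .leaf (140289, 0, 14, 126866) .leaf) (140291, 0, 17, 78342) (.node .leaf (140292, 0, 15, 117153) .leaf)) (140294, 0, 16, 125763) (.node (.node .leaf (140296, 0, 17, 220192) .leaf) (140298, 0, 17, 46162) (.node .leaf (140301, 0, 12, 163480) .leaf)))) (140303, 0, 17, 208573) (.node (.node (.node (.node .leaf (140305,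 0, 17, 235876) .leaf) (140307, 0, 16, 215635) (.node .leaf (140308, 0, 15, 181043) .leaf)) (140310, 0, 13, 22309) (.node (.node .leaf (140312, 0, 17, 57224) .leaf) (140314, 0, 16, 180900) (.node .leaf (140317, 0, 17, 68837) .leaf))) (140319, 0, 17, 189591) (.node (.node (.node .leaf (140320, 0, 16, 183222) .leaf) (140322, 0, 17, 186773) (.node .leaf (140325, 0, 15, 191877) .leaf)) (140327, 0, 17, 131280) (.node (.node .leaf (140329, 0, 14, 30724) .leaf) (140331, 0, 16, 7275) (.node .leaf (140332, 0, 13, 24119) .leaf))))) (140334, 0, 17, 50478) (.node (.node (.node (.node (.node .leaf (140336, 0, 17, 127461) .leaf) (140338, 0, 14, 218418) (.node .leaf (140341, 0, 17, 75936) .leaf)) (140343, 0, 14, 226049) (.node (.node .leaf (140345, 0, 17, 134898) .leaf) (140347, 0, 13, 124544) (.node .leaf (140348, 0, 15, 141505) .leaf))) (140350, 0, 18, 114867) (.node (.node (.node .leaf (140352, 0, 16, 257590) .leaf) (140354, 0, 16, 1604) (.node .leaf (140357, 0, 13, 209286) .leaf)) (140359, 0, 16, 156067) (.node (.node .leaf (140361, 0,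 15, 89476) .leaf) (140363, 0, 15, 177654) (.node .leaf (140364, 0, 16, 128120) .leaf)))) (140366, 0, 14, 42077) (.node (.node (.node (.node .leaf (140368, 0, 18, 102550) .leaf) (140370, 0, 16, 49331) (.node .leaf (140373, 0, 15, 114419) .leaf)) (140375, 0, 16, 153217) (.node (.node .leaf (140377, 0, 15, 207730) .leaf) (140379, 0, 13, 132429) (.node .leaf (140380, 0, 15, 200001) .leaf))) (140382, 0, 12, 58675) (.node (.node (.node .leaf (140385, 0, 16, 51730) .leaf) (140387, 0, 17, 86901) (.node .leaf (140388, 0, 16, 55829) .leaf)) (140390, 0, 16, 100912) (.node (.node .leaf (140392, 0, 14, 181934) .leaf) (140394, 0, 15, 102866) (.node .leaf (140397, 0, 12, 139243) .leaf))))))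

/-- part of the orbit tree -/
def itp4_144 : Tree := (.node (.node (.node (.node (.node (.node .leaf (140401, 0, 15, 162565) .leaf) (140403, 0, 18, 87190) (.node .leaf (140404, 0, 14, 170711) .leaf)) (140406, 0, 17, 258661) (.node (.node .leaf (140408, 0, 15, 3926) .leaf) (140410, 0, 17, 126686) (.node .leaf (140413, 0, 15, 10597) .leaf))) (140415, 0, 13, 79771) (.node (.node (.node .leaf (140416, 0, 16, 1749) .leaf) (140418, 0, 14, 257703) (.node .leaf (140421, 0, 17, 8422) .leaf)) (140423, 0, 16, 236591) (.node (.node .leaf (140425, 0, 15, 53425) .leaf) (140427, 0, 17, 98452) (.node .leaf (140428, 0, 16, 168788) .leaf)))) (140430, 0, 13, 97062) (.node (.node (.node (.node .leaf (140432, 0, 15, 27930) .leaf) (140434, 0, 10, 104529) (.node .leaf (140437, 0, 13, 153104) .leaf)) (140439, 0, 14, 114274) (.node (.node .leaf (140441, 0, 15, 50065) .leaf) (140443, 0, 17, 260289) (.node .leaf (140444, 0, 16, 58786) .leaf))) (140446, 0, 13, 200144) (.node (.node (.node .leaf (140449, 0, 17, 205553) .leaf) (140451, 0, 17, 44793) (.node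 .leaf (140452, 0, 17, 197826) .leaf)) (140454, 0, 15, 60592) (.node (.node .leaf (140456, 0, 14, 211746) .leaf) (140458, 0, 15, 158471) (.node .leaf (140461, 0, 15, 254567) .leaf))))) (140463, 0, 16, 155394) (.node (.node (.node (.node (.node .leaf (140465, 0, 16, 231049) .leaf) (140467, 0, 19, 186028) (.node .leaf (140468, 0, 17, 94772) .leaf)) (140470, 0, 17, 135145) (.node (.node .leaf (140472, 0, 15, 255925) .leaf) (140474, 0, 16, 4039) (.node .leaf (140477, 0, 17, 105010) .leaf))) (140479, 0, 17, 51735) (.node (.node (.node .leaf (140481, 0, 15, 106415) .leaf) (140483, 0, 9, 53130) (.node .leaf (140484, 0, 18, 83690) .leaf)) (140486, 0, 14, 117040) (.node (.node .leaf (140488, 0, 15, 46275) .leaf) (140490, 0, 17, 133748) (.node .leaf (140493, 0, 14, 37616) .leaf)))) (140495, 0, 17, 227970) (.node (.node (.node (.node .leaf (140497, 0, 17, 255994) .leaf) (140499, 0, 16, 178143) (.node .leaf (140500, 0, 14, 212671) .leaf)) (140502, 0, 15, 159386) (.node (.node .leaf (140504, 0, 15, 180789) .leaf) (140506, 0, 12, 29217) (.node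 .leaf (140509, 0, 15, 189446) .leaf))) (140511, 0, 16, 43876) (.node (.node (.node .leaf (140512, 0, 18, 74581) .leaf) (140514, 0, 15, 205849) (.node .leaf (140517, 0, 13, 66918) .leaf)) (140519, 0, 18, 191764) (.node (.node .leaf (140521, 0, 16, 233703) .leaf) (140523, 0, 16, 30869) (.node .leaf (140524, 0, 16, 26759) .leaf))))))

/-- part of the orbit tree -/
def itp4_145 : Tree := (.node itp4_141 (140143, 0, 16, 121698) itp4_142)

/-- part of the orbit tree -/
def itp4_146 : Tree := (.node itp4_143 (140399, 0, 17, 217038) itp4_144)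

/-- part of the orbit tree -/
def itp4_147 : Tree := (.node (.node (.node (.node (.node (.node .leaf (140528, 0, 17, 218531) .leaf) (140530, 0, 16, 48593) (.node .leaf (140533, 0, 16, 226192) .leaf)) (140535, 0, 18, 39906) (.node (.node .leaf (140537, 0, 18, 124433) .leaf) (140539, 0, 17, 134755) (.node .leaf (140540, 0, 16, 135378) .leaf))) (140542, 0, 16, 141392) (.node (.node (.node .leaf (140545, 0, 15, 67697) .leaf) (140547, 0, 17, 188419) (.node .leaf (140548, 0, 16, 77378) .leaf)) (140550, 0, 12, 149815) (.node (.node .leaf (140552, 0, 16, 66985) .leaf) (140554, 0, 17, 21900) (.node .leaf (140557, 0, 13, 122092) .leaf)))) (140559, 0, 15, 30082) (.node (.node (.node (.node .leaf (140561, 0, 13, 228999) .leaf) (140563, 0, 19, 59431) (.node .leaf (140564, 0, 16, 90439) .leaf)) (140566, 0, 16, 12642) (.node (.node .leaf (140568, 0, 18, 228860) .leaf) (140570, 0, 15, 140615) (.node .leaf (140573, 0, 15, 125702) .leaf))) (140575, 0, 17, 193692) (.node (.node (.node .leaf (140576, 0, 19, 11204) .leaf) (140578, 0, 16, 97249)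 (.node .leaf (140581, 0, 17, 133734) .leaf)) (140583, 0, 16, 107172) (.node (.node .leaf (140585, 0, 13, 40935) .leaf) (140587, 0, 12, 227221) (.node .leaf (140588, 0, 16, 47572) .leaf))))) (140590, 0, 17, 217510) (.node (.node (.node (.node (.node .leaf (140592, 0, 16, 152465) .leaf) (140594, 0, 13, 242385) (.node .leaf (140597, 0, 14, 166612) .leaf)) (140599, 0, 14, 234722) (.node (.node .leaf (140601, 0, 17, 190737) .leaf) (140603, 0, 16, 116298) (.node .leaf (140604, 0, 15, 184098) .leaf))) (140606, 0, 16, 73487) (.node (.node (.node .leaf (140608, 0, 16, 199125) .leaf) (140610, 0, 16, 72338) (.node .leaf (140613, 0, 15, 37874) .leaf)) (140615, 0, 14, 115671) (.node (.node .leaf (140617, 0, 19, 113255) .leaf) (140619, 0, 13, 152085) (.node .leaf (140620, 0, 16, 153100) .leaf)))) (140622, 0, 17, 198185) (.node (.node (.node (.node .leaf (140624, 0, 16, 144098) .leaf) (140626, 0, 15, 221895) (.node .leaf (140629, 0, 14, 191399) .leaf)) (140631, 0, 16, 244610) (.node (.node .leaf (140633, 0, 17, 248977) .leaf) (140635, 0,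 17, 9443) (.node .leaf (140636, 0, 17, 256674) .leaf))) (140638, 0, 14, 97916) (.node (.node (.node .leaf (140641, 0, 15, 11761) .leaf) (140643, 0, 11, 247171) (.node .leaf (140644, 0, 16, 3010) .leaf)) (140646, 0, 15, 141380) (.node (.node .leaf (140648, 0, 17, 91354) .leaf) (140650, 0, 15, 95793) (.node .leaf (140653, 0, 18, 114079) .leaf))))))

/-- part of the orbit tree -/
def itp4_148 : Tree := (.node (.node (.node (.node (.node (.node .leaf (140657, 0, 15, 121201) .leaf) (140659, 0, 11, 35156) (.node .leaf (140660, 0, 16, 163124) .leaf)) (140662, 0, 17, 103750) (.node (.node .leaf (140664, 0, 12, 203919) .leaf) (140666, 0, 16, 196807) (.node .leaf (140669, 0, 17, 247242) .leaf))) (140671, 0, 15, 169455) (.node (.node (.node .leaf (140672, 0, 15, 112443) .leaf) (140674, 0, 19, 59166) (.node .leaf (140677, 0, 17, 50949) .leaf)) (140679, 0, 16, 15963) (.node (.node .leaf (140681, 0, 17, 152196) .leaf) (140683, 0, 14, 140000) (.node .leaf (140684, 0, 15, 160951) .leaf)))) (140686, 0, 15, 195493) (.node (.node (.node (.node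 .leaf (140688, 0, 17, 249710) .leaf) (140690, 0, 15, 171851) (.node .leaf (140693, 0, 15, 202283) .leaf)) (140695, 0, 18, 88449) (.node (.node .leaf (140697, 0, 18, 68240) .leaf) (140699, 0, 17, 248832) (.node .leaf (140700, 0, 18, 119765) .leaf))) (140702, 0, 16, 256563) (.node (.node (.node .leaf (140705, 0, 16, 247058) .leaf) (140707, 0, 17, 11616) (.node .leaf (140708, 0, 11, 254753) .leaf)) (140710, 0, 11, 251336) (.node (.node .leaf (140712, 0, 17, 39254) .leaf) (140714, 0, 16, 171730) (.node .leaf (140717, 0, 17, 86163) .leaf))))) (140719, 0, 18, 69686) (.node (.node (.node (.node (.node .leaf (140721, 0, 17, 111588) .leaf) (140723, 0, 14, 95448) (.node .leaf (140724, 0, 14, 64952) .leaf)) (140726, 0, 14, 109981) (.node (.node .leaf (140728, 0, 15, 188675) .leaf) (140730, 0, 15, 59428) (.node .leaf (140733, 0, 17, 206437) .leaf))) (140735, 0, 14, 52759) (.node (.node (.node .leaf (140737, 0, 16, 188562) .leaf) (140739, 0, 13, 67808) (.node .leaf (140740, 0, 15, 181921) .leaf)) (140742, 0, 12, 242875) (.node (.node .leaf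 (140744, 0, 15, 21280) .leaf) (140746, 0, 16, 108544) (.node .leaf (140749, 0, 16, 29971) .leaf)))) (140751, 0, 19, 94533) (.node (.node (.node (.node .leaf (140753, 0, 13, 17806) .leaf) (140755, 0, 16, 228886) (.node .leaf (140756, 0, 16, 45143) .leaf)) (140758, 0, 15, 117998) (.node (.node .leaf (140760, 0, 16, 140758) .leaf) (140762, 0, 14, 118180) (.node .leaf (140765, 0, 14, 153909) .leaf))) (140767, 0, 14, 198928) (.node (.node (.node .leaf (140768, 0, 17, 120392) .leaf) (140770, 0, 15, 34413) (.node .leaf (140773, 0, 16, 123525) .leaf)) (140775, 0, 17, 24360) (.node (.node .leaf (140777, 0, 15, 201654) .leaf) (140779, 0, 17, 148371) (.node .leaf (140780, 0, 16, 248563) .leaf))))))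

/-- part of the orbit tree -/
def itp4_149 : Tree := (.node (.node (.node (.node (.node (.node .leaf (140784, 0, 17, 241181) .leaf) (140786, 0, 18, 196152) (.node .leaf (140789, 0, 16, 227160) .leaf)) (140791, 0, 13, 141181) (.node (.node .leaf (140793, 0, 17, 93155) .leaf) (140795, 0, 17, 15302) (.node .leaf (140796, 0, 16, 111270) .leaf))) (140798, 0, 13, 57987) (.node (.node (.node .leaf (140800, 0, 16, 44597) .leaf) (140801, 0, 19, 20051) (.node .leaf (140802, 0, 16, 23522) .leaf)) (140803, 0, 11, 73334) (.node (.node .leaf (140812, 0, 17, 176782) .leaf) (140813, 0, 17, 152296) (.node .leaf (140814, 0, 17, 254635) .leaf)))) (140815, 0, 14, 38733) (.node (.node (.node (.node .leaf (140816, 0, 18, 185952) .leaf) (140817, 0, 17, 236616) (.node .leaf (140818, 0, 16, 230981) .leaf)) (140819, 0, 18, 29754) (.node (.node .leaf (140828, 0, 16, 217319) .leaf) (140829, 0, 12, 10941) (.node .leaf (140830, 0, 16, 47253) .leaf))) (140831, 0, 15, 188859) (.node (.node (.node .leaf (140836, 0, 19, 236771) .leaf) (140837, 0, 17, 228485)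 (.node .leaf (140838, 0, 16, 219637) .leaf)) (140839, 0, 17, 65755) (.node (.node .leaf (140840, 0, 16, 98392) .leaf) (140841, 0, 8, 32040) (.node .leaf (140842, 0, 17, 117876) .leaf))))) (140843, 0, 16, 12315) (.node (.node (.node (.node (.node .leaf (140852, 0, 16, 182129) .leaf) (140853, 0, 15, 40543) (.node .leaf (140854, 0, 16, 46227) .leaf)) (140855, 0, 18, 21749) (.node (.node .leaf (140856, 0, 17, 260109) .leaf) (140857, 0, 17, 202859) (.node .leaf (140858, 0, 17, 174120) .leaf))) (140859, 0, 17, 149582) (.node (.node (.node .leaf (140868, 0, 16, 261520) .leaf) (140869, 0, 16, 204278) (.node .leaf (140870, 0, 10, 175541) .leaf)) (140871, 0, 16, 9563) (.node (.node .leaf (140872, 0, 15, 196998) .leaf) (140873, 0, 12, 65869) (.node .leaf (140874, 0, 13, 45326) .leaf)))) (140875, 0, 17, 176346) (.node (.node (.node (.node .leaf (140884, 0, 14, 254705) .leaf) (140885, 0, 17, 113631) (.node .leaf (140886, 0, 16, 2691) .leaf)) (140887, 0, 18, 152493) (.node (.node .leaf (140888, 0, 15, 235902) .leaf) (140889, 0, 15, 227608)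 (.node .leaf (140890, 0, 16, 171778) .leaf))) (140891, 0, 16, 141629) (.node (.node (.node .leaf (140896, 0, 12, 53062) .leaf) (140897, 0, 16, 12064) (.node .leaf (140898, 0, 15, 97890) .leaf)) (140899, 0, 17, 206668) (.node (.node .leaf (140908, 0, 18, 913) .leaf) (140909, 0, 16, 144283) (.node .leaf (140910, 0, 17, 230360) .leaf))))))

/-- part of the orbit tree -/
def itp4_150 : Tree := (.node (.node (.node (.node (.node (.node .leaf (140912, 0, 18, 177939) .leaf) (140913, 0, 17, 178632) (.node .leaf (140914, 0, 9, 255798) .leaf)) (140915, 0, 17, 198480) (.node (.node .leaf (140924, 0, 18, 43944) .leaf) (140925, 0, 15, 19406) (.node .leaf (140926, 0, 15, 105749) .leaf))) (140927, 0, 17, 246843) (.node (.node (.node .leaf (140932, 0, 18, 163044) .leaf) (140933, 0, 16, 188538) (.node .leaf (140934, 0, 15, 217145) .leaf)) (140935, 0, 17, 249272) (.node (.node .leaf (140936, 0, 13, 7335) .leaf) (140937, 0, 17, 176203) (.node .leaf (140938, 0, 16, 85122) .leaf)))) (140939, 0, 18, 109796) (.node (.node (.node (.node .leaf (140948,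 0, 19, 30793) .leaf) (140949, 0, 14, 38959) (.node .leaf (140950, 0, 16, 254560) .leaf)) (140951, 0, 13, 116746) (.node (.node .leaf (140952, 0, 18, 156914) .leaf) (140953, 0, 16, 50877) (.node .leaf (140954, 0, 17, 210135) .leaf))) (140955, 0, 17, 251057) (.node (.node (.node .leaf (140960, 0, 17, 98035) .leaf) (140961, 0, 14, 206813) (.node .leaf (140962, 0, 18, 169601) .leaf)) (140963, 0, 18, 33417) (.node (.node .leaf (140972, 0, 16, 208497) .leaf) (140973, 0, 17, 249367) (.node .leaf (140974, 0, 15, 163412) .leaf))))) (140975, 0, 17, 154158) (.node (.node (.node (.node (.node .leaf (140976, 0, 16, 215711) .leaf) (140977, 0, 17, 86315) (.node .leaf (140978, 0, 17, 137914) .leaf)) (140979, 0, 16, 178521) (.node (.node .leaf (140988, 0, 19, 87588) .leaf) (140989, 0, 13, 112194) (.node .leaf (140990, 0, 17, 161270) .leaf))) (140991, 0, 18, 11480) (.node (.node (.node .leaf (140992, 0, 17, 23411) .leaf) (140993, 0, 16, 131677) (.node .leaf (140994, 0, 16, 242433) .leaf)) (140995, 0, 13, 58362) (.node (.node .leaf (141004, 0,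 14, 184050) .leaf) (141005, 0, 17, 38876) (.node .leaf (141006, 0, 15, 139047) .leaf)))) (141007, 0, 11, 196417) (.node (.node (.node (.node .leaf (141008, 0, 15, 207852) .leaf) (141009, 0, 15, 248714) (.node .leaf (141010, 0, 13, 162761) .leaf)) (141011, 0, 18, 236761) (.node (.node .leaf (141020, 0, 18, 79703) .leaf) (141021, 0, 12, 120625) (.node .leaf (141022, 0, 17, 217206) .leaf))) (141023, 0, 15, 67928) (.node (.node (.node .leaf (141028, 0, 15, 156015) .leaf) (141029, 0, 16, 65610) (.node .leaf (141030, 0, 14, 45334) .leaf)) (141031, 0, 17, 190520) (.node (.node .leaf (141032, 0, 14, 32212) .leaf) (141033, 0, 17, 40370) .leaf)))))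

/-- part of the orbit tree -/
def itp4_151 : Tree := (.node itp4_147 (140655, 0, 16, 60858) itp4_148)

/-- part of the orbit tree -/
def itp4_152 : Tree := (.node itp4_149 (140911, 0, 14, 222142) itp4_150)

/-- part of the orbit tree -/
def itp4_153 : Tree := (.node itp4_145 (140269, 0, 17, 138317) itp4_146)

/-- part of the orbit tree -/
def itp4_154 : Tree := (.node itp4_151 (140782, 0, 17, 170710) itp4_152)

/-- part of the orbit tree -/
def itp4_155 : Tree := (.node itp4_139 (139505, 0, 14, 128679) itp4_140)

/-- part of the orbit tree -/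
def itp4_156 : Tree := (.node itp4_153 (140526, 0, 11, 80034) itp4_154)

/-- part of the orbit tree -/
def itp4_157 : Tree := (.node (.node (.node (.node (.node (.node .leaf (141035, 0, 16, 118167) .leaf) (141044, 0, 18, 77714) (.node .leaf (141045, 0, 16, 63836) .leaf)) (141046, 0, 15, 84255) (.node (.node .leaf (141047, 0, 14, 108921) .leaf) (141048, 0, 17, 244243) (.node .leaf (141049, 0, 14, 189927) .leaf))) (141050, 0, 17, 218532) (.node (.node (.node .leaf (141051, 0, 17, 133967) .leaf) (141056, 0, 14, 218227) (.node .leaf (141057, 0, 15, 257063) .leaf)) (141058, 0, 17, 154724) (.node (.node .leaf (141059, 0, 17, 179202) .leaf) (141068, 0, 15, 69882) (.node .leaf (141069, 0, 14, 127132) .leaf)))) (141070, 0, 14, 141696) (.node (.node (.node (.node .leaf (141071, 0, 14, 41145) .leaf) (141072, 0, 14, 74373) (.node .leaf (141073, 0, 13, 103538) .leaf)) (141074, 0, 18, 183031) (.node (.node .leaf (141075, 0, 14, 50263) .leaf) (141084, 0, 17, 243460) (.node .leaf (141085, 0, 15, 231625) .leaf))) (141086, 0, 15, 145546) (.node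 (.node (.node .leaf (141087, 0, 16, 186604) .leaf) (141092, 0, 16, 22116) (.node .leaf (141093, 0, 17, 57073) .leaf)) (141094, 0, 17, 245270) (.node (.node .leaf (141095, 0, 14, 102100) .leaf) (141096, 0, 16, 181221) (.node .leaf (141097, 0, 17, 39627) .leaf))))) (141098, 0, 16, 225801) (.node (.node (.node (.node (.node .leaf (141099, 0, 16, 225977) .leaf) (141108, 0, 14, 149186) (.node .leaf (141109, 0, 16, 173732) .leaf)) (141110, 0, 16, 202471) (.node (.node .leaf (141111, 0, 15, 259713) .leaf) (141112, 0, 11, 23161) (.node .leaf (141113, 0, 17, 47647) .leaf))) (141114, 0, 15, 220513) (.node (.node (.node .leaf (141115, 0, 17, 66639) .leaf) (141124, 0, 16, 95204) (.node .leaf (141125, 0, 17, 207562) .leaf)) (141126, 0, 17, 69569) (.node (.node .leaf (141127, 0, 16, 126887) .leaf) (141128, 0, 16, 148319) (.node .leaf (141129, 0, 17, 114507) .leaf)))) (141130, 0, 19, 201594) (.node (.node (.node (.node .leaf (141131, 0, 16, 153401) .leaf) (141140, 0, 15, 197906) (.node .leaf (141141, 0, 16, 89148) .leaf)) (141142, 0, 16,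 227220) (.node (.node .leaf (141143, 0, 17, 235506) .leaf) (141144, 0, 17, 102547) (.node .leaf (141145, 0, 17, 248253) .leaf))) (141146, 0, 16, 92975) (.node (.node (.node .leaf (141147, 0, 17, 101193) .leaf) (141152, 0, 15, 224562) (.node .leaf (141153, 0, 16, 232788) .leaf)) (141154, 0, 16, 104833) (.node (.node .leaf (141155, 0, 14, 245935) .leaf) (141164, 0, 15, 58482) (.node .leaf (141165, 0, 16, 179548) .leaf))))))

/-- part of the orbit tree -/
def itp4_158 : Tree := (.node (.node (.node (.node (.node (.node .leaf (141167, 0, 15, 49610) .leaf) (141168, 0, 16, 71015) (.node .leaf (141169, 0, 15, 155179) .leaf)) (141170, 0, 17, 257911) (.node (.node .leaf (141171, 0, 16, 42276) .leaf) (141180, 0, 15, 199132) (.node .leaf (141181, 0, 12, 52138) .leaf))) (141182, 0, 14, 97014) (.node (.node (.node .leaf (141183, 0, 13, 178591) .leaf) (141188, 0, 16, 170759) (.node .leaf (141189, 0, 15, 49705) .leaf)) (141190, 0, 16, 95093) (.node (.node .leaf (141191, 0, 13, 4651) .leaf) (141192, 0, 17, 245459) (.node .leaf (141193, 0,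 16, 153512) .leaf)))) (141194, 0, 14, 192246) (.node (.node (.node (.node .leaf (141195, 0, 11, 134800) .leaf) (141204, 0, 19, 60913) (.node .leaf (141205, 0, 18, 177375) .leaf)) (141206, 0, 16, 166424) (.node (.node .leaf (141207, 0, 13, 158334) .leaf) (141208, 0, 16, 161904) (.node .leaf (141209, 0, 16, 8542) .leaf))) (141210, 0, 18, 38563) (.node (.node (.node .leaf (141211, 0, 16, 30405) .leaf) (141216, 0, 15, 104720) (.node .leaf (141217, 0, 18, 245822) .leaf)) (141218, 0, 15, 245915) (.node (.node .leaf (141219, 0, 14, 10316) .leaf) (141228, 0, 15, 199825) (.node .leaf (141229, 0, 16, 87487) .leaf))))) (141230, 0, 16, 121888) (.node (.node (.node (.node (.node .leaf (141231, 0, 17, 179661) .leaf) (141232, 0, 13, 258022) (.node .leaf (141233, 0, 17, 2189) .leaf)) (141234, 0, 17, 112846) (.node (.node .leaf (141235, 0, 17, 88232) .leaf) (141244, 0, 17, 96871) (.node .leaf (141245, 0, 16, 136246) .leaf))) (141246, 0, 17, 168469) (.node (.node (.node .leaf (141247, 0, 16, 52027) .leaf) (141248, 0, 16, 48272) (.node .leaf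 (141249, 0, 15, 189886) .leaf)) (141250, 0, 15, 218338) (.node (.node .leaf (141251, 0, 15, 213390) .leaf) (141260, 0, 17, 141585) (.node .leaf (141261, 0, 17, 3344) .leaf)))) (141262, 0, 16, 114003) (.node (.node (.node (.node .leaf (141263, 0, 17, 89397) .leaf) (141264, 0, 16, 35224) (.node .leaf (141265, 0, 16, 37704) .leaf)) (141266, 0, 14, 121277) (.node (.node .leaf (141267, 0, 16, 80347) .leaf) (141276, 0, 17, 169251) (.node .leaf (141277, 0, 13, 132809) .leaf))) (141278, 0, 14, 247046) (.node (.node (.node .leaf (141279, 0, 15, 206176) .leaf) (141284, 0, 17, 245383) (.node .leaf (141285, 0, 9, 124841) .leaf)) (141286, 0, 15, 22261) (.node (.node .leaf (141287, 0, 17, 29528) .leaf) (141288, 0, 16, 253856) (.node .leaf (141289, 0, 11, 212934) .leaf))))))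

/-- part of the orbit tree -/
def itp4_159 : Tree := (.node (.node (.node (.node (.node (.node .leaf (141291, 0, 18, 39514) .leaf) (141300, 0, 15, 244558) (.node .leaf (141301, 0, 18, 219944) .leaf)) (141302, 0, 17, 191339) (.node (.node .leaf (141303, 0, 15, 133901) .leaf) (141304, 0, 13, 220656) (.node .leaf (141305, 0, 15, 66782) .leaf))) (141306, 0, 13, 46466) (.node (.node (.node .leaf (141307, 0, 16, 191660) .leaf) (141313, 0, 14, 173913) (.node .leaf (141314, 0, 17, 202245) .leaf)) (141317, 0, 15, 55364) (.node (.node .leaf (141318, 0, 15, 167927) .leaf) (141320, 0, 15, 115561) (.node .leaf (141323, 0, 12, 29482) .leaf)))) (141324, 0, 13, 129610) (.node (.node (.node (.node .leaf (141327, 0, 13, 18953) .leaf) (141329, 0, 14, 53679) (.node .leaf (141330, 0, 18, 52865) .leaf)) (141333, 0, 16, 175794) (.node (.node .leaf (141334, 0, 18, 63394) .leaf) (141336, 0, 18, 156189) (.node .leaf (141339, 0, 18, 134015) .leaf))) (141340, 0, 17, 7424) (.node (.node (.node .leaf (141343, 0, 17, 143964) .leaf) (141344, 0, 11, 60676)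 (.node .leaf (141347, 0, 17, 89415) .leaf)) (141348, 0, 17, 54311) (.node (.node .leaf (141351, 0, 16, 91236) .leaf) (141353, 0, 17, 209103) (.node .leaf (141354, 0, 11, 164243) .leaf))))) (141357, 0, 17, 135641) (.node (.node (.node (.node (.node .leaf (141358, 0, 12, 65166) .leaf) (141360, 0, 14, 259467) (.node .leaf (141363, 0, 18, 148695) .leaf)) (141364, 0, 16, 101014) (.node (.node .leaf (141367, 0, 14, 15306) .leaf) (141369, 0, 16, 20655) (.node .leaf (141370, 0, 19, 63333) .leaf))) (141373, 0, 14, 211236) (.node (.node (.node .leaf (141374, 0, 16, 166008) .leaf) (141376, 0, 16, 42749) (.node .leaf (141379, 0, 17, 71585) .leaf)) (141380, 0, 14, 46420) (.node (.node .leaf (141383, 0, 17, 66839) .leaf) (141385, 0, 17, 149897) (.node .leaf (141386, 0, 15, 238611) .leaf)))) (141389, 0, 16, 159914) (.node (.node (.node (.node .leaf (141390, 0, 14, 245993) .leaf) (141392, 0, 15, 184331) (.node .leaf (141395, 0, 15, 221527) .leaf)) (141396, 0, 18, 44822) (.node (.node .leaf (141399, 0, 14, 73290) .leaf) (141401, 0, 17, 25529)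 (.node .leaf (141402, 0, 7, 119525) .leaf))) (141405, 0, 16, 138404) (.node (.node (.node .leaf (141406, 0, 15, 241144) .leaf) (141409, 0, 17, 230105) (.node .leaf (141410, 0, 16, 144261) .leaf)) (141413, 0, 15, 220871) (.node (.node .leaf (141414, 0, 16, 192132) .leaf) (141416, 0, 14, 78187) (.node .leaf (141419, 0, 14, 4697) .leaf))))))

/-- part of the orbit tree -/
def itp4_160 : Tree := (.node (.node (.node (.node (.node (.node .leaf (141423, 0, 15, 196394) .leaf) (141425, 0, 15, 128047) (.node .leaf (141426, 0, 18, 17779) .leaf)) (141429, 0, 16, 75410) (.node (.node .leaf (141430, 0, 16, 146030) .leaf) (141432, 0, 18, 252495) (.node .leaf (141435, 0, 12, 158220) .leaf))) (141436, 0, 16, 80000) (.node (.node (.node .leaf (141439, 0, 15, 35292) .leaf) (141440, 0, 17, 94715) (.node .leaf (141443, 0, 16, 49592) .leaf)) (141444, 0, 13, 84184) (.node (.node .leaf (141447, 0, 14, 63643) .leaf) (141449, 0, 16, 242693) (.node .leaf (141450, 0, 17, 132166) .leaf)))) (141453, 0, 17, 232742) (.node (.node (.node (.node .leaf (141454,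 0, 16, 144365) .leaf) (141456, 0, 17, 199086) (.node .leaf (141459, 0, 13, 178669) .leaf)) (141460, 0, 16, 209037) (.node (.node .leaf (141463, 0, 13, 164046) .leaf) (141465, 0, 17, 117840) (.node .leaf (141466, 0, 14, 31763) .leaf))) (141469, 0, 15, 128071) (.node (.node (.node .leaf (141470, 0, 15, 17712) .leaf) (141473, 0, 17, 27194) (.node .leaf (141474, 0, 17, 121702) .leaf)) (141477, 0, 17, 172875) (.node (.node .leaf (141478, 0, 14, 238715) .leaf) (141480, 0, 16, 24470) (.node .leaf (141483, 0, 16, 126933) .leaf))))) (141484, 0, 16, 42645) (.node (.node (.node (.node (.node .leaf (141487, 0, 19, 71625) .leaf) (141489, 0, 16, 57917) (.node .leaf (141490, 0, 17, 86654) .leaf)) (141493, 0, 13, 56094) (.node (.node .leaf (141494, 0, 17, 93021) .leaf) (141496, 0, 16, 141251) (.node .leaf (141499, 0, 15, 235392) .leaf))) (141500, 0, 16, 138976) (.node (.node (.node .leaf (141503, 0, 15, 221503) .leaf) (141505, 0, 14, 195355) (.node .leaf (141506, 0, 18, 65254) .leaf)) (141509, 0, 18, 180792) (.node (.node .leaf (141510, 0,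 14, 225915) .leaf) (141512, 0, 15, 261128) (.node .leaf (141515, 0, 16, 150868) .leaf)))) (141516, 0, 17, 99093) (.node (.node (.node (.node .leaf (141519, 0, 16, 12873) .leaf) (141521, 0, 16, 211276) (.node .leaf (141522, 0, 14, 78605) .leaf)) (141525, 0, 14, 47725) (.node (.node .leaf (141526, 0, 10, 68142) .leaf) (141528, 0, 16, 101118) (.node .leaf (141531, 0, 18, 15266) .leaf))) (141532, 0, 14, 163731) (.node (.node (.node .leaf (141535, 0, 16, 148671) .leaf) (141536, 0, 17, 69768) (.node .leaf (141539, 0, 17, 252610) .leaf)) (141540, 0, 14, 76203) (.node (.node .leaf (141543, 0, 13, 39400) .leaf) (141545, 0, 15, 251254) (.node .leaf (141546, 0, 18, 92528) .leaf))))))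

/-- part of the orbit tree -/
def itp4_161 : Tree := (.node itp4_157 (141166, 0, 18, 8620) itp4_158)

/-- part of the orbit tree -/
def itp4_162 : Tree := (.node itp4_159 (141420, 0, 17, 105273) itp4_160)

/-- part of the orbit tree -/
def itp4_163 : Tree := (.node (.node (.node (.node (.node (.node .leaf (141550, 0, 16, 202349) .leaf) (141552, 0, 18, 223453) (.node .leaf (141555, 0, 14, 186526) .leaf)) (141556, 0, 14, 217598) (.node (.node .leaf (141559, 0, 17, 188861) .leaf) (141561, 0, 18, 175834) (.node .leaf (141562, 0, 18, 204678) .leaf))) (141565, 0, 19, 103424) (.node (.node (.node .leaf (141566, 0, 15, 9283) .leaf) (141569, 0, 15, 147642) (.node .leaf (141570, 0, 17, 70816) .leaf)) (141573, 0, 12, 16295) (.node (.node .leaf (141574, 0, 12, 77187) .leaf) (141576, 0, 15, 62216) (.node .leaf (141579, 0, 16, 250206) .leaf)))) (141580, 0, 14, 166933) (.node (.node (.node (.node .leaf (141583, 0, 17, 256125) .leaf) (141585, 0, 16, 13900) (.node .leaf (141586, 0, 17, 100112) .leaf)) (141589, 0, 16, 189845) (.node (.node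 .leaf (141590, 0, 17, 218582) .leaf) (141592, 0, 17, 165374) (.node .leaf (141595, 0, 15, 108811) .leaf))) (141596, 0, 15, 64227) (.node (.node (.node .leaf (141599, 0, 14, 84927) .leaf) (141600, 0, 13, 91294) (.node .leaf (141603, 0, 16, 54722) .leaf)) (141604, 0, 17, 226899) (.node (.node .leaf (141607, 0, 15, 174815) .leaf) (141609, 0, 18, 251692) (.node .leaf (141610, 0, 14, 157296) .leaf))))) (141613, 0, 17, 111533) (.node (.node (.node (.node (.node .leaf (141614, 0, 12, 1006) .leaf) (141616, 0, 16, 201320) (.node .leaf (141619, 0, 17, 172852) .leaf)) (141620, 0, 13, 93557) (.node (.node .leaf (141623, 0, 13, 56361) .leaf) (141625, 0, 18, 258779) (.node .leaf (141626, 0, 16, 148120) .leaf))) (141629, 0, 15, 253639) (.node (.node (.node .leaf (141630, 0, 16, 162747) .leaf) (141632, 0, 12, 208387) (.node .leaf (141635, 0, 14, 127042) .leaf)) (141636, 0, 16, 146947) (.node (.node .leaf (141639, 0, 14, 173923) .leaf) (141641, 0, 16, 125949) (.node .leaf (141642, 0, 13, 214000) .leaf)))) (141645, 0, 17, 119518) (.node (.node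 (.node (.node .leaf (141646, 0, 14, 81133) .leaf) (141648, 0, 18, 145384) (.node .leaf (141651, 0, 18, 58901) .leaf)) (141652, 0, 13, 94069) (.node (.node .leaf (141655, 0, 15, 57142) .leaf) (141657, 0, 15, 33882) (.node .leaf (141658, 0, 16, 140267) .leaf))) (141661, 0, 13, 240267) (.node (.node (.node .leaf (141662, 0, 16, 215579) .leaf) (141665, 0, 17, 222522) (.node .leaf (141666, 0, 17, 95699) .leaf)) (141669, 0, 16, 72231) (.node (.node .leaf (141670, 0, 17, 85232) .leaf) (141672, 0, 15, 120456) (.node .leaf (141675, 0, 18, 241709) .leaf))))))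

/-- part of the orbit tree -/
def itp4_164 : Tree := (.node (.node (.node (.node (.node (.node .leaf (141679, 0, 17, 231694) .leaf) (141681, 0, 16, 179653) (.node .leaf (141682, 0, 14, 41616) .leaf)) (141685, 0, 16, 224465) (.node (.node .leaf (141686, 0, 15, 210085) .leaf) (141688, 0, 17, 237694) (.node .leaf (141691, 0, 14, 116856) .leaf))) (141692, 0, 17, 16664) (.node (.node (.node .leaf (141695, 0, 17, 28223) .leaf) (141696, 0, 13, 240125) (.node .leaf (141699, 0, 15, 222156) .leaf)) (141700, 0, 18, 191148) (.node (.node .leaf (141703, 0, 14, 219887) .leaf) (141705, 0, 15, 5745) (.node .leaf (141706, 0, 17, 108082) .leaf)))) (141709, 0, 9, 222546) (.node (.node (.node (.node .leaf (141710, 0, 13, 185358) .leaf) (141712, 0, 18, 43994) (.node .leaf (141715, 0, 17, 28247) .leaf)) (141716, 0, 16, 237590) (.node (.node .leaf (141719, 0, 16, 74426) .leaf) (141721, 0, 15, 159268) (.node .leaf (141722, 0, 16, 187877) .leaf))) (141725, 0, 16, 70564) (.node (.node (.node .leaf (141726, 0, 16, 41720) .leaf) (141729, 0, 16, 36313)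 (.node .leaf (141730, 0, 16, 81029) .leaf)) (141733, 0, 16, 65855) (.node (.node .leaf (141734, 0, 17, 45436) .leaf) (141736, 0, 10, 147051) (.node .leaf (141739, 0, 15, 233271) .leaf))))) (141740, 0, 13, 16758) (.node (.node (.node (.node (.node .leaf (141743, 0, 15, 127018) .leaf) (141745, 0, 12, 213065) (.node .leaf (141746, 0, 14, 192522) .leaf)) (141749, 0, 15, 227690) (.node (.node .leaf (141750, 0, 12, 182569) .leaf) (141752, 0, 12, 99767) (.node .leaf (141755, 0, 15, 129473) .leaf))) (141756, 0, 16, 145280) (.node (.node (.node .leaf (141759, 0, 17, 3287) .leaf) (141761, 0, 17, 88431) (.node .leaf (141762, 0, 13, 59692) .leaf)) (141765, 0, 17, 90188) (.node (.node .leaf (141766, 0, 19, 53263) .leaf) (141768, 0, 17, 203755) (.node .leaf (141771, 0, 15, 142546) .leaf)))) (141772, 0, 17, 91382) (.node (.node (.node (.node .leaf (141775, 0, 17, 136689) .leaf) (141777, 0, 16, 205114) (.node .leaf (141778, 0, 17, 168313) .leaf)) (141781, 0, 15, 106930) (.node (.node .leaf (141782, 0, 13, 174170) .leaf) (141784, 0, 16, 93469)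 (.node .leaf (141787, 0, 16, 56385) .leaf))) (141788, 0, 18, 201216) (.node (.node (.node .leaf (141791, 0, 16, 172892) .leaf) (141792, 0, 17, 167037) (.node .leaf (141795, 0, 18, 212257) .leaf)) (141796, 0, 15, 166879) (.node (.node .leaf (141799, 0, 14, 211868) .leaf) (141801, 0, 18, 16335) (.node .leaf (141802, 0, 15, 116545) .leaf))))))

/-- part of the orbit tree -/
def itp4_165 : Tree := (.node (.node (.node (.node (.node (.node .leaf (141806, 0, 18, 258446) .leaf) (141808, 0, 16, 64139) (.node .leaf (141811, 0, 14, 84951) .leaf)) (141812, 0, 15, 165270) (.node (.node .leaf (141815, 0, 17, 210122) .leaf) (141817, 0, 18, 149817) (.node .leaf (141818, 0, 17, 260197) .leaf))) (141821, 0, 17, 13860) (.node (.node (.node .leaf (141822, 0, 18, 230967) .leaf) (141824, 0, 11, 248449) (.node .leaf (141825, 0, 16, 172661) .leaf)) (141828, 0, 17, 164934) (.node (.node .leaf (141829, 0, 14, 56680) .leaf) (141834, 0, 17, 260533) (.node .leaf (141835, 0, 13, 106651) .leaf)))) (141838, 0, 15, 34335) (.node (.node (.node (.node .leaf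 (141839, 0, 17, 253830) .leaf) (141840, 0, 15, 111316) (.node .leaf (141841, 0, 17, 86706) .leaf)) (141844, 0, 16, 62128) (.node (.node .leaf (141845, 0, 16, 93073) .leaf) (141850, 0, 17, 182121) (.node .leaf (141851, 0, 15, 141071) .leaf))) (141854, 0, 15, 258142) (.node (.node (.node .leaf (141855, 0, 15, 138796) .leaf) (141858, 0, 17, 102737) (.node .leaf (141859, 0, 15, 14093) .leaf)) (141862, 0, 14, 108658) (.node (.node .leaf (141863, 0, 16, 149520) .leaf) (141864, 0, 14, 189676) (.node .leaf (141865, 0, 14, 210403) .leaf))))) (141868, 0, 12, 201680) (.node (.node (.node (.node (.node .leaf (141869, 0, 17, 84734) .leaf) (141874, 0, 17, 6357) (.node .leaf (141875, 0, 15, 147963) .leaf)) (141878, 0, 17, 157640) (.node (.node .leaf (141879, 0, 12, 16102) .leaf) (141880, 0, 17, 40121) (.node .leaf (141881, 0, 16, 82709) .leaf))) (141884, 0, 15, 42394) (.node (.node (.node .leaf (141885, 0, 15, 17916) .leaf) (141890, 0, 17, 127010) (.node .leaf (141891, 0, 17, 70285) .leaf)) (141894, 0, 15, 116993) (.node (.node .leaf (141895,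 0, 16, 76135) .leaf) (141896, 0, 16, 165279) (.node .leaf (141897, 0, 13, 135267) .leaf)))) (141900, 0, 15, 144976) (.node (.node (.node (.node .leaf (141901, 0, 16, 154842) .leaf) (141906, 0, 18, 231543) (.node .leaf (141907, 0, 15, 222331) .leaf)) (141910, 0, 16, 213576) (.node (.node .leaf (141911, 0, 17, 217394) .leaf) (141912, 0, 14, 147387) (.node .leaf (141913, 0, 16, 7596) .leaf))) (141916, 0, 17, 16550) (.node (.node (.node .leaf (141917, 0, 16, 137608) .leaf) (141920, 0, 17, 240626) (.node .leaf (141921, 0, 18, 215956) .leaf)) (141924, 0, 16, 238022) (.node (.node .leaf (141925, 0, 14, 129256) .leaf) (141930, 0, 17, 56911) (.node .leaf (141931, 0, 15, 15913) .leaf))))))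

/-- part of the orbit tree -/
def itp4_166 : Tree := (.node (.node (.node (.node (.node (.node .leaf (141935, 0, 17, 195078) .leaf) (141936, 0, 17, 119719) (.node .leaf (141937, 0, 17, 78785) .leaf)) (141940, 0, 16, 125572) (.node (.node .leaf (141941, 0, 17, 68322) .leaf) (141946, 0, 14, 173594) (.node .leaf (141947, 0, 17, 149116) .leaf))) (141950, 0, 16, 185822) (.node (.node (.node .leaf (141951, 0, 14, 163679) .leaf) (141954, 0, 15, 3502) (.node .leaf (141955, 0, 17, 60872) .leaf)) (141958, 0, 16, 187485) (.node (.node .leaf (141959, 0, 17, 34163) .leaf) (141960, 0, 15, 237998) (.node .leaf (141961, 0, 17, 129152) .leaf)))) (141964, 0, 14, 122547) (.node (.node (.node (.node .leaf (141965, 0, 17, 237910) .leaf) (141970, 0, 17, 161275) (.node .leaf (141971, 0, 18, 35992) .leaf)) (141974, 0, 16, 150744) (.node (.node .leaf (141975, 0, 15, 193413) .leaf) (141976, 0, 13, 65606) (.node .leaf (141977, 0, 15, 122912) .leaf))) (141980, 0, 16, 80229) (.node (.node (.node .leaf (141981, 0, 15, 127339) .leaf) (141984, 0, 16, 144952)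 (.node .leaf (141985, 0, 13, 28438) .leaf)) (141988, 0, 16, 159581) (.node (.node .leaf (141989, 0, 14, 167739) .leaf) (141994, 0, 16, 74691) (.node .leaf (141995, 0, 15, 115621) .leaf))))) (141998, 0, 15, 216011) (.node (.node (.node (.node (.node .leaf (141999, 0, 18, 129670) .leaf) (142000, 0, 14, 16590) (.node .leaf (142001, 0, 17, 137696) .leaf)) (142004, 0, 15, 147411) (.node (.node .leaf (142005, 0, 16, 26365) .leaf) (142010, 0, 15, 220054) (.node .leaf (142011, 0, 18, 72462) .leaf))) (142014, 0, 15, 221877) (.node (.node (.node .leaf (142015, 0, 16, 230099) .leaf) (142016, 0, 18, 145165) (.node .leaf (142017, 0, 19, 186219) .leaf)) (142020, 0, 17, 134702) (.node (.node .leaf (142021, 0, 14, 210315) .leaf) (142026, 0, 16, 4438) (.node .leaf (142027, 0, 17, 107222) .leaf)))) (142030, 0, 18, 97171) (.node (.node (.node (.node .leaf (142031, 0, 17, 14181) .leaf) (142032, 0, 16, 20312) (.node .leaf (142033, 0, 17, 212064) .leaf)) (142036, 0, 17, 203347) (.node (.node .leaf (142037, 0, 19, 82813) .leaf) (142042, 0, 17, 211685)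 (.node .leaf (142043, 0, 12, 252547) .leaf))) (142046, 0, 17, 197574) (.node (.node (.node .leaf (142047, 0, 15, 254880) .leaf) (142050, 0, 17, 27869) (.node .leaf (142051, 0, 18, 36027) .leaf)) (142054, 0, 13, 22014) (.node (.node .leaf (142055, 0, 14, 46488) .leaf) (142056, 0, 16, 164910) .leaf)))))

/-- part of the orbit tree -/
def itp4_167 : Tree := (.node itp4_163 (141676, 0, 10, 145741) itp4_164)

/-- part of the orbit tree -/
def itp4_168 : Tree := (.node itp4_165 (141934, 0, 14, 59244) itp4_166)

/-- part of the orbit tree -/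
def itp4_169 : Tree := (.node itp4_161 (141290, 0, 17, 181108) itp4_162)

/-- part of the orbit tree -/
def itp4_170 : Tree := (.node itp4_167 (141805, 0, 14, 147666) itp4_168)

/-- part of the orbit tree -/
def itp4_171 : Tree := (.node (.node (.node (.node (.node (.node .leaf (142060, 0, 17, 204867) .leaf) (142061, 0, 16, 172573) (.node .leaf (142066, 0, 17, 136328) .leaf)) (142067, 0, 13, 193774) (.node (.node .leaf (142070, 0, 15, 102187) .leaf) (142071, 0, 17, 251397) (.node .leaf (142072, 0, 15, 90421) .leaf))) (142073, 0, 17, 175094) (.node (.node (.node .leaf (142076, 0, 16, 88086) .leaf) (142077, 0, 14, 112752) (.node .leaf (142080, 0, 13, 7352) .leaf)) (142081, 0, 15, 34963) (.node (.node .leaf (142084, 0, 17, 156581) .leaf) (142085, 0, 14, 14987) (.node .leaf (142090, 0, 16, 204374) .leaf)))) (142091, 0, 16, 261422) (.node (.node (.node (.node .leaf (142094, 0, 16, 205931) .leaf) (142095, 0, 15, 246797) (.node .leaf (142096, 0, 16, 158286) .leaf)) (142097, 0, 15, 192710) (.node (.node .leaf (142100, 0, 16, 141699)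 .leaf) (142101, 0, 17, 150653) (.node .leaf (142106, 0, 15, 92320) .leaf))) (142107, 0, 13, 209294) (.node (.node (.node .leaf (142110, 0, 15, 202685) .leaf) (142111, 0, 18, 113752) (.node .leaf (142114, 0, 17, 166336) .leaf)) (142115, 0, 17, 185155) (.node (.node .leaf (142118, 0, 18, 63197) .leaf) (142119, 0, 16, 176115) (.node .leaf (142120, 0, 14, 83608) .leaf))))) (142121, 0, 18, 108286) (.node (.node (.node (.node (.node .leaf (142124, 0, 17, 259123) .leaf) (142125, 0, 16, 109853) (.node .leaf (142130, 0, 16, 65334) .leaf)) (142131, 0, 16, 173592) (.node (.node .leaf (142134, 0, 17, 163883) .leaf) (142135, 0, 10, 55557) (.node .leaf (142136, 0, 13, 261592) .leaf))) (142137, 0, 17, 253611) (.node (.node (.node .leaf (142140, 0, 17, 198638) .leaf) (142141, 0, 15, 255880) (.node .leaf (142146, 0, 17, 152150) .leaf)) (142147, 0, 17, 128366) (.node (.node .leaf (142150, 0, 14, 119645) .leaf) (142151, 0, 17, 166675) (.node .leaf (142152, 0, 17, 44718) .leaf)))) (142153, 0, 15, 116621) (.node (.node (.node (.node .leaf (142156,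 0, 16, 184755) .leaf) (142157, 0, 16, 34973) (.node .leaf (142162, 0, 12, 121526) .leaf)) (142163, 0, 14, 230296) (.node (.node .leaf (142166, 0, 18, 239019) .leaf) (142167, 0, 16, 62278) (.node .leaf (142168, 0, 12, 186456) .leaf))) (142169, 0, 16, 33142) (.node (.node (.node .leaf (142172, 0, 14, 42821) .leaf) (142173, 0, 16, 196203) (.node .leaf (142176, 0, 18, 2438) .leaf)) (142177, 0, 16, 59872) (.node (.node .leaf (142180, 0, 15, 12453) .leaf) (142181, 0, 12, 73483) (.node .leaf (142186, 0, 17, 228411) .leaf))))))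

/-- part of the orbit tree -/
def itp4_172 : Tree := (.node (.node (.node (.node (.node (.node .leaf (142190, 0, 15, 214296) .leaf) (142191, 0, 16, 238974) (.node .leaf (142192, 0, 13, 160211) .leaf)) (142193, 0, 18, 71392) (.node (.node .leaf (142196, 0, 15, 78035) .leaf) (142197, 0, 17, 174230) (.node .leaf (142202, 0, 15, 19744) .leaf))) (142203, 0, 17, 136206) (.node (.node (.node .leaf (142206, 0, 13, 143933) .leaf) (142207, 0, 15, 122155) (.node .leaf (142210, 0, 13, 241626) .leaf)) (142211, 0, 17, 217020) (.node (.node .leaf (142214, 0, 18, 235257) .leaf) (142215, 0, 14, 226975) (.node .leaf (142216, 0, 16, 55911) .leaf)))) (142217, 0, 17, 14849) (.node (.node (.node (.node .leaf (142220, 0, 16, 58180) .leaf) (142221, 0, 12, 802) (.node .leaf (142226, 0, 16, 143957) .leaf)) (142227, 0, 16, 27515) (.node (.node .leaf (142230, 0, 17, 19784) .leaf) (142231, 0, 15, 69322) (.node .leaf (142232, 0, 18, 78011) .leaf))) (142233, 0, 15, 148052) (.node (.node (.node .leaf (142236, 0, 17, 170769) .leaf) (142237, 0, 18, 162679)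 (.node .leaf (142240, 0, 14, 128010) .leaf)) (142241, 0, 13, 70764) (.node (.node .leaf (142244, 0, 15, 118057) .leaf) (142245, 0, 14, 194536) (.node .leaf (142250, 0, 15, 119605) .leaf))))) (142251, 0, 16, 156113) (.node (.node (.node (.node (.node .leaf (142254, 0, 16, 178324) .leaf) (142255, 0, 15, 153842) (.node .leaf (142256, 0, 16, 232543) .leaf)) (142257, 0, 17, 196099) (.node (.node .leaf (142260, 0, 17, 243068) .leaf) (142261, 0, 14, 218394) (.node .leaf (142266, 0, 18, 63970) .leaf))) (142267, 0, 14, 130285) (.node (.node (.node .leaf (142270, 0, 17, 49345) .leaf) (142271, 0, 17, 8359) (.node .leaf (142272, 0, 15, 103801) .leaf)) (142273, 0, 18, 109941) (.node (.node .leaf (142276, 0, 18, 109658) .leaf) (142277, 0, 17, 85052) (.node .leaf (142282, 0, 18, 63157) .leaf)))) (142283, 0, 15, 131234) (.node (.node (.node (.node .leaf (142286, 0, 14, 166312) .leaf) (142287, 0, 18, 145793) (.node .leaf (142288, 0, 15, 257324) .leaf)) (142289, 0, 14, 252803) (.node (.node .leaf (142292, 0, 11, 261552) .leaf) (142293, 0, 14,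 210025) (.node .leaf (142298, 0, 16, 163907) .leaf))) (142299, 0, 17, 30967) (.node (.node (.node .leaf (142302, 0, 18, 41394) .leaf) (142303, 0, 14, 16852) (.node .leaf (142306, 0, 15, 249513) .leaf)) (142307, 0, 17, 210957) (.node (.node .leaf (142310, 0, 16, 204350) .leaf) (142311, 0, 15, 202732) (.node .leaf (142312, 0, 18, 156621) .leaf))))))

/-- part of the orbit tree -/
def itp4_173 : Tree := (.node (.node (.node (.node (.node (.node .leaf (142316, 0, 18, 7376) .leaf) (142317, 0, 19, 25169) (.node .leaf (142322, 0, 16, 202709) .leaf)) (142323, 0, 16, 87706) (.node (.node .leaf (142326, 0, 17, 102367) .leaf) (142327, 0, 18, 209382) (.node .leaf (142328, 0, 13, 5435) .leaf))) (142329, 0, 19, 140071) (.node (.node (.node .leaf (142332, 0, 16, 158246) .leaf) (142333, 0, 15, 13064) (.node .leaf (142336, 0, 17, 195673) .leaf)) (142338, 0, 17, 240764) (.node (.node .leaf (142340, 0, 15, 101534) .leaf) (142342, 0, 16, 234847) (.node .leaf (142345, 0, 16, 14759) .leaf)))) (142347, 0, 17, 174147) (.node (.node (.node (.node .leaf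 (142349, 0, 19, 212780) .leaf) (142351, 0, 17, 55134) (.node .leaf (142352, 0, 17, 33804) .leaf)) (142354, 0, 12, 158983) (.node (.node .leaf (142356, 0, 13, 260712) .leaf) (142358, 0, 17, 126218) (.node .leaf (142361, 0, 18, 147954) .leaf))) (142363, 0, 16, 201175) (.node (.node (.node .leaf (142365, 0, 16, 84442) .leaf) (142367, 0, 18, 207092) (.node .leaf (142369, 0, 15, 71626) .leaf)) (142371, 0, 13, 18415) (.node (.node .leaf (142373, 0, 15, 77545) .leaf) (142375, 0, 15, 82120) (.node .leaf (142376, 0, 16, 250420) .leaf))))) (142378, 0, 18, 164369) (.node (.node (.node (.node (.node .leaf (142380, 0, 15, 256791) .leaf) (142382, 0, 13, 178994) (.node .leaf (142385, 0, 16, 225183) .leaf)) (142387, 0, 16, 84259) (.node (.node .leaf (142389, 0, 17, 56908) .leaf) (142391, 0, 13, 210494) (.node .leaf (142392, 0, 17, 109153) .leaf))) (142394, 0, 17, 260753) (.node (.node (.node .leaf (142396, 0, 16, 159230) .leaf) (142398, 0, 18, 99724) (.node .leaf (142401, 0, 14, 127527) .leaf)) (142403, 0, 13, 9884) (.node (.node .leaf (142405,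 0, 16, 232762) .leaf) (142407, 0, 16, 25928) (.node .leaf (142408, 0, 13, 242503) .leaf)))) (142410, 0, 13, 189282) (.node (.node (.node (.node .leaf (142412, 0, 17, 232036) .leaf) (142414, 0, 16, 186945) (.node .leaf (142417, 0, 13, 200428) .leaf)) (142419, 0, 13, 155337) (.node (.node .leaf (142421, 0, 18, 210895) .leaf) (142423, 0, 16, 157674) (.node .leaf (142424, 0, 16, 117522) .leaf))) (142426, 0, 14, 188177) (.node (.node (.node .leaf (142428, 0, 19, 127537) .leaf) (142430, 0, 12, 41492) (.node .leaf (142432, 0, 11, 185859) .leaf)) (142434, 0, 12, 249103) (.node (.node .leaf (142436, 0, 16, 173065) .leaf) (142438, 0, 18, 213356) (.node .leaf (142441, 0, 17, 22740) .leaf))))))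

/-- part of the orbit tree -/
def itp4_174 : Tree := (.node (.node (.node (.node (.node (.node .leaf (142445, 0, 17, 25079) .leaf) (142447, 0, 15, 78290) (.node .leaf (142448, 0, 16, 41205) .leaf)) (142450, 0, 14, 111962) (.node (.node .leaf (142452, 0, 15, 188392) .leaf) (142454, 0, 16, 79770) (.node .leaf (142457, 0, 15, 139393) .leaf))) (142459, 0, 15, 129845) (.node (.node (.node .leaf (142461, 0, 16, 137634) .leaf) (142463, 0, 16, 215431) (.node .leaf (142465, 0, 18, 35637) .leaf)) (142467, 0, 16, 127670) (.node (.node .leaf (142469, 0, 17, 45590) .leaf) (142471, 0, 18, 123443) (.node .leaf (142472, 0, 14, 43382) .leaf)))) (142474, 0, 14, 213252) (.node (.node (.node (.node .leaf (142476, 0, 12, 161768) .leaf) (142478, 0, 18, 81433) (.node .leaf (142481, 0, 17, 193376) .leaf)) (142483, 0, 17, 238405) (.node (.node .leaf (142485, 0, 16, 182851) .leaf) (142487, 0, 16, 129885) (.node .leaf (142488, 0, 13, 13982) .leaf))) (142490, 0, 16, 91835) (.node (.node (.node .leaf (142492, 0, 15, 41117) .leaf) (142494, 0, 16, 215279)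 (.node .leaf (142496, 0, 18, 81632) .leaf)) (142498, 0, 15, 186002) (.node (.node .leaf (142500, 0, 15, 219525) .leaf) (142502, 0, 8, 133536) (.node .leaf (142505, 0, 14, 232786) .leaf))))) (142507, 0, 17, 25888) (.node (.node (.node (.node (.node .leaf (142509, 0, 18, 105595) .leaf) (142511, 0, 14, 137789) (.node .leaf (142512, 0, 16, 71923) .leaf)) (142514, 0, 13, 18646) (.node (.node .leaf (142516, 0, 15, 79627) .leaf) (142518, 0, 18, 29173) (.node .leaf (142521, 0, 17, 253197) .leaf))) (142523, 0, 19, 167208) (.node (.node (.node .leaf (142525, 0, 16, 255022) .leaf) (142527, 0, 15, 27851) (.node .leaf (142528, 0, 13, 197077) .leaf)) (142530, 0, 16, 152048) (.node (.node .leaf (142532, 0, 17, 211190) .leaf) (142534, 0, 15, 101391) (.node .leaf (142537, 0, 17, 115755) .leaf)))) (142539, 0, 16, 82080) (.node (.node (.node (.node .leaf (142541, 0, 17, 130312) .leaf) (142543, 0, 17, 212925) (.node .leaf (142544, 0, 16, 96640) .leaf)) (142546, 0, 14, 99812) (.node (.node .leaf (142548, 0, 17, 82083) .leaf) (142550, 0, 15, 260857)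 (.node .leaf (142553, 0, 15, 244862) .leaf))) (142555, 0, 17, 210518) (.node (.node (.node .leaf (142557, 0, 16, 172345) .leaf) (142559, 0, 17, 185720) (.node .leaf (142561, 0, 12, 212804) .leaf)) (142563, 0, 16, 55094) (.node (.node .leaf (142565, 0, 15, 54117) .leaf) (142567, 0, 16, 174123) (.node .leaf (142568, 0, 17, 143288) .leaf))))))

/-- part of the orbit tree -/
def itp4_175 : Tree := (.node itp4_171 (142187, 0, 17, 236637) itp4_172)

/-- part of the orbit tree -/
def itp4_176 : Tree := (.node itp4_173 (142443, 0, 16, 67825) itp4_174)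

/-- part of the orbit tree -/
def itp4_177 : Tree := (.node (.node (.node (.node (.node (.node .leaf (142572, 0, 16, 136859) .leaf) (142574, 0, 16, 214718) (.node .leaf (142577, 0, 15, 168467) .leaf)) (142579, 0, 16, 246326) (.node (.node .leaf (142581, 0, 16, 210607) .leaf) (142583, 0, 18, 260885) (.node .leaf (142584, 0, 15, 260608) .leaf))) (142586, 0, 18, 67528) (.node (.node (.node .leaf (142588, 0, 16, 99613) .leaf) (142590, 0, 18, 159087) (.node .leaf (142592, 0, 17, 201824) .leaf)) (142594, 0, 10, 3592) (.node (.node .leaf (142596, 0, 14, 91918) .leaf) (142598, 0, 16, 164623) (.node .leaf (142601, 0, 16, 236499) .leaf)))) (142603, 0, 16, 151456) (.node (.node (.node (.node .leaf (142605, 0, 17, 238320) .leaf) (142607, 0, 16, 193237) (.node .leaf (142608, 0, 17, 90774) .leaf)) (142610, 0, 17, 161373) (.node (.node .leaf (142612, 0, 16, 204635) .leaf) (142614, 0, 12, 62969) (.node .leaf (142617, 0, 15, 250148) .leaf))) (142619, 0, 17, 14678) (.node (.node (.node .leaf (142621, 0, 17, 110137) .leaf) (142623, 0, 17, 149067)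 (.node .leaf (142625, 0, 16, 177598) .leaf)) (142627, 0, 13, 251958) (.node (.node .leaf (142629, 0, 16, 167069) .leaf) (142631, 0, 17, 108331) (.node .leaf (142632, 0, 17, 28736) .leaf))))) (142634, 0, 18, 93060) (.node (.node (.node (.node (.node .leaf (142636, 0, 16, 64747) .leaf) (142638, 0, 16, 201881) (.node .leaf (142641, 0, 13, 52715) .leaf)) (142643, 0, 15, 110272) (.node (.node .leaf (142645, 0, 17, 14767) .leaf) (142647, 0, 10, 250333) (.node .leaf (142648, 0, 17, 62720) .leaf))) (142650, 0, 18, 204146) (.node (.node (.node .leaf (142652, 0, 18, 143670) .leaf) (142654, 0, 15, 221459) (.node .leaf (142657, 0, 18, 71108) .leaf)) (142659, 0, 11, 230632) (.node (.node .leaf (142661, 0, 18, 223961) .leaf) (142663, 0, 17, 33451) (.node .leaf (142664, 0, 15, 239222) .leaf)))) (142666, 0, 17, 19972) (.node (.node (.node (.node .leaf (142668, 0, 17, 10256) .leaf) (142670, 0, 16, 143641) (.node .leaf (142673, 0, 15, 44184) .leaf)) (142675, 0, 16, 35648) (.node (.node .leaf (142677, 0, 15, 72751) .leaf) (142679, 0, 16, 193629)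 (.node .leaf (142680, 0, 19, 158054) .leaf))) (142682, 0, 17, 145650) (.node (.node (.node .leaf (142684, 0, 17, 241565) .leaf) (142686, 0, 13, 18415) (.node .leaf (142688, 0, 14, 143840) .leaf)) (142690, 0, 16, 28539) (.node (.node .leaf (142692, 0, 18, 67197) .leaf) (142694, 0, 15, 239247) (.node .leaf (142697, 0, 16, 33362) .leaf))))))

/-- part of the orbit tree -/
def itp4_178 : Tree := (.node (.node (.node (.node (.node (.node .leaf (142701, 0, 16, 195919) .leaf) (142703, 0, 18, 168870) (.node .leaf (142704, 0, 16, 214795) .leaf)) (142706, 0, 15, 137006) (.node (.node .leaf (142708, 0, 16, 228904) .leaf) (142710, 0, 19, 142861) (.node .leaf (142713, 0, 16, 193700) .leaf))) (142715, 0, 15, 72918) (.node (.node (.node .leaf (142717, 0, 16, 35769) .leaf) (142719, 0, 17, 60403) (.node .leaf (142721, 0, 15, 207169) .leaf)) (142723, 0, 18, 70997) (.node (.node .leaf (142725, 0, 17, 33338) .leaf) (142727, 0, 16, 223816) (.node .leaf (142728, 0, 18, 126143) .leaf)))) (142730, 0, 10, 239335) (.node (.node (.node (.node .leaf (142732,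 0, 14, 143752) .leaf) (142734, 0, 14, 121338) (.node .leaf (142737, 0, 16, 35793) .leaf)) (142739, 0, 17, 222115) (.node (.node .leaf (142741, 0, 15, 92215) .leaf) (142743, 0, 17, 72894) (.node .leaf (142744, 0, 16, 145507) .leaf))) (142746, 0, 13, 181455) (.node (.node (.node .leaf (142748, 0, 16, 18302) .leaf) (142750, 0, 17, 196076) (.node .leaf (142752, 0, 18, 121091) .leaf)) (142754, 0, 16, 143729) (.node (.node .leaf (142756, 0, 17, 64497) .leaf) (142758, 0, 16, 20076) (.node .leaf (142761, 0, 15, 223921) .leaf))))) (142763, 0, 17, 218889) (.node (.node (.node (.node (.node .leaf (142765, 0, 18, 146959) .leaf) (142767, 0, 14, 196062) (.node .leaf (142768, 0, 16, 178823) .leaf)) (142770, 0, 17, 256674) (.node (.node .leaf (142772, 0, 16, 164772) .leaf) (142774, 0, 15, 250753) (.node .leaf (142777, 0, 16, 32633) .leaf))) (142779, 0, 18, 77660) (.node (.node (.node .leaf (142781, 0, 17, 222042) .leaf) (142783, 0, 14, 35624) (.node .leaf (142784, 0, 15, 41889) .leaf)) (142786, 0, 13, 127876) (.node (.node .leaf (142788, 0,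 15, 39554) .leaf) (142790, 0, 18, 117415) (.node .leaf (142793, 0, 16, 151345) .leaf)))) (142795, 0, 17, 210554) (.node (.node (.node (.node .leaf (142797, 0, 12, 155516) .leaf) (142799, 0, 14, 251998) (.node .leaf (142800, 0, 13, 187380) .leaf)) (142802, 0, 15, 90631) (.node (.node .leaf (142804, 0, 16, 62824) .leaf) (142806, 0, 18, 204058) (.node .leaf (142809, 0, 15, 7690) .leaf))) (142811, 0, 14, 250293) (.node (.node (.node .leaf (142813, 0, 15, 10025) .leaf) (142815, 0, 16, 96012) (.node .leaf (142817, 0, 18, 252071) .leaf)) (142819, 0, 14, 12501) (.node (.node .leaf (142821, 0, 13, 225553) .leaf) (142823, 0, 18, 139572) (.node .leaf (142824, 0, 17, 92949) .leaf))))))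

/-- part of the orbit tree -/
def itp4_179 : Tree := (.node (.node (.node (.node (.node (.node .leaf (142828, 0, 18, 201736) .leaf) (142830, 0, 16, 64634) (.node .leaf (142833, 0, 15, 110161) .leaf)) (142835, 0, 18, 149027) (.node (.node .leaf (142837, 0, 15, 67908) .leaf) (142839, 0, 17, 14654) (.node .leaf (142840, 0, 17, 259481) .leaf))) (142842, 0, 15, 62865) (.node (.node (.node .leaf (142844, 0, 16, 90878) .leaf) (142846, 0, 14, 166540) (.node .leaf (142856, 0, 16, 203827) .leaf)) (142857, 0, 15, 83229) (.node (.node .leaf (142858, 0, 14, 62529) .leaf) (142859, 0, 13, 83442) (.node .leaf (142860, 0, 17, 52370) .leaf)))) (142861, 0, 18, 211456) (.node (.node (.node (.node .leaf (142862, 0, 17, 105655) .leaf) (142863, 0, 18, 97489) (.node .leaf (142872, 0, 18, 92869) .leaf)) (142873, 0, 13, 209899) (.node (.node .leaf (142874, 0, 17, 164535) .leaf) (142875, 0, 16, 212391) (.node .leaf (142876, 0, 14, 202200) .leaf))) (142877, 0, 15, 85238) (.node (.node (.node .leaf (142878, 0, 17, 64938) .leaf) (142879, 0, 15, 197764)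 (.node .leaf (142880, 0, 18, 121820) .leaf)) (142881, 0, 17, 80826) (.node (.node .leaf (142882, 0, 15, 91095) .leaf) (142883, 0, 18, 211705) (.node .leaf (142884, 0, 18, 123647) .leaf))))) (142885, 0, 17, 66201) (.node (.node (.node (.node (.node .leaf (142886, 0, 11, 203978) .leaf) (142887, 0, 10, 83428) (.node .leaf (142896, 0, 16, 64851) .leaf)) (142897, 0, 16, 173181) (.node (.node .leaf (142898, 0, 15, 202017) .leaf) (142899, 0, 10, 85007) (.node .leaf (142900, 0, 14, 236202) .leaf))) (142901, 0, 15, 56160) (.node (.node (.node .leaf (142902, 0, 17, 182927) .leaf) (142903, 0, 15, 142057) (.node .leaf (142912, 0, 17, 113327) .leaf)) (142913, 0, 18, 128779) (.node (.node .leaf (142914, 0, 15, 18007) .leaf) (142915, 0, 19, 139129) (.node .leaf (142916, 0, 17, 119096) .leaf)))) (142917, 0, 17, 91114) (.node (.node (.node (.node .leaf (142918, 0, 14, 145738) .leaf) (142919, 0, 15, 24676) (.node .leaf (142928, 0, 19, 121043) .leaf)) (142929, 0, 17, 205468) (.node (.node .leaf (142930, 0, 16, 168671) .leaf) (142931, 0, 17, 160441)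 (.node .leaf (142932, 0, 19, 239566) .leaf))) (142933, 0, 14, 130784) (.node (.node (.node .leaf (142934, 0, 14, 175100) .leaf) (142935, 0, 15, 136850) (.node .leaf (142952, 0, 13, 38082) .leaf)) (142953, 0, 18, 29860) (.node (.node .leaf (142954, 0, 17, 119233) .leaf) (142955, 0, 16, 74881) (.node .leaf (142956, 0, 16, 44513) .leaf))))))

/-- part of the orbit tree -/
def itp4_180 : Tree := (.node (.node (.node (.node (.node (.node .leaf (142958, 0, 17, 241372) .leaf) (142959, 0, 17, 73122) (.node .leaf (142968, 0, 16, 20293) .leaf)) (142969, 0, 15, 136811) (.node (.node .leaf (142970, 0, 12, 239415) .leaf) (142971, 0, 16, 220372) (.node .leaf (142972, 0, 14, 185780) .leaf))) (142973, 0, 15, 144850) (.node (.node (.node .leaf (142974, 0, 14, 120874) .leaf) (142975, 0, 17, 222711) (.node .leaf (142976, 0, 18, 18211) .leaf)) (142977, 0, 14, 42821) (.node (.node .leaf (142978, 0, 9, 71430) .leaf) (142979, 0, 17, 128922) (.node .leaf (142980, 0, 17, 32256) .leaf)))) (142981, 0, 14, 40550) (.node (.node (.node (.node .leaf (142982,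 0, 16, 77349) .leaf) (142983, 0, 17, 118339) (.node .leaf (142992, 0, 16, 147318) .leaf)) (142993, 0, 18, 26910) (.node (.node .leaf (142994, 0, 14, 225107) .leaf) (142995, 0, 18, 229740) (.node .leaf (142996, 0, 16, 20269) .leaf))) (142997, 0, 13, 136707) (.node (.node (.node .leaf (142998, 0, 15, 218736) .leaf) (142999, 0, 13, 130673) (.node .leaf (143016, 0, 15, 119120) .leaf)) (143017, 0, 15, 100648) (.node (.node .leaf (143018, 0, 17, 14699) .leaf) (143019, 0, 12, 24588) (.node .leaf (143020, 0, 18, 86125) .leaf))))) (143021, 0, 10, 128867) (.node (.node (.node (.node (.node .leaf (143022, 0, 18, 72) .leaf) (143023, 0, 16, 139025) (.node .leaf (143032, 0, 17, 239526) .leaf)) (143033, 0, 15, 130696) (.node (.node .leaf (143034, 0, 17, 20436) .leaf) (143035, 0, 16, 136954) (.node .leaf (143036, 0, 14, 121019) .leaf))) (143037, 0, 16, 247902) (.node (.node (.node .leaf (143038, 0, 13, 143561) .leaf) (143039, 0, 16, 27111) (.node .leaf (143048, 0, 17, 67645) .leaf)) (143049, 0, 14, 175614) (.node (.node .leaf (143050, 0, 17,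 22552) .leaf) (143051, 0, 15, 83340) (.node .leaf (143052, 0, 17, 166861) .leaf)))) (143053, 0, 15, 53987) (.node (.node (.node (.node .leaf (143054, 0, 17, 24891) .leaf) (143055, 0, 16, 33117) (.node .leaf (143064, 0, 17, 164390) .leaf)) (143065, 0, 15, 233486) (.node (.node .leaf (143066, 0, 18, 139341) .leaf) (143067, 0, 17, 209786) (.node .leaf (143068, 0, 16, 64827) .leaf))) (143069, 0, 17, 239917) (.node (.node (.node .leaf (143070, 0, 15, 137582) .leaf) (143071, 0, 19, 85095) (.node .leaf (143072, 0, 16, 9808) .leaf)) (143073, 0, 16, 211560) (.node (.node .leaf (143074, 0, 18, 95861) .leaf) (143075, 0, 18, 103955) .leaf)))))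

/-- part of the orbit tree -/
def itp4_181 : Tree := (.node itp4_177 (142699, 0, 16, 174725) itp4_178)

/-- part of the orbit tree -/
def itp4_182 : Tree := (.node itp4_179 (142957, 0, 17, 19847) itp4_180)

/-- part of the orbit tree -/
def itp4_183 : Tree := (.node itp4_175 (142313, 0, 17, 15075) itp4_176)

/-- part of the orbit tree -/
def itp4_184 : Tree := (.node itp4_181 (142826, 0, 17, 164711) itp4_182)

/-- part of the orbit tree -/
def itp4_185 : Tree := (.node itp4_169 (141549, 0, 15, 257109) itp4_170)

/-- part of the orbit tree -/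
def itp4_186 : Tree := (.node itp4_183 (142570, 0, 14, 229277) itp4_184)

/-- part of the orbit tree -/
def itp4_187 : Tree := (.node itp4_155 (140013, 0, 16, 114233) itp4_156)

/-- part of the orbit tree -/
def itp4_188 : Tree := (.node itp4_185 (142057, 0, 14, 260358) itp4_186)

/-- part of the orbit tree -/
def itp4_189 : Tree := (.node (.node (.node (.node (.node (.node .leaf (143077, 0, 14, 65301) .leaf) (143078, 0, 16, 85846) (.node .leaf (143079, 0, 10, 110384) .leaf)) (143088, 0, 16, 155141) (.node (.node .leaf (143089, 0, 16, 179811) .leaf) (143090, 0, 16, 200224) (.node .leaf (143091, 0, 17, 257606) .leaf))) (143092, 0, 16, 92845) (.node (.node (.node .leaf (143093, 0, 16, 209795) .leaf) (143094, 0, 16, 164575) (.node .leaf (143095, 0, 17, 56305) .leaf)) (143112, 0, 15, 261072) (.node (.node .leaf (143113, 0, 17, 107262) .leaf) (143114, 0, 18, 5026) (.node .leaf (143115, 0, 15, 190342) .leaf)))) (143116, 0, 16, 224998) (.node (.node (.node (.node .leaf (143117, 0, 14, 233088) .leaf) (143118, 0, 13, 158911) (.node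 .leaf (143119, 0, 17, 188069) .leaf)) (143128, 0, 16, 101670) (.node (.node .leaf (143129, 0, 16, 250888) .leaf) (143130, 0, 16, 157012) (.node .leaf (143131, 0, 16, 15482) .leaf))) (143132, 0, 18, 71347) (.node (.node (.node .leaf (143133, 0, 17, 109333) .leaf) (143134, 0, 16, 6729) (.node .leaf (143135, 0, 18, 42736) .leaf)) (143136, 0, 17, 158790) (.node (.node .leaf (143137, 0, 10, 170446) .leaf) (143138, 0, 17, 207245) (.node .leaf (143139, 0, 17, 248299) .leaf))))) (143140, 0, 15, 147595) (.node (.node (.node (.node (.node .leaf (143141, 0, 17, 172269) .leaf) (143142, 0, 16, 200878) (.node .leaf (143143, 0, 14, 258248) .leaf)) (143152, 0, 15, 6832) (.node (.node .leaf (143153, 0, 14, 57755) .leaf) (143154, 0, 14, 258754) (.node .leaf (143155, 0, 15, 109548) .leaf))) (143156, 0, 15, 157101) (.node (.node (.node .leaf (143157, 0, 15, 15491) .leaf) (143158, 0, 16, 92411) (.node .leaf (143159, 0, 16, 251121) .leaf)) (143168, 0, 14, 137435) (.node (.node .leaf (143169, 0, 18, 194749) .leaf) (143170, 0, 16, 215294) (.node .leaf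 (143171, 0, 16, 194714) .leaf)))) (143172, 0, 14, 79579) (.node (.node (.node (.node .leaf (143173, 0, 13, 180638) .leaf) (143174, 0, 17, 225757) (.node .leaf (143175, 0, 14, 34695) .leaf)) (143184, 0, 18, 24718) (.node (.node .leaf (143185, 0, 14, 222750) .leaf) (143186, 0, 16, 186178) (.node .leaf (143187, 0, 13, 118989) .leaf))) (143188, 0, 14, 22957) (.node (.node (.node .leaf (143189, 0, 16, 47563) .leaf) (143190, 0, 15, 67976) (.node .leaf (143191, 0, 15, 192881) .leaf)) (143208, 0, 18, 210614) (.node (.node .leaf (143209, 0, 10, 34686) .leaf) (143210, 0, 17, 157331) (.node .leaf (143211, 0, 16, 225036) .leaf))))))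

/-- part of the orbit tree -/
def itp4_190 : Tree := (.node (.node (.node (.node (.node (.node .leaf (143213, 0, 14, 194659) .leaf) (143214, 0, 16, 155568) (.node .leaf (143215, 0, 13, 69649) .leaf)) (143224, 0, 18, 85731) (.node (.node .leaf (143225, 0, 16, 110213) .leaf) (143226, 0, 15, 7878) (.node .leaf (143227, 0, 16, 65184) .leaf))) (143228, 0, 11, 96192) (.node (.node (.node .leaf (143229, 0, 16, 36501) .leaf) (143230, 0, 15, 81865) (.node .leaf (143231, 0, 17, 222951) .leaf)) (143232, 0, 16, 41253) (.node (.node .leaf (143233, 0, 14, 197937) .leaf) (143234, 0, 17, 215383) (.node .leaf (143235, 0, 14, 152852) .leaf)))) (143236, 0, 15, 253044) (.node (.node (.node (.node .leaf (143237, 0, 17, 34582) .leaf) (143238, 0, 15, 79434) (.node .leaf (143239, 0, 16, 158775) .leaf)) (143248, 0, 16, 186323) (.node (.node .leaf (143249, 0, 14, 97636) .leaf) (143250, 0, 16, 81825) (.node .leaf (143251, 0, 16, 11585) .leaf))) (143252, 0, 16, 43214) (.node (.node (.node .leaf (143253, 0, 19, 83015) .leaf) (143254, 0, 18, 62468) (.node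 .leaf (143255, 0, 17, 72082) .leaf)) (143272, 0, 16, 183098) (.node (.node .leaf (143273, 0, 15, 142172) .leaf) (143274, 0, 17, 188097) (.node .leaf (143275, 0, 18, 228217) .leaf))))) (143276, 0, 16, 193049) (.node (.node (.node (.node (.node .leaf (143277, 0, 16, 135807) .leaf) (143278, 0, 15, 41436) (.node .leaf (143279, 0, 19, 194802) .leaf)) (143288, 0, 16, 45935) (.node (.node .leaf (143289, 0, 15, 72043) .leaf) (143290, 0, 15, 123722) (.node .leaf (143291, 0, 17, 66348) .leaf))) (143292, 0, 15, 81752) (.node (.node (.node .leaf (143293, 0, 12, 222838) .leaf) (143294, 0, 16, 121449) (.node .leaf (143295, 0, 13, 80399) .leaf)) (143304, 0, 10, 174665) (.node (.node .leaf (143305, 0, 18, 150063) .leaf) (143306, 0, 17, 260929) (.node .leaf (143307, 0, 13, 107119) .leaf)))) (143308, 0, 15, 158766) (.node (.node (.node (.node .leaf (143309, 0, 9, 160524) .leaf) (143310, 0, 17, 246607) (.node .leaf (143311, 0, 16, 205609) .leaf)) (143320, 0, 15, 53788) (.node (.node .leaf (143321, 0, 16, 15595) .leaf) (143322, 0, 15, 98873) (.node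 .leaf (143323, 0, 12, 90719) .leaf))) (143324, 0, 16, 6872) (.node (.node (.node .leaf (143325, 0, 15, 148470) .leaf) (143326, 0, 16, 258730) (.node .leaf (143327, 0, 15, 88956) .leaf)) (143328, 0, 17, 230436) (.node (.node .leaf (143329, 0, 18, 222274) .leaf) (143330, 0, 18, 158935) (.node .leaf (143331, 0, 17, 13817) .leaf))))))

/-- part of the orbit tree -/
def itp4_191 : Tree := (.node (.node (.node (.node (.node (.node .leaf (143333, 0, 15, 220513) .leaf) (143334, 0, 13, 5066) (.node .leaf (143335, 0, 15, 134468) .leaf)) (143344, 0, 17, 130161) (.node (.node .leaf (143345, 0, 14, 72727) .leaf) (143346, 0, 17, 6689) (.node .leaf (143347, 0, 15, 19506) .leaf))) (143348, 0, 16, 101710) (.node (.node (.node .leaf (143349, 0, 15, 75060) .leaf) (143350, 0, 15, 156988) (.node .leaf (143351, 0, 15, 29969) .leaf)) (143361, 0, 14, 208915) (.node (.node .leaf (143362, 0, 15, 164175) .leaf) (143364, 0, 16, 46300) (.node .leaf (143367, 0, 17, 66719) .leaf)))) (143369, 0, 17, 252559) (.node (.node (.node (.node .leaf (143370, 0, 18,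 158675) .leaf) (143372, 0, 17, 261308) (.node .leaf (143375, 0, 14, 151008) .leaf)) (143377, 0, 14, 83685) (.node (.node .leaf (143378, 0, 15, 238991) .leaf) (143380, 0, 18, 183433) (.node .leaf (143383, 0, 14, 228554) .leaf))) (143385, 0, 17, 109689) (.node (.node (.node .leaf (143386, 0, 13, 7461) .leaf) (143388, 0, 16, 100938) (.node .leaf (143391, 0, 15, 88402) .leaf)) (143392, 0, 15, 5175) (.node (.node .leaf (143395, 0, 17, 144969) .leaf) (143397, 0, 17, 221007) (.node .leaf (143398, 0, 14, 99160) .leaf))))) (143400, 0, 16, 107410) (.node (.node (.node (.node (.node .leaf (143403, 0, 15, 5073) .leaf) (143405, 0, 17, 96983) (.node .leaf (143406, 0, 18, 92612) .leaf)) (143408, 0, 18, 156353) (.node (.node .leaf (143411, 0, 18, 19996) .leaf) (143413, 0, 16, 75546) (.node .leaf (143414, 0, 17, 259502) .leaf))) (143416, 0, 17, 252871) (.node (.node (.node .leaf (143419, 0, 16, 158596) .leaf) (143421, 0, 15, 175726) (.node .leaf (143422, 0, 15, 176833) .leaf)) (143424, 0, 17, 255865) (.node (.node .leaf (143427, 0, 15, 33003)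 .leaf) (143429, 0, 15, 212540) (.node .leaf (143430, 0, 15, 167551) .leaf)))) (143432, 0, 15, 115425) (.node (.node (.node (.node .leaf (143435, 0, 18, 29346) .leaf) (143437, 0, 16, 130328) (.node .leaf (143438, 0, 14, 19524) .leaf)) (143440, 0, 17, 106284) (.node (.node .leaf (143443, 0, 13, 12143) .leaf) (143445, 0, 16, 221554) (.node .leaf (143446, 0, 16, 63018) .leaf))) (143448, 0, 14, 241117) (.node (.node (.node .leaf (143451, 0, 16, 138369) .leaf) (143453, 0, 16, 222193) (.node .leaf (143454, 0, 13, 146098) .leaf)) (143457, 0, 14, 3306) (.node (.node .leaf (143458, 0, 11, 238799) .leaf) (143460, 0, 15, 54703) (.node .leaf (143463, 0, 16, 91628) .leaf))))))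

/-- part of the orbit tree -/
def itp4_192 : Tree := (.node (.node (.node (.node (.node (.node .leaf (143466, 0, 15, 235825) .leaf) (143468, 0, 14, 186684) (.node .leaf (143471, 0, 15, 213108) .leaf)) (143473, 0, 15, 160959) (.node (.node .leaf (143474, 0, 16, 119353) .leaf) (143476, 0, 14, 17750) (.node .leaf (143479, 0, 14, 128010) .leaf))) (143481, 0, 16, 20775) (.node (.node (.node .leaf (143482, 0, 15, 80037) .leaf) (143484, 0, 16, 45002) (.node .leaf (143487, 0, 14, 73366) .leaf)) (143488, 0, 15, 186708) (.node (.node .leaf (143491, 0, 15, 240310) .leaf) (143493, 0, 16, 196455) (.node .leaf (143494, 0, 16, 226291) .leaf)))) (143496, 0, 17, 16237) (.node (.node (.node (.node .leaf (143499, 0, 19, 102190) .leaf) (143501, 0, 19, 58920) (.node .leaf (143502, 0, 16, 238759) .leaf)) (143504, 0, 17, 25248) (.node (.node .leaf (143507, 0, 16, 73470) .leaf) (143509, 0, 15, 35217) (.node .leaf (143510, 0, 17, 80077) .leaf))) (143512, 0, 18, 17726) (.node (.node (.node .leaf (143515, 0, 14, 128098) .leaf) (143517, 0, 17, 171645)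 (.node .leaf (143518, 0, 18, 208446) .leaf)) (143521, 0, 17, 127334) (.node (.node .leaf (143522, 0, 14, 16677) .leaf) (143524, 0, 13, 121667) (.node .leaf (143527, 0, 18, 39008) .leaf))))) (143529, 0, 17, 71660) (.node (.node (.node (.node (.node .leaf (143530, 0, 11, 42672) .leaf) (143532, 0, 18, 200123) (.node .leaf (143535, 0, 17, 32899) .leaf)) (143537, 0, 13, 232326) (.node (.node .leaf (143538, 0, 16, 145776) .leaf) (143540, 0, 17, 217206) (.node .leaf (143543, 0, 16, 188469) .leaf))) (143545, 0, 16, 221466) (.node (.node (.node .leaf (143546, 0, 17, 7400) .leaf) (143548, 0, 14, 214825) (.node .leaf (143551, 0, 18, 194165) .leaf)) (143553, 0, 14, 102421) (.node (.node .leaf (143554, 0, 16, 92588) .leaf) (143556, 0, 16, 65219) (.node .leaf (143559, 0, 17, 63763) .leaf)))) (143561, 0, 12, 243085) (.node (.node (.node (.node .leaf (143562, 0, 16, 132558) .leaf) (143564, 0, 18, 5215) (.node .leaf (143567, 0, 15, 187531) .leaf)) (143569, 0, 14, 256064) (.node (.node .leaf (143570, 0, 16, 204634) .leaf) (143572, 0, 16, 165941)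 (.node .leaf (143575, 0, 14, 164166) .leaf))) (143577, 0, 17, 118232) (.node (.node (.node .leaf (143578, 0, 15, 259526) .leaf) (143580, 0, 17, 70813) (.node .leaf (143583, 0, 14, 250869) .leaf)) (143584, 0, 17, 162694) (.node (.node .leaf (143587, 0, 15, 150920) .leaf) (143589, 0, 16, 172739) (.node .leaf (143590, 0, 17, 158651) .leaf))))))

/-- part of the orbit tree -/
def itp4_193 : Tree := (.node itp4_189 (143212, 0, 15, 200597) itp4_190)

/-- part of the orbit tree -/
def itp4_194 : Tree := (.node itp4_191 (143465, 0, 15, 141682) itp4_192)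

/-- part of the orbit tree -/
def itp4_195 : Tree := (.node (.node (.node (.node (.node (.node .leaf (143595, 0, 15, 173844) .leaf) (143597, 0, 14, 34651) (.node .leaf (143598, 0, 15, 79640) .leaf)) (143600, 0, 11, 979) (.node (.node .leaf (143603, 0, 17, 111504) .leaf) (143605, 0, 17, 55958) (.node .leaf (143606, 0, 15, 92885) .leaf))) (143608, 0, 15, 90302) (.node (.node (.node .leaf (143611, 0, 17, 53730) .leaf) (143613, 0, 15, 196366) (.node .leaf (143614, 0, 15, 216909) .leaf)) (143617, 0, 16, 249837) (.node (.node .leaf (143618, 0, 17, 157356) .leaf) (143620, 0, 16, 202408) (.node .leaf (143623, 0, 17, 147615) .leaf)))) (143625, 0, 16, 125557) (.node (.node (.node (.node .leaf (143626, 0, 16, 23094) .leaf) (143628, 0, 14, 78640) (.node .leaf (143631, 0, 17, 174595) .leaf)) (143633, 0, 16, 106758) (.node (.node .leaf (143634, 0, 15, 4186) .leaf) (143636, 0, 13, 100149) (.node .leaf (143639, 0, 17, 57022) .leaf))) (143641, 0, 15, 234016) (.node (.node (.node .leaf (143642, 0, 17, 64198) .leaf) (143644, 0, 18, 215909) (.node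 .leaf (143647, 0, 14, 56565) .leaf)) (143648, 0, 15, 62420) (.node (.node .leaf (143651, 0, 16, 103485) .leaf) (143653, 0, 16, 64827) (.node .leaf (143654, 0, 16, 91323) .leaf))))) (143656, 0, 17, 131558) (.node (.node (.node (.node (.node .leaf (143659, 0, 18, 242085) .leaf) (143661, 0, 16, 16251) (.node .leaf (143662, 0, 17, 101927) .leaf)) (143664, 0, 16, 154667) (.node (.node .leaf (143667, 0, 19, 257128) .leaf) (143669, 0, 15, 172817) (.node .leaf (143670, 0, 17, 210221) .leaf))) (143672, 0, 16, 159678) (.node (.node (.node .leaf (143675, 0, 15, 253666) .leaf) (143677, 0, 13, 41206) (.node .leaf (143678, 0, 16, 260305) .leaf)) (143680, 0, 14, 17677) (.node (.node .leaf (143683, 0, 17, 128334) .leaf) (143685, 0, 17, 40008) (.node .leaf (143686, 0, 15, 76811) .leaf)))) (143688, 0, 16, 81096) (.node (.node (.node (.node .leaf (143691, 0, 14, 36244) .leaf) (143693, 0, 15, 72443) (.node .leaf (143694, 0, 16, 199059) .leaf)) (143696, 0, 14, 146776) (.node (.node .leaf (143699, 0, 16, 135678) .leaf) (143701, 0, 14, 189469) (.node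 .leaf (143702, 0, 17, 218206) .leaf))) (143704, 0, 13, 215614) (.node (.node (.node .leaf (143707, 0, 13, 108675) .leaf) (143709, 0, 15, 49541) (.node .leaf (143710, 0, 17, 187729) .leaf)) (143713, 0, 17, 241310) (.node (.node .leaf (143714, 0, 13, 213804) .leaf) (143716, 0, 16, 185411) (.node .leaf (143719, 0, 14, 222495) .leaf))))))

/-- part of the orbit tree -/
def itp4_196 : Tree := (.node (.node (.node (.node (.node (.node .leaf (143722, 0, 15, 240048) .leaf) (143724, 0, 18, 147167) (.node .leaf (143727, 0, 16, 233347) .leaf)) (143729, 0, 15, 120523) (.node (.node .leaf (143730, 0, 17, 26248) .leaf) (143732, 0, 17, 41653) (.node .leaf (143735, 0, 17, 70633) .leaf))) (143737, 0, 15, 258899) (.node (.node (.node .leaf (143738, 0, 16, 122694) .leaf) (143740, 0, 16, 207382) (.node .leaf (143743, 0, 12, 170581) .leaf)) (143744, 0, 16, 147127) (.node (.node .leaf (143747, 0, 15, 2242) .leaf) (143749, 0, 16, 90564) (.node .leaf (143750, 0, 14, 53639) .leaf)))) (143752, 0, 13, 185387) (.node (.node (.node (.node .leaf (143755,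 0, 17, 222583) .leaf) (143757, 0, 15, 193048) (.node .leaf (143758, 0, 17, 213828) .leaf)) (143760, 0, 16, 245972) (.node (.node .leaf (143763, 0, 11, 159895) .leaf) (143765, 0, 16, 203153) (.node .leaf (143766, 0, 13, 174546) .leaf))) (143768, 0, 16, 124236) (.node (.node (.node .leaf (143771, 0, 13, 70529) .leaf) (143773, 0, 18, 34030) (.node .leaf (143774, 0, 14, 79282) .leaf)) (143777, 0, 15, 72339) (.node (.node .leaf (143778, 0, 14, 43983) .leaf) (143780, 0, 17, 166487) (.node .leaf (143783, 0, 16, 211476) .leaf))))) (143785, 0, 18, 126991) (.node (.node (.node (.node (.node .leaf (143786, 0, 18, 16723) .leaf) (143788, 0, 17, 45007) (.node .leaf (143791, 0, 17, 73612) .leaf)) (143793, 0, 16, 11079) (.node (.node .leaf (143794, 0, 16, 187705) .leaf) (143796, 0, 17, 215638) (.node .leaf (143799, 0, 16, 82497) .leaf))) (143801, 0, 15, 134879) (.node (.node (.node .leaf (143802, 0, 18, 145317) .leaf) (143804, 0, 12, 186266) (.node .leaf (143807, 0, 16, 135574) .leaf)) (143809, 0, 17, 143969) (.node (.node .leaf (143810, 0,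 16, 229922) .leaf) (143812, 0, 16, 191268) (.node .leaf (143815, 0, 16, 108668) .leaf)))) (143817, 0, 16, 54671) (.node (.node (.node (.node .leaf (143818, 0, 15, 91347) .leaf) (143820, 0, 18, 52924) (.node .leaf (143823, 0, 15, 82656) .leaf)) (143825, 0, 16, 149989) (.node (.node .leaf (143826, 0, 16, 129655) .leaf) (143828, 0, 16, 159702) (.node .leaf (143831, 0, 7, 253578) .leaf))) (143833, 0, 12, 159660) (.node (.node (.node .leaf (143834, 0, 16, 201253) .leaf) (143836, 0, 16, 165194) (.node .leaf (143839, 0, 17, 198314) .leaf)) (143840, 0, 13, 121330) (.node (.node .leaf (143843, 0, 19, 27057) .leaf) (143845, 0, 16, 212228) (.node .leaf (143846, 0, 16, 45300) .leaf))))))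

/-- part of the orbit tree -/
def itp4_197 : Tree := (.node (.node (.node (.node (.node (.node .leaf (143851, 0, 15, 150569) .leaf) (143853, 0, 13, 206127) (.node .leaf (143854, 0, 12, 157380) .leaf)) (143856, 0, 13, 93633) (.node (.node .leaf (143859, 0, 17, 135652) .leaf) (143861, 0, 12, 84978) (.node .leaf (143862, 0, 15, 64174) .leaf))) (143864, 0, 17, 99391) (.node (.node (.node .leaf (143867, 0, 15, 13825) .leaf) (143869, 0, 16, 89466) (.node .leaf (143870, 0, 17, 60729) .leaf)) (143872, 0, 14, 41359) (.node (.node .leaf (143873, 0, 17, 210239) .leaf) (143878, 0, 14, 64382) (.node .leaf (143879, 0, 17, 76015) .leaf)))) (143880, 0, 16, 99981) (.node (.node (.node (.node .leaf (143881, 0, 18, 253859) .leaf) (143886, 0, 12, 257297) (.node .leaf (143887, 0, 14, 149708) .leaf)) (143888, 0, 18, 186842) (.node (.node .leaf (143889, 0, 17, 145852) .leaf) (143894, 0, 14, 167304) (.node .leaf (143895, 0, 17, 217274) .leaf))) (143896, 0, 18, 258171) (.node (.node (.node .leaf (143897, 0, 16, 108885) .leaf) (143902, 0, 15, 103748)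 (.node .leaf (143903, 0, 14, 95522) .leaf)) (143906, 0, 18, 260457) (.node (.node .leaf (143907, 0, 17, 137785) .leaf) (143908, 0, 18, 234329) (.node .leaf (143909, 0, 17, 14120) .leaf))))) (143914, 0, 14, 201717) (.node (.node (.node (.node (.node .leaf (143915, 0, 16, 16289) .leaf) (143916, 0, 13, 165018) (.node .leaf (143917, 0, 17, 87719) .leaf)) (143922, 0, 13, 102303) (.node (.node .leaf (143923, 0, 18, 25196) .leaf) (143924, 0, 17, 125708) (.node .leaf (143925, 0, 16, 147934) .leaf))) (143930, 0, 16, 173970) (.node (.node (.node .leaf (143931, 0, 16, 212013) .leaf) (143932, 0, 16, 62060) (.node .leaf (143933, 0, 12, 174914) .leaf)) (143938, 0, 13, 187625) (.node (.node .leaf (143939, 0, 14, 34247) .leaf) (143940, 0, 16, 215942) (.node .leaf (143941, 0, 17, 70312) .leaf)))) (143946, 0, 18, 145013) (.node (.node (.node (.node .leaf (143947, 0, 16, 28507) .leaf) (143948, 0, 17, 120754) (.node .leaf (143949, 0, 16, 79828) .leaf)) (143954, 0, 17, 43551) (.node (.node .leaf (143955, 0, 11, 799) .leaf) (143956, 0, 16, 81264)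 (.node .leaf (143957, 0, 15, 222302) .leaf))) (143962, 0, 18, 181985) (.node (.node (.node .leaf (143963, 0, 17, 137645) .leaf) (143964, 0, 16, 120812) (.node .leaf (143965, 0, 15, 216961) .leaf)) (143968, 0, 16, 18833) (.node (.node .leaf (143969, 0, 16, 8346) .leaf) (143974, 0, 8, 122622) (.node .leaf (143975, 0, 16, 231376) .leaf))))))

/-- part of the orbit tree -/
def itp4_198 : Tree := (.node (.node (.node (.node (.node (.node .leaf (143977, 0, 14, 195107) .leaf) (143982, 0, 15, 232546) (.node .leaf (143983, 0, 17, 224260) .leaf)) (143984, 0, 14, 178345) (.node (.node .leaf (143985, 0, 12, 26185) .leaf) (143990, 0, 12, 250287) (.node .leaf (143991, 0, 16, 209353) .leaf))) (143992, 0, 17, 185851) (.node (.node (.node .leaf (143993, 0, 17, 36053) .leaf) (143998, 0, 16, 128055) (.node .leaf (143999, 0, 17, 72634) .leaf)) (144002, 0, 19, 78858) (.node (.node .leaf (144003, 0, 14, 231110) .leaf) (144004, 0, 15, 41829) (.node .leaf (144005, 0, 17, 195147) .leaf)))) (144010, 0, 14, 82744) (.node (.node (.node (.node .leaf (144011,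 0, 17, 231352) .leaf) (144012, 0, 17, 18937) (.node .leaf (144013, 0, 14, 135383) .leaf)) (144018, 0, 15, 73461) (.node (.node .leaf (144019, 0, 13, 72658) .leaf) (144020, 0, 16, 185747) (.node .leaf (144021, 0, 18, 36029) .leaf))) (144026, 0, 17, 211821) (.node (.node (.node .leaf (144027, 0, 11, 127310) .leaf) (144028, 0, 17, 147215) (.node .leaf (144029, 0, 13, 26145) .leaf)) (144032, 0, 16, 81264) (.node (.node .leaf (144033, 0, 17, 122134) .leaf) (144038, 0, 15, 144925) (.node .leaf (144039, 0, 16, 46096) .leaf))))) (144040, 0, 16, 216046) (.node (.node (.node (.node (.node .leaf (144041, 0, 17, 260238) .leaf) (144046, 0, 16, 187521) (.node .leaf (144047, 0, 14, 34223) .leaf)) (144048, 0, 16, 214309) (.node (.node .leaf (144049, 0, 16, 238915) .leaf) (144054, 0, 14, 142371) (.node .leaf (144055, 0, 15, 183365) .leaf))) (144056, 0, 14, 90301) (.node (.node (.node .leaf (144057, 0, 13, 222262) .leaf) (144062, 0, 18, 2491) (.node .leaf (144063, 0, 12, 193369) .leaf)) (144064, 0, 16, 89091) (.node (.node .leaf (144065, 0,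 13, 56796) .leaf) (144070, 0, 16, 201629) (.node .leaf (144071, 0, 14, 54627) .leaf)))) (144072, 0, 17, 227739) (.node (.node (.node (.node .leaf (144073, 0, 14, 236029) .leaf) (144078, 0, 17, 135325) (.node .leaf (144079, 0, 16, 106543) .leaf)) (144080, 0, 18, 61956) (.node (.node .leaf (144081, 0, 17, 174890) .leaf) (144086, 0, 13, 91499) (.node .leaf (144087, 0, 16, 212037) .leaf))) (144088, 0, 15, 65998) (.node (.node (.node .leaf (144089, 0, 11, 147894) .leaf) (144094, 0, 18, 26824) (.node .leaf (144095, 0, 16, 251609) .leaf)) (144098, 0, 15, 4490) (.node (.node .leaf (144099, 0, 14, 149668) .leaf) (144100, 0, 14, 159445) .leaf)))))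

/-- part of the orbit tree -/
def itp4_199 : Tree := (.node itp4_195 (143721, 0, 18, 101126) itp4_196)

/-- part of the orbit tree -/
def itp4_200 : Tree := (.node itp4_197 (143976, 0, 15, 41741) itp4_198)

/-- part of the orbit tree -/
def itp4_201 : Tree := (.node itp4_193 (143332, 0, 14, 261048) itp4_194)

/-- part of the orbit tree -/
def itp4_202 : Tree := (.node itp4_199 (143848, 0, 10, 258475) itp4_200)

/-- part of the orbit tree -/
def itp4_203 : Tree := (.node (.node (.node (.node (.node (.node .leaf (144106, 0, 16, 74315) .leaf) (144107, 0, 16, 172600) (.node .leaf (144108, 0, 16, 19277) .leaf)) (144109, 0, 15, 43819) (.node (.node .leaf (144114, 0, 18, 98182) .leaf) (144115, 0, 17, 106464) (.node .leaf (144116, 0, 17, 5760) .leaf))) (144117, 0, 17, 63206) (.node (.node (.node .leaf (144122, 0, 19, 219678) .leaf) (144123, 0, 16, 54478) (.node .leaf (144124, 0, 17, 144152) .leaf)) (144125, 0, 16, 185214) (.node (.node .leaf (144128, 0, 17, 101362) .leaf) (144129, 0, 17, 254877) (.node .leaf (144134, 0, 11, 158461)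 .leaf)))) (144135, 0, 12, 166555) (.node (.node (.node (.node .leaf (144136, 0, 11, 90478) .leaf) (144137, 0, 16, 116229) (.node .leaf (144142, 0, 17, 62977) .leaf)) (144143, 0, 16, 44803) (.node (.node .leaf (144144, 0, 12, 97198) .leaf) (144145, 0, 17, 107562) (.node .leaf (144150, 0, 14, 158315) .leaf))) (144151, 0, 17, 62158) (.node (.node (.node .leaf (144152, 0, 16, 202648) .leaf) (144153, 0, 17, 245328) (.node .leaf (144158, 0, 16, 145200) .leaf)) (144159, 0, 16, 55769) (.node (.node .leaf (144162, 0, 17, 204426) .leaf) (144163, 0, 17, 83876) (.node .leaf (144164, 0, 15, 166373) .leaf))))) (144165, 0, 17, 53579) (.node (.node (.node (.node (.node .leaf (144170, 0, 16, 259094) .leaf) (144171, 0, 17, 109880) (.node .leaf (144172, 0, 18, 156537) .leaf)) (144173, 0, 14, 14935) (.node (.node .leaf (144178, 0, 15, 204926) .leaf) (144179, 0, 17, 209234) (.node .leaf (144180, 0, 18, 65299) .leaf))) (144181, 0, 18, 174366) (.node (.node (.node .leaf (144186, 0, 14, 67046) .leaf) (144187, 0, 16, 252878) (.node .leaf (144188, 0,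 15, 27872) .leaf)) (144189, 0, 17, 35974) (.node (.node .leaf (144194, 0, 12, 146186) .leaf) (144195, 0, 13, 121150) (.node .leaf (144196, 0, 15, 240741) .leaf)))) (144197, 0, 16, 45112) (.node (.node (.node (.node .leaf (144202, 0, 16, 203968) .leaf) (144203, 0, 17, 35000) (.node .leaf (144204, 0, 15, 214777) .leaf)) (144205, 0, 14, 169376) (.node (.node .leaf (144210, 0, 16, 213261) .leaf) (144211, 0, 17, 136402) (.node .leaf (144212, 0, 13, 141323) .leaf))) (144213, 0, 18, 182381) (.node (.node (.node .leaf (144218, 0, 17, 42848) .leaf) (144219, 0, 18, 99571) (.node .leaf (144220, 0, 18, 77839) .leaf)) (144221, 0, 17, 60917) (.node (.node .leaf (144224, 0, 17, 221832) .leaf) (144225, 0, 14, 194396) (.node .leaf (144230, 0, 16, 80157) .leaf))))))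

/-- part of the orbit tree -/
def itp4_204 : Tree := (.node (.node (.node (.node (.node (.node .leaf (144232, 0, 13, 17646) .leaf) (144233, 0, 17, 108406) (.node .leaf (144238, 0, 14, 11798) .leaf)) (144239, 0, 16, 52848) (.node (.node .leaf (144240, 0, 16, 186500) .leaf) (144241, 0, 17, 33194) (.node .leaf (144246, 0, 14, 217067) .leaf))) (144247, 0, 13, 37821) (.node (.node (.node .leaf (144248, 0, 18, 212805) .leaf) (144249, 0, 14, 253731) (.node .leaf (144254, 0, 16, 153155) .leaf)) (144255, 0, 16, 177701) (.node (.node .leaf (144258, 0, 17, 119785) .leaf) (144259, 0, 16, 9394) (.node .leaf (144260, 0, 17, 17542) .leaf)))) (144261, 0, 15, 85428) (.node (.node (.node (.node .leaf (144266, 0, 16, 80245) .leaf) (144267, 0, 16, 221275) (.node .leaf (144268, 0, 16, 44570) .leaf)) (144269, 0, 16, 194356) (.node (.node .leaf (144274, 0, 16, 238879) .leaf) (144275, 0, 18, 130097) (.node .leaf (144276, 0, 15, 143984) .leaf))) (144277, 0, 16, 27486) (.node (.node (.node .leaf (144282, 0, 16, 216963) .leaf) (144283, 0, 15, 71341)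 (.node .leaf (144284, 0, 16, 127007) .leaf)) (144285, 0, 18, 33218) (.node (.node .leaf (144288, 0, 17, 171780) .leaf) (144289, 0, 15, 163682) (.node .leaf (144294, 0, 16, 184830) .leaf))))) (144295, 0, 16, 35024) (.node (.node (.node (.node (.node .leaf (144296, 0, 14, 47772) .leaf) (144297, 0, 16, 23290) (.node .leaf (144302, 0, 16, 119706) .leaf)) (144303, 0, 13, 25164) (.node (.node .leaf (144304, 0, 17, 77927) .leaf) (144305, 0, 16, 223561) (.node .leaf (144310, 0, 14, 42760) .leaf))) (144311, 0, 13, 93745) (.node (.node (.node .leaf (144312, 0, 17, 180937) .leaf) (144313, 0, 14, 139951) (.node .leaf (144318, 0, 18, 19860) .leaf)) (144319, 0, 17, 136378) (.node (.node .leaf (144320, 0, 17, 196215) .leaf) (144321, 0, 17, 14911) (.node .leaf (144326, 0, 15, 259198) .leaf)))) (144327, 0, 15, 227095) (.node (.node (.node (.node .leaf (144328, 0, 17, 166285) .leaf) (144329, 0, 16, 15241) (.node .leaf (144334, 0, 14, 204514) .leaf)) (144335, 0, 15, 83916) (.node (.node .leaf (144336, 0, 16, 5607) .leaf) (144337, 0, 18, 26180)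 (.node .leaf (144342, 0, 17, 126756) .leaf))) (144343, 0, 16, 69442) (.node (.node (.node .leaf (144344, 0, 15, 65403) .leaf) (144345, 0, 15, 173653) (.node .leaf (144350, 0, 17, 92180) .leaf)) (144351, 0, 18, 207578) (.node (.node .leaf (144354, 0, 17, 63081) .leaf) (144355, 0, 10, 17857) (.node .leaf (144356, 0, 17, 117921) .leaf))))))

/-- part of the orbit tree -/
def itp4_205 : Tree := (.node (.node (.node (.node (.node (.node .leaf (144362, 0, 13, 7413) .leaf) (144363, 0, 16, 148955) (.node .leaf (144364, 0, 10, 256313) .leaf)) (144365, 0, 15, 199007) (.node (.node .leaf (144370, 0, 15, 187890) .leaf) (144371, 0, 17, 55729) (.node .leaf (144372, 0, 17, 242932) .leaf))) (144373, 0, 16, 218258) (.node (.node (.node .leaf (144378, 0, 18, 63594) .leaf) (144379, 0, 16, 13101) (.node .leaf (144380, 0, 14, 261484) .leaf)) (144381, 0, 19, 107586) (.node (.node .leaf (144384, 0, 14, 104279) .leaf) (144386, 0, 14, 101563) (.node .leaf (144389, 0, 13, 148218) .leaf)))) (144391, 0, 18, 109192) (.node (.node (.node (.node .leaf (144392,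 0, 14, 242383) .leaf) (144394, 0, 16, 91687) (.node .leaf (144397, 0, 17, 224138) .leaf)) (144399, 0, 16, 81940) (.node (.node .leaf (144400, 0, 18, 4671) .leaf) (144402, 0, 15, 180007) (.node .leaf (144405, 0, 14, 210503) .leaf))) (144407, 0, 17, 157282) (.node (.node (.node .leaf (144408, 0, 14, 63651) .leaf) (144410, 0, 16, 39615) (.node .leaf (144413, 0, 15, 56976) .leaf)) (144415, 0, 17, 17402) (.node (.node .leaf (144417, 0, 18, 82157) .leaf) (144419, 0, 15, 174239) (.node .leaf (144420, 0, 16, 173441) .leaf))))) (144422, 0, 17, 259492) (.node (.node (.node (.node (.node .leaf (144425, 0, 17, 109169) .leaf) (144427, 0, 14, 67961) (.node .leaf (144428, 0, 11, 101442) .leaf)) (144430, 0, 13, 156720) (.node (.node .leaf (144433, 0, 15, 1169) .leaf) (144435, 0, 12, 87220) (.node .leaf (144436, 0, 17, 200744) .leaf))) (144438, 0, 17, 101873) (.node (.node (.node .leaf (144441, 0, 17, 139529) .leaf) (144443, 0, 16, 13557) (.node .leaf (144444, 0, 7, 260788) .leaf)) (144446, 0, 15, 239721) (.node (.node .leaf (144449, 0, 16,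 25965) .leaf) (144451, 0, 17, 216466) (.node .leaf (144452, 0, 18, 17246) .leaf)))) (144454, 0, 17, 240428) (.node (.node (.node (.node .leaf (144457, 0, 16, 14383) .leaf) (144459, 0, 17, 223107) (.node .leaf (144460, 0, 17, 43458) .leaf)) (144462, 0, 17, 110927) (.node (.node .leaf (144465, 0, 14, 26082) .leaf) (144467, 0, 13, 130025) (.node .leaf (144468, 0, 19, 48295) .leaf))) (144470, 0, 16, 122330) (.node (.node (.node .leaf (144473, 0, 13, 194823) .leaf) (144475, 0, 18, 200799) (.node .leaf (144476, 0, 14, 170303) .leaf)) (144478, 0, 16, 79686) (.node (.node .leaf (144480, 0, 14, 213321) .leaf) (144482, 0, 16, 42497) (.node .leaf (144485, 0, 16, 77665) .leaf))))))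

/-- part of the orbit tree -/
def itp4_206 : Tree := (.node (.node (.node (.node (.node (.node .leaf (144488, 0, 19, 240597) .leaf) (144490, 0, 14, 164761) (.node .leaf (144493, 0, 16, 199417) .leaf)) (144495, 0, 15, 154332) (.node (.node .leaf (144496, 0, 16, 79807) .leaf) (144498, 0, 16, 188365) (.node .leaf (144501, 0, 17, 218932) .leaf))) (144503, 0, 17, 132881) (.node (.node (.node .leaf (144504, 0, 17, 122147) .leaf) (144506, 0, 13, 144721) (.node .leaf (144509, 0, 18, 94892) .leaf)) (144511, 0, 16, 8841) (.node (.node .leaf (144513, 0, 16, 232846) .leaf) (144515, 0, 18, 176158) (.node .leaf (144516, 0, 14, 240573) .leaf)))) (144518, 0, 17, 158043) (.node (.node (.node (.node .leaf (144521, 0, 11, 222994) .leaf) (144523, 0, 17, 36704) (.node .leaf (144524, 0, 17, 213281) .leaf)) (144526, 0, 19, 43347) (.node (.node .leaf (144529, 0, 14, 104558) .leaf) (144531, 0, 18, 51275) (.node .leaf (144532, 0, 16, 82219) .leaf))) (144534, 0, 15, 144697) (.node (.node (.node .leaf (144537, 0, 14, 70116) .leaf) (144539, 0, 15, 191955)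 (.node .leaf (144540, 0, 16, 79831) .leaf)) (144542, 0, 13, 188325) (.node (.node .leaf (144544, 0, 13, 43434) .leaf) (144546, 0, 17, 213464) (.node .leaf (144549, 0, 17, 36761) .leaf))))) (144551, 0, 16, 223211) (.node (.node (.node (.node (.node .leaf (144552, 0, 17, 142896) .leaf) (144554, 0, 9, 240452) (.node .leaf (144557, 0, 16, 25861) .leaf)) (144559, 0, 11, 232823) (.node (.node .leaf (144560, 0, 17, 188252) .leaf) (144562, 0, 15, 205784) (.node .leaf (144565, 0, 17, 174776) .leaf))) (144567, 0, 17, 260765) (.node (.node (.node .leaf (144568, 0, 13, 22117) .leaf) (144570, 0, 16, 67136) (.node .leaf (144573, 0, 13, 36640) .leaf)) (144575, 0, 17, 129921) (.node (.node .leaf (144576, 0, 17, 27355) .leaf) (144578, 0, 16, 80638) (.node .leaf (144581, 0, 16, 109081) .leaf)))) (144583, 0, 13, 148075) (.node (.node (.node (.node .leaf (144584, 0, 14, 151363) .leaf) (144586, 0, 18, 167620) (.node .leaf (144589, 0, 16, 169478) .leaf)) (144591, 0, 15, 174327) (.node (.node .leaf (144592, 0, 17, 135822) .leaf) (144594, 0, 15, 213675)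 (.node .leaf (144597, 0, 16, 183243) .leaf))) (144599, 0, 15, 13469) (.node (.node (.node .leaf (144600, 0, 14, 14102) .leaf) (144602, 0, 15, 63538) (.node .leaf (144605, 0, 16, 210547) .leaf)) (144607, 0, 15, 56833) (.node (.node .leaf (144609, 0, 18, 229704) .leaf) (144611, 0, 15, 82044) (.node .leaf (144612, 0, 16, 219149) .leaf))))))

/-- part of the orbit tree -/
def itp4_207 : Tree := (.node itp4_203 (144231, 0, 14, 191464) itp4_204)

/-- part of the orbit tree -/
def itp4_208 : Tree := (.node itp4_205 (144487, 0, 17, 36616) itp4_206)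

/-- part of the orbit tree -/
def itp4_209 : Tree := (.node (.node (.node (.node (.node (.node .leaf (144617, 0, 16, 148114) .leaf) (144619, 0, 17, 109280) (.node .leaf (144620, 0, 15, 156833) .leaf)) (144622, 0, 14, 101587) (.node (.node .leaf (144625, 0, 17, 57080) .leaf) (144627, 0, 15, 43320) (.node .leaf (144628, 0, 16, 63691) .leaf))) (144630, 0, 17, 200889) (.node (.node (.node .leaf (144633, 0, 16, 13412) .leaf) (144635, 0, 20, 252950) (.node .leaf (144636, 0, 15, 198080) .leaf)) (144638, 0, 16, 153061) (.node (.node .leaf (144640, 0, 13, 164650) .leaf) (144642, 0, 15, 222470) (.node .leaf (144645, 0, 17, 173337) .leaf)))) (144647, 0, 15, 244803) (.node (.node (.node (.node .leaf (144648, 0, 18, 158134) .leaf) (144650, 0, 17, 98756) (.node .leaf (144653, 0, 14, 51710) .leaf)) (144655, 0, 15, 108535) (.node (.node .leaf (144656, 0, 17, 19830) .leaf) (144658, 0, 17, 204206) (.node .leaf (144661, 0, 15, 37939) .leaf))) (144663, 0, 17, 115734) (.node (.node (.node .leaf (144664, 0, 14, 157934) .leaf) (144666, 0, 18, 211147)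 (.node .leaf (144669, 0, 12, 14707) .leaf)) (144671, 0, 14, 250113) (.node (.node .leaf (144673, 0, 14, 108302) .leaf) (144675, 0, 16, 36501) (.node .leaf (144676, 0, 16, 67573) .leaf))))) (144678, 0, 14, 158031) (.node (.node (.node (.node (.node .leaf (144681, 0, 17, 85394) .leaf) (144683, 0, 18, 173536) (.node .leaf (144684, 0, 15, 93089) .leaf)) (144686, 0, 15, 164819) (.node (.node .leaf (144689, 0, 14, 250360) .leaf) (144691, 0, 15, 14730) (.node .leaf (144692, 0, 16, 229280) .leaf))) (144694, 0, 15, 8121) (.node (.node (.node .leaf (144697, 0, 14, 99197) .leaf) (144699, 0, 18, 54104) (.node .leaf (144700, 0, 16, 88632) .leaf)) (144702, 0, 18, 2589) (.node (.node .leaf (144705, 0, 14, 33422) .leaf) (144707, 0, 14, 223996) (.node .leaf (144708, 0, 15, 42173) .leaf)))) (144710, 0, 16, 216271) (.node (.node (.node (.node .leaf (144713, 0, 17, 236123) .leaf) (144715, 0, 15, 182910) (.node .leaf (144716, 0, 17, 20001) .leaf)) (144718, 0, 19, 135995) (.node (.node .leaf (144721, 0, 12, 247702) .leaf) (144723, 0, 15, 72714)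 (.node .leaf (144724, 0, 16, 204499) .leaf))) (144726, 0, 18, 151286) (.node (.node (.node .leaf (144729, 0, 15, 138980) .leaf) (144731, 0, 17, 45611) (.node .leaf (144732, 0, 15, 80715) .leaf)) (144734, 0, 17, 118949) (.node (.node .leaf (144736, 0, 16, 239274) .leaf) (144738, 0, 12, 197749) (.node .leaf (144741, 0, 18, 167189) .leaf))))))

/-- part of the orbit tree -/
def itp4_210 : Tree := (.node (.node (.node (.node (.node (.node .leaf (144744, 0, 16, 29128) .leaf) (144746, 0, 16, 42052) (.node .leaf (144749, 0, 16, 43149) .leaf)) (144751, 0, 16, 33399) (.node (.node .leaf (144752, 0, 15, 11269) .leaf) (144754, 0, 16, 97312) (.node .leaf (144757, 0, 14, 62784) .leaf))) (144759, 0, 14, 138781) (.node (.node (.node .leaf (144760, 0, 15, 133533) .leaf) (144762, 0, 19, 219576) (.node .leaf (144765, 0, 18, 184536) .leaf)) (144767, 0, 17, 229629) (.node (.node .leaf (144769, 0, 18, 16975) .leaf) (144771, 0, 17, 33311) (.node .leaf (144772, 0, 16, 39690) .leaf)))) (144774, 0, 17, 42028) (.node (.node (.node (.node .leaf (144777,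 0, 13, 229617) .leaf) (144779, 0, 18, 210930) (.node .leaf (144780, 0, 17, 179858) .leaf)) (144782, 0, 16, 20144) (.node (.node .leaf (144785, 0, 17, 72859) .leaf) (144787, 0, 13, 223807) (.node .leaf (144788, 0, 16, 80552) .leaf))) (144790, 0, 15, 185050) (.node (.node (.node .leaf (144793, 0, 17, 128519) .leaf) (144795, 0, 13, 138869) (.node .leaf (144796, 0, 17, 118836) .leaf)) (144798, 0, 16, 104162) (.node (.node .leaf (144800, 0, 16, 240092) .leaf) (144802, 0, 18, 195065) (.node .leaf (144805, 0, 16, 26746) .leaf))))) (144807, 0, 17, 139452) (.node (.node (.node (.node (.node .leaf (144808, 0, 19, 42197) .leaf) (144810, 0, 16, 216231) (.node .leaf (144813, 0, 15, 87297) .leaf)) (144815, 0, 16, 1316) (.node (.node .leaf (144816, 0, 17, 145599) .leaf) (144818, 0, 13, 118989) (.node .leaf (144821, 0, 14, 138892) .leaf))) (144823, 0, 15, 22761) (.node (.node (.node .leaf (144824, 0, 15, 184867) .leaf) (144826, 0, 17, 173108) (.node .leaf (144829, 0, 17, 208212) .leaf)) (144831, 0, 17, 72802) (.node (.node .leaf (144832, 0,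 17, 247983) .leaf) (144834, 0, 16, 164795) (.node .leaf (144837, 0, 19, 201194) .leaf)))) (144839, 0, 15, 173448) (.node (.node (.node (.node .leaf (144840, 0, 12, 126263) .leaf) (144842, 0, 15, 48402) (.node .leaf (144845, 0, 18, 78962) .leaf)) (144847, 0, 16, 25687) (.node (.node .leaf (144848, 0, 17, 204095) .leaf) (144850, 0, 14, 57567) (.node .leaf (144853, 0, 14, 92607) .leaf))) (144855, 0, 17, 14746) (.node (.node (.node .leaf (144856, 0, 14, 234850) .leaf) (144858, 0, 18, 8145) (.node .leaf (144861, 0, 17, 250256) .leaf)) (144863, 0, 16, 14818) (.node (.node .leaf (144865, 0, 15, 151533) .leaf) (144867, 0, 16, 95001) (.node .leaf (144868, 0, 17, 64121) .leaf))))))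

/-- part of the orbit tree -/
def itp4_211 : Tree := (.node (.node (.node (.node (.node (.node .leaf (144873, 0, 14, 173425) .leaf) (144875, 0, 18, 85251) (.node .leaf (144876, 0, 17, 164674) .leaf)) (144878, 0, 14, 92976) (.node (.node .leaf (144881, 0, 17, 14619) .leaf) (144883, 0, 16, 199500) (.node .leaf (144884, 0, 16, 164396) .leaf))) (144886, 0, 18, 259930) (.node (.node (.node .leaf (144889, 0, 18, 32497) .leaf) (144891, 0, 16, 211957) (.node .leaf (144892, 0, 17, 42932) .leaf)) (144894, 0, 15, 204230) (.node (.node .leaf (144900, 0, 15, 7928) .leaf) (144901, 0, 17, 90722) (.node .leaf (144902, 0, 17, 53793) .leaf)))) (144903, 0, 17, 110500) (.node (.node (.node (.node .leaf (144908, 0, 14, 62564) .leaf) (144909, 0, 13, 215034) (.node .leaf (144910, 0, 14, 194489) .leaf)) (144911, 0, 16, 137183) (.node (.node .leaf (144916, 0, 16, 157710) .leaf) (144917, 0, 17, 203319) (.node .leaf (144918, 0, 18, 174708) .leaf))) (144919, 0, 18, 252242) (.node (.node (.node .leaf (144924, 0, 14, 122825) .leaf) (144925, 0, 14, 81839)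 (.node .leaf (144926, 0, 16, 36844) .leaf)) (144927, 0, 16, 28554) (.node (.node .leaf (144928, 0, 15, 176338) .leaf) (144929, 0, 15, 151732) (.node .leaf (144930, 0, 12, 62621) .leaf))))) (144931, 0, 15, 175539) (.node (.node (.node (.node (.node .leaf (144936, 0, 13, 259699) .leaf) (144937, 0, 13, 29996) (.node .leaf (144938, 0, 17, 7681) .leaf)) (144939, 0, 14, 149295) (.node (.node .leaf (144944, 0, 17, 92697) .leaf) (144945, 0, 16, 209719) (.node .leaf (144946, 0, 16, 104610) .leaf))) (144947, 0, 12, 96452) (.node (.node (.node .leaf (144952, 0, 15, 98437) .leaf) (144953, 0, 18, 134521) (.node .leaf (144954, 0, 15, 157943) .leaf)) (144955, 0, 17, 12761) (.node (.node .leaf (144960, 0, 17, 184737) .leaf) (144961, 0, 15, 24641) (.node .leaf (144962, 0, 16, 229764) .leaf)))) (144963, 0, 16, 221666) (.node (.node (.node (.node .leaf (144968, 0, 16, 62521) .leaf) (144969, 0, 16, 35549) (.node .leaf (144970, 0, 15, 107548) .leaf)) (144971, 0, 15, 221871) (.node (.node .leaf (144976, 0, 14, 43508) .leaf) (144977, 0, 16, 18834)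 (.node .leaf (144978, 0, 13, 239595) .leaf))) (144979, 0, 15, 130757) (.node (.node (.node .leaf (144984, 0, 16, 42245) .leaf) (144985, 0, 18, 195627) (.node .leaf (144986, 0, 17, 216439) .leaf)) (144987, 0, 15, 212015) (.node (.node .leaf (144996, 0, 17, 123767) .leaf) (144997, 0, 16, 66321) (.node .leaf (144998, 0, 17, 45906) .leaf))))))

/-- part of the orbit tree -/
def itp4_212 : Tree := (.node (.node (.node (.node (.node (.node .leaf (145004, 0, 18, 119268) .leaf) (145005, 0, 14, 231626) (.node .leaf (145006, 0, 16, 169674) .leaf)) (145007, 0, 15, 24760) (.node (.node .leaf (145012, 0, 17, 236322) .leaf) (145013, 0, 17, 70816) (.node .leaf (145014, 0, 14, 42492) .leaf))) (145015, 0, 17, 142177) (.node (.node (.node .leaf (145020, 0, 13, 114362) .leaf) (145021, 0, 18, 130620) (.node .leaf (145022, 0, 11, 20320) .leaf)) (145023, 0, 13, 3833) (.node (.node .leaf (145024, 0, 16, 207917) .leaf) (145025, 0, 16, 231586) (.node .leaf (145026, 0, 18, 145918) .leaf)))) (145027, 0, 17, 24784) (.node (.node (.node (.node .leaf (145032,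 0, 17, 68021) .leaf) (145033, 0, 18, 125395) (.node .leaf (145034, 0, 16, 22928) .leaf)) (145035, 0, 16, 35404) (.node (.node .leaf (145040, 0, 15, 87160) .leaf) (145041, 0, 15, 111646) (.node .leaf (145042, 0, 12, 20232) .leaf))) (145043, 0, 15, 58427) (.node (.node (.node .leaf (145048, 0, 15, 225760) .leaf) (145049, 0, 16, 233862) (.node .leaf (145050, 0, 15, 139717) .leaf)) (145051, 0, 17, 180643) (.node (.node .leaf (145060, 0, 16, 185243) .leaf) (145061, 0, 15, 65181) (.node .leaf (145062, 0, 15, 80873) .leaf))))) (145063, 0, 15, 221895) (.node (.node (.node (.node (.node .leaf (145068, 0, 18, 145671) .leaf) (145069, 0, 16, 24617) (.node .leaf (145070, 0, 14, 119157) .leaf)) (145071, 0, 16, 232224) (.node (.node .leaf (145076, 0, 14, 157358) .leaf) (145077, 0, 14, 195651) (.node .leaf (145078, 0, 18, 210571) .leaf))) (145079, 0, 18, 70705) (.node (.node (.node .leaf (145084, 0, 16, 20465) .leaf) (145085, 0, 15, 136927) (.node .leaf (145086, 0, 15, 239491) .leaf)) (145087, 0, 18, 130733) (.node (.node .leaf (145092, 0,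 15, 32648) .leaf) (145093, 0, 13, 40942) (.node .leaf (145094, 0, 14, 77741) .leaf)))) (145095, 0, 16, 118731) (.node (.node (.node (.node .leaf (145100, 0, 16, 154128) .leaf) (145101, 0, 16, 178806) (.node .leaf (145102, 0, 18, 62709) .leaf)) (145103, 0, 16, 256595) (.node (.node .leaf (145108, 0, 16, 98541) .leaf) (145109, 0, 17, 252355) (.node .leaf (145110, 0, 17, 157855) .leaf))) (145111, 0, 7, 12721) (.node (.node (.node .leaf (145116, 0, 16, 92785) .leaf) (145117, 0, 17, 209759) (.node .leaf (145118, 0, 16, 94816) .leaf)) (145119, 0, 13, 56109) (.node (.node .leaf (145120, 0, 16, 216414) .leaf) (145121, 0, 16, 175394) .leaf)))))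

/-- part of the orbit tree -/
def itp4_213 : Tree := (.node itp4_209 (144743, 0, 16, 253232) itp4_210)

/-- part of the orbit tree -/
def itp4_214 : Tree := (.node itp4_211 (144999, 0, 15, 35364) itp4_212)

/-- part of the orbit tree -/
def itp4_215 : Tree := (.node itp4_207 (144357, 0, 18, 76999) itp4_208)

/-- part of the orbit tree -/
def itp4_216 : Tree := (.node itp4_213 (144870, 0, 16, 98732) itp4_214)

/-- part of the orbit tree -/
def itp4_217 : Tree := (.node itp4_201 (143592, 0, 13, 24094) itp4_202)

/-- part of the orbit tree -/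
def itp4_218 : Tree := (.node itp4_215 (144614, 0, 15, 133160) itp4_216)

/-- part of the orbit tree -/
def itp4_219 : Tree := (.node (.node (.node (.node (.node (.node .leaf (145123, 0, 15, 195869) .leaf) (145128, 0, 11, 92358) (.node .leaf (145129, 0, 16, 100512) .leaf)) (145130, 0, 16, 14563) (.node (.node .leaf (145131, 0, 14, 55429) .leaf) (145136, 0, 15, 79115) (.node .leaf (145137, 0, 15, 56276) .leaf))) (145138, 0, 17, 25902) (.node (.node (.node .leaf (145139, 0, 17, 209830) .leaf) (145144, 0, 19, 157798) (.node .leaf (145145, 0, 16, 258293) .leaf)) (145146, 0, 17, 147638) (.node (.node .leaf (145147, 0, 17, 252218) .leaf) (145156, 0, 15, 139376) (.node .leaf (145157, 0, 14, 172085) .leaf)))) (145158, 0, 16, 201065) (.node (.node (.node (.node .leaf (145159, 0, 17, 233523) .leaf) (145164, 0, 15, 1512) (.node .leaf (145165, 0, 17, 150185) .leaf)) (145166, 0, 17, 87501) (.node (.node .leaf (145167, 0, 9, 112043) .leaf) (145172, 0, 15, 167917) (.node .leaf (145173, 0, 13, 54979) .leaf))) (145174, 0, 12, 92063) (.node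 (.node (.node .leaf (145175, 0, 15, 125030) .leaf) (145180, 0, 16, 163261) (.node .leaf (145181, 0, 18, 171483) .leaf)) (145182, 0, 17, 208280) (.node (.node .leaf (145183, 0, 16, 250925) .leaf) (145184, 0, 18, 260876) (.node .leaf (145185, 0, 15, 107042) .leaf))))) (145186, 0, 12, 4990) (.node (.node (.node (.node (.node .leaf (145187, 0, 14, 150096) .leaf) (145192, 0, 17, 201104) (.node .leaf (145193, 0, 16, 84158) .leaf)) (145194, 0, 16, 157467) (.node (.node .leaf (145195, 0, 15, 172236) .leaf) (145200, 0, 15, 223987) (.node .leaf (145201, 0, 16, 251092) .leaf))) (145202, 0, 17, 146134) (.node (.node (.node .leaf (145203, 0, 14, 15526) .leaf) (145208, 0, 17, 85867) (.node .leaf (145209, 0, 17, 110349) .leaf)) (145210, 0, 14, 8014) (.node (.node .leaf (145211, 0, 15, 65320) .leaf) (145216, 0, 15, 188044) (.node .leaf (145217, 0, 15, 34722) .leaf)))) (145218, 0, 15, 79614) (.node (.node (.node (.node .leaf (145219, 0, 14, 225232) .leaf) (145224, 0, 18, 218701) (.node .leaf (145225, 0, 18, 243243) .leaf)) (145226, 0, 17, 121954)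 (.node (.node .leaf (145227, 0, 18, 230732) .leaf) (145232, 0, 18, 199552) (.node .leaf (145233, 0, 15, 256998) .leaf))) (145234, 0, 15, 213000) (.node (.node (.node .leaf (145235, 0, 17, 71974) .leaf) (145240, 0, 11, 77336) (.node .leaf (145241, 0, 18, 138184) .leaf)) (145242, 0, 15, 240276) (.node (.node .leaf (145243, 0, 15, 127930) .leaf) (145252, 0, 16, 147715) (.node .leaf (145253, 0, 15, 230837) .leaf))))))

/-- part of the orbit tree -/
def itp4_220 : Tree := (.node (.node (.node (.node (.node (.node .leaf (145255, 0, 16, 28103) .leaf) (145260, 0, 14, 79367) (.node .leaf (145261, 0, 16, 34045) .leaf)) (145262, 0, 17, 79038) (.node (.node .leaf (145263, 0, 14, 34651) .leaf) (145268, 0, 16, 240237) (.node .leaf (145269, 0, 16, 55600) .leaf))) (145270, 0, 15, 16927) (.node (.node (.node .leaf (145271, 0, 16, 100629) .leaf) (145276, 0, 17, 138446) (.node .leaf (145277, 0, 16, 72159) .leaf)) (145278, 0, 17, 216299) (.node (.node .leaf (145279, 0, 16, 192941) .leaf) (145280, 0, 15, 36441) (.node .leaf (145281, 0, 17, 28223)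 .leaf)))) (145282, 0, 17, 122492) (.node (.node (.node (.node .leaf (145283, 0, 18, 81434) .leaf) (145288, 0, 17, 175041) (.node .leaf (145289, 0, 16, 150439) .leaf)) (145290, 0, 17, 144513) (.node (.node .leaf (145291, 0, 18, 203650) .leaf) (145296, 0, 13, 213145) (.node .leaf (145297, 0, 18, 72119) .leaf))) (145298, 0, 17, 43243) (.node (.node (.node .leaf (145299, 0, 17, 192965) .leaf) (145304, 0, 17, 54164) (.node .leaf (145305, 0, 17, 127787) .leaf)) (145306, 0, 18, 99249) (.node (.node .leaf (145307, 0, 15, 91095) .leaf) (145316, 0, 18, 244879) (.node .leaf (145317, 0, 17, 27990) .leaf))))) (145318, 0, 18, 191658) (.node (.node (.node (.node (.node .leaf (145319, 0, 17, 230692) .leaf) (145324, 0, 15, 104727) (.node .leaf (145325, 0, 17, 34762) .leaf)) (145326, 0, 16, 79510) (.node (.node .leaf (145327, 0, 17, 10580) .leaf) (145332, 0, 16, 17038) (.node .leaf (145333, 0, 11, 138144) .leaf))) (145334, 0, 16, 240380) (.node (.node (.node .leaf (145335, 0, 9, 127954) .leaf) (145340, 0, 12, 254274) (.node .leaf (145341, 0,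 13, 196900) .leaf)) (145342, 0, 16, 213088) (.node (.node .leaf (145343, 0, 15, 151809) .leaf) (145348, 0, 17, 201208) (.node .leaf (145349, 0, 17, 212378) .leaf)))) (145350, 0, 16, 63882) (.node (.node (.node (.node .leaf (145351, 0, 17, 159167) .leaf) (145356, 0, 17, 260964) (.node .leaf (145357, 0, 16, 107082) .leaf)) (145358, 0, 15, 43073) (.node (.node .leaf (145359, 0, 10, 150072) .leaf) (145364, 0, 14, 91918) (.node .leaf (145365, 0, 16, 212512) .leaf))) (145366, 0, 17, 167804) (.node (.node (.node .leaf (145367, 0, 16, 5610) .leaf) (145372, 0, 16, 229425) (.node .leaf (145373, 0, 14, 221271) .leaf)) (145374, 0, 16, 184340) (.node (.node .leaf (145375, 0, 14, 15566) .leaf) (145376, 0, 15, 5103) (.node .leaf (145377, 0, 16, 150209) .leaf))))))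

/-- part of the orbit tree -/
def itp4_221 : Tree := (.node (.node (.node (.node (.node (.node .leaf (145379, 0, 17, 107187) .leaf) (145384, 0, 17, 182962) (.node .leaf (145385, 0, 14, 172125) .leaf)) (145386, 0, 16, 236183) (.node (.node .leaf (145387, 0, 13, 84015) .leaf) (145392, 0, 17, 156953) (.node .leaf (145393, 0, 12, 161561) .leaf))) (145394, 0, 18, 247642) (.node (.node (.node .leaf (145395, 0, 16, 250949) .leaf) (145400, 0, 15, 45799) (.node .leaf (145401, 0, 14, 54955) .leaf)) (145402, 0, 16, 92151) (.node (.node .leaf (145403, 0, 18, 212697) .leaf) (145408, 0, 13, 193507) (.node .leaf (145411, 0, 18, 213920) .leaf)))) (145412, 0, 17, 217887) (.node (.node (.node (.node .leaf (145415, 0, 15, 188995) .leaf) (145416, 0, 16, 54907) (.node .leaf (145419, 0, 18, 91704) .leaf)) (145420, 0, 16, 61272) (.node (.node .leaf (145423, 0, 19, 89883) .leaf) (145424, 0, 15, 35766) (.node .leaf (145427, 0, 17, 80885) .leaf))) (145428, 0, 18, 75241) (.node (.node (.node .leaf (145431, 0, 17, 38069) .leaf) (145432, 0, 16, 175662)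 (.node .leaf (145435, 0, 14, 204397) .leaf)) (145436, 0, 13, 118645) (.node (.node .leaf (145439, 0, 17, 32297) .leaf) (145441, 0, 16, 71792) (.node .leaf (145442, 0, 13, 244090) .leaf))))) (145445, 0, 17, 74067) (.node (.node (.node (.node (.node .leaf (145446, 0, 14, 116327) .leaf) (145449, 0, 10, 212456) (.node .leaf (145450, 0, 13, 218086) .leaf)) (145453, 0, 13, 40359) (.node (.node .leaf (145454, 0, 17, 77051) .leaf) (145457, 0, 14, 32464) (.node .leaf (145458, 0, 14, 184422) .leaf))) (145461, 0, 13, 131533) (.node (.node (.node .leaf (145462, 0, 13, 241809) .leaf) (145465, 0, 15, 37964) (.node .leaf (145466, 0, 14, 62974) .leaf)) (145469, 0, 19, 97438) (.node (.node .leaf (145470, 0, 16, 52445) .leaf) (145473, 0, 13, 208294) (.node .leaf (145474, 0, 15, 51520) .leaf)))) (145477, 0, 14, 86715) (.node (.node (.node (.node .leaf (145478, 0, 17, 61539) .leaf) (145481, 0, 18, 220315) (.node .leaf (145482, 0, 16, 191704) .leaf)) (145485, 0, 13, 112679) (.node (.node .leaf (145486, 0, 16, 2427) .leaf) (145489, 0, 16, 88912)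 (.node .leaf (145490, 0, 15, 59916) .leaf))) (145493, 0, 16, 211061) (.node (.node (.node .leaf (145494, 0, 17, 165942) .leaf) (145497, 0, 17, 111052) (.node .leaf (145498, 0, 17, 38029) .leaf)) (145501, 0, 17, 249553) (.node (.node .leaf (145502, 0, 16, 44462) .leaf) (145504, 0, 15, 2434) (.node .leaf (145507, 0, 15, 112862) .leaf))))))

/-- part of the orbit tree -/
def itp4_222 : Tree := (.node (.node (.node (.node (.node (.node .leaf (145511, 0, 16, 247747) .leaf) (145512, 0, 14, 46856) (.node .leaf (145515, 0, 17, 67403) .leaf)) (145516, 0, 17, 36395) (.node (.node .leaf (145519, 0, 16, 81512) .leaf) (145520, 0, 15, 163700) (.node .leaf (145523, 0, 13, 88710) .leaf))) (145524, 0, 16, 54246) (.node (.node (.node .leaf (145527, 0, 13, 110901) .leaf) (145528, 0, 17, 184157) (.node .leaf (145531, 0, 13, 229150) .leaf)) (145532, 0, 17, 194174) (.node (.node .leaf (145535, 0, 14, 89001) .leaf) (145537, 0, 16, 50501) (.node .leaf (145538, 0, 14, 95257) .leaf)))) (145541, 0, 15, 178776) (.node (.node (.node (.node .leaf (145542,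 0, 17, 69103) .leaf) (145545, 0, 12, 12249) (.node .leaf (145546, 0, 14, 106117) .leaf)) (145549, 0, 15, 151748) (.node (.node .leaf (145550, 0, 15, 206967) .leaf) (145553, 0, 16, 195802) (.node .leaf (145554, 0, 12, 216217) .leaf))) (145557, 0, 16, 181753) (.node (.node (.node .leaf (145558, 0, 16, 97778) .leaf) (145561, 0, 18, 55618) (.node .leaf (145562, 0, 17, 92417) .leaf)) (145565, 0, 17, 57441) (.node (.node .leaf (145566, 0, 17, 86050) .leaf) (145568, 0, 13, 225052) (.node .leaf (145571, 0, 13, 151613) .leaf))))) (145572, 0, 14, 218687) (.node (.node (.node (.node (.node .leaf (145575, 0, 16, 12064) .leaf) (145576, 0, 19, 199677) (.node .leaf (145579, 0, 13, 178849) .leaf)) (145580, 0, 15, 95456) (.node (.node .leaf (145583, 0, 15, 50620) .leaf) (145584, 0, 14, 71497) (.node .leaf (145587, 0, 17, 9931) .leaf))) (145588, 0, 17, 77418) (.node (.node (.node .leaf (145591, 0, 16, 40489) .leaf) (145592, 0, 16, 209617) (.node .leaf (145595, 0, 17, 164498) .leaf)) (145596, 0, 14, 197142) (.node (.node .leaf (145599, 0, 16,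 176970) .leaf) (145600, 0, 18, 200303) (.node .leaf (145603, 0, 17, 179756) .leaf)))) (145604, 0, 18, 48124) (.node (.node (.node (.node .leaf (145607, 0, 15, 68256) .leaf) (145608, 0, 16, 142973) (.node .leaf (145611, 0, 16, 39860) .leaf)) (145612, 0, 15, 20832) (.node (.node .leaf (145615, 0, 16, 122940) .leaf) (145616, 0, 14, 45591) (.node .leaf (145619, 0, 12, 50809) .leaf))) (145620, 0, 14, 183562) (.node (.node (.node .leaf (145623, 0, 17, 65370) .leaf) (145624, 0, 16, 22667) (.node .leaf (145627, 0, 14, 125399) .leaf)) (145628, 0, 16, 223873) (.node (.node .leaf (145631, 0, 16, 235210) .leaf) (145633, 0, 12, 58876) (.node .leaf (145634, 0, 16, 87487) .leaf))))))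

/-- part of the orbit tree -/
def itp4_223 : Tree := (.node itp4_219 (145254, 0, 17, 144617) itp4_220)

/-- part of the orbit tree -/
def itp4_224 : Tree := (.node itp4_221 (145508, 0, 17, 175027) itp4_222)

/-- part of the orbit tree -/
def itp4_225 : Tree := (.node (.node (.node (.node (.node (.node .leaf (145638, 0, 17, 93340) .leaf) (145641, 0, 16, 180324) (.node .leaf (145642, 0, 16, 47877) .leaf)) (145645, 0, 15, 226628) (.node (.node .leaf (145646, 0, 17, 181272) .leaf) (145649, 0, 16, 235059) (.node .leaf (145650, 0, 16, 141167) .leaf))) (145653, 0, 16, 125230) (.node (.node (.node .leaf (145654, 0, 13, 22642) .leaf) (145657, 0, 17, 47153) (.node .leaf (145658, 0, 16, 67698) .leaf)) (145661, 0, 17, 66482) (.node (.node .leaf (145662, 0, 14, 45806) .leaf) (145664, 0, 16, 86423) (.node .leaf (145667, 0, 17, 57812) .leaf)))) (145668, 0, 17, 242940) (.node (.node (.node (.node .leaf (145671, 0, 17, 132512) .leaf) (145672, 0, 15, 74109) (.node .leaf (145675, 0, 13, 181324) .leaf)) (145676, 0, 16, 216364) (.node (.node .leaf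 (145679, 0, 19, 192316) .leaf) (145680, 0, 16, 207298) (.node .leaf (145683, 0, 14, 170369) .leaf))) (145684, 0, 16, 115210) (.node (.node (.node .leaf (145687, 0, 14, 29526) .leaf) (145688, 0, 15, 68698) (.node .leaf (145691, 0, 16, 190167) .leaf)) (145692, 0, 15, 75926) (.node (.node .leaf (145695, 0, 17, 34106) .leaf) (145697, 0, 15, 178692) (.node .leaf (145698, 0, 18, 199239) .leaf))))) (145701, 0, 18, 37080) (.node (.node (.node (.node (.node .leaf (145702, 0, 16, 74116) .leaf) (145705, 0, 13, 132441) (.node .leaf (145706, 0, 16, 242693) .leaf)) (145709, 0, 16, 42687) (.node (.node .leaf (145710, 0, 16, 71420) .leaf) (145713, 0, 18, 39219) (.node .leaf (145714, 0, 14, 94738) .leaf))) (145717, 0, 17, 189998) (.node (.node (.node .leaf (145718, 0, 17, 218994) .leaf) (145721, 0, 17, 190409) (.node .leaf (145722, 0, 17, 219018) .leaf)) (145725, 0, 16, 188138) (.node (.node .leaf (145726, 0, 17, 224937) .leaf) (145729, 0, 10, 187255) (.node .leaf (145730, 0, 17, 224052) .leaf)))) (145733, 0, 18, 111960) (.node (.node (.node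 (.node .leaf (145734, 0, 15, 217623) .leaf) (145737, 0, 17, 65263) (.node .leaf (145738, 0, 13, 168325) .leaf)) (145741, 0, 9, 51148) (.node (.node .leaf (145742, 0, 16, 61080) .leaf) (145745, 0, 17, 113843) (.node .leaf (145746, 0, 12, 3567) .leaf))) (145749, 0, 16, 246702) (.node (.node (.node .leaf (145750, 0, 17, 76354) .leaf) (145753, 0, 17, 165562) (.node .leaf (145754, 0, 18, 210681) .leaf)) (145757, 0, 17, 180121) (.node (.node .leaf (145758, 0, 14, 200666) .leaf) (145760, 0, 15, 61025) (.node .leaf (145763, 0, 16, 89917) .leaf))))))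

/-- part of the orbit tree -/
def itp4_226 : Tree := (.node (.node (.node (.node (.node (.node .leaf (145767, 0, 15, 47492) .leaf) (145768, 0, 16, 1277) (.node .leaf (145771, 0, 16, 112033) .leaf)) (145772, 0, 11, 207967) (.node (.node .leaf (145775, 0, 17, 248508) .leaf) (145776, 0, 15, 170135) (.node .leaf (145779, 0, 17, 207307) .leaf))) (145780, 0, 15, 59274) (.node (.node (.node .leaf (145783, 0, 17, 87766) .leaf) (145784, 0, 16, 93481) (.node .leaf (145787, 0, 16, 56682) .leaf)) (145788, 0, 18, 3350) (.node (.node .leaf (145791, 0, 12, 58441) .leaf) (145793, 0, 17, 206587) (.node .leaf (145794, 0, 17, 103418) .leaf)))) (145797, 0, 16, 155067) (.node (.node (.node (.node .leaf (145798, 0, 15, 257255) .leaf) (145801, 0, 18, 66403) (.node .leaf (145802, 0, 12, 45856) .leaf)) (145805, 0, 16, 177959) (.node (.node .leaf (145806, 0, 17, 198267) .leaf) (145809, 0, 16, 89774) (.node .leaf (145810, 0, 14, 255244) .leaf))) (145813, 0, 16, 92045) (.node (.node (.node .leaf (145814, 0, 17, 55246) .leaf) (145817, 0, 15, 179916) (.node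 .leaf (145818, 0, 14, 183157) .leaf)) (145821, 0, 15, 49617) (.node (.node .leaf (145822, 0, 16, 94349) .leaf) (145824, 0, 17, 52584) (.node .leaf (145827, 0, 17, 178142) .leaf))))) (145828, 0, 18, 96671) (.node (.node (.node (.node (.node .leaf (145831, 0, 17, 82952) .leaf) (145832, 0, 16, 190704) (.node .leaf (145835, 0, 15, 154946) .leaf)) (145836, 0, 17, 103171) (.node (.node .leaf (145839, 0, 15, 8799) .leaf) (145840, 0, 16, 94324) (.node .leaf (145843, 0, 18, 49448) .leaf))) (145844, 0, 16, 166942) (.node (.node (.node .leaf (145847, 0, 17, 179765) .leaf) (145848, 0, 15, 37029) (.node .leaf (145851, 0, 18, 11188) .leaf)) (145852, 0, 16, 255477) (.node (.node .leaf (145855, 0, 16, 72133) .leaf) (145856, 0, 17, 44059) (.node .leaf (145859, 0, 16, 234078) .leaf)))) (145860, 0, 14, 23583) (.node (.node (.node (.node .leaf (145863, 0, 14, 126275) .leaf) (145864, 0, 16, 166275) (.node .leaf (145867, 0, 18, 211392) .leaf)) (145868, 0, 14, 176288) (.node (.node .leaf (145871, 0, 16, 67551) .leaf) (145872, 0, 18, 22004) (.node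 .leaf (145875, 0, 15, 124072) .leaf))) (145876, 0, 15, 142057) (.node (.node (.node .leaf (145879, 0, 15, 220462) .leaf) (145880, 0, 16, 49000) (.node .leaf (145883, 0, 17, 69172) .leaf)) (145884, 0, 16, 51445) (.node (.node .leaf (145887, 0, 15, 96438) .leaf) (145889, 0, 14, 214920) (.node .leaf (145890, 0, 17, 194507) .leaf))))))

/-- part of the orbit tree -/
def itp4_227 : Tree := (.node (.node (.node (.node (.node (.node .leaf (145894, 0, 15, 182631) .leaf) (145897, 0, 15, 90640) (.node .leaf (145898, 0, 14, 23782) .leaf)) (145901, 0, 16, 88883) (.node (.node .leaf (145902, 0, 15, 140283) .leaf) (145905, 0, 14, 225744) (.node .leaf (145906, 0, 17, 180364) .leaf))) (145909, 0, 18, 67326) (.node (.node (.node .leaf (145910, 0, 16, 46781) .leaf) (145913, 0, 13, 236364) (.node .leaf (145914, 0, 16, 141840) .leaf)) (145917, 0, 18, 205670) (.node (.node .leaf (145918, 0, 17, 168741) .leaf) (145922, 0, 17, 233398) (.node .leaf (145923, 0, 14, 225232) .leaf)))) (145926, 0, 14, 243349) (.node (.node (.node (.node .leaf (145927,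 0, 15, 190319) .leaf) (145930, 0, 16, 142272) (.node .leaf (145931, 0, 17, 84552) .leaf)) (145934, 0, 15, 21725) (.node (.node .leaf (145935, 0, 18, 95083) .leaf) (145938, 0, 17, 128995) (.node .leaf (145939, 0, 16, 192132) .leaf))) (145942, 0, 17, 118464) (.node (.node (.node .leaf (145943, 0, 14, 37273) .leaf) (145946, 0, 16, 250491) (.node .leaf (145947, 0, 13, 209437) .leaf)) (145950, 0, 16, 139819) (.node (.node .leaf (145951, 0, 13, 199486) .leaf) (145952, 0, 16, 119910) (.node .leaf (145953, 0, 17, 78848) .leaf))))) (145956, 0, 17, 126277) (.node (.node (.node (.node (.node .leaf (145957, 0, 14, 68899) .leaf) (145960, 0, 15, 258558) (.node .leaf (145961, 0, 16, 190358) .leaf)) (145964, 0, 14, 180645) (.node (.node .leaf (145965, 0, 17, 39051) .leaf) (145968, 0, 14, 240691) (.node .leaf (145969, 0, 17, 216149) .leaf))) (145972, 0, 13, 234768) (.node (.node (.node .leaf (145973, 0, 16, 132321) .leaf) (145976, 0, 18, 182350) (.node .leaf (145977, 0, 14, 37216) .leaf)) (145980, 0, 16, 46931) (.node (.node .leaf (145981,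 0, 18, 192125) .leaf) (145984, 0, 16, 94628) (.node .leaf (145985, 0, 17, 206986) .leaf)))) (145988, 0, 16, 200377) (.node (.node (.node (.node .leaf (145989, 0, 17, 93264) .leaf) (145992, 0, 15, 233613) (.node .leaf (145993, 0, 13, 225515) .leaf)) (145996, 0, 13, 240046) (.node (.node .leaf (145997, 0, 15, 113931) .leaf) (146000, 0, 12, 249152) (.node .leaf (146001, 0, 17, 89724) .leaf))) (146004, 0, 16, 259171) (.node (.node (.node .leaf (146005, 0, 16, 205153) .leaf) (146008, 0, 18, 257486) (.node .leaf (146009, 0, 15, 111840) .leaf)) (146012, 0, 16, 119291) (.node (.node .leaf (146013, 0, 11, 248829) .leaf) (146018, 0, 13, 257733) (.node .leaf (146019, 0, 18, 200355) .leaf))))))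

/-- part of the orbit tree -/
def itp4_228 : Tree := (.node (.node (.node (.node (.node (.node .leaf (146023, 0, 17, 246511) .leaf) (146026, 0, 17, 200256) (.node .leaf (146027, 0, 16, 87918) .leaf)) (146030, 0, 15, 127614) (.node (.node .leaf (146031, 0, 16, 70168) .leaf) (146034, 0, 16, 104080) (.node .leaf (146035, 0, 18, 95990) .leaf))) (146038, 0, 14, 257335) (.node (.node (.node .leaf (146039, 0, 16, 85973) .leaf) (146042, 0, 15, 96438) (.node .leaf (146043, 0, 17, 205208) .leaf)) (146046, 0, 17, 198571) (.node (.node .leaf (146047, 0, 14, 89733) .leaf) (146048, 0, 15, 170311) (.node .leaf (146049, 0, 18, 43263) .leaf)))) (146052, 0, 16, 58970) (.node (.node (.node (.node .leaf (146053, 0, 17, 180084) .leaf) (146056, 0, 18, 158977) (.node .leaf (146057, 0, 12, 10997) .leaf)) (146060, 0, 15, 3270) (.node (.node .leaf (146061, 0, 16, 153064) .leaf) (146064, 0, 17, 61361) (.node .leaf (146065, 0, 15, 184490) .leaf))) (146068, 0, 16, 133615) (.node (.node (.node .leaf (146069, 0, 16, 190857) .leaf) (146072, 0, 19, 1325)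 (.node .leaf (146073, 0, 16, 62770) .leaf)) (146076, 0, 18, 11383) (.node (.node .leaf (146077, 0, 18, 52241) .leaf) (146082, 0, 15, 3135) (.node .leaf (146083, 0, 15, 193327) .leaf))))) (146086, 0, 17, 160546) (.node (.node (.node (.node (.node .leaf (146087, 0, 18, 10764) .leaf) (146090, 0, 18, 14033) (.node .leaf (146091, 0, 18, 180109) .leaf)) (146094, 0, 14, 170430) (.node (.node .leaf (146095, 0, 14, 49296) .leaf) (146098, 0, 12, 162505) (.node .leaf (146099, 0, 13, 9191) .leaf))) (146102, 0, 17, 1492) (.node (.node (.node .leaf (146103, 0, 17, 154874) .leaf) (146106, 0, 17, 151172) (.node .leaf (146107, 0, 16, 175842) .leaf)) (146110, 0, 18, 161703) (.node (.node .leaf (146111, 0, 11, 177766) .leaf) (146114, 0, 16, 160314) (.node .leaf (146115, 0, 17, 168540) .leaf)))) (146118, 0, 15, 218786) (.node (.node (.node (.node .leaf (146119, 0, 13, 174975) .leaf) (146122, 0, 14, 22434) (.node .leaf (146123, 0, 16, 47044) .leaf)) (146126, 0, 18, 244798) (.node (.node .leaf (146127, 0, 17, 36583) .leaf) (146130, 0, 17, 2671)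 (.node .leaf (146131, 0, 14, 59913) .leaf))) (146134, 0, 16, 73812) (.node (.node (.node .leaf (146135, 0, 13, 54058) .leaf) (146138, 0, 16, 143351) (.node .leaf (146139, 0, 14, 126203) .leaf)) (146142, 0, 15, 117448) (.node (.node .leaf (146143, 0, 16, 194226) .leaf) (146144, 0, 13, 10730) .leaf)))))

/-- part of the orbit tree -/
def itp4_229 : Tree := (.node itp4_225 (145764, 0, 16, 168316) itp4_226)

/-- part of the orbit tree -/
def itp4_230 : Tree := (.node itp4_227 (146022, 0, 15, 105409) itp4_228)

/-- part of the orbit tree -/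
def itp4_231 : Tree := (.node itp4_223 (145378, 0, 12, 261021) itp4_224)

/-- part of the orbit tree -/
def itp4_232 : Tree := (.node itp4_229 (145893, 0, 17, 227387) itp4_230)

/-- part of the orbit tree -/
def itp4_233 : Tree := (.node (.node (.node (.node (.node (.node .leaf (146148, 0, 16, 4297) .leaf) (146149, 0, 14, 236276) (.node .leaf (146152, 0, 13, 134258) .leaf)) (146153, 0, 15, 191508) (.node (.node .leaf (146156, 0, 13, 144721) .leaf) (146157, 0, 17, 185655) (.node .leaf (146160, 0, 16, 117297) .leaf))) (146161, 0, 15, 176601) (.node (.node (.node .leaf (146164, 0, 15, 242988) .leaf) (146165, 0, 16, 166138) (.node .leaf (146168, 0, 16, 29735) .leaf)) (146169, 0, 12, 227715) (.node (.node .leaf (146172, 0, 15, 221104) .leaf) (146173, 0, 17, 44386) (.node .leaf (146178, 0, 18, 11714) .leaf)))) (146179, 0, 17, 32657) (.node (.node (.node (.node .leaf (146182, 0, 17, 22946) .leaf) (146183, 0, 15, 62599) (.node .leaf (146186, 0, 11, 133210) .leaf)) (146187, 0, 17, 38157) (.node (.node .leaf (146190, 0, 13, 45886) .leaf)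 (146191, 0, 17, 190992) (.node .leaf (146194, 0, 16, 152983) .leaf))) (146195, 0, 12, 177649) (.node (.node (.node .leaf (146198, 0, 15, 143188) .leaf) (146199, 0, 15, 167122) (.node .leaf (146202, 0, 17, 28687) .leaf)) (146203, 0, 16, 36969) (.node (.node .leaf (146206, 0, 16, 18732) .leaf) (146207, 0, 14, 40166) (.node .leaf (146208, 0, 18, 46023) .leaf))))) (146209, 0, 18, 169588) (.node (.node (.node (.node (.node .leaf (146212, 0, 16, 151345) .leaf) (146213, 0, 16, 175959) (.node .leaf (146216, 0, 15, 21386) .leaf)) (146217, 0, 13, 46060) (.node (.node .leaf (146220, 0, 11, 140870) .leaf) (146221, 0, 16, 32616) (.node .leaf (146224, 0, 18, 3655) .leaf))) (146225, 0, 14, 39967) (.node (.node (.node .leaf (146228, 0, 12, 47660) .leaf) (146229, 0, 16, 55042) (.node .leaf (146232, 0, 15, 142303) .leaf)) (146233, 0, 17, 30339) (.node (.node .leaf (146236, 0, 15, 20656) .leaf) (146237, 0, 14, 193178) (.node .leaf (146240, 0, 12, 137057) .leaf)))) (146241, 0, 16, 249705) (.node (.node (.node (.node .leaf (146244, 0, 16, 142914)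 .leaf) (146245, 0, 17, 110708) (.node .leaf (146248, 0, 17, 97499) .leaf)) (146249, 0, 14, 206325) (.node (.node .leaf (146252, 0, 16, 3034) .leaf) (146253, 0, 16, 88808) (.node .leaf (146256, 0, 16, 28468) .leaf))) (146257, 0, 16, 36690) (.node (.node (.node .leaf (146260, 0, 17, 106412) .leaf) (146261, 0, 16, 46705) (.node .leaf (146264, 0, 15, 199213) .leaf)) (146265, 0, 12, 174794) (.node (.node .leaf (146268, 0, 11, 95536) .leaf) (146269, 0, 17, 168937) (.node .leaf (146274, 0, 15, 197439) .leaf))))))

/-- part of the orbit tree -/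
def itp4_234 : Tree := (.node (.node (.node (.node (.node (.node .leaf (146278, 0, 10, 97314) .leaf) (146279, 0, 15, 206092) (.node .leaf (146282, 0, 17, 157993) .leaf)) (146283, 0, 16, 166223) (.node (.node .leaf (146286, 0, 17, 151562) .leaf) (146287, 0, 14, 176236) (.node .leaf (146290, 0, 16, 95689) .leaf))) (146291, 0, 16, 185474) (.node (.node (.node .leaf (146294, 0, 17, 134599) .leaf) (146295, 0, 19, 191905) (.node .leaf (146298, 0, 16, 106325) .leaf)) (146299, 0, 15, 247419) (.node (.node .leaf (146302, 0, 17, 254024) .leaf) (146303, 0, 16, 51257) (.node .leaf (146304, 0, 17, 163492) .leaf)))) (146305, 0, 16, 199307) (.node (.node (.node (.node .leaf (146308, 0, 17, 441) .leaf) (146309, 0, 16, 209832) (.node .leaf (146312, 0, 13, 118645) .leaf)) (146313, 0, 17, 52502) (.node (.node .leaf (146316, 0, 18, 60197) .leaf) (146317, 0, 14, 176651) (.node .leaf (146320, 0, 11, 103096) .leaf))) (146321, 0, 16, 94942) (.node (.node (.node .leaf (146324, 0, 13, 161615) .leaf) (146325, 0, 19, 84989) (.node .leaf (146328, 0, 13,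 243488) .leaf)) (146329, 0, 16, 179168) (.node (.node .leaf (146332, 0, 15, 232963) .leaf) (146333, 0, 12, 224869) (.node .leaf (146338, 0, 11, 110909) .leaf))))) (146339, 0, 12, 86363) (.node (.node (.node (.node (.node .leaf (146342, 0, 18, 169153) .leaf) (146343, 0, 14, 92280) (.node .leaf (146346, 0, 16, 320) .leaf)) (146347, 0, 11, 153710) (.node (.node .leaf (146350, 0, 17, 163421) .leaf) (146351, 0, 18, 10099) (.node .leaf (146354, 0, 17, 248168) .leaf))) (146355, 0, 14, 50180) (.node (.node (.node .leaf (146358, 0, 14, 57911) .leaf) (146359, 0, 17, 178969) (.node .leaf (146362, 0, 15, 161718) .leaf)) (146363, 0, 17, 68758) (.node (.node .leaf (146366, 0, 17, 2219) .leaf) (146367, 0, 15, 79285) (.node .leaf (146370, 0, 14, 118862) .leaf)))) (146371, 0, 15, 77864) (.node (.node (.node (.node .leaf (146374, 0, 14, 125293) .leaf) (146375, 0, 14, 67851) (.node .leaf (146378, 0, 15, 259542) .leaf)) (146379, 0, 14, 228846) (.node (.node .leaf (146382, 0, 16, 220125) .leaf) (146383, 0, 17, 208019) (.node .leaf (146386, 0, 16,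 243882) .leaf))) (146387, 0, 17, 215165) (.node (.node (.node .leaf (146390, 0, 17, 116663) .leaf) (146391, 0, 14, 225630) (.node .leaf (146394, 0, 12, 217654) .leaf)) (146395, 0, 17, 68376) (.node (.node .leaf (146398, 0, 18, 111776) .leaf) (146399, 0, 17, 226309) (.node .leaf (146400, 0, 17, 219940) .leaf))))))

/-- part of the orbit tree -/
def itp4_235 : Tree := (.node (.node (.node (.node (.node (.node .leaf (146404, 0, 14, 242365) .leaf) (146405, 0, 14, 228631) (.node .leaf (146408, 0, 18, 242104) .leaf)) (146409, 0, 16, 125078) (.node (.node .leaf (146412, 0, 16, 118437) .leaf) (146413, 0, 16, 96067) (.node .leaf (146416, 0, 14, 127947) .leaf))) (146417, 0, 18, 226556) (.node (.node (.node .leaf (146420, 0, 16, 117480) .leaf) (146421, 0, 14, 76430) (.node .leaf (146424, 0, 13, 251475) .leaf)) (146425, 0, 15, 210485) (.node (.node .leaf (146428, 0, 16, 243795) .leaf) (146429, 0, 12, 123261) (.node .leaf (146433, 0, 16, 30936) .leaf)))) (146435, 0, 15, 233642) (.node (.node (.node (.node .leaf (146437, 0, 17, 208910) .leaf)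 (146439, 0, 15, 126903) (.node .leaf (146441, 0, 15, 37444) .leaf)) (146443, 0, 17, 227894) (.node (.node .leaf (146445, 0, 17, 191833) .leaf) (146447, 0, 17, 66859) (.node .leaf (146449, 0, 17, 134702) .leaf))) (146451, 0, 15, 8541) (.node (.node (.node .leaf (146453, 0, 14, 28979) .leaf) (146455, 0, 19, 235841) (.node .leaf (146457, 0, 17, 189618) .leaf)) (146459, 0, 14, 132293) (.node (.node .leaf (146461, 0, 18, 224707) .leaf) (146463, 0, 16, 226269) (.node .leaf (146464, 0, 17, 58046) .leaf))))) (146466, 0, 18, 46222) (.node (.node (.node (.node (.node .leaf (146468, 0, 16, 56221) .leaf) (146470, 0, 19, 101304) (.node .leaf (146472, 0, 16, 243296) .leaf)) (146474, 0, 15, 235267) (.node (.node .leaf (146476, 0, 18, 117117) .leaf) (146478, 0, 17, 241184) (.node .leaf (146480, 0, 18, 170731) .leaf))) (146482, 0, 15, 248526) (.node (.node (.node .leaf (146484, 0, 10, 218391) .leaf) (146486, 0, 17, 259053) (.node .leaf (146488, 0, 16, 49011) .leaf)) (146490, 0, 15, 141540) (.node (.node .leaf (146492, 0, 11, 245643) .leaf)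 (146494, 0, 17, 22521) (.node .leaf (146496, 0, 17, 33741) .leaf)))) (146498, 0, 17, 102670) (.node (.node (.node (.node .leaf (146500, 0, 16, 1633) .leaf) (146502, 0, 16, 125643) (.node .leaf (146504, 0, 15, 173653) .leaf)) (146506, 0, 15, 259696) (.node (.node .leaf (146508, 0, 17, 171894) .leaf) (146510, 0, 15, 197775) (.node .leaf (146512, 0, 18, 3978) .leaf))) (146514, 0, 14, 240573) (.node (.node (.node .leaf (146516, 0, 11, 159895) .leaf) (146518, 0, 17, 234142) (.node .leaf (146520, 0, 16, 58646) .leaf)) (146522, 0, 15, 101925) (.node (.node .leaf (146524, 0, 16, 59171) .leaf) (146526, 0, 13, 112390) (.node .leaf (146529, 0, 17, 89432) .leaf))))))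

/-- part of the orbit tree -/
def itp4_236 : Tree := (.node (.node (.node (.node (.node (.node .leaf (146533, 0, 15, 217469) .leaf) (146535, 0, 16, 51767) (.node .leaf (146537, 0, 12, 112580) .leaf)) (146539, 0, 17, 7651) (.node (.node .leaf (146541, 0, 18, 248025) .leaf) (146543, 0, 16, 9408) (.node .leaf (146545, 0, 16, 207790) .leaf))) (146547, 0, 13, 50140) (.node (.node (.node .leaf (146549, 0, 15, 87219) .leaf) (146551, 0, 17, 179393) (.node .leaf (146553, 0, 15, 210323) .leaf)) (146555, 0, 17, 157110) (.node (.node .leaf (146557, 0, 15, 114223) .leaf) (146559, 0, 14, 153181) (.node .leaf (146560, 0, 18, 97857) .leaf)))) (146562, 0, 18, 11876) (.node (.node (.node (.node .leaf (146564, 0, 16, 257666) .leaf) (146566, 0, 17, 5959) (.node .leaf (146568, 0, 17, 220121) .leaf)) (146570, 0, 16, 134140) (.node (.node .leaf (146572, 0, 15, 221946) .leaf) (146574, 0, 17, 144095) (.node .leaf (146576, 0, 18, 255849) .leaf))) (146578, 0, 17, 3867) (.node (.node (.node .leaf (146580, 0, 16, 212791) .leaf) (146582, 0, 15, 159750)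 (.node .leaf (146584, 0, 17, 200181) .leaf)) (146586, 0, 16, 58759) (.node (.node .leaf (146588, 0, 12, 72367) .leaf) (146590, 0, 15, 170650) (.node .leaf (146593, 0, 14, 177595) .leaf))))) (146595, 0, 18, 89545) (.node (.node (.node (.node (.node .leaf (146597, 0, 12, 51878) .leaf) (146599, 0, 17, 261332) (.node .leaf (146601, 0, 17, 45130) .leaf)) (146603, 0, 16, 112469) (.node (.node .leaf (146605, 0, 12, 8250) .leaf) (146607, 0, 13, 121164) (.node .leaf (146609, 0, 17, 60807) .leaf))) (146611, 0, 15, 207679) (.node (.node (.node .leaf (146613, 0, 14, 54436) .leaf) (146615, 0, 18, 99457) (.node .leaf (146617, 0, 19, 10705) .leaf)) (146619, 0, 16, 235578) (.node (.node .leaf (146621, 0, 16, 192828) .leaf) (146623, 0, 15, 114366) (.node .leaf (146625, 0, 15, 233531) .leaf)))) (146627, 0, 15, 238724) (.node (.node (.node (.node .leaf (146629, 0, 13, 126758) .leaf) (146631, 0, 12, 132948) (.node .leaf (146633, 0, 16, 228007) .leaf)) (146635, 0, 18, 37589) (.node (.node .leaf (146637, 0, 15, 59418) .leaf) (146639, 0, 14, 112703)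 (.node .leaf (146641, 0, 16, 124621) .leaf))) (146643, 0, 15, 134847) (.node (.node (.node .leaf (146645, 0, 15, 46551) .leaf) (146647, 0, 17, 29090) (.node .leaf (146649, 0, 16, 68689) .leaf)) (146651, 0, 12, 260425) (.node (.node .leaf (146653, 0, 16, 226124) .leaf) (146655, 0, 16, 39742) (.node .leaf (146656, 0, 17, 46111) .leaf))))))

/-- part of the orbit tree -/
def itp4_237 : Tree := (.node itp4_233 (146275, 0, 17, 44247) itp4_234)

/-- part of the orbit tree -/
def itp4_238 : Tree := (.node itp4_235 (146531, 0, 14, 145531) itp4_236)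

/-- part of the orbit tree -/
def itp4_239 : Tree := (.node (.node (.node (.node (.node (.node .leaf (146660, 0, 17, 183042) .leaf) (146662, 0, 16, 30260) (.node .leaf (146664, 0, 17, 211626) .leaf)) (146666, 0, 15, 243441) (.node (.node .leaf (146668, 0, 15, 197513) .leaf) (146670, 0, 14, 152492) (.node .leaf (146672, 0, 15, 223079) .leaf))) (146674, 0, 16, 145218) (.node (.node (.node .leaf (146676, 0, 17, 220740) .leaf) (146678, 0, 19, 218502) (.node .leaf (146680, 0, 15, 82687) .leaf)) (146682, 0, 11, 114695) (.node (.node .leaf (146684, 0, 14, 97244) .leaf) (146686, 0, 17, 11257) (.node .leaf (146689, 0, 17, 40763) .leaf)))) (146691, 0, 14, 227145) (.node (.node (.node (.node .leaf (146693, 0, 18, 188454) .leaf) (146695, 0, 18, 67668) (.node .leaf (146697, 0, 19, 167617) .leaf)) (146699, 0, 15, 253668) (.node (.node .leaf (146701, 0, 17, 133818) .leaf) (146703, 0, 15, 255943) (.node .leaf (146705, 0, 14, 190925) .leaf))) (146707, 0, 13, 65983) (.node (.node (.node .leaf (146709, 0, 16, 191023) .leaf) (146711, 0, 16, 244234)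 (.node .leaf (146713, 0, 15, 131921) .leaf)) (146715, 0, 18, 108209) (.node (.node .leaf (146717, 0, 16, 53175) .leaf) (146719, 0, 16, 106386) (.node .leaf (146720, 0, 13, 213194) .leaf))))) (146722, 0, 16, 135407) (.node (.node (.node (.node (.node .leaf (146724, 0, 12, 227817) .leaf) (146726, 0, 17, 142448) (.node .leaf (146728, 0, 18, 217475) .leaf)) (146730, 0, 11, 13687) (.node (.node .leaf (146732, 0, 16, 77470) .leaf) (146734, 0, 14, 3156) (.node .leaf (146736, 0, 16, 118249) .leaf))) (146738, 0, 15, 26810) (.node (.node (.node .leaf (146740, 0, 17, 242420) .leaf) (146742, 0, 18, 23174) (.node .leaf (146744, 0, 13, 75637) .leaf)) (146746, 0, 11, 184071) (.node (.node .leaf (146748, 0, 17, 205860) .leaf) (146750, 0, 15, 45082) (.node .leaf (146752, 0, 15, 171679) .leaf)))) (146754, 0, 16, 95981) (.node (.node (.node (.node .leaf (146756, 0, 14, 57730) .leaf) (146758, 0, 14, 149695) (.node .leaf (146760, 0, 18, 66593) .leaf)) (146762, 0, 16, 105585) (.node (.node .leaf (146764, 0, 14, 81154) .leaf) (146766, 0, 15, 27943)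 (.node .leaf (146768, 0, 12, 59497) .leaf))) (146770, 0, 18, 196635) (.node (.node (.node .leaf (146772, 0, 14, 169844) .leaf) (146774, 0, 14, 12522) (.node .leaf (146776, 0, 13, 757) .leaf)) (146778, 0, 14, 142417) (.node (.node .leaf (146780, 0, 17, 163304) .leaf) (146782, 0, 14, 136562) (.node .leaf (146785, 0, 18, 113339) .leaf))))))

/-- part of the orbit tree -/
def itp4_240 : Tree := (.node (.node (.node (.node (.node (.node .leaf (146789, 0, 16, 62217) .leaf) (146791, 0, 15, 11732) (.node .leaf (146793, 0, 16, 192434) .leaf)) (146795, 0, 12, 245655) (.node (.node .leaf (146797, 0, 14, 208698) .leaf) (146799, 0, 16, 51016) (.node .leaf (146801, 0, 11, 176767) .leaf))) (146803, 0, 13, 9279) (.node (.node (.node .leaf (146805, 0, 17, 166748) .leaf) (146807, 0, 18, 252793) (.node .leaf (146809, 0, 15, 206545) .leaf)) (146811, 0, 15, 116674) (.node (.node .leaf (146813, 0, 15, 88524) .leaf) (146815, 0, 16, 176574) (.node .leaf (146816, 0, 18, 187445) .leaf)))) (146818, 0, 13, 171534) (.node (.node (.node (.node .leaf (146820,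 0, 18, 189718) .leaf) (146822, 0, 16, 242995) (.node .leaf (146824, 0, 16, 105696) .leaf)) (146826, 0, 16, 160914) (.node (.node .leaf (146828, 0, 14, 49294) .leaf) (146830, 0, 16, 2959) (.node .leaf (146832, 0, 17, 42080) .leaf))) (146834, 0, 17, 128069) (.node (.node (.node .leaf (146836, 0, 17, 98199) .leaf) (146838, 0, 16, 118118) (.node .leaf (146840, 0, 9, 256534) .leaf)) (146842, 0, 10, 250333) (.node (.node .leaf (146844, 0, 15, 103691) .leaf) (146846, 0, 17, 163193) (.node .leaf (146849, 0, 15, 79782) .leaf))))) (146851, 0, 17, 113194) (.node (.node (.node (.node (.node .leaf (146853, 0, 17, 69253) .leaf) (146855, 0, 18, 24224) (.node .leaf (146857, 0, 17, 178372) .leaf)) (146859, 0, 14, 147995) (.node (.node .leaf (146861, 0, 15, 51161) .leaf) (146863, 0, 17, 162616) (.node .leaf (146865, 0, 13, 217075) .leaf))) (146867, 0, 15, 249052) (.node (.node (.node .leaf (146869, 0, 11, 154547) .leaf) (146871, 0, 17, 141045) (.node .leaf (146873, 0, 16, 92779) .leaf)) (146875, 0, 16, 14926) (.node (.node .leaf (146877, 0,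 18, 176431) .leaf) (146879, 0, 16, 877) (.node .leaf (146881, 0, 15, 87765) .leaf)))) (146883, 0, 14, 40874) (.node (.node (.node (.node .leaf (146885, 0, 14, 94198) .leaf) (146887, 0, 16, 188599) (.node .leaf (146889, 0, 18, 226125) .leaf)) (146891, 0, 15, 140136) (.node (.node .leaf (146893, 0, 16, 123481) .leaf) (146895, 0, 16, 133675) (.node .leaf (146897, 0, 15, 65838) .leaf))) (146899, 0, 12, 163493) (.node (.node (.node .leaf (146901, 0, 18, 228915) .leaf) (146903, 0, 17, 149382) (.node .leaf (146905, 0, 17, 68376) .leaf)) (146907, 0, 15, 23357) (.node (.node .leaf (146909, 0, 14, 234671) .leaf) (146911, 0, 17, 31965) (.node .leaf (146912, 0, 17, 179526) .leaf))))))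

/-- part of the orbit tree -/
def itp4_241 : Tree := (.node (.node (.node (.node (.node (.node .leaf (146916, 0, 13, 142561) .leaf) (146918, 0, 17, 115859) (.node .leaf (146920, 0, 15, 47456) .leaf)) (146922, 0, 16, 116987) (.node (.node .leaf (146924, 0, 15, 41469) .leaf) (146926, 0, 18, 77327) (.node .leaf (146928, 0, 18, 140554) .leaf))) (146930, 0, 14, 103734) (.node (.node (.node .leaf (146932, 0, 17, 64560) .leaf) (146934, 0, 16, 109589) (.node .leaf (146936, 0, 18, 188555) .leaf)) (146938, 0, 16, 241838) (.node (.node .leaf (146940, 0, 15, 45195) .leaf) (146942, 0, 16, 219385) (.node .leaf (146944, 0, 13, 140506) .leaf)))) (146945, 0, 16, 206173) (.node (.node (.node (.node .leaf (146946, 0, 17, 169246) .leaf) (146947, 0, 15, 234886) (.node .leaf (146948, 0, 16, 23495) .leaf)) (146949, 0, 16, 131817) (.node (.node .leaf (146950, 0, 12, 175165) .leaf) (146951, 0, 18, 125595) (.node .leaf (146952, 0, 15, 183878) .leaf))) (146953, 0, 17, 38760) (.node (.node (.node .leaf (146954, 0, 14, 75316) .leaf) (146955, 0, 16, 20704)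 (.node .leaf (146956, 0, 17, 121216) .leaf)) (146957, 0, 14, 80358) (.node (.node .leaf (146958, 0, 17, 35237) .leaf) (146959, 0, 17, 65543) (.node .leaf (146960, 0, 14, 21036) .leaf))))) (146961, 0, 15, 89352) (.node (.node (.node (.node (.node .leaf (146962, 0, 17, 244318) .leaf) (146963, 0, 14, 3373) (.node .leaf (146964, 0, 14, 142641) .leaf)) (146965, 0, 16, 91179) (.node (.node .leaf (146966, 0, 8, 116035) .leaf) (146967, 0, 14, 13326) (.node .leaf (146968, 0, 18, 47280) .leaf))) (146969, 0, 14, 188830) (.node (.node (.node .leaf (146970, 0, 13, 182483) .leaf) (146971, 0, 14, 141493) (.node .leaf (146972, 0, 18, 182189) .leaf)) (146973, 0, 17, 40579) (.node (.node .leaf (146974, 0, 18, 77791) .leaf) (146975, 0, 16, 135574) (.node .leaf (147040, 0, 16, 196954) .leaf)))) (147041, 0, 18, 214062) (.node (.node (.node (.node .leaf (147042, 0, 17, 59688) .leaf) (147043, 0, 18, 176134) (.node .leaf (147044, 0, 16, 236907) .leaf)) (147045, 0, 15, 206697) (.node (.node .leaf (147046, 0, 16, 169525) .leaf) (147047, 0, 15, 53019)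 (.node .leaf (147048, 0, 18, 98768) .leaf))) (147049, 0, 18, 90550) (.node (.node (.node .leaf (147050, 0, 18, 948) .leaf) (147051, 0, 9, 154266) (.node .leaf (147052, 0, 18, 103643) .leaf)) (147053, 0, 17, 88213) (.node (.node .leaf (147054, 0, 17, 59606) .leaf) (147055, 0, 18, 2224) (.node .leaf (147056, 0, 14, 121885) .leaf))))))

/-- part of the orbit tree -/
def itp4_242 : Tree := (.node (.node (.node (.node (.node (.node .leaf (147058, 0, 13, 171998) .leaf) (147059, 0, 13, 50928) (.node .leaf (147060, 0, 17, 198833) .leaf)) (147061, 0, 14, 86431) (.node (.node .leaf (147062, 0, 17, 57539) .leaf) (147063, 0, 13, 178669) (.node .leaf (147064, 0, 18, 260485) .leaf))) (147065, 0, 18, 246814) (.node (.node (.node .leaf (147066, 0, 16, 174496) .leaf) (147067, 0, 17, 11372) (.node .leaf (147068, 0, 15, 245926) .leaf)) (147069, 0, 15, 113411) (.node (.node .leaf (147070, 0, 12, 168067) .leaf) (147071, 0, 14, 152433) (.node .leaf (147104, 0, 13, 154052) .leaf)))) (147105, 0, 16, 176279) (.node (.node (.node (.node .leaf (147106,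 0, 16, 199137) .leaf) (147107, 0, 14, 256391) (.node .leaf (147108, 0, 16, 169636) .leaf)) (147109, 0, 9, 53130) (.node (.node .leaf (147110, 0, 16, 98006) .leaf) (147111, 0, 14, 250020) (.node .leaf (147112, 0, 11, 805) .leaf))) (147113, 0, 16, 154123) (.node (.node (.node .leaf (147114, 0, 12, 76921) .leaf) (147115, 0, 15, 117791) (.node .leaf (147116, 0, 15, 17791) .leaf)) (147117, 0, 16, 42265) (.node (.node .leaf (147118, 0, 15, 71002) .leaf) (147119, 0, 17, 128316) (.node .leaf (147120, 0, 15, 8593) .leaf))))) (147121, 0, 19, 49655) (.node (.node (.node (.node (.node .leaf (147122, 0, 15, 96061) .leaf) (147123, 0, 15, 102866) (.node .leaf (147124, 0, 16, 6322) .leaf)) (147125, 0, 16, 178556) (.node (.node .leaf (147126, 0, 17, 198688) .leaf) (147127, 0, 15, 86286) (.node .leaf (147128, 0, 16, 161235) .leaf))) (147129, 0, 15, 189551) (.node (.node (.node .leaf (147130, 0, 17, 218156) .leaf) (147131, 0, 15, 246927) (.node .leaf (147132, 0, 12, 146730) .leaf)) (147133, 0, 17, 152544) (.node (.node .leaf (147134, 0, 16, 224527)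 .leaf) (147135, 0, 17, 232809) (.node .leaf (147136, 0, 17, 145591) .leaf)))) (147137, 0, 19, 186577) (.node (.node (.node (.node .leaf (147138, 0, 16, 140363) .leaf) (147139, 0, 18, 231668) (.node .leaf (147140, 0, 14, 242468) .leaf)) (147141, 0, 18, 125450) (.node (.node .leaf (147142, 0, 17, 217521) .leaf) (147143, 0, 17, 242135) (.node .leaf (147144, 0, 16, 7471) .leaf))) (147145, 0, 13, 229259) (.node (.node (.node .leaf (147146, 0, 15, 85258) .leaf) (147147, 0, 15, 38905) (.node .leaf (147148, 0, 17, 9228) .leaf)) (147149, 0, 17, 65686) (.node (.node .leaf (147150, 0, 14, 45514) .leaf) (147151, 0, 16, 190692) .leaf)))))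

/-- part of the orbit tree -/
def itp4_243 : Tree := (.node itp4_239 (146787, 0, 18, 104975) itp4_240)

/-- part of the orbit tree -/
def itp4_244 : Tree := (.node itp4_241 (147057, 0, 17, 208514) itp4_242)

/-- part of the orbit tree -/
def itp4_245 : Tree := (.node itp4_237 (146401, 0, 17, 224248) itp4_238)

/-- part of the orbit tree -/
def itp4_246 : Tree := (.node itp4_243 (146914, 0, 18, 244622) itp4_244)

/-- part of the orbit tree -/
def itp4_247 : Tree := (.node itp4_231 (145637, 0, 16, 56543) itp4_232)

/-- part of the orbit tree -/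
def itp4_248 : Tree := (.node itp4_245 (146658, 0, 16, 20247) itp4_246)

/-- part of the orbit tree -/
def itp4_249 : Tree := (.node itp4_217 (144101, 0, 14, 253899) itp4_218)

/-- part of the orbit tree -/
def itp4_250 : Tree := (.node itp4_247 (146145, 0, 14, 124393) itp4_248)

/-- part of the orbit tree -/
def itp4_251 : Tree := (.node itp4_187 (141034, 0, 15, 140439) itp4_188)

/-- part of the orbit tree -/
def itp4_252 : Tree := (.node itp4_249 (145122, 0, 17, 138619) itp4_250)

/-- part of the orbit tree -/
def itp4_253 : Tree := (.node itp4_125 (134900, 0, 14, 46106) itp4_126)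

/-- part of the orbit tree -/
def itp4_254 : Tree := (.node itp4_251 (143076, 0, 16, 203867) itp4_252)

/-- part of the orbit tree -/
def itp4_255 : Tree := (.node (.node (.node (.node (.node (.node .leaf (147153, 0, 17, 123873) .leaf) (147154, 0, 15, 21181) (.node .leaf (147155, 0, 14, 127137) .leaf)) (147156, 0, 17, 31169) (.node (.node .leaf (147157, 0, 13, 39335) .leaf) (147158, 0, 16, 76260) (.node .leaf (147159, 0, 16, 117122) .leaf))) (147160, 0, 16, 157050) (.node (.node (.node .leaf (147161, 0, 18, 67965) .leaf) (147162, 0, 16, 210271) (.node .leaf (147163, 0, 12, 251193) .leaf)) (147164, 0, 17, 77646) (.node (.node .leaf (147165, 0, 18, 226912) .leaf) (147166, 0, 17, 199804) (.node .leaf (147167, 0, 17, 40466) .leaf)))) (147200, 0, 17, 26447) (.node (.node (.node (.node .leaf (147201, 0, 15, 39447) .leaf) (147202, 0, 16, 79722) (.node .leaf (147203, 0, 14, 120588) .leaf)) (147204, 0, 16, 24172) (.node (.node .leaf (147205, 0, 17, 189706) .leaf) (147206, 0, 16, 69193) (.node .leaf (147207, 0, 17, 68984) .leaf))) (147208,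 0, 17, 148183) (.node (.node (.node .leaf (147209, 0, 18, 28811) .leaf) (147210, 0, 18, 201458) (.node .leaf (147211, 0, 18, 258708) .leaf)) (147212, 0, 16, 162804) (.node (.node .leaf (147213, 0, 13, 135062) .leaf) (147214, 0, 14, 245450) (.node .leaf (147215, 0, 16, 124900) .leaf))))) (147216, 0, 18, 46543) (.node (.node (.node (.node (.node .leaf (147217, 0, 17, 191713) .leaf) (147218, 0, 13, 220605) (.node .leaf (147219, 0, 14, 66707) .leaf)) (147220, 0, 14, 182994) (.node (.node .leaf (147221, 0, 16, 181855) .leaf) (147222, 0, 18, 226844) (.node .leaf (147223, 0, 17, 228238) .leaf))) (147224, 0, 15, 24403) (.node (.node (.node .leaf (147225, 0, 19, 132733) .leaf) (147226, 0, 14, 243489) (.node .leaf (147227, 0, 16, 101057) .leaf)) (147228, 0, 16, 139342) (.node (.node .leaf (147229, 0, 16, 31072) .leaf) (147230, 0, 15, 116796) (.node .leaf (147231, 0, 14, 233746) .leaf)))) (147296, 0, 15, 1596) (.node (.node (.node (.node .leaf (147297, 0, 15, 114583) .leaf) (147298, 0, 15, 3787) (.node .leaf (147299, 0, 17, 112255) .leaf))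 (147300, 0, 14, 104868) (.node (.node .leaf (147301, 0, 15, 57209) .leaf) (147302, 0, 13, 160214) (.node .leaf (147303, 0, 17, 102236) .leaf))) (147304, 0, 14, 199717) (.node (.node (.node .leaf (147305, 0, 13, 181186) .leaf) (147306, 0, 18, 58455) (.node .leaf (147307, 0, 12, 179577) .leaf)) (147308, 0, 17, 137863) (.node (.node .leaf (147309, 0, 16, 207382) .leaf) (147310, 0, 16, 215714) (.node .leaf (147311, 0, 15, 240324) .leaf))))))

/-- part of the orbit tree -/
def itp4_256 : Tree := (.node (.node (.node (.node (.node (.node .leaf (147313, 0, 16, 171535) .leaf) (147314, 0, 18, 161853) (.node .leaf (147315, 0, 17, 8467) .leaf)) (147316, 0, 14, 257874) (.node (.node .leaf (147317, 0, 19, 112252) .leaf) (147318, 0, 15, 202607) (.node .leaf (147319, 0, 17, 155150) .leaf))) (147320, 0, 17, 96979) (.node (.node (.node .leaf (147321, 0, 14, 48023) .leaf) (147322, 0, 15, 168609) (.node .leaf (147323, 0, 15, 52111) .leaf)) (147324, 0, 14, 25298) (.node (.node .leaf (147325, 0, 11, 89312) .leaf) (147326, 0, 19, 78583) (.node .leaf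 (147327, 0, 18, 119441) .leaf)))) (147360, 0, 16, 3674) (.node (.node (.node (.node .leaf (147361, 0, 16, 72662) .leaf) (147362, 0, 17, 43925) (.node .leaf (147363, 0, 16, 19443) .leaf)) (147364, 0, 17, 160071) (.node (.node .leaf (147365, 0, 17, 10345) .leaf) (147366, 0, 17, 104757) (.node .leaf (147367, 0, 11, 29392) .leaf))) (147368, 0, 16, 58566) (.node (.node (.node .leaf (147369, 0, 14, 179688) .leaf) (147370, 0, 18, 199860) (.node .leaf (147371, 0, 16, 87450) .leaf)) (147372, 0, 13, 255755) (.node (.node .leaf (147373, 0, 15, 49909) .leaf) (147374, 0, 18, 95145) (.node .leaf (147375, 0, 16, 207495) .leaf))))) (147376, 0, 18, 161964) (.node (.node (.node (.node (.node .leaf (147377, 0, 14, 222083) .leaf) (147378, 0, 17, 102622) (.node .leaf (147379, 0, 17, 144294) .leaf)) (147380, 0, 15, 244422) (.node (.node .leaf (147381, 0, 16, 219808) .leaf) (147382, 0, 15, 191203) (.node .leaf (147383, 0, 17, 133765) .leaf))) (147384, 0, 15, 168496) (.node (.node (.node .leaf (147385, 0, 17, 83483) .leaf) (147386, 0, 18, 63064) (.node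 .leaf (147387, 0, 13, 205676) .leaf)) (147388, 0, 17, 106334) (.node (.node .leaf (147389, 0, 16, 177155) .leaf) (147390, 0, 11, 197983) (.node .leaf (147391, 0, 13, 12061) .leaf)))) (147392, 0, 18, 76762) (.node (.node (.node (.node .leaf (147393, 0, 17, 226036) .leaf) (147394, 0, 13, 51942) (.node .leaf (147395, 0, 18, 39558) .leaf)) (147396, 0, 16, 218311) (.node (.node .leaf (147397, 0, 16, 82822) .leaf) (147398, 0, 13, 62405) (.node .leaf (147399, 0, 16, 5027) .leaf))) (147400, 0, 17, 245595) (.node (.node (.node .leaf (147401, 0, 15, 235624) .leaf) (147402, 0, 14, 141620) (.node .leaf (147403, 0, 18, 134936) .leaf)) (147404, 0, 18, 245339) (.node (.node .leaf (147405, 0, 14, 222750) .leaf) (147406, 0, 17, 185949) (.node .leaf (147407, 0, 16, 134919) .leaf))))))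

/-- part of the orbit tree -/
def itp4_257 : Tree := (.node (.node (.node (.node (.node (.node .leaf (147409, 0, 13, 197360) .leaf) (147410, 0, 17, 46430) (.node .leaf (147411, 0, 14, 152277) .leaf)) (147412, 0, 17, 252853) (.node (.node .leaf (147413, 0, 14, 228127) .leaf) (147414, 0, 15, 166800) (.node .leaf (147415, 0, 14, 37741) .leaf))) (147416, 0, 17, 116494) (.node (.node (.node .leaf (147417, 0, 14, 75624) .leaf) (147418, 0, 18, 24514) (.node .leaf (147419, 0, 16, 30541) .leaf)) (147420, 0, 16, 130605) (.node (.node .leaf (147421, 0, 14, 73291) .leaf) (147422, 0, 17, 139487) (.node .leaf (147423, 0, 17, 31217) .leaf)))) (147456, 0, 17, 18637) (.node (.node (.node (.node .leaf (147459, 0, 17, 129425) .leaf) (147461, 0, 17, 28414) (.node .leaf (147462, 0, 17, 122786) .leaf)) (147465, 0, 10, 94122) (.node (.node .leaf (147466, 0, 18, 57321) .leaf) (147468, 0, 17, 112367) (.node .leaf (147471, 0, 16, 1708) .leaf))) (147473, 0, 17, 78439) (.node (.node (.node .leaf (147474, 0, 17, 120393) .leaf) (147476, 0, 18, 125730)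 (.node .leaf (147479, 0, 15, 127098) .leaf)) (147480, 0, 17, 185511) (.node (.node .leaf (147483, 0, 14, 149466) .leaf) (147485, 0, 17, 193172) (.node .leaf (147486, 0, 15, 171679) .leaf))))) (147488, 0, 17, 79303) (.node (.node (.node (.node (.node .leaf (147491, 0, 18, 70114) .leaf) (147493, 0, 16, 70644) (.node .leaf (147494, 0, 15, 116903) .leaf)) (147497, 0, 17, 156767) (.node (.node .leaf (147498, 0, 16, 250908) .leaf) (147500, 0, 16, 237638) (.node .leaf (147503, 0, 17, 135450) .leaf))) (147505, 0, 15, 145810) (.node (.node (.node .leaf (147506, 0, 12, 43843) .leaf) (147508, 0, 16, 80940) (.node .leaf (147511, 0, 16, 36208) .leaf)) (147512, 0, 15, 240045) (.node (.node .leaf (147515, 0, 17, 85039) .leaf) (147517, 0, 14, 9513) (.node .leaf (147518, 0, 12, 103786) .leaf)))) (147521, 0, 16, 8372) (.node (.node (.node (.node .leaf (147522, 0, 15, 102647) .leaf) (147524, 0, 16, 63985) (.node .leaf (147527, 0, 17, 253446) .leaf)) (147528, 0, 16, 64219) (.node (.node .leaf (147531, 0, 10, 218377) .leaf) (147533, 0, 16, 56552)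 (.node .leaf (147534, 0, 14, 232524) .leaf))) (147536, 0, 18, 157361) (.node (.node (.node .leaf (147539, 0, 16, 198852) .leaf) (147541, 0, 17, 147586) (.node .leaf (147542, 0, 17, 250241) .leaf)) (147545, 0, 19, 54531) (.node (.node .leaf (147546, 0, 19, 91231) .leaf) (147548, 0, 13, 42044) (.node .leaf (147551, 0, 16, 70783) .leaf))))))

/-- part of the orbit tree -/
def itp4_258 : Tree := (.node (.node (.node (.node (.node (.node .leaf (147554, 0, 15, 165183) .leaf) (147556, 0, 15, 258564) (.node .leaf (147559, 0, 15, 172812) .leaf)) (147560, 0, 15, 100305) (.node (.node .leaf (147563, 0, 14, 13965) .leaf) (147565, 0, 14, 106978) (.node .leaf (147566, 0, 13, 4286) .leaf))) (147568, 0, 16, 111474) (.node (.node (.node .leaf (147571, 0, 18, 817) .leaf) (147573, 0, 14, 212360) (.node .leaf (147574, 0, 16, 55924) .leaf)) (147577, 0, 14, 226956) (.node (.node .leaf (147578, 0, 18, 6485) .leaf) (147580, 0, 17, 241609) (.node .leaf (147583, 0, 12, 139146) .leaf)))) (147585, 0, 17, 122168) (.node (.node (.node (.node .leaf (147586,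 0, 16, 28027) .leaf) (147588, 0, 13, 66685) (.node .leaf (147591, 0, 16, 46142) .leaf)) (147592, 0, 14, 202950) (.node (.node .leaf (147595, 0, 14, 172900) .leaf) (147597, 0, 15, 246147) (.node .leaf (147598, 0, 15, 160192) .leaf))) (147600, 0, 18, 214283) (.node (.node (.node .leaf (147603, 0, 15, 193864) .leaf) (147605, 0, 14, 108641) (.node .leaf (147606, 0, 18, 6461) .leaf)) (147609, 0, 16, 212448) (.node (.node .leaf (147610, 0, 13, 12470) .leaf) (147612, 0, 13, 88496) (.node .leaf (147615, 0, 16, 59891) .leaf))))) (147617, 0, 14, 56448) (.node (.node (.node (.node (.node .leaf (147618, 0, 18, 93660) .leaf) (147620, 0, 17, 64179) (.node .leaf (147623, 0, 15, 245707) .leaf)) (147624, 0, 18, 4915) (.node (.node .leaf (147627, 0, 17, 107376) .leaf) (147629, 0, 17, 149761) (.node .leaf (147630, 0, 17, 96821) .leaf))) (147632, 0, 15, 20222) (.node (.node (.node .leaf (147635, 0, 16, 130749) .leaf) (147637, 0, 14, 54635) (.node .leaf (147638, 0, 16, 75768) .leaf)) (147641, 0, 16, 166656) (.node (.node .leaf (147642, 0, 14, 211779)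 .leaf) (147644, 0, 15, 152133) (.node .leaf (147647, 0, 18, 254470) .leaf)))) (147648, 0, 16, 237614) (.node (.node (.node (.node .leaf (147651, 0, 16, 135538) .leaf) (147653, 0, 15, 230941) (.node .leaf (147654, 0, 16, 145217) .leaf)) (147657, 0, 14, 37414) (.node (.node .leaf (147658, 0, 16, 41664) .leaf) (147660, 0, 18, 79279) (.node .leaf (147663, 0, 15, 129824) .leaf))) (147665, 0, 16, 53227) (.node (.node (.node .leaf (147666, 0, 13, 147114) .leaf) (147668, 0, 18, 240069) (.node .leaf (147671, 0, 16, 108269) .leaf)) (147672, 0, 17, 133653) (.node (.node .leaf (147675, 0, 16, 244310) .leaf) (147677, 0, 16, 72311) (.node .leaf (147678, 0, 14, 221971) .leaf))))))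

/-- part of the orbit tree -/
def itp4_259 : Tree := (.node itp4_255 (147312, 0, 12, 102479) itp4_256)

/-- part of the orbit tree -/
def itp4_260 : Tree := (.node itp4_257 (147553, 0, 17, 207681) itp4_258)

/-- part of the orbit tree -/
def itp4_261 : Tree := (.node (.node (.node (.node (.node (.node .leaf (147683, 0, 18, 60526) .leaf) (147685, 0, 16, 195351) (.node .leaf (147686, 0, 15, 215627) .leaf)) (147689, 0, 16, 28310) (.node (.node .leaf (147690, 0, 16, 122826) .leaf) (147692, 0, 16, 18597) (.node .leaf (147695, 0, 18, 192725) .leaf))) (147697, 0, 16, 193276) (.node (.node (.node .leaf (147698, 0, 17, 160861) .leaf) (147700, 0, 15, 185551) (.node .leaf (147703, 0, 17, 222611) .leaf)) (147704, 0, 15, 66016) (.node (.node .leaf (147707, 0, 15, 45475) .leaf) (147709, 0, 15, 26493) (.node .leaf (147710, 0, 19, 120353) .leaf)))) (147712, 0, 17, 2080) (.node (.node (.node (.node .leaf (147715, 0, 15, 73330) .leaf) (147717, 0, 16, 35101) (.node .leaf (147718, 0, 8, 79937) .leaf)) (147721, 0, 17, 138396) (.node (.node .leaf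 (147722, 0, 16, 241088) .leaf) (147724, 0, 15, 146095) (.node .leaf (147727, 0, 16, 238808) .leaf))) (147729, 0, 19, 167955) (.node (.node (.node .leaf (147730, 0, 18, 78250) .leaf) (147732, 0, 15, 42693) (.node .leaf (147735, 0, 16, 71577) .leaf)) (147736, 0, 15, 21997) (.node (.node .leaf (147739, 0, 17, 229912) .leaf) (147741, 0, 13, 36008) (.node .leaf (147742, 0, 14, 81131) .leaf))))) (147744, 0, 17, 197589) (.node (.node (.node (.node (.node .leaf (147747, 0, 14, 25464) .leaf) (147749, 0, 17, 128023) (.node .leaf (147750, 0, 16, 158419) .leaf)) (147753, 0, 15, 116267) (.node (.node .leaf (147754, 0, 15, 184522) .leaf) (147756, 0, 16, 73582) (.node .leaf (147759, 0, 8, 194297) .leaf))) (147761, 0, 12, 130556) (.node (.node (.node .leaf (147762, 0, 16, 11173) .leaf) (147764, 0, 18, 121807) (.node .leaf (147767, 0, 16, 27283) .leaf)) (147768, 0, 17, 220696) (.node (.node .leaf (147771, 0, 13, 192091) .leaf) (147773, 0, 16, 223357) (.node .leaf (147774, 0, 18, 145182) .leaf)))) (147777, 0, 14, 230080) (.node (.node (.node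 (.node .leaf (147778, 0, 15, 144003) .leaf) (147780, 0, 13, 220037) (.node .leaf (147783, 0, 18, 191430) .leaf)) (147784, 0, 17, 83774) (.node (.node .leaf (147787, 0, 16, 109668) .leaf) (147789, 0, 14, 106107) (.node .leaf (147790, 0, 17, 11832) .leaf))) (147792, 0, 16, 72435) (.node (.node (.node .leaf (147795, 0, 17, 208910) .leaf) (147797, 0, 15, 115638) (.node .leaf (147798, 0, 16, 29685) .leaf)) (147801, 0, 14, 253709) (.node (.node .leaf (147802, 0, 17, 159566) .leaf) (147804, 0, 17, 5331) (.node .leaf (147807, 0, 12, 177675) .leaf))))))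

/-- part of the orbit tree -/
def itp4_262 : Tree := (.node (.node (.node (.node (.node (.node .leaf (147810, 0, 12, 156380) .leaf) (147812, 0, 17, 20592) (.node .leaf (147815, 0, 16, 122931) .leaf)) (147816, 0, 17, 90162) (.node (.node .leaf (147819, 0, 14, 261256) .leaf) (147821, 0, 17, 169358) (.node .leaf (147822, 0, 15, 206285) .leaf))) (147824, 0, 17, 261208) (.node (.node (.node .leaf (147827, 0, 17, 150788) .leaf) (147829, 0, 16, 182339) (.node .leaf (147830, 0, 17, 158519) .leaf)) (147833, 0, 17, 54520) (.node (.node .leaf (147834, 0, 14, 65206) .leaf) (147836, 0, 17, 92633) (.node .leaf (147839, 0, 14, 55429) .leaf)))) (147841, 0, 17, 163660) (.node (.node (.node (.node .leaf (147842, 0, 16, 249615) .leaf) (147844, 0, 17, 173577) (.node .leaf (147847, 0, 16, 53510) .leaf)) (147848, 0, 18, 259547) (.node (.node .leaf (147851, 0, 15, 68337) .leaf) (147853, 0, 15, 250856) (.node .leaf (147854, 0, 13, 119732) .leaf))) (147856, 0, 16, 59263) (.node (.node (.node .leaf (147859, 0, 17, 55533) .leaf) (147861, 0, 18, 85890)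 (.node .leaf (147862, 0, 16, 102009) .leaf)) (147865, 0, 13, 139905) (.node (.node .leaf (147866, 0, 16, 234178) .leaf) (147868, 0, 17, 261168) (.node .leaf (147871, 0, 19, 150892) .leaf))))) (147873, 0, 14, 95417) (.node (.node (.node (.node (.node .leaf (147874, 0, 16, 100927) .leaf) (147876, 0, 13, 110076) (.node .leaf (147879, 0, 17, 7615) .leaf)) (147880, 0, 14, 166097) (.node (.node .leaf (147883, 0, 18, 131332) .leaf) (147885, 0, 16, 175842) (.node .leaf (147886, 0, 17, 186433) .leaf))) (147888, 0, 18, 5307) (.node (.node (.node .leaf (147891, 0, 16, 108007) .leaf) (147893, 0, 16, 210383) (.node .leaf (147894, 0, 10, 165260) .leaf)) (147897, 0, 16, 76148) (.node (.node .leaf (147898, 0, 17, 39223) .leaf) (147900, 0, 16, 127025) (.node .leaf (147903, 0, 12, 16498) .leaf)))) (147904, 0, 14, 128428) (.node (.node (.node (.node .leaf (147907, 0, 17, 17903) .leaf) (147909, 0, 16, 221694) (.node .leaf (147910, 0, 15, 40106) .leaf)) (147913, 0, 15, 208978) (.node (.node .leaf (147914, 0, 16, 17699) .leaf) (147916, 0, 16, 119372)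 (.node .leaf (147919, 0, 18, 153940) .leaf))) (147921, 0, 16, 224671) (.node (.node (.node .leaf (147922, 0, 16, 187868) .leaf) (147924, 0, 17, 216614) (.node .leaf (147927, 0, 16, 132249) .leaf)) (147928, 0, 14, 108641) (.node (.node .leaf (147931, 0, 15, 6178) .leaf) (147933, 0, 16, 130452) (.node .leaf (147934, 0, 15, 19656) .leaf))))))

/-- part of the orbit tree -/
def itp4_263 : Tree := (.node (.node (.node (.node (.node (.node .leaf (147939, 0, 17, 216602) .leaf) (147941, 0, 15, 138484) (.node .leaf (147942, 0, 16, 235359) .leaf)) (147945, 0, 16, 35189) (.node (.node .leaf (147946, 0, 16, 101348) .leaf) (147948, 0, 14, 44870) (.node .leaf (147951, 0, 13, 86689) .leaf))) (147953, 0, 17, 26218) (.node (.node (.node .leaf (147954, 0, 17, 238659) .leaf) (147956, 0, 16, 48943) (.node .leaf (147959, 0, 14, 230000) .leaf)) (147960, 0, 14, 172948) (.node (.node .leaf (147963, 0, 14, 201687) .leaf) (147965, 0, 15, 162513) (.node .leaf (147966, 0, 11, 78274) .leaf)))) (147970, 0, 14, 185857) (.node (.node (.node (.node .leaf (147971,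 0, 16, 130237) .leaf) (147972, 0, 18, 144124) (.node .leaf (147973, 0, 17, 27602) .leaf)) (147976, 0, 15, 42877) (.node (.node .leaf (147977, 0, 15, 82906) .leaf) (147982, 0, 17, 51898) (.node .leaf (147983, 0, 18, 10972) .leaf))) (147984, 0, 13, 130673) (.node (.node (.node .leaf (147985, 0, 13, 73239) .leaf) (147990, 0, 15, 240760) (.node .leaf (147991, 0, 17, 128342) .leaf)) (147994, 0, 18, 80377) (.node (.node .leaf (147995, 0, 13, 221399) .leaf) (147996, 0, 16, 254666) (.node .leaf (147997, 0, 18, 197292) .leaf))))) (148002, 0, 10, 186521) (.node (.node (.node (.node (.node .leaf (148003, 0, 16, 81298) .leaf) (148004, 0, 12, 217078) (.node .leaf (148005, 0, 15, 71384) .leaf)) (148008, 0, 17, 121463) (.node (.node .leaf (148009, 0, 17, 149551) .leaf) (148014, 0, 13, 19736) (.node .leaf (148015, 0, 16, 205097) .leaf))) (148016, 0, 18, 214557) (.node (.node (.node .leaf (148017, 0, 17, 136674) .leaf) (148022, 0, 13, 236674) (.node .leaf (148023, 0, 17, 228580) .leaf)) (148026, 0, 15, 17651) (.node (.node .leaf (148027, 0,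 14, 138717) .leaf) (148028, 0, 18, 59711) (.node .leaf (148029, 0, 17, 232114) .leaf)))) (148032, 0, 13, 5483) (.node (.node (.node (.node .leaf (148033, 0, 17, 3268) .leaf) (148038, 0, 13, 99748) (.node .leaf (148039, 0, 17, 252714) .leaf)) (148042, 0, 17, 202629) (.node (.node .leaf (148043, 0, 15, 227705) .leaf) (148044, 0, 15, 192537) (.node .leaf (148045, 0, 16, 135295) .leaf))) (148050, 0, 16, 246994) (.node (.node (.node .leaf (148051, 0, 13, 250561) .leaf) (148052, 0, 14, 7296) (.node .leaf (148053, 0, 15, 148910) .leaf)) (148056, 0, 17, 166145) (.node (.node .leaf (148057, 0, 11, 53295) .leaf) (148062, 0, 18, 120937) (.node .leaf (148063, 0, 14, 79887) .leaf))))))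

/-- part of the orbit tree -/
def itp4_264 : Tree := (.node (.node (.node (.node (.node (.node .leaf (148065, 0, 15, 209231) .leaf) (148070, 0, 17, 65294) (.node .leaf (148071, 0, 14, 159287) .leaf)) (148074, 0, 16, 158351) (.node (.node .leaf (148075, 0, 12, 13217) .leaf) (148076, 0, 15, 130028) (.node .leaf (148077, 0, 16, 72586) .leaf))) (148082, 0, 15, 63205) (.node (.node (.node .leaf (148083, 0, 16, 12097) .leaf) (148084, 0, 13, 90506) (.node .leaf (148085, 0, 17, 83527) .leaf)) (148088, 0, 16, 244378) (.node (.node .leaf (148089, 0, 19, 219900) .leaf) (148094, 0, 16, 185244) (.node .leaf (148095, 0, 18, 14922) .leaf)))) (148096, 0, 16, 69934) (.node (.node (.node (.node .leaf (148097, 0, 14, 107686) .leaf) (148102, 0, 13, 30760) (.node .leaf (148103, 0, 15, 38990) .leaf)) (148106, 0, 18, 156819) (.node (.node .leaf (148107, 0, 17, 173640) .leaf) (148108, 0, 18, 92169) (.node .leaf (148109, 0, 17, 257523) .leaf))) (148114, 0, 15, 145758) (.node (.node (.node .leaf (148115, 0, 16, 14882) .leaf) (148116, 0, 16, 217176)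 (.node .leaf (148117, 0, 16, 241726) .leaf)) (148120, 0, 15, 90594) (.node (.node .leaf (148121, 0, 15, 109701) .leaf) (148126, 0, 14, 9701) (.node .leaf (148127, 0, 18, 50563) .leaf))))) (148128, 0, 17, 163970) (.node (.node (.node (.node (.node .leaf (148129, 0, 14, 195261) .leaf) (148134, 0, 11, 202733) (.node .leaf (148135, 0, 16, 85699) .leaf)) (148138, 0, 17, 94054) (.node (.node .leaf (148139, 0, 17, 252738) .leaf) (148140, 0, 15, 1632) (.node .leaf (148141, 0, 19, 150573) .leaf))) (148146, 0, 17, 204294) (.node (.node (.node .leaf (148147, 0, 16, 83752) .leaf) (148148, 0, 17, 23469) (.node .leaf (148149, 0, 16, 53319) .leaf)) (148152, 0, 17, 7400) (.node (.node .leaf (148153, 0, 16, 173936) .leaf) (148158, 0, 16, 208400) (.node .leaf (148159, 0, 15, 250537) .leaf)))) (148162, 0, 14, 19824) (.node (.node (.node (.node .leaf (148163, 0, 15, 136286) .leaf) (148164, 0, 15, 121375) (.node .leaf (148165, 0, 17, 172781) .leaf)) (148168, 0, 13, 24112) (.node (.node .leaf (148169, 0, 18, 48726) .leaf) (148174, 0, 17, 186609)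 (.node .leaf (148175, 0, 14, 33247) .leaf))) (148176, 0, 18, 1021) (.node (.node (.node .leaf (148177, 0, 18, 58267) .leaf) (148182, 0, 15, 92923) (.node .leaf (148183, 0, 16, 101021) .leaf)) (148186, 0, 18, 184602) (.node (.node .leaf (148187, 0, 10, 235046) .leaf) (148188, 0, 14, 214645) .leaf)))))

/-- part of the orbit tree -/
def itp4_265 : Tree := (.node itp4_261 (147809, 0, 15, 250752) itp4_262)

/-- part of the orbit tree -/
def itp4_266 : Tree := (.node itp4_263 (148064, 0, 16, 255831) itp4_264)

/-- part of the orbit tree -/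
def itp4_267 : Tree := (.node itp4_259 (147408, 0, 13, 254614) itp4_260)

/-- part of the orbit tree -/
def itp4_268 : Tree := (.node itp4_265 (147936, 0, 14, 146119) itp4_266)

/-- part of the orbit tree -/
def itp4_269 : Tree := (.node (.node (.node (.node (.node (.node .leaf (148194, 0, 16, 77946) .leaf) (148195, 0, 15, 49182) (.node .leaf (148196, 0, 15, 84350) .leaf)) (148197, 0, 15, 196155) (.node (.node .leaf (148200, 0, 17, 218565) .leaf) (148201, 0, 17, 243107) (.node .leaf (148206, 0, 16, 146627) .leaf))) (148207, 0, 15, 130261) (.node (.node (.node .leaf (148208, 0, 15, 44798) .leaf) (148209, 0, 14, 256110) (.node .leaf (148214, 0, 17, 155918) .leaf)) (148215, 0, 15, 221375) (.node (.node .leaf (148218, 0, 12, 240656) .leaf) (148219, 0, 16, 128318) (.node .leaf (148220, 0, 17, 146303) .leaf)))) (148221, 0, 17, 128213) (.node (.node (.node (.node .leaf (148226, 0, 17, 95349) .leaf) (148227, 0, 18, 72542) (.node .leaf (148228, 0, 17, 185631) .leaf)) (148229, 0, 16, 64789) (.node (.node .leaf (148232, 0, 16, 16542)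 .leaf) (148233, 0, 15, 137648) (.node .leaf (148238, 0, 14, 223438) .leaf))) (148239, 0, 17, 231592) (.node (.node (.node .leaf (148240, 0, 17, 154629) .leaf) (148241, 0, 13, 34266) (.node .leaf (148246, 0, 17, 215963) .leaf)) (148247, 0, 17, 70325) (.node (.node .leaf (148250, 0, 17, 122394) .leaf) (148251, 0, 15, 117214) (.node .leaf (148252, 0, 18, 18805) .leaf))))) (148253, 0, 14, 135259) (.node (.node (.node (.node (.node .leaf (148258, 0, 15, 163712) .leaf) (148259, 0, 16, 26196) (.node .leaf (148260, 0, 12, 202374) .leaf)) (148261, 0, 13, 127291) (.node (.node .leaf (148264, 0, 13, 68157) .leaf) (148265, 0, 16, 125531) (.node .leaf (148270, 0, 16, 43771) .leaf))) (148271, 0, 15, 193493) (.node (.node (.node .leaf (148272, 0, 18, 238078) .leaf) (148273, 0, 18, 129232) (.node .leaf (148278, 0, 16, 145041) .leaf)) (148279, 0, 15, 56976) (.node (.node .leaf (148282, 0, 17, 139853) .leaf) (148283, 0, 14, 180779) (.node .leaf (148284, 0, 17, 215883) .leaf)))) (148285, 0, 15, 224593) (.node (.node (.node (.node .leaf (148288,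 0, 14, 216790) .leaf) (148289, 0, 16, 241328) (.node .leaf (148294, 0, 16, 91623) .leaf)) (148295, 0, 11, 182198) (.node (.node .leaf (148298, 0, 14, 258150) .leaf) (148299, 0, 14, 56077) (.node .leaf (148300, 0, 17, 86637) .leaf))) (148301, 0, 11, 111115) (.node (.node (.node .leaf (148306, 0, 16, 26278) .leaf) (148307, 0, 16, 210210) (.node .leaf (148308, 0, 16, 69536) .leaf)) (148309, 0, 13, 126918) (.node (.node .leaf (148312, 0, 15, 201499) .leaf) (148313, 0, 17, 14284) (.node .leaf (148318, 0, 11, 260493) .leaf))))))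

/-- part of the orbit tree -/
def itp4_270 : Tree := (.node (.node (.node (.node (.node (.node .leaf (148320, 0, 15, 102274) .leaf) (148321, 0, 15, 251564) (.node .leaf (148326, 0, 15, 6381) .leaf)) (148327, 0, 17, 117827) (.node (.node .leaf (148330, 0, 16, 209054) .leaf) (148331, 0, 17, 54338) (.node .leaf (148332, 0, 11, 154008) .leaf))) (148333, 0, 12, 178686) (.node (.node (.node .leaf (148338, 0, 16, 224595) .leaf) (148339, 0, 14, 232757) (.node .leaf (148340, 0, 15, 99945) .leaf)) (148341, 0, 15, 189491) (.node (.node .leaf (148344, 0, 15, 6382) .leaf) (148345, 0, 14, 84678) (.node .leaf (148350, 0, 16, 164999) .leaf)))) (148351, 0, 16, 102798) (.node (.node (.node (.node .leaf (148352, 0, 17, 176986) .leaf) (148353, 0, 16, 152380) (.node .leaf (148358, 0, 13, 167172) .leaf)) (148359, 0, 17, 211514) (.node (.node .leaf (148362, 0, 15, 6277) .leaf) (148363, 0, 18, 75393) (.node .leaf (148364, 0, 16, 102378) .leaf))) (148365, 0, 13, 251588) (.node (.node (.node .leaf (148370, 0, 17, 165103) .leaf) (148371, 0, 16, 56769)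 (.node .leaf (148372, 0, 15, 61996) .leaf)) (148373, 0, 14, 4682) (.node (.node .leaf (148376, 0, 16, 192151) .leaf) (148377, 0, 17, 134897) (.node .leaf (148382, 0, 17, 4462) .leaf))))) (148383, 0, 14, 149568) (.node (.node (.node (.node (.node .leaf (148384, 0, 17, 157537) .leaf) (148385, 0, 18, 15951) (.node .leaf (148390, 0, 17, 258062) .leaf)) (148391, 0, 17, 12751) (.node (.node .leaf (148394, 0, 17, 91535) .leaf) (148395, 0, 11, 212129) (.node .leaf (148396, 0, 16, 238612) .leaf))) (148397, 0, 15, 175054) (.node (.node (.node .leaf (148402, 0, 15, 168159) .leaf) (148403, 0, 16, 159929) (.node .leaf (148404, 0, 17, 159370) .leaf)) (148405, 0, 17, 203199) (.node (.node .leaf (148408, 0, 18, 124258) .leaf) (148409, 0, 13, 66820) (.node .leaf (148414, 0, 14, 93284) .leaf)))) (148415, 0, 18, 210250) (.node (.node (.node (.node .leaf (148418, 0, 18, 43667) .leaf) (148419, 0, 14, 27039) (.node .leaf (148420, 0, 15, 123135) .leaf)) (148421, 0, 16, 222418) (.node (.node .leaf (148424, 0, 15, 239741) .leaf) (148425, 0, 17, 127315)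 (.node .leaf (148430, 0, 14, 147218) .leaf))) (148431, 0, 12, 161060) (.node (.node (.node .leaf (148432, 0, 15, 78871) .leaf) (148433, 0, 12, 224569) (.node .leaf (148438, 0, 16, 182415) .leaf)) (148439, 0, 16, 195158) (.node (.node .leaf (148442, 0, 17, 54324) .leaf) (148443, 0, 18, 28631) (.node .leaf (148444, 0, 15, 237974) .leaf))))))

/-- part of the orbit tree -/
def itp4_271 : Tree := (.node (.node (.node (.node (.node (.node .leaf (148450, 0, 19, 120729) .leaf) (148451, 0, 18, 221802) (.node .leaf (148452, 0, 18, 16630) .leaf)) (148453, 0, 14, 137688) (.node (.node .leaf (148456, 0, 14, 63409) .leaf) (148457, 0, 16, 6103) (.node .leaf (148462, 0, 15, 213528) .leaf))) (148463, 0, 13, 98001) (.node (.node (.node .leaf (148464, 0, 18, 18717) .leaf) (148465, 0, 16, 18970) (.node .leaf (148470, 0, 14, 115578) .leaf)) (148471, 0, 15, 231260) (.node (.node .leaf (148474, 0, 17, 216051) .leaf) (148475, 0, 16, 212903) (.node .leaf (148476, 0, 15, 177863) .leaf)))) (148477, 0, 16, 34226) (.node (.node (.node (.node .leaf (148481,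 0, 14, 72727) .leaf) (148483, 0, 16, 196799) (.node .leaf (148484, 0, 15, 166367) .leaf)) (148486, 0, 15, 184918) (.node (.node .leaf (148488, 0, 15, 38244) .leaf) (148490, 0, 16, 116033) (.node .leaf (148493, 0, 16, 19489) .leaf))) (148495, 0, 16, 25060) (.node (.node (.node .leaf (148496, 0, 16, 51369) .leaf) (148498, 0, 13, 187325) (.node .leaf (148501, 0, 15, 71164) .leaf)) (148503, 0, 12, 82377) (.node (.node .leaf (148505, 0, 18, 134487) .leaf) (148507, 0, 18, 26639) (.node .leaf (148508, 0, 14, 239182) .leaf))))) (148510, 0, 15, 20028) (.node (.node (.node (.node (.node .leaf (148513, 0, 15, 24861) .leaf) (148515, 0, 16, 231791) (.node .leaf (148516, 0, 15, 18222) .leaf)) (148518, 0, 17, 53775) (.node (.node .leaf (148520, 0, 14, 237201) .leaf) (148522, 0, 15, 183988) (.node .leaf (148525, 0, 17, 193692) .leaf))) (148527, 0, 17, 72942) (.node (.node (.node .leaf (148528, 0, 15, 20165) .leaf) (148530, 0, 18, 239287) (.node .leaf (148533, 0, 17, 26870) .leaf)) (148535, 0, 16, 150076) (.node (.node .leaf (148537, 0, 17,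 195959) .leaf) (148539, 0, 17, 70917) (.node .leaf (148540, 0, 16, 122855) .leaf)))) (148542, 0, 19, 78646) (.node (.node (.node (.node .leaf (148544, 0, 17, 204211) .leaf) (148546, 0, 17, 35423) (.node .leaf (148549, 0, 17, 66367) .leaf)) (148551, 0, 16, 21274) (.node (.node .leaf (148553, 0, 16, 110081) .leaf) (148555, 0, 15, 149107) (.node .leaf (148556, 0, 10, 100402) .leaf))) (148558, 0, 16, 169700) (.node (.node (.node .leaf (148561, 0, 17, 209515) .leaf) (148563, 0, 13, 55833) (.node .leaf (148564, 0, 17, 201816) .leaf)) (148566, 0, 15, 183081) (.node (.node .leaf (148568, 0, 15, 98777) .leaf) (148570, 0, 18, 55186) (.node .leaf (148573, 0, 12, 89842) .leaf))))))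

/-- part of the orbit tree -/
def itp4_272 : Tree := (.node (.node (.node (.node (.node (.node .leaf (148576, 0, 18, 184719) .leaf) (148578, 0, 14, 229802) (.node .leaf (148581, 0, 16, 149130) .leaf)) (148583, 0, 14, 110328) (.node (.node .leaf (148585, 0, 17, 5233) .leaf) (148587, 0, 12, 83028) (.node .leaf (148588, 0, 15, 62776) .leaf))) (148590, 0, 13, 105745) (.node (.node (.node .leaf (148593, 0, 15, 151393) .leaf) (148595, 0, 17, 72089) (.node .leaf (148596, 0, 17, 37113) .leaf)) (148598, 0, 12, 98592) (.node (.node .leaf (148600, 0, 17, 64723) .leaf) (148602, 0, 18, 201889) (.node .leaf (148605, 0, 18, 56032) .leaf)))) (148607, 0, 16, 209554) (.node (.node (.node (.node .leaf (148608, 0, 14, 10230) .leaf) (148610, 0, 13, 96211) (.node .leaf (148613, 0, 16, 65203) .leaf)) (148615, 0, 16, 211729) (.node (.node .leaf (148617, 0, 13, 149218) .leaf) (148619, 0, 12, 110224) (.node .leaf (148620, 0, 17, 146253) .leaf))) (148622, 0, 14, 100515) (.node (.node (.node .leaf (148625, 0, 18, 180165) .leaf) (148627, 0, 17, 209658)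 (.node .leaf (148628, 0, 18, 157312) .leaf)) (148630, 0, 16, 201929) (.node (.node .leaf (148632, 0, 15, 31291) .leaf) (148634, 0, 17, 76318) (.node .leaf (148637, 0, 15, 151305) .leaf))))) (148639, 0, 18, 108411) (.node (.node (.node (.node (.node .leaf (148640, 0, 17, 100442) .leaf) (148642, 0, 14, 162854) (.node .leaf (148645, 0, 16, 259398) .leaf)) (148647, 0, 16, 173411) (.node (.node .leaf (148649, 0, 17, 125437) .leaf) (148651, 0, 16, 54170) (.node .leaf (148652, 0, 16, 78008) .leaf))) (148654, 0, 17, 62889) (.node (.node (.node .leaf (148657, 0, 18, 111664) .leaf) (148659, 0, 17, 151536) (.node .leaf (148660, 0, 13, 93557) .leaf)) (148662, 0, 11, 15696) (.node (.node .leaf (148664, 0, 17, 225742) .leaf) (148666, 0, 14, 139755) (.node .leaf (148669, 0, 19, 239755) .leaf)))) (148671, 0, 15, 194734) (.node (.node (.node (.node .leaf (148673, 0, 15, 240918) .leaf) (148675, 0, 15, 195891) (.node .leaf (148676, 0, 16, 185031) .leaf)) (148678, 0, 15, 80565) (.node (.node .leaf (148680, 0, 16, 18246) .leaf) (148682, 0, 14,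 14541) (.node .leaf (148685, 0, 14, 24949) .leaf))) (148687, 0, 17, 231687) (.node (.node (.node .leaf (148688, 0, 18, 79141) .leaf) (148690, 0, 18, 25856) (.node .leaf (148693, 0, 16, 126048) .leaf)) (148695, 0, 17, 48197) (.node (.node .leaf (148697, 0, 17, 26782) .leaf) (148699, 0, 15, 172286) (.node .leaf (148700, 0, 15, 20141) .leaf))))))

/-- part of the orbit tree -/
def itp4_273 : Tree := (.node itp4_269 (148319, 0, 15, 106659) itp4_270)

/-- part of the orbit tree -/
def itp4_274 : Tree := (.node itp4_271 (148575, 0, 18, 3799) itp4_272)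

/-- part of the orbit tree -/
def itp4_275 : Tree := (.node (.node (.node (.node (.node (.node .leaf (148705, 0, 10, 42723) .leaf) (148707, 0, 16, 128710) (.node .leaf (148708, 0, 17, 32678) .leaf)) (148710, 0, 14, 77699) (.node (.node .leaf (148712, 0, 14, 80460) .leaf) (148714, 0, 17, 184894) (.node .leaf (148717, 0, 15, 178776) .leaf))) (148719, 0, 16, 256637) (.node (.node (.node .leaf (148720, 0, 11, 239142) .leaf) (148722, 0, 15, 225013) (.node .leaf (148725, 0, 18, 190357) .leaf)) (148727, 0, 17, 26727) (.node (.node .leaf (148729, 0, 16, 64302) .leaf) (148731, 0, 15, 196070) (.node .leaf (148732, 0, 18, 8811) .leaf)))) (148734, 0, 17, 94798) (.node (.node (.node (.node .leaf (148737, 0, 18, 130036) .leaf) (148739, 0, 11, 136070) (.node .leaf (148740, 0, 15, 122311) .leaf)) (148742, 0, 15, 144821) (.node (.node .leaf (148744, 0, 9, 210704) .leaf) (148746, 0, 14, 41012) (.node .leaf (148749, 0, 13, 257621) .leaf))) (148751, 0, 15, 179824) (.node (.node (.node .leaf (148752, 0, 18, 119852) .leaf) (148754, 0, 14, 146526)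 (.node .leaf (148757, 0, 15, 242584) .leaf)) (148759, 0, 15, 189373) (.node (.node .leaf (148761, 0, 13, 110371) .leaf) (148763, 0, 16, 36844) (.node .leaf (148764, 0, 15, 213421) .leaf))))) (148766, 0, 18, 9795) (.node (.node (.node (.node (.node .leaf (148769, 0, 17, 34558) .leaf) (148771, 0, 19, 239934) (.node .leaf (148772, 0, 14, 139358) .leaf)) (148774, 0, 14, 225403) (.node (.node .leaf (148776, 0, 18, 15589) .leaf) (148778, 0, 16, 93376) (.node .leaf (148781, 0, 17, 136063) .leaf))) (148783, 0, 12, 129805) (.node (.node (.node .leaf (148784, 0, 16, 43302) .leaf) (148786, 0, 14, 213332) (.node .leaf (148789, 0, 15, 36629) .leaf)) (148791, 0, 14, 125000) (.node (.node .leaf (148793, 0, 17, 173270) .leaf) (148795, 0, 16, 259315) (.node .leaf (148796, 0, 15, 163219) .leaf)))) (148798, 0, 17, 208310) (.node (.node (.node (.node .leaf (148800, 0, 18, 161806) .leaf) (148802, 0, 17, 4642) (.node .leaf (148805, 0, 14, 253027) .leaf)) (148807, 0, 15, 13329) (.node (.node .leaf (148809, 0, 16, 84450) .leaf) (148811, 0, 14, 126421)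 (.node .leaf (148812, 0, 16, 94161) .leaf))) (148814, 0, 17, 165795) (.node (.node (.node .leaf (148817, 0, 16, 57405) .leaf) (148819, 0, 18, 15866) (.node .leaf (148820, 0, 16, 259003) .leaf)) (148822, 0, 14, 92509) (.node (.node .leaf (148824, 0, 14, 140739) .leaf) (148826, 0, 17, 226790) (.node .leaf (148829, 0, 15, 81929) .leaf))))))

/-- part of the orbit tree -/
def itp4_276 : Tree := (.node (.node (.node (.node (.node (.node .leaf (148832, 0, 15, 165722) .leaf) (148834, 0, 17, 93992) (.node .leaf (148837, 0, 17, 109246) .leaf)) (148839, 0, 17, 84251) (.node (.node .leaf (148841, 0, 17, 243205) .leaf) (148843, 0, 18, 189984) (.node .leaf (148844, 0, 14, 225088) .leaf))) (148846, 0, 16, 147301) (.node (.node (.node .leaf (148849, 0, 16, 256968) .leaf) (148851, 0, 16, 82160) (.node .leaf (148852, 0, 14, 209549) .leaf)) (148854, 0, 13, 91843) (.node (.node .leaf (148856, 0, 18, 77366) .leaf) (148858, 0, 17, 32275) (.node .leaf (148861, 0, 14, 15619) .leaf)))) (148863, 0, 16, 42838) (.node (.node (.node (.node .leaf (148864,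 0, 15, 230786) .leaf) (148866, 0, 17, 185767) (.node .leaf (148869, 0, 15, 220359) .leaf)) (148871, 0, 12, 253170) (.node (.node .leaf (148873, 0, 15, 82044) .leaf) (148875, 0, 16, 4185) (.node .leaf (148876, 0, 13, 165682) .leaf))) (148878, 0, 16, 94016) (.node (.node (.node .leaf (148881, 0, 17, 15723) .leaf) (148883, 0, 11, 251161) (.node .leaf (148884, 0, 13, 115956) .leaf)) (148886, 0, 14, 38097) (.node (.node .leaf (148888, 0, 10, 251983) .leaf) (148890, 0, 16, 165994) (.node .leaf (148893, 0, 16, 174314) .leaf))))) (148895, 0, 17, 82072) (.node (.node (.node (.node (.node .leaf (148896, 0, 14, 36471) .leaf) (148898, 0, 17, 165835) (.node .leaf (148901, 0, 16, 84362) .leaf)) (148903, 0, 18, 67351) (.node (.node .leaf (148905, 0, 16, 252939) .leaf) (148907, 0, 14, 13433) (.node .leaf (148908, 0, 17, 168652) .leaf))) (148910, 0, 14, 4682) (.node (.node (.node .leaf (148913, 0, 13, 136772) .leaf) (148915, 0, 17, 214625) (.node .leaf (148916, 0, 17, 184065) .leaf)) (148918, 0, 13, 237348) (.node (.node .leaf (148920, 0, 17,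 259027) .leaf) (148922, 0, 13, 7073) (.node .leaf (148925, 0, 17, 2815) .leaf)))) (148927, 0, 17, 88794) (.node (.node (.node (.node .leaf (148929, 0, 14, 3938) .leaf) (148931, 0, 17, 89927) (.node .leaf (148932, 0, 17, 144676) .leaf)) (148934, 0, 18, 99842) (.node (.node .leaf (148936, 0, 17, 41125) .leaf) (148938, 0, 15, 215255) (.node .leaf (148941, 0, 18, 136153) .leaf))) (148943, 0, 16, 224996) (.node (.node (.node .leaf (148944, 0, 15, 146639) .leaf) (148946, 0, 17, 119997) (.node .leaf (148949, 0, 18, 151060) .leaf)) (148951, 0, 17, 204337) (.node (.node .leaf (148953, 0, 15, 36733) .leaf) (148955, 0, 15, 222991) (.node .leaf (148956, 0, 15, 35818) .leaf))))))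

/-- part of the orbit tree -/
def itp4_277 : Tree := (.node (.node (.node (.node (.node (.node .leaf (148961, 0, 14, 224797) .leaf) (148963, 0, 15, 34415) (.node .leaf (148964, 0, 14, 215086) .leaf)) (148966, 0, 15, 167415) (.node (.node .leaf (148968, 0, 18, 122287) .leaf) (148970, 0, 16, 37196) (.node .leaf (148973, 0, 17, 71724) .leaf))) (148975, 0, 16, 18441) (.node (.node (.node .leaf (148976, 0, 9, 213445) .leaf) (148978, 0, 14, 52353) (.node .leaf (148981, 0, 14, 223222) .leaf)) (148983, 0, 17, 36740) (.node (.node .leaf (148985, 0, 15, 127607) .leaf) (148987, 0, 16, 133503) (.node .leaf (148988, 0, 15, 119876) .leaf)))) (148990, 0, 18, 146486) (.node (.node (.node (.node .leaf (148992, 0, 17, 171148) .leaf) (148993, 0, 17, 71995) (.node .leaf (148994, 0, 13, 43111) .leaf)) (148995, 0, 18, 192841) (.node (.node .leaf (149004, 0, 15, 32823) .leaf) (149005, 0, 17, 232634) (.node .leaf (149006, 0, 18, 146918) .leaf))) (149007, 0, 18, 77940) (.node (.node (.node .leaf (149012, 0, 13, 215550) .leaf) (149013, 0, 16, 15772)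 (.node .leaf (149014, 0, 17, 101855) .leaf)) (149015, 0, 14, 194722) (.node (.node .leaf (149016, 0, 13, 180545) .leaf) (149017, 0, 11, 139559) (.node .leaf (149018, 0, 17, 233828) .leaf))))) (149019, 0, 16, 27939) (.node (.node (.node (.node (.node .leaf (149024, 0, 16, 104313) .leaf) (149025, 0, 18, 25649) (.node .leaf (149026, 0, 11, 51036) .leaf)) (149027, 0, 17, 10042) (.node (.node .leaf (149036, 0, 18, 43166) .leaf) (149037, 0, 16, 224164) (.node .leaf (149038, 0, 18, 187367) .leaf))) (149039, 0, 17, 146305) (.node (.node (.node .leaf (149044, 0, 17, 144628) .leaf) (149045, 0, 16, 210537) (.node .leaf (149046, 0, 18, 121990) .leaf)) (149047, 0, 16, 230824) (.node (.node .leaf (149048, 0, 8, 117428) .leaf) (149049, 0, 16, 194651) (.node .leaf (149050, 0, 13, 39569) .leaf)))) (149051, 0, 17, 31479) (.node (.node (.node (.node .leaf (149060, 0, 14, 92034) .leaf) (149061, 0, 16, 77647) (.node .leaf (149062, 0, 15, 40716) .leaf)) (149063, 0, 16, 32618) (.node (.node .leaf (149064, 0, 17, 258563) .leaf) (149065, 0, 12, 209908)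 (.node .leaf (149066, 0, 16, 164791) .leaf))) (149067, 0, 16, 148319) (.node (.node (.node .leaf (149072, 0, 15, 233055) .leaf) (149073, 0, 14, 224825) (.node .leaf (149074, 0, 15, 188026) .leaf)) (149075, 0, 17, 57141) (.node (.node .leaf (149084, 0, 15, 103140) .leaf) (149085, 0, 12, 94850) (.node .leaf (149086, 0, 18, 5018) .leaf))))))

/-- part of the orbit tree -/
def itp4_278 : Tree := (.node (.node (.node (.node (.node (.node .leaf (149092, 0, 16, 6792) .leaf) (149093, 0, 17, 140474) (.node .leaf (149094, 0, 16, 234745) .leaf)) (149095, 0, 18, 226463) (.node (.node .leaf (149096, 0, 15, 167689) .leaf) (149097, 0, 17, 14337) (.node .leaf (149098, 0, 18, 92027) .leaf))) (149099, 0, 16, 212565) (.node (.node (.node .leaf (149104, 0, 14, 4963) .leaf) (149105, 0, 15, 26060) (.node .leaf (149106, 0, 14, 120207) .leaf)) (149107, 0, 14, 79337) (.node (.node .leaf (149116, 0, 16, 165602) .leaf) (149117, 0, 18, 57292) (.node .leaf (149118, 0, 17, 93840) .leaf)))) (149119, 0, 15, 210878) (.node (.node (.node (.node .leaf (149124,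 0, 18, 167777) .leaf) (149125, 0, 12, 53955) (.node .leaf (149126, 0, 15, 90752) .leaf)) (149127, 0, 17, 212541) (.node (.node .leaf (149128, 0, 16, 6880) .leaf) (149129, 0, 15, 148430) (.node .leaf (149130, 0, 15, 258706) .leaf))) (149131, 0, 17, 109500) (.node (.node (.node .leaf (149136, 0, 14, 160723) .leaf) (149137, 0, 17, 57252) (.node .leaf (149138, 0, 16, 205814) .leaf)) (149139, 0, 16, 246672) (.node (.node .leaf (149148, 0, 16, 28520) .leaf) (149149, 0, 17, 150053) (.node .leaf (149150, 0, 18, 260985) .leaf))))) (149151, 0, 18, 122667) (.node (.node (.node (.node (.node .leaf (149156, 0, 15, 258667) .leaf) (149157, 0, 17, 109381) (.node .leaf (149158, 0, 16, 158069) .leaf)) (149159, 0, 16, 148279) (.node (.node .leaf (149160, 0, 13, 75243) .leaf) (149161, 0, 16, 116109) (.node .leaf (149162, 0, 16, 167832) .leaf))) (149163, 0, 16, 54966) (.node (.node (.node .leaf (149168, 0, 19, 260992) .leaf) (149169, 0, 17, 104512) (.node .leaf (149170, 0, 15, 5106) .leaf)) (149171, 0, 17, 51301) (.node (.node .leaf (149180, 0,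 18, 93697) .leaf) (149181, 0, 16, 230651) (.node .leaf (149182, 0, 14, 144568) .leaf)))) (149183, 0, 15, 185566) (.node (.node (.node (.node .leaf (149184, 0, 15, 221440) .leaf) (149185, 0, 18, 192984) (.node .leaf (149186, 0, 13, 213124) .leaf)) (149187, 0, 15, 184643) (.node (.node .leaf (149196, 0, 17, 97723) .leaf) (149197, 0, 18, 25689) (.node .leaf (149198, 0, 14, 11678) .leaf))) (149199, 0, 16, 52728) (.node (.node (.node .leaf (149204, 0, 13, 73846) .leaf) (149205, 0, 14, 114704) (.node .leaf (149206, 0, 17, 215407) .leaf)) (149207, 0, 15, 36917) (.node (.node .leaf (149208, 0, 17, 144540) .leaf) (149209, 0, 15, 28082) .leaf)))))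

/-- part of the orbit tree -/
def itp4_279 : Tree := (.node itp4_275 (148831, 0, 17, 240803) itp4_276)

/-- part of the orbit tree -/
def itp4_280 : Tree := (.node itp4_277 (149087, 0, 18, 8871) itp4_278)

/-- part of the orbit tree -/
def itp4_281 : Tree := (.node itp4_273 (148445, 0, 16, 129208) itp4_274)

/-- part of the orbit tree -/
def itp4_282 : Tree := (.node itp4_279 (148958, 0, 14, 213308) itp4_280)

/-- part of the orbit tree -/
def itp4_283 : Tree := (.node itp4_267 (147680, 0, 18, 187684) itp4_268)

/-- part of the orbit tree -/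
def itp4_284 : Tree := (.node itp4_281 (148702, 0, 14, 162235) itp4_282)

/-- part of the orbit tree -/
def itp4_285 : Tree := (.node (.node (.node (.node (.node (.node .leaf (149211, 0, 18, 167054) .leaf) (149216, 0, 15, 120316) (.node .leaf (149217, 0, 17, 232658) .leaf)) (149218, 0, 12, 80592) (.node (.node .leaf (149219, 0, 11, 25760) .leaf) (149228, 0, 18, 213117) (.node .leaf (149229, 0, 17, 169512) .leaf))) (149230, 0, 17, 43023) (.node (.node (.node .leaf (149231, 0, 15, 192801) .leaf) (149236, 0, 17, 121879) (.node .leaf (149237, 0, 18, 183269) .leaf)) (149238, 0, 17, 144485) (.node (.node .leaf (149239, 0, 15, 236480) .leaf) (149240, 0, 16, 215446) (.node .leaf (149241, 0, 17, 55134) .leaf)))) (149242, 0, 18, 41444) (.node (.node (.node (.node .leaf (149243, 0, 17, 194762) .leaf) (149248, 0, 14, 239606) (.node .leaf (149249, 0, 17, 130776) .leaf)) (149250, 0, 17, 28381) (.node (.node .leaf (149251, 0, 15, 36539) .leaf) (149260, 0, 14, 78455) (.node .leaf (149261, 0, 11, 246309) .leaf))) (149262, 0, 16, 160358) (.node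 (.node (.node .leaf (149263, 0, 16, 168448) .leaf) (149268, 0, 16, 229262) (.node .leaf (149269, 0, 16, 128819) .leaf)) (149270, 0, 16, 18031) (.node (.node .leaf (149271, 0, 18, 184269) .leaf) (149272, 0, 16, 90933) (.node .leaf (149273, 0, 15, 99155) .leaf))))) (149274, 0, 16, 13072) (.node (.node (.node (.node (.node .leaf (149275, 0, 17, 54134) .leaf) (149280, 0, 15, 144653) (.node .leaf (149281, 0, 17, 185707) .leaf)) (149282, 0, 11, 222504) (.node (.node .leaf (149283, 0, 15, 230734) .leaf) (149292, 0, 15, 10678) (.node .leaf (149293, 0, 14, 136787) .leaf))) (149294, 0, 17, 239375) (.node (.node (.node .leaf (149295, 0, 13, 130593) .leaf) (149300, 0, 16, 29819) (.node .leaf (149301, 0, 17, 37917) .leaf)) (149302, 0, 14, 80741) (.node (.node .leaf (149303, 0, 17, 221771) .leaf) (149304, 0, 17, 18070) (.node .leaf (149305, 0, 9, 166054) .leaf)))) (149306, 0, 14, 241380) (.node (.node (.node (.node .leaf (149307, 0, 15, 252035) .leaf) (149316, 0, 17, 159069) (.node .leaf (149317, 0, 18, 167227) .leaf)) (149318, 0, 14, 157715)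 (.node (.node .leaf (149319, 0, 17, 253214) .leaf) (149320, 0, 16, 29158) (.node .leaf (149321, 0, 12, 85198) .leaf))) (149322, 0, 15, 64914) (.node (.node (.node .leaf (149323, 0, 16, 173244) .leaf) (149328, 0, 18, 100746) (.node .leaf (149329, 0, 14, 250020) .leaf)) (149330, 0, 19, 97294) (.node (.node .leaf (149331, 0, 16, 105576) .leaf) (149340, 0, 18, 143504) (.node .leaf (149341, 0, 16, 83237) .leaf))))))

/-- part of the orbit tree -/
def itp4_286 : Tree := (.node (.node (.node (.node (.node (.node .leaf (149343, 0, 14, 229587) .leaf) (149348, 0, 14, 64875) (.node .leaf (149349, 0, 16, 173125) .leaf)) (149350, 0, 14, 13965) (.node (.node .leaf (149351, 0, 17, 55019) .leaf) (149352, 0, 17, 157930) (.node .leaf (149353, 0, 17, 236149) .leaf))) (149354, 0, 18, 141878) (.node (.node (.node .leaf (149355, 0, 17, 182864) .leaf) (149360, 0, 17, 62592) (.node .leaf (149361, 0, 17, 175534) .leaf)) (149362, 0, 15, 204018) (.node (.node .leaf (149363, 0, 17, 83420) .leaf) (149372, 0, 14, 80741) (.node .leaf (149373, 0, 16, 14383)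 .leaf)))) (149374, 0, 11, 27456) (.node (.node (.node (.node .leaf (149375, 0, 13, 249949) .leaf) (149380, 0, 14, 233681) (.node .leaf (149381, 0, 18, 12716) .leaf)) (149382, 0, 16, 180468) (.node (.node .leaf (149383, 0, 15, 139410) .leaf) (149384, 0, 15, 64771) (.node .leaf (149385, 0, 16, 173101) .leaf))) (149386, 0, 13, 56399) (.node (.node (.node .leaf (149387, 0, 15, 15401) .leaf) (149392, 0, 17, 156009) (.node .leaf (149393, 0, 17, 14407) .leaf)) (149394, 0, 16, 33154) (.node (.node .leaf (149395, 0, 16, 25060) .leaf) (149404, 0, 17, 62696) (.node .leaf (149405, 0, 17, 175558) .leaf))))) (149406, 0, 17, 203930) (.node (.node (.node (.node (.node .leaf (149407, 0, 15, 83380) .leaf) (149412, 0, 15, 202120) (.node .leaf (149413, 0, 18, 85158) .leaf)) (149414, 0, 17, 65018) (.node (.node .leaf (149415, 0, 15, 76647) .leaf) (149416, 0, 18, 165791) (.node .leaf (149417, 0, 13, 252199) .leaf))) (149418, 0, 14, 251834) (.node (.node (.node .leaf (149419, 0, 14, 210908) .leaf) (149424, 0, 17, 186962) (.node .leaf (149425, 0,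 14, 145972) .leaf)) (149426, 0, 14, 232055) (.node (.node .leaf (149427, 0, 17, 223761) .leaf) (149436, 0, 11, 100834) (.node .leaf (149437, 0, 15, 250060) .leaf)))) (149438, 0, 18, 104140) (.node (.node (.node (.node .leaf (149439, 0, 14, 95914) .leaf) (149440, 0, 17, 50036) (.node .leaf (149441, 0, 14, 8978) .leaf)) (149442, 0, 16, 103249) (.node (.node .leaf (149443, 0, 14, 130633) .leaf) (149452, 0, 16, 187028) (.node .leaf (149453, 0, 15, 147369) .leaf))) (149454, 0, 17, 233450) (.node (.node (.node .leaf (149455, 0, 15, 225164) .leaf) (149460, 0, 14, 164354) (.node .leaf (149461, 0, 10, 156260) .leaf)) (149462, 0, 18, 250407) (.node (.node .leaf (149463, 0, 17, 128930) .leaf) (149464, 0, 18, 40633) (.node .leaf (149465, 0, 18, 35409) .leaf))))))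

/-- part of the orbit tree -/
def itp4_287 : Tree := (.node (.node (.node (.node (.node (.node .leaf (149467, 0, 11, 221731) .leaf) (149472, 0, 17, 78367) (.node .leaf (149473, 0, 16, 207079) .leaf)) (149474, 0, 16, 170148) (.node (.node .leaf (149475, 0, 14, 161986) .leaf) (149484, 0, 13, 119866) (.node .leaf (149485, 0, 17, 78940) .leaf))) (149486, 0, 18, 33823) (.node (.node (.node .leaf (149487, 0, 13, 136898) .leaf) (149492, 0, 16, 80884) (.node .leaf (149493, 0, 14, 221914) .leaf)) (149494, 0, 16, 185222) (.node (.node .leaf (149495, 0, 16, 14772) .leaf) (149496, 0, 15, 241269) (.node .leaf (149497, 0, 16, 128859) .leaf)))) (149498, 0, 13, 181609) (.node (.node (.node (.node .leaf (149499, 0, 16, 140559) .leaf) (149505, 0, 17, 78894) (.node .leaf (149506, 0, 14, 255360) .leaf)) (149509, 0, 15, 11201) (.node (.node .leaf (149510, 0, 14, 105117) .leaf) (149512, 0, 14, 258512) (.node .leaf (149515, 0, 18, 147859) .leaf))) (149516, 0, 17, 248051) (.node (.node (.node .leaf (149519, 0, 14, 207151) .leaf) (149520, 0, 15, 162564)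 (.node .leaf (149523, 0, 16, 248408) .leaf)) (149524, 0, 16, 1049) (.node (.node .leaf (149527, 0, 18, 140669) .leaf) (149529, 0, 19, 51382) (.node .leaf (149530, 0, 16, 96746) .leaf))))) (149533, 0, 13, 178091) (.node (.node (.node (.node (.node .leaf (149534, 0, 15, 198391) .leaf) (149537, 0, 12, 207318) (.node .leaf (149538, 0, 15, 233368) .leaf)) (149541, 0, 18, 132856) (.node (.node .leaf (149542, 0, 16, 59287) .leaf) (149544, 0, 17, 105060) (.node .leaf (149547, 0, 15, 84582) .leaf))) (149548, 0, 16, 255353) (.node (.node (.node .leaf (149551, 0, 16, 152613) .leaf) (149552, 0, 18, 198158) (.node .leaf (149555, 0, 17, 71595) .leaf)) (149556, 0, 17, 96531) (.node (.node .leaf (149559, 0, 15, 77448) .leaf) (149561, 0, 16, 156182) (.node .leaf (149562, 0, 13, 250453) .leaf)))) (149565, 0, 15, 248481) (.node (.node (.node (.node .leaf (149566, 0, 16, 162813) .leaf) (149568, 0, 13, 21880) (.node .leaf (149571, 0, 16, 123940) .leaf)) (149572, 0, 15, 141925) (.node (.node .leaf (149575, 0, 16, 210862) .leaf) (149577, 0, 15, 190154)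 (.node .leaf (149578, 0, 13, 117619) .leaf))) (149581, 0, 16, 39383) (.node (.node (.node .leaf (149582, 0, 16, 75915) .leaf) (149585, 0, 14, 31392) (.node .leaf (149586, 0, 17, 117756) .leaf)) (149589, 0, 18, 132541) (.node (.node .leaf (149590, 0, 17, 242913) .leaf) (149592, 0, 17, 182546) (.node .leaf (149595, 0, 15, 217920) .leaf))))))

/-- part of the orbit tree -/
def itp4_288 : Tree := (.node (.node (.node (.node (.node (.node .leaf (149599, 0, 15, 223843) .leaf) (149600, 0, 14, 75890) (.node .leaf (149603, 0, 17, 1400) .leaf)) (149604, 0, 17, 218991) (.node (.node .leaf (149607, 0, 17, 15451) .leaf) (149609, 0, 15, 236480) (.node .leaf (149610, 0, 17, 180358) .leaf))) (149613, 0, 18, 124125) (.node (.node (.node .leaf (149614, 0, 14, 194981) .leaf) (149617, 0, 14, 67498) (.node .leaf (149618, 0, 16, 171339) .leaf)) (149621, 0, 18, 227511) (.node (.node .leaf (149622, 0, 15, 182763) .leaf) (149624, 0, 17, 125174) (.node .leaf (149627, 0, 16, 22709) .leaf)))) (149628, 0, 13, 119253) (.node (.node (.node (.node .leaf (149631,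 0, 13, 31321) .leaf) (149632, 0, 18, 245147) (.node .leaf (149635, 0, 14, 134343) .leaf)) (149636, 0, 16, 115334) (.node (.node .leaf (149639, 0, 16, 29658) .leaf) (149641, 0, 14, 100028) (.node .leaf (149642, 0, 19, 49013) .leaf))) (149645, 0, 13, 114591) (.node (.node (.node .leaf (149646, 0, 12, 4060) .leaf) (149649, 0, 18, 234051) (.node .leaf (149650, 0, 15, 140063) .leaf)) (149653, 0, 13, 126302) (.node (.node .leaf (149654, 0, 15, 21009) .leaf) (149656, 0, 15, 204431) (.node .leaf (149659, 0, 17, 37037) .leaf))))) (149660, 0, 15, 220908) (.node (.node (.node (.node (.node .leaf (149663, 0, 18, 192432) .leaf) (149664, 0, 16, 18615) (.node .leaf (149667, 0, 14, 129268) .leaf)) (149668, 0, 13, 49036) (.node (.node .leaf (149671, 0, 14, 69328) .leaf) (149673, 0, 16, 29475) (.node .leaf (149674, 0, 17, 115327) .leaf))) (149677, 0, 15, 134206) (.node (.node (.node .leaf (149678, 0, 15, 245090) .leaf) (149681, 0, 14, 184452) (.node .leaf (149682, 0, 12, 220693) .leaf)) (149685, 0, 17, 36948) (.node (.node .leaf (149686, 0,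 16, 73992) .leaf) (149688, 0, 14, 5498) (.node .leaf (149691, 0, 16, 107833) .leaf)))) (149692, 0, 16, 11353) (.node (.node (.node (.node .leaf (149695, 0, 13, 105498) .leaf) (149697, 0, 18, 51618) (.node .leaf (149698, 0, 14, 3427) .leaf)) (149701, 0, 15, 61569) (.node (.node .leaf (149702, 0, 13, 160382) .leaf) (149704, 0, 15, 200589) (.node .leaf (149707, 0, 17, 244767) .leaf))) (149708, 0, 13, 94352) (.node (.node (.node .leaf (149711, 0, 16, 230716) .leaf) (149712, 0, 16, 103399) (.node .leaf (149715, 0, 16, 254418) .leaf)) (149716, 0, 18, 157874) (.node (.node .leaf (149719, 0, 15, 252145) .leaf) (149721, 0, 18, 204885) (.node .leaf (149722, 0, 15, 74796) .leaf))))))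

/-- part of the orbit tree -/
def itp4_289 : Tree := (.node itp4_285 (149342, 0, 15, 221365) itp4_286)

/-- part of the orbit tree -/
def itp4_290 : Tree := (.node itp4_287 (149596, 0, 17, 186912) itp4_288)

/-- part of the orbit tree -/
def itp4_291 : Tree := (.node (.node (.node (.node (.node (.node .leaf (149726, 0, 16, 60948) .leaf) (149729, 0, 15, 49461) (.node .leaf (149730, 0, 16, 94313) .leaf)) (149733, 0, 16, 179752) (.node (.node .leaf (149734, 0, 14, 200564) .leaf) (149736, 0, 18, 67497) (.node .leaf (149739, 0, 16, 246747) .leaf))) (149740, 0, 17, 3482) (.node (.node (.node .leaf (149743, 0, 18, 113862) .leaf) (149744, 0, 18, 88676) (.node .leaf (149747, 0, 18, 59943) .leaf)) (149748, 0, 11, 90951) (.node (.node .leaf (149751, 0, 17, 204972) .leaf) (149753, 0, 14, 154975) (.node .leaf (149754, 0, 17, 143321) .leaf)))) (149757, 0, 16, 239289) (.node (.node (.node (.node .leaf (149758, 0, 16, 136954) .leaf) (149761, 0, 16, 176959) (.node .leaf (149762, 0, 16, 206361) .leaf)) (149765, 0, 18, 52258) (.node (.node .leaf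 (149766, 0, 13, 204602) .leaf) (149768, 0, 18, 141) (.node .leaf (149771, 0, 17, 111057) .leaf))) (149772, 0, 19, 27271) (.node (.node (.node .leaf (149775, 0, 14, 121540) .leaf) (149776, 0, 17, 3689) (.node .leaf (149779, 0, 18, 114218) .leaf)) (149780, 0, 13, 58362) (.node (.node .leaf (149783, 0, 16, 100105) .leaf) (149785, 0, 17, 12117) (.node .leaf (149786, 0, 17, 105993) .leaf))))) (149789, 0, 17, 193204) (.node (.node (.node (.node (.node .leaf (149790, 0, 16, 254228) .leaf) (149793, 0, 18, 105903) (.node .leaf (149794, 0, 13, 163689) .leaf)) (149797, 0, 17, 110888) (.node (.node .leaf (149798, 0, 16, 116) .leaf) (149800, 0, 15, 219217) (.node .leaf (149803, 0, 9, 52443) .leaf))) (149804, 0, 16, 221554) (.node (.node (.node .leaf (149807, 0, 18, 184625) .leaf) (149808, 0, 16, 198044) (.node .leaf (149811, 0, 13, 177631) .leaf)) (149812, 0, 17, 106224) (.node (.node .leaf (149815, 0, 11, 167164) .leaf) (149817, 0, 17, 86623) (.node .leaf (149818, 0, 14, 28705) .leaf)))) (149821, 0, 13, 208194) (.node (.node (.node (.node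 .leaf (149822, 0, 14, 18690) .leaf) (149824, 0, 16, 45723) (.node .leaf (149827, 0, 17, 44281) .leaf)) (149828, 0, 18, 183686) (.node (.node .leaf (149831, 0, 18, 228570) .leaf) (149833, 0, 15, 252228) (.node .leaf (149834, 0, 14, 241781) .leaf))) (149837, 0, 18, 32308) (.node (.node (.node .leaf (149838, 0, 17, 118632) .leaf) (149841, 0, 18, 230537) (.node .leaf (149842, 0, 16, 76831) .leaf)) (149845, 0, 13, 189022) (.node (.node .leaf (149846, 0, 17, 134633) .leaf) (149848, 0, 17, 143089) (.node .leaf (149851, 0, 17, 237485) .leaf))))))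

/-- part of the orbit tree -/
def itp4_292 : Tree := (.node (.node (.node (.node (.node (.node .leaf (149855, 0, 13, 123056) .leaf) (149856, 0, 17, 137039) (.node .leaf (149859, 0, 18, 239372) .leaf)) (149860, 0, 17, 142956) (.node (.node .leaf (149863, 0, 17, 237103) .leaf) (149865, 0, 16, 53937) (.node .leaf (149866, 0, 15, 90866) .leaf))) (149869, 0, 17, 60306) (.node (.node (.node .leaf (149870, 0, 17, 45666) .leaf) (149873, 0, 17, 36732) (.node .leaf (149874, 0, 17, 81727) .leaf)) (149877, 0, 17, 46687) (.node (.node .leaf (149878, 0, 17, 142856) .leaf) (149880, 0, 19, 150146) (.node .leaf (149883, 0, 17, 189095) .leaf)))) (149884, 0, 16, 77030) (.node (.node (.node (.node .leaf (149887, 0, 16, 40378) .leaf) (149888, 0, 17, 219768) (.node .leaf (149891, 0, 16, 191268) .leaf)) (149892, 0, 18, 55317) (.node (.node .leaf (149895, 0, 14, 92246) .leaf) (149897, 0, 16, 140488) (.node .leaf (149898, 0, 18, 22678) .leaf))) (149901, 0, 16, 138731) (.node (.node (.node .leaf (149902, 0, 12, 141195) .leaf) (149905, 0, 15, 226720)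 (.node .leaf (149906, 0, 11, 248134) .leaf)) (149909, 0, 16, 147494) (.node (.node .leaf (149910, 0, 16, 258149) .leaf) (149912, 0, 17, 116242) (.node .leaf (149915, 0, 17, 68792) .leaf))))) (149916, 0, 15, 34264) (.node (.node (.node (.node (.node .leaf (149919, 0, 16, 79259) .leaf) (149920, 0, 15, 256707) (.node .leaf (149923, 0, 17, 154240) .leaf)) (149924, 0, 19, 22639) (.node (.node .leaf (149927, 0, 16, 156579) .leaf) (149929, 0, 17, 38080) (.node .leaf (149930, 0, 11, 40830) .leaf))) (149933, 0, 14, 71198) (.node (.node (.node .leaf (149934, 0, 16, 219777) .leaf) (149937, 0, 18, 94960) (.node .leaf (149938, 0, 16, 49843) .leaf)) (149941, 0, 16, 84947) (.node (.node .leaf (149942, 0, 15, 64400) .leaf) (149944, 0, 18, 243470) (.node .leaf (149947, 0, 17, 132941) .leaf)))) (149948, 0, 15, 233005) (.node (.node (.node (.node .leaf (149951, 0, 18, 147054) .leaf) (149953, 0, 15, 89052) (.node .leaf (149954, 0, 15, 60032) .leaf)) (149957, 0, 14, 206017) (.node (.node .leaf (149958, 0, 17, 189110) .leaf) (149960, 0, 14, 256110)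 (.node .leaf (149963, 0, 16, 153906) .leaf))) (149964, 0, 17, 104307) (.node (.node (.node .leaf (149967, 0, 15, 9775) .leaf) (149968, 0, 13, 127973) (.node .leaf (149971, 0, 17, 50520) .leaf)) (149972, 0, 17, 117446) (.node (.node .leaf (149975, 0, 15, 31365) .leaf) (149977, 0, 17, 210459) (.node .leaf (149978, 0, 12, 161514) .leaf))))))

/-- part of the orbit tree -/
def itp4_293 : Tree := (.node (.node (.node (.node (.node (.node .leaf (149982, 0, 17, 2551) .leaf) (149985, 0, 15, 24611) (.node .leaf (149986, 0, 17, 118880) .leaf)) (149989, 0, 15, 154059) (.node (.node .leaf (149990, 0, 15, 256151) .leaf) (149992, 0, 18, 173533) (.node .leaf (149995, 0, 17, 202142) .leaf))) (149996, 0, 15, 171262) (.node (.node (.node .leaf (149999, 0, 17, 208061) .leaf) (150000, 0, 18, 194576) (.node .leaf (150003, 0, 16, 215123) .leaf)) (150004, 0, 15, 180531) (.node (.node .leaf (150007, 0, 17, 225648) .leaf) (150009, 0, 16, 178876) (.node .leaf (150010, 0, 15, 101805) .leaf)))) (150013, 0, 15, 1229) (.node (.node (.node (.node .leaf (150014,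 0, 16, 111758) .leaf) (150016, 0, 16, 2270) (.node .leaf (150017, 0, 15, 71774) .leaf)) (150020, 0, 16, 114971) (.node (.node .leaf (150021, 0, 15, 12013) .leaf) (150026, 0, 16, 167301) (.node .leaf (150027, 0, 19, 86814) .leaf))) (150030, 0, 16, 95533) (.node (.node (.node .leaf (150031, 0, 15, 152768) .leaf) (150034, 0, 18, 104026) (.node .leaf (150035, 0, 18, 249716) .leaf)) (150038, 0, 18, 256327) (.node (.node .leaf (150039, 0, 16, 110697) .leaf) (150040, 0, 15, 169140) (.node .leaf (150041, 0, 16, 83347) .leaf))))) (150044, 0, 13, 60329) (.node (.node (.node (.node (.node .leaf (150045, 0, 17, 176775) .leaf) (150048, 0, 13, 95700) (.node .leaf (150049, 0, 16, 136107) .leaf)) (150052, 0, 14, 183022) (.node (.node .leaf (150053, 0, 16, 87015) .leaf) (150058, 0, 18, 99952) (.node .leaf (150059, 0, 13, 91670) .leaf))) (150062, 0, 16, 2087) (.node (.node (.node .leaf (150063, 0, 17, 89909) .leaf) (150066, 0, 17, 60240) (.node .leaf (150067, 0, 18, 176766) .leaf)) (150070, 0, 15, 169037) (.node (.node .leaf (150071, 0, 14,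 66296) .leaf) (150072, 0, 9, 256446) (.node .leaf (150073, 0, 17, 151142) .leaf)))) (150076, 0, 15, 169763) (.node (.node (.node (.node .leaf (150077, 0, 17, 161605) .leaf) (150082, 0, 16, 243750) (.node .leaf (150083, 0, 14, 123144) .leaf)) (150086, 0, 14, 261048) (.node (.node .leaf (150087, 0, 15, 203742) .leaf) (150088, 0, 17, 47816) (.node .leaf (150089, 0, 18, 22336) .leaf))) (150092, 0, 15, 36357) (.node (.node (.node .leaf (150093, 0, 17, 28259) .leaf) (150096, 0, 13, 60139) (.node .leaf (150097, 0, 15, 2701) .leaf)) (150100, 0, 17, 22975) (.node (.node .leaf (150101, 0, 17, 131217) .leaf) (150106, 0, 16, 237398) (.node .leaf (150107, 0, 16, 228706) .leaf))))))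

/-- part of the orbit tree -/
def itp4_294 : Tree := (.node (.node (.node (.node (.node (.node .leaf (150111, 0, 15, 66175) .leaf) (150114, 0, 15, 51566) (.node .leaf (150115, 0, 18, 39938) .leaf)) (150118, 0, 17, 61517) (.node (.node .leaf (150119, 0, 19, 4139) .leaf) (150120, 0, 15, 116674) (.node .leaf (150121, 0, 18, 220341) .leaf))) (150124, 0, 17, 230896) (.node (.node (.node .leaf (150125, 0, 16, 123377) .leaf) (150128, 0, 16, 254238) (.node .leaf (150129, 0, 14, 196984) .leaf)) (150132, 0, 16, 74933) (.node (.node .leaf (150133, 0, 17, 211035) .leaf) (150138, 0, 17, 22854) (.node .leaf (150139, 0, 17, 29893) .leaf)))) (150142, 0, 17, 140891) (.node (.node (.node (.node .leaf (150143, 0, 14, 19942) .leaf) (150146, 0, 18, 147223) (.node .leaf (150147, 0, 17, 188273) .leaf)) (150150, 0, 16, 143320) (.node (.node .leaf (150151, 0, 18, 190034) .leaf) (150152, 0, 16, 84650) (.node .leaf (150153, 0, 13, 109260) .leaf))) (150156, 0, 14, 95113) (.node (.node (.node .leaf (150157, 0, 14, 226328) .leaf) (150160, 0, 16, 118337)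 (.node .leaf (150161, 0, 18, 128769) .leaf)) (150164, 0, 16, 77380) (.node (.node .leaf (150165, 0, 15, 125042) .leaf) (150170, 0, 17, 183471) (.node .leaf (150171, 0, 18, 38273) .leaf))))) (150174, 0, 11, 154617) (.node (.node (.node (.node (.node .leaf (150175, 0, 13, 179103) .leaf) (150178, 0, 17, 77263) (.node .leaf (150179, 0, 15, 119940) .leaf)) (150182, 0, 18, 217810) (.node (.node .leaf (150183, 0, 16, 68604) .leaf) (150184, 0, 11, 143137) (.node .leaf (150185, 0, 16, 172345) .leaf))) (150188, 0, 18, 20540) (.node (.node (.node .leaf (150189, 0, 17, 170010) .leaf) (150192, 0, 17, 45899) (.node .leaf (150193, 0, 17, 191077) .leaf)) (150196, 0, 18, 140721) (.node (.node .leaf (150197, 0, 16, 181719) .leaf) (150202, 0, 18, 242085) (.node .leaf (150203, 0, 16, 125067) .leaf)))) (150206, 0, 18, 118456) (.node (.node (.node (.node .leaf (150207, 0, 17, 235414) .leaf) (150208, 0, 16, 254013) (.node .leaf (150209, 0, 15, 58834) .leaf)) (150212, 0, 16, 15511) (.node (.node .leaf (150213, 0, 17, 247310) .leaf) (150218, 0, 15,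 58067) (.node .leaf (150219, 0, 10, 233583) .leaf))) (150222, 0, 15, 215338) (.node (.node (.node .leaf (150223, 0, 18, 239948) .leaf) (150226, 0, 12, 208324) (.node .leaf (150227, 0, 14, 10135) .leaf)) (150230, 0, 17, 201959) (.node (.node .leaf (150231, 0, 18, 153738) .leaf) (150232, 0, 19, 97367) .leaf)))))

/-- part of the orbit tree -/
def itp4_295 : Tree := (.node itp4_291 (149852, 0, 17, 20972) itp4_292)

/-- part of the orbit tree -/
def itp4_296 : Tree := (.node itp4_293 (150110, 0, 15, 219985) itp4_294)

/-- part of the orbit tree -/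
def itp4_297 : Tree := (.node itp4_289 (149466, 0, 13, 80653) itp4_290)

/-- part of the orbit tree -/
def itp4_298 : Tree := (.node itp4_295 (149981, 0, 15, 112811) itp4_296)

/-- part of the orbit tree -/
def itp4_299 : Tree := (.node (.node (.node (.node (.node (.node .leaf (150236, 0, 18, 24922) .leaf) (150237, 0, 18, 33084) (.node .leaf (150240, 0, 12, 200257) .leaf)) (150241, 0, 17, 257575) (.node (.node .leaf (150244, 0, 18, 57898) .leaf) (150245, 0, 17, 178948) (.node .leaf (150250, 0, 15, 106457) .leaf))) (150251, 0, 17, 247543) (.node (.node (.node .leaf (150254, 0, 13, 17119) .leaf) (150255, 0, 17, 113130) (.node .leaf (150258, 0, 15, 9777) .leaf)) (150259, 0, 18, 50775) (.node (.node .leaf (150262, 0, 16, 97454) .leaf) (150263, 0, 13, 65396) (.node .leaf (150264, 0, 14, 349) .leaf)))) (150265, 0, 17, 153715) (.node (.node (.node (.node .leaf (150268, 0, 15, 163392) .leaf) (150269, 0, 18, 10094) (.node .leaf (150272, 0, 14, 154188) .leaf)) (150273, 0, 17, 177683) (.node (.node .leaf (150276, 0, 16, 156527) .leaf)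 (150277, 0, 15, 51470) (.node .leaf (150282, 0, 10, 77809) .leaf))) (150283, 0, 15, 111869) (.node (.node (.node .leaf (150286, 0, 17, 103118) .leaf) (150287, 0, 15, 128692) (.node .leaf (150290, 0, 14, 94780) .leaf)) (150291, 0, 14, 103002) (.node (.node .leaf (150294, 0, 14, 200356) .leaf) (150295, 0, 17, 109433) (.node .leaf (150296, 0, 17, 132993) .leaf))))) (150297, 0, 15, 190439) (.node (.node (.node (.node (.node .leaf (150300, 0, 17, 147106) .leaf) (150301, 0, 15, 188100) (.node .leaf (150304, 0, 17, 86457) .leaf)) (150305, 0, 18, 111071) (.node (.node .leaf (150308, 0, 17, 257322) .leaf) (150309, 0, 19, 100604) (.node .leaf (150314, 0, 16, 140292) .leaf))) (150315, 0, 14, 181346) (.node (.node (.node .leaf (150318, 0, 16, 138535) .leaf) (150319, 0, 16, 177898) (.node .leaf (150322, 0, 16, 162249) .leaf)) (150323, 0, 12, 170415) (.node (.node .leaf (150326, 0, 17, 147690) .leaf) (150327, 0, 18, 10880) (.node .leaf (150328, 0, 14, 200285) .leaf)))) (150329, 0, 17, 125970) (.node (.node (.node (.node .leaf (150332, 0,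 15, 94528) .leaf) (150333, 0, 17, 120113) (.node .leaf (150338, 0, 14, 221125) .leaf)) (150339, 0, 16, 32905) (.node (.node .leaf (150342, 0, 19, 22988) .leaf) (150343, 0, 12, 47530) (.node .leaf (150344, 0, 18, 23851) .leaf))) (150345, 0, 17, 259380) (.node (.node (.node .leaf (150348, 0, 15, 139830) .leaf) (150349, 0, 16, 31512) (.node .leaf (150352, 0, 13, 180545) .leaf)) (150353, 0, 18, 39023) (.node (.node .leaf (150356, 0, 15, 48732) .leaf) (150357, 0, 14, 233946) (.node .leaf (150362, 0, 18, 115631) .leaf))))))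

/-- part of the orbit tree -/
def itp4_300 : Tree := (.node (.node (.node (.node (.node (.node .leaf (150366, 0, 15, 244914) .leaf) (150367, 0, 11, 58471) (.node .leaf (150370, 0, 15, 224026) .leaf)) (150371, 0, 15, 31713) (.node (.node .leaf (150374, 0, 14, 24018) .leaf) (150375, 0, 18, 132348) (.node .leaf (150376, 0, 14, 73761) .leaf))) (150377, 0, 16, 227599) (.node (.node (.node .leaf (150380, 0, 15, 220988) .leaf) (150381, 0, 14, 51170) (.node .leaf (150384, 0, 10, 244811) .leaf)) (150385, 0, 16, 41740) (.node (.node .leaf (150388, 0, 16, 31305) .leaf) (150389, 0, 13, 39471) (.node .leaf (150394, 0, 18, 48805) .leaf)))) (150395, 0, 18, 190347) (.node (.node (.node (.node .leaf (150398, 0, 12, 180664) .leaf) (150399, 0, 15, 257938) (.node .leaf (150402, 0, 18, 46886) .leaf)) (150403, 0, 17, 192008) (.node (.node .leaf (150406, 0, 15, 107584) .leaf) (150407, 0, 12, 82982) (.node .leaf (150408, 0, 17, 243144) .leaf))) (150409, 0, 17, 126182) (.node (.node (.node .leaf (150412, 0, 17, 184829) .leaf) (150413, 0, 14, 143771)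 (.node .leaf (150416, 0, 17, 76194) .leaf)) (150417, 0, 17, 225420) (.node (.node .leaf (150420, 0, 18, 218815) .leaf) (150421, 0, 18, 158806) (.node .leaf (150426, 0, 17, 142156) .leaf))))) (150427, 0, 17, 73928) (.node (.node (.node (.node (.node .leaf (150430, 0, 18, 21585) .leaf) (150431, 0, 17, 134527) (.node .leaf (150434, 0, 16, 117292) .leaf)) (150435, 0, 15, 161520) (.node (.node .leaf (150438, 0, 13, 242993) .leaf) (150439, 0, 15, 151507) (.node .leaf (150440, 0, 15, 123691) .leaf))) (150441, 0, 17, 66381) (.node (.node (.node .leaf (150444, 0, 16, 47071) .leaf) (150445, 0, 18, 80494) (.node .leaf (150448, 0, 16, 21672) .leaf)) (150449, 0, 17, 134534) (.node (.node .leaf (150452, 0, 15, 142261) .leaf) (150453, 0, 15, 29339) (.node .leaf (150458, 0, 14, 218694) .leaf)))) (150459, 0, 16, 142141) (.node (.node (.node (.node .leaf (150462, 0, 17, 193144) .leaf) (150463, 0, 16, 135710) (.node .leaf (150464, 0, 12, 198622) .leaf)) (150465, 0, 17, 214950) (.node (.node .leaf (150468, 0, 16, 237283) .leaf) (150469, 0, 17,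 205293) (.node .leaf (150474, 0, 18, 53885) .leaf))) (150475, 0, 15, 12827) (.node (.node (.node .leaf (150478, 0, 15, 60254) .leaf) (150479, 0, 17, 2872) (.node .leaf (150482, 0, 15, 170330) .leaf)) (150483, 0, 14, 28630) (.node (.node .leaf (150486, 0, 13, 46739) .leaf) (150487, 0, 15, 22261) (.node .leaf (150488, 0, 17, 260621) .leaf))))))

/-- part of the orbit tree -/
def itp4_301 : Tree := (.node (.node (.node (.node (.node (.node .leaf (150492, 0, 17, 255145) .leaf) (150493, 0, 12, 114055) (.node .leaf (150496, 0, 16, 44085) .leaf)) (150497, 0, 15, 19539) (.node (.node .leaf (150500, 0, 15, 38166) .leaf) (150501, 0, 16, 30064) (.node .leaf (150506, 0, 17, 252296) .leaf))) (150507, 0, 13, 205076) (.node (.node (.node .leaf (150510, 0, 13, 254123) .leaf) (150511, 0, 14, 89609) (.node .leaf (150514, 0, 18, 230469) .leaf)) (150515, 0, 17, 222243) (.node (.node .leaf (150518, 0, 12, 105293) .leaf) (150519, 0, 16, 220416) (.node .leaf (150520, 0, 14, 61944) .leaf)))) (150521, 0, 18, 180112) (.node (.node (.node (.node .leaf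 (150524, 0, 16, 170403) .leaf) (150525, 0, 13, 10429) (.node .leaf (150528, 0, 14, 52960) .leaf)) (150530, 0, 15, 59508) (.node (.node .leaf (150532, 0, 17, 63427) .leaf) (150534, 0, 9, 108518) (.node .leaf (150537, 0, 16, 133918) .leaf))) (150539, 0, 18, 154566) (.node (.node (.node .leaf (150541, 0, 13, 143933) .leaf) (150543, 0, 16, 221720) (.node .leaf (150545, 0, 18, 208862) .leaf)) (150547, 0, 16, 198390) (.node (.node .leaf (150549, 0, 19, 86211) .leaf) (150551, 0, 18, 212949) (.node .leaf (150552, 0, 13, 105580) .leaf))))) (150554, 0, 17, 160798) (.node (.node (.node (.node (.node .leaf (150556, 0, 17, 43534) .leaf) (150558, 0, 16, 2819) (.node .leaf (150560, 0, 18, 163084) .leaf)) (150562, 0, 16, 103806) (.node (.node .leaf (150564, 0, 17, 529) .leaf) (150566, 0, 16, 256611) (.node .leaf (150569, 0, 14, 65771) .leaf))) (150571, 0, 16, 20686) (.node (.node (.node .leaf (150573, 0, 18, 80328) .leaf) (150575, 0, 19, 27117) (.node .leaf (150577, 0, 14, 152276) .leaf)) (150579, 0, 18, 3331) (.node (.node .leaf (150581,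 0, 15, 91141) .leaf) (150583, 0, 12, 247227) (.node .leaf (150584, 0, 17, 57702) .leaf)))) (150586, 0, 17, 182525) (.node (.node (.node (.node .leaf (150588, 0, 15, 238075) .leaf) (150590, 0, 16, 95753) (.node .leaf (150593, 0, 15, 214016) .leaf)) (150595, 0, 15, 190928) (.node (.node .leaf (150597, 0, 18, 228643) .leaf) (150599, 0, 17, 142598) (.node .leaf (150600, 0, 17, 242192) .leaf))) (150602, 0, 15, 23138) (.node (.node (.node .leaf (150604, 0, 16, 118029) .leaf) (150606, 0, 16, 140671) (.node .leaf (150608, 0, 17, 77434) .leaf)) (150610, 0, 18, 35862) (.node (.node .leaf (150612, 0, 15, 217447) .leaf) (150614, 0, 16, 47381) (.node .leaf (150617, 0, 17, 203213) .leaf))))))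

/-- part of the orbit tree -/
def itp4_302 : Tree := (.node (.node (.node (.node (.node (.node .leaf (150621, 0, 16, 205038) .leaf) (150623, 0, 14, 159947) (.node .leaf (150625, 0, 15, 20469) .leaf)) (150627, 0, 17, 234714) (.node (.node .leaf (150629, 0, 16, 30422) .leaf) (150631, 0, 12, 75507) (.node .leaf (150632, 0, 16, 184090) .leaf))) (150634, 0, 14, 75624) (.node (.node (.node .leaf (150636, 0, 16, 176936) .leaf) (150638, 0, 16, 219253) (.node .leaf (150640, 0, 15, 21360) .leaf)) (150642, 0, 16, 244482) (.node (.node .leaf (150644, 0, 18, 192229) .leaf) (150646, 0, 16, 245440) (.node .leaf (150649, 0, 16, 188610) .leaf)))) (150651, 0, 15, 67760) (.node (.node (.node (.node .leaf (150653, 0, 16, 11035) .leaf) (150655, 0, 16, 227245) (.node .leaf (150657, 0, 17, 190785) .leaf)) (150659, 0, 16, 65843) (.node (.node .leaf (150661, 0, 14, 164015) .leaf) (150663, 0, 15, 228910) (.node .leaf (150664, 0, 16, 23283) .leaf))) (150666, 0, 14, 242305) (.node (.node (.node .leaf (150668, 0, 16, 17745) .leaf) (150670, 0, 18, 71028)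 (.node .leaf (150672, 0, 15, 181913) .leaf)) (150674, 0, 18, 77547) (.node (.node .leaf (150676, 0, 15, 47492) .leaf) (150678, 0, 16, 217590) (.node .leaf (150681, 0, 15, 189505) .leaf))))) (150683, 0, 19, 242788) (.node (.node (.node (.node (.node .leaf (150685, 0, 14, 133686) .leaf) (150687, 0, 17, 123460) (.node .leaf (150689, 0, 18, 234571) .leaf)) (150691, 0, 15, 57948) (.node (.node .leaf (150693, 0, 17, 101210) .leaf) (150695, 0, 14, 56191) (.node .leaf (150696, 0, 16, 75769) .leaf))) (150698, 0, 15, 184203) (.node (.node (.node .leaf (150700, 0, 16, 216740) .leaf) (150702, 0, 14, 138881) (.node .leaf (150704, 0, 14, 207434) .leaf)) (150706, 0, 16, 162415) (.node (.node .leaf (150708, 0, 14, 115854) .leaf) (150710, 0, 17, 142588) (.node .leaf (150713, 0, 18, 126900) .leaf)))) (150715, 0, 13, 188499) (.node (.node (.node (.node .leaf (150717, 0, 15, 120471) .leaf) (150719, 0, 15, 40782) (.node .leaf (150720, 0, 17, 59621) .leaf)) (150722, 0, 15, 196759) (.node (.node .leaf (150724, 0, 15, 68175) .leaf) (150726, 0, 15,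 98186) (.node .leaf (150729, 0, 19, 259730) .leaf))) (150731, 0, 16, 173751) (.node (.node (.node .leaf (150733, 0, 18, 249777) .leaf) (150735, 0, 16, 248888) (.node .leaf (150737, 0, 17, 240479) .leaf)) (150739, 0, 17, 195450) (.node (.node .leaf (150741, 0, 16, 178208) .leaf) (150743, 0, 17, 180825) (.node .leaf (150744, 0, 15, 93857) .leaf))))))

/-- part of the orbit tree -/
def itp4_303 : Tree := (.node itp4_299 (150363, 0, 16, 56644) itp4_300)

/-- part of the orbit tree -/
def itp4_304 : Tree := (.node itp4_301 (150619, 0, 18, 30138) itp4_302)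

/-- part of the orbit tree -/
def itp4_305 : Tree := (.node (.node (.node (.node (.node (.node .leaf (150748, 0, 16, 2962) .leaf) (150750, 0, 17, 1959) (.node .leaf (150752, 0, 18, 103919) .leaf)) (150754, 0, 18, 163229) (.node (.node .leaf (150756, 0, 15, 131514) .leaf) (150758, 0, 17, 640) (.node .leaf (150761, 0, 13, 206429) .leaf))) (150763, 0, 15, 109890) (.node (.node (.node .leaf (150765, 0, 14, 88384) .leaf) (150767, 0, 17, 176434) (.node .leaf (150769, 0, 17, 41130) .leaf)) (150771, 0, 15, 152133) (.node (.node .leaf (150773, 0, 16, 247082) .leaf) (150775, 0, 13, 117164) (.node .leaf (150776, 0, 16, 199045) .leaf)))) (150778, 0, 16, 210289) (.node (.node (.node (.node .leaf (150780, 0, 17, 154743) .leaf) (150782, 0, 16, 171754) (.node .leaf (150784, 0, 15, 255973) .leaf)) (150786, 0, 13, 3991) (.node (.node .leaf (150788, 0, 16, 218551) .leaf) (150790, 0, 13, 159882) (.node .leaf (150793, 0, 17, 87127) .leaf))) (150795, 0, 12, 63823) (.node (.node (.node .leaf (150797, 0, 17, 102473) .leaf) (150799, 0, 17, 49260)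 (.node .leaf (150801, 0, 16, 128167) .leaf)) (150803, 0, 15, 8271) (.node (.node .leaf (150805, 0, 14, 112416) .leaf) (150807, 0, 16, 40353) (.node .leaf (150808, 0, 16, 209241) .leaf))))) (150810, 0, 17, 156028) (.node (.node (.node (.node (.node .leaf (150812, 0, 17, 197778) .leaf) (150814, 0, 12, 153695) (.node .leaf (150816, 0, 17, 170735) .leaf)) (150818, 0, 14, 79684) (.node (.node .leaf (150820, 0, 15, 24130) .leaf) (150822, 0, 14, 200064) (.node .leaf (150825, 0, 11, 172703) .leaf))) (150827, 0, 16, 246063) (.node (.node (.node .leaf (150829, 0, 17, 170940) .leaf) (150831, 0, 17, 114226) (.node .leaf (150833, 0, 17, 177463) .leaf)) (150835, 0, 16, 241527) (.node (.node .leaf (150837, 0, 17, 181873) .leaf) (150839, 0, 15, 205400) (.node .leaf (150840, 0, 15, 1669) .leaf)))) (150842, 0, 15, 257783) (.node (.node (.node (.node .leaf (150844, 0, 16, 911) .leaf) (150846, 0, 17, 102890) (.node .leaf (150849, 0, 17, 124481) .leaf)) (150851, 0, 16, 112209) (.node (.node .leaf (150853, 0, 15, 235868) .leaf) (150855, 0, 18, 102258)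 (.node .leaf (150856, 0, 17, 218611) .leaf))) (150858, 0, 15, 48513) (.node (.node (.node .leaf (150860, 0, 14, 137897) .leaf) (150862, 0, 17, 215692) (.node .leaf (150864, 0, 16, 117145) .leaf)) (150866, 0, 14, 139755) (.node (.node .leaf (150868, 0, 15, 149348) .leaf) (150870, 0, 14, 202561) (.node .leaf (150873, 0, 17, 227883) .leaf))))))

/-- part of the orbit tree -/
def itp4_306 : Tree := (.node (.node (.node (.node (.node (.node .leaf (150877, 0, 14, 33434) .leaf) (150879, 0, 17, 119487) (.node .leaf (150881, 0, 16, 257409) .leaf)) (150883, 0, 17, 179620) (.node (.node .leaf (150885, 0, 17, 189526) .leaf) (150887, 0, 16, 164999) (.node .leaf (150888, 0, 18, 75903) .leaf))) (150890, 0, 15, 114827) (.node (.node (.node .leaf (150892, 0, 18, 69980) .leaf) (150894, 0, 18, 16761) (.node .leaf (150896, 0, 16, 46227) .leaf)) (150898, 0, 16, 9623) (.node (.node .leaf (150900, 0, 16, 85137) .leaf) (150902, 0, 14, 74748) (.node .leaf (150905, 0, 16, 241740) .leaf)))) (150907, 0, 17, 126803) (.node (.node (.node (.node .leaf (150909,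 0, 16, 231791) .leaf) (150911, 0, 10, 233550) (.node .leaf (150913, 0, 12, 134818) .leaf)) (150915, 0, 13, 19421) (.node (.node .leaf (150917, 0, 16, 74459) .leaf) (150919, 0, 14, 29438) (.node .leaf (150920, 0, 14, 48400) .leaf))) (150922, 0, 17, 218466) (.node (.node (.node .leaf (150924, 0, 19, 180749) .leaf) (150926, 0, 12, 76415) (.node .leaf (150928, 0, 18, 230347) .leaf)) (150930, 0, 16, 185326) (.node (.node .leaf (150932, 0, 14, 24167) .leaf) (150934, 0, 15, 191181) (.node .leaf (150937, 0, 16, 83509) .leaf))))) (150939, 0, 15, 228026) (.node (.node (.node (.node (.node .leaf (150941, 0, 14, 98070) .leaf) (150943, 0, 17, 12083) (.node .leaf (150945, 0, 15, 135181) .leaf)) (150947, 0, 12, 213032) (.node (.node .leaf (150949, 0, 13, 141614) .leaf) (150951, 0, 16, 189639) (.node .leaf (150952, 0, 14, 114714) .leaf))) (150954, 0, 15, 141416) (.node (.node (.node .leaf (150956, 0, 18, 245511) .leaf) (150958, 0, 16, 113909) (.node .leaf (150960, 0, 15, 34878) .leaf)) (150962, 0, 16, 120859) (.node (.node .leaf (150964, 0,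 16, 45341) .leaf) (150966, 0, 16, 123192) (.node .leaf (150969, 0, 11, 126914) .leaf)))) (150971, 0, 15, 133040) (.node (.node (.node (.node .leaf (150973, 0, 15, 233695) .leaf) (150975, 0, 16, 206022) (.node .leaf (150976, 0, 14, 3846) .leaf)) (150978, 0, 17, 246077) (.node (.node .leaf (150980, 0, 16, 174139) .leaf) (150982, 0, 16, 104553) (.node .leaf (150985, 0, 17, 21734) .leaf))) (150987, 0, 17, 87238) (.node (.node (.node .leaf (150989, 0, 17, 28101) .leaf) (150991, 0, 15, 81376) (.node .leaf (150993, 0, 18, 2347) .leaf)) (150995, 0, 16, 88334) (.node (.node .leaf (150997, 0, 17, 155587) .leaf) (150999, 0, 14, 112561) (.node .leaf (151000, 0, 18, 183509) .leaf))))))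

/-- part of the orbit tree -/
def itp4_307 : Tree := (.node (.node (.node (.node (.node (.node .leaf (151004, 0, 17, 194038) .leaf) (151006, 0, 17, 197635) (.node .leaf (151008, 0, 13, 105197) .leaf)) (151010, 0, 16, 170622) (.node (.node .leaf (151012, 0, 18, 199953) .leaf) (151014, 0, 16, 58723) (.node .leaf (151017, 0, 16, 220947) .leaf))) (151019, 0, 16, 10700) (.node (.node (.node .leaf (151021, 0, 15, 114339) .leaf) (151023, 0, 17, 153297) (.node .leaf (151025, 0, 17, 197342) .leaf)) (151027, 0, 19, 152315) (.node (.node .leaf (151029, 0, 16, 211965) .leaf) (151031, 0, 16, 158680) (.node .leaf (151032, 0, 8, 116512) .leaf)))) (151034, 0, 16, 1556) (.node (.node (.node (.node .leaf (151036, 0, 13, 130563) .leaf) (151038, 0, 15, 162057) (.node .leaf (151048, 0, 16, 257974) .leaf)) (151049, 0, 17, 112280) (.node (.node .leaf (151050, 0, 18, 235309) .leaf) (151051, 0, 16, 155370) (.node .leaf (151052, 0, 17, 102571) .leaf))) (151053, 0, 16, 248197) (.node (.node (.node .leaf (151054, 0, 16, 162009) .leaf) (151055, 0, 17,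 216680) (.node .leaf (151056, 0, 13, 170693) .leaf)) (151057, 0, 16, 162467) (.node (.node .leaf (151058, 0, 16, 248544) .leaf) (151059, 0, 17, 207494) (.node .leaf (151060, 0, 17, 173030) .leaf))))) (151061, 0, 16, 87535) (.node (.node (.node (.node (.node .leaf (151062, 0, 17, 259011) .leaf) (151063, 0, 14, 179613) (.node .leaf (151080, 0, 18, 168636) .leaf)) (151081, 0, 14, 52114) (.node (.node .leaf (151082, 0, 15, 40152) .leaf) (151083, 0, 13, 31934) (.node .leaf (151084, 0, 17, 60833) .leaf))) (151085, 0, 15, 177295) (.node (.node (.node .leaf (151086, 0, 15, 198099) .leaf) (151087, 0, 15, 89341) (.node .leaf (151088, 0, 16, 3798) .leaf)) (151089, 0, 17, 94550) (.node (.node .leaf (151090, 0, 15, 49429) .leaf) (151091, 0, 16, 8563) (.node .leaf (151092, 0, 16, 160203) .leaf)))) (151093, 0, 17, 10469) (.node (.node (.node (.node .leaf (151094, 0, 17, 63542) .leaf) (151095, 0, 14, 245911) (.node .leaf (151104, 0, 17, 220576) .leaf)) (151105, 0, 17, 223344) (.node (.node .leaf (151106, 0, 12, 46546) .leaf) (151107, 0, 16,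 191740) (.node .leaf (151108, 0, 14, 74429) .leaf))) (151109, 0, 10, 228243) (.node (.node (.node .leaf (151110, 0, 14, 182991) .leaf) (151111, 0, 16, 131446) (.node .leaf (151128, 0, 11, 251355) .leaf)) (151129, 0, 14, 210365) (.node (.node .leaf (151130, 0, 13, 141752) .leaf) (151131, 0, 16, 28822) (.node .leaf (151132, 0, 14, 245463) .leaf))))))

/-- part of the orbit tree -/
def itp4_308 : Tree := (.node (.node (.node (.node (.node (.node .leaf (151134, 0, 17, 179421) .leaf) (151135, 0, 15, 154811) (.node .leaf (151136, 0, 17, 33763) .leaf)) (151137, 0, 15, 25477) (.node (.node .leaf (151138, 0, 16, 116952) .leaf) (151139, 0, 17, 78752) (.node .leaf (151140, 0, 17, 24503) .leaf))) (151141, 0, 14, 23206) (.node (.node (.node .leaf (151142, 0, 16, 243653) .leaf) (151143, 0, 15, 126699) (.node .leaf (151160, 0, 19, 56878) .leaf)) (151161, 0, 12, 15944) (.node (.node .leaf (151162, 0, 16, 101899) .leaf) (151163, 0, 18, 93805) (.node .leaf (151164, 0, 18, 59149) .leaf)))) (151165, 0, 16, 1899) (.node (.node (.node (.node .leaf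 (151166, 0, 13, 112424) .leaf) (151167, 0, 12, 225921) (.node .leaf (151168, 0, 16, 46403) .leaf)) (151169, 0, 15, 169468) (.node (.node .leaf (151170, 0, 17, 206271) .leaf) (151171, 0, 6, 66591) (.node .leaf (151172, 0, 16, 182878) .leaf))) (151173, 0, 17, 175327) (.node (.node (.node .leaf (151174, 0, 15, 203932) .leaf) (151175, 0, 17, 261370) (.node .leaf (151192, 0, 15, 141399) .leaf)) (151193, 0, 15, 182321) (.node (.node .leaf (151194, 0, 14, 115035) .leaf) (151195, 0, 18, 235637) (.node .leaf (151196, 0, 17, 22068) .leaf))))) (151197, 0, 16, 192786) (.node (.node (.node (.node (.node .leaf (151198, 0, 13, 245318) .leaf) (151199, 0, 18, 237879) (.node .leaf (151200, 0, 17, 116809) .leaf)) (151201, 0, 15, 233831) (.node (.node .leaf (151202, 0, 14, 139323) .leaf) (151203, 0, 16, 52780) (.node .leaf (151204, 0, 15, 243540) .leaf))) (151205, 0, 15, 126586) (.node (.node (.node .leaf (151206, 0, 16, 24358) .leaf) (151207, 0, 17, 132616) (.node .leaf (151224, 0, 17, 74658) .leaf)) (151225, 0, 17, 115652) (.node (.node .leaf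 (151226, 0, 14, 48209) .leaf) (151227, 0, 15, 189823) (.node .leaf (151228, 0, 17, 72321) .leaf)))) (151229, 0, 17, 129767) (.node (.node (.node (.node .leaf (151230, 0, 16, 19108) .leaf) (151231, 0, 17, 43714) (.node .leaf (151240, 0, 16, 211588) .leaf)) (151241, 0, 19, 155259) (.node (.node .leaf (151242, 0, 12, 158369) .leaf) (151243, 0, 17, 112137) (.node .leaf (151244, 0, 17, 197543) .leaf))) (151245, 0, 17, 254913) (.node (.node (.node .leaf (151246, 0, 15, 102458) .leaf) (151247, 0, 17, 248084) (.node .leaf (151248, 0, 15, 223049) .leaf)) (151249, 0, 14, 231215) (.node (.node .leaf (151250, 0, 15, 145260) .leaf) (151251, 0, 16, 207459) .leaf)))))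

/-- part of the orbit tree -/
def itp4_309 : Tree := (.node itp4_305 (150875, 0, 13, 125852) itp4_306)

/-- part of the orbit tree -/
def itp4_310 : Tree := (.node itp4_307 (151133, 0, 18, 124921) itp4_308)

/-- part of the orbit tree -/
def itp4_311 : Tree := (.node itp4_303 (150489, 0, 16, 246426) itp4_304)

/-- part of the orbit tree -/
def itp4_312 : Tree := (.node itp4_309 (151002, 0, 13, 236784) itp4_310)

/-- part of the orbit tree -/
def itp4_313 : Tree := (.node itp4_297 (149725, 0, 11, 89928) itp4_298)

/-- part of the orbit tree -/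
def itp4_314 : Tree := (.node itp4_311 (150746, 0, 18, 105725) itp4_312)

/-- part of the orbit tree -/
def itp4_315 : Tree := (.node itp4_283 (148189, 0, 16, 196384) itp4_284)

/-- part of the orbit tree -/
def itp4_316 : Tree := (.node itp4_313 (150233, 0, 13, 206201) itp4_314)

/-- part of the orbit tree -/
def itp4_317 : Tree := (.node (.node (.node (.node (.node (.node .leaf (151253, 0, 17, 179468) .leaf) (151254, 0, 16, 134735) (.node .leaf (151255, 0, 14, 192041) .leaf)) (151272, 0, 13, 12657) (.node (.node .leaf (151273, 0, 16, 53527) .leaf) (151274, 0, 16, 90452) (.node .leaf (151275, 0, 17, 98610) .leaf))) (151276, 0, 17, 197954) (.node (.node (.node .leaf (151277, 0, 15, 59444) .leaf) (151278, 0, 15, 88183) (.node .leaf (151279, 0, 15, 177182) .leaf)) (151280, 0, 16, 27836) (.node (.node .leaf (151281, 0, 18, 114459) .leaf) (151282, 0, 17, 81049) (.node .leaf (151283, 0, 15, 122111) .leaf)))) (151284, 0, 14, 104744) (.node (.node (.node (.node .leaf (151285, 0, 19, 46585) .leaf) (151286, 0, 17, 160090) (.node .leaf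 (151287, 0, 16, 124380) .leaf)) (151304, 0, 15, 91516) (.node (.node .leaf (151305, 0, 14, 99610) .leaf) (151306, 0, 19, 13657) (.node .leaf (151307, 0, 15, 178441) .leaf))) (151308, 0, 14, 89183) (.node (.node (.node .leaf (151309, 0, 15, 208486) .leaf) (151310, 0, 13, 3194) (.node .leaf (151311, 0, 16, 50708) .leaf)) (151312, 0, 15, 80049) (.node (.node .leaf (151313, 0, 14, 249105) .leaf) (151314, 0, 17, 26772) (.node .leaf (151315, 0, 17, 35058) .leaf))))) (151316, 0, 17, 256802) (.node (.node (.node (.node (.node .leaf (151317, 0, 18, 123380) .leaf) (151318, 0, 16, 848) (.node .leaf (151319, 0, 16, 154238) .leaf)) (151336, 0, 14, 159369) (.node (.node .leaf (151337, 0, 14, 11377) .leaf) (151338, 0, 16, 105773) (.node .leaf (151339, 0, 13, 253642) .leaf))) (151340, 0, 15, 153514) (.node (.node (.node .leaf (151341, 0, 18, 178124) .leaf) (151342, 0, 17, 254512) (.node .leaf (151343, 0, 14, 255977) .leaf)) (151344, 0, 16, 144196) (.node (.node .leaf (151345, 0, 15, 176155) .leaf) (151346, 0, 16, 222049) (.node .leaf (151347,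 0, 16, 88169) .leaf)))) (151348, 0, 15, 133735) (.node (.node (.node (.node .leaf (151349, 0, 13, 190977) .leaf) (151350, 0, 17, 97882) (.node .leaf (151351, 0, 16, 244260) .leaf)) (151360, 0, 14, 10850) (.node (.node .leaf (151361, 0, 18, 51716) .leaf) (151362, 0, 14, 21041) (.node .leaf (151363, 0, 13, 104993) .leaf))) (151364, 0, 16, 116062) (.node (.node (.node .leaf (151365, 0, 15, 236656) .leaf) (151366, 0, 17, 142636) (.node .leaf (151367, 0, 14, 107266) .leaf)) (151384, 0, 16, 75305) (.node (.node .leaf (151385, 0, 15, 229127) .leaf) (151386, 0, 17, 75658) (.node .leaf (151387, 0, 18, 116716) .leaf))))))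

/-- part of the orbit tree -/
def itp4_318 : Tree := (.node (.node (.node (.node (.node (.node .leaf (151389, 0, 16, 44778) .leaf) (151390, 0, 18, 73385) (.node .leaf (151391, 0, 17, 190568) .leaf)) (151392, 0, 16, 182089) (.node (.node .leaf (151393, 0, 14, 246257) .leaf) (151394, 0, 16, 77627) (.node .leaf (151395, 0, 16, 168404) .leaf))) (151396, 0, 14, 47188) (.node (.node (.node .leaf (151397, 0, 17, 188794) .leaf) (151398, 0, 18, 217126) (.node .leaf (151399, 0, 15, 174327) .leaf)) (151416, 0, 17, 23331) (.node (.node .leaf (151417, 0, 17, 131597) .leaf) (151418, 0, 15, 242513) (.node .leaf (151419, 0, 14, 125567) .leaf)))) (151420, 0, 19, 140350) (.node (.node (.node (.node .leaf (151421, 0, 15, 32016) .leaf) (151422, 0, 13, 136540) (.node .leaf (151423, 0, 13, 193850) .leaf)) (151424, 0, 11, 21152) (.node (.node .leaf (151425, 0, 15, 79752) .leaf) (151426, 0, 18, 244434) (.node .leaf (151427, 0, 16, 123900) .leaf))) (151428, 0, 16, 126669) (.node (.node (.node .leaf (151429, 0, 16, 69291) .leaf) (151430, 0, 17, 116175)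 (.node .leaf (151431, 0, 13, 24206) .leaf)) (151448, 0, 18, 100899) (.node (.node .leaf (151449, 0, 11, 92741) .leaf) (151450, 0, 17, 75448) (.node .leaf (151451, 0, 13, 229270) .leaf))))) (151452, 0, 16, 45527) (.node (.node (.node (.node (.node .leaf (151453, 0, 15, 86886) .leaf) (151454, 0, 12, 58149) (.node .leaf (151455, 0, 14, 835) .leaf)) (151456, 0, 15, 187419) (.node (.node .leaf (151457, 0, 16, 226948) .leaf) (151458, 0, 16, 232510) (.node .leaf (151459, 0, 16, 224344) .leaf))) (151460, 0, 18, 217271) (.node (.node (.node .leaf (151461, 0, 17, 67993) .leaf) (151462, 0, 17, 242973) (.node .leaf (151463, 0, 12, 188907) .leaf)) (151480, 0, 14, 164310) (.node (.node .leaf (151481, 0, 19, 125678) .leaf) (151482, 0, 18, 250355) (.node .leaf (151483, 0, 14, 209301) .leaf)))) (151484, 0, 16, 178421) (.node (.node (.node (.node .leaf (151485, 0, 17, 153747) .leaf) (151486, 0, 17, 140463) (.node .leaf (151487, 0, 18, 198838) .leaf)) (151496, 0, 18, 57526) (.node (.node .leaf (151497, 0, 18, 178584) .leaf) (151498, 0, 16, 198852)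 (.node .leaf (151499, 0, 19, 75955) .leaf))) (151500, 0, 15, 41427) (.node (.node (.node .leaf (151501, 0, 15, 50821) .leaf) (151502, 0, 18, 127478) (.node .leaf (151503, 0, 14, 208631) .leaf)) (151504, 0, 16, 163036) (.node (.node .leaf (151505, 0, 15, 9714) .leaf) (151506, 0, 15, 103704) (.node .leaf (151507, 0, 14, 95614) .leaf))))))

/-- part of the orbit tree -/
def itp4_319 : Tree := (.node (.node (.node (.node (.node (.node .leaf (151509, 0, 18, 7288) .leaf) (151510, 0, 14, 109627) (.node .leaf (151511, 0, 16, 85085) .leaf)) (151528, 0, 15, 105916) (.node (.node .leaf (151529, 0, 14, 226147) .leaf) (151530, 0, 16, 161230) (.node .leaf (151531, 0, 13, 11488) .leaf))) (151532, 0, 17, 240166) (.node (.node (.node .leaf (151533, 0, 14, 113551) .leaf) (151534, 0, 14, 2771) (.node .leaf (151535, 0, 19, 137829) .leaf)) (151536, 0, 16, 197078) (.node (.node .leaf (151537, 0, 19, 88312) .leaf) (151538, 0, 17, 171757) (.node .leaf (151539, 0, 16, 163467) .leaf)))) (151540, 0, 12, 260075) (.node (.node (.node (.node .leaf (151541,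 0, 18, 202637) .leaf) (151542, 0, 19, 174030) (.node .leaf (151543, 0, 15, 53143) .leaf)) (151553, 0, 18, 246678) (.node (.node .leaf (151554, 0, 18, 257891) .leaf) (151556, 0, 13, 165477) (.node .leaf (151559, 0, 15, 210470) .leaf))) (151561, 0, 17, 31416) (.node (.node (.node .leaf (151562, 0, 16, 170070) .leaf) (151564, 0, 16, 41981) (.node .leaf (151567, 0, 16, 179813) .leaf)) (151568, 0, 15, 50963) (.node (.node .leaf (151571, 0, 17, 96080) .leaf) (151573, 0, 13, 7766) (.node .leaf (151574, 0, 15, 162593) .leaf))))) (151576, 0, 14, 198354) (.node (.node (.node (.node (.node .leaf (151579, 0, 15, 178062) .leaf) (151581, 0, 16, 205025) (.node .leaf (151582, 0, 16, 232333) .leaf)) (151585, 0, 16, 87253) (.node (.node .leaf (151586, 0, 15, 200640) .leaf) (151588, 0, 18, 170159) (.node .leaf (151591, 0, 15, 207347) .leaf))) (151593, 0, 17, 152576) (.node (.node (.node .leaf (151594, 0, 16, 255324) .leaf) (151596, 0, 15, 160307) (.node .leaf (151599, 0, 14, 246639) .leaf)) (151600, 0, 18, 249062) (.node (.node .leaf (151603,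 0, 15, 204824) .leaf) (151605, 0, 17, 202147) (.node .leaf (151606, 0, 18, 173536) .leaf)))) (151608, 0, 17, 125310) (.node (.node (.node (.node .leaf (151611, 0, 15, 22845) .leaf) (151613, 0, 12, 77883) (.node .leaf (151614, 0, 14, 32888) .leaf)) (151616, 0, 17, 115250) (.node (.node .leaf (151619, 0, 16, 29550) .leaf) (151621, 0, 17, 123905) (.node .leaf (151622, 0, 16, 48326) .leaf))) (151624, 0, 16, 258136) (.node (.node (.node .leaf (151627, 0, 15, 147483) .leaf) (151629, 0, 16, 207133) (.node .leaf (151630, 0, 13, 170334) .leaf)) (151633, 0, 16, 216563) (.node (.node .leaf (151634, 0, 17, 196016) .leaf) (151636, 0, 16, 234678) (.node .leaf (151639, 0, 15, 31365) .leaf))))))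

/-- part of the orbit tree -/
def itp4_320 : Tree := (.node (.node (.node (.node (.node (.node .leaf (151642, 0, 16, 55336) .leaf) (151644, 0, 16, 74053) (.node .leaf (151647, 0, 15, 36889) .leaf)) (151648, 0, 19, 187957) (.node (.node .leaf (151651, 0, 15, 224886) .leaf) (151653, 0, 15, 39179) (.node .leaf (151654, 0, 17, 243507) .leaf))) (151656, 0, 18, 64429) (.node (.node (.node .leaf (151659, 0, 10, 124152) .leaf) (151661, 0, 17, 29591) (.node .leaf (151662, 0, 17, 115403) .leaf)) (151665, 0, 16, 17926) (.node (.node .leaf (151666, 0, 15, 74172) .leaf) (151668, 0, 13, 46803) (.node .leaf (151671, 0, 17, 67471) .leaf)))) (151673, 0, 16, 156574) (.node (.node (.node (.node .leaf (151674, 0, 14, 250845) .leaf) (151676, 0, 15, 23631) (.node .leaf (151679, 0, 16, 199320) .leaf)) (151680, 0, 14, 10316) (.node (.node .leaf (151683, 0, 17, 236429) .leaf) (151685, 0, 18, 61705) (.node .leaf (151686, 0, 17, 245182) .leaf))) (151688, 0, 15, 134612) (.node (.node (.node .leaf (151691, 0, 13, 225553) .leaf) (151693, 0, 17, 190078)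 (.node .leaf (151694, 0, 15, 218914) .leaf)) (151697, 0, 14, 176255) (.node (.node .leaf (151698, 0, 15, 196668) .leaf) (151700, 0, 17, 140090) (.node .leaf (151703, 0, 13, 252281) .leaf))))) (151705, 0, 15, 38375) (.node (.node (.node (.node (.node .leaf (151706, 0, 15, 220873) .leaf) (151708, 0, 15, 19618) (.node .leaf (151711, 0, 15, 130273) .leaf)) (151712, 0, 12, 205753) (.node (.node .leaf (151715, 0, 14, 190087) .leaf) (151717, 0, 15, 225768) (.node .leaf (151718, 0, 15, 180404) .leaf))) (151720, 0, 16, 245063) (.node (.node (.node .leaf (151723, 0, 11, 134171) .leaf) (151725, 0, 16, 122724) (.node .leaf (151726, 0, 15, 141864) .leaf)) (151729, 0, 16, 113546) (.node (.node .leaf (151730, 0, 17, 182623) .leaf) (151732, 0, 14, 220720) (.node .leaf (151735, 0, 17, 192364) .leaf)))) (151737, 0, 17, 234143) (.node (.node (.node (.node .leaf (151738, 0, 17, 140227) .leaf) (151740, 0, 14, 214871) (.node .leaf (151743, 0, 14, 194324) .leaf)) (151745, 0, 18, 11125) (.node (.node .leaf (151746, 0, 13, 105001) .leaf) (151748, 0,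 14, 228329) (.node .leaf (151751, 0, 15, 113690) .leaf))) (151753, 0, 16, 49641) (.node (.node (.node .leaf (151754, 0, 16, 94389) .leaf) (151756, 0, 18, 59354) (.node .leaf (151759, 0, 15, 60978) .leaf)) (151760, 0, 11, 1197) (.node (.node .leaf (151763, 0, 15, 112113) .leaf) (151765, 0, 15, 8862) (.node .leaf (151766, 0, 15, 21401) .leaf))))))

/-- part of the orbit tree -/
def itp4_321 : Tree := (.node itp4_317 (151388, 0, 14, 219444) itp4_318)

/-- part of the orbit tree -/
def itp4_322 : Tree := (.node itp4_319 (151641, 0, 16, 67446) itp4_320)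

/-- part of the orbit tree -/
def itp4_323 : Tree := (.node (.node (.node (.node (.node (.node .leaf (151771, 0, 16, 89965) .leaf) (151773, 0, 14, 51202) (.node .leaf (151774, 0, 13, 96606) .leaf)) (151777, 0, 17, 43353) (.node (.node .leaf (151778, 0, 16, 59171) .leaf) (151780, 0, 18, 28700) (.node .leaf (151783, 0, 16, 114783) .leaf))) (151785, 0, 16, 113891) (.node (.node (.node .leaf (151786, 0, 13, 3519) .leaf) (151788, 0, 10, 152964) (.node .leaf (151791, 0, 13, 255431) .leaf)) (151792, 0, 16, 143722) (.node (.node .leaf (151795, 0, 17, 229673) .leaf) (151797, 0, 16, 190511) (.node .leaf (151798, 0, 16, 219244) .leaf)))) (151800, 0, 16, 103227) (.node (.node (.node (.node .leaf (151803, 0, 15, 107697) .leaf) (151805, 0, 16, 111880) (.node .leaf (151806, 0, 18, 1108) .leaf)) (151809, 0, 14, 130388) (.node (.node .leaf (151810, 0, 14, 169257) .leaf) (151812, 0, 16, 74769) (.node .leaf (151815, 0, 16, 176922) .leaf))) (151817, 0, 16, 252108) (.node (.node (.node .leaf (151818, 0, 17, 163765) .leaf) (151820, 0, 13, 256218)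 (.node .leaf (151823, 0, 16, 153990) .leaf)) (151824, 0, 13, 222567) (.node (.node .leaf (151827, 0, 17, 178929) .leaf) (151829, 0, 14, 244770) (.node .leaf (151830, 0, 15, 171202) .leaf))))) (151832, 0, 16, 254257) (.node (.node (.node (.node (.node .leaf (151835, 0, 17, 61628) .leaf) (151837, 0, 16, 247554) (.node .leaf (151838, 0, 14, 161374) .leaf)) (151841, 0, 15, 194209) (.node (.node .leaf (151842, 0, 17, 256035) .leaf) (151844, 0, 15, 143332) (.node .leaf (151847, 0, 12, 237479) .leaf))) (151849, 0, 17, 177123) (.node (.node (.node .leaf (151850, 0, 16, 91002) .leaf) (151852, 0, 17, 169424) (.node .leaf (151855, 0, 17, 113215) .leaf)) (151856, 0, 19, 161447) (.node (.node .leaf (151859, 0, 17, 247803) .leaf) (151861, 0, 18, 47063) (.node .leaf (151862, 0, 14, 254408) .leaf)))) (151864, 0, 11, 150282) (.node (.node (.node (.node .leaf (151867, 0, 14, 260937) .leaf) (151869, 0, 15, 178696) (.node .leaf (151870, 0, 13, 199508) .leaf)) (151872, 0, 15, 75217) (.node (.node .leaf (151875, 0, 15, 247799) .leaf) (151877, 0,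 16, 66530) (.node .leaf (151878, 0, 15, 204466) .leaf))) (151880, 0, 14, 21036) (.node (.node (.node .leaf (151883, 0, 14, 32273) .leaf) (151885, 0, 17, 125310) (.node .leaf (151886, 0, 18, 22562) .leaf)) (151889, 0, 16, 68105) (.node (.node .leaf (151890, 0, 14, 47957) .leaf) (151892, 0, 15, 76858) (.node .leaf (151895, 0, 15, 40294) .leaf))))))

/-- part of the orbit tree -/
def itp4_324 : Tree := (.node (.node (.node (.node (.node (.node .leaf (151898, 0, 14, 227932) .leaf) (151900, 0, 18, 136026) (.node .leaf (151903, 0, 17, 30714) .leaf)) (151904, 0, 16, 97345) (.node (.node .leaf (151907, 0, 16, 125319) .leaf) (151909, 0, 9, 32488) (.node .leaf (151910, 0, 16, 118708) .leaf))) (151912, 0, 8, 45639) (.node (.node (.node .leaf (151915, 0, 13, 66331) .leaf) (151917, 0, 15, 38004) (.node .leaf (151918, 0, 15, 143583) .leaf)) (151921, 0, 15, 255090) (.node (.node .leaf (151922, 0, 15, 152625) .leaf) (151924, 0, 17, 212279) (.node .leaf (151927, 0, 14, 167284) .leaf)))) (151929, 0, 17, 40351) (.node (.node (.node (.node .leaf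 (151930, 0, 16, 29097) .leaf) (151932, 0, 18, 71855) (.node .leaf (151935, 0, 17, 68336) .leaf)) (151936, 0, 12, 231992) (.node (.node .leaf (151939, 0, 16, 228462) .leaf) (151941, 0, 18, 217981) (.node .leaf (151942, 0, 14, 219741) .leaf))) (151944, 0, 17, 141230) (.node (.node (.node .leaf (151947, 0, 16, 235250) .leaf) (151949, 0, 17, 131485) (.node .leaf (151950, 0, 16, 241857) .leaf)) (151953, 0, 16, 70155) (.node (.node .leaf (151954, 0, 16, 41544) .leaf) (151956, 0, 17, 181465) (.node .leaf (151959, 0, 17, 31501) .leaf))))) (151961, 0, 16, 210835) (.node (.node (.node (.node (.node .leaf (151962, 0, 17, 244010) .leaf) (151964, 0, 18, 257750) (.node .leaf (151967, 0, 16, 237337) .leaf)) (151968, 0, 19, 33229) (.node (.node .leaf (151971, 0, 17, 78222) .leaf) (151973, 0, 14, 22664) (.node .leaf (151974, 0, 15, 125131) .leaf))) (151976, 0, 16, 219812) (.node (.node (.node .leaf (151979, 0, 15, 201750) .leaf) (151981, 0, 15, 228503) (.node .leaf (151982, 0, 17, 183755) .leaf)) (151985, 0, 17, 137726) (.node (.node .leaf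 (151986, 0, 15, 143036) .leaf) (151988, 0, 17, 180411) (.node .leaf (151991, 0, 15, 225528) .leaf)))) (151993, 0, 14, 15462) (.node (.node (.node (.node .leaf (151994, 0, 16, 101413) .leaf) (151996, 0, 18, 217935) (.node .leaf (151999, 0, 17, 87392) .leaf)) (152001, 0, 17, 52374) (.node (.node .leaf (152002, 0, 18, 110747) .leaf) (152004, 0, 12, 60069) (.node .leaf (152007, 0, 18, 89081) .leaf))) (152009, 0, 17, 140608) (.node (.node (.node .leaf (152010, 0, 16, 104278) .leaf) (152012, 0, 16, 57) (.node .leaf (152015, 0, 14, 110949) .leaf)) (152016, 0, 16, 58190) (.node (.node .leaf (152019, 0, 13, 207016) .leaf) (152021, 0, 17, 50557) (.node .leaf (152022, 0, 17, 258541) .leaf))))))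

/-- part of the orbit tree -/
def itp4_325 : Tree := (.node (.node (.node (.node (.node (.node .leaf (152027, 0, 13, 112782) .leaf) (152029, 0, 14, 12257) (.node .leaf (152030, 0, 12, 106173) .leaf)) (152033, 0, 18, 111004) (.node (.node .leaf (152034, 0, 13, 179054) .leaf) (152036, 0, 17, 104367) (.node .leaf (152039, 0, 13, 9971) .leaf))) (152041, 0, 16, 88832) (.node (.node (.node .leaf (152042, 0, 19, 40694) .leaf) (152044, 0, 16, 97587) (.node .leaf (152047, 0, 9, 52335) .leaf)) (152048, 0, 15, 106052) (.node (.node .leaf (152051, 0, 16, 12056) .leaf) (152053, 0, 18, 112759) (.node .leaf (152054, 0, 16, 64024) .leaf)))) (152056, 0, 14, 95448) (.node (.node (.node (.node .leaf (152059, 0, 15, 50564) .leaf) (152061, 0, 18, 225219) (.node .leaf (152062, 0, 18, 188288) .leaf)) (152064, 0, 17, 168758) (.node (.node .leaf (152065, 0, 16, 160592) .leaf) (152070, 0, 18, 260656) (.node .leaf (152071, 0, 15, 203350) .leaf))) (152072, 0, 13, 46766) (.node (.node (.node .leaf (152073, 0, 15, 22216) .leaf) (152078, 0, 17, 57959) (.node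 .leaf (152079, 0, 19, 81870) .leaf)) (152082, 0, 17, 113478) (.node (.node .leaf (152083, 0, 16, 153662) .leaf) (152084, 0, 17, 53824) (.node .leaf (152085, 0, 12, 12838) .leaf))))) (152090, 0, 17, 237278) (.node (.node (.node (.node (.node .leaf (152091, 0, 16, 229048) .leaf) (152092, 0, 16, 97507) (.node .leaf (152093, 0, 15, 206285) .leaf)) (152096, 0, 16, 104643) (.node (.node .leaf (152097, 0, 15, 179120) .leaf) (152102, 0, 14, 95729) (.node .leaf (152103, 0, 17, 208095) .leaf))) (152104, 0, 17, 2050) (.node (.node (.node .leaf (152105, 0, 17, 220477) .leaf) (152110, 0, 11, 185437) (.node .leaf (152111, 0, 17, 247363) .leaf)) (152114, 0, 13, 176307) (.node (.node .leaf (152115, 0, 15, 206132) .leaf) (152116, 0, 17, 252341) (.node .leaf (152117, 0, 17, 176731) .leaf)))) (152122, 0, 14, 104070) (.node (.node (.node (.node .leaf (152123, 0, 16, 249768) .leaf) (152124, 0, 16, 130093) (.node .leaf (152125, 0, 16, 153799) .leaf)) (152130, 0, 16, 143212) (.node (.node .leaf (152131, 0, 16, 18931) .leaf) (152132, 0, 17, 243715)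 (.node .leaf (152133, 0, 14, 123181) .leaf))) (152138, 0, 18, 181744) (.node (.node (.node .leaf (152139, 0, 16, 158827) .leaf) (152140, 0, 16, 255243) (.node .leaf (152141, 0, 17, 197997) .leaf)) (152144, 0, 16, 242152) (.node (.node .leaf (152145, 0, 18, 125126) .leaf) (152150, 0, 16, 190691) (.node .leaf (152151, 0, 17, 32681) .leaf))))))

/-- part of the orbit tree -/
def itp4_326 : Tree := (.node (.node (.node (.node (.node (.node .leaf (152153, 0, 15, 66138) .leaf) (152158, 0, 12, 52603) (.node .leaf (152159, 0, 15, 11549) .leaf)) (152162, 0, 16, 238176) (.node (.node .leaf (152163, 0, 17, 68424) .leaf) (152164, 0, 16, 181513) (.node .leaf (152165, 0, 13, 39975) .leaf))) (152170, 0, 16, 243962) (.node (.node (.node .leaf (152171, 0, 17, 92062) .leaf) (152172, 0, 16, 61182) (.node .leaf (152173, 0, 16, 30395) .leaf)) (152176, 0, 18, 183522) (.node (.node .leaf (152177, 0, 18, 38348) .leaf) (152182, 0, 13, 220045) (.node .leaf (152183, 0, 18, 66211) .leaf)))) (152184, 0, 16, 140926) (.node (.node (.node (.node .leaf (152185,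 0, 15, 151534) .leaf) (152190, 0, 17, 241937) (.node .leaf (152191, 0, 17, 124991) .leaf)) (152194, 0, 15, 87065) (.node (.node .leaf (152195, 0, 17, 237217) .leaf) (152196, 0, 16, 20704) (.node .leaf (152197, 0, 16, 133582) .leaf))) (152202, 0, 15, 225665) (.node (.node (.node .leaf (152203, 0, 12, 233959) .leaf) (152204, 0, 17, 47740) (.node .leaf (152205, 0, 16, 189266) .leaf)) (152208, 0, 15, 22795) (.node (.node .leaf (152209, 0, 18, 131109) .leaf) (152214, 0, 17, 202095) (.node .leaf (152215, 0, 17, 259337) .leaf))))) (152216, 0, 18, 45975) (.node (.node (.node (.node (.node .leaf (152217, 0, 16, 191161) .leaf) (152222, 0, 16, 75000) (.node .leaf (152223, 0, 15, 228822) .leaf)) (152226, 0, 17, 47749) (.node (.node .leaf (152227, 0, 16, 180106) .leaf) (152228, 0, 13, 77290) (.node .leaf (152229, 0, 16, 226500) .leaf))) (152234, 0, 16, 31348) (.node (.node (.node .leaf (152235, 0, 15, 133431) .leaf) (152236, 0, 16, 70514) (.node .leaf (152237, 0, 15, 127764) .leaf)) (152240, 0, 16, 96156) (.node (.node .leaf (152241, 0,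 16, 104442) .leaf) (152246, 0, 15, 45934) (.node .leaf (152247, 0, 17, 65276) .leaf)))) (152248, 0, 16, 217604) (.node (.node (.node (.node .leaf (152249, 0, 15, 235443) .leaf) (152254, 0, 18, 23026) (.node .leaf (152255, 0, 17, 131292) .leaf)) (152256, 0, 14, 161655) (.node (.node .leaf (152257, 0, 8, 233180) .leaf) (152262, 0, 13, 133052) (.node .leaf (152263, 0, 17, 112950) .leaf))) (152264, 0, 17, 171499) (.node (.node (.node .leaf (152265, 0, 18, 109380) .leaf) (152270, 0, 16, 199300) (.node .leaf (152271, 0, 17, 49730) .leaf)) (152274, 0, 19, 256499) (.node (.node .leaf (152275, 0, 16, 42668) .leaf) (152276, 0, 13, 163484) .leaf)))))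

/-- part of the orbit tree -/
def itp4_327 : Tree := (.node itp4_323 (151897, 0, 17, 182815) itp4_324)

/-- part of the orbit tree -/
def itp4_328 : Tree := (.node itp4_325 (152152, 0, 18, 107645) itp4_326)

/-- part of the orbit tree -/
def itp4_329 : Tree := (.node itp4_321 (151508, 0, 15, 961) itp4_322)

/-- part of the orbit tree -/
def itp4_330 : Tree := (.node itp4_327 (152024, 0, 16, 48499) itp4_328)

/-- part of the orbit tree -/
def itp4_331 : Tree := (.node (.node (.node (.node (.node (.node .leaf (152282, 0, 17, 156498) .leaf) (152283, 0, 15, 164660) (.node .leaf (152284, 0, 17, 199252) .leaf)) (152285, 0, 18, 256562) (.node (.node .leaf (152288, 0, 16, 199293) .leaf) (152289, 0, 17, 34089) (.node .leaf (152294, 0, 16, 171282) .leaf))) (152295, 0, 10, 125999) (.node (.node (.node .leaf (152296, 0, 16, 254177) .leaf) (152297, 0, 16, 172209) (.node .leaf (152302, 0, 19, 207313) .leaf)) (152303, 0, 15, 11936) (.node (.node .leaf (152306, 0, 17, 216383) .leaf) (152307, 0, 16, 52695) (.node .leaf (152308, 0, 17, 197526)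 .leaf)))) (152309, 0, 9, 88760) (.node (.node (.node (.node .leaf (152314, 0, 16, 92327) .leaf) (152315, 0, 18, 10059) (.node .leaf (152316, 0, 15, 256266) .leaf)) (152317, 0, 16, 57799) (.node (.node .leaf (152320, 0, 16, 78146) .leaf) (152321, 0, 14, 119076) (.node .leaf (152326, 0, 19, 61208) .leaf))) (152327, 0, 18, 47138) (.node (.node (.node .leaf (152328, 0, 16, 103147) .leaf) (152329, 0, 15, 259260) (.node .leaf (152334, 0, 13, 1412) .leaf)) (152335, 0, 16, 154794) (.node (.node .leaf (152338, 0, 18, 59123) .leaf) (152339, 0, 16, 194900) (.node .leaf (152340, 0, 17, 94620) .leaf))))) (152341, 0, 15, 233554) (.node (.node (.node (.node (.node .leaf (152346, 0, 17, 15530) .leaf) (152347, 0, 16, 56524) (.node .leaf (152348, 0, 15, 87468) .leaf)) (152349, 0, 13, 112074) (.node (.node .leaf (152352, 0, 15, 1405) .leaf) (152353, 0, 17, 154707) (.node .leaf (152358, 0, 17, 102930) .leaf))) (152359, 0, 12, 248636) (.node (.node (.node .leaf (152360, 0, 17, 61409) .leaf) (152361, 0, 18, 65353) (.node .leaf (152366, 0, 15, 95785)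 .leaf)) (152367, 0, 16, 104015) (.node (.node .leaf (152370, 0, 16, 70343) .leaf) (152371, 0, 16, 127649) (.node .leaf (152372, 0, 15, 3222) .leaf)))) (152373, 0, 18, 153016) (.node (.node (.node (.node .leaf (152378, 0, 18, 210783) .leaf) (152379, 0, 13, 206923) (.node .leaf (152380, 0, 15, 58890) .leaf)) (152381, 0, 15, 179775) (.node (.node .leaf (152386, 0, 15, 199649) .leaf) (152387, 0, 17, 37281) (.node .leaf (152388, 0, 16, 221152) .leaf))) (152389, 0, 15, 67278) (.node (.node (.node .leaf (152394, 0, 16, 77433) .leaf) (152395, 0, 19, 31549) (.node .leaf (152396, 0, 17, 243068) .leaf)) (152397, 0, 13, 42777) (.node (.node .leaf (152400, 0, 16, 9105) .leaf) (152401, 0, 17, 50167) (.node .leaf (152406, 0, 13, 84631) .leaf))))))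

/-- part of the orbit tree -/
def itp4_332 : Tree := (.node (.node (.node (.node (.node (.node .leaf (152408, 0, 14, 244887) .leaf) (152409, 0, 17, 190063) (.node .leaf (152414, 0, 14, 142328) .leaf)) (152415, 0, 16, 29398) (.node (.node .leaf (152418, 0, 17, 243077) .leaf) (152419, 0, 16, 126123) (.node .leaf (152420, 0, 14, 92434) .leaf))) (152421, 0, 15, 31684) (.node (.node (.node .leaf (152426, 0, 16, 140684) .leaf) (152427, 0, 9, 181738) (.node .leaf (152428, 0, 17, 182390) .leaf)) (152429, 0, 17, 37208) (.node (.node .leaf (152432, 0, 16, 142081) .leaf) (152433, 0, 13, 29231) (.node .leaf (152438, 0, 13, 147810) .leaf)))) (152439, 0, 15, 172292) (.node (.node (.node (.node .leaf (152440, 0, 17, 180637) .leaf) (152441, 0, 16, 126362) (.node .leaf (152446, 0, 16, 218866) .leaf)) (152447, 0, 17, 69596) (.node (.node .leaf (152450, 0, 17, 73836) .leaf) (152451, 0, 17, 136715) (.node .leaf (152452, 0, 16, 237419) .leaf))) (152453, 0, 16, 229133) (.node (.node (.node .leaf (152458, 0, 14, 117488) .leaf) (152459, 0, 16, 234462)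 (.node .leaf (152460, 0, 17, 23967) .leaf)) (152461, 0, 16, 132273) (.node (.node .leaf (152464, 0, 14, 122397) .leaf) (152465, 0, 15, 81531) (.node .leaf (152470, 0, 16, 46875) .leaf))))) (152471, 0, 14, 22397) (.node (.node (.node (.node (.node .leaf (152472, 0, 16, 260997) .leaf) (152473, 0, 15, 134490) (.node .leaf (152478, 0, 17, 168579) .leaf)) (152479, 0, 15, 160485) (.node (.node .leaf (152482, 0, 17, 130456) .leaf) (152483, 0, 16, 73214) (.node .leaf (152484, 0, 15, 38046) .leaf))) (152485, 0, 18, 29944) (.node (.node (.node .leaf (152490, 0, 12, 251904) .leaf) (152491, 0, 17, 211046) (.node .leaf (152492, 0, 13, 73877) .leaf)) (152493, 0, 17, 151904) (.node (.node .leaf (152496, 0, 15, 115682) .leaf) (152497, 0, 17, 144782) (.node .leaf (152502, 0, 16, 21645) .leaf)))) (152503, 0, 15, 220296) (.node (.node (.node (.node .leaf (152504, 0, 16, 61552) .leaf) (152505, 0, 12, 4118) (.node .leaf (152510, 0, 16, 48657) .leaf)) (152511, 0, 18, 190271) (.node (.node .leaf (152512, 0, 13, 52430) .leaf) (152513, 0, 11, 11432)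 (.node .leaf (152518, 0, 13, 198651) .leaf))) (152519, 0, 17, 89813) (.node (.node (.node .leaf (152520, 0, 17, 162312) .leaf) (152521, 0, 14, 133424) (.node .leaf (152526, 0, 11, 257383) .leaf)) (152527, 0, 18, 221238) (.node (.node .leaf (152530, 0, 18, 255166) .leaf) (152531, 0, 17, 87870) (.node .leaf (152532, 0, 12, 167352) .leaf))))))

/-- part of the orbit tree -/
def itp4_333 : Tree := (.node (.node (.node (.node (.node (.node .leaf (152538, 0, 18, 114982) .leaf) (152539, 0, 16, 114082) (.node .leaf (152540, 0, 16, 43040) .leaf)) (152541, 0, 14, 18502) (.node (.node .leaf (152544, 0, 16, 257438) .leaf) (152545, 0, 17, 111792) (.node .leaf (152550, 0, 18, 175677) .leaf))) (152551, 0, 10, 9183) (.node (.node (.node .leaf (152552, 0, 15, 198402) .leaf) (152553, 0, 18, 66245) (.node .leaf (152558, 0, 16, 35749) .leaf)) (152559, 0, 14, 27587) (.node (.node .leaf (152562, 0, 17, 61259) .leaf) (152563, 0, 16, 3885) (.node .leaf (152564, 0, 19, 255093) .leaf)))) (152565, 0, 13, 91691) (.node (.node (.node (.node .leaf (152570,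 0, 18, 170374) .leaf) (152571, 0, 17, 142005) (.node .leaf (152572, 0, 16, 238549) .leaf)) (152573, 0, 19, 213939) (.node (.node .leaf (152576, 0, 16, 239086) .leaf) (152578, 0, 18, 98110) (.node .leaf (152581, 0, 12, 176511) .leaf))) (152583, 0, 17, 88333) (.node (.node (.node .leaf (152584, 0, 17, 98422) .leaf) (152586, 0, 17, 53331) (.node .leaf (152589, 0, 17, 88371) .leaf)) (152591, 0, 17, 2326) (.node (.node .leaf (152593, 0, 16, 178324) .leaf) (152595, 0, 17, 86246) (.node .leaf (152596, 0, 17, 171687) .leaf))))) (152598, 0, 12, 95957) (.node (.node (.node (.node (.node .leaf (152601, 0, 14, 152072) .leaf) (152603, 0, 15, 113274) (.node .leaf (152604, 0, 17, 246016) .leaf)) (152606, 0, 15, 105545) (.node (.node .leaf (152608, 0, 17, 44571) .leaf) (152610, 0, 16, 130622) (.node .leaf (152613, 0, 15, 248949) .leaf))) (152615, 0, 15, 75643) (.node (.node (.node .leaf (152616, 0, 16, 166787) .leaf) (152618, 0, 16, 59560) (.node .leaf (152621, 0, 14, 152262) .leaf)) (152623, 0, 17, 52891) (.node (.node .leaf (152625, 0, 14,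 144936) .leaf) (152627, 0, 16, 222733) (.node .leaf (152628, 0, 18, 254893) .leaf)))) (152630, 0, 18, 3039) (.node (.node (.node (.node .leaf (152633, 0, 15, 5040) .leaf) (152635, 0, 13, 51056) (.node .leaf (152636, 0, 14, 51957) .leaf)) (152638, 0, 13, 57667) (.node (.node .leaf (152641, 0, 19, 38632) .leaf) (152643, 0, 17, 229018) (.node .leaf (152644, 0, 16, 63051) .leaf))) (152646, 0, 13, 108142) (.node (.node (.node .leaf (152649, 0, 13, 133782) .leaf) (152651, 0, 16, 234502) (.node .leaf (152652, 0, 16, 23111) .leaf)) (152654, 0, 16, 230390) (.node (.node .leaf (152656, 0, 15, 177981) .leaf) (152658, 0, 18, 255768) (.node .leaf (152661, 0, 18, 159352) .leaf))))))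

/-- part of the orbit tree -/
def itp4_334 : Tree := (.node (.node (.node (.node (.node (.node .leaf (152664, 0, 16, 37541) .leaf) (152666, 0, 15, 115328) (.node .leaf (152669, 0, 16, 30111) .leaf)) (152671, 0, 19, 237037) (.node (.node .leaf (152673, 0, 12, 206075) .leaf) (152675, 0, 15, 131984) (.node .leaf (152676, 0, 11, 261566) .leaf))) (152678, 0, 18, 140707) (.node (.node (.node .leaf (152681, 0, 17, 65891) .leaf) (152683, 0, 10, 20806) (.node .leaf (152684, 0, 16, 75597) .leaf)) (152686, 0, 15, 34819) (.node (.node .leaf (152688, 0, 18, 113864) .leaf) (152690, 0, 14, 142408) (.node .leaf (152693, 0, 8, 91533) .leaf)))) (152695, 0, 17, 13736) (.node (.node (.node (.node .leaf (152696, 0, 16, 235856) .leaf) (152698, 0, 15, 182645) (.node .leaf (152701, 0, 17, 67733) .leaf)) (152703, 0, 17, 188647) (.node (.node .leaf (152705, 0, 17, 119426) .leaf) (152707, 0, 12, 38521) (.node .leaf (152708, 0, 17, 68551) .leaf))) (152710, 0, 16, 23522) (.node (.node (.node .leaf (152713, 0, 18, 234647) .leaf) (152715, 0, 16, 173887)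 (.node .leaf (152716, 0, 15, 242340) .leaf)) (152718, 0, 17, 23254) (.node (.node .leaf (152720, 0, 17, 217555) .leaf) (152722, 0, 18, 137876) (.node .leaf (152725, 0, 17, 234484) .leaf))))) (152727, 0, 14, 40850) (.node (.node (.node (.node (.node .leaf (152728, 0, 13, 244559) .leaf) (152730, 0, 17, 21309) (.node .leaf (152733, 0, 12, 236924) .leaf)) (152735, 0, 17, 29966) (.node (.node .leaf (152737, 0, 17, 131841) .leaf) (152739, 0, 8, 231762) (.node .leaf (152740, 0, 14, 140594) .leaf))) (152742, 0, 17, 217111) (.node (.node (.node .leaf (152745, 0, 17, 64751) .leaf) (152747, 0, 17, 109770) (.node .leaf (152748, 0, 16, 9642) .leaf)) (152750, 0, 14, 95631) (.node (.node .leaf (152752, 0, 16, 142553) .leaf) (152754, 0, 15, 115883) (.node .leaf (152757, 0, 14, 133866) .leaf)))) (152759, 0, 13, 123544) (.node (.node (.node (.node .leaf (152760, 0, 15, 181829) .leaf) (152762, 0, 16, 210169) (.node .leaf (152765, 0, 15, 188534) .leaf)) (152767, 0, 19, 67588) (.node (.node .leaf (152768, 0, 14, 98223) .leaf) (152770, 0, 16, 169949)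 (.node .leaf (152773, 0, 17, 164135) .leaf))) (152775, 0, 15, 176622) (.node (.node (.node .leaf (152776, 0, 18, 32250) .leaf) (152778, 0, 17, 77279) (.node .leaf (152781, 0, 16, 42175) .leaf)) (152783, 0, 14, 128154) (.node (.node .leaf (152785, 0, 15, 49233) .leaf) (152787, 0, 14, 178181) (.node .leaf (152788, 0, 15, 95812) .leaf))))))

/-- part of the orbit tree -/
def itp4_335 : Tree := (.node itp4_331 (152407, 0, 17, 109297) itp4_332)

/-- part of the orbit tree -/
def itp4_336 : Tree := (.node itp4_333 (152663, 0, 14, 212573) itp4_334)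

/-- part of the orbit tree -/
def itp4_337 : Tree := (.node (.node (.node (.node (.node (.node .leaf (152793, 0, 16, 113387) .leaf) (152795, 0, 16, 243180) (.node .leaf (152796, 0, 16, 146572) .leaf)) (152798, 0, 16, 160938) (.node (.node .leaf (152800, 0, 15, 86935) .leaf) (152802, 0, 18, 946) (.node .leaf (152805, 0, 16, 9366) .leaf))) (152807, 0, 17, 249060) (.node (.node (.node .leaf (152808, 0, 16, 59449) .leaf) (152810, 0, 16, 196683) (.node .leaf (152813, 0, 20, 241482) .leaf)) (152815, 0, 18, 196463) (.node (.node .leaf (152817, 0, 17, 11645) .leaf) (152819, 0, 18, 170881) (.node .leaf (152820, 0, 17, 2894) .leaf)))) (152822, 0, 16, 148164) (.node (.node (.node (.node .leaf (152825, 0, 16, 51169) .leaf) (152827, 0, 15, 48665) (.node .leaf (152828, 0, 12, 79737) .leaf)) (152830, 0, 15, 199072) (.node (.node .leaf (152832, 0, 17, 1946) .leaf) (152834, 0, 17, 87999) (.node .leaf (152837, 0, 14, 57055) .leaf))) (152839, 0, 18, 114414) (.node (.node (.node .leaf (152840, 0, 17, 139778) .leaf) (152842, 0, 16, 225831) (.node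 .leaf (152845, 0, 16, 195399) .leaf)) (152847, 0, 16, 87154) (.node (.node .leaf (152849, 0, 17, 155511) .leaf) (152851, 0, 16, 249740) (.node .leaf (152852, 0, 13, 162116) .leaf))))) (152854, 0, 17, 102710) (.node (.node (.node (.node (.node .leaf (152857, 0, 18, 177643) .leaf) (152859, 0, 15, 89497) (.node .leaf (152860, 0, 18, 168920) .leaf)) (152862, 0, 17, 97194) (.node (.node .leaf (152864, 0, 14, 199791) .leaf) (152866, 0, 17, 154698) (.node .leaf (152869, 0, 19, 207766) .leaf))) (152871, 0, 16, 50148) (.node (.node (.node .leaf (152872, 0, 15, 255801) .leaf) (152874, 0, 17, 3915) (.node .leaf (152877, 0, 14, 127154) .leaf)) (152879, 0, 16, 10616) (.node (.node .leaf (152881, 0, 15, 205437) .leaf) (152883, 0, 18, 51727) (.node .leaf (152884, 0, 15, 85273) .leaf)))) (152886, 0, 15, 60476) (.node (.node (.node (.node .leaf (152889, 0, 15, 248033) .leaf) (152891, 0, 15, 8339) (.node .leaf (152892, 0, 17, 223361) .leaf)) (152894, 0, 15, 145572) (.node (.node .leaf (152897, 0, 16, 232826) .leaf) (152899, 0, 17, 235897) (.node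 .leaf (152900, 0, 16, 22328) .leaf))) (152902, 0, 15, 245578) (.node (.node (.node .leaf (152905, 0, 17, 108770) .leaf) (152907, 0, 18, 226277) (.node .leaf (152908, 0, 17, 48548) .leaf)) (152910, 0, 17, 8578) (.node (.node .leaf (152912, 0, 16, 70985) .leaf) (152914, 0, 15, 17772) (.node .leaf (152917, 0, 16, 117772) .leaf))))))

/-- part of the orbit tree -/
def itp4_338 : Tree := (.node (.node (.node (.node (.node (.node .leaf (152920, 0, 15, 46159) .leaf) (152922, 0, 16, 155892) (.node .leaf (152925, 0, 17, 37500) .leaf)) (152927, 0, 16, 227854) (.node (.node .leaf (152929, 0, 17, 34447) .leaf) (152931, 0, 18, 120490) (.node .leaf (152932, 0, 17, 76338) .leaf))) (152934, 0, 16, 180800) (.node (.node (.node .leaf (152937, 0, 19, 124573) .leaf) (152939, 0, 10, 134895) (.node .leaf (152940, 0, 11, 162386) .leaf)) (152942, 0, 15, 141532) (.node (.node .leaf (152944, 0, 15, 74713) .leaf) (152946, 0, 10, 216729) (.node .leaf (152949, 0, 16, 182265) .leaf)))) (152951, 0, 14, 191896) (.node (.node (.node (.node .leaf (152952, 0,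 14, 117061) .leaf) (152954, 0, 18, 139575) (.node .leaf (152957, 0, 15, 57953) .leaf)) (152959, 0, 16, 132868) (.node (.node .leaf (152961, 0, 16, 236008) .leaf) (152963, 0, 18, 205011) (.node .leaf (152964, 0, 9, 245723) .leaf))) (152966, 0, 15, 22441) (.node (.node (.node .leaf (152969, 0, 18, 21870) .leaf) (152971, 0, 16, 66891) (.node .leaf (152972, 0, 16, 218439) .leaf)) (152974, 0, 18, 121870) (.node (.node .leaf (152976, 0, 17, 243248) .leaf) (152978, 0, 15, 24130) (.node .leaf (152981, 0, 16, 233475) .leaf))))) (152983, 0, 15, 90533) (.node (.node (.node (.node (.node .leaf (152984, 0, 18, 220332) .leaf) (152986, 0, 15, 236920) (.node .leaf (152989, 0, 17, 227999) .leaf)) (152991, 0, 15, 37613) (.node (.node .leaf (152993, 0, 19, 97027) .leaf) (152995, 0, 16, 11046) (.node .leaf (152996, 0, 16, 107078) .leaf))) (152998, 0, 17, 76451) (.node (.node (.node .leaf (153001, 0, 15, 220827) .leaf) (153003, 0, 18, 124428) (.node .leaf (153004, 0, 17, 141389) .leaf)) (153006, 0, 17, 186363) (.node (.node .leaf (153008, 0, 16,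 183098) .leaf) (153010, 0, 17, 74568) (.node .leaf (153013, 0, 16, 211573) .leaf)))) (153015, 0, 16, 158288) (.node (.node (.node (.node .leaf (153016, 0, 17, 139686) .leaf) (153018, 0, 17, 117204) (.node .leaf (153021, 0, 15, 73709) .leaf)) (153023, 0, 17, 126951) (.node (.node .leaf (153024, 0, 18, 129558) .leaf) (153026, 0, 14, 43571) (.node .leaf (153029, 0, 14, 114303) .leaf))) (153031, 0, 11, 153101) (.node (.node (.node .leaf (153032, 0, 18, 94928) .leaf) (153034, 0, 17, 167851) (.node .leaf (153037, 0, 16, 87267) .leaf)) (153039, 0, 16, 153326) (.node (.node .leaf (153041, 0, 16, 221733) .leaf) (153043, 0, 15, 143872) (.node .leaf (153044, 0, 18, 102823) .leaf))))))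

/-- part of the orbit tree -/
def itp4_339 : Tree := (.node (.node (.node (.node (.node (.node .leaf (153049, 0, 15, 89352) .leaf) (153051, 0, 16, 6040) (.node .leaf (153052, 0, 17, 106232) .leaf)) (153054, 0, 16, 168777) (.node (.node .leaf (153056, 0, 13, 192995) .leaf) (153058, 0, 15, 199988) (.node .leaf (153061, 0, 15, 141478) .leaf))) (153063, 0, 18, 207623) (.node (.node (.node .leaf (153064, 0, 15, 54395) .leaf) (153066, 0, 18, 99422) (.node .leaf (153069, 0, 13, 10729) .leaf)) (153071, 0, 18, 246171) (.node (.node .leaf (153073, 0, 16, 51870) .leaf) (153075, 0, 17, 205548) (.node .leaf (153076, 0, 13, 45205) .leaf)))) (153078, 0, 13, 123056) (.node (.node (.node (.node .leaf (153081, 0, 16, 8194) .leaf) (153083, 0, 13, 247920) (.node .leaf (153084, 0, 15, 169229) .leaf)) (153086, 0, 17, 247080) (.node (.node .leaf (153092, 0, 15, 241853) .leaf) (153093, 0, 15, 177235) (.node .leaf (153094, 0, 16, 188568) .leaf))) (153095, 0, 18, 131326) (.node (.node (.node .leaf (153100, 0, 15, 2017) .leaf) (153101, 0, 10, 155343)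 (.node .leaf (153102, 0, 16, 257939) .leaf)) (153103, 0, 15, 112317) (.node (.node .leaf (153104, 0, 12, 127435) .leaf) (153105, 0, 15, 70061) (.node .leaf (153106, 0, 13, 199908) .leaf))))) (153107, 0, 15, 16776) (.node (.node (.node (.node (.node .leaf (153112, 0, 16, 250963) .leaf) (153113, 0, 16, 209973) (.node .leaf (153114, 0, 16, 164982) .leaf)) (153115, 0, 16, 114518) (.node (.node .leaf (153124, 0, 17, 102519) .leaf) (153125, 0, 15, 248153) (.node .leaf (153126, 0, 14, 125805) .leaf))) (153127, 0, 16, 8491) (.node (.node (.node .leaf (153132, 0, 16, 171728) .leaf) (153133, 0, 15, 205765) (.node .leaf (153134, 0, 13, 168601) .leaf)) (153135, 0, 16, 52151) (.node (.node .leaf (153136, 0, 17, 104860) .leaf) (153137, 0, 17, 245938) (.node .leaf (153138, 0, 17, 160238) .leaf)))) (153139, 0, 15, 215677) (.node (.node (.node (.node .leaf (153144, 0, 17, 94976) .leaf) (153145, 0, 16, 207406) (.node .leaf (153146, 0, 15, 170866) .leaf)) (153147, 0, 17, 94181) (.node (.node .leaf (153152, 0, 16, 183018) .leaf) (153153, 0, 17,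 894) (.node .leaf (153154, 0, 14, 74392) .leaf))) (153155, 0, 15, 86875) (.node (.node (.node .leaf (153160, 0, 16, 139382) .leaf) (153161, 0, 15, 141030) (.node .leaf (153162, 0, 17, 116740) .leaf)) (153163, 0, 16, 233770) (.node (.node .leaf (153172, 0, 14, 172654) .leaf) (153173, 0, 13, 39471) (.node .leaf (153174, 0, 16, 258635) .leaf))))))

/-- part of the orbit tree -/
def itp4_340 : Tree := (.node (.node (.node (.node (.node (.node .leaf (153180, 0, 15, 34806) .leaf) (153181, 0, 13, 28851) (.node .leaf (153182, 0, 16, 115183) .leaf)) (153183, 0, 15, 235713) (.node (.node .leaf (153184, 0, 16, 243680) .leaf) (153185, 0, 15, 198795) (.node .leaf (153186, 0, 14, 178376) .leaf))) (153187, 0, 15, 132796) (.node (.node (.node .leaf (153192, 0, 18, 118133) .leaf) (153193, 0, 16, 77075) (.node .leaf (153194, 0, 17, 46350) .leaf)) (153195, 0, 16, 191520) (.node (.node .leaf (153204, 0, 16, 108955) .leaf) (153205, 0, 16, 124709) (.node .leaf (153206, 0, 18, 63934) .leaf)))) (153207, 0, 18, 6616) (.node (.node (.node (.node .leaf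 (153212, 0, 15, 232451) .leaf) (153213, 0, 16, 224357) (.node .leaf (153214, 0, 16, 187430) .leaf)) (153215, 0, 18, 146496) (.node (.node .leaf (153216, 0, 18, 73364) .leaf) (153217, 0, 15, 228135) (.node .leaf (153218, 0, 17, 20145) .leaf))) (153219, 0, 10, 37717) (.node (.node (.node .leaf (153224, 0, 18, 116885) .leaf) (153225, 0, 15, 233915) (.node .leaf (153226, 0, 17, 139495) .leaf)) (153227, 0, 16, 31177) (.node (.node .leaf (153236, 0, 18, 221154) .leaf) (153237, 0, 15, 225996) (.node .leaf (153238, 0, 18, 181136) .leaf))))) (153239, 0, 16, 192417) (.node (.node (.node (.node (.node .leaf (153244, 0, 16, 115070) .leaf) (153245, 0, 16, 235600) (.node .leaf (153246, 0, 15, 141580) .leaf)) (153247, 0, 15, 28706) (.node (.node .leaf (153248, 0, 13, 24323) .leaf) (153249, 0, 16, 193799) (.node .leaf (153250, 0, 17, 214340) .leaf))) (153251, 0, 16, 238882) (.node (.node (.node .leaf (153256, 0, 14, 46495) .leaf) (153257, 0, 16, 53407) (.node .leaf (153258, 0, 18, 90332) .leaf)) (153259, 0, 17, 98490) (.node (.node .leaf (153268,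 0, 17, 22248) .leaf) (153269, 0, 13, 135110) (.node .leaf (153270, 0, 17, 66610) .leaf)))) (153271, 0, 16, 124852) (.node (.node (.node (.node .leaf (153276, 0, 15, 48244) .leaf) (153277, 0, 17, 189786) (.node .leaf (153278, 0, 18, 218118) .leaf)) (153279, 0, 15, 68904) (.node (.node .leaf (153284, 0, 18, 150833) .leaf) (153285, 0, 18, 89264) (.node .leaf (153286, 0, 13, 60908) .leaf))) (153287, 0, 17, 177346) (.node (.node (.node .leaf (153292, 0, 15, 26793) .leaf) (153293, 0, 13, 35023) (.node .leaf (153294, 0, 16, 1904) .leaf)) (153295, 0, 17, 121066) (.node (.node .leaf (153296, 0, 18, 3143) .leaf) (153297, 0, 16, 87387) .leaf)))))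

/-- part of the orbit tree -/
def itp4_341 : Tree := (.node itp4_337 (152919, 0, 13, 233618) itp4_338)

/-- part of the orbit tree -/
def itp4_342 : Tree := (.node itp4_339 (153175, 0, 17, 201261) itp4_340)

/-- part of the orbit tree -/
def itp4_343 : Tree := (.node itp4_335 (152533, 0, 15, 49233) itp4_336)

/-- part of the orbit tree -/
def itp4_344 : Tree := (.node itp4_341 (153046, 0, 18, 191301) itp4_342)

/-- part of the orbit tree -/
def itp4_345 : Tree := (.node itp4_329 (151768, 0, 16, 60977) itp4_330)

/-- part of the orbit tree -/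
def itp4_346 : Tree := (.node itp4_343 (152790, 0, 16, 171574) itp4_344)

/-- part of the orbit tree -/
def itp4_347 : Tree := (.node (.node (.node (.node (.node (.node .leaf (153299, 0, 17, 113668) .leaf) (153304, 0, 17, 141791) (.node .leaf (153305, 0, 18, 182713) .leaf)) (153306, 0, 13, 227834) (.node (.node .leaf (153307, 0, 12, 235932) .leaf) (153316, 0, 16, 161940) (.node .leaf (153317, 0, 17, 8634) .leaf))) (153318, 0, 16, 5857) (.node (.node (.node .leaf (153319, 0, 18, 63111) .leaf) (153324, 0, 18, 222044) (.node .leaf (153325, 0, 15, 230202) .leaf)) (153326, 0, 15, 144249) (.node (.node .leaf (153327, 0, 18, 205652) .leaf) (153328, 0, 16, 198578) (.node .leaf (153329, 0, 19, 255956) .leaf)))) (153330, 0, 13, 153495) (.node (.node (.node (.node .leaf (153331, 0, 16, 178161) .leaf) (153336, 0, 17, 170979) (.node .leaf (153337, 0, 15, 115276) .leaf)) (153338, 0, 12, 29199) (.node (.node .leaf (153339, 0, 16, 37481) .leaf) (153348, 0, 15, 4809) (.node .leaf (153349, 0, 16, 152496) .leaf))) (153350, 0, 16, 82668) (.node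 (.node (.node .leaf (153351, 0, 17, 107146) .leaf) (153356, 0, 16, 145233) (.node .leaf (153357, 0, 17, 186167) .leaf)) (153358, 0, 13, 223092) (.node (.node .leaf (153359, 0, 15, 86366) .leaf) (153360, 0, 16, 885) (.node .leaf (153361, 0, 18, 177113) .leaf))))) (153362, 0, 12, 197530) (.node (.node (.node (.node (.node .leaf (153363, 0, 18, 111145) .leaf) (153368, 0, 17, 30247) (.node .leaf (153369, 0, 18, 38465) .leaf)) (153370, 0, 18, 75266) (.node (.node .leaf (153371, 0, 16, 116324) .leaf) (153380, 0, 16, 96148) (.node .leaf (153381, 0, 17, 260442) .leaf))) (153382, 0, 17, 172006) (.node (.node (.node .leaf (153383, 0, 17, 50888) .leaf) (153388, 0, 16, 81060) (.node .leaf (153389, 0, 17, 246822) .leaf)) (153390, 0, 17, 27777) (.node (.node .leaf (153391, 0, 18, 11348) .leaf) (153392, 0, 18, 97919) (.node .leaf (153393, 0, 17, 206673) .leaf)))) (153394, 0, 16, 2159) (.node (.node (.node (.node .leaf (153395, 0, 15, 59401) .leaf) (153400, 0, 18, 103651) (.node .leaf (153401, 0, 15, 236980) .leaf)) (153402, 0, 18, 142839)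 (.node (.node .leaf (153403, 0, 16, 183697) .leaf) (153408, 0, 17, 142601) (.node .leaf (153409, 0, 16, 29735) .leaf))) (153410, 0, 15, 116091) (.node (.node (.node .leaf (153411, 0, 16, 192815) .leaf) (153416, 0, 17, 182165) (.node .leaf (153417, 0, 15, 99474) .leaf)) (153418, 0, 18, 77799) (.node (.node .leaf (153419, 0, 10, 227017) .leaf) (153428, 0, 16, 140514) (.node .leaf (153429, 0, 16, 32204) .leaf))))))

/-- part of the orbit tree -/
def itp4_348 : Tree := (.node (.node (.node (.node (.node (.node .leaf (153431, 0, 12, 45145) .leaf) (153436, 0, 16, 183934) (.node .leaf (153437, 0, 16, 247268) .leaf)) (153438, 0, 14, 75276) (.node (.node .leaf (153439, 0, 15, 229154) .leaf) (153440, 0, 16, 19097) (.node .leaf (153441, 0, 14, 67885) .leaf))) (153442, 0, 17, 47217) (.node (.node (.node .leaf (153443, 0, 16, 188767) .leaf) (153448, 0, 16, 244383) (.node .leaf (153449, 0, 16, 123825) .leaf)) (153450, 0, 13, 21229) (.node (.node .leaf (153451, 0, 18, 253762) .leaf) (153460, 0, 17, 219624) (.node .leaf (153461, 0, 17, 65734)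 .leaf)))) (153462, 0, 15, 220106) (.node (.node (.node (.node .leaf (153463, 0, 14, 190644) .leaf) (153468, 0, 16, 242548) (.node .leaf (153469, 0, 14, 125530) .leaf)) (153470, 0, 15, 23302) (.node (.node .leaf (153471, 0, 18, 131624) .leaf) (153472, 0, 12, 116202) (.node .leaf (153473, 0, 15, 154758) .leaf))) (153474, 0, 16, 257221) (.node (.node (.node .leaf (153475, 0, 18, 29878) .leaf) (153480, 0, 14, 77686) (.node .leaf (153481, 0, 17, 226904) .leaf)) (153482, 0, 17, 117085) (.node (.node .leaf (153483, 0, 12, 40490) .leaf) (153492, 0, 17, 64918) (.node .leaf (153493, 0, 18, 234799) .leaf))))) (153494, 0, 16, 110003) (.node (.node (.node (.node (.node .leaf (153495, 0, 12, 32093) .leaf) (153500, 0, 17, 75421) (.node .leaf (153501, 0, 10, 229299) .leaf)) (153502, 0, 15, 231467) (.node (.node .leaf (153503, 0, 14, 223309) .leaf) (153504, 0, 16, 47328) (.node .leaf (153505, 0, 17, 87923) .leaf))) (153506, 0, 17, 217234) (.node (.node (.node .leaf (153507, 0, 11, 1878) .leaf) (153512, 0, 15, 234125) (.node .leaf (153513, 0,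 17, 133970) .leaf)) (153514, 0, 14, 180904) (.node (.node .leaf (153515, 0, 17, 139982) .leaf) (153524, 0, 16, 45323) (.node .leaf (153525, 0, 17, 190501) .leaf)))) (153526, 0, 13, 173638) (.node (.node (.node (.node .leaf (153527, 0, 17, 149024) .leaf) (153532, 0, 16, 119803) (.node .leaf (153533, 0, 18, 78749) .leaf)) (153534, 0, 14, 33758) (.node (.node .leaf (153535, 0, 15, 25528) .leaf) (153540, 0, 17, 254589) (.node .leaf (153541, 0, 16, 113491) .leaf))) (153542, 0, 17, 2575) (.node (.node (.node .leaf (153543, 0, 16, 24326) .leaf) (153548, 0, 16, 248541) (.node .leaf (153549, 0, 18, 86479) .leaf)) (153550, 0, 15, 57491) (.node (.node .leaf (153551, 0, 16, 178621) .leaf) (153552, 0, 15, 241203) (.node .leaf (153553, 0, 17, 111288) .leaf))))))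

/-- part of the orbit tree -/
def itp4_349 : Tree := (.node (.node (.node (.node (.node (.node .leaf (153555, 0, 18, 154314) .leaf) (153560, 0, 18, 101291) (.node .leaf (153561, 0, 17, 88100) .leaf)) (153562, 0, 17, 56206) (.node (.node .leaf (153563, 0, 17, 15336) .leaf) (153572, 0, 17, 171895) (.node .leaf (153573, 0, 18, 50777) .leaf))) (153574, 0, 15, 242837) (.node (.node (.node .leaf (153575, 0, 17, 208427) .leaf) (153580, 0, 18, 49448) (.node .leaf (153581, 0, 16, 11461) .leaf)) (153582, 0, 18, 102669) (.node (.node .leaf (153583, 0, 15, 94571) .leaf) (153584, 0, 16, 42438) (.node .leaf (153585, 0, 16, 53170) .leaf)))) (153586, 0, 16, 128483) (.node (.node (.node (.node .leaf (153587, 0, 13, 206784) .leaf) (153592, 0, 17, 162816) (.node .leaf (153593, 0, 17, 9518) .leaf)) (153594, 0, 13, 103538) (.node (.node .leaf (153595, 0, 10, 208925) .leaf) (153600, 0, 14, 49498) (.node .leaf (153603, 0, 16, 28379) .leaf))) (153604, 0, 15, 237722) (.node (.node (.node .leaf (153607, 0, 17, 84026) .leaf) (153608, 0, 16, 79131) (.node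 .leaf (153611, 0, 17, 33863) .leaf)) (153612, 0, 13, 187873) (.node (.node .leaf (153615, 0, 13, 195418) .leaf) (153617, 0, 8, 153961) (.node .leaf (153618, 0, 13, 16643) .leaf))))) (153621, 0, 13, 233282) (.node (.node (.node (.node (.node .leaf (153622, 0, 18, 249865) .leaf) (153625, 0, 14, 72387) (.node .leaf (153626, 0, 13, 117938) .leaf)) (153629, 0, 18, 17874) (.node (.node .leaf (153630, 0, 16, 185474) .leaf) (153632, 0, 17, 41613) (.node .leaf (153635, 0, 15, 70609) .leaf))) (153636, 0, 17, 258956) (.node (.node (.node .leaf (153639, 0, 13, 148431) .leaf) (153640, 0, 15, 126775) (.node .leaf (153643, 0, 13, 24436) .leaf)) (153644, 0, 15, 120340) (.node (.node .leaf (153647, 0, 14, 230992) .leaf) (153649, 0, 14, 86684) (.node .leaf (153650, 0, 13, 58079) .leaf)))) (153653, 0, 13, 93119) (.node (.node (.node (.node .leaf (153654, 0, 13, 56316) .leaf) (153657, 0, 15, 26569) (.node .leaf (153658, 0, 17, 182087) .leaf)) (153661, 0, 15, 216615) (.node (.node .leaf (153662, 0, 15, 196196) .leaf) (153665, 0, 17, 253475) (.node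 .leaf (153666, 0, 14, 195577) .leaf))) (153669, 0, 15, 225945) (.node (.node (.node .leaf (153670, 0, 15, 4194) .leaf) (153673, 0, 16, 93730) (.node .leaf (153674, 0, 15, 56929) .leaf)) (153677, 0, 17, 87809) (.node (.node .leaf (153678, 0, 15, 59202) .leaf) (153680, 0, 15, 119689) (.node .leaf (153683, 0, 16, 147623) .leaf))))))

/-- part of the orbit tree -/
def itp4_350 : Tree := (.node (.node (.node (.node (.node (.node .leaf (153687, 0, 13, 23273) .leaf) (153688, 0, 13, 259601) (.node .leaf (153691, 0, 16, 149074) .leaf)) (153692, 0, 15, 91258) (.node (.node .leaf (153695, 0, 11, 163697) .leaf) (153697, 0, 13, 172841) (.node .leaf (153698, 0, 17, 201333) .leaf))) (153701, 0, 16, 31084) (.node (.node (.node .leaf (153702, 0, 16, 93544) .leaf) (153705, 0, 17, 157143) (.node .leaf (153706, 0, 14, 260329) .leaf)) (153709, 0, 18, 154868) (.node (.node .leaf (153710, 0, 10, 100340) .leaf) (153712, 0, 17, 167153) (.node .leaf (153715, 0, 16, 223295) .leaf)))) (153716, 0, 16, 188767) (.node (.node (.node (.node .leaf (153719,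 0, 12, 217372) .leaf) (153720, 0, 12, 157293) (.node .leaf (153723, 0, 17, 85415) .leaf)) (153724, 0, 17, 6512) (.node (.node .leaf (153727, 0, 18, 95364) .leaf) (153729, 0, 18, 14016) (.node .leaf (153730, 0, 17, 100252) .leaf))) (153733, 0, 16, 149981) (.node (.node (.node .leaf (153734, 0, 16, 212822) .leaf) (153737, 0, 17, 56412) (.node .leaf (153738, 0, 17, 93440) .leaf)) (153741, 0, 14, 43661) (.node (.node .leaf (153742, 0, 19, 72398) .leaf) (153744, 0, 17, 6424) (.node .leaf (153747, 0, 16, 108612) .leaf))))) (153748, 0, 16, 5926) (.node (.node (.node (.node (.node .leaf (153751, 0, 17, 108389) .leaf) (153752, 0, 15, 134045) (.node .leaf (153755, 0, 15, 244702) .leaf)) (153756, 0, 16, 167065) (.node (.node .leaf (153759, 0, 16, 230141) .leaf) (153761, 0, 15, 114115) (.node .leaf (153762, 0, 16, 64150) .leaf))) (153765, 0, 17, 210135) (.node (.node (.node .leaf (153766, 0, 17, 165259) .leaf) (153769, 0, 16, 106838) (.node .leaf (153770, 0, 16, 4106) .leaf)) (153773, 0, 18, 253515) (.node (.node .leaf (153774, 0, 17,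 135483) .leaf) (153776, 0, 15, 91154) (.node .leaf (153779, 0, 15, 54606) .leaf)))) (153780, 0, 16, 203987) (.node (.node (.node (.node .leaf (153783, 0, 16, 174675) .leaf) (153784, 0, 17, 65640) (.node .leaf (153787, 0, 17, 16338) .leaf)) (153788, 0, 15, 258451) (.node (.node .leaf (153791, 0, 16, 147663) .leaf) (153792, 0, 15, 81110) (.node .leaf (153795, 0, 17, 35989) .leaf))) (153796, 0, 15, 18553) (.node (.node (.node .leaf (153799, 0, 15, 129317) .leaf) (153800, 0, 7, 203086) (.node .leaf (153803, 0, 13, 174349) .leaf)) (153804, 0, 18, 41701) (.node (.node .leaf (153807, 0, 17, 167982) .leaf) (153809, 0, 18, 137404) (.node .leaf (153810, 0, 15, 240096) .leaf))))))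

/-- part of the orbit tree -/
def itp4_351 : Tree := (.node itp4_347 (153430, 0, 18, 20543) itp4_348)

/-- part of the orbit tree -/
def itp4_352 : Tree := (.node itp4_349 (153684, 0, 16, 125610) itp4_350)

/-- part of the orbit tree -/
def itp4_353 : Tree := (.node (.node (.node (.node (.node (.node .leaf (153814, 0, 17, 120573) .leaf) (153817, 0, 13, 98685) (.node .leaf (153818, 0, 16, 12606) .leaf)) (153821, 0, 17, 112734) (.node (.node .leaf (153822, 0, 13, 80993) .leaf) (153824, 0, 15, 145187) (.node .leaf (153827, 0, 16, 231264) .leaf))) (153828, 0, 18, 134656) (.node (.node (.node .leaf (153831, 0, 17, 33839) .leaf) (153832, 0, 14, 4795) (.node .leaf (153835, 0, 18, 135598) .leaf)) (153836, 0, 16, 11160) (.node (.node .leaf (153839, 0, 16, 28339) .leaf) (153841, 0, 15, 222646) (.node .leaf (153842, 0, 14, 185578) .leaf)))) (153845, 0, 16, 72363) (.node (.node (.node (.node .leaf (153846, 0, 16, 75376) .leaf) (153849, 0, 17, 233258) (.node .leaf (153850, 0, 17, 211659) .leaf)) (153853, 0, 16, 177067) (.node (.node .leaf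 (153854, 0, 17, 16747) .leaf) (153856, 0, 17, 221998) (.node .leaf (153859, 0, 13, 35128) .leaf))) (153860, 0, 14, 214905) (.node (.node (.node .leaf (153863, 0, 10, 191054) .leaf) (153864, 0, 14, 83638) (.node .leaf (153867, 0, 18, 63221) .leaf)) (153868, 0, 14, 98197) (.node (.node .leaf (153871, 0, 16, 53206) .leaf) (153873, 0, 15, 71612) (.node .leaf (153874, 0, 14, 42720) .leaf))))) (153877, 0, 15, 223393) (.node (.node (.node (.node (.node .leaf (153878, 0, 16, 186877) .leaf) (153881, 0, 17, 130336) (.node .leaf (153882, 0, 16, 19580) .leaf)) (153885, 0, 16, 255910) (.node (.node .leaf (153886, 0, 15, 144225) .leaf) (153888, 0, 17, 17774) (.node .leaf (153891, 0, 17, 128050) .leaf))) (153892, 0, 17, 20984) (.node (.node (.node .leaf (153895, 0, 16, 232239) .leaf) (153896, 0, 17, 150851) (.node .leaf (153899, 0, 16, 261376) .leaf)) (153900, 0, 16, 184559) (.node (.node .leaf (153903, 0, 17, 221619) .leaf) (153905, 0, 18, 27318) (.node .leaf (153906, 0, 15, 213163) .leaf)))) (153909, 0, 13, 136619) (.node (.node (.node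 (.node .leaf (153910, 0, 14, 227720) .leaf) (153913, 0, 18, 54640) (.node .leaf (153914, 0, 17, 78198) .leaf)) (153917, 0, 9, 60499) (.node (.node .leaf (153918, 0, 13, 89104) .leaf) (153921, 0, 17, 59854) (.node .leaf (153922, 0, 15, 88461) .leaf))) (153925, 0, 16, 83677) (.node (.node (.node .leaf (153926, 0, 11, 90286) .leaf) (153929, 0, 16, 250716) (.node .leaf (153930, 0, 11, 156160) .leaf)) (153933, 0, 15, 193909) (.node (.node .leaf (153934, 0, 16, 7453) .leaf) (153936, 0, 19, 160253) (.node .leaf (153939, 0, 16, 173892) .leaf))))))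

/-- part of the orbit tree -/
def itp4_354 : Tree := (.node (.node (.node (.node (.node (.node .leaf (153943, 0, 17, 260253) .leaf) (153944, 0, 18, 261252) (.node .leaf (153947, 0, 17, 123942) .leaf)) (153948, 0, 17, 27974) (.node (.node .leaf (153951, 0, 16, 122117) .leaf) (153953, 0, 15, 148682) (.node .leaf (153954, 0, 17, 152184) .leaf))) (153957, 0, 17, 15319) (.node (.node (.node .leaf (153958, 0, 16, 158555) .leaf) (153961, 0, 7, 116643) (.node .leaf (153962, 0, 18, 204554) .leaf)) (153965, 0, 17, 53579) (.node (.node .leaf (153966, 0, 14, 20163) .leaf) (153968, 0, 18, 158482) (.node .leaf (153971, 0, 17, 252494) .leaf)))) (153972, 0, 13, 82731) (.node (.node (.node (.node .leaf (153975, 0, 16, 107859) .leaf) (153976, 0, 17, 221072) (.node .leaf (153979, 0, 17, 192467) .leaf)) (153980, 0, 15, 65171) (.node (.node .leaf (153983, 0, 17, 186096) .leaf) (153985, 0, 17, 53539) (.node .leaf (153986, 0, 17, 90239) .leaf))) (153989, 0, 17, 175678) (.node (.node (.node .leaf (153990, 0, 15, 40226) .leaf) (153993, 0, 17, 15295)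 (.node .leaf (153994, 0, 16, 164249) .leaf)) (153997, 0, 15, 148642) (.node (.node .leaf (153998, 0, 15, 178362) .leaf) (154000, 0, 15, 65275) (.node .leaf (154003, 0, 16, 146482) .leaf))))) (154004, 0, 18, 164326) (.node (.node (.node (.node (.node .leaf (154007, 0, 17, 132369) .leaf) (154008, 0, 10, 5223) (.node .leaf (154011, 0, 16, 107835) .leaf)) (154012, 0, 18, 158586) (.node (.node .leaf (154015, 0, 14, 252454) .leaf) (154017, 0, 16, 139191) (.node .leaf (154018, 0, 12, 241652) .leaf))) (154021, 0, 17, 250676) (.node (.node (.node .leaf (154022, 0, 15, 156264) .leaf) (154025, 0, 16, 83637) (.node .leaf (154026, 0, 13, 63465) .leaf)) (154029, 0, 16, 780) (.node (.node .leaf (154030, 0, 14, 111439) .leaf) (154032, 0, 16, 99313) (.node .leaf (154035, 0, 17, 79815) .leaf)))) (154036, 0, 14, 48807) (.node (.node (.node (.node .leaf (154039, 0, 16, 150960) .leaf) (154040, 0, 17, 92525) (.node .leaf (154043, 0, 18, 55345) .leaf)) (154044, 0, 16, 202352) (.node (.node .leaf (154047, 0, 18, 207740) .leaf) (154048, 0, 16, 171682)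 (.node .leaf (154051, 0, 18, 208609) .leaf))) (154052, 0, 12, 173953) (.node (.node (.node .leaf (154055, 0, 18, 202690) .leaf) (154056, 0, 14, 145947) (.node .leaf (154059, 0, 14, 232263) .leaf)) (154060, 0, 17, 33305) (.node (.node .leaf (154063, 0, 17, 128090) .leaf) (154065, 0, 17, 1681) (.node .leaf (154066, 0, 17, 216579) .leaf))))))

/-- part of the orbit tree -/
def itp4_355 : Tree := (.node (.node (.node (.node (.node (.node .leaf (154070, 0, 19, 102385) .leaf) (154073, 0, 16, 140041) (.node .leaf (154074, 0, 16, 234314) .leaf)) (154077, 0, 16, 137770) (.node (.node .leaf (154078, 0, 18, 121730) .leaf) (154080, 0, 17, 103767) (.node .leaf (154083, 0, 18, 138449) .leaf))) (154084, 0, 13, 109684) (.node (.node (.node .leaf (154087, 0, 13, 7223) .leaf) (154088, 0, 16, 214801) (.node .leaf (154091, 0, 17, 131212) .leaf)) (154092, 0, 15, 231916) (.node (.node .leaf (154095, 0, 16, 145839) .leaf) (154097, 0, 16, 229973) (.node .leaf (154098, 0, 17, 144137) .leaf)))) (154101, 0, 13, 130376) (.node (.node (.node (.node .leaf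 (154102, 0, 17, 19476) .leaf) (154105, 0, 16, 76028) (.node .leaf (154106, 0, 17, 186773) .leaf)) (154109, 0, 17, 71636) (.node (.node .leaf (154110, 0, 18, 41372) .leaf) (154114, 0, 12, 144089) (.node .leaf (154115, 0, 16, 89449) .leaf))) (154118, 0, 18, 19908) (.node (.node (.node .leaf (154119, 0, 15, 91210) .leaf) (154122, 0, 18, 235671) (.node .leaf (154123, 0, 15, 33131) .leaf)) (154126, 0, 18, 42840) (.node (.node .leaf (154127, 0, 17, 213458) .leaf) (154128, 0, 15, 169343) (.node .leaf (154129, 0, 18, 128371) .leaf))))) (154132, 0, 12, 119616) (.node (.node (.node (.node (.node .leaf (154133, 0, 15, 232046) .leaf) (154136, 0, 12, 45287) (.node .leaf (154137, 0, 18, 73711) .leaf)) (154140, 0, 15, 80348) (.node (.node .leaf (154141, 0, 16, 27042) .leaf) (154146, 0, 14, 177914) (.node .leaf (154147, 0, 17, 153244) .leaf))) (154150, 0, 18, 167897) (.node (.node (.node .leaf (154151, 0, 15, 223712) .leaf) (154154, 0, 16, 37730) (.node .leaf (154155, 0, 15, 29444) .leaf)) (154158, 0, 16, 121426) (.node (.node .leaf (154159,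 0, 19, 18983) .leaf) (154160, 0, 17, 184663) (.node .leaf (154161, 0, 17, 34937) .leaf)))) (154164, 0, 19, 108457) (.node (.node (.node (.node .leaf (154165, 0, 11, 194404) .leaf) (154168, 0, 14, 244498) (.node .leaf (154169, 0, 16, 25317) .leaf)) (154172, 0, 16, 229937) (.node (.node .leaf (154173, 0, 16, 138744) .leaf) (154176, 0, 15, 231340) (.node .leaf (154177, 0, 16, 252687) .leaf))) (154180, 0, 15, 245391) (.node (.node (.node .leaf (154181, 0, 15, 107538) .leaf) (154184, 0, 17, 107060) (.node .leaf (154185, 0, 14, 209299) .leaf)) (154188, 0, 13, 105239) (.node (.node .leaf (154189, 0, 15, 97137) .leaf) (154194, 0, 17, 45020) (.node .leaf (154195, 0, 17, 148875) .leaf))))))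

/-- part of the orbit tree -/
def itp4_356 : Tree := (.node (.node (.node (.node (.node (.node .leaf (154199, 0, 15, 30361) .leaf) (154202, 0, 18, 166468) (.node .leaf (154203, 0, 17, 175895) .leaf)) (154206, 0, 14, 176999) (.node (.node .leaf (154207, 0, 15, 152321) .leaf) (154208, 0, 17, 65323) (.node .leaf (154209, 0, 12, 173573) .leaf))) (154212, 0, 17, 163894) (.node (.node (.node .leaf (154213, 0, 16, 21788) .leaf) (154216, 0, 18, 174529) (.node .leaf (154217, 0, 16, 150681) .leaf)) (154220, 0, 13, 158378) (.node (.node .leaf (154221, 0, 14, 13188) .leaf) (154226, 0, 17, 238633) (.node .leaf (154227, 0, 17, 214095) .leaf)))) (154230, 0, 13, 236810) (.node (.node (.node (.node .leaf (154231, 0, 17, 83868) .leaf) (154234, 0, 12, 101171) (.node .leaf (154235, 0, 13, 250397) .leaf)) (154238, 0, 15, 259118) (.node (.node .leaf (154239, 0, 14, 109824) .leaf) (154240, 0, 16, 158402) (.node .leaf (154241, 0, 15, 13292) .leaf))) (154244, 0, 15, 5599) (.node (.node (.node .leaf (154245, 0, 16, 172901) .leaf) (154248, 0, 17, 163934)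 (.node .leaf (154249, 0, 18, 49118) .leaf)) (154252, 0, 17, 26267) (.node (.node .leaf (154253, 0, 14, 34557) .leaf) (154258, 0, 17, 86608) (.node .leaf (154259, 0, 15, 111158) .leaf))))) (154262, 0, 18, 93043) (.node (.node (.node (.node (.node .leaf (154263, 0, 14, 250485) .leaf) (154266, 0, 8, 204506) (.node .leaf (154267, 0, 15, 235438) .leaf)) (154270, 0, 13, 90567) (.node (.node .leaf (154271, 0, 17, 211177) .leaf) (154272, 0, 17, 94677) (.node .leaf (154273, 0, 17, 102835) .leaf))) (154276, 0, 18, 92373) (.node (.node (.node .leaf (154277, 0, 20, 108688) .leaf) (154280, 0, 17, 261460) (.node .leaf (154281, 0, 13, 242731) .leaf)) (154284, 0, 14, 224622) (.node (.node .leaf (154285, 0, 18, 252775) .leaf) (154290, 0, 15, 166220) (.node .leaf (154291, 0, 16, 178627) .leaf)))) (154294, 0, 16, 155782) (.node (.node (.node (.node .leaf (154295, 0, 13, 164064) .leaf) (154298, 0, 18, 156624) (.node .leaf (154299, 0, 17, 40027) .leaf)) (154302, 0, 14, 7373) (.node (.node .leaf (154303, 0, 16, 148963) .leaf) (154306, 0, 18, 16515)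 (.node .leaf (154307, 0, 15, 230164) .leaf))) (154310, 0, 16, 31136) (.node (.node (.node .leaf (154311, 0, 17, 39366) .leaf) (154314, 0, 17, 77990) (.node .leaf (154315, 0, 16, 165245) .leaf)) (154318, 0, 17, 154680) (.node (.node .leaf (154319, 0, 16, 179294) .leaf) (154320, 0, 15, 223475) .leaf)))))

/-- part of the orbit tree -/
def itp4_357 : Tree := (.node itp4_353 (153940, 0, 17, 149726) itp4_354)

/-- part of the orbit tree -/
def itp4_358 : Tree := (.node itp4_355 (154198, 0, 18, 156600) itp4_356)

/-- part of the orbit tree -/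
def itp4_359 : Tree := (.node itp4_351 (153554, 0, 16, 196118) itp4_352)

/-- part of the orbit tree -/
def itp4_360 : Tree := (.node itp4_357 (154069, 0, 18, 32834) itp4_358)

/-- part of the orbit tree -/
def itp4_361 : Tree := (.node (.node (.node (.node (.node (.node .leaf (154324, 0, 12, 217552) .leaf) (154325, 0, 14, 242102) (.node .leaf (154328, 0, 17, 85355) .leaf)) (154329, 0, 15, 194316) (.node (.node .leaf (154332, 0, 14, 184639) .leaf) (154333, 0, 14, 103470) (.node .leaf (154338, 0, 17, 215926) .leaf))) (154339, 0, 18, 196126) (.node (.node (.node .leaf (154342, 0, 17, 186413) .leaf) (154343, 0, 16, 33027) (.node .leaf (154346, 0, 15, 93934) .leaf)) (154347, 0, 13, 136322) (.node (.node .leaf (154350, 0, 17, 144049) .leaf) (154351, 0, 18, 27551) (.node .leaf (154352, 0, 16, 25350) .leaf)))) (154353, 0, 15, 221338) (.node (.node (.node (.node .leaf (154356, 0, 15, 23077) .leaf) (154357, 0, 17, 47683) (.node .leaf (154360, 0, 18, 119592) .leaf)) (154361, 0, 16, 173816) (.node (.node .leaf (154364, 0, 13, 163773)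 .leaf) (154365, 0, 17, 128283) (.node .leaf (154370, 0, 10, 139131) .leaf))) (154371, 0, 10, 35860) (.node (.node (.node .leaf (154374, 0, 16, 140888) .leaf) (154375, 0, 19, 181822) (.node .leaf (154378, 0, 17, 15075) .leaf)) (154379, 0, 16, 55941) (.node (.node .leaf (154382, 0, 17, 16571) .leaf) (154383, 0, 19, 137621) (.node .leaf (154384, 0, 15, 79627) .leaf))))) (154385, 0, 16, 70288) (.node (.node (.node (.node (.node .leaf (154388, 0, 17, 79011) .leaf) (154389, 0, 18, 126542) (.node .leaf (154392, 0, 15, 201363) .leaf)) (154393, 0, 16, 258805) (.node (.node .leaf (154396, 0, 16, 122431) .leaf) (154397, 0, 17, 248790) (.node .leaf (154402, 0, 18, 70798) .leaf))) (154403, 0, 18, 128232) (.node (.node (.node .leaf (154406, 0, 15, 120621) .leaf) (154407, 0, 14, 118219) (.node .leaf (154410, 0, 16, 209174) .leaf)) (154411, 0, 15, 250224) (.node (.node .leaf (154414, 0, 13, 81329) .leaf) (154415, 0, 14, 256083) (.node .leaf (154416, 0, 15, 145076) .leaf)))) (154417, 0, 11, 187544) (.node (.node (.node (.node .leaf (154420,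 0, 17, 132573) .leaf) (154421, 0, 17, 189883) (.node .leaf (154424, 0, 12, 187432) .leaf)) (154425, 0, 17, 63744) (.node (.node .leaf (154428, 0, 18, 8261) .leaf) (154429, 0, 15, 195099) (.node .leaf (154432, 0, 18, 9688) .leaf))) (154433, 0, 17, 50622) (.node (.node (.node .leaf (154436, 0, 16, 203487) .leaf) (154437, 0, 16, 64669) (.node .leaf (154440, 0, 18, 102238) .leaf)) (154441, 0, 18, 188454) (.node (.node .leaf (154444, 0, 14, 258115) .leaf) (154445, 0, 14, 186629) (.node .leaf (154450, 0, 16, 64326) .leaf))))))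

/-- part of the orbit tree -/
def itp4_362 : Tree := (.node (.node (.node (.node (.node (.node .leaf (154454, 0, 16, 164955) .leaf) (154455, 0, 18, 56693) (.node .leaf (154458, 0, 16, 75824) .leaf)) (154459, 0, 12, 149748) (.node (.node .leaf (154462, 0, 17, 69907) .leaf) (154463, 0, 16, 127349) (.node .leaf (154464, 0, 18, 6344) .leaf))) (154465, 0, 17, 147942) (.node (.node (.node .leaf (154468, 0, 15, 157653) .leaf) (154469, 0, 17, 259944) (.node .leaf (154472, 0, 17, 62036) .leaf)) (154473, 0, 18, 174970) (.node (.node .leaf (154476, 0, 17, 167241) .leaf) (154477, 0, 17, 54375) (.node .leaf (154482, 0, 13, 1629) .leaf)))) (154483, 0, 16, 253794) (.node (.node (.node (.node .leaf (154486, 0, 16, 16254) .leaf) (154487, 0, 12, 57112) (.node .leaf (154490, 0, 17, 93392) .leaf)) (154491, 0, 18, 181155) (.node (.node .leaf (154494, 0, 18, 137958) .leaf) (154495, 0, 17, 195200) (.node .leaf (154496, 0, 19, 167201) .leaf))) (154497, 0, 14, 54287) (.node (.node (.node .leaf (154500, 0, 16, 62012) .leaf) (154501, 0, 16, 65809) (.node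 .leaf (154504, 0, 17, 157629) .leaf)) (154505, 0, 17, 204202) (.node (.node .leaf (154508, 0, 15, 247023) .leaf) (154509, 0, 14, 147854) (.node .leaf (154514, 0, 15, 192548) .leaf))))) (154515, 0, 18, 84619) (.node (.node (.node (.node (.node .leaf (154518, 0, 16, 93368) .leaf) (154519, 0, 18, 141665) (.node .leaf (154522, 0, 16, 54716) .leaf)) (154523, 0, 16, 106519) (.node (.node .leaf (154526, 0, 18, 99876) .leaf) (154527, 0, 18, 3321) (.node .leaf (154528, 0, 13, 258091) .leaf))) (154529, 0, 16, 144327) (.node (.node (.node .leaf (154532, 0, 16, 102198) .leaf) (154533, 0, 17, 133860) (.node .leaf (154536, 0, 18, 63033) .leaf)) (154537, 0, 18, 5727) (.node (.node .leaf (154540, 0, 12, 91562) .leaf) (154541, 0, 16, 212100) (.node .leaf (154546, 0, 17, 130001) .leaf)))) (154547, 0, 10, 72631) (.node (.node (.node (.node .leaf (154550, 0, 18, 115442) .leaf) (154551, 0, 13, 74388) (.node .leaf (154554, 0, 13, 253513) .leaf)) (154555, 0, 15, 212527) (.node (.node .leaf (154558, 0, 16, 64302) .leaf) (154559, 0, 15, 198412) (.node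 .leaf (154562, 0, 17, 81369) .leaf))) (154563, 0, 16, 197265) (.node (.node (.node .leaf (154566, 0, 17, 213700) .leaf) (154567, 0, 17, 72682) (.node .leaf (154570, 0, 17, 120645) .leaf)) (154571, 0, 17, 233067) (.node (.node .leaf (154574, 0, 14, 130636) .leaf) (154575, 0, 15, 73258) (.node .leaf (154576, 0, 15, 51847) .leaf))))))

/-- part of the orbit tree -/
def itp4_363 : Tree := (.node (.node (.node (.node (.node (.node .leaf (154580, 0, 15, 62372) .leaf) (154581, 0, 18, 34158) (.node .leaf (154584, 0, 17, 18881) .leaf)) (154585, 0, 16, 135407) (.node (.node .leaf (154588, 0, 13, 185916) .leaf) (154589, 0, 17, 28658) (.node .leaf (154594, 0, 16, 59650) .leaf))) (154595, 0, 18, 137725) (.node (.node (.node .leaf (154598, 0, 13, 53281) .leaf) (154599, 0, 15, 12359) (.node .leaf (154602, 0, 16, 183450) .leaf)) (154603, 0, 16, 193377) (.node (.node .leaf (154606, 0, 18, 193977) .leaf) (154607, 0, 19, 136671) (.node .leaf (154608, 0, 16, 246130) .leaf)))) (154609, 0, 13, 205076) (.node (.node (.node (.node .leaf (154612, 0,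 15, 260177) .leaf) (154613, 0, 19, 202807) (.node .leaf (154616, 0, 18, 124138) .leaf)) (154617, 0, 10, 224741) (.node (.node .leaf (154620, 0, 11, 122313) .leaf) (154621, 0, 17, 70392) (.node .leaf (154625, 0, 15, 35677) .leaf))) (154627, 0, 16, 27569) (.node (.node (.node .leaf (154629, 0, 16, 193600) .leaf) (154631, 0, 17, 21138) (.node .leaf (154633, 0, 16, 204300) .leaf)) (154635, 0, 15, 231859) (.node (.node .leaf (154637, 0, 18, 138972) .leaf) (154639, 0, 17, 128686) (.node .leaf (154640, 0, 16, 238503) .leaf))))) (154642, 0, 17, 216311) (.node (.node (.node (.node (.node .leaf (154644, 0, 16, 187288) .leaf) (154646, 0, 17, 78826) (.node .leaf (154648, 0, 16, 19993) .leaf)) (154650, 0, 17, 54810) (.node (.node .leaf (154652, 0, 17, 143620) .leaf) (154654, 0, 15, 121206) (.node .leaf (154657, 0, 15, 143457) .leaf))) (154659, 0, 17, 221252) (.node (.node (.node .leaf (154661, 0, 17, 133442) .leaf) (154663, 0, 12, 24888) (.node .leaf (154665, 0, 16, 5625) .leaf)) (154667, 0, 15, 193721) (.node (.node .leaf (154669, 0, 15,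 222166) .leaf) (154671, 0, 14, 97535) (.node .leaf (154672, 0, 13, 121231) .leaf)))) (154674, 0, 16, 129143) (.node (.node (.node (.node .leaf (154676, 0, 15, 239250) .leaf) (154678, 0, 15, 115028) (.node .leaf (154680, 0, 16, 167370) .leaf)) (154682, 0, 15, 187233) (.node (.node .leaf (154684, 0, 18, 216078) .leaf) (154686, 0, 13, 255180) (.node .leaf (154688, 0, 18, 176500) .leaf))) (154690, 0, 16, 254289) (.node (.node (.node .leaf (154692, 0, 16, 165975) .leaf) (154694, 0, 15, 204182) (.node .leaf (154696, 0, 16, 38124) .leaf)) (154698, 0, 16, 100375) (.node (.node .leaf (154700, 0, 18, 8056) .leaf) (154702, 0, 16, 130538) (.node .leaf (154705, 0, 16, 10567) .leaf))))))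

/-- part of the orbit tree -/
def itp4_364 : Tree := (.node (.node (.node (.node (.node (.node .leaf (154709, 0, 18, 55868) .leaf) (154711, 0, 15, 209486) (.node .leaf (154713, 0, 17, 134367) .leaf)) (154715, 0, 18, 220410) (.node (.node .leaf (154717, 0, 18, 144892) .leaf) (154719, 0, 10, 252114) (.node .leaf (154720, 0, 12, 260083) .leaf))) (154722, 0, 19, 8065) (.node (.node (.node .leaf (154724, 0, 16, 99234) .leaf) (154726, 0, 17, 155804) (.node .leaf (154728, 0, 16, 237337) .leaf)) (154730, 0, 15, 184124) (.node (.node .leaf (154732, 0, 17, 239162) .leaf) (154734, 0, 15, 166400) (.node .leaf (154737, 0, 19, 251947) .leaf)))) (154739, 0, 12, 12377) (.node (.node (.node (.node .leaf (154741, 0, 17, 203665) .leaf) (154743, 0, 16, 150452) (.node .leaf (154745, 0, 15, 209591) .leaf)) (154747, 0, 15, 56005) (.node (.node .leaf (154749, 0, 16, 85418) .leaf) (154751, 0, 17, 173528) (.node .leaf (154752, 0, 13, 90650) .leaf))) (154754, 0, 15, 138461) (.node (.node (.node .leaf (154756, 0, 13, 204039) .leaf) (154758, 0, 14, 140798)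 (.node .leaf (154760, 0, 17, 100486) .leaf)) (154762, 0, 15, 14661) (.node (.node .leaf (154764, 0, 16, 86083) .leaf) (154766, 0, 18, 8169) (.node .leaf (154769, 0, 16, 120011) .leaf))))) (154771, 0, 17, 173488) (.node (.node (.node (.node (.node .leaf (154773, 0, 16, 126440) .leaf) (154775, 0, 16, 55981) (.node .leaf (154777, 0, 18, 108382) .leaf)) (154779, 0, 16, 151340) (.node (.node .leaf (154781, 0, 13, 247920) .leaf) (154783, 0, 16, 12337) (.node .leaf (154784, 0, 13, 18189) .leaf))) (154786, 0, 13, 259938) (.node (.node (.node .leaf (154788, 0, 15, 155661) .leaf) (154790, 0, 17, 77323) (.node .leaf (154792, 0, 16, 156309) .leaf)) (154794, 0, 15, 204286) (.node (.node .leaf (154796, 0, 18, 166545) .leaf) (154798, 0, 17, 199571) (.node .leaf (154801, 0, 16, 188222) .leaf)))) (154803, 0, 16, 233243) (.node (.node (.node (.node .leaf (154805, 0, 17, 189981) .leaf) (154807, 0, 16, 108455) (.node .leaf (154809, 0, 16, 64166) .leaf)) (154811, 0, 14, 109187) (.node (.node .leaf (154813, 0, 15, 50053) .leaf) (154815, 0, 15, 103328)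 (.node .leaf (154817, 0, 14, 222142) .leaf))) (154819, 0, 17, 35788) (.node (.node (.node .leaf (154821, 0, 19, 65339) .leaf) (154823, 0, 10, 110366) (.node .leaf (154825, 0, 15, 231714) .leaf)) (154827, 0, 17, 242597) (.node (.node .leaf (154829, 0, 12, 187043) .leaf) (154831, 0, 17, 232070) (.node .leaf (154832, 0, 15, 155179) .leaf))))))

/-- part of the orbit tree -/
def itp4_365 : Tree := (.node itp4_361 (154451, 0, 18, 172648) itp4_362)

/-- part of the orbit tree -/
def itp4_366 : Tree := (.node itp4_363 (154707, 0, 16, 96610) itp4_364)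

/-- part of the orbit tree -/
def itp4_367 : Tree := (.node (.node (.node (.node (.node (.node .leaf (154836, 0, 14, 157448) .leaf) (154838, 0, 14, 187145) (.node .leaf (154840, 0, 16, 239354) .leaf)) (154842, 0, 15, 20104) (.node (.node .leaf (154844, 0, 13, 121319) .leaf) (154846, 0, 17, 143765) (.node .leaf (154849, 0, 17, 138932) .leaf))) (154851, 0, 16, 128710) (.node (.node (.node .leaf (154853, 0, 16, 259278) .leaf) (154855, 0, 17, 173291) (.node .leaf (154857, 0, 18, 193576) .leaf)) (154859, 0, 16, 47184) (.node (.node .leaf (154861, 0, 18, 35637) .leaf) (154863, 0, 12, 33139) (.node .leaf (154864, 0, 15, 87518) .leaf)))) (154866, 0, 15, 121118) (.node (.node (.node (.node .leaf (154868, 0, 17, 93437) .leaf) (154870, 0, 15, 239107) (.node .leaf (154872, 0, 16, 187376) .leaf)) (154874, 0, 16, 139363) (.node (.node .leaf (154876, 0, 17, 42221) .leaf) (154878, 0, 18, 216223) (.node .leaf (154881, 0, 17, 170464) .leaf))) (154883, 0, 15, 248261) (.node (.node (.node .leaf (154885, 0, 14, 172227) .leaf) (154887, 0, 17, 130001)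 (.node .leaf (154889, 0, 17, 48248) .leaf)) (154891, 0, 15, 126045) (.node (.node .leaf (154893, 0, 15, 34139) .leaf) (154895, 0, 16, 69965) (.node .leaf (154896, 0, 17, 17254) .leaf))))) (154898, 0, 16, 240404) (.node (.node (.node (.node (.node .leaf (154900, 0, 14, 14576) .leaf) (154902, 0, 11, 119817) (.node .leaf (154904, 0, 16, 140363) .leaf)) (154906, 0, 16, 213384) (.node (.node .leaf (154908, 0, 15, 186087) .leaf) (154910, 0, 17, 81557) (.node .leaf (154913, 0, 16, 70068) .leaf))) (154915, 0, 15, 195014) (.node (.node (.node .leaf (154917, 0, 17, 224937) .leaf) (154919, 0, 13, 34523) (.node .leaf (154921, 0, 18, 243597) .leaf)) (154923, 0, 15, 190376) (.node (.node .leaf (154925, 0, 16, 230453) .leaf) (154927, 0, 18, 188043) (.node .leaf (154928, 0, 17, 81516) .leaf)))) (154930, 0, 17, 154115) (.node (.node (.node (.node .leaf (154932, 0, 15, 213361) .leaf) (154934, 0, 14, 156448) (.node .leaf (154936, 0, 16, 120048) .leaf)) (154938, 0, 16, 32667) (.node (.node .leaf (154940, 0, 16, 71325) .leaf) (154942, 0, 14, 18104)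 (.node .leaf (154944, 0, 15, 159002) .leaf))) (154946, 0, 14, 17189) (.node (.node (.node .leaf (154948, 0, 17, 4615) .leaf) (154950, 0, 16, 260725) (.node .leaf (154952, 0, 12, 210584) .leaf)) (154954, 0, 15, 157373) (.node (.node .leaf (154956, 0, 14, 63643) .leaf) (154958, 0, 17, 155550) (.node .leaf (154961, 0, 13, 232243) .leaf))))))

/-- part of the orbit tree -/
def itp4_368 : Tree := (.node (.node (.node (.node (.node (.node .leaf (154965, 0, 16, 15839) .leaf) (154967, 0, 17, 251309) (.node .leaf (154969, 0, 17, 110251) .leaf)) (154971, 0, 12, 65166) (.node (.node .leaf (154973, 0, 14, 55107) .leaf) (154975, 0, 13, 212785) (.node .leaf (154976, 0, 13, 200720) .leaf))) (154978, 0, 16, 215248) (.node (.node (.node .leaf (154980, 0, 15, 139734) .leaf) (154982, 0, 20, 165759) (.node .leaf (154984, 0, 15, 260748) .leaf)) (154986, 0, 12, 93512) (.node (.node .leaf (154988, 0, 16, 99729) .leaf) (154990, 0, 15, 87147) (.node .leaf (154993, 0, 12, 32966) .leaf)))) (154995, 0, 14, 55226) (.node (.node (.node (.node .leaf (154997,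 0, 16, 82133) .leaf) (154999, 0, 17, 125376) (.node .leaf (155001, 0, 17, 173406) .leaf)) (155003, 0, 16, 259451) (.node (.node .leaf (155005, 0, 15, 171133) .leaf) (155007, 0, 15, 148027) (.node .leaf (155008, 0, 17, 61068) .leaf))) (155010, 0, 16, 114345) (.node (.node (.node .leaf (155012, 0, 13, 55215) .leaf) (155014, 0, 17, 100234) (.node .leaf (155016, 0, 7, 94053) .leaf)) (155018, 0, 14, 165655) (.node (.node .leaf (155020, 0, 15, 200824) .leaf) (155022, 0, 17, 63498) (.node .leaf (155025, 0, 14, 109089) .leaf))))) (155027, 0, 14, 148051) (.node (.node (.node (.node (.node .leaf (155029, 0, 17, 151452) .leaf) (155031, 0, 17, 204729) (.node .leaf (155033, 0, 17, 21287) .leaf)) (155035, 0, 14, 66306) (.node (.node .leaf (155037, 0, 16, 212896) .leaf) (155039, 0, 17, 80417) (.node .leaf (155040, 0, 15, 63731) .leaf))) (155042, 0, 16, 200833) (.node (.node (.node .leaf (155044, 0, 17, 253018) .leaf) (155046, 0, 14, 167039) (.node .leaf (155048, 0, 15, 114913) .leaf)) (155050, 0, 14, 260637) (.node (.node .leaf (155052, 0,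 13, 159090) .leaf) (155054, 0, 14, 99584) (.node .leaf (155057, 0, 12, 97610) .leaf)))) (155059, 0, 18, 212825) (.node (.node (.node (.node .leaf (155061, 0, 16, 83049) .leaf) (155063, 0, 16, 5196) (.node .leaf (155065, 0, 12, 15799) .leaf)) (155067, 0, 15, 251333) (.node (.node .leaf (155069, 0, 14, 221681) .leaf) (155071, 0, 14, 109272) (.node .leaf (155073, 0, 14, 222316) .leaf))) (155075, 0, 17, 144457) (.node (.node (.node .leaf (155077, 0, 12, 129856) .leaf) (155079, 0, 17, 135986) (.node .leaf (155081, 0, 16, 224961) .leaf)) (155083, 0, 15, 34483) (.node (.node .leaf (155085, 0, 17, 70108) .leaf) (155087, 0, 16, 194990) (.node .leaf (155088, 0, 17, 130143) .leaf))))))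

/-- part of the orbit tree -/
def itp4_369 : Tree := (.node (.node (.node (.node (.node (.node .leaf (155092, 0, 16, 119960) .leaf) (155094, 0, 16, 146666) (.node .leaf (155096, 0, 18, 252359) .leaf)) (155098, 0, 10, 43371) (.node (.node .leaf (155100, 0, 17, 254180) .leaf) (155102, 0, 14, 176321) (.node .leaf (155105, 0, 15, 28569) .leaf))) (155107, 0, 18, 81852) (.node (.node (.node .leaf (155109, 0, 10, 34378) .leaf) (155111, 0, 17, 224824) (.node .leaf (155113, 0, 15, 136139) .leaf)) (155115, 0, 15, 203300) (.node (.node .leaf (155117, 0, 17, 160546) .leaf) (155119, 0, 15, 230564) (.node .leaf (155120, 0, 17, 194474) .leaf)))) (155122, 0, 15, 81661) (.node (.node (.node (.node .leaf (155124, 0, 16, 43410) .leaf) (155126, 0, 16, 213472) (.node .leaf (155128, 0, 16, 146451) .leaf)) (155130, 0, 17, 119905) (.node (.node .leaf (155132, 0, 14, 60177) .leaf) (155134, 0, 10, 113460) (.node .leaf (155136, 0, 16, 128898) .leaf))) (155137, 0, 17, 71652) (.node (.node (.node .leaf (155138, 0, 14, 81709) .leaf) (155139, 0, 12, 222723)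 (.node .leaf (155140, 0, 11, 43074) .leaf)) (155141, 0, 15, 192876) (.node (.node .leaf (155142, 0, 17, 40580) .leaf) (155143, 0, 17, 71966) (.node .leaf (155144, 0, 15, 250394) .leaf))))) (155145, 0, 15, 209532) (.node (.node (.node (.node (.node .leaf (155146, 0, 14, 120241) .leaf) (155147, 0, 15, 232607) (.node .leaf (155148, 0, 15, 256825) .leaf)) (155149, 0, 17, 199519) (.node (.node .leaf (155150, 0, 16, 240300) .leaf) (155151, 0, 18, 154490) (.node .leaf (155168, 0, 18, 240213) .leaf))) (155169, 0, 16, 138257) (.node (.node (.node .leaf (155170, 0, 18, 16935) .leaf) (155171, 0, 14, 137993) (.node .leaf (155172, 0, 15, 181588) .leaf)) (155173, 0, 14, 140594) (.node (.node .leaf (155174, 0, 12, 146746) .leaf) (155175, 0, 18, 226583) (.node .leaf (155176, 0, 15, 213193) .leaf)))) (155177, 0, 14, 14729) (.node (.node (.node (.node .leaf (155178, 0, 17, 43195) .leaf) (155179, 0, 14, 192917) (.node .leaf (155180, 0, 17, 81876) .leaf)) (155181, 0, 17, 222970) (.node (.node .leaf (155182, 0, 18, 186278) .leaf) (155183, 0, 15,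 86159) (.node .leaf (155216, 0, 15, 63779) .leaf))) (155217, 0, 13, 172045) (.node (.node (.node .leaf (155218, 0, 16, 201041) .leaf) (155219, 0, 17, 84095) (.node .leaf (155220, 0, 18, 56434) .leaf)) (155221, 0, 16, 15380) (.node (.node .leaf (155222, 0, 17, 93772) .leaf) (155223, 0, 19, 210786) (.node .leaf (155224, 0, 15, 5055) .leaf))))))

/-- part of the orbit tree -/
def itp4_370 : Tree := (.node (.node (.node (.node (.node (.node .leaf (155226, 0, 16, 233708) .leaf) (155227, 0, 18, 107235) (.node .leaf (155228, 0, 17, 195050) .leaf)) (155229, 0, 15, 137612) (.node (.node .leaf (155230, 0, 17, 99536) .leaf) (155231, 0, 15, 253438) (.node .leaf (155248, 0, 15, 99369) .leaf))) (155249, 0, 14, 200386) (.node (.node (.node .leaf (155250, 0, 13, 158811) .leaf) (155251, 0, 14, 13685) (.node .leaf (155252, 0, 16, 260916) .leaf)) (155253, 0, 17, 107034) (.node (.node .leaf (155254, 0, 17, 165794) .leaf) (155255, 0, 16, 150120) (.node .leaf (155256, 0, 18, 93877) .leaf)))) (155257, 0, 10, 76634) (.node (.node (.node (.node .leaf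 (155258, 0, 16, 39705) .leaf) (155259, 0, 18, 57321) (.node .leaf (155260, 0, 15, 127519) .leaf)) (155261, 0, 17, 84102) (.node (.node .leaf (155262, 0, 14, 41530) .leaf) (155263, 0, 13, 16988) (.node .leaf (155280, 0, 15, 201152) .leaf))) (155281, 0, 17, 129211) (.node (.node (.node .leaf (155282, 0, 16, 18680) .leaf) (155283, 0, 16, 172188) (.node .leaf (155284, 0, 15, 74238) .leaf)) (155285, 0, 15, 210931) (.node (.node .leaf (155286, 0, 18, 29147) .leaf) (155287, 0, 15, 57217) (.node .leaf (155288, 0, 16, 212293) .leaf))))) (155289, 0, 17, 253219) (.node (.node (.node (.node (.node .leaf (155290, 0, 15, 4910) .leaf) (155291, 0, 14, 167174) (.node .leaf (155292, 0, 16, 99393) .leaf)) (155293, 0, 17, 253295) (.node (.node .leaf (155294, 0, 17, 158771) .leaf) (155295, 0, 17, 13597) (.node .leaf (155312, 0, 15, 135976) .leaf))) (155313, 0, 13, 193358) (.node (.node (.node .leaf (155314, 0, 14, 99512) .leaf) (155315, 0, 17, 253334) (.node .leaf (155316, 0, 14, 141835) .leaf)) (155317, 0, 18, 182893) (.node (.node .leaf (155318,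 0, 16, 261029) .leaf) (155319, 0, 16, 236104) (.node .leaf (155320, 0, 16, 14000) .leaf)))) (155321, 0, 18, 54998) (.node (.node (.node (.node .leaf (155322, 0, 17, 93732) .leaf) (155323, 0, 18, 100083) (.node .leaf (155324, 0, 18, 3987) .leaf)) (155325, 0, 17, 172133) (.node (.node .leaf (155326, 0, 17, 90038) .leaf) (155327, 0, 13, 114640) (.node .leaf (155328, 0, 16, 2574) .leaf))) (155329, 0, 10, 222866) (.node (.node (.node .leaf (155330, 0, 17, 186318) .leaf) (155331, 0, 14, 113229) (.node .leaf (155332, 0, 16, 13101) .leaf)) (155333, 0, 17, 72079) (.node (.node .leaf (155334, 0, 16, 43219) .leaf) (155335, 0, 16, 193021) .leaf)))))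

/-- part of the orbit tree -/
def itp4_371 : Tree := (.node itp4_367 (154963, 0, 17, 109232) itp4_368)

/-- part of the orbit tree -/
def itp4_372 : Tree := (.node itp4_369 (155225, 0, 16, 139439) itp4_370)

/-- part of the orbit tree -/
def itp4_373 : Tree := (.node itp4_365 (154577, 0, 15, 10977) itp4_366)

/-- part of the orbit tree -/
def itp4_374 : Tree := (.node itp4_371 (155090, 0, 17, 17399) itp4_372)

/-- part of the orbit tree -/
def itp4_375 : Tree := (.node itp4_359 (153813, 0, 15, 236998) itp4_360)

/-- part of the orbit tree -/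
def itp4_376 : Tree := (.node itp4_373 (154834, 0, 16, 200206) itp4_374)

/-- part of the orbit tree -/
def itp4_377 : Tree := (.node itp4_345 (152277, 0, 13, 10162) itp4_346)

/-- part of the orbit tree -/
def itp4_378 : Tree := (.node itp4_375 (154321, 0, 16, 138640) itp4_376)

/-- part of the orbit tree -/
def itp4_379 : Tree := (.node itp4_315 (149210, 0, 15, 158952) itp4_316)

/-- part of the orbit tree -/
def itp4_380 : Tree := (.node itp4_377 (153298, 0, 18, 58375) itp4_378)

/-- part of the orbit tree -/
def itp4_381 : Tree := (.node (.node (.node (.node (.node (.node .leaf (155337, 0, 12, 232462) .leaf) (155338, 0, 10, 229299) (.node .leaf (155339, 0, 14, 237525) .leaf)) (155340, 0, 16, 136885) (.node (.node .leaf (155341, 0, 15, 127763) .leaf) (155342, 0, 17, 214672) (.node .leaf (155343, 0, 9, 138081) .leaf))) (155360, 0, 17, 197115) (.node (.node (.node .leaf (155361, 0, 13, 254365) .leaf) (155362, 0, 13, 152030) (.node .leaf (155363, 0, 17, 127978) .leaf)) (155364, 0, 15, 146859) (.node (.node .leaf (155365, 0,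 17, 252094) .leaf) (155366, 0, 17, 157949) (.node .leaf (155367, 0, 15, 232695) .leaf)))) (155368, 0, 18, 43050) (.node (.node (.node (.node .leaf (155369, 0, 16, 115717) .leaf) (155370, 0, 15, 213080) (.node .leaf (155371, 0, 8, 72054) .leaf)) (155372, 0, 14, 73024) (.node (.node .leaf (155373, 0, 15, 130342) .leaf) (155374, 0, 18, 19813) (.node .leaf (155375, 0, 11, 222827) .leaf))) (155392, 0, 14, 153078) (.node (.node (.node .leaf (155393, 0, 14, 177552) .leaf) (155394, 0, 15, 198099) (.node .leaf (155395, 0, 16, 255413) .leaf)) (155396, 0, 16, 20385) (.node (.node .leaf (155397, 0, 17, 136847) .leaf) (155398, 0, 19, 212208) (.node .leaf (155399, 0, 18, 130813) .leaf))))) (155400, 0, 17, 186912) (.node (.node (.node (.node (.node .leaf (155401, 0, 18, 36872) .leaf) (155402, 0, 17, 73803) (.node .leaf (155403, 0, 18, 224124) .leaf)) (155404, 0, 17, 42301) (.node (.node .leaf (155405, 0, 16, 43307) .leaf) (155406, 0, 10, 72040) (.node .leaf (155407, 0, 17, 129294) .leaf))) (155424, 0, 17, 89603) (.node (.node (.node .leaf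 (155425, 0, 18, 70808) .leaf) (155426, 0, 14, 42436) (.node .leaf (155427, 0, 15, 195818) .leaf)) (155428, 0, 17, 78507) (.node (.node .leaf (155429, 0, 17, 224133) .leaf) (155430, 0, 16, 187097) (.node .leaf (155431, 0, 17, 55139) .leaf)))) (155432, 0, 14, 239402) (.node (.node (.node (.node .leaf (155433, 0, 11, 236541) .leaf) (155434, 0, 16, 20312) (.node .leaf (155435, 0, 18, 136822) .leaf)) (155436, 0, 17, 120887) (.node (.node .leaf (155437, 0, 14, 238302) .leaf) (155438, 0, 16, 143429) (.node .leaf (155439, 0, 18, 26987) .leaf))) (155472, 0, 16, 7872) (.node (.node (.node .leaf (155473, 0, 16, 239427) .leaf) (155474, 0, 16, 136960) (.node .leaf (155475, 0, 17, 110492) .leaf)) (155476, 0, 15, 228870) (.node (.node .leaf (155477, 0, 15, 237152) .leaf) (155478, 0, 14, 100783) (.node .leaf (155479, 0, 17, 183877) .leaf))))))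

/-- part of the orbit tree -/
def itp4_382 : Tree := (.node (.node (.node (.node (.node (.node .leaf (155481, 0, 15, 99035) .leaf) (155482, 0, 15, 203822) (.node .leaf (155483, 0, 14, 54014) .leaf)) (155484, 0, 17, 88990) (.node (.node .leaf (155485, 0, 17, 113656) .leaf) (155486, 0, 17, 90931) (.node .leaf (155487, 0, 17, 211485) .leaf))) (155504, 0, 18, 19664) (.node (.node (.node .leaf (155505, 0, 16, 211684) .leaf) (155506, 0, 17, 166840) (.node .leaf (155507, 0, 15, 53910) .leaf)) (155508, 0, 16, 30195) (.node (.node .leaf (155509, 0, 16, 83449) .leaf) (155510, 0, 14, 75222) (.node .leaf (155511, 0, 16, 175499) .leaf)))) (155512, 0, 18, 100694) (.node (.node (.node (.node .leaf (155513, 0, 11, 166190) .leaf) (155514, 0, 18, 155940) (.node .leaf (155515, 0, 14, 14346) .leaf)) (155516, 0, 11, 151659) (.node (.node .leaf (155517, 0, 14, 176141) .leaf) (155518, 0, 13, 196686) (.node .leaf (155519, 0, 18, 253992) .leaf))) (155536, 0, 15, 178857) (.node (.node (.node .leaf (155537, 0, 17, 154319) .leaf) (155538, 0, 17, 256652)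 (.node .leaf (155539, 0, 14, 149375) .leaf)) (155540, 0, 16, 100670) (.node (.node .leaf (155541, 0, 18, 156652) .leaf) (155542, 0, 14, 155980) (.node .leaf (155543, 0, 18, 209865) .leaf))))) (155544, 0, 17, 203967) (.node (.node (.node (.node (.node .leaf (155545, 0, 15, 83345) .leaf) (155546, 0, 17, 118548) (.node .leaf (155547, 0, 16, 77682) .leaf)) (155548, 0, 17, 42514) (.node (.node .leaf (155549, 0, 16, 211596) .leaf) (155550, 0, 16, 128567) (.node .leaf (155551, 0, 14, 54014) .leaf))) (155568, 0, 15, 166697) (.node (.node (.node .leaf (155569, 0, 17, 86330) .leaf) (155570, 0, 14, 90971) (.node .leaf (155571, 0, 16, 211573) .leaf)) (155572, 0, 17, 62516) (.node (.node .leaf (155573, 0, 14, 92185) .leaf) (155574, 0, 19, 203846) (.node .leaf (155575, 0, 16, 14396) .leaf)))) (155576, 0, 17, 234692) (.node (.node (.node (.node .leaf (155577, 0, 16, 14491) .leaf) (155578, 0, 18, 181473) (.node .leaf (155579, 0, 17, 140423) .leaf)) (155580, 0, 15, 241127) (.node (.node .leaf (155581, 0, 15, 216449) .leaf) (155582, 0, 14, 196034)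 (.node .leaf (155583, 0, 13, 110580) .leaf))) (155584, 0, 17, 239738) (.node (.node (.node .leaf (155585, 0, 17, 229745) .leaf) (155586, 0, 16, 194655) (.node .leaf (155587, 0, 16, 26883) .leaf)) (155588, 0, 15, 233817) (.node (.node .leaf (155589, 0, 16, 130668) .leaf) (155590, 0, 12, 20272) (.node .leaf (155591, 0, 16, 139546) .leaf))))))

/-- part of the orbit tree -/
def itp4_383 : Tree := (.node (.node (.node (.node (.node (.node .leaf (155593, 0, 17, 93572) .leaf) (155594, 0, 15, 56775) (.node .leaf (155595, 0, 15, 15777) .leaf)) (155596, 0, 15, 216542) (.node (.node .leaf (155597, 0, 15, 87207) .leaf) (155598, 0, 14, 42412) (.node .leaf (155599, 0, 16, 1154) .leaf))) (155616, 0, 16, 42325) (.node (.node (.node .leaf (155617, 0, 17, 17385) .leaf) (155618, 0, 17, 127914) (.node .leaf (155619, 0, 16, 70665) .leaf)) (155620, 0, 15, 39596) (.node (.node .leaf (155621, 0, 15, 33638) .leaf) (155622, 0, 17, 117385) (.node .leaf (155623, 0, 15, 76527) .leaf)))) (155624, 0, 18, 165399) (.node (.node (.node (.node .leaf (155625,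 0, 4, 136935) .leaf) (155626, 0, 16, 239547) (.node .leaf (155627, 0, 15, 130709) .leaf)) (155628, 0, 17, 143572) (.node (.node .leaf (155629, 0, 17, 155474) .leaf) (155630, 0, 13, 120998) (.node .leaf (155631, 0, 16, 229768) .leaf))) (155649, 0, 17, 101080) (.node (.node (.node .leaf (155650, 0, 18, 10573) .leaf) (155652, 0, 18, 81995) (.node .leaf (155655, 0, 18, 7607) .leaf)) (155656, 0, 17, 211306) (.node (.node .leaf (155659, 0, 17, 165942) .leaf) (155661, 0, 14, 204633) (.node .leaf (155662, 0, 18, 175621) .leaf))))) (155665, 0, 17, 254299) (.node (.node (.node (.node (.node .leaf (155666, 0, 17, 150898) .leaf) (155668, 0, 12, 252445) (.node .leaf (155671, 0, 17, 158529) .leaf)) (155672, 0, 15, 74917) (.node (.node .leaf (155675, 0, 17, 38118) .leaf) (155677, 0, 15, 92591) (.node .leaf (155678, 0, 18, 55539) .leaf))) (155681, 0, 16, 168699) (.node (.node (.node .leaf (155682, 0, 15, 83598) .leaf) (155684, 0, 18, 150462) (.node .leaf (155687, 0, 14, 90301) .leaf)) (155688, 0, 18, 22277) (.node (.node .leaf (155691, 0,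 17, 259388) .leaf) (155693, 0, 18, 156243) (.node .leaf (155694, 0, 16, 250639) .leaf)))) (155697, 0, 18, 60078) (.node (.node (.node (.node .leaf (155698, 0, 14, 88813) .leaf) (155700, 0, 15, 173847) (.node .leaf (155703, 0, 16, 99240) .leaf)) (155704, 0, 17, 12950) (.node (.node .leaf (155707, 0, 18, 99274) .leaf) (155709, 0, 15, 194069) (.node .leaf (155710, 0, 15, 214614) .leaf))) (155712, 0, 16, 232316) (.node (.node (.node .leaf (155715, 0, 15, 238509) .leaf) (155717, 0, 14, 182955) (.node .leaf (155718, 0, 15, 138259) .leaf)) (155721, 0, 18, 54800) (.node (.node .leaf (155722, 0, 16, 35218) .leaf) (155724, 0, 16, 73469) (.node .leaf (155727, 0, 17, 114454) .leaf))))))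

/-- part of the orbit tree -/
def itp4_384 : Tree := (.node (.node (.node (.node (.node (.node .leaf (155731, 0, 16, 19670) .leaf) (155733, 0, 15, 121785) (.node .leaf (155734, 0, 11, 27365) .leaf)) (155737, 0, 18, 175685) (.node (.node .leaf (155738, 0, 17, 204294) .leaf) (155740, 0, 16, 161536) (.node .leaf (155743, 0, 14, 186711) .leaf))) (155744, 0, 16, 194166) (.node (.node (.node .leaf (155747, 0, 16, 43096) .leaf) (155749, 0, 16, 115038) (.node .leaf (155750, 0, 15, 221465) .leaf)) (155753, 0, 17, 253413) (.node (.node .leaf (155754, 0, 18, 159142) .leaf) (155756, 0, 17, 25591) (.node .leaf (155759, 0, 18, 177379) .leaf)))) (155760, 0, 16, 32896) (.node (.node (.node (.node .leaf (155763, 0, 15, 184333) .leaf) (155765, 0, 16, 42675) (.node .leaf (155766, 0, 16, 133448) .leaf)) (155769, 0, 16, 144178) (.node (.node .leaf (155770, 0, 17, 229998) .leaf) (155772, 0, 13, 136449) (.node .leaf (155775, 0, 16, 52406) .leaf))) (155776, 0, 16, 25503) (.node (.node (.node .leaf (155779, 0, 17, 155169) .leaf) (155781, 0, 17, 17836)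 (.node .leaf (155782, 0, 15, 128240) .leaf)) (155785, 0, 11, 184365) (.node (.node .leaf (155786, 0, 18, 221553) .leaf) (155788, 0, 18, 194078) (.node .leaf (155791, 0, 18, 214850) .leaf))))) (155792, 0, 15, 103991) (.node (.node (.node (.node (.node .leaf (155795, 0, 17, 238645) .leaf) (155797, 0, 17, 85874) (.node .leaf (155798, 0, 16, 229894) .leaf)) (155801, 0, 17, 218057) (.node (.node .leaf (155802, 0, 13, 71559) .leaf) (155804, 0, 16, 232076) (.node .leaf (155807, 0, 18, 146127) .leaf))) (155808, 0, 15, 58775) (.node (.node (.node .leaf (155811, 0, 18, 45001) .leaf) (155813, 0, 16, 15570) (.node .leaf (155814, 0, 19, 101521) .leaf)) (155817, 0, 17, 240935) (.node (.node .leaf (155818, 0, 17, 138363) .leaf) (155820, 0, 17, 232212) (.node .leaf (155823, 0, 16, 145992) .leaf)))) (155824, 0, 15, 223331) (.node (.node (.node (.node .leaf (155827, 0, 15, 186687) .leaf) (155829, 0, 14, 216656) (.node .leaf (155830, 0, 12, 259268) .leaf)) (155833, 0, 17, 22588) (.node (.node .leaf (155834, 0, 15, 125055) .leaf) (155836, 0, 15,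 33145) (.node .leaf (155839, 0, 15, 19646) .leaf))) (155841, 0, 13, 156219) (.node (.node (.node .leaf (155842, 0, 14, 120001) .leaf) (155844, 0, 16, 148488) (.node .leaf (155847, 0, 17, 259412) .leaf)) (155848, 0, 16, 172412) (.node (.node .leaf (155851, 0, 14, 90325) .leaf) (155853, 0, 18, 161849) (.node .leaf (155854, 0, 17, 247930) .leaf))))))

/-- part of the orbit tree -/
def itp4_385 : Tree := (.node itp4_381 (155480, 0, 18, 62556) itp4_382)

/-- part of the orbit tree -/
def itp4_386 : Tree := (.node itp4_383 (155728, 0, 14, 27579) itp4_384)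

/-- part of the orbit tree -/
def itp4_387 : Tree := (.node (.node (.node (.node (.node (.node .leaf (155858, 0, 18, 240788) .leaf) (155860, 0, 15, 181650) (.node .leaf (155863, 0, 16, 99234) .leaf)) (155864, 0, 16, 55593) (.node (.node .leaf (155867, 0, 18, 202275) .leaf) (155869, 0, 18, 164172) (.node .leaf (155870, 0, 15, 208912) .leaf))) (155873, 0, 16, 204593) (.node (.node (.node .leaf (155874, 0, 14, 175725) .leaf) (155876, 0, 16, 243250) (.node .leaf (155879, 0, 16, 132721) .leaf)) (155880, 0, 17, 109699) (.node (.node .leaf (155883, 0, 17, 7647) .leaf) (155885, 0, 16, 101040) (.node .leaf (155886, 0, 17, 15340) .leaf)))) (155889, 0, 14, 71458) (.node (.node (.node (.node .leaf (155890, 0, 15, 42849) .leaf) (155892, 0, 15, 118375) (.node .leaf (155895, 0, 18, 32292) .leaf)) (155896, 0, 17, 252533) (.node (.node .leaf (155899, 0, 18, 156319) .leaf) (155901, 0, 16, 261190) (.node .leaf (155902, 0, 18, 150810) .leaf))) (155905, 0, 17, 146298) (.node (.node (.node .leaf (155906, 0, 15, 56423) .leaf) (155908, 0, 16, 188991)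 (.node .leaf (155911, 0, 18, 64084) .leaf)) (155912, 0, 17, 65156) (.node (.node .leaf (155915, 0, 14, 85703) .leaf) (155917, 0, 12, 10177) (.node .leaf (155918, 0, 16, 149990) .leaf))))) (155921, 0, 17, 203725) (.node (.node (.node (.node (.node .leaf (155922, 0, 16, 174737) .leaf) (155924, 0, 15, 39530) (.node .leaf (155927, 0, 14, 76329) .leaf)) (155928, 0, 16, 165585) (.node (.node .leaf (155931, 0, 14, 6435) .leaf) (155933, 0, 17, 101964) (.node .leaf (155934, 0, 16, 258007) .leaf))) (155937, 0, 17, 77967) (.node (.node (.node .leaf (155938, 0, 18, 106861) .leaf) (155940, 0, 17, 125386) (.node .leaf (155943, 0, 17, 100190) .leaf)) (155944, 0, 16, 172931) (.node (.node .leaf (155947, 0, 15, 148786) .leaf) (155949, 0, 17, 165296) (.node .leaf (155950, 0, 16, 210156) .leaf)))) (155953, 0, 17, 157383) (.node (.node (.node (.node .leaf (155954, 0, 16, 194713) .leaf) (155956, 0, 16, 147700) (.node .leaf (155959, 0, 17, 139740) .leaf)) (155960, 0, 16, 54645) (.node (.node .leaf (155963, 0, 17, 15719) .leaf) (155965, 0, 16, 62278)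 (.node .leaf (155966, 0, 16, 58402) .leaf))) (155968, 0, 16, 224415) (.node (.node (.node .leaf (155971, 0, 18, 473) .leaf) (155973, 0, 11, 92383) (.node .leaf (155974, 0, 9, 55452) .leaf)) (155977, 0, 10, 122669) (.node (.node .leaf (155978, 0, 17, 28273) .leaf) (155980, 0, 13, 129310) (.node .leaf (155983, 0, 17, 18498) .leaf))))))

/-- part of the orbit tree -/
def itp4_388 : Tree := (.node (.node (.node (.node (.node (.node .leaf (155987, 0, 16, 162188) .leaf) (155989, 0, 14, 200842) (.node .leaf (155990, 0, 15, 172233) .leaf)) (155993, 0, 15, 240091) (.node (.node .leaf (155994, 0, 16, 48242) .leaf) (155996, 0, 18, 120180) (.node .leaf (155999, 0, 17, 147124) .leaf))) (156000, 0, 18, 135573) (.node (.node (.node .leaf (156003, 0, 16, 199212) .leaf) (156005, 0, 15, 156458) (.node .leaf (156006, 0, 15, 250729) .leaf)) (156009, 0, 16, 41511) (.node (.node .leaf (156010, 0, 15, 70523) .leaf) (156012, 0, 16, 33812) (.node .leaf (156015, 0, 14, 79176) .leaf)))) (156016, 0, 18, 49722) (.node (.node (.node (.node .leaf (156019,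 0, 16, 120383) .leaf) (156021, 0, 14, 16720) (.node .leaf (156022, 0, 17, 126988) .leaf)) (156025, 0, 18, 133060) (.node (.node .leaf (156026, 0, 16, 243591) .leaf) (156028, 0, 16, 193250) (.node .leaf (156031, 0, 18, 213950) .leaf))) (156032, 0, 6, 19478) (.node (.node (.node .leaf (156035, 0, 16, 79136) .leaf) (156037, 0, 17, 41551) (.node .leaf (156038, 0, 17, 75024) .leaf)) (156041, 0, 16, 145358) (.node (.node .leaf (156042, 0, 14, 211371) .leaf) (156044, 0, 17, 151725) (.node .leaf (156047, 0, 17, 254190) .leaf))))) (156048, 0, 18, 144451) (.node (.node (.node (.node (.node .leaf (156051, 0, 18, 213974) .leaf) (156053, 0, 16, 191750) (.node .leaf (156054, 0, 15, 220485) .leaf)) (156057, 0, 15, 61885) (.node (.node .leaf (156058, 0, 18, 127076) .leaf) (156060, 0, 13, 26379) (.node .leaf (156063, 0, 19, 120407) .leaf))) (156064, 0, 19, 215011) (.node (.node (.node .leaf (156067, 0, 15, 194464) .leaf) (156069, 0, 15, 122693) (.node .leaf (156070, 0, 15, 143077) .leaf)) (156073, 0, 11, 98845) (.node (.node .leaf (156074,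 0, 14, 12894) .leaf) (156076, 0, 14, 88920) (.node .leaf (156079, 0, 18, 60187) .leaf)))) (156080, 0, 19, 233344) (.node (.node (.node (.node .leaf (156083, 0, 18, 36853) .leaf) (156085, 0, 16, 124659) (.node .leaf (156086, 0, 16, 22192) .leaf)) (156089, 0, 16, 260680) (.node (.node .leaf (156090, 0, 18, 36206) .leaf) (156092, 0, 14, 72193) (.node .leaf (156095, 0, 18, 168782) .leaf))) (156097, 0, 17, 165336) (.node (.node (.node .leaf (156098, 0, 16, 161461) .leaf) (156100, 0, 16, 204723) (.node .leaf (156103, 0, 14, 176112) .leaf)) (156104, 0, 16, 13930) (.node (.node .leaf (156107, 0, 17, 45899) .leaf) (156109, 0, 16, 4185) (.node .leaf (156110, 0, 16, 27150) .leaf))))))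

/-- part of the orbit tree -/
def itp4_389 : Tree := (.node (.node (.node (.node (.node (.node .leaf (156114, 0, 17, 3808) .leaf) (156116, 0, 17, 54557) (.node .leaf (156119, 0, 18, 55205) .leaf)) (156120, 0, 14, 147612) (.node (.node .leaf (156123, 0, 17, 258496) .leaf) (156125, 0, 17, 157359) (.node .leaf (156126, 0, 17, 135771) .leaf))) (156129, 0, 11, 52483) (.node (.node (.node .leaf (156130, 0, 13, 149902) .leaf) (156132, 0, 15, 5190) (.node .leaf (156135, 0, 16, 107525) .leaf)) (156136, 0, 16, 84832) (.node (.node .leaf (156139, 0, 17, 243902) .leaf) (156141, 0, 19, 184760) (.node .leaf (156142, 0, 16, 221691) .leaf)))) (156145, 0, 15, 101924) (.node (.node (.node (.node .leaf (156146, 0, 19, 197909) .leaf) (156148, 0, 17, 108567) (.node .leaf (156151, 0, 16, 6475) .leaf)) (156152, 0, 18, 212374) (.node (.node .leaf (156155, 0, 16, 114923) .leaf) (156157, 0, 18, 43501) (.node .leaf (156158, 0, 14, 174841) .leaf))) (156160, 0, 10, 87320) (.node (.node (.node .leaf (156161, 0, 18, 102388) .leaf) (156166, 0, 17, 147893)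 (.node .leaf (156167, 0, 16, 56440) .leaf)) (156170, 0, 16, 139429) (.node (.node .leaf (156171, 0, 16, 180419) .leaf) (156172, 0, 13, 82779) (.node .leaf (156173, 0, 15, 203381) .leaf))))) (156176, 0, 15, 106540) (.node (.node (.node (.node (.node .leaf (156177, 0, 15, 260354) .leaf) (156182, 0, 15, 14147) (.node .leaf (156183, 0, 16, 173101) .leaf)) (156186, 0, 17, 22768) (.node (.node .leaf (156187, 0, 12, 64492) .leaf) (156188, 0, 15, 210349) (.node .leaf (156189, 0, 17, 93315) .leaf))) (156192, 0, 16, 155373) (.node (.node (.node .leaf (156193, 0, 16, 62206) .leaf) (156198, 0, 15, 210923) (.node .leaf (156199, 0, 18, 251789) .leaf)) (156202, 0, 15, 76624) (.node (.node .leaf (156203, 0, 16, 258064) .leaf) (156204, 0, 17, 15953) (.node .leaf (156205, 0, 15, 157567) .leaf)))) (156208, 0, 14, 56614) (.node (.node (.node (.node .leaf (156209, 0, 14, 164872) .leaf) (156214, 0, 17, 84553) (.node .leaf (156215, 0, 13, 110552) .leaf)) (156218, 0, 17, 217861) (.node (.node .leaf (156219, 0, 12, 100070) .leaf) (156220, 0, 15, 149671)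 (.node .leaf (156221, 0, 18, 4489) .leaf))) (156226, 0, 16, 225211) (.node (.node (.node .leaf (156227, 0, 16, 233437) .leaf) (156228, 0, 18, 127309) (.node .leaf (156229, 0, 17, 190171) .leaf)) (156232, 0, 11, 222412) (.node (.node .leaf (156233, 0, 15, 64096) .leaf) (156238, 0, 17, 94976) (.node .leaf (156239, 0, 13, 103270) .leaf))))))

/-- part of the orbit tree -/
def itp4_390 : Tree := (.node (.node (.node (.node (.node (.node .leaf (156243, 0, 17, 18938) .leaf) (156244, 0, 9, 32488) (.node .leaf (156245, 0, 14, 40590) .leaf)) (156248, 0, 15, 70202) (.node (.node .leaf (156249, 0, 18, 215828) .leaf) (156254, 0, 15, 34133) (.node .leaf (156255, 0, 15, 187515) .leaf))) (156258, 0, 15, 72488) (.node (.node (.node .leaf (156259, 0, 18, 33832) .leaf) (156260, 0, 9, 68936) (.node .leaf (156261, 0, 14, 126254) .leaf)) (156264, 0, 14, 137670) (.node (.node .leaf (156265, 0, 12, 16616) .leaf) (156270, 0, 17, 162037) (.node .leaf (156271, 0, 15, 170131) .leaf)))) (156274, 0, 17, 138267) (.node (.node (.node (.node .leaf (156275,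 0, 19, 195709) .leaf) (156276, 0, 15, 226589) (.node .leaf (156277, 0, 18, 41887) .leaf)) (156280, 0, 16, 28464) (.node (.node .leaf (156281, 0, 17, 144926) .leaf) (156286, 0, 17, 129119) (.node .leaf (156287, 0, 15, 237937) .leaf))) (156290, 0, 18, 233153) (.node (.node (.node .leaf (156291, 0, 16, 120815) .leaf) (156292, 0, 17, 137646) (.node .leaf (156293, 0, 13, 203607) .leaf)) (156296, 0, 14, 124810) (.node (.node .leaf (156297, 0, 16, 185601) .leaf) (156302, 0, 16, 72512) (.node .leaf (156303, 0, 15, 213614) .leaf))))) (156306, 0, 17, 60002) (.node (.node (.node (.node (.node .leaf (156307, 0, 16, 2564) .leaf) (156308, 0, 17, 99172) (.node .leaf (156309, 0, 15, 145014) .leaf)) (156312, 0, 14, 237535) (.node (.node .leaf (156313, 0, 15, 229305) .leaf) (156318, 0, 14, 194265) (.node .leaf (156319, 0, 17, 136895) .leaf))) (156322, 0, 15, 193483) (.node (.node (.node .leaf (156323, 0, 17, 96676) .leaf) (156324, 0, 16, 222372) (.node .leaf (156325, 0, 18, 4258) .leaf)) (156328, 0, 14, 191615) (.node (.node .leaf (156329, 0,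 17, 134169) .leaf) (156334, 0, 14, 230777) (.node .leaf (156335, 0, 14, 222495) .leaf)))) (156338, 0, 16, 34109) (.node (.node (.node (.node .leaf (156339, 0, 13, 187411) .leaf) (156340, 0, 16, 166033) (.node .leaf (156341, 0, 15, 157943) .leaf)) (156344, 0, 16, 231379) (.node (.node .leaf (156345, 0, 16, 29772) .leaf) (156350, 0, 14, 130348) (.node .leaf (156351, 0, 12, 73034) .leaf))) (156352, 0, 16, 15929) (.node (.node (.node .leaf (156353, 0, 17, 18674) .leaf) (156358, 0, 16, 108886) (.node .leaf (156359, 0, 18, 74228) .leaf)) (156362, 0, 18, 253225) (.node (.node .leaf (156363, 0, 15, 212303) .leaf) (156364, 0, 17, 177199) .leaf)))))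

/-- part of the orbit tree -/
def itp4_391 : Tree := (.node itp4_387 (155984, 0, 14, 72297) itp4_388)

/-- part of the orbit tree -/
def itp4_392 : Tree := (.node itp4_389 (156242, 0, 14, 71662) itp4_390)

/-- part of the orbit tree -/
def itp4_393 : Tree := (.node itp4_385 (155592, 0, 16, 78531) itp4_386)

/-- part of the orbit tree -/
def itp4_394 : Tree := (.node itp4_391 (156113, 0, 15, 114339) itp4_392)

/-- part of the orbit tree -/
def itp4_395 : Tree := (.node (.node (.node (.node (.node (.node .leaf (156368, 0, 17, 149711) .leaf) (156369, 0, 17, 4577) (.node .leaf (156374, 0, 14, 244167) .leaf)) (156375, 0, 14, 99982) (.node (.node .leaf (156378, 0, 17, 107900) .leaf) (156379, 0, 17, 83226) (.node .leaf (156380, 0, 11, 56654) .leaf))) (156381, 0, 12, 164960) (.node (.node (.node .leaf (156384, 0, 16, 82739) .leaf) (156385, 0, 17, 203293) (.node .leaf (156390, 0, 16, 182887) .leaf)) (156391, 0, 16, 167282) (.node (.node .leaf (156394, 0, 17, 147933) .leaf) (156395, 0, 13, 14010) (.node .leaf (156396, 0, 17, 114650)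 .leaf)))) (156397, 0, 18, 102300) (.node (.node (.node (.node .leaf (156400, 0, 14, 121652) .leaf) (156401, 0, 16, 80722) (.node .leaf (156406, 0, 11, 45618) .leaf)) (156407, 0, 17, 21076) (.node (.node .leaf (156410, 0, 18, 14123) .leaf) (156411, 0, 16, 151279) (.node .leaf (156412, 0, 11, 106564) .leaf))) (156413, 0, 15, 260458) (.node (.node (.node .leaf (156416, 0, 16, 209209) .leaf) (156417, 0, 18, 92183) (.node .leaf (156422, 0, 15, 237162) .leaf)) (156423, 0, 15, 65400) (.node (.node .leaf (156426, 0, 16, 13271) .leaf) (156427, 0, 18, 90807) (.node .leaf (156428, 0, 16, 60375) .leaf))))) (156429, 0, 15, 2993) (.node (.node (.node (.node (.node .leaf (156432, 0, 14, 83919) .leaf) (156433, 0, 17, 28511) (.node .leaf (156438, 0, 16, 53408) .leaf)) (156439, 0, 16, 67161) (.node (.node .leaf (156442, 0, 18, 148769) .leaf) (156443, 0, 14, 203490) (.node .leaf (156444, 0, 18, 250446) .leaf))) (156445, 0, 18, 160740) (.node (.node (.node .leaf (156448, 0, 13, 130201) .leaf) (156449, 0, 18, 72959) (.node .leaf (156454, 0, 15,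 252764) .leaf)) (156455, 0, 17, 98930) (.node (.node .leaf (156458, 0, 14, 166180) .leaf) (156459, 0, 16, 158018) (.node .leaf (156460, 0, 14, 55730) .leaf)))) (156461, 0, 18, 196676) (.node (.node (.node (.node .leaf (156464, 0, 16, 15045) .leaf) (156465, 0, 17, 222378) (.node .leaf (156470, 0, 17, 191946) .leaf)) (156471, 0, 16, 259204) (.node (.node .leaf (156474, 0, 16, 61809) .leaf) (156475, 0, 10, 4375) (.node .leaf (156476, 0, 18, 104567) .leaf))) (156477, 0, 17, 96273) (.node (.node (.node .leaf (156482, 0, 18, 52687) .leaf) (156483, 0, 17, 11689) (.node .leaf (156484, 0, 16, 107721) .leaf)) (156485, 0, 16, 216960) (.node (.node .leaf (156488, 0, 16, 243826) .leaf) (156489, 0, 16, 219156) (.node .leaf (156494, 0, 16, 136256) .leaf))))))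

/-- part of the orbit tree -/
def itp4_396 : Tree := (.node (.node (.node (.node (.node (.node .leaf (156498, 0, 16, 194359) .leaf) (156499, 0, 16, 153084) (.node .leaf (156500, 0, 17, 221272) .leaf)) (156501, 0, 13, 80246) (.node (.node .leaf (156504, 0, 17, 114727) .leaf) (156505, 0, 16, 73793) (.node .leaf (156510, 0, 16, 25270) .leaf))) (156511, 0, 14, 146328) (.node (.node (.node .leaf (156514, 0, 16, 130251) .leaf) (156515, 0, 16, 206428) (.node .leaf (156516, 0, 17, 175932) .leaf)) (156517, 0, 15, 144010) (.node (.node .leaf (156520, 0, 16, 45959) .leaf) (156521, 0, 17, 21473) (.node .leaf (156526, 0, 15, 223562) .leaf)))) (156527, 0, 15, 77924) (.node (.node (.node (.node .leaf (156530, 0, 17, 114287) .leaf) (156531, 0, 14, 89609) (.node .leaf (156532, 0, 11, 55145) .leaf)) (156533, 0, 12, 14095) (.node (.node .leaf (156536, 0, 16, 183250) .leaf) (156537, 0, 17, 184829) (.node .leaf (156542, 0, 15, 238292) .leaf))) (156543, 0, 17, 214674) (.node (.node (.node .leaf (156546, 0, 17, 223522) .leaf) (156547, 0, 15, 77836)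 (.node .leaf (156548, 0, 14, 22853) .leaf)) (156549, 0, 16, 47395) (.node (.node .leaf (156552, 0, 15, 27596) .leaf) (156553, 0, 16, 144098) (.node .leaf (156558, 0, 17, 130211) .leaf))))) (156559, 0, 13, 248990) (.node (.node (.node (.node (.node .leaf (156562, 0, 17, 215062) .leaf) (156563, 0, 15, 214778) (.node .leaf (156564, 0, 16, 35003) .leaf)) (156565, 0, 11, 180598) (.node (.node .leaf (156568, 0, 17, 15787) .leaf) (156569, 0, 14, 17428) (.node .leaf (156574, 0, 15, 87213) .leaf))) (156575, 0, 16, 111819) (.node (.node (.node .leaf (156578, 0, 15, 146358) .leaf) (156579, 0, 15, 187344) (.node .leaf (156580, 0, 15, 230215) .leaf)) (156581, 0, 16, 121449) (.node (.node .leaf (156584, 0, 18, 85515) .leaf) (156585, 0, 16, 217064) (.node .leaf (156590, 0, 18, 9997) .leaf)))) (156591, 0, 15, 51051) (.node (.node (.node (.node .leaf (156594, 0, 16, 17379) .leaf) (156595, 0, 15, 146416) (.node .leaf (156596, 0, 17, 128433) .leaf)) (156597, 0, 18, 240799) (.node (.node .leaf (156600, 0, 17, 221232) .leaf) (156601, 0, 16, 251448)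 (.node .leaf (156606, 0, 19, 155480) .leaf))) (156607, 0, 12, 180030) (.node (.node (.node .leaf (156608, 0, 15, 199392) .leaf) (156609, 0, 16, 256646) (.node .leaf (156614, 0, 17, 85685) .leaf)) (156615, 0, 12, 202651) (.node (.node .leaf (156618, 0, 14, 252724) .leaf) (156619, 0, 17, 40763) (.node .leaf (156620, 0, 18, 71259) .leaf))))))

/-- part of the orbit tree -/
def itp4_397 : Tree := (.node (.node (.node (.node (.node (.node .leaf (156624, 0, 17, 175916) .leaf) (156625, 0, 18, 62978) (.node .leaf (156630, 0, 12, 7091) .leaf)) (156631, 0, 14, 90477) (.node (.node .leaf (156634, 0, 15, 132872) .leaf) (156635, 0, 16, 190318) (.node .leaf (156636, 0, 15, 224782) .leaf))) (156637, 0, 13, 233064) (.node (.node (.node .leaf (156640, 0, 18, 277) .leaf) (156641, 0, 17, 261630) (.node .leaf (156646, 0, 18, 92179) .leaf)) (156647, 0, 15, 158353) (.node (.node .leaf (156650, 0, 16, 173630) .leaf) (156651, 0, 16, 65296) (.node .leaf (156652, 0, 17, 209233) .leaf)))) (156653, 0, 17, 196040) (.node (.node (.node (.node .leaf (156656,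 0, 16, 250406) .leaf) (156657, 0, 14, 170278) (.node .leaf (156662, 0, 15, 200774) .leaf)) (156663, 0, 16, 7271) (.node (.node .leaf (156666, 0, 16, 68861) .leaf) (156667, 0, 17, 166374) (.node .leaf (156668, 0, 16, 83879) .leaf))) (156669, 0, 17, 34205) (.node (.node (.node .leaf (156672, 0, 18, 25536) .leaf) (156674, 0, 15, 210544) (.node .leaf (156677, 0, 14, 63537) .leaf)) (156679, 0, 17, 200771) (.node (.node .leaf (156681, 0, 12, 159152) .leaf) (156683, 0, 17, 259611) (.node .leaf (156684, 0, 14, 163707) .leaf))))) (156686, 0, 18, 107505) (.node (.node (.node (.node (.node .leaf (156688, 0, 16, 138133) .leaf) (156690, 0, 13, 82054) (.node .leaf (156693, 0, 17, 167623) .leaf)) (156695, 0, 16, 91829) (.node (.node .leaf (156697, 0, 15, 56939) .leaf) (156699, 0, 13, 101966) (.node .leaf (156700, 0, 17, 1838) .leaf))) (156702, 0, 16, 251143) (.node (.node (.node .leaf (156704, 0, 16, 223285) .leaf) (156706, 0, 16, 145424) (.node .leaf (156709, 0, 17, 242032) .leaf)) (156711, 0, 14, 159049) (.node (.node .leaf (156713, 0,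 18, 110027) .leaf) (156715, 0, 11, 63688) (.node .leaf (156716, 0, 16, 210569) .leaf)))) (156718, 0, 17, 57083) (.node (.node (.node (.node .leaf (156720, 0, 12, 251390) .leaf) (156722, 0, 17, 16453) (.node .leaf (156725, 0, 13, 259021) .leaf)) (156727, 0, 16, 39168) (.node (.node .leaf (156729, 0, 16, 251294) .leaf) (156731, 0, 16, 165307) (.node .leaf (156732, 0, 16, 199899) .leaf))) (156734, 0, 17, 174093) (.node (.node (.node .leaf (156737, 0, 14, 188326) .leaf) (156739, 0, 16, 79828) (.node .leaf (156740, 0, 16, 208997) .leaf)) (156742, 0, 17, 155712) (.node (.node .leaf (156744, 0, 16, 27668) .leaf) (156746, 0, 18, 31995) (.node .leaf (156749, 0, 17, 128411) .leaf))))))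

/-- part of the orbit tree -/
def itp4_398 : Tree := (.node (.node (.node (.node (.node (.node .leaf (156753, 0, 17, 102773) .leaf) (156755, 0, 17, 213282) (.node .leaf (156756, 0, 15, 36707) .leaf)) (156758, 0, 14, 222993) (.node (.node .leaf (156760, 0, 15, 137954) .leaf) (156762, 0, 16, 127632) (.node .leaf (156765, 0, 17, 146641) .leaf))) (156767, 0, 16, 187883) (.node (.node (.node .leaf (156769, 0, 15, 58069) .leaf) (156771, 0, 17, 111344) (.node .leaf (156772, 0, 18, 15248) .leaf)) (156774, 0, 18, 27885) (.node (.node .leaf (156776, 0, 17, 141099) .leaf) (156778, 0, 12, 227086) (.node .leaf (156781, 0, 17, 196206) .leaf)))) (156783, 0, 18, 241227) (.node (.node (.node (.node .leaf (156785, 0, 18, 119898) .leaf) (156787, 0, 15, 248485) (.node .leaf (156788, 0, 17, 127593) .leaf)) (156790, 0, 17, 201696) (.node (.node .leaf (156792, 0, 17, 24446) .leaf) (156794, 0, 15, 36762) (.node .leaf (156797, 0, 18, 213467) .leaf))) (156799, 0, 15, 43433) (.node (.node (.node .leaf (156801, 0, 10, 136364) .leaf) (156803, 0, 16, 214153)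 (.node .leaf (156804, 0, 17, 70006) .leaf)) (156806, 0, 15, 237004) (.node (.node .leaf (156808, 0, 18, 230647) .leaf) (156810, 0, 16, 98679) (.node .leaf (156813, 0, 15, 238276) .leaf))))) (156815, 0, 17, 88114) (.node (.node (.node (.node (.node .leaf (156817, 0, 17, 27897) .leaf) (156819, 0, 17, 43457) (.node .leaf (156820, 0, 13, 46524) .leaf)) (156822, 0, 13, 124313) (.node (.node .leaf (156824, 0, 15, 174343) .leaf) (156826, 0, 16, 260386) (.node .leaf (156829, 0, 16, 119858) .leaf))) (156831, 0, 18, 146496) (.node (.node (.node .leaf (156833, 0, 14, 19023) .leaf) (156835, 0, 17, 20348) (.node .leaf (156836, 0, 17, 116252) .leaf)) (156838, 0, 18, 38457) (.node (.node .leaf (156840, 0, 17, 195069) .leaf) (156842, 0, 12, 166530) (.node .leaf (156845, 0, 16, 197602) .leaf)))) (156847, 0, 17, 79804) (.node (.node (.node (.node .leaf (156849, 0, 17, 222988) .leaf) (156851, 0, 16, 120011) (.node .leaf (156852, 0, 19, 137866) .leaf)) (156854, 0, 16, 192108) (.node (.node .leaf (156856, 0, 17, 107250) .leaf) (156858, 0, 14, 62167)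 (.node .leaf (156861, 0, 15, 43320) .leaf))) (156863, 0, 17, 11154) (.node (.node (.node .leaf (156864, 0, 18, 210657) .leaf) (156866, 0, 14, 56979) (.node .leaf (156869, 0, 16, 83721) .leaf)) (156871, 0, 17, 5932) (.node (.node .leaf (156873, 0, 17, 220082) .leaf) (156875, 0, 15, 159009) (.node .leaf (156876, 0, 12, 107360) .leaf))))))

/-- part of the orbit tree -/
def itp4_399 : Tree := (.node itp4_395 (156495, 0, 16, 143634) itp4_396)

/-- part of the orbit tree -/
def itp4_400 : Tree := (.node itp4_397 (156751, 0, 18, 238165) itp4_398)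

/-- part of the orbit tree -/
def itp4_401 : Tree := (.node (.node (.node (.node (.node (.node .leaf (156880, 0, 16, 255513) .leaf) (156882, 0, 14, 177724) (.node .leaf (156885, 0, 18, 91684) .leaf)) (156887, 0, 15, 159609) (.node (.node .leaf (156889, 0, 15, 258981) .leaf) (156891, 0, 16, 7127) (.node .leaf (156892, 0, 18, 251286) .leaf))) (156894, 0, 15, 43655) (.node (.node (.node .leaf (156896, 0, 14, 150507) .leaf) (156898, 0, 12, 247196) (.node .leaf (156901, 0, 17, 159192) .leaf)) (156903, 0, 15, 203993) (.node (.node .leaf (156905, 0, 14, 20551) .leaf) (156907, 0, 16, 65634) (.node .leaf (156908, 0, 18, 35074) .leaf)))) (156910, 0, 15, 210456) (.node (.node (.node (.node .leaf (156912, 0, 13, 60908) .leaf) (156914, 0, 17, 114121) (.node .leaf (156917, 0, 16, 13481) .leaf)) (156919, 0, 14, 91276) (.node (.node .leaf (156921, 0, 15, 167599) .leaf) (156923, 0, 17, 227383) (.node .leaf (156924, 0, 16, 192855) .leaf))) (156926, 0, 18, 237938) (.node (.node (.node .leaf (156928, 0, 14, 246196) .leaf) (156930, 0, 16, 168337)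 (.node .leaf (156933, 0, 14, 202993) .leaf)) (156935, 0, 13, 260000) (.node (.node .leaf (156937, 0, 14, 66634) .leaf) (156939, 0, 9, 90657) (.node .leaf (156940, 0, 17, 122127) .leaf))))) (156942, 0, 17, 82962) (.node (.node (.node (.node (.node .leaf (156944, 0, 17, 151319) .leaf) (156946, 0, 17, 108389) (.node .leaf (156949, 0, 18, 157988) .leaf)) (156951, 0, 16, 98646) (.node (.node .leaf (156953, 0, 16, 228383) .leaf) (156955, 0, 18, 142394) (.node .leaf (156956, 0, 17, 55958) .leaf))) (156958, 0, 17, 209636) (.node (.node (.node .leaf (156960, 0, 16, 83179) .leaf) (156962, 0, 17, 105060) (.node .leaf (156965, 0, 17, 4868) .leaf)) (156967, 0, 15, 82721) (.node (.node .leaf (156969, 0, 16, 135103) .leaf) (156971, 0, 14, 7979) (.node .leaf (156972, 0, 17, 186106) .leaf)))) (156974, 0, 17, 14616) (.node (.node (.node (.node .leaf (156976, 0, 13, 209437) .leaf) (156978, 0, 14, 254513) (.node .leaf (156981, 0, 17, 158545) .leaf)) (156983, 0, 14, 64604) (.node (.node .leaf (156985, 0, 16, 98735) .leaf) (156987, 0, 17, 75727)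 (.node .leaf (156988, 0, 14, 44719) .leaf))) (156990, 0, 15, 151534) (.node (.node (.node .leaf (156993, 0, 15, 145477) .leaf) (156995, 0, 16, 118839) (.node .leaf (156996, 0, 16, 138870) .leaf)) (156998, 0, 15, 128516) (.node (.node .leaf (157000, 0, 13, 35831) .leaf) (157002, 0, 15, 222085) (.node .leaf (157005, 0, 16, 153583) .leaf))))))

/-- part of the orbit tree -/
def itp4_402 : Tree := (.node (.node (.node (.node (.node (.node .leaf (157009, 0, 18, 144129) .leaf) (157011, 0, 17, 239297) (.node .leaf (157012, 0, 15, 26752) .leaf)) (157014, 0, 16, 229618) (.node (.node .leaf (157016, 0, 16, 63231) .leaf) (157018, 0, 14, 71027) (.node .leaf (157021, 0, 17, 187186) .leaf))) (157023, 0, 15, 78656) (.node (.node (.node .leaf (157025, 0, 17, 213153) .leaf) (157027, 0, 16, 44349) (.node .leaf (157028, 0, 15, 222076) .leaf)) (157030, 0, 16, 35598) (.node (.node .leaf (157032, 0, 17, 99679) .leaf) (157034, 0, 16, 138895) (.node .leaf (157037, 0, 15, 89114) .leaf)))) (157039, 0, 15, 145596) (.node (.node (.node (.node .leaf (157041,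 0, 17, 80116) .leaf) (157043, 0, 16, 187339) (.node .leaf (157044, 0, 16, 71050) .leaf)) (157046, 0, 15, 45460) (.node (.node .leaf (157048, 0, 15, 261386) .leaf) (157050, 0, 15, 26745) (.node .leaf (157053, 0, 14, 205903) .leaf))) (157055, 0, 15, 20042) (.node (.node (.node .leaf (157057, 0, 17, 118950) .leaf) (157059, 0, 15, 145620) (.node .leaf (157060, 0, 14, 94109) .leaf)) (157062, 0, 13, 138983) (.node (.node .leaf (157064, 0, 17, 221972) .leaf) (157066, 0, 14, 140035) (.node .leaf (157069, 0, 18, 240227) .leaf))))) (157071, 0, 18, 195142) (.node (.node (.node (.node (.node .leaf (157073, 0, 18, 249485) .leaf) (157075, 0, 18, 20002) (.node .leaf (157076, 0, 15, 229475) .leaf)) (157078, 0, 18, 149485) (.node (.node .leaf (157080, 0, 19, 68467) .leaf) (157082, 0, 18, 23382) (.node .leaf (157085, 0, 13, 78801) .leaf))) (157087, 0, 16, 33299) (.node (.node (.node .leaf (157089, 0, 16, 179501) .leaf) (157091, 0, 14, 214494) (.node .leaf (157092, 0, 17, 35743) .leaf)) (157094, 0, 16, 209997) (.node (.node .leaf (157096, 0,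 5, 138782) .leaf) (157098, 0, 14, 76022) (.node .leaf (157101, 0, 14, 145453) .leaf)))) (157103, 0, 15, 127411) (.node (.node (.node (.node .leaf (157105, 0, 17, 187226) .leaf) (157107, 0, 18, 78632) (.node .leaf (157108, 0, 17, 195945) .leaf)) (157110, 0, 16, 70939) (.node (.node .leaf (157112, 0, 18, 131206) .leaf) (157114, 0, 17, 217251) (.node .leaf (157117, 0, 18, 20187) .leaf))) (157119, 0, 16, 231910) (.node (.node (.node .leaf (157120, 0, 16, 250114) .leaf) (157122, 0, 14, 14704) (.node .leaf (157125, 0, 15, 259889) .leaf)) (157127, 0, 16, 243032) (.node (.node .leaf (157129, 0, 15, 63942) .leaf) (157131, 0, 17, 109027) (.node .leaf (157132, 0, 15, 8323) .leaf))))))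

/-- part of the orbit tree -/
def itp4_403 : Tree := (.node (.node (.node (.node (.node (.node .leaf (157136, 0, 16, 17517) .leaf) (157138, 0, 16, 70728) (.node .leaf (157141, 0, 18, 40232) .leaf)) (157143, 0, 16, 118029) (.node (.node .leaf (157145, 0, 11, 164243) .leaf) (157147, 0, 12, 64564) (.node .leaf (157148, 0, 18, 209525) .leaf))) (157150, 0, 16, 55815) (.node (.node (.node .leaf (157152, 0, 16, 79821) .leaf) (157154, 0, 17, 26600) (.node .leaf (157157, 0, 16, 126600) .leaf)) (157159, 0, 17, 48813) (.node (.node .leaf (157161, 0, 18, 258611) .leaf) (157163, 0, 16, 260040) (.node .leaf (157164, 0, 14, 14729) .leaf)))) (157166, 0, 15, 162643) (.node (.node (.node (.node .leaf (157168, 0, 13, 216984) .leaf) (157170, 0, 14, 139197) (.node .leaf (157173, 0, 16, 235229) .leaf)) (157175, 0, 15, 182008) (.node (.node .leaf (157177, 0, 14, 100966) .leaf) (157179, 0, 16, 55875) (.node .leaf (157180, 0, 14, 151423) .leaf))) (157182, 0, 17, 774) (.node (.node (.node .leaf (157188, 0, 10, 30355) .leaf) (157189, 0, 17, 64797) (.node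 .leaf (157190, 0, 15, 75446) .leaf)) (157191, 0, 17, 116432) (.node (.node .leaf (157192, 0, 15, 158248) .leaf) (157193, 0, 17, 157852) (.node .leaf (157194, 0, 16, 211469) .leaf))))) (157195, 0, 17, 252523) (.node (.node (.node (.node (.node .leaf (157204, 0, 13, 134854) .leaf) (157205, 0, 13, 166891) (.node .leaf (157206, 0, 16, 220899) .leaf)) (157207, 0, 16, 245381) (.node (.node .leaf (157208, 0, 18, 149316) .leaf) (157209, 0, 15, 61979) (.node .leaf (157210, 0, 16, 110390) .leaf))) (157211, 0, 11, 259608) (.node (.node (.node .leaf (157220, 0, 17, 228710) .leaf) (157221, 0, 15, 236800) (.node .leaf (157222, 0, 12, 142659) .leaf)) (157223, 0, 14, 183589) (.node (.node .leaf (157224, 0, 16, 85176) .leaf) (157225, 0, 16, 202134) (.node .leaf (157226, 0, 16, 12792) .leaf)))) (157227, 0, 18, 64996) (.node (.node (.node (.node .leaf (157236, 0, 18, 66867) .leaf) (157237, 0, 14, 259809) (.node .leaf (157238, 0, 15, 21782) .leaf)) (157239, 0, 16, 46448) (.node (.node .leaf (157240, 0, 16, 211534) .leaf) (157241, 0, 14, 90976)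 (.node .leaf (157242, 0, 15, 149933) .leaf))) (157243, 0, 17, 166674) (.node (.node (.node .leaf (157248, 0, 15, 33700) .leaf) (157249, 0, 14, 187018) (.node .leaf (157250, 0, 15, 224214) .leaf)) (157251, 0, 19, 78584) (.node (.node .leaf (157260, 0, 16, 136741) .leaf) (157261, 0, 17, 20235) (.node .leaf (157262, 0, 16, 27048) .leaf))))))

/-- part of the orbit tree -/
def itp4_404 : Tree := (.node (.node (.node (.node (.node (.node .leaf (157264, 0, 16, 89443) .leaf) (157265, 0, 14, 44156) (.node .leaf (157266, 0, 17, 3398) .leaf)) (157267, 0, 17, 214030) (.node (.node .leaf (157276, 0, 17, 24787) .leaf) (157277, 0, 18, 238014) (.node .leaf (157278, 0, 18, 135677) .leaf))) (157279, 0, 16, 119183) (.node (.node (.node .leaf (157280, 0, 16, 130734) .leaf) (157281, 0, 12, 52901) (.node .leaf (157282, 0, 16, 98022) .leaf)) (157283, 0, 17, 106112) (.node (.node .leaf (157292, 0, 18, 143992) .leaf) (157293, 0, 11, 78337) (.node .leaf (157294, 0, 18, 33629) .leaf)))) (157295, 0, 18, 186995) (.node (.node (.node (.node .leaf (157296,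 0, 13, 231512) .leaf) (157297, 0, 18, 119158) (.node .leaf (157298, 0, 17, 24618) .leaf)) (157299, 0, 17, 255701) (.node (.node .leaf (157308, 0, 14, 73177) .leaf) (157309, 0, 18, 214263) (.node .leaf (157310, 0, 16, 72200) .leaf))) (157311, 0, 15, 44165) (.node (.node (.node .leaf (157312, 0, 17, 224071) .leaf) (157313, 0, 17, 145628) (.node .leaf (157314, 0, 17, 33589) .leaf)) (157315, 0, 15, 186907) (.node (.node .leaf (157324, 0, 15, 50177) .leaf) (157325, 0, 16, 239592) (.node .leaf (157326, 0, 13, 136884) .leaf))))) (157327, 0, 19, 20378) (.node (.node (.node (.node (.node .leaf (157328, 0, 18, 73137) .leaf) (157329, 0, 13, 214175) (.node .leaf (157330, 0, 13, 127178) .leaf)) (157331, 0, 16, 44269) (.node (.node .leaf (157340, 0, 15, 231472) .leaf) (157341, 0, 17, 119070) (.node .leaf (157342, 0, 14, 257137) .leaf))) (157343, 0, 12, 145772) (.node (.node (.node .leaf (157344, 0, 12, 136781) .leaf) (157345, 0, 18, 78633) (.node .leaf (157346, 0, 19, 33642) .leaf)) (157347, 0, 14, 239377) (.node (.node .leaf (157356, 0,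 16, 33740) .leaf) (157357, 0, 17, 208786) (.node .leaf (157358, 0, 13, 224190) .leaf)))) (157359, 0, 16, 163767) (.node (.node (.node (.node .leaf (157360, 0, 15, 24763) .leaf) (157361, 0, 17, 145813) (.node .leaf (157362, 0, 15, 231625) .leaf)) (157363, 0, 16, 138073) (.node (.node .leaf (157372, 0, 13, 193850) .leaf) (157373, 0, 14, 44052) (.node .leaf (157374, 0, 10, 73032) .leaf))) (157375, 0, 16, 2018) (.node (.node (.node .leaf (157380, 0, 11, 85200) .leaf) (157381, 0, 9, 202238) (.node .leaf (157382, 0, 16, 173218) .leaf)) (157383, 0, 16, 64908) (.node (.node .leaf (157384, 0, 17, 252241) .leaf) (157385, 0, 13, 98431) .leaf)))))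

/-- part of the orbit tree -/
def itp4_405 : Tree := (.node itp4_401 (157007, 0, 17, 214454) itp4_402)

/-- part of the orbit tree -/
def itp4_406 : Tree := (.node itp4_403 (157263, 0, 16, 239481) itp4_404)

/-- part of the orbit tree -/
def itp4_407 : Tree := (.node itp4_399 (156621, 0, 17, 5493) itp4_400)

/-- part of the orbit tree -/
def itp4_408 : Tree := (.node itp4_405 (157134, 0, 16, 175345) itp4_406)

/-- part of the orbit tree -/
def itp4_409 : Tree := (.node itp4_393 (155857, 0, 16, 5325) itp4_394)

/-- part of the orbit tree -/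
def itp4_410 : Tree := (.node itp4_407 (156878, 0, 15, 150290) itp4_408)

/-- part of the orbit tree -/
def itp4_411 : Tree := (.node (.node (.node (.node (.node (.node .leaf (157387, 0, 14, 157709) .leaf) (157396, 0, 18, 211494) (.node .leaf (157397, 0, 17, 201516) .leaf)) (157398, 0, 16, 53844) (.node (.node .leaf (157399, 0, 16, 148233) .leaf) (157400, 0, 16, 110503) (.node .leaf (157401, 0, 14, 259721) .leaf))) (157402, 0, 11, 149461) (.node (.node (.node .leaf (157403, 0, 15, 24498) .leaf) (157412, 0, 16, 12762) (.node .leaf (157413, 0, 16, 157940) .leaf)) (157414, 0, 17, 250063) (.node (.node .leaf (157415, 0, 15, 209065) .leaf) (157416, 0, 16, 173147) (.node .leaf (157417, 0, 16, 31799) .leaf)))) (157418, 0, 17, 117876) (.node (.node (.node (.node .leaf (157419, 0, 18, 201991) .leaf) (157428, 0, 16, 149292) (.node .leaf (157429, 0, 17, 7682) .leaf)) (157430, 0, 17, 110430) (.node (.node .leaf (157431, 0, 15, 259696) .leaf) (157432, 0, 16, 189444) (.node .leaf (157433, 0, 16, 132194) .leaf))) (157434, 0, 18, 242721) (.node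 (.node (.node .leaf (157435, 0, 9, 218183) .leaf) (157444, 0, 16, 148432) (.node .leaf (157445, 0, 12, 210049) .leaf)) (157446, 0, 15, 165058) (.node (.node .leaf (157447, 0, 15, 258700) .leaf) (157448, 0, 13, 54865) (.node .leaf (157449, 0, 18, 75834) .leaf))))) (157450, 0, 10, 39033) (.node (.node (.node (.node (.node .leaf (157451, 0, 17, 30751) .leaf) (157460, 0, 18, 13606) (.node .leaf (157461, 0, 16, 158728) .leaf)) (157462, 0, 16, 253268) (.node (.node .leaf (157463, 0, 16, 7409) .leaf) (157464, 0, 17, 172199) (.node .leaf (157465, 0, 16, 63881) .leaf))) (157466, 0, 17, 188460) (.node (.node (.node .leaf (157467, 0, 15, 131146) .leaf) (157476, 0, 14, 57106) (.node .leaf (157477, 0, 17, 16244) .leaf)) (157478, 0, 15, 54952) (.node (.node .leaf (157479, 0, 14, 94033) .leaf) (157480, 0, 16, 181161) (.node .leaf (157481, 0, 17, 140239) .leaf)))) (157482, 0, 17, 148265) (.node (.node (.node (.node .leaf (157483, 0, 14, 6663) .leaf) (157492, 0, 15, 173895) (.node .leaf (157493, 0, 13, 200962) .leaf)) (157494, 0, 13, 259938)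 (.node (.node .leaf (157495, 0, 17, 202500) .leaf) (157496, 0, 18, 253357) (.node .leaf (157497, 0, 16, 99459) .leaf))) (157498, 0, 16, 125913) (.node (.node (.node .leaf (157499, 0, 16, 158961) .leaf) (157504, 0, 7, 25671) (.node .leaf (157505, 0, 17, 146793) .leaf)) (157506, 0, 18, 232501) (.node (.node .leaf (157507, 0, 14, 120091) .leaf) (157516, 0, 15, 192966) (.node .leaf (157517, 0, 16, 162719) .leaf))))))

/-- part of the orbit tree -/
def itp4_412 : Tree := (.node (.node (.node (.node (.node (.node .leaf (157519, 0, 18, 207802) .leaf) (157520, 0, 17, 135857) (.node .leaf (157521, 0, 16, 19359) .leaf)) (157522, 0, 15, 241458) (.node (.node .leaf (157523, 0, 15, 216916) .leaf) (157532, 0, 16, 58284) (.node .leaf (157533, 0, 15, 187934) .leaf))) (157534, 0, 17, 225090) (.node (.node (.node .leaf (157535, 0, 16, 87023) .leaf) (157536, 0, 16, 232631) (.node .leaf (157537, 0, 16, 213091) .leaf)) (157538, 0, 19, 187538) (.node (.node .leaf (157539, 0, 18, 43025) .leaf) (157548, 0, 17, 102412) (.node .leaf (157549, 0, 16,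 120290) .leaf)))) (157550, 0, 16, 25790) (.node (.node (.node (.node .leaf (157551, 0, 15, 8271) .leaf) (157552, 0, 16, 225211) (.node .leaf (157553, 0, 15, 70788) .leaf)) (157554, 0, 17, 34761) (.node (.node .leaf (157555, 0, 16, 188135) .leaf) (157564, 0, 17, 129594) (.node .leaf (157565, 0, 16, 238356) .leaf))) (157566, 0, 17, 178300) (.node (.node (.node .leaf (157567, 0, 14, 153626) .leaf) (157568, 0, 16, 232612) (.node .leaf (157569, 0, 16, 105128) .leaf)) (157570, 0, 14, 25814) (.node (.node .leaf (157571, 0, 18, 51853) .leaf) (157580, 0, 14, 222837) (.node .leaf (157581, 0, 17, 213003) .leaf))))) (157582, 0, 15, 144976) (.node (.node (.node (.node (.node .leaf (157583, 0, 13, 43129) .leaf) (157584, 0, 15, 197275) (.node .leaf (157585, 0, 15, 238460) .leaf)) (157586, 0, 18, 135712) (.node (.node .leaf (157587, 0, 13, 176856) .leaf) (157596, 0, 17, 73248) (.node .leaf (157597, 0, 16, 79613) .leaf))) (157598, 0, 17, 34721) (.node (.node (.node .leaf (157599, 0, 16, 44643) .leaf) (157600, 0, 17, 192942) (.node .leaf (157601,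 0, 18, 43136) .leaf)) (157602, 0, 17, 205086) (.node (.node .leaf (157603, 0, 17, 246136) .leaf) (157612, 0, 18, 25647) (.node .leaf (157613, 0, 18, 36326) .leaf)))) (157614, 0, 19, 232541) (.node (.node (.node (.node .leaf (157615, 0, 18, 122307) .leaf) (157616, 0, 17, 2414) (.node .leaf (157617, 0, 13, 59656) .leaf)) (157618, 0, 15, 88395) (.node (.node .leaf (157619, 0, 13, 79364) .leaf) (157628, 0, 17, 136661) (.node .leaf (157629, 0, 16, 19447) .leaf))) (157630, 0, 17, 214512) (.node (.node (.node .leaf (157631, 0, 13, 238998) .leaf) (157636, 0, 15, 109363) (.node .leaf (157637, 0, 15, 182541) .leaf)) (157638, 0, 17, 148289) (.node (.node .leaf (157639, 0, 15, 6767) .leaf) (157640, 0, 16, 212658) (.node .leaf (157641, 0, 16, 54710) .leaf))))))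

/-- part of the orbit tree -/
def itp4_413 : Tree := (.node (.node (.node (.node (.node (.node .leaf (157643, 0, 17, 99731) .leaf) (157652, 0, 15, 253381) (.node .leaf (157653, 0, 14, 45400) .leaf)) (157654, 0, 17, 13751) (.node (.node .leaf (157655, 0, 12, 123261) .leaf) (157656, 0, 17, 150917) (.node .leaf (157657, 0, 18, 175587) .leaf))) (157658, 0, 15, 204192) (.node (.node (.node .leaf (157659, 0, 17, 261574) .leaf) (157668, 0, 11, 54841) (.node .leaf (157669, 0, 16, 167703) .leaf)) (157670, 0, 14, 29371) (.node (.node .leaf (157671, 0, 17, 92005) .leaf) (157672, 0, 14, 212517) (.node .leaf (157673, 0, 16, 6806) .leaf)))) (157674, 0, 15, 109514) (.node (.node (.node (.node .leaf (157675, 0, 18, 258788) .leaf) (157684, 0, 16, 172239) (.node .leaf (157685, 0, 17, 63969) .leaf)) (157686, 0, 15, 84157) (.node (.node .leaf (157687, 0, 16, 201107) .leaf) (157688, 0, 16, 83568) (.node .leaf (157689, 0, 15, 158816) .leaf))) (157690, 0, 15, 253244) (.node (.node (.node .leaf (157691, 0, 19, 99346) .leaf) (157696, 0, 17, 235209)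 (.node .leaf (157699, 0, 18, 177975) .leaf)) (157700, 0, 17, 125396) (.node (.node .leaf (157703, 0, 14, 22664) .leaf) (157705, 0, 15, 75131) (.node .leaf (157706, 0, 17, 29385) .leaf))))) (157709, 0, 13, 219750) (.node (.node (.node (.node (.node .leaf (157710, 0, 15, 191290) .leaf) (157712, 0, 16, 122943) (.node .leaf (157715, 0, 13, 53090) .leaf)) (157716, 0, 17, 237346) (.node (.node .leaf (157719, 0, 15, 142974) .leaf) (157721, 0, 15, 244447) (.node .leaf (157722, 0, 16, 133788) .leaf))) (157725, 0, 18, 230396) (.node (.node (.node .leaf (157726, 0, 15, 40396) .leaf) (157728, 0, 19, 191427) (.node .leaf (157731, 0, 16, 113858) .leaf)) (157732, 0, 12, 13730) (.node (.node .leaf (157735, 0, 13, 75138) .leaf) (157737, 0, 15, 22641) (.node .leaf (157738, 0, 16, 227644) .leaf)))) (157741, 0, 16, 141164) (.node (.node (.node (.node .leaf (157742, 0, 17, 235056) .leaf) (157744, 0, 11, 160980) (.node .leaf (157747, 0, 11, 76905) .leaf)) (157748, 0, 14, 188968) (.node (.node .leaf (157751, 0, 15, 261556) .leaf) (157753, 0, 18,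 142983) (.node .leaf (157754, 0, 15, 237531) .leaf))) (157757, 0, 16, 20890) (.node (.node (.node .leaf (157758, 0, 16, 79946) .leaf) (157761, 0, 10, 104301) (.node .leaf (157762, 0, 15, 9777) .leaf)) (157765, 0, 17, 256112) (.node (.node .leaf (157766, 0, 15, 66804) .leaf) (157768, 0, 13, 206047) (.node .leaf (157771, 0, 15, 260137) .leaf))))))

/-- part of the orbit tree -/
def itp4_414 : Tree := (.node (.node (.node (.node (.node (.node .leaf (157775, 0, 16, 246026) .leaf) (157777, 0, 14, 254363) (.node .leaf (157778, 0, 16, 151751) .leaf)) (157781, 0, 16, 106118) (.node (.node .leaf (157782, 0, 14, 12250) .leaf) (157784, 0, 9, 12351) (.node .leaf (157787, 0, 18, 98428) .leaf))) (157788, 0, 17, 208180) (.node (.node (.node .leaf (157791, 0, 13, 171112) .leaf) (157793, 0, 15, 231009) (.node .leaf (157794, 0, 13, 144930) .leaf)) (157797, 0, 15, 245570) (.node (.node .leaf (157798, 0, 18, 134913) .leaf) (157800, 0, 13, 82847) (.node .leaf (157803, 0, 13, 62428) .leaf)))) (157804, 0, 14, 9928) (.node (.node (.node (.node .leaf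 (157807, 0, 17, 51967) .leaf) (157809, 0, 17, 171153) (.node .leaf (157810, 0, 16, 20087) .leaf)) (157813, 0, 13, 58252) (.node (.node .leaf (157814, 0, 16, 30548) .leaf) (157816, 0, 18, 211914) (.node .leaf (157819, 0, 17, 166793) .leaf))) (157820, 0, 15, 151614) (.node (.node (.node .leaf (157823, 0, 12, 254306) .leaf) (157825, 0, 15, 94232) (.node .leaf (157826, 0, 17, 249554) .leaf)) (157829, 0, 10, 147) (.node (.node .leaf (157830, 0, 16, 111055) .leaf) (157832, 0, 15, 52284) (.node .leaf (157835, 0, 18, 97632) .leaf))))) (157836, 0, 15, 232645) (.node (.node (.node (.node (.node .leaf (157839, 0, 18, 197245) .leaf) (157841, 0, 17, 198733) (.node .leaf (157842, 0, 18, 178190) .leaf)) (157845, 0, 16, 161381) (.node (.node .leaf (157846, 0, 12, 247609) .leaf) (157848, 0, 16, 118195) (.node .leaf (157851, 0, 16, 32240) .leaf))) (157852, 0, 16, 50647) (.node (.node (.node .leaf (157855, 0, 16, 95371) .leaf) (157857, 0, 16, 162797) (.node .leaf (157858, 0, 14, 177112) .leaf)) (157861, 0, 11, 97689) (.node (.node .leaf (157862,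 0, 15, 52421) .leaf) (157864, 0, 13, 48659) (.node .leaf (157867, 0, 17, 69200) .leaf)))) (157868, 0, 17, 34608) (.node (.node (.node (.node .leaf (157871, 0, 17, 163703) .leaf) (157873, 0, 16, 952) (.node .leaf (157874, 0, 17, 111611) .leaf)) (157877, 0, 15, 15003) (.node (.node .leaf (157878, 0, 17, 101080) .leaf) (157880, 0, 16, 247744) (.node .leaf (157883, 0, 15, 226821) .leaf))) (157884, 0, 17, 112861) (.node (.node (.node .leaf (157887, 0, 18, 2433) .leaf) (157888, 0, 19, 195320) (.node .leaf (157891, 0, 17, 215739) .leaf)) (157892, 0, 12, 181211) (.node (.node .leaf (157895, 0, 17, 241771) .leaf) (157897, 0, 12, 16134) (.node .leaf (157898, 0, 16, 102213) .leaf))))))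

/-- part of the orbit tree -/
def itp4_415 : Tree := (.node itp4_411 (157518, 0, 17, 72116) itp4_412)

/-- part of the orbit tree -/
def itp4_416 : Tree := (.node itp4_413 (157772, 0, 18, 89026) itp4_414)

/-- part of the orbit tree -/
def itp4_417 : Tree := (.node (.node (.node (.node (.node (.node .leaf (157902, 0, 17, 112230) .leaf) (157904, 0, 18, 33453) (.node .leaf (157907, 0, 17, 78574) .leaf)) (157908, 0, 17, 30657) (.node (.node .leaf (157911, 0, 15, 116381) .leaf) (157913, 0, 17, 149331) (.node .leaf (157914, 0, 18, 68146) .leaf))) (157917, 0, 17, 163440) (.node (.node (.node .leaf (157918, 0, 15, 249395) .leaf) (157920, 0, 17, 66336) (.node .leaf (157923, 0, 17, 45692) .leaf)) (157924, 0, 15, 228413) (.node (.node .leaf (157927, 0, 17, 30829) .leaf) (157929, 0, 18, 210163) (.node .leaf (157930, 0, 16, 131534) .leaf)))) (157933, 0, 13, 200144) (.node (.node (.node (.node .leaf (157934, 0, 13, 32467) .leaf) (157936, 0, 15, 231768) (.node .leaf (157939, 0, 17, 145691) .leaf)) (157940, 0, 15, 241787) (.node (.node .leaf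 (157943, 0, 14, 48023) .leaf) (157945, 0, 16, 116324) (.node .leaf (157946, 0, 16, 64741) .leaf))) (157949, 0, 16, 244089) (.node (.node (.node .leaf (157950, 0, 16, 133157) .leaf) (157952, 0, 18, 42240) (.node .leaf (157955, 0, 19, 180342) .leaf)) (157956, 0, 15, 69175) (.node (.node .leaf (157959, 0, 18, 49003) .leaf) (157961, 0, 18, 115352) (.node .leaf (157962, 0, 16, 250045) .leaf))))) (157965, 0, 17, 154077) (.node (.node (.node (.node (.node .leaf (157966, 0, 15, 134361) .leaf) (157968, 0, 15, 67548) (.node .leaf (157971, 0, 14, 46720) .leaf)) (157972, 0, 18, 189558) (.node (.node .leaf (157975, 0, 17, 218165) .leaf) (157977, 0, 17, 242798) (.node .leaf (157978, 0, 14, 132402) .leaf))) (157981, 0, 13, 117619) (.node (.node (.node .leaf (157982, 0, 15, 102859) .leaf) (157984, 0, 19, 134176) (.node .leaf (157987, 0, 16, 138934) .leaf)) (157988, 0, 17, 235478) (.node (.node .leaf (157991, 0, 16, 115297) .leaf) (157993, 0, 16, 92939) (.node .leaf (157994, 0, 17, 69326) .leaf)))) (157997, 0, 18, 86568) (.node (.node (.node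 (.node .leaf (157998, 0, 9, 57963) .leaf) (158000, 0, 16, 31446) (.node .leaf (158003, 0, 16, 117642) .leaf)) (158004, 0, 18, 126851) (.node (.node .leaf (158007, 0, 17, 24512) .leaf) (158009, 0, 14, 201566) (.node .leaf (158010, 0, 16, 227384) .leaf))) (158013, 0, 17, 207485) (.node (.node (.node .leaf (158014, 0, 17, 67365) .leaf) (158017, 0, 16, 94350) (.node .leaf (158018, 0, 15, 49618) .leaf)) (158021, 0, 16, 202435) (.node (.node .leaf (158022, 0, 12, 173696) .leaf) (158024, 0, 19, 125470) (.node .leaf (158027, 0, 16, 23133) .leaf))))))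

/-- part of the orbit tree -/
def itp4_418 : Tree := (.node (.node (.node (.node (.node (.node .leaf (158031, 0, 13, 3453) .leaf) (158033, 0, 17, 198264) (.node .leaf (158034, 0, 17, 59382) .leaf)) (158037, 0, 14, 93846) (.node (.node .leaf (158038, 0, 16, 51257) .leaf) (158040, 0, 13, 112074) (.node .leaf (158043, 0, 16, 139784) .leaf))) (158044, 0, 15, 240488) (.node (.node (.node .leaf (158047, 0, 18, 138027) .leaf) (158049, 0, 17, 9237) (.node .leaf (158050, 0, 17, 103510) .leaf)) (158053, 0, 18, 7478) (.node (.node .leaf (158054, 0, 18, 109941) .leaf) (158056, 0, 12, 188907) (.node .leaf (158059, 0, 17, 200554) .leaf)))) (158060, 0, 15, 186568) (.node (.node (.node (.node .leaf (158063, 0, 14, 223371) .leaf) (158065, 0, 18, 162674) (.node .leaf (158066, 0, 17, 257027) .leaf)) (158069, 0, 15, 1135) (.node (.node .leaf (158070, 0, 17, 111923) .leaf) (158072, 0, 15, 51392) (.node .leaf (158075, 0, 18, 76285) .leaf))) (158076, 0, 15, 41117) (.node (.node (.node .leaf (158079, 0, 18, 198273) .leaf) (158081, 0, 19, 184940)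 (.node .leaf (158082, 0, 16, 221743) .leaf)) (158085, 0, 17, 191311) (.node (.node .leaf (158086, 0, 16, 87596) .leaf) (158088, 0, 16, 6034) (.node .leaf (158091, 0, 14, 108497) .leaf))))) (158092, 0, 17, 152770) (.node (.node (.node (.node (.node .leaf (158095, 0, 15, 106226) .leaf) (158097, 0, 17, 61083) (.node .leaf (158098, 0, 16, 72314) .leaf)) (158101, 0, 18, 168326) (.node (.node .leaf (158102, 0, 13, 74585) .leaf) (158104, 0, 13, 159687) (.node .leaf (158107, 0, 12, 257141) .leaf))) (158108, 0, 15, 8756) (.node (.node (.node .leaf (158111, 0, 19, 255655) .leaf) (158113, 0, 14, 255335) (.node .leaf (158114, 0, 14, 152635) .leaf)) (158117, 0, 16, 123066) (.node (.node .leaf (158118, 0, 16, 11046) .leaf) (158120, 0, 15, 87765) (.node .leaf (158123, 0, 17, 175140) .leaf)))) (158124, 0, 16, 207304) (.node (.node (.node (.node .leaf (158127, 0, 15, 170132) .leaf) (158129, 0, 15, 238028) (.node .leaf (158130, 0, 14, 8909) .leaf)) (158133, 0, 16, 257164) (.node (.node .leaf (158134, 0, 17, 141484) .leaf) (158136, 0, 17, 91186)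 (.node .leaf (158139, 0, 18, 168319) .leaf))) (158140, 0, 15, 89361) (.node (.node (.node .leaf (158143, 0, 17, 60754) .leaf) (158144, 0, 17, 88204) (.node .leaf (158147, 0, 17, 59599) .leaf)) (158148, 0, 17, 190164) (.node (.node .leaf (158151, 0, 15, 219016) .leaf) (158153, 0, 14, 236914) (.node .leaf (158154, 0, 14, 142641) .leaf))))))

/-- part of the orbit tree -/
def itp4_419 : Tree := (.node (.node (.node (.node (.node (.node .leaf (158158, 0, 16, 136210) .leaf) (158160, 0, 16, 192319) (.node .leaf (158163, 0, 15, 168090) .leaf)) (158164, 0, 14, 203258) (.node (.node .leaf (158167, 0, 16, 174521) .leaf) (158169, 0, 18, 124199) (.node .leaf (158170, 0, 17, 126417) .leaf))) (158173, 0, 18, 140176) (.node (.node (.node .leaf (158174, 0, 18, 234188) .leaf) (158176, 0, 13, 124099) (.node .leaf (158179, 0, 18, 21919) .leaf)) (158180, 0, 14, 236510) (.node (.node .leaf (158183, 0, 16, 141954) .leaf) (158185, 0, 17, 38535) (.node .leaf (158186, 0, 17, 75460) .leaf)))) (158189, 0, 15, 44964) (.node (.node (.node (.node .leaf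 (158190, 0, 18, 39216) .leaf) (158192, 0, 15, 234037) (.node .leaf (158195, 0, 14, 105327) .leaf)) (158196, 0, 15, 4623) (.node (.node .leaf (158199, 0, 16, 107084) .leaf) (158201, 0, 17, 74119) (.node .leaf (158202, 0, 17, 37083) .leaf))) (158205, 0, 17, 220826) (.node (.node (.node .leaf (158206, 0, 18, 192454) .leaf) (158210, 0, 15, 162593) (.node .leaf (158211, 0, 18, 139961) .leaf)) (158214, 0, 15, 147970) (.node (.node .leaf (158215, 0, 15, 172644) .leaf) (158216, 0, 14, 69276) (.node .leaf (158217, 0, 12, 73815) .leaf))))) (158220, 0, 11, 67172) (.node (.node (.node (.node (.node .leaf (158221, 0, 18, 221002) .leaf) (158226, 0, 14, 134497) (.node .leaf (158227, 0, 15, 21583) .leaf)) (158230, 0, 14, 14935) (.node (.node .leaf (158231, 0, 13, 142162) .leaf) (158232, 0, 10, 227017) (.node .leaf (158233, 0, 16, 235183) .leaf))) (158236, 0, 16, 217066) (.node (.node (.node .leaf (158237, 0, 16, 76220) .leaf) (158242, 0, 18, 67229) (.node .leaf (158243, 0, 15, 102578) .leaf)) (158246, 0, 15, 227712) (.node (.node .leaf (158247,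 0, 12, 73902) .leaf) (158248, 0, 14, 132457) (.node .leaf (158249, 0, 15, 189711) .leaf)))) (158252, 0, 16, 146506) (.node (.node (.node (.node .leaf (158253, 0, 15, 187436) .leaf) (158258, 0, 14, 198785) (.node .leaf (158259, 0, 15, 76101) .leaf)) (158262, 0, 15, 69494) (.node (.node .leaf (158263, 0, 16, 250308) .leaf) (158264, 0, 7, 29317) (.node .leaf (158265, 0, 17, 40282) .leaf))) (158268, 0, 18, 17439) (.node (.node (.node .leaf (158269, 0, 13, 42105) .leaf) (158272, 0, 13, 16770) (.node .leaf (158273, 0, 17, 102977) .leaf)) (158276, 0, 14, 111730) (.node (.node .leaf (158277, 0, 18, 257372) .leaf) (158282, 0, 17, 209983) (.node .leaf (158283, 0, 16, 250969) .leaf))))))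

/-- part of the orbit tree -/
def itp4_420 : Tree := (.node (.node (.node (.node (.node (.node .leaf (158287, 0, 14, 61362) .leaf) (158288, 0, 15, 114073) (.node .leaf (158289, 0, 16, 186801) .leaf)) (158292, 0, 17, 131316) (.node (.node .leaf (158293, 0, 16, 188562) .leaf) (158298, 0, 16, 85098) (.node .leaf (158299, 0, 18, 58969) .leaf))) (158302, 0, 16, 49258) (.node (.node (.node .leaf (158303, 0, 13, 170308) .leaf) (158304, 0, 14, 177765) (.node .leaf (158305, 0, 17, 61259) .leaf)) (158308, 0, 17, 51576) (.node (.node .leaf (158309, 0, 15, 234290) .leaf) (158314, 0, 17, 16330) (.node .leaf (158315, 0, 13, 257445) .leaf)))) (158318, 0, 16, 248726) (.node (.node (.node (.node .leaf (158319, 0, 11, 103096) .leaf) (158320, 0, 15, 49299) (.node .leaf (158321, 0, 17, 119364) .leaf)) (158324, 0, 16, 180110) (.node (.node .leaf (158325, 0, 18, 59040) .leaf) (158330, 0, 16, 149407) (.node .leaf (158331, 0, 15, 105299) .leaf))) (158334, 0, 12, 163516) (.node (.node (.node .leaf (158335, 0, 19, 255054) .leaf) (158336, 0, 19, 9100)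 (.node .leaf (158337, 0, 15, 162466) .leaf)) (158340, 0, 17, 154769) (.node (.node .leaf (158341, 0, 18, 91467) .leaf) (158346, 0, 15, 205154) (.node .leaf (158347, 0, 16, 141781) .leaf))))) (158350, 0, 17, 89727) (.node (.node (.node (.node (.node .leaf (158351, 0, 15, 135414) .leaf) (158352, 0, 19, 152954) (.node .leaf (158353, 0, 14, 3156) .leaf)) (158356, 0, 18, 261496) (.node (.node .leaf (158357, 0, 15, 160585) .leaf) (158362, 0, 17, 87956) (.node .leaf (158363, 0, 16, 20864) .leaf))) (158366, 0, 17, 35013) (.node (.node (.node .leaf (158367, 0, 17, 26787) .leaf) (158368, 0, 13, 89734) (.node .leaf (158369, 0, 11, 153501) .leaf)) (158372, 0, 17, 205211) (.node (.node .leaf (158373, 0, 16, 159422) .leaf) (158378, 0, 12, 115270) (.node .leaf (158379, 0, 16, 1350) .leaf)))) (158382, 0, 17, 129893) (.node (.node (.node (.node .leaf (158383, 0, 12, 72451) .leaf) (158384, 0, 13, 206960) (.node .leaf (158385, 0, 15, 94558) .leaf)) (158388, 0, 16, 87917) (.node (.node .leaf (158389, 0, 16, 5867) .leaf) (158394, 0, 15, 10910)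 (.node .leaf (158395, 0, 15, 219765) .leaf))) (158398, 0, 15, 230192) (.node (.node (.node .leaf (158399, 0, 18, 222038) .leaf) (158402, 0, 15, 231085) (.node .leaf (158403, 0, 18, 117338) .leaf)) (158406, 0, 17, 126057) (.node (.node .leaf (158407, 0, 14, 243015) .leaf) (158408, 0, 14, 37274) .leaf)))))

/-- part of the orbit tree -/
def itp4_421 : Tree := (.node itp4_417 (158028, 0, 14, 113697) itp4_418)

/-- part of the orbit tree -/
def itp4_422 : Tree := (.node itp4_419 (158286, 0, 15, 177820) itp4_420)

/-- part of the orbit tree -/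
def itp4_423 : Tree := (.node itp4_415 (157642, 0, 17, 54976) itp4_416)

/-- part of the orbit tree -/
def itp4_424 : Tree := (.node itp4_421 (158157, 0, 15, 238673) itp4_422)

/-- part of the orbit tree -/
def itp4_425 : Tree := (.node (.node (.node (.node (.node (.node .leaf (158412, 0, 15, 51763) .leaf) (158413, 0, 15, 10837) (.node .leaf (158418, 0, 18, 124290) .leaf)) (158419, 0, 15, 244908) (.node (.node .leaf (158422, 0, 16, 236191) .leaf) (158423, 0, 17, 75709) (.node .leaf (158424, 0, 17, 166725) .leaf))) (158425, 0, 16, 48706) (.node (.node (.node .leaf (158428, 0, 17, 39025) .leaf) (158429, 0, 18, 180575) (.node .leaf (158434, 0, 15, 192126) .leaf)) (158435, 0, 18, 46928) (.node (.node .leaf (158438, 0, 14, 37219) .leaf) (158439, 0, 13, 182349) (.node .leaf (158440, 0, 16, 126096) .leaf)))) (158441, 0, 13, 243134) (.node (.node (.node (.node .leaf (158444, 0, 18, 246214) .leaf) (158445, 0, 18, 117411) (.node .leaf (158450, 0, 18, 39048) .leaf)) (158451, 0, 16, 180646) (.node (.node .leaf (158454, 0, 18, 190357) .leaf)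 (158455, 0, 14, 142408) (.node .leaf (158456, 0, 18, 98480) .leaf))) (158457, 0, 18, 115528) (.node (.node (.node .leaf (158460, 0, 17, 124283) .leaf) (158461, 0, 10, 244821) (.node .leaf (158466, 0, 15, 121173) .leaf)) (158467, 0, 18, 181594) (.node (.node .leaf (158470, 0, 17, 122998) .leaf) (158471, 0, 14, 47687) (.node .leaf (158472, 0, 13, 175336) .leaf))))) (158473, 0, 18, 116660) (.node (.node (.node (.node (.node .leaf (158476, 0, 15, 123271) .leaf) (158477, 0, 11, 243881) (.node .leaf (158482, 0, 17, 191106) .leaf)) (158483, 0, 17, 213350) (.node (.node .leaf (158486, 0, 17, 38303) .leaf) (158487, 0, 18, 227397) (.node .leaf (158488, 0, 16, 125036) .leaf))) (158489, 0, 17, 13531) (.node (.node (.node .leaf (158492, 0, 17, 235377) .leaf) (158493, 0, 16, 118367) (.node .leaf (158498, 0, 17, 123262) .leaf)) (158499, 0, 16, 243792) (.node (.node .leaf (158502, 0, 14, 237155) .leaf) (158503, 0, 13, 116557) (.node .leaf (158504, 0, 14, 189328) .leaf)))) (158505, 0, 18, 83835) (.node (.node (.node (.node .leaf (158508, 0,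 18, 40077) .leaf) (158509, 0, 16, 181667) (.node .leaf (158514, 0, 19, 43765) .leaf)) (158515, 0, 18, 19091) (.node (.node .leaf (158518, 0, 16, 125077) .leaf) (158519, 0, 16, 242107) (.node .leaf (158520, 0, 17, 38246) .leaf))) (158521, 0, 17, 212782) (.node (.node (.node .leaf (158524, 0, 13, 191099) .leaf) (158525, 0, 13, 45909) (.node .leaf (158528, 0, 16, 208012) .leaf)) (158529, 0, 16, 95650) (.node (.node .leaf (158532, 0, 17, 86929) .leaf) (158533, 0, 14, 199359) (.node .leaf (158538, 0, 17, 11874) .leaf))))))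

/-- part of the orbit tree -/
def itp4_426 : Tree := (.node (.node (.node (.node (.node (.node .leaf (158542, 0, 16, 44904) .leaf) (158543, 0, 15, 2129) (.node .leaf (158544, 0, 11, 88698) .leaf)) (158545, 0, 16, 97221) (.node (.node .leaf (158548, 0, 15, 107136) .leaf) (158549, 0, 15, 82662) (.node .leaf (158554, 0, 17, 153748) .leaf))) (158555, 0, 15, 442) (.node (.node (.node .leaf (158558, 0, 13, 10121) .leaf) (158559, 0, 16, 145243) (.node .leaf (158560, 0, 15, 151942) .leaf)) (158561, 0, 12, 2149) (.node (.node .leaf (158564, 0, 15, 53536) .leaf) (158565, 0, 17, 12614) (.node .leaf (158570, 0, 13, 236990) .leaf)))) (158571, 0, 17, 228824) (.node (.node (.node (.node .leaf (158574, 0, 17, 207989) .leaf) (158575, 0, 14, 214267) (.node .leaf (158576, 0, 14, 10096) .leaf)) (158577, 0, 13, 163422) (.node (.node .leaf (158580, 0, 17, 174453) .leaf) (158581, 0, 13, 323) (.node .leaf (158586, 0, 17, 206238) .leaf))) (158587, 0, 18, 66957) (.node (.node (.node .leaf (158590, 0, 16, 122056) .leaf) (158591, 0, 14, 197549) (.node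 .leaf (158592, 0, 12, 138874) .leaf)) (158593, 0, 13, 171329) (.node (.node .leaf (158596, 0, 15, 179058) .leaf) (158597, 0, 15, 57948) (.node .leaf (158602, 0, 18, 93127) .leaf))))) (158603, 0, 14, 101281) (.node (.node (.node (.node (.node .leaf (158606, 0, 18, 113052) .leaf) (158607, 0, 17, 111234) (.node .leaf (158608, 0, 16, 176793) .leaf)) (158609, 0, 17, 60343) (.node (.node .leaf (158612, 0, 16, 24332) .leaf) (158613, 0, 17, 49002) (.node .leaf (158618, 0, 17, 201618) .leaf))) (158619, 0, 19, 259060) (.node (.node (.node .leaf (158622, 0, 17, 249706) .leaf) (158623, 0, 16, 104004) (.node .leaf (158624, 0, 15, 71055) .leaf)) (158625, 0, 17, 254027) (.node (.node .leaf (158628, 0, 12, 247416) .leaf) (158629, 0, 16, 117962) (.node .leaf (158634, 0, 15, 155698) .leaf)))) (158635, 0, 17, 163924) (.node (.node (.node (.node .leaf (158638, 0, 16, 153873) .leaf) (158639, 0, 18, 178551) (.node .leaf (158640, 0, 17, 224730) .leaf)) (158641, 0, 16, 232892) (.node (.node .leaf (158644, 0, 16, 110734) .leaf) (158645, 0, 17, 256416)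 (.node .leaf (158650, 0, 15, 52605) .leaf))) (158651, 0, 16, 63489) (.node (.node (.node .leaf (158654, 0, 14, 8516) .leaf) (158655, 0, 13, 49442) (.node .leaf (158658, 0, 16, 226455) .leaf)) (158659, 0, 15, 77241) (.node (.node .leaf (158662, 0, 15, 68490) .leaf) (158663, 0, 15, 64924) (.node .leaf (158664, 0, 14, 30329) .leaf))))))

/-- part of the orbit tree -/
def itp4_427 : Tree := (.node (.node (.node (.node (.node (.node .leaf (158668, 0, 16, 223303) .leaf) (158669, 0, 14, 231457) (.node .leaf (158674, 0, 17, 154764) .leaf)) (158675, 0, 17, 219983) (.node (.node .leaf (158678, 0, 16, 228732) .leaf) (158679, 0, 15, 165321) (.node .leaf (158680, 0, 15, 76081) .leaf))) (158681, 0, 14, 117079) (.node (.node (.node .leaf (158684, 0, 16, 69650) .leaf) (158685, 0, 19, 127092) (.node .leaf (158690, 0, 8, 208684) .leaf)) (158691, 0, 16, 20659) (.node (.node .leaf (158694, 0, 15, 202255) .leaf) (158695, 0, 16, 143278) (.node .leaf (158696, 0, 17, 23185) .leaf)))) (158697, 0, 16, 47863) (.node (.node (.node (.node .leaf (158700,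 0, 17, 226414) .leaf) (158701, 0, 15, 33748) (.node .leaf (158706, 0, 15, 32619) .leaf)) (158707, 0, 17, 140869) (.node (.node .leaf (158710, 0, 16, 93786) .leaf) (158711, 0, 16, 101948) (.node .leaf (158712, 0, 16, 228741) .leaf))) (158713, 0, 18, 74923) (.node (.node (.node .leaf (158716, 0, 13, 138215) .leaf) (158717, 0, 12, 195457) (.node .leaf (158721, 0, 16, 180755) .leaf)) (158723, 0, 16, 76385) (.node (.node .leaf (158725, 0, 14, 181401) .leaf) (158727, 0, 17, 234684) (.node .leaf (158728, 0, 15, 14404) .leaf))))) (158730, 0, 17, 235987) (.node (.node (.node (.node (.node .leaf (158732, 0, 18, 359) .leaf) (158734, 0, 15, 86338) (.node .leaf (158737, 0, 17, 46309) .leaf)) (158739, 0, 16, 120266) (.node (.node .leaf (158741, 0, 15, 183288) .leaf) (158743, 0, 15, 126185) (.node .leaf (158744, 0, 18, 147473) .leaf))) (158746, 0, 17, 126757) (.node (.node (.node .leaf (158748, 0, 17, 162098) .leaf) (158750, 0, 17, 233528) (.node .leaf (158753, 0, 15, 245529) .leaf)) (158755, 0, 17, 22379) (.node (.node .leaf (158757, 0,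 16, 118636) .leaf) (158759, 0, 16, 40777) (.node .leaf (158760, 0, 16, 209841) .leaf)))) (158762, 0, 16, 189657) (.node (.node (.node (.node .leaf (158764, 0, 16, 226230) .leaf) (158766, 0, 14, 154295) (.node .leaf (158769, 0, 17, 117231) .leaf)) (158771, 0, 16, 139677) (.node (.node .leaf (158773, 0, 15, 243442) .leaf) (158775, 0, 15, 24192) (.node .leaf (158776, 0, 16, 227933) .leaf))) (158778, 0, 18, 7105) (.node (.node (.node .leaf (158780, 0, 13, 66880) .leaf) (158782, 0, 17, 8930) (.node .leaf (158784, 0, 16, 96090) .leaf)) (158786, 0, 16, 207813) (.node (.node .leaf (158788, 0, 16, 85625) .leaf) (158790, 0, 16, 87256) (.node .leaf (158793, 0, 15, 159749) .leaf))))))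

/-- part of the orbit tree -/
def itp4_428 : Tree := (.node (.node (.node (.node (.node (.node .leaf (158797, 0, 17, 3864) .leaf) (158799, 0, 16, 187298) (.node .leaf (158800, 0, 15, 177473) .leaf)) (158802, 0, 17, 89395) (.node (.node .leaf (158804, 0, 16, 210476) .leaf) (158806, 0, 17, 205358) (.node .leaf (158809, 0, 17, 1779) .leaf))) (158811, 0, 12, 257665) (.node (.node (.node .leaf (158813, 0, 9, 127954) .leaf) (158815, 0, 16, 102812) (.node .leaf (158816, 0, 14, 162991) .leaf)) (158818, 0, 17, 208010) (.node (.node .leaf (158820, 0, 14, 148876) .leaf) (158822, 0, 16, 10706) (.node .leaf (158825, 0, 16, 199951) .leaf)))) (158827, 0, 15, 58749) (.node (.node (.node (.node .leaf (158829, 0, 14, 94738) .leaf) (158831, 0, 19, 170592) (.node .leaf (158832, 0, 17, 247883) .leaf)) (158834, 0, 18, 87263) (.node (.node .leaf (158836, 0, 15, 112470) .leaf) (158838, 0, 18, 155428) (.node .leaf (158841, 0, 17, 97273) .leaf))) (158843, 0, 14, 168843) (.node (.node (.node .leaf (158845, 0, 16, 194599) .leaf) (158847, 0, 16, 60566)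 (.node .leaf (158848, 0, 14, 207700) .leaf)) (158850, 0, 16, 121587) (.node (.node .leaf (158852, 0, 17, 87113) .leaf) (158854, 0, 13, 123856) (.node .leaf (158857, 0, 15, 151336) .leaf))))) (158859, 0, 17, 204557) (.node (.node (.node (.node (.node .leaf (158861, 0, 14, 255995) .leaf) (158863, 0, 16, 206382) (.node .leaf (158864, 0, 10, 193155) .leaf)) (158866, 0, 15, 238246) (.node (.node .leaf (158868, 0, 16, 205503) .leaf) (158870, 0, 17, 51917) (.node .leaf (158873, 0, 16, 257552) .leaf))) (158875, 0, 18, 1634) (.node (.node (.node .leaf (158877, 0, 16, 3678) .leaf) (158879, 0, 15, 162175) (.node .leaf (158880, 0, 15, 229667) .leaf)) (158882, 0, 16, 184582) (.node (.node .leaf (158884, 0, 10, 243712) .leaf) (158886, 0, 17, 190501) (.node .leaf (158889, 0, 18, 83165) .leaf)))) (158891, 0, 17, 200094) (.node (.node (.node (.node .leaf (158893, 0, 18, 97790) .leaf) (158895, 0, 17, 94851) (.node .leaf (158896, 0, 15, 8360) .leaf)) (158898, 0, 16, 248026) (.node (.node .leaf (158900, 0, 15, 155573) .leaf) (158902, 0, 16, 112583)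 (.node .leaf (158905, 0, 15, 212104) .leaf))) (158907, 0, 18, 97128) (.node (.node (.node .leaf (158909, 0, 15, 198059) .leaf) (158911, 0, 12, 197749) (.node .leaf (158913, 0, 17, 196662) .leaf)) (158915, 0, 18, 151571) (.node (.node .leaf (158917, 0, 18, 218605) .leaf) (158919, 0, 16, 48543) (.node .leaf (158920, 0, 14, 235842) .leaf))))))

/-- part of the orbit tree -/
def itp4_429 : Tree := (.node itp4_425 (158539, 0, 15, 161612) itp4_426)

/-- part of the orbit tree -/
def itp4_430 : Tree := (.node itp4_427 (158795, 0, 17, 189057) itp4_428)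

/-- part of the orbit tree -/
def itp4_431 : Tree := (.node (.node (.node (.node (.node (.node .leaf (158924, 0, 12, 124511) .leaf) (158926, 0, 18, 134701) (.node .leaf (158929, 0, 15, 96355) .leaf)) (158931, 0, 17, 46196) (.node (.node .leaf (158933, 0, 15, 82240) .leaf) (158935, 0, 17, 4453) (.node .leaf (158936, 0, 18, 126900) .leaf))) (158938, 0, 17, 191928) (.node (.node (.node .leaf (158940, 0, 16, 233641) .leaf) (158942, 0, 18, 30939) (.node .leaf (158945, 0, 18, 22522) .leaf)) (158947, 0, 15, 89062) (.node (.node .leaf (158949, 0, 14, 141543) .leaf) (158951, 0, 16, 114837) (.node .leaf (158952, 0, 14, 189512) .leaf)))) (158954, 0, 15, 237080) (.node (.node (.node (.node .leaf (158956, 0, 15, 39765) .leaf) (158958, 0, 16, 226087) (.node .leaf (158961, 0, 15, 160662) .leaf)) (158963, 0, 14, 205747) (.node (.node .leaf (158965, 0, 16, 24081) .leaf) (158967, 0, 16, 203408) (.node .leaf (158968, 0, 17, 37566) .leaf))) (158970, 0, 16, 228044) (.node (.node (.node .leaf (158972, 0, 17, 36683) .leaf) (158974, 0, 17, 122734)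 (.node .leaf (158977, 0, 17, 90062) .leaf)) (158979, 0, 15, 118146) (.node (.node .leaf (158981, 0, 17, 23277) .leaf) (158983, 0, 11, 14024) (.node .leaf (158984, 0, 16, 38466) .leaf))))) (158986, 0, 14, 228912) (.node (.node (.node (.node (.node .leaf (158988, 0, 17, 190815) .leaf) (158990, 0, 12, 65837) (.node .leaf (158993, 0, 15, 21254) .leaf)) (158995, 0, 14, 244596) (.node (.node .leaf (158997, 0, 17, 142363) .leaf) (158999, 0, 17, 151197) (.node .leaf (159000, 0, 14, 123493) .leaf))) (159002, 0, 14, 45632) (.node (.node (.node .leaf (159004, 0, 17, 121670) .leaf) (159006, 0, 16, 35683) (.node .leaf (159009, 0, 14, 152635) .leaf)) (159011, 0, 13, 45192) (.node (.node .leaf (159013, 0, 14, 75751) .leaf) (159015, 0, 16, 212285) (.node .leaf (159016, 0, 16, 37317) .leaf)))) (159018, 0, 15, 131898) (.node (.node (.node (.node .leaf (159020, 0, 16, 234581) .leaf) (159022, 0, 17, 129219) (.node .leaf (159025, 0, 13, 11374) .leaf)) (159027, 0, 16, 181886) (.node (.node .leaf (159029, 0, 12, 217361) .leaf) (159031, 0, 17, 83304)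 (.node .leaf (159032, 0, 13, 236990) .leaf))) (159034, 0, 15, 30156) (.node (.node (.node .leaf (159036, 0, 17, 184499) .leaf) (159038, 0, 15, 133841) (.node .leaf (159040, 0, 16, 9300) .leaf)) (159042, 0, 16, 230667) (.node (.node .leaf (159044, 0, 16, 191501) .leaf) (159046, 0, 17, 244776) (.node .leaf (159049, 0, 13, 4304) .leaf))))))

/-- part of the orbit tree -/
def itp4_432 : Tree := (.node (.node (.node (.node (.node (.node .leaf (159053, 0, 14, 10739) .leaf) (159055, 0, 17, 96726) (.node .leaf (159056, 0, 15, 44411) .leaf)) (159058, 0, 19, 130398) (.node (.node .leaf (159060, 0, 16, 11711) .leaf) (159062, 0, 14, 247245) (.node .leaf (159065, 0, 11, 157829) .leaf))) (159067, 0, 18, 211104) (.node (.node (.node .leaf (159069, 0, 16, 151974) .leaf) (159071, 0, 15, 196995) (.node .leaf (159072, 0, 17, 88414) .leaf)) (159074, 0, 16, 176428) (.node (.node .leaf (159076, 0, 16, 206403) .leaf) (159078, 0, 15, 47069) (.node .leaf (159081, 0, 15, 203557) .leaf)))) (159083, 0, 15, 150272) (.node (.node (.node (.node .leaf (159085,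 0, 16, 205318) .leaf) (159087, 0, 17, 163203) (.node .leaf (159088, 0, 12, 208808) .leaf)) (159090, 0, 12, 51162) (.node (.node .leaf (159092, 0, 16, 86197) .leaf) (159094, 0, 14, 178375) (.node .leaf (159097, 0, 13, 105498) .leaf))) (159099, 0, 13, 160872) (.node (.node (.node .leaf (159101, 0, 17, 254727) .leaf) (159103, 0, 17, 2933) (.node .leaf (159104, 0, 18, 249015) .leaf)) (159106, 0, 17, 9413) (.node (.node .leaf (159108, 0, 15, 111530) .leaf) (159110, 0, 14, 147876) (.node .leaf (159113, 0, 17, 126300) .leaf))))) (159115, 0, 17, 169847) (.node (.node (.node (.node (.node .leaf (159117, 0, 15, 196632) .leaf) (159119, 0, 12, 59498) (.node .leaf (159120, 0, 16, 113217) .leaf)) (159122, 0, 16, 152115) (.node (.node .leaf (159124, 0, 17, 92628) .leaf) (159126, 0, 15, 14833) (.node .leaf (159129, 0, 17, 234761) .leaf))) (159131, 0, 18, 57729) (.node (.node (.node .leaf (159133, 0, 13, 95982) .leaf) (159135, 0, 17, 195599) (.node .leaf (159136, 0, 18, 9047) .leaf)) (159138, 0, 15, 88527) (.node (.node .leaf (159140, 0, 17,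 52896) .leaf) (159142, 0, 17, 206546) (.node .leaf (159145, 0, 13, 527) .leaf)))) (159147, 0, 16, 256637) (.node (.node (.node (.node .leaf (159149, 0, 17, 163090) .leaf) (159151, 0, 16, 233391) (.node .leaf (159152, 0, 11, 154370) .leaf)) (159154, 0, 16, 208697) (.node (.node .leaf (159156, 0, 17, 156193) .leaf) (159158, 0, 15, 86052) (.node .leaf (159161, 0, 16, 161017) .leaf))) (159163, 0, 16, 118489) (.node (.node (.node .leaf (159165, 0, 14, 42975) .leaf) (159167, 0, 16, 254870) (.node .leaf (159169, 0, 13, 118035) .leaf)) (159171, 0, 14, 127591) (.node (.node .leaf (159173, 0, 10, 242190) .leaf) (159175, 0, 14, 117572) (.node .leaf (159176, 0, 16, 229025) .leaf))))))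

/-- part of the orbit tree -/
def itp4_433 : Tree := (.node (.node (.node (.node (.node (.node .leaf (159180, 0, 17, 65980) .leaf) (159182, 0, 16, 190926) (.node .leaf (159185, 0, 18, 244709) .leaf)) (159187, 0, 17, 21399) (.node (.node .leaf (159189, 0, 17, 115960) .leaf) (159191, 0, 15, 142474) (.node .leaf (159192, 0, 16, 67671) .leaf))) (159194, 0, 17, 85964) (.node (.node (.node .leaf (159196, 0, 18, 227146) .leaf) (159198, 0, 17, 40760) (.node .leaf (159201, 0, 13, 45081) .leaf)) (159203, 0, 18, 219243) (.node (.node .leaf (159205, 0, 14, 233620) .leaf) (159207, 0, 15, 180401) (.node .leaf (159208, 0, 16, 132011) .leaf)))) (159210, 0, 12, 15468) (.node (.node (.node (.node .leaf (159212, 0, 15, 31926) .leaf) (159214, 0, 17, 1359) (.node .leaf (159217, 0, 15, 119266) .leaf)) (159219, 0, 11, 77469) (.node (.node .leaf (159221, 0, 17, 125121) .leaf) (159223, 0, 15, 217472) (.node .leaf (159224, 0, 11, 201756) .leaf))) (159226, 0, 18, 148537) (.node (.node (.node .leaf (159228, 0, 16, 208191) .leaf) (159230, 0, 15, 123442)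 (.node .leaf (159232, 0, 18, 40465) .leaf)) (159233, 0, 16, 182079) (.node (.node .leaf (159234, 0, 16, 221577) .leaf) (159235, 0, 14, 77645) (.node .leaf (159236, 0, 15, 133263) .leaf))))) (159237, 0, 18, 47138) (.node (.node (.node (.node (.node .leaf (159238, 0, 18, 219306) .leaf) (159239, 0, 16, 243916) (.node .leaf (159248, 0, 17, 18937) .leaf)) (159249, 0, 16, 43423) (.node (.node .leaf (159250, 0, 17, 65685) .leaf) (159251, 0, 17, 219579) (.node .leaf (159252, 0, 14, 38906) .leaf))) (159253, 0, 15, 184020) (.node (.node (.node .leaf (159254, 0, 18, 229256) .leaf) (159255, 0, 15, 114841) (.node .leaf (159264, 0, 17, 80473) .leaf)) (159265, 0, 16, 121407) (.node (.node .leaf (159266, 0, 17, 133993) .leaf) (159267, 0, 17, 21063) (.node .leaf (159268, 0, 14, 66426) .leaf)))) (159269, 0, 17, 123676) (.node (.node (.node (.node .leaf (159270, 0, 15, 29812) .leaf) (159271, 0, 18, 45881) (.node .leaf (159280, 0, 17, 234989) .leaf)) (159281, 0, 14, 117955) (.node (.node .leaf (159282, 0, 17, 135721) .leaf) (159283, 0, 17, 140465)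 (.node .leaf (159284, 0, 14, 228143) .leaf))) (159285, 0, 17, 242654) (.node (.node (.node .leaf (159286, 0, 17, 142090) .leaf) (159287, 0, 13, 183148) (.node .leaf (159304, 0, 16, 229042) .leaf)) (159305, 0, 16, 237268) (.node (.node .leaf (159306, 0, 14, 142999) .leaf) (159307, 0, 17, 184049) (.node .leaf (159308, 0, 17, 214929) .leaf))))))

/-- part of the orbit tree -/
def itp4_434 : Tree := (.node (.node (.node (.node (.node (.node .leaf (159310, 0, 16, 137140) .leaf) (159311, 0, 14, 194514) (.node .leaf (159320, 0, 16, 154353) .leaf)) (159321, 0, 18, 991) (.node (.node .leaf (159322, 0, 18, 22210) .leaf) (159323, 0, 14, 256941) (.node .leaf (159324, 0, 17, 9708) .leaf))) (159325, 0, 17, 122786) (.node (.node (.node .leaf (159326, 0, 15, 28641) .leaf) (159327, 0, 18, 103600) (.node .leaf (159336, 0, 14, 86285) .leaf)) (159337, 0, 15, 38177) (.node (.node .leaf (159338, 0, 13, 178559) .leaf) (159339, 0, 17, 57425) (.node .leaf (159340, 0, 16, 208400) .leaf)))) (159341, 0, 16, 96062) (.node (.node (.node (.node .leaf (159342,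 0, 17, 50786) .leaf) (159343, 0, 17, 171852) (.node .leaf (159352, 0, 17, 206843) .leaf)) (159353, 0, 18, 191860) (.node (.node .leaf (159354, 0, 16, 220471) .leaf) (159355, 0, 14, 169639) (.node .leaf (159356, 0, 16, 144433) .leaf))) (159357, 0, 14, 197064) (.node (.node (.node .leaf (159358, 0, 16, 176276) .leaf) (159359, 0, 18, 59834) (.node .leaf (159368, 0, 17, 164670) .leaf)) (159369, 0, 13, 105930) (.node (.node .leaf (159370, 0, 16, 250651) .leaf) (159371, 0, 18, 209789) (.node .leaf (159372, 0, 15, 178717) .leaf))))) (159373, 0, 14, 154235) (.node (.node (.node (.node (.node .leaf (159374, 0, 14, 256568) .leaf) (159375, 0, 16, 199262) (.node .leaf (159384, 0, 16, 111122) .leaf)) (159385, 0, 18, 256828) (.node (.node .leaf (159386, 0, 14, 109390) .leaf) (159387, 0, 5, 84776) (.node .leaf (159388, 0, 12, 249103) .leaf))) (159389, 0, 17, 8750) (.node (.node (.node .leaf (159390, 0, 16, 103021) .leaf) (159391, 0, 17, 162899) (.node .leaf (159400, 0, 15, 178670) .leaf)) (159401, 0, 15, 92333) (.node (.node .leaf (159402,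 0, 16, 86428) .leaf) (159403, 0, 16, 14472) (.node .leaf (159404, 0, 17, 111080) .leaf)))) (159405, 0, 17, 86414) (.node (.node (.node (.node .leaf (159406, 0, 17, 208513) .leaf) (159407, 0, 17, 96175) (.node .leaf (159416, 0, 17, 53016) .leaf)) (159417, 0, 17, 200952) (.node (.node .leaf (159418, 0, 17, 206698) .leaf) (159419, 0, 17, 147677) (.node .leaf (159420, 0, 13, 176133) .leaf))) (159421, 0, 15, 59691) (.node (.node (.node .leaf (159422, 0, 15, 88183) .leaf) (159423, 0, 17, 196953) (.node .leaf (159424, 0, 15, 227058) .leaf)) (159425, 0, 15, 77788) (.node (.node .leaf (159426, 0, 17, 40576) .leaf) (159427, 0, 17, 182190) .leaf)))))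

/-- part of the orbit tree -/
def itp4_435 : Tree := (.node itp4_431 (159051, 0, 16, 82165) itp4_432)

/-- part of the orbit tree -/
def itp4_436 : Tree := (.node itp4_433 (159309, 0, 18, 2612) itp4_434)

/-- part of the orbit tree -/
def itp4_437 : Tree := (.node itp4_429 (158665, 0, 16, 241922) itp4_430)

/-- part of the orbit tree -/
def itp4_438 : Tree := (.node itp4_435 (159178, 0, 18, 38611) itp4_436)

/-- part of the orbit tree -/
def itp4_439 : Tree := (.node itp4_423 (157901, 0, 17, 1573) itp4_424)

/-- part of the orbit tree -/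
def itp4_440 : Tree := (.node itp4_437 (158922, 0, 17, 38381) itp4_438)

/-- part of the orbit tree -/
def itp4_441 : Tree := (.node itp4_409 (156365, 0, 14, 152649) itp4_410)

/-- part of the orbit tree -/
def itp4_442 : Tree := (.node itp4_439 (158409, 0, 15, 4982) itp4_440)

/-- part of the orbit tree -/
def itp4_443 : Tree := (.node (.node (.node (.node (.node (.node .leaf (159429, 0, 18, 217281) .leaf) (159430, 0, 17, 188829) (.node .leaf (159431, 0, 18, 47283) .leaf)) (159440, 0, 18, 111733) (.node (.node .leaf (159441, 0, 18, 219434) .leaf) (159442, 0, 16, 58448) (.node .leaf (159443, 0, 14, 45400) .leaf))) (159444, 0, 18, 101718) (.node (.node (.node .leaf (159445, 0, 13, 75319) .leaf) (159446, 0, 16, 38763) (.node .leaf (159447, 0, 17, 183877) .leaf)) (159456, 0, 16, 134136) (.node (.node .leaf (159457, 0, 15, 21206) .leaf) (159458, 0, 17, 104432) (.node .leaf (159459, 0, 15, 244388) .leaf)))) (159460, 0, 18, 65270) (.node (.node (.node (.node .leaf (159461, 0, 18, 7824) .leaf) (159462, 0, 16, 236695) (.node .leaf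 (159463, 0, 17, 85685) .leaf)) (159472, 0, 16, 180096) (.node (.node .leaf (159473, 0, 17, 140320) .leaf) (159474, 0, 17, 234876) (.node .leaf (159475, 0, 17, 200643) .leaf))) (159476, 0, 13, 165539) (.node (.node (.node .leaf (159477, 0, 10, 157381) .leaf) (159478, 0, 18, 125537) (.node .leaf (159479, 0, 16, 242511) .leaf)) (159488, 0, 17, 103384) (.node (.node .leaf (159489, 0, 17, 95166) .leaf) (159490, 0, 15, 50173) (.node .leaf (159491, 0, 17, 116910) .leaf))))) (159492, 0, 16, 132847) (.node (.node (.node (.node (.node .leaf (159493, 0, 16, 84637) .leaf) (159494, 0, 13, 126621) (.node .leaf (159495, 0, 16, 243635) .leaf)) (159504, 0, 9, 256909) (.node (.node .leaf (159505, 0, 18, 199659) .leaf) (159506, 0, 15, 179112) (.node .leaf (159507, 0, 15, 154574) .leaf))) (159508, 0, 16, 250542) (.node (.node (.node .leaf (159509, 0, 10, 209608) .leaf) (159510, 0, 14, 235627) (.node .leaf (159511, 0, 19, 156397) .leaf)) (159520, 0, 10, 170029) (.node (.node .leaf (159521, 0, 17, 161867) .leaf) (159522, 0, 17, 191626) (.node .leaf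 (159523, 0, 16, 46500) .leaf)))) (159524, 0, 17, 172302) (.node (.node (.node (.node .leaf (159525, 0, 17, 74443) .leaf) (159526, 0, 16, 258347) (.node .leaf (159527, 0, 18, 182969) .leaf)) (159536, 0, 16, 57464) (.node (.node .leaf (159537, 0, 13, 76576) .leaf) (159538, 0, 17, 39548) (.node .leaf (159539, 0, 18, 86075) .leaf))) (159540, 0, 15, 55643) (.node (.node (.node .leaf (159541, 0, 17, 218173) .leaf) (159542, 0, 18, 100734) (.node .leaf (159543, 0, 16, 48207) .leaf)) (159560, 0, 15, 52196) (.node (.node .leaf (159561, 0, 19, 15520) .leaf) (159562, 0, 16, 205718) (.node .leaf (159563, 0, 15, 93317) .leaf))))))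

/-- part of the orbit tree -/
def itp4_444 : Tree := (.node (.node (.node (.node (.node (.node .leaf (159565, 0, 15, 60887) .leaf) (159566, 0, 16, 89227) (.node .leaf (159567, 0, 15, 87462) .leaf)) (159576, 0, 16, 173203) (.node (.node .leaf (159577, 0, 18, 58428) .leaf) (159578, 0, 17, 87392) (.node .leaf (159579, 0, 15, 199758) .leaf))) (159580, 0, 17, 171440) (.node (.node (.node .leaf (159581, 0, 15, 163286) .leaf) (159582, 0, 14, 249237) (.node .leaf (159583, 0, 18, 95059) .leaf)) (159592, 0, 19, 112366) (.node (.node .leaf (159593, 0, 18, 257984) .leaf) (159594, 0, 17, 155292) (.node .leaf (159595, 0, 16, 1970) .leaf)))) (159596, 0, 14, 248307) (.node (.node (.node (.node .leaf (159597, 0, 15, 102621) .leaf) (159598, 0, 15, 8577) (.node .leaf (159599, 0, 14, 161967) .leaf)) (159608, 0, 17, 245784) (.node (.node .leaf (159609, 0, 14, 104758) .leaf) (159610, 0, 17, 10346) (.node .leaf (159611, 0, 16, 160068) .leaf))) (159612, 0, 16, 114437) (.node (.node (.node .leaf (159613, 0, 15, 95779) .leaf) (159614, 0, 15, 153463)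 (.node .leaf (159615, 0, 15, 9734) .leaf)) (159624, 0, 17, 205575) (.node (.node .leaf (159625, 0, 12, 114988) .leaf) (159626, 0, 16, 52085) (.node .leaf (159627, 0, 8, 37129) .leaf))))) (159628, 0, 15, 89114) (.node (.node (.node (.node (.node .leaf (159629, 0, 16, 197940) .leaf) (159630, 0, 18, 177256) (.node .leaf (159631, 0, 18, 43050) .leaf)) (159640, 0, 16, 219423) (.node (.node .leaf (159641, 0, 16, 244089) .leaf) (159642, 0, 17, 133434) (.node .leaf (159643, 0, 17, 58541) .leaf))) (159644, 0, 17, 207596) (.node (.node (.node .leaf (159645, 0, 17, 229466) .leaf) (159646, 0, 17, 49822) (.node .leaf (159647, 0, 17, 170928) .leaf)) (159656, 0, 17, 142015) (.node (.node .leaf (159657, 0, 16, 1827) .leaf) (159658, 0, 17, 112255) (.node .leaf (159659, 0, 18, 236284) .leaf)))) (159660, 0, 11, 8464) (.node (.node (.node (.node .leaf (159661, 0, 17, 161854) .leaf) (159662, 0, 14, 213945) (.node .leaf (159663, 0, 17, 238559) .leaf)) (159672, 0, 17, 10491) (.node (.node .leaf (159673, 0, 13, 45708) .leaf) (159674, 0, 15, 245897)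 (.node .leaf (159675, 0, 16, 104871) .leaf))) (159676, 0, 15, 27593) (.node (.node (.node .leaf (159677, 0, 17, 3784) .leaf) (159678, 0, 15, 114580) (.node .leaf (159679, 0, 16, 121738) .leaf)) (159680, 0, 18, 28244) (.node (.node .leaf (159681, 0, 18, 36402) .leaf) (159682, 0, 14, 31075) (.node .leaf (159683, 0, 18, 122391) .leaf))))))

/-- part of the orbit tree -/
def itp4_445 : Tree := (.node (.node (.node (.node (.node (.node .leaf (159685, 0, 18, 243490) .leaf) (159686, 0, 16, 132734) (.node .leaf (159687, 0, 12, 124724) .leaf)) (159696, 0, 16, 124903) (.node (.node .leaf (159697, 0, 14, 245449) .leaf) (159698, 0, 16, 214564) (.node .leaf (159699, 0, 14, 22203) .leaf))) (159700, 0, 17, 235770) (.node (.node (.node .leaf (159701, 0, 16, 115156) .leaf) (159702, 0, 15, 229127) (.node .leaf (159703, 0, 17, 237409) .leaf)) (159712, 0, 16, 191515) (.node (.node .leaf (159713, 0, 16, 230855) .leaf) (159714, 0, 16, 66665) (.node .leaf (159715, 0, 17, 185826) .leaf)))) (159716, 0, 16, 37638) (.node (.node (.node (.node .leaf (159717,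 0, 16, 182824) .leaf) (159718, 0, 14, 134311) (.node .leaf (159719, 0, 17, 191681) .leaf)) (159728, 0, 18, 39661) (.node (.node .leaf (159729, 0, 14, 181187) .leaf) (159730, 0, 15, 19921) (.node .leaf (159731, 0, 16, 44471) .leaf))) (159732, 0, 17, 74967) (.node (.node (.node .leaf (159733, 0, 11, 115889) .leaf) (159734, 0, 14, 29938) (.node .leaf (159735, 0, 14, 38036) .leaf)) (159744, 0, 18, 131459) (.node (.node .leaf (159747, 0, 14, 121913) .leaf) (159749, 0, 14, 141232) (.node .leaf (159750, 0, 14, 66940) .leaf))))) (159752, 0, 17, 191263) (.node (.node (.node (.node (.node .leaf (159755, 0, 13, 219715) .leaf) (159757, 0, 15, 183596) (.node .leaf (159758, 0, 18, 205028) .leaf)) (159760, 0, 11, 136239) (.node (.node .leaf (159763, 0, 13, 238700) .leaf) (159765, 0, 10, 20806) (.node .leaf (159766, 0, 16, 122906) .leaf))) (159768, 0, 16, 40425) (.node (.node (.node .leaf (159771, 0, 17, 98804) .leaf) (159773, 0, 15, 59634) (.node .leaf (159774, 0, 17, 88241) .leaf)) (159776, 0, 15, 228489) (.node (.node .leaf (159779, 0,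 16, 186316) .leaf) (159781, 0, 14, 245450) (.node .leaf (159782, 0, 18, 134793) .leaf)))) (159784, 0, 12, 82455) (.node (.node (.node (.node .leaf (159787, 0, 17, 62036) .leaf) (159789, 0, 17, 241702) (.node .leaf (159790, 0, 18, 131450) .leaf)) (159792, 0, 17, 73690) (.node (.node .leaf (159795, 0, 15, 47907) .leaf) (159797, 0, 13, 76876) (.node .leaf (159798, 0, 16, 40208) .leaf))) (159800, 0, 17, 211522) (.node (.node (.node .leaf (159803, 0, 16, 166401) .leaf) (159805, 0, 17, 116432) (.node .leaf (159806, 0, 17, 152388) .leaf)) (159809, 0, 18, 255642) (.node (.node .leaf (159810, 0, 19, 110971) .leaf) (159812, 0, 15, 9748) (.node .leaf (159815, 0, 11, 104264) .leaf))))))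

/-- part of the orbit tree -/
def itp4_446 : Tree := (.node (.node (.node (.node (.node (.node .leaf (159818, 0, 18, 89063) .leaf) (159820, 0, 17, 52360) (.node .leaf (159823, 0, 13, 97748) .leaf)) (159825, 0, 18, 106191) (.node (.node .leaf (159826, 0, 15, 11916) .leaf) (159828, 0, 17, 151778) (.node .leaf (159831, 0, 12, 63433) .leaf))) (159833, 0, 15, 171085) (.node (.node (.node .leaf (159834, 0, 14, 133908) .leaf) (159836, 0, 14, 178814) (.node .leaf (159839, 0, 18, 199458) .leaf)) (159841, 0, 18, 97581) (.node (.node .leaf (159842, 0, 15, 52337) .leaf) (159844, 0, 14, 13354) (.node .leaf (159847, 0, 16, 59970) .leaf)))) (159849, 0, 15, 104369) (.node (.node (.node (.node .leaf (159850, 0, 15, 9965) .leaf) (159852, 0, 16, 135602) (.node .leaf (159855, 0, 16, 238065) .leaf)) (159857, 0, 17, 169274) (.node (.node .leaf (159858, 0, 13, 206201) .leaf) (159860, 0, 17, 150655) (.node .leaf (159863, 0, 15, 261180) .leaf))) (159865, 0, 16, 45218) (.node (.node (.node .leaf (159866, 0, 16, 151579) .leaf) (159868, 0, 16, 27111)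 (.node .leaf (159871, 0, 17, 161320) .leaf)) (159873, 0, 15, 138006) (.node (.node .leaf (159874, 0, 11, 154008) .leaf) (159876, 0, 16, 249591) (.node .leaf (159879, 0, 14, 163755) .leaf))))) (159881, 0, 18, 197208) (.node (.node (.node (.node (.node .leaf (159882, 0, 12, 176900) .leaf) (159884, 0, 16, 205931) (.node .leaf (159887, 0, 18, 87944) .leaf)) (159889, 0, 18, 25411) (.node (.node .leaf (159890, 0, 18, 119552) .leaf) (159892, 0, 16, 47622) (.node .leaf (159895, 0, 10, 2397) .leaf))) (159897, 0, 14, 95406) (.node (.node (.node .leaf (159898, 0, 17, 259736) .leaf) (159900, 0, 15, 86685) (.node .leaf (159903, 0, 16, 208861) .leaf)) (159905, 0, 12, 169422) (.node (.node .leaf (159906, 0, 18, 41120) .leaf) (159908, 0, 16, 117158) (.node .leaf (159911, 0, 16, 31205) .leaf)))) (159913, 0, 14, 163666) (.node (.node (.node (.node .leaf (159914, 0, 15, 249358) .leaf) (159916, 0, 16, 153953) (.node .leaf (159919, 0, 17, 256061) .leaf)) (159921, 0, 16, 58168) (.node (.node .leaf (159922, 0, 16, 86628) .leaf) (159924, 0, 14, 242163)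 (.node .leaf (159927, 0, 17, 131504) .leaf))) (159929, 0, 15, 85294) (.node (.node (.node .leaf (159930, 0, 18, 112888) .leaf) (159932, 0, 16, 12183) (.node .leaf (159935, 0, 19, 106187) .leaf)) (159936, 0, 17, 125280) (.node (.node .leaf (159939, 0, 16, 8629) .leaf) (159941, 0, 15, 118611) (.node .leaf (159942, 0, 16, 32271) .leaf))))))

/-- part of the orbit tree -/
def itp4_447 : Tree := (.node itp4_443 (159564, 0, 17, 58853) itp4_444)

/-- part of the orbit tree -/
def itp4_448 : Tree := (.node itp4_445 (159817, 0, 16, 60091) itp4_446)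

/-- part of the orbit tree -/
def itp4_449 : Tree := (.node (.node (.node (.node (.node (.node .leaf (159947, 0, 13, 132141) .leaf) (159949, 0, 14, 75215) (.node .leaf (159950, 0, 17, 38035) .leaf)) (159952, 0, 15, 237462) (.node (.node .leaf (159955, 0, 18, 143050) .leaf) (159957, 0, 15, 209126) (.node .leaf (159958, 0, 15, 164005) .leaf))) (159960, 0, 17, 117819) (.node (.node (.node .leaf (159963, 0, 14, 181334) .leaf) (159965, 0, 15, 71038) (.node .leaf (159966, 0, 17, 189029) .leaf)) (159968, 0, 17, 170499) (.node (.node .leaf (159971, 0, 18, 207424) .leaf) (159973, 0, 17, 148294) (.node .leaf (159974, 0, 11, 258821) .leaf)))) (159976, 0, 18, 49051) (.node (.node (.node (.node .leaf (159979, 0, 9, 69592) .leaf) (159981, 0, 15, 26334) (.node .leaf (159982, 0, 13, 125337) .leaf)) (159984, 0, 17, 57942) (.node (.node .leaf (159987, 0, 15, 86549) .leaf) (159989, 0, 14, 181423) (.node .leaf (159990, 0, 16, 226803) .leaf))) (159992, 0, 17, 182222) (.node (.node (.node .leaf (159995, 0, 15, 244060) .leaf) (159997, 0, 11, 142899)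 (.node .leaf (159998, 0, 16, 241352) .leaf)) (160000, 0, 15, 249358) (.node (.node .leaf (160003, 0, 17, 163405) .leaf) (160005, 0, 16, 202571) (.node .leaf (160006, 0, 14, 173832) .leaf))))) (160008, 0, 15, 134396) (.node (.node (.node (.node (.node .leaf (160011, 0, 16, 245152) .leaf) (160013, 0, 16, 78547) (.node .leaf (160014, 0, 17, 33424) .leaf)) (160016, 0, 14, 37014) (.node (.node .leaf (160019, 0, 8, 74186) .leaf) (160021, 0, 14, 93982) (.node .leaf (160022, 0, 16, 67577) .leaf))) (160024, 0, 14, 31242) (.node (.node (.node .leaf (160027, 0, 18, 117590) .leaf) (160029, 0, 15, 215686) (.node .leaf (160030, 0, 16, 126309) .leaf)) (160032, 0, 10, 236394) (.node (.node .leaf (160035, 0, 16, 95672) .leaf) (160037, 0, 15, 245081) (.node .leaf (160038, 0, 17, 134149) .leaf)))) (160040, 0, 16, 225782) (.node (.node (.node (.node .leaf (160043, 0, 17, 217120) .leaf) (160045, 0, 17, 145702) (.node .leaf (160046, 0, 14, 231781) .leaf)) (160048, 0, 17, 126364) (.node (.node .leaf (160051, 0, 15, 23744) .leaf) (160053, 0, 15, 117679)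 (.node .leaf (160054, 0, 16, 31475) .leaf))) (160056, 0, 15, 67328) (.node (.node (.node .leaf (160059, 0, 17, 46684) .leaf) (160061, 0, 11, 16755) (.node .leaf (160062, 0, 18, 36975) .leaf)) (160065, 0, 13, 17646) (.node (.node .leaf (160066, 0, 15, 87704) .leaf) (160068, 0, 15, 40363) (.node .leaf (160071, 0, 16, 77288) .leaf))))))

/-- part of the orbit tree -/
def itp4_450 : Tree := (.node (.node (.node (.node (.node (.node .leaf (160074, 0, 17, 113668) .leaf) (160076, 0, 18, 11115) (.node .leaf (160079, 0, 15, 105015) .leaf)) (160081, 0, 14, 168242) (.node (.node .leaf (160082, 0, 14, 232696) .leaf) (160084, 0, 18, 189950) (.node .leaf (160087, 0, 17, 218557) .leaf))) (160089, 0, 14, 6435) (.node (.node (.node .leaf (160090, 0, 16, 248562) .leaf) (160092, 0, 17, 155037) (.node .leaf (160095, 0, 17, 257217) .leaf)) (160097, 0, 14, 105166) (.node (.node .leaf (160098, 0, 17, 196440) .leaf) (160100, 0, 15, 235102) (.node .leaf (160103, 0, 13, 140829) .leaf)))) (160105, 0, 17, 92803) (.node (.node (.node (.node .leaf (160106,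 0, 17, 49422) .leaf) (160108, 0, 15, 111558) (.node .leaf (160111, 0, 16, 59197) .leaf)) (160113, 0, 16, 257080) (.node (.node .leaf (160114, 0, 16, 154980) .leaf) (160116, 0, 15, 126475) (.node .leaf (160119, 0, 13, 162647) .leaf))) (160121, 0, 17, 201430) (.node (.node (.node .leaf (160122, 0, 16, 178168) .leaf) (160124, 0, 13, 248723) (.node .leaf (160127, 0, 18, 162768) .leaf)) (160129, 0, 17, 200487) (.node (.node .leaf (160130, 0, 16, 179835) .leaf) (160132, 0, 17, 207124) (.node .leaf (160135, 0, 17, 53348) .leaf))))) (160137, 0, 15, 236794) (.node (.node (.node (.node (.node .leaf (160138, 0, 18, 152807) .leaf) (160140, 0, 16, 214463) (.node .leaf (160143, 0, 17, 160468) .leaf)) (160145, 0, 17, 96721) (.node (.node .leaf (160146, 0, 16, 160116) .leaf) (160148, 0, 17, 90082) (.node .leaf (160151, 0, 17, 61118) .leaf))) (160153, 0, 17, 124079) (.node (.node (.node .leaf (160154, 0, 16, 8721) .leaf) (160156, 0, 16, 81386) (.node .leaf (160159, 0, 18, 1058) .leaf)) (160161, 0, 18, 160301) (.node (.node .leaf (160162, 0,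 17, 246641) .leaf) (160164, 0, 16, 152606) (.node .leaf (160167, 0, 17, 252817) .leaf)))) (160169, 0, 17, 170161) (.node (.node (.node (.node .leaf (160170, 0, 17, 75596) .leaf) (160172, 0, 15, 20042) (.node .leaf (160175, 0, 17, 130569) .leaf)) (160177, 0, 14, 1243) (.node (.node .leaf (160178, 0, 16, 112007) .leaf) (160180, 0, 17, 8936) (.node .leaf (160183, 0, 15, 107460) .leaf))) (160185, 0, 16, 60999) (.node (.node (.node .leaf (160186, 0, 19, 89883) .leaf) (160188, 0, 17, 144927) (.node .leaf (160191, 0, 15, 231004) .leaf)) (160192, 0, 14, 69251) (.node (.node .leaf (160195, 0, 14, 49119) .leaf) (160197, 0, 17, 191175) (.node .leaf (160198, 0, 17, 219780) .leaf))))))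

/-- part of the orbit tree -/
def itp4_451 : Tree := (.node (.node (.node (.node (.node (.node .leaf (160203, 0, 15, 21827) .leaf) (160205, 0, 18, 53087) (.node .leaf (160206, 0, 17, 98076) .leaf)) (160208, 0, 15, 19415) (.node (.node .leaf (160211, 0, 12, 182569) .leaf) (160213, 0, 15, 220742) (.node .leaf (160214, 0, 12, 192282) .leaf))) (160216, 0, 15, 159311) (.node (.node (.node .leaf (160219, 0, 16, 253452) .leaf) (160221, 0, 12, 177930) (.node .leaf (160222, 0, 15, 132486) .leaf)) (160224, 0, 15, 29577) (.node (.node .leaf (160227, 0, 17, 34868) .leaf) (160229, 0, 16, 123186) (.node .leaf (160230, 0, 9, 20849) .leaf)))) (160232, 0, 16, 204271) (.node (.node (.node (.node .leaf (160235, 0, 16, 75849) .leaf) (160237, 0, 17, 246954) (.node .leaf (160238, 0, 16, 69242) .leaf)) (160240, 0, 15, 213026) (.node (.node .leaf (160243, 0, 17, 242723) .leaf) (160245, 0, 15, 235879) (.node .leaf (160246, 0, 15, 234000) .leaf))) (160248, 0, 13, 91578) (.node (.node (.node .leaf (160251, 0, 16, 220863) .leaf) (160253, 0, 18, 182736)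 (.node .leaf (160254, 0, 15, 3260) .leaf)) (160258, 0, 17, 126173) (.node (.node .leaf (160259, 0, 18, 243187) .leaf) (160260, 0, 16, 31017) (.node .leaf (160261, 0, 15, 139932) .leaf))))) (160266, 0, 19, 67137) (.node (.node (.node (.node (.node .leaf (160267, 0, 17, 221039) .leaf) (160268, 0, 16, 37166) (.node .leaf (160269, 0, 15, 179415) .leaf)) (160274, 0, 15, 236075) (.node (.node .leaf (160275, 0, 14, 115461) .leaf) (160276, 0, 15, 134468) (.node .leaf (160277, 0, 14, 21610) .leaf))) (160282, 0, 17, 85474) (.node (.node (.node .leaf (160283, 0, 17, 76185) .leaf) (160284, 0, 16, 9444) (.node .leaf (160285, 0, 17, 48886) .leaf)) (160290, 0, 17, 138202) (.node (.node .leaf (160291, 0, 16, 195516) .leaf) (160292, 0, 17, 226012) (.node .leaf (160293, 0, 14, 221078) .leaf)))) (160298, 0, 17, 15938) (.node (.node (.node (.node .leaf (160299, 0, 16, 56868) .leaf) (160300, 0, 15, 125988) (.node .leaf (160301, 0, 17, 242954) .leaf)) (160306, 0, 15, 190241) (.node (.node .leaf (160307, 0, 14, 33769) .leaf) (160308, 0, 15, 225358)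 (.node .leaf (160309, 0, 14, 125679) .leaf))) (160314, 0, 15, 149015) (.node (.node (.node .leaf (160315, 0, 14, 173681) .leaf) (160316, 0, 16, 208657) (.node .leaf (160317, 0, 16, 249719) .leaf)) (160320, 0, 13, 207500) (.node (.node .leaf (160321, 0, 13, 1291) .leaf) (160326, 0, 16, 148362) (.node .leaf (160327, 0, 14, 173036) .leaf))))))

/-- part of the orbit tree -/
def itp4_452 : Tree := (.node (.node (.node (.node (.node (.node .leaf (160329, 0, 18, 61335) .leaf) (160334, 0, 13, 26130) (.node .leaf (160335, 0, 14, 96504) .leaf)) (160336, 0, 17, 86745) (.node (.node .leaf (160337, 0, 18, 111295) .leaf) (160342, 0, 15, 15327) (.node .leaf (160343, 0, 15, 56249) .leaf))) (160344, 0, 15, 227137) (.node (.node (.node .leaf (160345, 0, 17, 170337) .leaf) (160350, 0, 15, 87840) (.node .leaf (160351, 0, 16, 200206) .leaf)) (160352, 0, 18, 205103) (.node (.node .leaf (160353, 0, 15, 49439) .leaf) (160358, 0, 15, 177728) (.node .leaf (160359, 0, 16, 108569) .leaf)))) (160360, 0, 16, 132321) (.node (.node (.node (.node .leaf (160361,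 0, 18, 103069) .leaf) (160366, 0, 14, 154844) (.node .leaf (160367, 0, 16, 232833) .leaf)) (160368, 0, 17, 153900) (.node (.node .leaf (160369, 0, 15, 200439) .leaf) (160374, 0, 12, 49334) (.node .leaf (160375, 0, 17, 249932) .leaf))) (160376, 0, 18, 31924) (.node (.node (.node .leaf (160377, 0, 17, 40146) .leaf) (160382, 0, 12, 10794) (.node .leaf (160383, 0, 17, 160516) .leaf)) (160384, 0, 13, 111814) (.node (.node .leaf (160385, 0, 17, 257512) .leaf) (160390, 0, 11, 9129) (.node .leaf (160391, 0, 17, 220768) .leaf))))) (160392, 0, 16, 89690) (.node (.node (.node (.node (.node .leaf (160393, 0, 15, 4862) .leaf) (160398, 0, 17, 105374) (.node .leaf (160399, 0, 15, 167963) .leaf)) (160400, 0, 19, 246320) (.node (.node .leaf (160401, 0, 14, 20275) .leaf) (160406, 0, 17, 152927) (.node .leaf (160407, 0, 16, 3185) .leaf))) (160408, 0, 16, 166605) (.node (.node (.node .leaf (160409, 0, 17, 94594) .leaf) (160414, 0, 18, 254923) (.node .leaf (160415, 0, 14, 197549) .leaf)) (160416, 0, 17, 122101) (.node (.node .leaf (160417, 0, 16,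 81043) .leaf) (160422, 0, 16, 89763) (.node .leaf (160423, 0, 14, 21909) .leaf)))) (160424, 0, 17, 260461) (.node (.node (.node (.node .leaf (160425, 0, 17, 203019) .leaf) (160430, 0, 14, 168043) (.node .leaf (160431, 0, 12, 257297) .leaf)) (160432, 0, 10, 180026) (.node (.node .leaf (160433, 0, 18, 214214) .leaf) (160438, 0, 17, 206933) (.node .leaf (160439, 0, 15, 94587) .leaf))) (160440, 0, 18, 152998) (.node (.node (.node .leaf (160441, 0, 16, 3208) .leaf) (160446, 0, 17, 59454) (.node .leaf (160447, 0, 18, 105447) .leaf)) (160450, 0, 19, 60835) (.node (.node .leaf (160451, 0, 17, 3525) .leaf) (160452, 0, 18, 234321) .leaf)))))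

/-- part of the orbit tree -/
def itp4_453 : Tree := (.node itp4_449 (160073, 0, 17, 3416) itp4_450)

/-- part of the orbit tree -/
def itp4_454 : Tree := (.node itp4_451 (160328, 0, 17, 177849) itp4_452)

/-- part of the orbit tree -/
def itp4_455 : Tree := (.node itp4_447 (159684, 0, 15, 126476) itp4_448)

/-- part of the orbit tree -/
def itp4_456 : Tree := (.node itp4_453 (160200, 0, 16, 5658) itp4_454)

/-- part of the orbit tree -/
def itp4_457 : Tree := (.node (.node (.node (.node (.node (.node .leaf (160458, 0, 18, 192162) .leaf) (160459, 0, 17, 46988) (.node .leaf (160460, 0, 12, 237885) .leaf)) (160461, 0, 10, 73955) (.node (.node .leaf (160466, 0, 16, 169462) .leaf) (160467, 0, 17, 161168) (.node .leaf (160468, 0, 16, 261360) .leaf))) (160469, 0, 17, 244873) (.node (.node (.node .leaf (160474, 0, 18, 45166) .leaf) (160475, 0, 17, 20488) (.node .leaf (160476, 0, 17, 69435) .leaf)) (160477, 0, 16, 80142) (.node (.node .leaf (160482, 0, 13, 227636) .leaf) (160483, 0, 16, 73754) (.node .leaf (160484, 0, 13, 192091)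 .leaf)))) (160485, 0, 14, 46965) (.node (.node (.node (.node .leaf (160490, 0, 15, 115662) .leaf) (160491, 0, 14, 74664) (.node .leaf (160492, 0, 12, 43720) .leaf)) (160493, 0, 15, 24041) (.node (.node .leaf (160498, 0, 16, 105987) .leaf) (160499, 0, 12, 218860) (.node .leaf (160500, 0, 17, 39085) .leaf))) (160501, 0, 14, 5987) (.node (.node (.node .leaf (160506, 0, 16, 124254) .leaf) (160507, 0, 12, 220157) (.node .leaf (160508, 0, 19, 29233) .leaf)) (160509, 0, 17, 144123) (.node (.node .leaf (160514, 0, 17, 176731) .leaf) (160515, 0, 16, 217616) (.node .leaf (160516, 0, 16, 252765) .leaf))))) (160517, 0, 16, 211771) (.node (.node (.node (.node (.node .leaf (160522, 0, 16, 123298) .leaf) (160523, 0, 15, 243852) (.node .leaf (160524, 0, 8, 30413) .leaf)) (160525, 0, 18, 143331) (.node (.node .leaf (160530, 0, 16, 51726) .leaf) (160531, 0, 17, 74982) (.node .leaf (160532, 0, 16, 107272) .leaf))) (160533, 0, 13, 82798) (.node (.node (.node .leaf (160538, 0, 17, 192406) .leaf) (160539, 0, 12, 135152) (.node .leaf (160540, 0,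 18, 231056) .leaf)) (160541, 0, 15, 222966) (.node (.node .leaf (160546, 0, 16, 30260) .leaf) (160547, 0, 17, 143130) (.node .leaf (160548, 0, 16, 53416) .leaf)))) (160549, 0, 17, 12494) (.node (.node (.node (.node .leaf (160554, 0, 18, 40104) .leaf) (160555, 0, 12, 181638) (.node .leaf (160556, 0, 17, 68551) .leaf)) (160557, 0, 11, 217833) (.node (.node .leaf (160562, 0, 16, 131266) .leaf) (160563, 0, 16, 205213) (.node .leaf (160564, 0, 17, 174333) .leaf))) (160565, 0, 18, 149659) (.node (.node (.node .leaf (160570, 0, 17, 191070) .leaf) (160571, 0, 16, 45936) (.node .leaf (160572, 0, 16, 36197) .leaf)) (160573, 0, 16, 74783) (.node (.node .leaf (160576, 0, 16, 35064) .leaf) (160577, 0, 15, 58088) (.node .leaf (160582, 0, 14, 123390) .leaf))))))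

/-- part of the orbit tree -/
def itp4_458 : Tree := (.node (.node (.node (.node (.node (.node .leaf (160584, 0, 15, 151898) .leaf) (160585, 0, 14, 150790) (.node .leaf (160590, 0, 15, 247349) .leaf)) (160591, 0, 15, 106267) (.node (.node .leaf (160592, 0, 15, 192685) .leaf) (160593, 0, 14, 168990) (.node .leaf (160598, 0, 17, 235947) .leaf))) (160599, 0, 17, 227789) (.node (.node (.node .leaf (160600, 0, 19, 54581) .leaf) (160601, 0, 13, 163458) (.node .leaf (160606, 0, 18, 113715) .leaf)) (160607, 0, 18, 89173) (.node (.node .leaf (160608, 0, 13, 230157) .leaf) (160609, 0, 17, 222059) (.node .leaf (160614, 0, 18, 190987) .leaf)))) (160615, 0, 17, 133741) (.node (.node (.node (.node .leaf (160616, 0, 16, 108181) .leaf) (160617, 0, 14, 95614) (.node .leaf (160622, 0, 12, 53139) .leaf)) (160623, 0, 18, 57873) (.node (.node .leaf (160624, 0, 13, 110650) .leaf) (160625, 0, 16, 72510) (.node .leaf (160630, 0, 16, 10069) .leaf))) (160631, 0, 14, 29240) (.node (.node (.node .leaf (160632, 0, 14, 88742) .leaf) (160633, 0, 17, 212646)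 (.node .leaf (160638, 0, 16, 178118) .leaf)) (160639, 0, 12, 169191) (.node (.node .leaf (160640, 0, 17, 95604) .leaf) (160641, 0, 15, 199179) (.node .leaf (160646, 0, 16, 7282) .leaf))))) (160647, 0, 17, 64532) (.node (.node (.node (.node (.node .leaf (160648, 0, 15, 217324) .leaf) (160649, 0, 16, 254103) (.node .leaf (160654, 0, 15, 145898) .leaf)) (160655, 0, 11, 186764) (.node (.node .leaf (160656, 0, 18, 206291) .leaf) (160657, 0, 18, 97533) (.node .leaf (160662, 0, 14, 176828) .leaf))) (160663, 0, 15, 164929) (.node (.node (.node .leaf (160664, 0, 16, 75961) .leaf) (160665, 0, 13, 116959) (.node .leaf (160670, 0, 18, 153632) .leaf)) (160671, 0, 15, 41433) (.node (.node .leaf (160672, 0, 14, 163457) .leaf) (160673, 0, 17, 171751) (.node .leaf (160678, 0, 17, 202631) .leaf)))) (160679, 0, 17, 254062) (.node (.node (.node (.node .leaf (160680, 0, 17, 50355) .leaf) (160681, 0, 13, 171421) (.node .leaf (160686, 0, 17, 78367) .leaf)) (160687, 0, 17, 199410) (.node (.node .leaf (160688, 0, 14, 153817) .leaf) (160689, 0, 14,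 503) (.node .leaf (160694, 0, 17, 249782) .leaf))) (160695, 0, 15, 104088) (.node (.node (.node .leaf (160696, 0, 17, 140108) .leaf) (160697, 0, 17, 181034) (.node .leaf (160702, 0, 17, 215626) .leaf)) (160703, 0, 14, 240172) (.node (.node .leaf (160706, 0, 17, 189405) .leaf) (160707, 0, 14, 47859) (.node .leaf (160708, 0, 16, 141009) .leaf))))))

/-- part of the orbit tree -/
def itp4_459 : Tree := (.node (.node (.node (.node (.node (.node .leaf (160714, 0, 17, 133441) .leaf) (160715, 0, 17, 100905) (.node .leaf (160716, 0, 16, 841) .leaf)) (160717, 0, 16, 116480) (.node (.node .leaf (160722, 0, 16, 38187) .leaf) (160723, 0, 13, 183301) (.node .leaf (160724, 0, 18, 66116) .leaf))) (160725, 0, 16, 220010) (.node (.node (.node .leaf (160730, 0, 18, 201242) .leaf) (160731, 0, 17, 140953) (.node .leaf (160732, 0, 17, 162588) .leaf)) (160733, 0, 16, 242166) (.node (.node .leaf (160738, 0, 13, 237271) .leaf) (160739, 0, 16, 42052) (.node .leaf (160740, 0, 17, 133560) .leaf)))) (160741, 0, 16, 20630) (.node (.node (.node (.node .leaf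 (160746, 0, 16, 226379) .leaf) (160747, 0, 15, 164316) (.node .leaf (160748, 0, 15, 189220) .leaf)) (160749, 0, 11, 47626) (.node (.node .leaf (160754, 0, 13, 124961) .leaf) (160755, 0, 16, 187409) (.node .leaf (160756, 0, 19, 218481) .leaf))) (160757, 0, 13, 140896) (.node (.node (.node .leaf (160762, 0, 13, 6639) .leaf) (160763, 0, 16, 63881) (.node .leaf (160764, 0, 14, 94441) .leaf)) (160765, 0, 18, 183548) (.node (.node .leaf (160769, 0, 18, 104116) .leaf) (160771, 0, 18, 48427) (.node .leaf (160772, 0, 17, 226154) .leaf))))) (160774, 0, 16, 39704) (.node (.node (.node (.node (.node .leaf (160777, 0, 16, 242476) .leaf) (160779, 0, 13, 22455) (.node .leaf (160780, 0, 13, 223849) .leaf)) (160782, 0, 14, 145996) (.node (.node .leaf (160785, 0, 12, 74671) .leaf) (160787, 0, 14, 179908) (.node .leaf (160788, 0, 13, 66972) .leaf))) (160790, 0, 17, 157569) (.node (.node (.node .leaf (160793, 0, 15, 117043) .leaf) (160795, 0, 14, 139585) (.node .leaf (160796, 0, 16, 70204) .leaf)) (160798, 0, 16, 16921) (.node (.node .leaf (160801,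 0, 13, 171329) .leaf) (160803, 0, 17, 114721) (.node .leaf (160804, 0, 16, 148484) .leaf)))) (160806, 0, 16, 201761) (.node (.node (.node (.node .leaf (160809, 0, 10, 47321) .leaf) (160811, 0, 14, 76477) (.node .leaf (160812, 0, 15, 24988) .leaf)) (160814, 0, 15, 78265) (.node (.node .leaf (160817, 0, 15, 24229) .leaf) (160819, 0, 17, 243415) (.node .leaf (160820, 0, 13, 15441) .leaf))) (160822, 0, 17, 93300) (.node (.node (.node .leaf (160825, 0, 17, 180364) .leaf) (160827, 0, 16, 220235) (.node .leaf (160828, 0, 17, 137673) .leaf)) (160830, 0, 18, 215532) (.node (.node .leaf (160832, 0, 15, 138324) .leaf) (160834, 0, 17, 179343) (.node .leaf (160837, 0, 17, 94926) .leaf))))))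

/-- part of the orbit tree -/
def itp4_460 : Tree := (.node (.node (.node (.node (.node (.node .leaf (160840, 0, 17, 14796) .leaf) (160842, 0, 16, 153107) (.node .leaf (160845, 0, 17, 57481) .leaf)) (160847, 0, 16, 110764) (.node (.node .leaf (160848, 0, 17, 205323) .leaf) (160850, 0, 17, 51833) (.node .leaf (160853, 0, 17, 197688) .leaf))) (160855, 0, 10, 60490) (.node (.node (.node .leaf (160856, 0, 14, 147865) .leaf) (160858, 0, 18, 8421) (.node .leaf (160861, 0, 16, 170204) .leaf)) (160863, 0, 13, 248057) (.node (.node .leaf (160864, 0, 17, 71585) .leaf) (160866, 0, 18, 18308) (.node .leaf (160869, 0, 17, 118500) .leaf)))) (160871, 0, 11, 255926) (.node (.node (.node (.node .leaf (160872, 0, 12, 50027) .leaf) (160874, 0, 16, 156188) (.node .leaf (160877, 0, 11, 58712) .leaf)) (160879, 0, 16, 199978) (.node (.node .leaf (160880, 0, 15, 155393) .leaf) (160882, 0, 14, 147409) (.node .leaf (160885, 0, 17, 243377) .leaf))) (160887, 0, 16, 102720) (.node (.node (.node .leaf (160888, 0, 15, 177565) .leaf) (160890, 0, 16, 6729)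 (.node .leaf (160893, 0, 13, 103209) .leaf)) (160895, 0, 14, 49932) (.node (.node .leaf (160896, 0, 13, 254424) .leaf) (160898, 0, 17, 176637) (.node .leaf (160901, 0, 18, 170541) .leaf))))) (160903, 0, 17, 157880) (.node (.node (.node (.node (.node .leaf (160904, 0, 15, 115776) .leaf) (160906, 0, 16, 37989) (.node .leaf (160909, 0, 16, 72965) .leaf)) (160911, 0, 15, 19744) (.node (.node .leaf (160912, 0, 16, 51944) .leaf) (160914, 0, 15, 205466) (.node .leaf (160917, 0, 15, 82120) .leaf))) (160919, 0, 13, 197801) (.node (.node (.node .leaf (160920, 0, 16, 8308) .leaf) (160922, 0, 14, 191536) (.node .leaf (160925, 0, 15, 222544) .leaf)) (160927, 0, 15, 144757) (.node (.node .leaf (160928, 0, 18, 246036) .leaf) (160930, 0, 17, 10598) (.node .leaf (160933, 0, 14, 13160) .leaf)))) (160935, 0, 17, 3925) (.node (.node (.node (.node .leaf (160936, 0, 12, 207752) .leaf) (160938, 0, 15, 50170) (.node .leaf (160941, 0, 17, 136944) .leaf)) (160943, 0, 14, 214741) (.node (.node .leaf (160944, 0, 15, 168568) .leaf) (160946, 0, 13, 246365)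 (.node .leaf (160949, 0, 17, 102865) .leaf))) (160951, 0, 14, 203544) (.node (.node (.node .leaf (160952, 0, 17, 47072) .leaf) (160954, 0, 16, 177420) (.node .leaf (160957, 0, 17, 97101) .leaf)) (160959, 0, 14, 81536) (.node (.node .leaf (160961, 0, 17, 48570) .leaf) (160963, 0, 14, 80669) (.node .leaf (160964, 0, 16, 45693) .leaf))))))

/-- part of the orbit tree -/
def itp4_461 : Tree := (.node itp4_457 (160583, 0, 16, 65944) itp4_458)

/-- part of the orbit tree -/
def itp4_462 : Tree := (.node itp4_459 (160839, 0, 16, 170684) itp4_460)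

/-- part of the orbit tree -/
def itp4_463 : Tree := (.node (.node (.node (.node (.node (.node .leaf (160969, 0, 15, 22310) .leaf) (160971, 0, 18, 204421) (.node .leaf (160972, 0, 17, 169957) .leaf)) (160974, 0, 15, 235879) (.node (.node .leaf (160977, 0, 17, 136045) .leaf) (160979, 0, 16, 74558) (.node .leaf (160980, 0, 10, 191871) .leaf))) (160982, 0, 16, 66829) (.node (.node (.node .leaf (160985, 0, 12, 14069) .leaf) (160987, 0, 15, 117154) (.node .leaf (160988, 0, 16, 133091) .leaf)) (160990, 0, 14, 114581) (.node (.node .leaf (160993, 0, 13, 221389) .leaf) (160995, 0, 14, 143592) (.node .leaf (160996, 0, 14, 244104) .leaf)))) (160998, 0, 16, 190893) (.node (.node (.node (.node .leaf (161001, 0, 15, 76332) .leaf) (161003, 0, 13, 180830) (.node .leaf (161004, 0, 16, 68639) .leaf)) (161006, 0, 16, 52277) (.node (.node .leaf (161009, 0, 17, 71832) .leaf) (161011, 0, 17, 24116) (.node .leaf (161012, 0, 16, 115165) .leaf))) (161014, 0, 17, 37368) (.node (.node (.node .leaf (161017, 0, 15, 220378) .leaf) (161019, 0, 12, 46248)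 (.node .leaf (161020, 0, 16, 255045) .leaf)) (161022, 0, 16, 177248) (.node (.node .leaf (161025, 0, 17, 242362) .leaf) (161027, 0, 17, 23240) (.node .leaf (161028, 0, 15, 191877) .leaf))))) (161030, 0, 16, 245152) (.node (.node (.node (.node (.node .leaf (161033, 0, 13, 4440) .leaf) (161035, 0, 14, 82301) (.node .leaf (161036, 0, 17, 228885) .leaf)) (161038, 0, 17, 104504) (.node (.node .leaf (161041, 0, 16, 115788) .leaf) (161043, 0, 19, 142398) (.node .leaf (161044, 0, 18, 38352) .leaf))) (161046, 0, 16, 133645) (.node (.node (.node .leaf (161049, 0, 17, 77520) .leaf) (161051, 0, 16, 211240) (.node .leaf (161052, 0, 17, 67811) .leaf)) (161054, 0, 15, 188561) (.node (.node .leaf (161057, 0, 17, 184240) .leaf) (161059, 0, 16, 75714) (.node .leaf (161060, 0, 11, 190851) .leaf)))) (161062, 0, 17, 66033) (.node (.node (.node (.node .leaf (161065, 0, 16, 203437) .leaf) (161067, 0, 16, 118110) (.node .leaf (161068, 0, 17, 131871) .leaf)) (161070, 0, 14, 125805) (.node (.node .leaf (161073, 0, 14, 214880) .leaf) (161075, 0, 16,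 217396) (.node .leaf (161076, 0, 18, 40821) .leaf))) (161078, 0, 15, 183808) (.node (.node (.node .leaf (161081, 0, 15, 21466) .leaf) (161083, 0, 14, 244648) (.node .leaf (161084, 0, 17, 30185) .leaf)) (161086, 0, 18, 236955) (.node (.node .leaf (161088, 0, 16, 111390) .leaf) (161090, 0, 18, 154476) (.node .leaf (161093, 0, 17, 92005) .leaf))))))

/-- part of the orbit tree -/
def itp4_464 : Tree := (.node (.node (.node (.node (.node (.node .leaf (161096, 0, 12, 88450) .leaf) (161098, 0, 16, 176624) (.node .leaf (161101, 0, 17, 213757) .leaf)) (161103, 0, 16, 169923) (.node (.node .leaf (161104, 0, 14, 247272) .leaf) (161106, 0, 16, 169552) (.node .leaf (161109, 0, 17, 254939) .leaf))) (161111, 0, 17, 2985) (.node (.node (.node .leaf (161112, 0, 16, 208756) .leaf) (161114, 0, 15, 46024) (.node .leaf (161117, 0, 16, 80552) .leaf)) (161119, 0, 17, 27277) (.node (.node .leaf (161120, 0, 17, 52756) .leaf) (161122, 0, 14, 255472) (.node .leaf (161125, 0, 11, 158864) .leaf)))) (161127, 0, 17, 196693) (.node (.node (.node (.node .leaf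 (161128, 0, 18, 9352) .leaf) (161130, 0, 16, 249082) (.node .leaf (161133, 0, 18, 699) .leaf)) (161135, 0, 16, 71981) (.node (.node .leaf (161136, 0, 17, 178402) .leaf) (161138, 0, 18, 86160) (.node .leaf (161141, 0, 18, 5317) .leaf))) (161143, 0, 16, 83168) (.node (.node (.node .leaf (161144, 0, 16, 190488) .leaf) (161146, 0, 17, 113164) (.node .leaf (161149, 0, 16, 143709) .leaf)) (161151, 0, 16, 221560) (.node (.node .leaf (161152, 0, 17, 17324) .leaf) (161154, 0, 13, 70537) (.node .leaf (161157, 0, 16, 39657) .leaf))))) (161159, 0, 16, 117452) (.node (.node (.node (.node (.node .leaf (161160, 0, 19, 157236) .leaf) (161162, 0, 15, 88339) (.node .leaf (161165, 0, 17, 180081) .leaf)) (161167, 0, 16, 257876) (.node (.node .leaf (161168, 0, 16, 146425) .leaf) (161170, 0, 15, 247161) (.node .leaf (161173, 0, 16, 189116) .leaf))) (161175, 0, 12, 242329) (.node (.node (.node .leaf (161176, 0, 13, 51095) .leaf) (161178, 0, 18, 85572) (.node .leaf (161181, 0, 15, 57764) .leaf)) (161183, 0, 14, 199126) (.node (.node .leaf (161184,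 0, 17, 215129) .leaf) (161186, 0, 17, 52869) (.node .leaf (161189, 0, 12, 233756) .leaf)))) (161191, 0, 17, 59574) (.node (.node (.node (.node .leaf (161192, 0, 13, 93633) .leaf) (161194, 0, 17, 15844) (.node .leaf (161197, 0, 15, 111748) .leaf)) (161199, 0, 16, 554) (.node (.node .leaf (161200, 0, 15, 77836) .leaf) (161202, 0, 16, 24617) (.node .leaf (161205, 0, 18, 125257) .leaf))) (161207, 0, 17, 171584) (.node (.node (.node .leaf (161208, 0, 18, 113309) .leaf) (161210, 0, 14, 148913) (.node .leaf (161213, 0, 18, 105646) .leaf)) (161215, 0, 16, 171252) (.node (.node .leaf (161217, 0, 14, 23129) .leaf) (161219, 0, 18, 170345) (.node .leaf (161220, 0, 15, 31850) .leaf))))))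

/-- part of the orbit tree -/
def itp4_465 : Tree := (.node (.node (.node (.node (.node (.node .leaf (161225, 0, 17, 126164) .leaf) (161227, 0, 14, 219319) (.node .leaf (161228, 0, 17, 38646) .leaf)) (161230, 0, 15, 228996) (.node (.node .leaf (161233, 0, 15, 142511) .leaf) (161235, 0, 15, 57660) (.node .leaf (161236, 0, 12, 92252) .leaf))) (161238, 0, 18, 14457) (.node (.node (.node .leaf (161241, 0, 12, 234625) .leaf) (161243, 0, 16, 181412) (.node .leaf (161244, 0, 15, 216516) .leaf)) (161246, 0, 16, 67698) (.node (.node .leaf (161249, 0, 16, 75603) .leaf) (161251, 0, 16, 184097) (.node .leaf (161252, 0, 17, 65888) .leaf)))) (161254, 0, 16, 190738) (.node (.node (.node (.node .leaf (161257, 0, 15, 190241) .leaf) (161259, 0, 17, 243460) (.node .leaf (161260, 0, 16, 125948) .leaf)) (161262, 0, 15, 224833) (.node (.node .leaf (161265, 0, 15, 178924) .leaf) (161267, 0, 15, 47575) (.node .leaf (161268, 0, 16, 227222) .leaf))) (161270, 0, 16, 209804) (.node (.node (.node .leaf (161273, 0, 17, 244537) .leaf) (161275, 0, 16, 118609)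 (.node .leaf (161276, 0, 13, 236810) .leaf)) (161278, 0, 14, 71188) (.node (.node .leaf (161280, 0, 17, 67931) .leaf) (161281, 0, 17, 217205) (.node .leaf (161282, 0, 16, 2695) .leaf))))) (161283, 0, 15, 60129) (.node (.node (.node (.node (.node .leaf (161288, 0, 17, 229178) .leaf) (161289, 0, 10, 244457) (.node .leaf (161290, 0, 15, 134069) .leaf)) (161291, 0, 15, 21147) (.node (.node .leaf (161296, 0, 16, 229293) .leaf) (161297, 0, 16, 246417) (.node .leaf (161298, 0, 17, 160466) .leaf))) (161299, 0, 15, 168628) (.node (.node (.node .leaf (161304, 0, 15, 67439) .leaf) (161305, 0, 15, 124681) (.node .leaf (161306, 0, 17, 32067) .leaf)) (161307, 0, 13, 140397) (.node (.node .leaf (161312, 0, 16, 151895) .leaf) (161313, 0, 15, 176433) (.node .leaf (161314, 0, 13, 236579) .leaf)))) (161315, 0, 16, 254228) (.node (.node (.node (.node .leaf (161320, 0, 16, 29903) .leaf) (161321, 0, 18, 182243) (.node .leaf (161322, 0, 13, 74986) .leaf)) (161323, 0, 13, 115852) (.node (.node .leaf (161328, 0, 17, 131751) .leaf) (161329, 0, 17, 23433)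 (.node .leaf (161330, 0, 16, 96551) .leaf))) (161331, 0, 17, 104769) (.node (.node (.node .leaf (161336, 0, 16, 190523) .leaf) (161337, 0, 16, 191740) (.node .leaf (161338, 0, 17, 220351) .leaf)) (161339, 0, 16, 244953) (.node (.node .leaf (161348, 0, 16, 133383) .leaf) (161349, 0, 15, 190817) (.node .leaf (161350, 0, 15, 219426) .leaf))))))

/-- part of the orbit tree -/
def itp4_466 : Tree := (.node (.node (.node (.node (.node (.node .leaf (161356, 0, 16, 246864) .leaf) (161357, 0, 19, 52473) (.node .leaf (161358, 0, 18, 11298) .leaf)) (161359, 0, 16, 105692) (.node (.node .leaf (161364, 0, 10, 29010) .leaf) (161365, 0, 18, 37172) (.node .leaf (161366, 0, 19, 176200) .leaf))) (161367, 0, 18, 114961) (.node (.node (.node .leaf (161372, 0, 16, 111270) .leaf) (161373, 0, 16, 256904) (.node .leaf (161374, 0, 13, 154324) .leaf)) (161375, 0, 15, 1018) (.node (.node .leaf (161380, 0, 14, 152518) .leaf) (161381, 0, 15, 2792) (.node .leaf (161382, 0, 16, 113588) .leaf)))) (161383, 0, 15, 45745) (.node (.node (.node (.node .leaf (161388,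 0, 15, 178522) .leaf) (161389, 0, 14, 247564) (.node .leaf (161390, 0, 13, 161615) .leaf)) (161391, 0, 16, 198662) (.node (.node .leaf (161396, 0, 14, 9520) .leaf) (161397, 0, 17, 236225) (.node .leaf (161398, 0, 16, 141954) .leaf))) (161399, 0, 15, 183012) (.node (.node (.node .leaf (161404, 0, 17, 53164) .leaf) (161405, 0, 15, 169602) (.node .leaf (161406, 0, 16, 3866) .leaf)) (161407, 0, 16, 98032) (.node (.node .leaf (161412, 0, 15, 259211) .leaf) (161413, 0, 15, 201965) (.node .leaf (161414, 0, 17, 173230) .leaf))))) (161415, 0, 16, 96115) (.node (.node (.node (.node (.node .leaf (161420, 0, 14, 119059) .leaf) (161421, 0, 15, 78197) (.node .leaf (161422, 0, 16, 246977) .leaf)) (161423, 0, 16, 105967) (.node (.node .leaf (161428, 0, 17, 176345) .leaf) (161429, 0, 16, 93368) (.node .leaf (161430, 0, 18, 56571) .leaf))) (161431, 0, 15, 196997) (.node (.node (.node .leaf (161436, 0, 16, 154181) .leaf) (161437, 0, 17, 215328) (.node .leaf (161438, 0, 18, 111159) .leaf)) (161439, 0, 17, 256793) (.node (.node .leaf (161444, 0,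 16, 113445) .leaf) (161445, 0, 14, 7960) (.node .leaf (161446, 0, 14, 110427) .leaf)))) (161447, 0, 18, 85821) (.node (.node (.node (.node .leaf (161452, 0, 17, 86457) .leaf) (161453, 0, 13, 198807) (.node .leaf (161454, 0, 16, 232131) .leaf)) (161455, 0, 14, 57573) (.node (.node .leaf (161460, 0, 17, 165675) .leaf) (161461, 0, 15, 103677) (.node .leaf (161462, 0, 16, 9633) .leaf))) (161463, 0, 17, 162959) (.node (.node (.node .leaf (161468, 0, 16, 206671) .leaf) (161469, 0, 15, 17109) (.node .leaf (161470, 0, 16, 53053) .leaf)) (161471, 0, 17, 70384) (.node (.node .leaf (161472, 0, 18, 188856) .leaf) (161473, 0, 16, 18248) .leaf)))))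

/-- part of the orbit tree -/
def itp4_467 : Tree := (.node itp4_463 (161095, 0, 17, 14144) itp4_464)

/-- part of the orbit tree -/
def itp4_468 : Tree := (.node itp4_465 (161351, 0, 15, 171920) itp4_466)

/-- part of the orbit tree -/
def itp4_469 : Tree := (.node itp4_461 (160709, 0, 16, 181943) itp4_462)

/-- part of the orbit tree -/
def itp4_470 : Tree := (.node itp4_467 (161222, 0, 17, 147500) itp4_468)

/-- part of the orbit tree -/
def itp4_471 : Tree := (.node itp4_455 (159944, 0, 17, 242798) itp4_456)

/-- part of the orbit tree -/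
def itp4_472 : Tree := (.node itp4_469 (160966, 0, 10, 226299) itp4_470)

/-- part of the orbit tree -/
def itp4_473 : Tree := (.node (.node (.node (.node (.node (.node .leaf (161475, 0, 13, 217316) .leaf) (161480, 0, 16, 164534) (.node .leaf (161481, 0, 14, 21002) .leaf)) (161482, 0, 16, 123734) (.node (.node .leaf (161483, 0, 17, 209653) .leaf) (161488, 0, 15, 188283) (.node .leaf (161489, 0, 17, 147229) .leaf))) (161490, 0, 14, 233310) (.node (.node (.node .leaf (161491, 0, 17, 75282) .leaf) (161496, 0, 15, 64227) (.node .leaf (161497, 0, 17, 140540) .leaf)) (161498, 0, 17, 109254) (.node (.node .leaf (161499, 0, 16, 117902) .leaf) (161504, 0, 15, 236722) (.node .leaf (161505, 0, 16, 116124) .leaf)))) (161506, 0, 14, 29888) (.node (.node (.node (.node .leaf (161507, 0, 16, 138392) .leaf) (161512, 0, 17, 226862) (.node .leaf (161513, 0, 16, 92453) .leaf)) (161514, 0, 11, 55654) (.node (.node .leaf (161515, 0, 11, 182130) .leaf) (161520, 0, 14, 119950) (.node .leaf (161521, 0, 16, 242538) .leaf))) (161522, 0, 16, 131638) (.node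 (.node (.node .leaf (161523, 0, 18, 25805) .leaf) (161528, 0, 14, 258326) (.node .leaf (161529, 0, 15, 201072) .leaf)) (161530, 0, 14, 172339) (.node (.node .leaf (161531, 0, 16, 147797) .leaf) (161536, 0, 15, 194774) (.node .leaf (161537, 0, 18, 137392) .leaf))))) (161538, 0, 16, 132810) (.node (.node (.node (.node (.node .leaf (161539, 0, 10, 215189) .leaf) (161544, 0, 11, 56654) (.node .leaf (161545, 0, 18, 220426) .leaf)) (161546, 0, 18, 191574) (.node (.node .leaf (161547, 0, 15, 93453) .leaf) (161552, 0, 17, 32899) (.node .leaf (161553, 0, 15, 115040) .leaf))) (161554, 0, 17, 118950) (.node (.node (.node .leaf (161555, 0, 18, 141586) .leaf) (161560, 0, 16, 226002) (.node .leaf (161561, 0, 11, 76796) .leaf)) (161562, 0, 14, 39584) (.node (.node .leaf (161563, 0, 16, 181134) .leaf) (161568, 0, 16, 127779) (.node .leaf (161569, 0, 16, 70469) .leaf)))) (161570, 0, 17, 228288) (.node (.node (.node (.node .leaf (161571, 0, 18, 74478) .leaf) (161576, 0, 17, 31022) (.node .leaf (161577, 0, 19, 210653) .leaf)) (161578, 0, 19,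 233820) (.node (.node .leaf (161579, 0, 15, 116850) .leaf) (161584, 0, 18, 232310) (.node .leaf (161585, 0, 16, 48234) .leaf))) (161586, 0, 17, 68918) (.node (.node (.node .leaf (161587, 0, 16, 218136) .leaf) (161592, 0, 14, 110318) (.node .leaf (161593, 0, 17, 22262) .leaf)) (161594, 0, 17, 65227) (.node (.node .leaf (161595, 0, 13, 245380) .leaf) (161604, 0, 15, 248111) (.node .leaf (161605, 0, 16, 102401) .leaf))))))

/-- part of the orbit tree -/
def itp4_474 : Tree := (.node (.node (.node (.node (.node (.node .leaf (161607, 0, 16, 161907) .leaf) (161612, 0, 14, 205747) (.node .leaf (161613, 0, 17, 224909) .leaf)) (161614, 0, 15, 188110) (.node (.node .leaf (161615, 0, 12, 147112) .leaf) (161620, 0, 16, 114649) (.node .leaf (161621, 0, 7, 255735) .leaf))) (161622, 0, 15, 164611) (.node (.node (.node .leaf (161623, 0, 15, 3717) .leaf) (161628, 0, 14, 128702) (.node .leaf (161629, 0, 15, 71384) .leaf)) (161630, 0, 17, 179511) (.node (.node .leaf (161631, 0, 13, 58393) .leaf) (161636, 0, 16, 172166) (.node .leaf (161637, 0,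 15, 60683) .leaf)))) (161638, 0, 16, 258211) (.node (.node (.node (.node .leaf (161639, 0, 12, 200901) .leaf) (161644, 0, 13, 34078) (.node .leaf (161645, 0, 17, 1943) .leaf)) (161646, 0, 16, 112331) (.node (.node .leaf (161647, 0, 17, 258021) .leaf) (161652, 0, 15, 49875) (.node .leaf (161653, 0, 17, 171005) .leaf))) (161654, 0, 8, 100598) (.node (.node (.node .leaf (161655, 0, 13, 95119) .leaf) (161660, 0, 17, 195915) (.node .leaf (161661, 0, 15, 160097) .leaf)) (161662, 0, 18, 245821) (.node (.node .leaf (161663, 0, 15, 216328) .leaf) (161668, 0, 16, 8652) (.node .leaf (161669, 0, 18, 162018) .leaf))))) (161670, 0, 16, 248254) (.node (.node (.node (.node (.node .leaf (161671, 0, 18, 102544) .leaf) (161676, 0, 18, 160615) (.node .leaf (161677, 0, 16, 168705) .leaf)) (161678, 0, 18, 205602) (.node (.node .leaf (161679, 0, 16, 246564) .leaf) (161684, 0, 18, 143018) (.node .leaf (161685, 0, 15, 184012) .leaf))) (161686, 0, 11, 114504) (.node (.node (.node .leaf (161687, 0, 17, 237289) .leaf) (161692, 0, 14, 179622) (.node .leaf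 (161693, 0, 16, 60244) .leaf)) (161694, 0, 18, 88855) (.node (.node .leaf (161695, 0, 17, 113521) .leaf) (161700, 0, 16, 89286) (.node .leaf (161701, 0, 17, 198120) .leaf)))) (161702, 0, 16, 177332) (.node (.node (.node (.node .leaf (161703, 0, 17, 191817) .leaf) (161708, 0, 13, 96402) (.node .leaf (161709, 0, 13, 257908) .leaf)) (161710, 0, 16, 155176) (.node (.node .leaf (161711, 0, 17, 51409) .leaf) (161716, 0, 16, 75103) (.node .leaf (161717, 0, 16, 116025) .leaf))) (161718, 0, 14, 30074) (.node (.node (.node .leaf (161719, 0, 16, 170860) .leaf) (161724, 0, 16, 196807) (.node .leaf (161725, 0, 15, 104834) .leaf)) (161726, 0, 17, 151778) (.node (.node .leaf (161727, 0, 16, 160240) .leaf) (161728, 0, 16, 132699) (.node .leaf (161729, 0, 16, 24437) .leaf))))))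

/-- part of the orbit tree -/
def itp4_475 : Tree := (.node (.node (.node (.node (.node (.node .leaf (161731, 0, 18, 243463) .leaf) (161736, 0, 15, 73922) (.node .leaf (161737, 0, 10, 46569) .leaf)) (161738, 0, 19, 66741) (.node (.node .leaf (161739, 0, 16, 36993) .leaf) (161744, 0, 16, 28845) (.node .leaf (161745, 0, 16, 141699) .leaf))) (161746, 0, 17, 235743) (.node (.node (.node .leaf (161747, 0, 13, 52556) .leaf) (161752, 0, 13, 39473) (.node .leaf (161753, 0, 14, 181023) .leaf)) (161754, 0, 18, 133298) (.node (.node .leaf (161755, 0, 15, 76653) .leaf) (161760, 0, 15, 228177) (.node .leaf (161761, 0, 9, 74367) .leaf)))) (161762, 0, 18, 89738) (.node (.node (.node (.node .leaf (161763, 0, 16, 182797) .leaf) (161768, 0, 11, 142135) (.node .leaf (161769, 0, 18, 183121) .leaf)) (161770, 0, 18, 228114) (.node (.node .leaf (161771, 0, 16, 139409) .leaf) (161776, 0, 15, 161530) (.node .leaf (161777, 0, 15, 218249) .leaf))) (161778, 0, 14, 189909) (.node (.node (.node .leaf (161779, 0, 18, 48379) .leaf) (161784, 0, 18, 21346)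 (.node .leaf (161785, 0, 18, 245269) .leaf)) (161786, 0, 17, 66375) (.node (.node .leaf (161787, 0, 15, 22119) .leaf) (161793, 0, 18, 193024) (.node .leaf (161794, 0, 15, 109774) .leaf))))) (161797, 0, 16, 156303) (.node (.node (.node (.node (.node .leaf (161798, 0, 16, 250835) .leaf) (161801, 0, 17, 63246) (.node .leaf (161802, 0, 17, 92123) .leaf)) (161805, 0, 18, 165907) (.node (.node .leaf (161806, 0, 17, 211279) .leaf) (161809, 0, 16, 158564) (.node .leaf (161810, 0, 15, 252472) .leaf))) (161813, 0, 17, 5241) (.node (.node (.node .leaf (161814, 0, 16, 66357) .leaf) (161817, 0, 18, 164344) (.node .leaf (161818, 0, 12, 209060) .leaf)) (161821, 0, 13, 65253) (.node (.node .leaf (161822, 0, 15, 206509) .leaf) (161825, 0, 16, 90264) (.node .leaf (161826, 0, 15, 53700) .leaf)))) (161829, 0, 16, 114902) (.node (.node (.node (.node .leaf (161830, 0, 15, 28821) .leaf) (161833, 0, 9, 253037) (.node .leaf (161834, 0, 11, 15192) .leaf)) (161837, 0, 14, 259353) (.node (.node .leaf (161838, 0, 17, 152845) .leaf) (161841, 0, 16, 202350)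 (.node .leaf (161842, 0, 19, 173874) .leaf))) (161845, 0, 16, 92531) (.node (.node (.node .leaf (161846, 0, 13, 55343) .leaf) (161849, 0, 17, 261362) (.node .leaf (161850, 0, 17, 5243) .leaf)) (161853, 0, 17, 99311) (.node (.node .leaf (161854, 0, 16, 11608) .leaf) (161856, 0, 15, 138294) (.node .leaf (161859, 0, 16, 51363) .leaf))))))

/-- part of the orbit tree -/
def itp4_476 : Tree := (.node (.node (.node (.node (.node (.node .leaf (161863, 0, 15, 61824) .leaf) (161864, 0, 17, 220536) (.node .leaf (161867, 0, 16, 191803) .leaf)) (161868, 0, 18, 35255) (.node (.node .leaf (161871, 0, 15, 185368) .leaf) (161872, 0, 16, 27328) (.node .leaf (161875, 0, 16, 176374) .leaf))) (161876, 0, 16, 136669) (.node (.node (.node .leaf (161879, 0, 16, 238721) .leaf) (161880, 0, 16, 75053) (.node .leaf (161883, 0, 16, 78080) .leaf)) (161884, 0, 11, 196417) (.node (.node .leaf (161887, 0, 17, 216605) .leaf) (161888, 0, 14, 160533) (.node .leaf (161891, 0, 16, 246614) .leaf)))) (161892, 0, 15, 73249) (.node (.node (.node (.node .leaf (161895,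 0, 16, 44925) .leaf) (161896, 0, 12, 232352) (.node .leaf (161899, 0, 16, 146172) .leaf)) (161900, 0, 17, 128189) (.node (.node .leaf (161903, 0, 16, 122861) .leaf) (161904, 0, 15, 71626) (.node .leaf (161907, 0, 15, 113411) .leaf))) (161908, 0, 17, 223447) (.node (.node (.node .leaf (161911, 0, 16, 98848) .leaf) (161912, 0, 17, 130390) (.node .leaf (161915, 0, 16, 19466) .leaf)) (161916, 0, 17, 229963) (.node (.node .leaf (161919, 0, 15, 239544) .leaf) (161920, 0, 13, 34156) (.node .leaf (161923, 0, 18, 79151) .leaf))))) (161924, 0, 16, 48207) (.node (.node (.node (.node (.node .leaf (161927, 0, 17, 146068) .leaf) (161928, 0, 15, 73289) (.node .leaf (161931, 0, 17, 44821) .leaf)) (161932, 0, 15, 170455) (.node (.node .leaf (161935, 0, 14, 184328) .leaf) (161936, 0, 10, 195897) (.node .leaf (161939, 0, 17, 144255) .leaf))) (161940, 0, 15, 130366) (.node (.node (.node .leaf (161943, 0, 18, 19554) .leaf) (161944, 0, 16, 55457) (.node .leaf (161947, 0, 16, 186851) .leaf)) (161948, 0, 14, 57730) (.node (.node .leaf (161951, 0,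 18, 86465) .leaf) (161952, 0, 18, 233113) (.node .leaf (161955, 0, 15, 80003) .leaf)))) (161956, 0, 16, 194242) (.node (.node (.node (.node .leaf (161959, 0, 15, 133113) .leaf) (161960, 0, 18, 25411) (.node .leaf (161963, 0, 15, 119327) .leaf)) (161964, 0, 17, 138334) (.node (.node .leaf (161967, 0, 13, 8801) .leaf) (161968, 0, 16, 128716) (.node .leaf (161971, 0, 15, 18063) .leaf))) (161972, 0, 13, 32820) (.node (.node (.node .leaf (161975, 0, 17, 78184) .leaf) (161976, 0, 13, 136629) (.node .leaf (161979, 0, 17, 156439) .leaf)) (161980, 0, 17, 256631) (.node (.node .leaf (161983, 0, 17, 121844) .leaf) (161985, 0, 16, 259441) (.node .leaf (161986, 0, 13, 180175) .leaf))))))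

/-- part of the orbit tree -/
def itp4_477 : Tree := (.node itp4_473 (161606, 0, 15, 8541) itp4_474)

/-- part of the orbit tree -/
def itp4_478 : Tree := (.node itp4_475 (161860, 0, 17, 82371) itp4_476)

/-- part of the orbit tree -/
def itp4_479 : Tree := (.node (.node (.node (.node (.node (.node .leaf (161990, 0, 19, 15152) .leaf) (161993, 0, 14, 76308) (.node .leaf (161994, 0, 18, 39511) .leaf)) (161997, 0, 17, 70455) (.node (.node .leaf (161998, 0, 17, 41844) .leaf) (162001, 0, 18, 99207) (.node .leaf (162002, 0, 18, 51098) .leaf))) (162005, 0, 15, 261274) (.node (.node (.node .leaf (162006, 0, 17, 150982) .leaf) (162009, 0, 15, 217665) (.node .leaf (162010, 0, 14, 188930) .leaf)) (162013, 0, 17, 202246) (.node (.node .leaf (162014, 0, 15, 187169) .leaf) (162017, 0, 15, 1145) (.node .leaf (162018, 0, 17, 111674) .leaf)))) (162021, 0, 16, 63334) (.node (.node (.node (.node .leaf (162022, 0, 14, 101657) .leaf) (162025, 0, 17, 156391) (.node .leaf (162026, 0, 18, 250811) .leaf)) (162029, 0, 16, 137410) (.node (.node .leaf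 (162030, 0, 16, 109734) .leaf) (162033, 0, 15, 65165) (.node .leaf (162034, 0, 17, 248943) .leaf))) (162037, 0, 16, 148751) (.node (.node (.node .leaf (162038, 0, 16, 259404) .leaf) (162041, 0, 16, 5137) (.node .leaf (162042, 0, 14, 107853) .leaf)) (162045, 0, 16, 158476) (.node (.node .leaf (162046, 0, 17, 118996) .leaf) (162049, 0, 13, 64113) (.node .leaf (162050, 0, 17, 84781) .leaf))))) (162053, 0, 15, 92503) (.node (.node (.node (.node (.node .leaf (162054, 0, 17, 55572) .leaf) (162057, 0, 14, 4333) (.node .leaf (162058, 0, 15, 181679) .leaf)) (162061, 0, 16, 216271) (.node (.node .leaf (162062, 0, 15, 195724) .leaf) (162065, 0, 17, 167047) (.node .leaf (162066, 0, 14, 170082) .leaf))) (162069, 0, 13, 200962) (.node (.node (.node .leaf (162070, 0, 18, 82630) .leaf) (162073, 0, 12, 157211) (.node .leaf (162074, 0, 18, 48634) .leaf)) (162077, 0, 16, 6406) (.node (.node .leaf (162078, 0, 13, 34009) .leaf) (162081, 0, 15, 154497) (.node .leaf (162082, 0, 15, 13863) .leaf)))) (162085, 0, 16, 156322) (.node (.node (.node (.node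 .leaf (162086, 0, 15, 149818) .leaf) (162089, 0, 16, 32281) (.node .leaf (162090, 0, 13, 56507) .leaf)) (162093, 0, 15, 18234) (.node (.node .leaf (162094, 0, 14, 172966) .leaf) (162097, 0, 14, 258445) (.node .leaf (162098, 0, 16, 103319) .leaf))) (162101, 0, 14, 6903) (.node (.node (.node .leaf (162102, 0, 14, 109236) .leaf) (162105, 0, 18, 203537) (.node .leaf (162106, 0, 18, 174669) .leaf)) (162109, 0, 16, 147311) (.node (.node .leaf (162110, 0, 16, 233260) .leaf) (162112, 0, 16, 187028) (.node .leaf (162115, 0, 18, 223959) .leaf))))))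

/-- part of the orbit tree -/
def itp4_480 : Tree := (.node (.node (.node (.node (.node (.node .leaf (162119, 0, 17, 218100) .leaf) (162120, 0, 19, 135497) (.node .leaf (162123, 0, 16, 85839) .leaf)) (162124, 0, 18, 28244) (.node (.node .leaf (162127, 0, 17, 95852) .leaf) (162128, 0, 14, 41665) (.node .leaf (162131, 0, 16, 81023) .leaf))) (162132, 0, 18, 39906) (.node (.node (.node .leaf (162135, 0, 18, 76705) .leaf) (162136, 0, 16, 26559) (.node .leaf (162139, 0, 17, 120547) .leaf)) (162140, 0, 13, 137378) (.node (.node .leaf (162143, 0, 15, 200249) .leaf) (162144, 0, 16, 119137) (.node .leaf (162147, 0, 19, 145283) .leaf)))) (162148, 0, 18, 124994) (.node (.node (.node (.node .leaf (162151, 0, 16, 22529) .leaf) (162152, 0, 14, 224323) (.node .leaf (162155, 0, 15, 148666) .leaf)) (162156, 0, 14, 249306) (.node (.node .leaf (162159, 0, 17, 163225) .leaf) (162160, 0, 15, 239924) (.node .leaf (162163, 0, 17, 137591) .leaf))) (162164, 0, 17, 233495) (.node (.node (.node .leaf (162167, 0, 18, 139348) .leaf) (162168, 0, 19, 101548)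 (.node .leaf (162171, 0, 14, 15599) .leaf)) (162172, 0, 16, 112015) (.node (.node .leaf (162175, 0, 14, 185588) .leaf) (162176, 0, 17, 206616) (.node .leaf (162179, 0, 14, 41578) .leaf))))) (162180, 0, 18, 224299) (.node (.node (.node (.node (.node .leaf (162183, 0, 17, 187767) .leaf) (162184, 0, 14, 129450) (.node .leaf (162187, 0, 16, 18678) .leaf)) (162188, 0, 15, 231095) (.node (.node .leaf (162191, 0, 14, 145387) .leaf) (162192, 0, 16, 89933) (.node .leaf (162195, 0, 16, 185500) .leaf))) (162196, 0, 18, 91758) (.node (.node (.node .leaf (162199, 0, 17, 43905) .leaf) (162200, 0, 18, 228053) (.node .leaf (162203, 0, 14, 146944) .leaf)) (162204, 0, 17, 127041) (.node (.node .leaf (162207, 0, 16, 16669) .leaf) (162208, 0, 17, 11501) (.node .leaf (162211, 0, 18, 105646) .leaf)))) (162212, 0, 11, 5582) (.node (.node (.node (.node .leaf (162215, 0, 7, 107917) .leaf) (162216, 0, 17, 33952) (.node .leaf (162219, 0, 13, 79356) .leaf)) (162220, 0, 16, 195517) (.node (.node .leaf (162223, 0, 17, 215777) .leaf) (162224, 0, 16, 152760)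 (.node .leaf (162227, 0, 14, 255227) .leaf))) (162228, 0, 12, 26583) (.node (.node (.node .leaf (162231, 0, 13, 253400) .leaf) (162232, 0, 17, 193110) (.node .leaf (162235, 0, 13, 213770) .leaf)) (162236, 0, 16, 18435) (.node (.node .leaf (162239, 0, 18, 80919) .leaf) (162241, 0, 13, 44536) (.node .leaf (162242, 0, 15, 73147) .leaf))))))

/-- part of the orbit tree -/
def itp4_481 : Tree := (.node (.node (.node (.node (.node (.node .leaf (162246, 0, 15, 56531) .leaf) (162249, 0, 15, 260110) (.node .leaf (162250, 0, 17, 149842) .leaf)) (162253, 0, 15, 100115) (.node (.node .leaf (162254, 0, 16, 196864) .leaf) (162257, 0, 16, 185773) (.node .leaf (162258, 0, 14, 54584) .leaf))) (162261, 0, 17, 203641) (.node (.node (.node .leaf (162262, 0, 18, 220365) .leaf) (162265, 0, 17, 102136) (.node .leaf (162266, 0, 16, 82038) .leaf)) (162269, 0, 17, 51478) (.node (.node .leaf (162270, 0, 15, 96597) .leaf) (162273, 0, 17, 159640) (.node .leaf (162274, 0, 17, 253636) .leaf)))) (162277, 0, 15, 237358) (.node (.node (.node (.node .leaf (162278,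 0, 15, 143213) .leaf) (162281, 0, 12, 99221) (.node .leaf (162282, 0, 18, 13270) .leaf)) (162285, 0, 18, 113334) (.node (.node .leaf (162286, 0, 17, 2805) .leaf) (162289, 0, 13, 6510) (.node .leaf (162290, 0, 14, 108594) .leaf))) (162293, 0, 16, 124795) (.node (.node (.node .leaf (162294, 0, 16, 22328) .leaf) (162297, 0, 18, 62450) (.node .leaf (162298, 0, 17, 82606) .leaf)) (162301, 0, 17, 167151) (.node (.node .leaf (162302, 0, 18, 160416) .leaf) (162304, 0, 9, 146966) (.node .leaf (162305, 0, 17, 6334) .leaf))))) (162308, 0, 17, 132917) (.node (.node (.node (.node (.node .leaf (162309, 0, 18, 190291) .leaf) (162312, 0, 16, 174860) (.node .leaf (162313, 0, 16, 64488) .leaf)) (162316, 0, 16, 8877) (.node (.node .leaf (162317, 0, 17, 49867) .leaf) (162320, 0, 15, 14182) (.node .leaf (162321, 0, 17, 42533) .leaf))) (162324, 0, 17, 149627) (.node (.node (.node .leaf (162325, 0, 14, 40710) .leaf) (162328, 0, 14, 56826) (.node .leaf (162329, 0, 17, 165076) .leaf)) (162332, 0, 19, 172775) (.node (.node .leaf (162333, 0, 18, 178846)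 .leaf) (162336, 0, 16, 79331) (.node .leaf (162337, 0, 18, 120197) .leaf)))) (162340, 0, 13, 82823) (.node (.node (.node (.node .leaf (162341, 0, 16, 126118) .leaf) (162344, 0, 13, 251398) (.node .leaf (162345, 0, 12, 258077) .leaf)) (162348, 0, 15, 207192) (.node (.node .leaf (162349, 0, 16, 248126) .leaf) (162352, 0, 17, 216502) (.node .leaf (162353, 0, 17, 241104) .leaf))) (162356, 0, 16, 210289) (.node (.node (.node .leaf (162357, 0, 14, 234739) .leaf) (162360, 0, 11, 92206) (.node .leaf (162361, 0, 15, 260574) .leaf)) (162364, 0, 14, 86285) (.node (.node .leaf (162365, 0, 17, 100035) .leaf) (162370, 0, 16, 1205) (.node .leaf (162371, 0, 11, 58579) .leaf))))))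

/-- part of the orbit tree -/
def itp4_482 : Tree := (.node (.node (.node (.node (.node (.node .leaf (162375, 0, 16, 120667) .leaf) (162378, 0, 15, 139565) (.node .leaf (162379, 0, 11, 213722) .leaf)) (162382, 0, 16, 137230) (.node (.node .leaf (162383, 0, 16, 81351) .leaf) (162386, 0, 10, 163040) (.node .leaf (162387, 0, 15, 171142) .leaf))) (162390, 0, 16, 129155) (.node (.node (.node .leaf (162391, 0, 17, 237997) .leaf) (162394, 0, 18, 22904) (.node .leaf (162395, 0, 18, 78892) .leaf)) (162398, 0, 18, 24667) (.node (.node .leaf (162399, 0, 15, 215857) .leaf) (162402, 0, 14, 200512) (.node .leaf (162403, 0, 16, 257830) .leaf)))) (162406, 0, 15, 193407) (.node (.node (.node (.node .leaf (162407, 0, 17, 251397) .leaf) (162410, 0, 17, 76504) (.node .leaf (162411, 0, 13, 117438) .leaf)) (162414, 0, 17, 70651) (.node (.node .leaf (162415, 0, 15, 16589) .leaf) (162418, 0, 17, 195220) (.node .leaf (162419, 0, 17, 104307) .leaf))) (162422, 0, 18, 85558) (.node (.node (.node .leaf (162423, 0, 16, 187559) .leaf) (162426, 0, 18, 217741)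 (.node .leaf (162427, 0, 16, 18726) .leaf)) (162430, 0, 16, 28437) (.node (.node .leaf (162431, 0, 17, 232392) .leaf) (162434, 0, 17, 137611) (.node .leaf (162435, 0, 16, 16549) .leaf))))) (162438, 0, 11, 26262) (.node (.node (.node (.node (.node .leaf (162439, 0, 16, 147384) .leaf) (162442, 0, 9, 253089) (.node .leaf (162443, 0, 15, 212167) .leaf)) (162446, 0, 18, 35850) (.node (.node .leaf (162447, 0, 18, 185636) .leaf) (162450, 0, 16, 28541) (.node .leaf (162451, 0, 14, 221450) .leaf))) (162454, 0, 9, 243791) (.node (.node (.node .leaf (162455, 0, 18, 18766) .leaf) (162458, 0, 16, 107764) (.node .leaf (162459, 0, 17, 187599) .leaf)) (162462, 0, 19, 105943) (.node (.node .leaf (162463, 0, 15, 41938) .leaf) (162466, 0, 14, 222337) (.node .leaf (162467, 0, 15, 135850) .leaf)))) (162470, 0, 16, 183279) (.node (.node (.node (.node .leaf (162471, 0, 18, 142217) .leaf) (162474, 0, 18, 232989) (.node .leaf (162475, 0, 15, 120627) .leaf)) (162478, 0, 16, 61047) (.node (.node .leaf (162479, 0, 14, 3601) .leaf) (162482, 0, 14, 70263)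 (.node .leaf (162483, 0, 16, 215897) .leaf))) (162486, 0, 19, 46010) (.node (.node (.node .leaf (162487, 0, 16, 78916) .leaf) (162490, 0, 17, 129259) (.node .leaf (162491, 0, 16, 151399) .leaf)) (162494, 0, 16, 231414) (.node (.node .leaf (162495, 0, 17, 161348) .leaf) (162496, 0, 14, 108915) .leaf)))))

/-- part of the orbit tree -/
def itp4_483 : Tree := (.node itp4_479 (162116, 0, 12, 33992) itp4_480)

/-- part of the orbit tree -/
def itp4_484 : Tree := (.node itp4_481 (162374, 0, 11, 15766) itp4_482)

/-- part of the orbit tree -/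
def itp4_485 : Tree := (.node itp4_477 (161730, 0, 17, 152959) itp4_478)

/-- part of the orbit tree -/
def itp4_486 : Tree := (.node itp4_483 (162245, 0, 15, 93583) itp4_484)

/-- part of the orbit tree -/
def itp4_487 : Tree := (.node (.node (.node (.node (.node (.node .leaf (162500, 0, 17, 251502) .leaf) (162501, 0, 15, 102208) (.node .leaf (162504, 0, 14, 124418) .leaf)) (162505, 0, 11, 67172) (.node (.node .leaf (162508, 0, 17, 122657) .leaf) (162509, 0, 17, 81735) (.node .leaf (162512, 0, 15, 253829) .leaf))) (162513, 0, 14, 89001) (.node (.node (.node .leaf (162516, 0, 16, 99052) .leaf) (162517, 0, 16, 90762) (.node .leaf (162520, 0, 14, 237143) .leaf)) (162521, 0, 14, 228913) (.node (.node .leaf (162524, 0, 16, 239476) .leaf) (162525, 0, 16, 201514) (.node .leaf (162528, 0, 16, 51311) .leaf)))) (162529, 0, 13, 167255) (.node (.node (.node (.node .leaf (162532, 0, 18, 174948) .leaf) (162533, 0, 17, 4394) (.node .leaf (162536, 0, 17, 191991) .leaf)) (162537, 0, 17, 134545) (.node (.node .leaf (162540, 0, 15, 147960) .leaf)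 (162541, 0, 16, 144562) (.node .leaf (162544, 0, 18, 172687) .leaf))) (162545, 0, 17, 64417) (.node (.node (.node .leaf (162548, 0, 18, 56722) .leaf) (162549, 0, 16, 165052) (.node .leaf (162552, 0, 17, 149523) .leaf)) (162553, 0, 18, 4413) (.node (.node .leaf (162556, 0, 10, 14094) .leaf) (162557, 0, 16, 19687) (.node .leaf (162560, 0, 15, 105570) .leaf))))) (162561, 0, 18, 65373) (.node (.node (.node (.node (.node .leaf (162564, 0, 14, 107841) .leaf) (162565, 0, 14, 163904) (.node .leaf (162568, 0, 16, 244218) .leaf)) (162569, 0, 14, 219548) (.node (.node .leaf (162572, 0, 14, 229593) .leaf) (162573, 0, 15, 221375) (.node .leaf (162576, 0, 17, 255031) .leaf))) (162577, 0, 15, 197713) (.node (.node (.node .leaf (162580, 0, 17, 253204) .leaf) (162581, 0, 18, 63158) (.node .leaf (162584, 0, 17, 14873) .leaf)) (162585, 0, 17, 156471) (.node (.node .leaf (162588, 0, 16, 148740) .leaf) (162589, 0, 15, 71914) (.node .leaf (162592, 0, 18, 252793) .leaf)))) (162593, 0, 14, 98903) (.node (.node (.node (.node .leaf (162596, 0, 9, 175796)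 .leaf) (162597, 0, 16, 151250) (.node .leaf (162600, 0, 15, 45583) .leaf)) (162601, 0, 15, 92363) (.node (.node .leaf (162604, 0, 15, 35628) .leaf) (162605, 0, 15, 202710) (.node .leaf (162608, 0, 15, 109967) .leaf))) (162609, 0, 18, 259233) (.node (.node (.node .leaf (162612, 0, 17, 250514) .leaf) (162613, 0, 16, 13959) (.node .leaf (162616, 0, 16, 182874) .leaf)) (162617, 0, 14, 204349) (.node (.node .leaf (162620, 0, 16, 210958) .leaf) (162621, 0, 13, 90400) (.node .leaf (162626, 0, 17, 239297) .leaf))))))

/-- part of the orbit tree -/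
def itp4_488 : Tree := (.node (.node (.node (.node (.node (.node .leaf (162630, 0, 16, 237538) .leaf) (162631, 0, 14, 229252) (.node .leaf (162634, 0, 18, 130071) .leaf)) (162635, 0, 16, 238905) (.node (.node .leaf (162638, 0, 15, 113274) .leaf) (162639, 0, 18, 121380) (.node .leaf (162642, 0, 16, 221309) .leaf))) (162643, 0, 14, 80211) (.node (.node (.node .leaf (162646, 0, 16, 73568) .leaf) (162647, 0, 12, 67537) (.node .leaf (162650, 0, 16, 232161) .leaf)) (162651, 0, 12, 119759) (.node (.node .leaf (162654, 0, 16, 246319) .leaf) (162655, 0, 16, 240850) (.node .leaf (162658, 0, 15, 27521) .leaf)))) (162659, 0, 15, 144047) (.node (.node (.node (.node .leaf (162662, 0, 17, 37911) .leaf) (162663, 0, 17, 29809) (.node .leaf (162666, 0, 17, 33053) .leaf)) (162667, 0, 17, 157898) (.node (.node .leaf (162670, 0, 16, 196096) .leaf) (162671, 0, 17, 152041) (.node .leaf (162674, 0, 17, 185697) .leaf))) (162675, 0, 16, 144647) (.node (.node (.node .leaf (162678, 0, 17, 25194) .leaf) (162679, 0, 17, 146244) (.node .leaf (162682, 0,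 13, 61689) .leaf)) (162683, 0, 15, 4255) (.node (.node .leaf (162686, 0, 16, 35062) .leaf) (162687, 0, 16, 10684) (.node .leaf (162690, 0, 15, 154445) .leaf))))) (162691, 0, 13, 42822) (.node (.node (.node (.node (.node .leaf (162694, 0, 16, 33141) .leaf) (162695, 0, 18, 164360) (.node .leaf (162698, 0, 17, 136436) .leaf)) (162699, 0, 18, 40627) (.node (.node .leaf (162702, 0, 16, 27625) .leaf) (162703, 0, 15, 144071) (.node .leaf (162706, 0, 13, 8984) .leaf))) (162707, 0, 15, 184752) (.node (.node (.node .leaf (162710, 0, 14, 6715) .leaf) (162711, 0, 14, 44717) (.node .leaf (162714, 0, 16, 132736) .leaf)) (162715, 0, 12, 146220) (.node (.node .leaf (162718, 0, 15, 138527) .leaf) (162719, 0, 15, 188357) (.node .leaf (162722, 0, 16, 230242) .leaf)))) (162723, 0, 16, 110814) (.node (.node (.node (.node .leaf (162726, 0, 17, 130175) .leaf) (162727, 0, 17, 100861) (.node .leaf (162730, 0, 17, 226592) .leaf)) (162731, 0, 14, 234822) (.node (.node .leaf (162734, 0, 15, 71395) .leaf) (162735, 0, 15, 240741) (.node .leaf (162738, 0,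 16, 128404) .leaf))) (162739, 0, 16, 240826) (.node (.node (.node .leaf (162742, 0, 18, 232073) .leaf) (162743, 0, 17, 119719) (.node .leaf (162746, 0, 14, 73480) .leaf)) (162747, 0, 15, 214566) (.node (.node .leaf (162750, 0, 16, 221205) .leaf) (162751, 0, 15, 80187) (.node .leaf (162752, 0, 13, 25070) .leaf))))))

/-- part of the orbit tree -/
def itp4_489 : Tree := (.node (.node (.node (.node (.node (.node .leaf (162756, 0, 16, 209293) .leaf) (162757, 0, 18, 92323) (.node .leaf (162760, 0, 13, 148598) .leaf)) (162761, 0, 12, 261410) (.node (.node .leaf (162764, 0, 16, 252689) .leaf) (162765, 0, 14, 171315) (.node .leaf (162768, 0, 17, 137659) .leaf))) (162769, 0, 16, 90440) (.node (.node (.node .leaf (162772, 0, 18, 83835) .leaf) (162773, 0, 15, 204373) (.node .leaf (162776, 0, 18, 15395) .leaf)) (162777, 0, 14, 101332) (.node (.node .leaf (162780, 0, 18, 1280) .leaf) (162781, 0, 16, 58726) (.node .leaf (162784, 0, 14, 13210) .leaf)))) (162785, 0, 17, 158388) (.node (.node (.node (.node .leaf (162788, 0, 16, 217912) .leaf)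 (162789, 0, 17, 242526) (.node .leaf (162792, 0, 18, 85891) .leaf)) (162793, 0, 18, 163880) (.node (.node .leaf (162796, 0, 15, 173595) .leaf) (162797, 0, 15, 65333) (.node .leaf (162800, 0, 15, 148844) .leaf))) (162801, 0, 15, 127528) (.node (.node (.node .leaf (162804, 0, 15, 76653) .leaf) (162805, 0, 15, 156511) (.node .leaf (162808, 0, 14, 176112) .leaf)) (162809, 0, 7, 251824) (.node (.node .leaf (162812, 0, 16, 53485) .leaf) (162813, 0, 15, 257683) (.node .leaf (162816, 0, 16, 198862) .leaf))))) (162818, 0, 13, 172346) (.node (.node (.node (.node (.node .leaf (162820, 0, 16, 209389) .leaf) (162822, 0, 17, 156104) (.node .leaf (162824, 0, 18, 77142) .leaf)) (162826, 0, 14, 150438) (.node (.node .leaf (162828, 0, 12, 253129) .leaf) (162830, 0, 16, 17488) (.node .leaf (162832, 0, 15, 94363) .leaf))) (162834, 0, 16, 8382) (.node (.node (.node .leaf (162836, 0, 17, 82083) .leaf) (162838, 0, 16, 6557) (.node .leaf (162840, 0, 17, 218371) .leaf)) (162842, 0, 11, 15696) (.node (.node .leaf (162844, 0, 17, 109119) .leaf) (162846,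 0, 17, 148045) (.node .leaf (162848, 0, 16, 827) .leaf)))) (162850, 0, 18, 252976) (.node (.node (.node (.node .leaf (162852, 0, 12, 150367) .leaf) (162854, 0, 13, 107309) (.node .leaf (162856, 0, 16, 57054) .leaf)) (162858, 0, 11, 226950) (.node (.node .leaf (162860, 0, 17, 172483) .leaf) (162862, 0, 18, 84401) (.node .leaf (162864, 0, 17, 162670) .leaf))) (162866, 0, 13, 207691) (.node (.node (.node .leaf (162868, 0, 17, 148045) .leaf) (162870, 0, 11, 251355) (.node .leaf (162872, 0, 17, 24310) .leaf)) (162874, 0, 12, 69331) (.node (.node .leaf (162876, 0, 17, 55093) .leaf) (162878, 0, 14, 212807) (.node .leaf (162881, 0, 17, 33326) .leaf))))))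

/-- part of the orbit tree -/
def itp4_490 : Tree := (.node (.node (.node (.node (.node (.node .leaf (162885, 0, 15, 79857) .leaf) (162887, 0, 16, 125736) (.node .leaf (162889, 0, 16, 174006) .leaf)) (162891, 0, 14, 259987) (.node (.node .leaf (162893, 0, 17, 122221) .leaf) (162895, 0, 14, 249520) (.node .leaf (162897, 0, 11, 195195) .leaf))) (162899, 0, 16, 240222) (.node (.node (.node .leaf (162901, 0, 15, 181080) .leaf) (162903, 0, 15, 43381) (.node .leaf (162905, 0, 16, 119942) .leaf)) (162907, 0, 14, 102342) (.node (.node .leaf (162909, 0, 16, 59072) .leaf) (162911, 0, 14, 112357) (.node .leaf (162913, 0, 17, 144870) .leaf)))) (162915, 0, 17, 186878) (.node (.node (.node (.node .leaf (162917, 0, 16, 19195) .leaf) (162919, 0, 17, 238217) (.node .leaf (162921, 0, 17, 109635) .leaf)) (162923, 0, 16, 79624) (.node (.node .leaf (162925, 0, 13, 41063) .leaf) (162927, 0, 16, 50501) (.node .leaf (162929, 0, 17, 127374) .leaf))) (162931, 0, 16, 41387) (.node (.node (.node .leaf (162933, 0, 16, 116909) .leaf) (162935, 0, 18, 39048)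 (.node .leaf (162937, 0, 9, 43404) .leaf)) (162939, 0, 14, 164915) (.node (.node .leaf (162941, 0, 16, 257333) .leaf) (162943, 0, 15, 81635) (.node .leaf (162945, 0, 15, 40975) .leaf))))) (162947, 0, 17, 12167) (.node (.node (.node (.node (.node .leaf (162949, 0, 17, 83585) .leaf) (162951, 0, 17, 5796) (.node .leaf (162953, 0, 16, 219706) .leaf)) (162955, 0, 15, 133663) (.node (.node .leaf (162957, 0, 14, 221977) .leaf) (162959, 0, 16, 144188) (.node .leaf (162961, 0, 18, 198647) .leaf))) (162963, 0, 16, 81547) (.node (.node (.node .leaf (162965, 0, 17, 43492) .leaf) (162967, 0, 17, 213398) (.node .leaf (162969, 0, 16, 146533) .leaf)) (162971, 0, 17, 119831) (.node (.node .leaf (162973, 0, 13, 17272) .leaf) (162975, 0, 18, 240394) (.node .leaf (162977, 0, 11, 160855) .leaf)))) (162979, 0, 15, 144759) (.node (.node (.node (.node .leaf (162981, 0, 17, 238104) .leaf) (162983, 0, 16, 19050) (.node .leaf (162985, 0, 18, 79769) .leaf)) (162987, 0, 18, 66026) (.node (.node .leaf (162989, 0, 17, 26860) .leaf) (162991, 0, 13, 41206)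 (.node .leaf (162993, 0, 15, 3074) .leaf))) (162995, 0, 17, 17281) (.node (.node (.node .leaf (162997, 0, 17, 13601) .leaf) (162999, 0, 13, 146588) (.node .leaf (163001, 0, 15, 213359) .leaf)) (163003, 0, 18, 227775) (.node (.node .leaf (163005, 0, 16, 81522) .leaf) (163007, 0, 18, 185856) (.node .leaf (163008, 0, 17, 193858) .leaf))))))

/-- part of the orbit tree -/
def itp4_491 : Tree := (.node itp4_487 (162627, 0, 17, 214695) itp4_488)

/-- part of the orbit tree -/
def itp4_492 : Tree := (.node itp4_489 (162883, 0, 16, 41118) itp4_490)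

/-- part of the orbit tree -/
def itp4_493 : Tree := (.node (.node (.node (.node (.node (.node .leaf (163012, 0, 17, 57014) .leaf) (163014, 0, 17, 236612) (.node .leaf (163016, 0, 18, 53466) .leaf)) (163018, 0, 16, 107333) (.node (.node .leaf (163020, 0, 14, 13354) .leaf) (163022, 0, 17, 253016) (.node .leaf (163024, 0, 14, 36119) .leaf))) (163026, 0, 16, 122162) (.node (.node (.node .leaf (163028, 0, 14, 174144) .leaf) (163030, 0, 15, 123921) (.node .leaf (163032, 0, 16, 15809) .leaf)) (163034, 0, 15, 260266) (.node (.node .leaf (163036, 0, 15, 148188) .leaf) (163038, 0, 12, 109230) (.node .leaf (163040, 0, 9, 253089) .leaf)))) (163042, 0, 17, 44690) (.node (.node (.node (.node .leaf (163044, 0, 17, 107452) .leaf) (163046, 0, 16, 150478) (.node .leaf (163048, 0, 17, 252719) .leaf)) (163050, 0, 17, 56911) (.node (.node .leaf (163052, 0, 11, 84256) .leaf) (163054, 0, 17, 176681) (.node .leaf (163056, 0, 16, 109143) .leaf))) (163058, 0, 10, 186055) (.node (.node (.node .leaf (163060, 0, 16, 245697) .leaf) (163062, 0, 15, 15672)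 (.node .leaf (163064, 0, 16, 107386) .leaf)) (163066, 0, 19, 62303) (.node (.node .leaf (163068, 0, 16, 212950) .leaf) (163070, 0, 14, 55204) (.node .leaf (163072, 0, 16, 43706) .leaf))))) (163074, 0, 16, 149209) (.node (.node (.node (.node (.node .leaf (163076, 0, 18, 250294) .leaf) (163078, 0, 17, 115644) (.node .leaf (163080, 0, 17, 167714) .leaf)) (163082, 0, 13, 175173) (.node (.node .leaf (163084, 0, 17, 177665) .leaf) (163086, 0, 17, 255524) (.node .leaf (163088, 0, 18, 185071) .leaf))) (163090, 0, 16, 12335) (.node (.node (.node .leaf (163092, 0, 14, 108352) .leaf) (163094, 0, 16, 244713) (.node .leaf (163096, 0, 18, 63351) .leaf)) (163098, 0, 16, 55987) (.node (.node .leaf (163100, 0, 15, 52820) .leaf) (163102, 0, 17, 106097) (.node .leaf (163104, 0, 17, 54177) .leaf)))) (163106, 0, 16, 211923) (.node (.node (.node (.node .leaf (163108, 0, 19, 235628) .leaf) (163110, 0, 16, 182345) (.node .leaf (163112, 0, 17, 99543) .leaf)) (163114, 0, 16, 250191) (.node (.node .leaf (163116, 0, 16, 114164) .leaf) (163118, 0, 11,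 60881) (.node .leaf (163120, 0, 12, 173399) .leaf))) (163122, 0, 13, 85285) (.node (.node (.node .leaf (163124, 0, 15, 122937) .leaf) (163126, 0, 17, 45084) (.node .leaf (163128, 0, 17, 261250) .leaf)) (163130, 0, 16, 108473) (.node (.node .leaf (163132, 0, 15, 12502) .leaf) (163134, 0, 15, 252068) (.node .leaf (163137, 0, 18, 204890) .leaf))))))

/-- part of the orbit tree -/
def itp4_494 : Tree := (.node (.node (.node (.node (.node (.node .leaf (163141, 0, 17, 203129) .leaf) (163143, 0, 16, 145504) (.node .leaf (163145, 0, 16, 67010) .leaf)) (163147, 0, 16, 44513) (.node (.node .leaf (163149, 0, 13, 81121) .leaf) (163151, 0, 15, 185084) (.node .leaf (163153, 0, 15, 88079) .leaf))) (163155, 0, 16, 2090) (.node (.node (.node .leaf (163157, 0, 16, 239332) .leaf) (163159, 0, 16, 20118) (.node .leaf (163161, 0, 14, 228759) .leaf)) (163163, 0, 17, 187159) (.node (.node .leaf (163165, 0, 15, 214196) .leaf) (163167, 0, 17, 136337) (.node .leaf (163169, 0, 14, 184837) .leaf)))) (163171, 0, 16, 97162) (.node (.node (.node (.node .leaf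 (163173, 0, 13, 4748) .leaf) (163175, 0, 13, 82601) (.node .leaf (163177, 0, 13, 134711) .leaf)) (163179, 0, 18, 220690) (.node (.node .leaf (163181, 0, 16, 145172) .leaf) (163183, 0, 17, 241654) (.node .leaf (163185, 0, 17, 42227) .leaf))) (163187, 0, 15, 216193) (.node (.node (.node .leaf (163189, 0, 16, 187374) .leaf) (163191, 0, 15, 211708) (.node .leaf (163193, 0, 16, 20079) .leaf)) (163195, 0, 16, 75335) (.node (.node .leaf (163197, 0, 13, 20289) .leaf) (163199, 0, 16, 121088) (.node .leaf (163201, 0, 15, 18412) .leaf))))) (163203, 0, 16, 232947) (.node (.node (.node (.node (.node .leaf (163205, 0, 17, 189685) .leaf) (163207, 0, 16, 118915) (.node .leaf (163209, 0, 16, 44400) .leaf)) (163211, 0, 15, 108651) (.node (.node .leaf (163213, 0, 14, 184941) .leaf) (163215, 0, 16, 102728) (.node .leaf (163217, 0, 18, 143642) .leaf))) (163219, 0, 14, 128422) (.node (.node (.node .leaf (163221, 0, 14, 40096) .leaf) (163223, 0, 17, 117893) (.node .leaf (163225, 0, 16, 187270) .leaf)) (163227, 0, 16, 78836) (.node (.node .leaf (163229,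 0, 17, 178488) .leaf) (163231, 0, 15, 256285) (.node .leaf (163233, 0, 18, 120355) .leaf)))) (163235, 0, 15, 184980) (.node (.node (.node (.node .leaf (163237, 0, 18, 214523) .leaf) (163239, 0, 17, 48933) (.node .leaf (163241, 0, 12, 118906) .leaf)) (163243, 0, 16, 172958) (.node (.node .leaf (163245, 0, 15, 241511) .leaf) (163247, 0, 10, 170685) (.node .leaf (163249, 0, 17, 216080) .leaf))) (163251, 0, 16, 196179) (.node (.node (.node .leaf (163253, 0, 14, 78605) .leaf) (163255, 0, 17, 187263) (.node .leaf (163257, 0, 18, 239244) .leaf)) (163259, 0, 15, 20222) (.node (.node .leaf (163261, 0, 15, 121233) .leaf) (163263, 0, 15, 58088) (.node .leaf (163264, 0, 15, 87862) .leaf))))))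

/-- part of the orbit tree -/
def itp4_495 : Tree := (.node (.node (.node (.node (.node (.node .leaf (163268, 0, 14, 14677) .leaf) (163270, 0, 12, 15920) (.node .leaf (163272, 0, 18, 225966) .leaf)) (163274, 0, 17, 83110) (.node (.node .leaf (163276, 0, 17, 215949) .leaf) (163278, 0, 17, 138152) (.node .leaf (163280, 0, 16, 208739) .leaf))) (163282, 0, 16, 252108) (.node (.node (.node .leaf (163284, 0, 16, 202304) .leaf) (163286, 0, 14, 108497) (.node .leaf (163288, 0, 17, 68347) .leaf)) (163290, 0, 17, 209488) (.node (.node .leaf (163292, 0, 15, 78808) .leaf) (163294, 0, 16, 85325) (.node .leaf (163296, 0, 16, 211778) .leaf)))) (163298, 0, 17, 199910) (.node (.node (.node (.node .leaf (163300, 0, 17, 157152) .leaf) (163302, 0, 17, 210373) (.node .leaf (163304, 0, 16, 31067) .leaf)) (163306, 0, 15, 14764) (.node (.node .leaf (163308, 0, 16, 16504) .leaf) (163310, 0, 18, 69725) (.node .leaf (163312, 0, 15, 85428) .leaf))) (163314, 0, 15, 95411) (.node (.node (.node .leaf (163316, 0, 16, 209577) .leaf) (163318, 0, 18, 56027)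 (.node .leaf (163320, 0, 14, 131342) .leaf)) (163322, 0, 18, 151386) (.node (.node .leaf (163324, 0, 14, 145453) .leaf) (163326, 0, 15, 12359) (.node .leaf (163392, 0, 14, 20024) .leaf))))) (163393, 0, 14, 44638) (.node (.node (.node (.node (.node .leaf (163394, 0, 15, 195740) .leaf) (163395, 0, 16, 130683) (.node .leaf (163396, 0, 18, 224243) .leaf)) (163397, 0, 15, 78557) (.node (.node .leaf (163398, 0, 18, 33665) .leaf) (163399, 0, 17, 187055) (.node .leaf (163400, 0, 16, 158624) .leaf))) (163401, 0, 17, 239452) (.node (.node (.node .leaf (163402, 0, 17, 211845) .leaf) (163403, 0, 17, 252899) (.node .leaf (163404, 0, 11, 229743) .leaf)) (163405, 0, 16, 176869) (.node (.node .leaf (163406, 0, 16, 26909) .leaf) (163407, 0, 16, 254656) (.node .leaf (163408, 0, 15, 145005) .leaf)))) (163409, 0, 11, 185867) (.node (.node (.node (.node .leaf (163410, 0, 16, 222792) .leaf) (163411, 0, 14, 185156) (.node .leaf (163412, 0, 14, 134990) .leaf)) (163413, 0, 17, 192296) (.node (.node .leaf (163414, 0, 17, 193911) .leaf) (163415, 0, 17,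 245517) (.node .leaf (163416, 0, 14, 231556) .leaf))) (163417, 0, 11, 62355) (.node (.node (.node .leaf (163418, 0, 16, 24822) .leaf) (163419, 0, 16, 107446) (.node .leaf (163420, 0, 14, 10966) .leaf)) (163421, 0, 16, 51888) (.node (.node .leaf (163422, 0, 12, 139243) .leaf) (163423, 0, 16, 105109) (.node .leaf (163424, 0, 15, 27108) .leaf))))))

/-- part of the orbit tree -/
def itp4_496 : Tree := (.node (.node (.node (.node (.node (.node .leaf (163426, 0, 16, 136680) .leaf) (163427, 0, 18, 121016) (.node .leaf (163428, 0, 15, 228590) .leaf)) (163429, 0, 16, 20439) (.node (.node .leaf (163430, 0, 17, 142539) .leaf) (163431, 0, 15, 183469) (.node .leaf (163432, 0, 13, 33656) .leaf))) (163433, 0, 15, 186966) (.node (.node (.node .leaf (163434, 0, 18, 224010) .leaf) (163435, 0, 17, 78372) (.node .leaf (163436, 0, 18, 88438) .leaf)) (163437, 0, 18, 112912) (.node (.node .leaf (163438, 0, 15, 70679) .leaf) (163439, 0, 17, 216377) (.node .leaf (163440, 0, 16, 81304) .leaf)))) (163441, 0, 13, 17980) (.node (.node (.node (.node .leaf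 (163442, 0, 19, 128864) .leaf) (163443, 0, 15, 36315) (.node .leaf (163444, 0, 17, 66747) .leaf)) (163445, 0, 16, 145697) (.node (.node .leaf (163446, 0, 15, 231549) .leaf) (163447, 0, 13, 119123) (.node .leaf (163448, 0, 11, 202752) .leaf))) (163449, 0, 17, 260198) (.node (.node (.node .leaf (163450, 0, 17, 73212) .leaf) (163451, 0, 16, 214226) (.node .leaf (163452, 0, 14, 205091) .leaf)) (163453, 0, 16, 246085) (.node (.node .leaf (163454, 0, 15, 160006) .leaf) (163455, 0, 15, 168288) (.node .leaf (163456, 0, 17, 111540) .leaf))))) (163457, 0, 13, 86994) (.node (.node (.node (.node (.node .leaf (163458, 0, 12, 58257) .leaf) (163459, 0, 16, 216401) (.node .leaf (163460, 0, 16, 101015) .leaf)) (163461, 0, 17, 92913) (.node (.node .leaf (163462, 0, 18, 55986) .leaf) (163463, 0, 18, 78412) (.node .leaf (163464, 0, 16, 235052) .leaf))) (163465, 0, 14, 226890) (.node (.node (.node .leaf (163466, 0, 17, 130787) .leaf) (163467, 0, 15, 140911) (.node .leaf (163468, 0, 18, 27020) .leaf)) (163469, 0, 15, 143522) (.node (.node .leaf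 (163470, 0, 15, 196394) .leaf) (163471, 0, 18, 121040) (.node .leaf (163472, 0, 16, 248801) .leaf)))) (163473, 0, 17, 185301) (.node (.node (.node (.node .leaf (163474, 0, 18, 170948) .leaf) (163475, 0, 17, 80807) (.node .leaf (163476, 0, 14, 258754) .leaf)) (163477, 0, 16, 201380) (.node (.node .leaf (163478, 0, 19, 172775) .leaf) (163479, 0, 15, 148097) (.node .leaf (163480, 0, 11, 126585) .leaf))) (163481, 0, 18, 145737) (.node (.node (.node .leaf (163482, 0, 15, 48732) .leaf) (163483, 0, 15, 119099) (.node .leaf (163484, 0, 12, 120666) .leaf)) (163485, 0, 18, 79676) (.node (.node .leaf (163486, 0, 15, 128776) .leaf) (163487, 0, 16, 26393) .leaf)))))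

/-- part of the orbit tree -/
def itp4_497 : Tree := (.node itp4_493 (163139, 0, 17, 18301) itp4_494)

/-- part of the orbit tree -/
def itp4_498 : Tree := (.node itp4_495 (163425, 0, 17, 143562) itp4_496)

/-- part of the orbit tree -/
def itp4_499 : Tree := (.node itp4_491 (162753, 0, 16, 202686) itp4_492)

/-- part of the orbit tree -/
def itp4_500 : Tree := (.node itp4_497 (163266, 0, 16, 110138) itp4_498)

/-- part of the orbit tree -/
def itp4_501 : Tree := (.node itp4_485 (161989, 0, 16, 210607) itp4_486)

/-- part of the orbit tree -/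
def itp4_502 : Tree := (.node itp4_499 (163010, 0, 18, 84441) itp4_500)

/-- part of the orbit tree -/
def itp4_503 : Tree := (.node itp4_471 (160453, 0, 17, 91331) itp4_472)

/-- part of the orbit tree -/
def itp4_504 : Tree := (.node itp4_501 (162497, 0, 14, 205820) itp4_502)

/-- part of the orbit tree -/
def itp4_505 : Tree := (.node itp4_441 (157386, 0, 16, 12579) itp4_442)

/-- part of the orbit tree -/
def itp4_506 : Tree := (.node itp4_503 (161474, 0, 17, 68042) itp4_504)

/-- part of the orbit tree -/
def itp4_507 : Tree := (.node itp4_379 (151252, 0, 15, 220778) itp4_380)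

/-- part of the orbit tree -/
def itp4_508 : Tree := (.node itp4_505 (159428, 0, 15, 259331) itp4_506)

/-- part of the orbit tree -/
def itp4_509 : Tree := (.node itp4_253 (138984, 0, 16, 116198) itp4_254)

/-- part of the orbit tree -/
def itp4_510 : Tree := (.node itp4_507 (155336, 0, 16, 120096) itp4_508)

/-- part of the orbit tree -/
def itr_4 : Tree := (.node itp4_509 (147152, 0, 18, 16610) itp4_510)

end Cfsg.Agent.Lib.Helper28.J3IsoData
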