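import Cfsg.Agent.Lib.Helper28.BSGSF4

/-!
# The orbit of the triple cover of `J₃` on isotropic vectors: part 5 of the orbit tree

Generated by a script.
-/

set_option autoImplicit false

namespace Cfsg.Agent.Lib.Helper28.J3IsoData

open Cfsg.Agent.Lib.Helper28.BSGSMat (Tree)

/-- part of the orbit tree -/
def itp5_1 : Tree := (.node (.node (.node (.node (.node (.node .leaf (163489, 0, 14, 153639) .leaf) (163490, 0, 15, 256100) (.node .leaf (163491, 0, 15, 198658) .leaf)) (163492, 0, 16, 130586) (.node (.node .leaf (163493, 0, 11, 239412) .leaf) (163494, 0, 17, 250183) (.node .leaf (163495, 0, 15, 20294) .leaf))) (163496, 0, 14, 40409) (.node (.node (.node .leaf (163497, 0, 16, 32191) .leaf) (163498, 0, 14, 33769) (.node .leaf (163499, 0, 15, 187079) .leaf)) (163500, 0, 15, 70790) (.node (.node .leaf (163501, 0, 14, 17564) .leaf) (163502, 0, 18, 128223) (.node .leaf (163503, 0, 16, 42458) .leaf)))) (163504, 0, 18, 49172) (.node (.node (.node (.node .leaf (163505, 0, 17, 241375) .leaf) (163506, 0, 15, 139139) (.node .leaf (163507,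 0, 16, 18093) .leaf)) (163508, 0, 18, 63799) (.node (.node .leaf (163509, 0, 14, 6481) .leaf) (163510, 0, 18, 108818) (.node .leaf (163511, 0, 17, 84340) .leaf))) (163512, 0, 15, 73069) (.node (.node (.node .leaf (163513, 0, 15, 132586) .leaf) (163514, 0, 16, 193823) (.node .leaf (163515, 0, 18, 44081) .leaf)) (163516, 0, 11, 187567) (.node (.node .leaf (163517, 0, 15, 80734) .leaf) (163518, 0, 14, 35330) (.node .leaf (163519, 0, 18, 185132) .leaf))))) (163648, 0, 17, 257100) (.node (.node (.node (.node (.node .leaf (163649, 0, 14, 240163) .leaf) (163650, 0, 13, 179305) (.node .leaf (163651, 0, 18, 154639) .leaf)) (163652, 0, 19, 232464) (.node (.node .leaf (163653, 0, 16, 210185) .leaf) (163654, 0, 16, 165194) (.node .leaf (163655, 0, 15, 146764) .leaf))) (163656, 0, 15, 72081) (.node (.node (.node .leaf (163657, 0, 16, 213183) .leaf) (163658, 0, 13, 192995) (.node .leaf (163659, 0, 15, 31127) .leaf)) (163660, 0, 16, 127223) (.node (.node .leaf (163661, 0, 15, 81826) .leaf) (163662, 0, 12, 41170) (.node .leaf (163663, 0, 16,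 16564) .leaf)))) (163664, 0, 13, 230907) (.node (.node (.node (.node .leaf (163665, 0, 17, 95359) .leaf) (163666, 0, 13, 50236) (.node .leaf (163667, 0, 16, 9306) .leaf)) (163668, 0, 14, 129766) (.node (.node .leaf (163669, 0, 17, 85340) .leaf) (163670, 0, 15, 64799) (.node .leaf (163671, 0, 18, 19386) .leaf))) (163672, 0, 17, 225127) (.node (.node (.node .leaf (163673, 0, 16, 217575) .leaf) (163674, 0, 14, 34581) (.node .leaf (163675, 0, 17, 187963) .leaf)) (163676, 0, 11, 69754) (.node (.node .leaf (163677, 0, 13, 215380) .leaf) (163678, 0, 17, 194568) (.node .leaf (163679, 0, 13, 145633) .leaf))))))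

/-- part of the orbit tree -/
def itp5_2 : Tree := (.node (.node (.node (.node (.node (.node .leaf (163681, 0, 11, 2015) .leaf) (163682, 0, 14, 112540) (.node .leaf (163683, 0, 17, 81755) .leaf)) (163684, 0, 12, 56986) (.node (.node .leaf (163685, 0, 18, 16124) .leaf) (163686, 0, 10, 72040) (.node .leaf (163687, 0, 13, 213062) .leaf))) (163688, 0, 17, 180769) (.node (.node (.node .leaf (163689, 0, 12, 146869) .leaf) (163690, 0, 16, 232681) (.node .leaf (163691, 0, 15, 225890) .leaf)) (163692, 0, 13, 195330) (.node (.node .leaf (163693, 0, 17, 138084) .leaf) (163694, 0, 14, 240423) (.node .leaf (163695, 0, 14, 215873) .leaf)))) (163696, 0, 16, 172012) (.node (.node (.node (.node .leaf (163697, 0, 10, 41439) .leaf) (163698, 0, 14, 249801) (.node .leaf (163699, 0, 16, 215469) .leaf)) (163700, 0, 14, 34796) (.node (.node .leaf (163701, 0, 15, 188098) .leaf) (163702, 0, 11, 259818) (.node .leaf (163703, 0, 16, 79536) .leaf))) (163704, 0, 16, 47732) (.node (.node (.node .leaf (163705, 0, 12, 23058) .leaf) (163706, 0, 14, 129567)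 (.node .leaf (163707, 0, 13, 238385) .leaf)) (163708, 0, 16, 28016) (.node (.node .leaf (163709, 0, 16, 25393) .leaf) (163710, 0, 13, 230658) (.node .leaf (163711, 0, 14, 121900) .leaf))))) (163712, 0, 14, 135616) (.node (.node (.node (.node (.node .leaf (163713, 0, 11, 17088) .leaf) (163714, 0, 18, 127900) (.node .leaf (163715, 0, 17, 240306) .leaf)) (163716, 0, 18, 25843) (.node (.node .leaf (163717, 0, 15, 146909) .leaf) (163718, 0, 17, 232577) (.node .leaf (163719, 0, 18, 120239) .leaf))) (163720, 0, 16, 192882) (.node (.node (.node .leaf (163721, 0, 14, 54334) .leaf) (163722, 0, 18, 91261) (.node .leaf (163723, 0, 16, 213038) .leaf)) (163724, 0, 15, 36463) (.node (.node .leaf (163725, 0, 16, 60701) .leaf) (163726, 0, 18, 89438) (.node .leaf (163727, 0, 16, 113976) .leaf)))) (163728, 0, 18, 27029) (.node (.node (.node (.node .leaf (163729, 0, 15, 35315) .leaf) (163730, 0, 16, 80304) (.node .leaf (163731, 0, 13, 121924) .leaf)) (163732, 0, 15, 135685) (.node (.node .leaf (163733, 0, 16, 19243) .leaf) (163734, 0, 16, 129655)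 (.node .leaf (163735, 0, 17, 238425) .leaf))) (163736, 0, 14, 150541) (.node (.node (.node .leaf (163737, 0, 13, 175211) .leaf) (163738, 0, 17, 203816) (.node .leaf (163739, 0, 17, 261198) .leaf)) (163740, 0, 15, 161070) (.node (.node .leaf (163741, 0, 17, 41399) .leaf) (163742, 0, 16, 69867) (.node .leaf (163743, 0, 15, 247149) .leaf))))))

/-- part of the orbit tree -/
def itp5_3 : Tree := (.node (.node (.node (.node (.node (.node .leaf (163745, 0, 19, 129619) .leaf) (163746, 0, 15, 36502) (.node .leaf (163747, 0, 14, 43638) .leaf)) (163748, 0, 14, 72185) (.node (.node .leaf (163749, 0, 17, 213207) .leaf) (163750, 0, 18, 192907) (.node .leaf (163751, 0, 10, 37717) .leaf))) (163752, 0, 16, 232568) (.node (.node (.node .leaf (163753, 0, 14, 253899) .leaf) (163754, 0, 17, 25610) (.node .leaf (163755, 0, 13, 146724) .leaf)) (163756, 0, 16, 198286) (.node (.node .leaf (163757, 0, 15, 255720) .leaf) (163758, 0, 18, 138007) (.node .leaf (163759, 0, 19, 16953) .leaf)))) (163760, 0, 15, 221792) (.node (.node (.node (.node .leaf (163761,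 0, 16, 229894) .leaf) (163762, 0, 18, 143941) (.node .leaf (163763, 0, 15, 184867) .leaf)) (163764, 0, 18, 219971) (.node (.node .leaf (163765, 0, 16, 244517) .leaf) (163766, 0, 18, 34685) (.node .leaf (163767, 0, 15, 187987) .leaf))) (163768, 0, 14, 129678) (.node (.node (.node .leaf (163769, 0, 15, 238496) .leaf) (163770, 0, 14, 6109) (.node .leaf (163771, 0, 16, 19410) .leaf)) (163772, 0, 17, 98011) (.node (.node .leaf (163773, 0, 12, 106173) .leaf) (163774, 0, 13, 12030) (.node .leaf (163775, 0, 16, 144591) .leaf))))) (163840, 0, 17, 158815) (.node (.node (.node (.node (.node .leaf (163843, 0, 13, 39975) .leaf) (163845, 0, 17, 128289) (.node .leaf (163846, 0, 13, 17762) .leaf)) (163849, 0, 12, 57325) (.node (.node .leaf (163850, 0, 17, 154073) .leaf) (163852, 0, 15, 209119) (.node .leaf (163855, 0, 15, 84098) .leaf))) (163857, 0, 18, 148359) (.node (.node (.node .leaf (163858, 0, 18, 132116) .leaf) (163860, 0, 15, 224530) (.node .leaf (163863, 0, 17, 187729) .leaf)) (163864, 0, 16, 94633) (.node (.node .leaf (163867, 0,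 17, 49642) .leaf) (163869, 0, 16, 108780) (.node .leaf (163870, 0, 17, 6319) .leaf)))) (163873, 0, 15, 84091) (.node (.node (.node (.node .leaf (163874, 0, 15, 227252) .leaf) (163876, 0, 16, 138930) (.node .leaf (163879, 0, 18, 241393) .leaf)) (163880, 0, 17, 521) (.node (.node .leaf (163883, 0, 16, 111178) .leaf) (163885, 0, 17, 253434) (.node .leaf (163886, 0, 18, 158886) .leaf))) (163888, 0, 17, 92067) (.node (.node (.node .leaf (163891, 0, 17, 55039) .leaf) (163893, 0, 16, 34433) (.node .leaf (163894, 0, 16, 61644) .leaf)) (163897, 0, 18, 170554) (.node (.node .leaf (163898, 0, 17, 157005) .leaf) (163900, 0, 17, 148351) (.node .leaf (163903, 0, 14, 258876) .leaf))))))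

/-- part of the orbit tree -/
def itp5_4 : Tree := (.node (.node (.node (.node (.node (.node .leaf (163907, 0, 15, 259745) .leaf) (163909, 0, 15, 135910) (.node .leaf (163910, 0, 16, 238522) .leaf)) (163913, 0, 14, 34663) (.node (.node .leaf (163914, 0, 17, 78687) .leaf) (163916, 0, 14, 23129) (.node .leaf (163919, 0, 13, 69640) .leaf))) (163921, 0, 15, 57041) (.node (.node (.node .leaf (163922, 0, 13, 240209) .leaf) (163924, 0, 16, 146750) (.node .leaf (163927, 0, 11, 112599) .leaf)) (163928, 0, 15, 138031) (.node (.node .leaf (163931, 0, 15, 72163) .leaf) (163933, 0, 17, 36492) (.node .leaf (163934, 0, 16, 81872) .leaf)))) (163937, 0, 15, 109937) (.node (.node (.node (.node .leaf (163938, 0, 17, 7474) .leaf) (163940, 0, 17, 79554) (.node .leaf (163943, 0, 17, 50295) .leaf)) (163944, 0, 16, 238403) (.node (.node .leaf (163947, 0, 18, 135711) .leaf) (163949, 0, 16, 242122) (.node .leaf (163950, 0, 12, 144428) .leaf))) (163952, 0, 18, 210242) (.node (.node (.node .leaf (163955, 0, 17, 165121) .leaf) (163957, 0, 16, 257031)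 (.node .leaf (163958, 0, 17, 154692) .leaf)) (163961, 0, 18, 127164) (.node (.node .leaf (163962, 0, 17, 146887) .leaf) (163964, 0, 14, 240296) (.node .leaf (163967, 0, 12, 138228) .leaf))))) (163969, 0, 14, 230680) (.node (.node (.node (.node (.node .leaf (163970, 0, 16, 191307) .leaf) (163972, 0, 15, 229965) (.node .leaf (163975, 0, 13, 143886) .leaf)) (163976, 0, 18, 106230) (.node (.node .leaf (163979, 0, 12, 11957) .leaf) (163981, 0, 16, 83891) (.node .leaf (163982, 0, 16, 41413) .leaf))) (163984, 0, 9, 115515) (.node (.node (.node .leaf (163987, 0, 17, 29560) .leaf) (163989, 0, 14, 232691) (.node .leaf (163990, 0, 18, 146863) .leaf)) (163993, 0, 12, 198341) (.node (.node .leaf (163994, 0, 16, 177798) .leaf) (163996, 0, 17, 253824) (.node .leaf (163999, 0, 17, 36381) .leaf)))) (164000, 0, 15, 41276) (.node (.node (.node (.node .leaf (164003, 0, 16, 65752) .leaf) (164005, 0, 14, 34575) (.node .leaf (164006, 0, 19, 79443) .leaf)) (164009, 0, 12, 161125) (.node (.node .leaf (164010, 0, 19, 247078) .leaf) (164012, 0, 14, 144573)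 (.node .leaf (164015, 0, 13, 230881) .leaf))) (164017, 0, 15, 36580) (.node (.node (.node .leaf (164018, 0, 3, 81848) .leaf) (164020, 0, 17, 43223) (.node .leaf (164023, 0, 15, 72075) .leaf)) (164024, 0, 15, 146774) (.node (.node .leaf (164027, 0, 17, 89365) .leaf) (164029, 0, 15, 138085) (.node .leaf (164030, 0, 18, 99408) .leaf))))))

/-- part of the orbit tree -/
def itp5_5 : Tree := (.node itp5_1 (163680, 0, 14, 36359) itp5_2)

/-- part of the orbit tree -/
def itp5_6 : Tree := (.node itp5_3 (163904, 0, 13, 149218) itp5_4)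

/-- part of the orbit tree -/
def itp5_7 : Tree := (.node (.node (.node (.node (.node (.node .leaf (164034, 0, 13, 98765) .leaf) (164036, 0, 15, 261025) (.node .leaf (164039, 0, 18, 88200) .leaf)) (164040, 0, 8, 193648) (.node (.node .leaf (164043, 0, 18, 214067) .leaf) (164045, 0, 13, 83987) (.node .leaf (164046, 0, 12, 63823) .leaf))) (164048, 0, 16, 174525) (.node (.node (.node .leaf (164051, 0, 18, 203262) .leaf) (164053, 0, 17, 251001) (.node .leaf (164054, 0, 18, 156965) .leaf)) (164057, 0, 17, 27715) (.node (.node .leaf (164058, 0, 15, 121856) .leaf) (164060, 0, 16, 92107) (.node .leaf (164063, 0, 17, 66885) .leaf)))) (164064, 0, 12, 252445) (.node (.node (.node (.node .leaf (164067, 0, 16, 84202) .leaf) (164069, 0, 14, 57221) (.node .leaf (164070, 0, 13, 93913) .leaf)) (164073, 0, 16, 73699) (.node (.node .leaf (164074, 0, 17, 260952) .leaf) (164076, 0, 16, 158775) (.node .leaf (164079, 0, 17, 30437) .leaf))) (164081, 0, 17, 54894) (.node (.node (.node .leaf (164082, 0, 16, 91954) .leaf) (164084, 0, 17, 105323) (.node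 .leaf (164087, 0, 15, 11048) .leaf)) (164088, 0, 16, 231376) (.node (.node .leaf (164091, 0, 17, 251008) .leaf) (164093, 0, 12, 220821) (.node .leaf (164094, 0, 16, 192214) .leaf))))) (164096, 0, 14, 167440) (.node (.node (.node (.node (.node .leaf (164099, 0, 18, 212563) .leaf) (164101, 0, 17, 153429) (.node .leaf (164102, 0, 16, 255766) .leaf)) (164105, 0, 18, 19438) (.node (.node .leaf (164106, 0, 16, 129965) .leaf) (164108, 0, 17, 37547) (.node .leaf (164111, 0, 17, 110433) .leaf))) (164113, 0, 14, 173156) (.node (.node (.node .leaf (164114, 0, 17, 202040) .leaf) (164116, 0, 14, 53094) (.node .leaf (164119, 0, 14, 209675) .leaf)) (164120, 0, 17, 185309) (.node (.node .leaf (164123, 0, 12, 108170) .leaf) (164125, 0, 16, 12773) (.node .leaf (164126, 0, 19, 244443) .leaf)))) (164129, 0, 11, 110488) (.node (.node (.node (.node .leaf (164130, 0, 15, 54720) .leaf) (164132, 0, 18, 113862) (.node .leaf (164135, 0, 16, 3205) .leaf)) (164136, 0, 13, 203818) (.node (.node .leaf (164139, 0, 16, 135230) .leaf) (164141, 0, 12, 227640)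 (.node .leaf (164142, 0, 17, 166725) .leaf))) (164144, 0, 11, 261552) (.node (.node (.node .leaf (164147, 0, 15, 12572) .leaf) (164149, 0, 16, 108147) (.node .leaf (164150, 0, 14, 169142) .leaf)) (164153, 0, 15, 79950) (.node (.node .leaf (164154, 0, 17, 164526) .leaf) (164156, 0, 15, 202177) (.node .leaf (164159, 0, 14, 20808) .leaf))))))

/-- part of the orbit tree -/
def itp5_8 : Tree := (.node (.node (.node (.node (.node (.node .leaf (164163, 0, 16, 21717) .leaf) (164165, 0, 19, 193797) (.node .leaf (164166, 0, 13, 214105) .leaf)) (164169, 0, 16, 205160) (.node (.node .leaf (164170, 0, 16, 168235) .leaf) (164172, 0, 17, 18103) (.node .leaf (164175, 0, 14, 129003) .leaf))) (164177, 0, 17, 228517) (.node (.node (.node .leaf (164178, 0, 15, 216498) .leaf) (164180, 0, 18, 187101) (.node .leaf (164183, 0, 17, 136611) .leaf)) (164184, 0, 15, 112987) (.node (.node .leaf (164187, 0, 17, 130560) .leaf) (164189, 0, 15, 26991) (.node .leaf (164190, 0, 15, 120883) .leaf)))) (164193, 0, 14, 134917) (.node (.node (.node (.node .leaf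 (164194, 0, 17, 245574) .leaf) (164196, 0, 15, 185920) (.node .leaf (164199, 0, 12, 222723) .leaf)) (164200, 0, 19, 214176) (.node (.node .leaf (164203, 0, 18, 194044) .leaf) (164205, 0, 18, 5054) (.node .leaf (164206, 0, 14, 107517) .leaf))) (164208, 0, 18, 38710) (.node (.node (.node .leaf (164211, 0, 13, 75637) .leaf) (164213, 0, 16, 20083) (.node .leaf (164214, 0, 17, 20389) .leaf)) (164217, 0, 18, 152264) (.node (.node .leaf (164218, 0, 12, 186916) .leaf) (164220, 0, 17, 166797) (.node .leaf (164223, 0, 18, 211918) .leaf))))) (164225, 0, 15, 221947) (.node (.node (.node (.node (.node .leaf (164226, 0, 13, 185255) .leaf) (164228, 0, 15, 214216) (.node .leaf (164231, 0, 18, 102522) .leaf)) (164232, 0, 17, 119113) (.node (.node .leaf (164235, 0, 16, 232641) .leaf) (164237, 0, 16, 189895) (.node .leaf (164238, 0, 17, 218500) .leaf))) (164240, 0, 18, 155983) (.node (.node (.node .leaf (164243, 0, 10, 250124) .leaf) (164245, 0, 16, 224016) (.node .leaf (164246, 0, 16, 198729) .leaf)) (164249, 0, 15, 130705) (.node (.node .leaf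 (164250, 0, 16, 20429) .leaf) (164252, 0, 16, 120994) (.node .leaf (164255, 0, 16, 118199) .leaf)))) (164256, 0, 18, 201455) (.node (.node (.node (.node .leaf (164259, 0, 14, 128899) .leaf) (164261, 0, 17, 248746) (.node .leaf (164262, 0, 16, 119216) .leaf)) (164265, 0, 17, 120593) (.node (.node .leaf (164266, 0, 17, 26450) .leaf) (164268, 0, 16, 69204) (.node .leaf (164271, 0, 16, 48663) .leaf))) (164273, 0, 15, 26887) (.node (.node (.node .leaf (164274, 0, 15, 120923) .leaf) (164276, 0, 16, 86937) (.node .leaf (164279, 0, 17, 58330) .leaf)) (164280, 0, 18, 216866) (.node (.node .leaf (164283, 0, 15, 196449) .leaf) (164285, 0, 17, 195718) (.node .leaf (164286, 0, 15, 216538) .leaf))))))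

/-- part of the orbit tree -/
def itp5_9 : Tree := (.node (.node (.node (.node (.node (.node .leaf (164290, 0, 17, 166701) .leaf) (164292, 0, 16, 203842) (.node .leaf (164295, 0, 19, 175390) .leaf)) (164296, 0, 16, 87556) (.node (.node .leaf (164299, 0, 17, 14495) .leaf) (164301, 0, 16, 102209) (.node .leaf (164302, 0, 18, 7852) .leaf))) (164304, 0, 17, 202153) (.node (.node (.node .leaf (164307, 0, 17, 173301) .leaf) (164309, 0, 16, 209818) (.node .leaf (164310, 0, 13, 164550) .leaf)) (164313, 0, 15, 108059) (.node (.node .leaf (164314, 0, 17, 5959) .leaf) (164316, 0, 14, 202610) (.node .leaf (164319, 0, 16, 173873) .leaf)))) (164320, 0, 13, 7765) (.node (.node (.node (.node .leaf (164323, 0, 16, 116778) .leaf) (164325, 0, 16, 41260) (.node .leaf (164326, 0, 17, 69999) .leaf)) (164329, 0, 16, 175591) (.node (.node .leaf (164330, 0, 18, 203963) .leaf) (164332, 0, 15, 156882) (.node .leaf (164335, 0, 14, 251025) .leaf))) (164337, 0, 16, 12685) (.node (.node (.node .leaf (164338, 0, 18, 98513) .leaf) (164340, 0, 18, 145695)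 (.node .leaf (164343, 0, 14, 108258) .leaf)) (164344, 0, 17, 164415) (.node (.node .leaf (164347, 0, 14, 209763) .leaf) (164349, 0, 18, 173068) (.node .leaf (164350, 0, 14, 202064) .leaf))))) (164354, 0, 13, 98561) (.node (.node (.node (.node (.node .leaf (164355, 0, 16, 45143) .leaf) (164356, 0, 15, 80183) (.node .leaf (164357, 0, 15, 151360) .leaf)) (164360, 0, 17, 206220) (.node (.node .leaf (164361, 0, 15, 56001) .leaf) (164366, 0, 15, 150666) (.node .leaf (164367, 0, 18, 85422) .leaf))) (164368, 0, 18, 8069) (.node (.node (.node .leaf (164369, 0, 17, 149163) .leaf) (164374, 0, 18, 100586) (.node .leaf (164375, 0, 15, 192801) .leaf)) (164378, 0, 16, 3580) (.node (.node .leaf (164379, 0, 18, 83013) .leaf) (164380, 0, 17, 91386) (.node .leaf (164381, 0, 13, 54058) .leaf)))) (164384, 0, 16, 201849) (.node (.node (.node (.node .leaf (164385, 0, 15, 191367) .leaf) (164390, 0, 16, 164630) (.node .leaf (164391, 0, 16, 230017) .leaf)) (164394, 0, 13, 5783) (.node (.node .leaf (164395, 0, 17, 106042) .leaf) (164396, 0, 15, 5978)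 (.node .leaf (164397, 0, 17, 63292) .leaf))) (164402, 0, 17, 74641) (.node (.node (.node .leaf (164403, 0, 16, 115703) .leaf) (164404, 0, 17, 204178) (.node .leaf (164405, 0, 17, 83132) .leaf)) (164408, 0, 9, 100371) (.node (.node .leaf (164409, 0, 16, 250173) .leaf) (164414, 0, 15, 8060) (.node .leaf (164415, 0, 16, 149074) .leaf))))))

/-- part of the orbit tree -/
def itp5_10 : Tree := (.node (.node (.node (.node (.node (.node .leaf (164419, 0, 12, 252625) .leaf) (164420, 0, 14, 20196) (.node .leaf (164421, 0, 12, 177111) .leaf)) (164424, 0, 16, 187237) (.node (.node .leaf (164425, 0, 17, 33355) .leaf) (164430, 0, 14, 75276) (.node .leaf (164431, 0, 18, 116330) .leaf))) (164432, 0, 14, 4807) (.node (.node (.node .leaf (164433, 0, 17, 138785) .leaf) (164438, 0, 15, 97217) (.node .leaf (164439, 0, 17, 105383) .leaf)) (164442, 0, 17, 223098) (.node (.node .leaf (164443, 0, 18, 231196) .leaf) (164444, 0, 14, 184974) (.node .leaf (164445, 0, 18, 35744) .leaf)))) (164448, 0, 18, 216307) (.node (.node (.node (.node .leaf (164449,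 0, 13, 98561) .leaf) (164454, 0, 17, 2145) (.node .leaf (164455, 0, 16, 33458) .leaf)) (164458, 0, 18, 19997) (.node (.node .leaf (164459, 0, 16, 193724) .leaf) (164460, 0, 18, 228828) (.node .leaf (164461, 0, 15, 236986) .leaf))) (164466, 0, 17, 184951) (.node (.node (.node .leaf (164467, 0, 16, 35673) .leaf) (164468, 0, 15, 214296) (.node .leaf (164469, 0, 16, 245879) .leaf)) (164472, 0, 18, 81066) (.node (.node .leaf (164473, 0, 15, 122060) .leaf) (164478, 0, 19, 21932) (.node .leaf (164479, 0, 17, 46538) .leaf))))) (164480, 0, 17, 235294) (.node (.node (.node (.node (.node .leaf (164481, 0, 16, 229428) .leaf) (164486, 0, 17, 20085) (.node .leaf (164487, 0, 17, 137051) .leaf)) (164490, 0, 13, 187380) (.node (.node .leaf (164491, 0, 17, 33498) .leaf) (164492, 0, 16, 101285) (.node .leaf (164493, 0, 15, 93123) .leaf))) (164498, 0, 16, 18334) (.node (.node (.node .leaf (164499, 0, 17, 138928) .leaf) (164500, 0, 15, 119025) (.node .leaf (164501, 0, 17, 231903) .leaf)) (164504, 0, 16, 214384) (.node (.node .leaf (164505, 0, 15,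 207541) .leaf) (164510, 0, 15, 184863) (.node .leaf (164511, 0, 11, 35633) .leaf)))) (164514, 0, 14, 117966) (.node (.node (.node (.node .leaf (164515, 0, 18, 76968) .leaf) (164516, 0, 17, 187149) (.node .leaf (164517, 0, 14, 17838) .leaf)) (164520, 0, 16, 178547) (.node (.node .leaf (164521, 0, 16, 153877) .leaf) (164526, 0, 16, 249973) (.node .leaf (164527, 0, 14, 208915) .leaf))) (164528, 0, 15, 189630) (.node (.node (.node .leaf (164529, 0, 15, 35784) .leaf) (164534, 0, 15, 214409) (.node .leaf (164535, 0, 16, 72871) .leaf)) (164538, 0, 18, 102659) (.node (.node .leaf (164539, 0, 15, 231718) .leaf) (164540, 0, 17, 63493) .leaf)))))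

/-- part of the orbit tree -/
def itp5_11 : Tree := (.node itp5_7 (164160, 0, 18, 124054) itp5_8)

/-- part of the orbit tree -/
def itp5_12 : Tree := (.node itp5_9 (164418, 0, 13, 121227) itp5_10)

/-- part of the orbit tree -/
def itp5_13 : Tree := (.node itp5_5 (163744, 0, 15, 222948) itp5_6)

/-- part of the orbit tree -/
def itp5_14 : Tree := (.node itp5_11 (164289, 0, 13, 211569) itp5_12)

/-- part of the orbit tree -/
def itp5_15 : Tree := (.node (.node (.node (.node (.node (.node .leaf (164544, 0, 14, 64920) .leaf) (164545, 0, 16, 7678) (.node .leaf (164550, 0, 12, 103582) .leaf)) (164551, 0, 16, 151505) (.node (.node .leaf (164554, 0, 17, 231461) .leaf) (164555, 0, 15, 55888) (.node .leaf (164556, 0, 16, 201745) .leaf))) (164557, 0, 14, 131397) (.node (.node (.node .leaf (164562, 0, 15, 251368) .leaf) (164563, 0, 14, 149050) (.node .leaf (164564, 0, 16, 179438) .leaf)) (164565, 0, 18, 154760) (.node (.node .leaf (164568, 0, 17, 41045) .leaf) (164569, 0, 18, 83156) (.node .leaf (164574, 0, 17, 166549) .leaf)))) (164575,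 0, 15, 76085) (.node (.node (.node (.node .leaf (164578, 0, 16, 201960) .leaf) (164579, 0, 16, 85446) (.node .leaf (164580, 0, 18, 249678) .leaf)) (164581, 0, 14, 55977) (.node (.node .leaf (164584, 0, 15, 119797) .leaf) (164585, 0, 15, 151336) (.node .leaf (164590, 0, 14, 47859) .leaf))) (164591, 0, 17, 23189) (.node (.node (.node .leaf (164592, 0, 17, 101944) .leaf) (164593, 0, 11, 54082) (.node .leaf (164598, 0, 16, 204035) .leaf)) (164599, 0, 17, 1880) (.node (.node .leaf (164602, 0, 17, 195461) .leaf) (164603, 0, 18, 138211) (.node .leaf (164604, 0, 17, 234115) .leaf))))) (164605, 0, 16, 226021) (.node (.node (.node (.node (.node .leaf (164610, 0, 16, 258629) .leaf) (164611, 0, 14, 212940) (.node .leaf (164612, 0, 17, 170819) .leaf)) (164613, 0, 17, 162597) (.node (.node .leaf (164616, 0, 15, 156684) .leaf) (164617, 0, 18, 15650) (.node .leaf (164622, 0, 14, 126718) .leaf))) (164623, 0, 15, 69272) (.node (.node (.node .leaf (164624, 0, 18, 55861) .leaf) (164625, 0, 18, 14931) (.node .leaf (164630, 0, 15, 111411) .leaf))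 (164631, 0, 16, 86869) (.node (.node .leaf (164634, 0, 14, 260744) .leaf) (164635, 0, 12, 107430) (.node .leaf (164636, 0, 16, 181902) .leaf)))) (164637, 0, 15, 141032) (.node (.node (.node (.node .leaf (164640, 0, 15, 258970) .leaf) (164641, 0, 14, 109236) (.node .leaf (164646, 0, 15, 49299) .leaf)) (164647, 0, 18, 8437) (.node (.node .leaf (164650, 0, 12, 187432) .leaf) (164651, 0, 13, 174170) (.node .leaf (164652, 0, 17, 91675) .leaf))) (164653, 0, 15, 218440) (.node (.node (.node .leaf (164658, 0, 17, 164325) .leaf) (164659, 0, 17, 156035) (.node .leaf (164660, 0, 14, 260721) .leaf)) (164661, 0, 16, 107359) (.node (.node .leaf (164664, 0, 16, 128088) .leaf) (164665, 0, 18, 210654) (.node .leaf (164670, 0, 16, 63647) .leaf))))))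

/-- part of the orbit tree -/
def itp5_16 : Tree := (.node (.node (.node (.node (.node (.node .leaf (164674, 0, 16, 81512) .leaf) (164675, 0, 17, 223046) (.node .leaf (164676, 0, 17, 43271) .leaf)) (164677, 0, 14, 192553) (.node (.node .leaf (164680, 0, 18, 146566) .leaf) (164681, 0, 15, 199960) (.node .leaf (164686, 0, 17, 240617) .leaf))) (164687, 0, 17, 156702) (.node (.node (.node .leaf (164688, 0, 16, 241843) .leaf) (164689, 0, 17, 195010) (.node .leaf (164694, 0, 17, 186805) .leaf)) (164695, 0, 16, 145875) (.node (.node .leaf (164698, 0, 14, 50446) .leaf) (164699, 0, 17, 9576) (.node .leaf (164700, 0, 14, 109576) .leaf)))) (164701, 0, 16, 85102) (.node (.node (.node (.node .leaf (164704, 0, 18, 181011) .leaf) (164705, 0, 18, 140149) (.node .leaf (164710, 0, 15, 146559) .leaf)) (164711, 0, 16, 25937) (.node (.node .leaf (164714, 0, 16, 112302) .leaf) (164715, 0, 14, 87752) (.node .leaf (164716, 0, 18, 81553) .leaf))) (164717, 0, 16, 223167) (.node (.node (.node .leaf (164722, 0, 17, 144788) .leaf) (164723, 0, 17, 68357)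 (.node .leaf (164724, 0, 17, 238331) .leaf)) (164725, 0, 15, 130005) (.node (.node .leaf (164728, 0, 14, 171742) .leaf) (164729, 0, 16, 163512) (.node .leaf (164734, 0, 18, 260056) .leaf))))) (164735, 0, 16, 202686) (.node (.node (.node (.node (.node .leaf (164736, 0, 16, 81657) .leaf) (164737, 0, 17, 223191) (.node .leaf (164742, 0, 15, 43414) .leaf)) (164743, 0, 18, 113674) (.node (.node .leaf (164746, 0, 17, 213207) .leaf) (164747, 0, 16, 25913) (.node .leaf (164748, 0, 17, 141777) .leaf))) (164749, 0, 17, 182711) (.node (.node (.node .leaf (164754, 0, 17, 41085) .leaf) (164755, 0, 18, 261500) (.node .leaf (164756, 0, 17, 160796) .leaf)) (164757, 0, 13, 169082) (.node (.node .leaf (164760, 0, 14, 238227) .leaf) (164761, 0, 13, 35009) (.node .leaf (164766, 0, 15, 65953) .leaf)))) (164767, 0, 16, 27858) (.node (.node (.node (.node .leaf (164770, 0, 16, 240513) .leaf) (164771, 0, 10, 127663) (.node .leaf (164772, 0, 15, 146670) .leaf)) (164773, 0, 13, 255962) (.node (.node .leaf (164776, 0, 16, 43375) .leaf) (164777, 0, 17,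 129889) (.node .leaf (164782, 0, 17, 81408) .leaf))) (164783, 0, 16, 37479) (.node (.node (.node .leaf (164784, 0, 17, 83658) .leaf) (164785, 0, 17, 108204) (.node .leaf (164790, 0, 15, 12236) .leaf)) (164791, 0, 15, 53162) (.node (.node .leaf (164794, 0, 14, 144247) .leaf) (164795, 0, 15, 185105) (.node .leaf (164796, 0, 18, 219761) .leaf))))))

/-- part of the orbit tree -/
def itp5_17 : Tree := (.node (.node (.node (.node (.node (.node .leaf (164800, 0, 15, 91763) .leaf) (164801, 0, 18, 245642) (.node .leaf (164806, 0, 17, 145130) .leaf)) (164807, 0, 16, 174130) (.node (.node .leaf (164810, 0, 16, 10833) .leaf) (164811, 0, 15, 15795) (.node .leaf (164812, 0, 18, 259058) .leaf))) (164813, 0, 13, 107313) (.node (.node (.node .leaf (164818, 0, 15, 30620) .leaf) (164819, 0, 14, 38906) (.node .leaf (164820, 0, 17, 94104) .leaf)) (164821, 0, 17, 130812) (.node (.node .leaf (164824, 0, 16, 197153) .leaf) (164825, 0, 14, 107319) (.node .leaf (164830, 0, 14, 158503) .leaf)))) (164831, 0, 17, 13400) (.node (.node (.node (.node .leaf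 (164834, 0, 18, 66620) .leaf) (164835, 0, 14, 123994) (.node .leaf (164836, 0, 16, 27962) .leaf)) (164837, 0, 18, 36188) (.node (.node .leaf (164840, 0, 18, 160129) .leaf) (164841, 0, 15, 174283) (.node .leaf (164846, 0, 15, 91786) .leaf))) (164847, 0, 16, 212900) (.node (.node (.node .leaf (164848, 0, 13, 159119) .leaf) (164849, 0, 14, 13473) (.node .leaf (164854, 0, 17, 260832) .leaf)) (164855, 0, 15, 238892) (.node (.node .leaf (164858, 0, 17, 88561) .leaf) (164859, 0, 18, 113047) (.node .leaf (164860, 0, 16, 12535) .leaf))))) (164861, 0, 15, 53393) (.node (.node (.node (.node (.node .leaf (164865, 0, 18, 54954) .leaf) (164867, 0, 16, 99983) (.node .leaf (164868, 0, 16, 204470) .leaf)) (164870, 0, 16, 90058) (.node (.node .leaf (164872, 0, 13, 101175) .leaf) (164874, 0, 17, 156485) (.node .leaf (164877, 0, 14, 182801) .leaf))) (164879, 0, 14, 148854) (.node (.node (.node .leaf (164880, 0, 15, 202589) .leaf) (164882, 0, 17, 204476) (.node .leaf (164885, 0, 16, 169948) .leaf)) (164887, 0, 17, 55580) (.node (.node .leaf (164889,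 0, 15, 35687) .leaf) (164891, 0, 15, 150685) (.node .leaf (164892, 0, 16, 99036) .leaf)))) (164894, 0, 17, 66055) (.node (.node (.node (.node .leaf (164896, 0, 14, 212281) .leaf) (164898, 0, 14, 259283) (.node .leaf (164901, 0, 12, 14994) .leaf)) (164903, 0, 17, 177241) (.node (.node .leaf (164905, 0, 14, 129223) .leaf) (164907, 0, 15, 83809) (.node .leaf (164908, 0, 17, 166176) .leaf))) (164910, 0, 15, 90450) (.node (.node (.node .leaf (164913, 0, 16, 107786) .leaf) (164915, 0, 13, 62767) (.node .leaf (164916, 0, 14, 5450) .leaf)) (164918, 0, 16, 261432) (.node (.node .leaf (164920, 0, 17, 221428) .leaf) (164922, 0, 15, 143569) (.node .leaf (164925, 0, 16, 173816) .leaf))))))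

/-- part of the orbit tree -/
def itp5_18 : Tree := (.node (.node (.node (.node (.node (.node .leaf (164929, 0, 14, 244780) .leaf) (164931, 0, 15, 191497) (.node .leaf (164932, 0, 16, 222569) .leaf)) (164934, 0, 16, 44622) (.node (.node .leaf (164936, 0, 13, 119741) .leaf) (164938, 0, 18, 146383) (.node .leaf (164941, 0, 17, 106647) .leaf))) (164943, 0, 17, 61618) (.node (.node (.node .leaf (164944, 0, 16, 74783) .leaf) (164946, 0, 17, 42917) (.node .leaf (164949, 0, 16, 130394) .leaf)) (164951, 0, 15, 33174) (.node (.node .leaf (164953, 0, 17, 130149) .leaf) (164955, 0, 15, 176580) (.node .leaf (164956, 0, 15, 121430) .leaf)))) (164958, 0, 16, 157825) (.node (.node (.node (.node .leaf (164960, 0, 11, 17451) .leaf) (164962, 0, 17, 67482) (.node .leaf (164965, 0, 18, 36602) .leaf)) (164967, 0, 12, 122591) (.node (.node .leaf (164969, 0, 17, 194457) .leaf) (164971, 0, 16, 73707) (.node .leaf (164972, 0, 17, 184746) .leaf))) (164974, 0, 15, 203553) (.node (.node (.node .leaf (164977, 0, 17, 184204) .leaf) (164979, 0, 11, 230273)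 (.node .leaf (164980, 0, 13, 19904) .leaf)) (164982, 0, 15, 214764) (.node (.node .leaf (164984, 0, 17, 186433) .leaf) (164986, 0, 16, 88663) (.node .leaf (164989, 0, 14, 54071) .leaf))))) (164991, 0, 12, 71168) (.node (.node (.node (.node (.node .leaf (164992, 0, 14, 184770) .leaf) (164994, 0, 16, 80304) (.node .leaf (164997, 0, 16, 194545) .leaf)) (164999, 0, 15, 73603) (.node (.node .leaf (165001, 0, 17, 25656) .leaf) (165003, 0, 15, 231938) (.node .leaf (165004, 0, 16, 48509) .leaf))) (165006, 0, 16, 240689) (.node (.node (.node .leaf (165009, 0, 12, 196122) .leaf) (165011, 0, 16, 92624) (.node .leaf (165012, 0, 18, 186409) .leaf)) (165014, 0, 17, 110741) (.node (.node .leaf (165016, 0, 17, 195595) .leaf) (165018, 0, 12, 240686) (.node .leaf (165021, 0, 18, 140622) .leaf)))) (165023, 0, 15, 230377) (.node (.node (.node (.node .leaf (165025, 0, 17, 84565) .leaf) (165027, 0, 14, 138644) (.node .leaf (165028, 0, 17, 103184) .leaf)) (165030, 0, 15, 146343) (.node (.node .leaf (165032, 0, 13, 214612) .leaf) (165034, 0, 15, 188302)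 (.node .leaf (165037, 0, 17, 218862) .leaf))) (165039, 0, 16, 34837) (.node (.node (.node .leaf (165040, 0, 18, 121406) .leaf) (165042, 0, 13, 164419) (.node .leaf (165045, 0, 16, 199459) .leaf)) (165047, 0, 17, 154374) (.node (.node .leaf (165049, 0, 12, 223628) .leaf) (165051, 0, 15, 18365) (.node .leaf (165052, 0, 15, 217023) .leaf))))))

/-- part of the orbit tree -/
def itp5_19 : Tree := (.node itp5_15 (164671, 0, 15, 172465) itp5_16)

/-- part of the orbit tree -/
def itp5_20 : Tree := (.node itp5_17 (164927, 0, 12, 85642) itp5_18)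

/-- part of the orbit tree -/
def itp5_21 : Tree := (.node (.node (.node (.node (.node (.node .leaf (165056, 0, 16, 166216) .leaf) (165058, 0, 14, 39781) (.node .leaf (165061, 0, 18, 175995) .leaf)) (165063, 0, 16, 83721) (.node (.node .leaf (165065, 0, 13, 15098) .leaf) (165067, 0, 15, 155291) (.node .leaf (165068, 0, 15, 251899) .leaf))) (165070, 0, 14, 165854) (.node (.node (.node .leaf (165073, 0, 15, 217971) .leaf) (165075, 0, 12, 131926) (.node .leaf (165076, 0, 16, 231990) .leaf)) (165078, 0, 14, 92369) (.node (.node .leaf (165080, 0, 18, 104077) .leaf) (165082, 0, 12, 50856) (.node .leaf (165085, 0, 17, 13073) .leaf)))) (165087, 0, 18, 8173) (.node (.node (.node (.node .leaf (165089, 0, 17, 139475) .leaf) (165091, 0, 19, 148766) (.node .leaf (165092, 0, 18, 101215) .leaf)) (165094, 0, 19, 240051) (.node (.node .leaf (165096, 0, 15, 204510) .leaf) (165098, 0, 16, 111880) (.node .leaf (165101, 0, 14, 15464) .leaf))) (165103, 0, 16, 53407) (.node (.node (.node .leaf (165104, 0, 14, 98996) .leaf) (165106, 0, 17, 125125)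 (.node .leaf (165109, 0, 18, 107655) .leaf)) (165111, 0, 17, 150773) (.node (.node .leaf (165113, 0, 18, 163102) .leaf) (165115, 0, 16, 55668) (.node .leaf (165116, 0, 16, 173147) .leaf))))) (165118, 0, 15, 259198) (.node (.node (.node (.node (.node .leaf (165121, 0, 16, 226526) .leaf) (165123, 0, 18, 140539) (.node .leaf (165124, 0, 17, 260437) .leaf)) (165126, 0, 19, 196030) (.node (.node .leaf (165128, 0, 17, 93396) .leaf) (165130, 0, 16, 57605) (.node .leaf (165133, 0, 16, 84711) .leaf))) (165135, 0, 16, 172693) (.node (.node (.node .leaf (165136, 0, 17, 126189) .leaf) (165138, 0, 16, 6348) (.node .leaf (165141, 0, 15, 251533) .leaf)) (165143, 0, 16, 16127) (.node (.node .leaf (165145, 0, 15, 82700) .leaf) (165147, 0, 15, 162102) (.node .leaf (165148, 0, 18, 91455) .leaf)))) (165150, 0, 17, 172147) (.node (.node (.node (.node .leaf (165152, 0, 20, 64322) .leaf) (165154, 0, 17, 118632) (.node .leaf (165157, 0, 16, 56689) .leaf)) (165159, 0, 17, 71213) (.node (.node .leaf (165161, 0, 17, 154291) .leaf) (165163, 0, 17, 199318)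 (.node .leaf (165164, 0, 18, 159427) .leaf))) (165166, 0, 16, 250835) (.node (.node (.node .leaf (165169, 0, 14, 132990) .leaf) (165171, 0, 17, 218971) (.node .leaf (165172, 0, 17, 187963) .leaf)) (165174, 0, 19, 203483) (.node (.node .leaf (165176, 0, 17, 157480) .leaf) (165178, 0, 17, 103077) (.node .leaf (165181, 0, 18, 7109) .leaf))))))

/-- part of the orbit tree -/
def itp5_22 : Tree := (.node (.node (.node (.node (.node (.node .leaf (165185, 0, 17, 231404) .leaf) (165187, 0, 16, 28574) (.node .leaf (165188, 0, 16, 50973) .leaf)) (165190, 0, 16, 18861) (.node (.node .leaf (165192, 0, 16, 187302) .leaf) (165194, 0, 15, 187436) (.node .leaf (165197, 0, 16, 131811) .leaf))) (165199, 0, 18, 195103) (.node (.node (.node .leaf (165200, 0, 15, 165483) .leaf) (165202, 0, 16, 16454) (.node .leaf (165205, 0, 17, 155438) .leaf)) (165207, 0, 17, 26229) (.node (.node .leaf (165209, 0, 17, 72582) .leaf) (165211, 0, 17, 70576) (.node .leaf (165212, 0, 19, 81333) .leaf)))) (165214, 0, 10, 185799) (.node (.node (.node (.node .leaf (165216,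 0, 15, 259531) .leaf) (165218, 0, 16, 173550) (.node .leaf (165221, 0, 16, 208014) .leaf)) (165223, 0, 16, 224649) (.node (.node .leaf (165225, 0, 17, 135290) .leaf) (165227, 0, 16, 129032) (.node .leaf (165228, 0, 16, 125296) .leaf))) (165230, 0, 15, 122427) (.node (.node (.node .leaf (165233, 0, 16, 93688) .leaf) (165235, 0, 17, 15837) (.node .leaf (165236, 0, 15, 43555) .leaf)) (165238, 0, 12, 58520) (.node (.node .leaf (165240, 0, 16, 239622) .leaf) (165242, 0, 16, 194595) (.node .leaf (165245, 0, 15, 137617) .leaf))))) (165247, 0, 18, 139622) (.node (.node (.node (.node (.node .leaf (165248, 0, 16, 144929) .leaf) (165250, 0, 14, 122451) (.node .leaf (165253, 0, 16, 121591) .leaf)) (165255, 0, 16, 129120) (.node (.node .leaf (165257, 0, 15, 247372) .leaf) (165259, 0, 16, 224737) (.node .leaf (165260, 0, 9, 41888) .leaf))) (165262, 0, 16, 151340) (.node (.node (.node .leaf (165265, 0, 15, 137721) .leaf) (165267, 0, 16, 127371) (.node .leaf (165268, 0, 15, 147402) .leaf)) (165270, 0, 14, 120760) (.node (.node .leaf (165272,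 0, 17, 89727) .leaf) (165274, 0, 16, 3674) (.node .leaf (165277, 0, 18, 100154) .leaf)))) (165279, 0, 15, 55071) (.node (.node (.node (.node .leaf (165281, 0, 17, 190497) .leaf) (165283, 0, 12, 243716) (.node .leaf (165284, 0, 17, 143716) .leaf)) (165286, 0, 15, 221505) (.node (.node .leaf (165288, 0, 15, 238007) .leaf) (165290, 0, 16, 97786) (.node .leaf (165293, 0, 15, 231300) .leaf))) (165295, 0, 17, 28662) (.node (.node (.node .leaf (165296, 0, 16, 28690) .leaf) (165298, 0, 13, 185775) (.node .leaf (165301, 0, 17, 43351) .leaf)) (165303, 0, 16, 129394) (.node (.node .leaf (165305, 0, 15, 177644) .leaf) (165307, 0, 15, 26141) (.node .leaf (165308, 0, 14, 239708) .leaf))))))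

/-- part of the orbit tree -/
def itp5_23 : Tree := (.node (.node (.node (.node (.node (.node .leaf (165312, 0, 17, 159403) .leaf) (165314, 0, 13, 211217) (.node .leaf (165317, 0, 16, 149656) .leaf)) (165319, 0, 12, 254036) (.node (.node .leaf (165321, 0, 14, 44234) .leaf) (165323, 0, 17, 210283) (.node .leaf (165324, 0, 17, 64298) .leaf))) (165326, 0, 16, 75178) (.node (.node (.node .leaf (165329, 0, 18, 61703) .leaf) (165331, 0, 16, 106786) (.node .leaf (165332, 0, 8, 157504) .leaf)) (165334, 0, 18, 96359) (.node (.node .leaf (165336, 0, 16, 62145) .leaf) (165338, 0, 16, 203443) (.node .leaf (165341, 0, 16, 191932) .leaf)))) (165343, 0, 15, 212096) (.node (.node (.node (.node .leaf (165345, 0, 16, 98983) .leaf) (165347, 0, 18, 172797) (.node .leaf (165348, 0, 18, 89058) .leaf)) (165350, 0, 15, 165070) (.node (.node .leaf (165352, 0, 16, 260413) .leaf) (165354, 0, 16, 137084) (.node .leaf (165357, 0, 14, 253710) .leaf))) (165359, 0, 17, 14204) (.node (.node (.node .leaf (165360, 0, 18, 91479) .leaf) (165362, 0, 16, 167205)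 (.node .leaf (165365, 0, 17, 82788) .leaf)) (165367, 0, 15, 168948) (.node (.node .leaf (165369, 0, 16, 122730) .leaf) (165371, 0, 18, 16023) (.node .leaf (165372, 0, 16, 67119) .leaf))))) (165374, 0, 16, 6308) (.node (.node (.node (.node (.node .leaf (165376, 0, 13, 91271) .leaf) (165377, 0, 16, 212393) (.node .leaf (165378, 0, 18, 84633) .leaf)) (165379, 0, 12, 54747) (.node (.node .leaf (165388, 0, 18, 132615) .leaf) (165389, 0, 14, 190049) (.node .leaf (165390, 0, 18, 218658) .leaf))) (165391, 0, 18, 243268) (.node (.node (.node .leaf (165396, 0, 17, 93548) .leaf) (165397, 0, 16, 209986) (.node .leaf (165398, 0, 17, 199663) .leaf)) (165399, 0, 17, 256905) (.node (.node .leaf (165400, 0, 14, 260333) .leaf) (165401, 0, 16, 106947) (.node .leaf (165402, 0, 14, 71508) .leaf)))) (165403, 0, 16, 128818) (.node (.node (.node (.node .leaf (165412, 0, 17, 206954) .leaf) (165413, 0, 18, 247820) (.node .leaf (165414, 0, 16, 161871) .leaf)) (165415, 0, 15, 170025) (.node (.node .leaf (165416, 0, 15, 79057) .leaf) (165417, 0, 14, 119991)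 (.node .leaf (165418, 0, 17, 25844) .leaf))) (165419, 0, 16, 82509) (.node (.node (.node .leaf (165424, 0, 17, 159611) .leaf) (165425, 0, 18, 13909) (.node .leaf (165426, 0, 16, 100105) .leaf)) (165427, 0, 17, 55647) (.node (.node .leaf (165436, 0, 17, 226727) .leaf) (165437, 0, 17, 234945) (.node .leaf (165438, 0, 18, 201352) .leaf))))))

/-- part of the orbit tree -/
def itp5_24 : Tree := (.node (.node (.node (.node (.node (.node .leaf (165440, 0, 15, 225338) .leaf) (165441, 0, 15, 222499) (.node .leaf (165442, 0, 15, 185471) .leaf)) (165443, 0, 15, 180345) (.node (.node .leaf (165452, 0, 17, 93313) .leaf) (165453, 0, 16, 101607) (.node .leaf (165454, 0, 12, 15524) .leaf))) (165455, 0, 14, 56514) (.node (.node (.node .leaf (165460, 0, 18, 79334) .leaf) (165461, 0, 17, 119082) (.node .leaf (165462, 0, 17, 187796) .leaf)) (165463, 0, 16, 33039) (.node (.node .leaf (165464, 0, 15, 208375) .leaf) (165465, 0, 14, 129353) (.node .leaf (165466, 0, 17, 163282) .leaf)))) (165467, 0, 13, 171444) (.node (.node (.node (.node .leaf (165476,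 0, 13, 17132) .leaf) (165477, 0, 12, 26420) (.node .leaf (165478, 0, 18, 70345) .leaf)) (165479, 0, 10, 127663) (.node (.node .leaf (165480, 0, 18, 43931) .leaf) (165481, 0, 15, 193205) (.node .leaf (165482, 0, 18, 200306) .leaf))) (165483, 0, 14, 257556) (.node (.node (.node .leaf (165488, 0, 13, 145393) .leaf) (165489, 0, 11, 28383) (.node .leaf (165490, 0, 14, 122755) .leaf)) (165491, 0, 15, 231085) (.node (.node .leaf (165500, 0, 18, 41584) .leaf) (165501, 0, 13, 195422) (.node .leaf (165502, 0, 14, 85764) .leaf))))) (165503, 0, 16, 110434) (.node (.node (.node (.node (.node .leaf (165508, 0, 17, 44019) .leaf) (165509, 0, 16, 193245) (.node .leaf (165510, 0, 17, 213889) .leaf)) (165511, 0, 12, 72367) (.node (.node .leaf (165512, 0, 14, 147058) .leaf) (165513, 0, 16, 26460) (.node .leaf (165514, 0, 15, 129035) .leaf))) (165515, 0, 17, 71789) (.node (.node (.node .leaf (165520, 0, 17, 41496) .leaf) (165521, 0, 15, 5509) (.node .leaf (165522, 0, 17, 107974) .leaf)) (165523, 0, 15, 70468) (.node (.node .leaf (165532, 0, 13,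 190808) .leaf) (165533, 0, 12, 133438) (.node .leaf (165534, 0, 18, 244093) .leaf)))) (165535, 0, 18, 219419) (.node (.node (.node (.node .leaf (165536, 0, 16, 240100) .leaf) (165537, 0, 13, 127178) (.node .leaf (165538, 0, 14, 54886) .leaf)) (165539, 0, 12, 13824) (.node (.node .leaf (165548, 0, 17, 236280) .leaf) (165549, 0, 17, 227998) (.node .leaf (165550, 0, 16, 185367) .leaf))) (165551, 0, 17, 36153) (.node (.node (.node .leaf (165556, 0, 17, 247605) .leaf) (165557, 0, 17, 206675) (.node .leaf (165558, 0, 16, 18557) .leaf)) (165559, 0, 9, 161654) (.node (.node .leaf (165560, 0, 17, 121742) .leaf) (165561, 0, 17, 224416) .leaf)))))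

/-- part of the orbit tree -/
def itp5_25 : Tree := (.node itp5_21 (165183, 0, 14, 84960) itp5_22)

/-- part of the orbit tree -/
def itp5_26 : Tree := (.node itp5_23 (165439, 0, 13, 84902) itp5_24)

/-- part of the orbit tree -/
def itp5_27 : Tree := (.node itp5_19 (164797, 0, 16, 194986) itp5_20)

/-- part of the orbit tree -/
def itp5_28 : Tree := (.node itp5_25 (165310, 0, 15, 212108) itp5_26)

/-- part of the orbit tree -/
def itp5_29 : Tree := (.node itp5_13 (164033, 0, 13, 253330) itp5_14)

/-- part of the orbit tree -/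
def itp5_30 : Tree := (.node itp5_27 (165054, 0, 17, 42957) itp5_28)

/-- part of the orbit tree -/
def itp5_31 : Tree := (.node (.node (.node (.node (.node (.node .leaf (165563, 0, 13, 34002) .leaf) (165572, 0, 17, 62329) (.node .leaf (165573, 0, 18, 81525) .leaf)) (165574, 0, 18, 36406) (.node (.node .leaf (165575, 0, 16, 28240) .leaf) (165576, 0, 14, 246440) (.node .leaf (165577, 0, 13, 16342) .leaf))) (165578, 0, 17, 168589) (.node (.node (.node .leaf (165579, 0, 15, 160491) .leaf) (165584, 0, 15, 237413) (.node .leaf (165585, 0, 15, 229123) .leaf)) (165586, 0, 16, 184128) (.node (.node .leaf (165587, 0, 17, 84942) .leaf) (165596, 0, 16, 159507) (.node .leaf (165597, 0, 15, 91064) .leaf)))) (165598, 0, 12, 100193) (.node (.node (.node (.node .leaf (165599, 0, 16, 13213) .leaf) (165600, 0, 16, 191685) (.node .leaf (165601, 0, 16, 134307) .leaf)) (165602, 0, 15, 244960) (.node (.node .leaf (165603, 0, 13, 147506) .leaf) (165612, 0, 18, 91375) (.node .leaf (165613, 0, 16, 212417) .leaf))) (165614, 0, 12, 106587) (.node (.node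 (.node .leaf (165615, 0, 16, 54707) .leaf) (165620, 0, 17, 44467) (.node .leaf (165621, 0, 18, 106923) .leaf)) (165622, 0, 17, 4343) (.node (.node .leaf (165623, 0, 18, 149977) .leaf) (165624, 0, 17, 93444) (.node .leaf (165625, 0, 16, 209962) .leaf))))) (165626, 0, 13, 165238) (.node (.node (.node (.node (.node .leaf (165627, 0, 17, 196939) .leaf) (165632, 0, 16, 243912) (.node .leaf (165633, 0, 12, 219310) .leaf)) (165634, 0, 18, 158486) (.node (.node .leaf (165635, 0, 15, 12856) .leaf) (165644, 0, 16, 107635) (.node .leaf (165645, 0, 15, 85963) .leaf))) (165646, 0, 14, 62550) (.node (.node (.node .leaf (165647, 0, 14, 174009) .leaf) (165652, 0, 14, 101007) (.node .leaf (165653, 0, 15, 72152) .leaf)) (165654, 0, 16, 156413) (.node (.node .leaf (165655, 0, 13, 18941) .leaf) (165656, 0, 13, 204558) (.node .leaf (165657, 0, 17, 197987) .leaf)))) (165658, 0, 17, 177440) (.node (.node (.node (.node .leaf (165659, 0, 16, 152902) .leaf) (165668, 0, 14, 164211) (.node .leaf (165669, 0, 17, 55389) .leaf)) (165670, 0, 17, 92417) (.node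 (.node .leaf (165671, 0, 14, 80477) .leaf) (165672, 0, 14, 169637) (.node .leaf (165673, 0, 14, 161475) .leaf))) (165674, 0, 18, 247424) (.node (.node (.node .leaf (165675, 0, 16, 206566) .leaf) (165680, 0, 16, 166040) (.node .leaf (165681, 0, 17, 142094) .leaf)) (165682, 0, 12, 236365) (.node (.node .leaf (165683, 0, 18, 228139) .leaf) (165692, 0, 17, 55251) (.node .leaf (165693, 0, 17, 14261) .leaf))))))

/-- part of the orbit tree -/
def itp5_32 : Tree := (.node (.node (.node (.node (.node (.node .leaf (165695, 0, 15, 92048) .leaf) (165696, 0, 18, 53838) (.node .leaf (165697, 0, 14, 230080) .leaf)) (165698, 0, 15, 98923) (.node (.node .leaf (165699, 0, 17, 27314) .leaf) (165708, 0, 18, 216687) (.node .leaf (165709, 0, 17, 71489) .leaf))) (165710, 0, 15, 237264) (.node (.node (.node .leaf (165711, 0, 16, 196403) .leaf) (165716, 0, 17, 119301) (.node .leaf (165717, 0, 17, 232235) .leaf)) (165718, 0, 17, 146039) (.node (.node .leaf (165719, 0, 15, 25433) .leaf) (165720, 0, 14, 36739) (.node .leaf (165721, 0, 17, 28645) .leaf))))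 (165722, 0, 14, 45046) (.node (.node (.node (.node .leaf (165723, 0, 17, 81856) .leaf) (165732, 0, 15, 186873) (.node .leaf (165733, 0, 17, 196862) .leaf)) (165734, 0, 16, 176317) (.node (.node .leaf (165735, 0, 17, 151771) .leaf) (165736, 0, 17, 19576) (.node .leaf (165737, 0, 16, 72773) .leaf))) (165738, 0, 14, 44038) (.node (.node (.node .leaf (165739, 0, 12, 19552) .leaf) (165744, 0, 15, 184338) (.node .leaf (165745, 0, 13, 82312) .leaf)) (165746, 0, 15, 61899) (.node (.node .leaf (165747, 0, 17, 4525) .leaf) (165756, 0, 17, 245077) (.node .leaf (165757, 0, 15, 138429) .leaf))))) (165758, 0, 15, 191856) (.node (.node (.node (.node (.node .leaf (165759, 0, 19, 128207) .leaf) (165764, 0, 12, 19472) (.node .leaf (165765, 0, 18, 136510) .leaf)) (165766, 0, 16, 18116) (.node (.node .leaf (165767, 0, 16, 130380) .leaf) (165768, 0, 13, 186769) (.node .leaf (165769, 0, 16, 256572) .leaf))) (165770, 0, 15, 154239) (.node (.node (.node .leaf (165771, 0, 19, 223437) .leaf) (165776, 0, 14, 17915) (.node .leaf (165777, 0, 19, 243697)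 .leaf)) (165778, 0, 17, 241033) (.node (.node .leaf (165779, 0, 16, 128167) .leaf) (165788, 0, 14, 84780) (.node .leaf (165789, 0, 11, 35156) .leaf)))) (165790, 0, 15, 6921) (.node (.node (.node (.node .leaf (165791, 0, 17, 221478) .leaf) (165792, 0, 15, 140343) (.node .leaf (165793, 0, 17, 181329) .leaf)) (165794, 0, 16, 42613) (.node (.node .leaf (165795, 0, 16, 234612) .leaf) (165804, 0, 13, 121734) (.node .leaf (165805, 0, 18, 55530) .leaf))) (165806, 0, 18, 144372) (.node (.node (.node .leaf (165807, 0, 15, 100559) .leaf) (165812, 0, 14, 25921) (.node .leaf (165813, 0, 15, 73410) .leaf)) (165814, 0, 16, 44958) (.node (.node .leaf (165815, 0, 13, 120066) .leaf) (165816, 0, 9, 119405) (.node .leaf (165817, 0, 16, 170396) .leaf))))))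

/-- part of the orbit tree -/
def itp5_33 : Tree := (.node (.node (.node (.node (.node (.node .leaf (165819, 0, 16, 25393) .leaf) (165828, 0, 18, 5274) (.node .leaf (165829, 0, 17, 150964) .leaf)) (165830, 0, 18, 261352) (.node (.node .leaf (165831, 0, 15, 248868) .leaf) (165832, 0, 13, 164123) (.node .leaf (165833, 0, 17, 32954) .leaf))) (165834, 0, 17, 92521) (.node (.node (.node .leaf (165835, 0, 16, 118943) .leaf) (165840, 0, 18, 15633) (.node .leaf (165841, 0, 17, 56695) .leaf)) (165842, 0, 15, 259331) (.node (.node .leaf (165843, 0, 16, 109613) .leaf) (165852, 0, 16, 166128) (.node .leaf (165853, 0, 16, 53726) .leaf)))) (165854, 0, 13, 225679) (.node (.node (.node (.node .leaf (165855, 0, 17, 233961) .leaf) (165856, 0, 13, 85681) (.node .leaf (165857, 0, 16, 110295) .leaf)) (165858, 0, 16, 7828) (.node (.node .leaf (165859, 0, 17, 174033) .leaf) (165868, 0, 10, 217610) (.node .leaf (165869, 0, 18, 242284) .leaf))) (165870, 0, 17, 158590) (.node (.node (.node .leaf (165871, 0, 18, 12880) .leaf) (165876, 0, 18, 204646)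 (.node .leaf (165877, 0, 15, 257953) .leaf)) (165878, 0, 18, 63252) (.node (.node .leaf (165879, 0, 18, 175674) .leaf) (165880, 0, 15, 101095) (.node .leaf (165881, 0, 16, 250825) .leaf))))) (165882, 0, 13, 17241) (.node (.node (.node (.node (.node .leaf (165883, 0, 16, 15291) .leaf) (165889, 0, 17, 28750) (.node .leaf (165890, 0, 16, 131677) .leaf)) (165893, 0, 16, 134995) (.node (.node .leaf (165894, 0, 14, 245263) .leaf) (165896, 0, 16, 96224) (.node .leaf (165899, 0, 16, 51107) .leaf))) (165900, 0, 16, 85699) (.node (.node (.node .leaf (165903, 0, 14, 69053) .leaf) (165904, 0, 16, 24470) (.node .leaf (165907, 0, 17, 39534) .leaf)) (165908, 0, 18, 70414) (.node (.node .leaf (165911, 0, 16, 41805) .leaf) (165913, 0, 14, 191524) (.node .leaf (165914, 0, 16, 155536) .leaf)))) (165917, 0, 17, 251632) (.node (.node (.node (.node .leaf (165918, 0, 17, 157363) .leaf) (165920, 0, 17, 22925) (.node .leaf (165923, 0, 17, 125390) .leaf)) (165924, 0, 17, 24750) (.node (.node .leaf (165927, 0, 17, 119021) .leaf) (165929, 0, 18, 124888)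 (.node .leaf (165930, 0, 18, 207920) .leaf))) (165933, 0, 14, 173392) (.node (.node (.node .leaf (165934, 0, 15, 202003) .leaf) (165937, 0, 10, 228274) (.node .leaf (165938, 0, 14, 183022) .leaf)) (165941, 0, 15, 194717) (.node (.node .leaf (165942, 0, 16, 215262) .leaf) (165944, 0, 18, 1088) (.node .leaf (165947, 0, 14, 111619) .leaf))))))

/-- part of the orbit tree -/
def itp5_34 : Tree := (.node (.node (.node (.node (.node (.node .leaf (165951, 0, 16, 101664) .leaf) (165953, 0, 17, 10436) (.node .leaf (165954, 0, 19, 92379) .leaf)) (165957, 0, 17, 57787) (.node (.node .leaf (165958, 0, 16, 255621) .leaf) (165960, 0, 17, 138598) (.node .leaf (165963, 0, 17, 240933) .leaf))) (165964, 0, 14, 140357) (.node (.node (.node .leaf (165967, 0, 16, 234502) .leaf) (165968, 0, 18, 147627) (.node .leaf (165971, 0, 16, 258280) .leaf)) (165972, 0, 15, 162184) (.node (.node .leaf (165975, 0, 15, 248267) .leaf) (165977, 0, 15, 34133) (.node .leaf (165978, 0, 14, 198130) .leaf)))) (165981, 0, 16, 52147) (.node (.node (.node (.node .leaf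 (165982, 0, 16, 97007) .leaf) (165984, 0, 14, 209675) (.node .leaf (165987, 0, 16, 179644) .leaf)) (165988, 0, 13, 199208) (.node (.node .leaf (165991, 0, 16, 178795) .leaf) (165993, 0, 14, 128757) (.node .leaf (165994, 0, 15, 18102) .leaf))) (165997, 0, 16, 245839) (.node (.node (.node .leaf (165998, 0, 9, 160019) .leaf) (166001, 0, 13, 109368) (.node .leaf (166002, 0, 15, 168548) .leaf)) (166005, 0, 14, 89125) (.node (.node .leaf (166006, 0, 16, 8792) .leaf) (166008, 0, 15, 224966) (.node .leaf (166011, 0, 16, 188037) .leaf))))) (166012, 0, 13, 219109) (.node (.node (.node (.node (.node .leaf (166015, 0, 15, 155339) .leaf) (166016, 0, 15, 104713) (.node .leaf (166019, 0, 16, 10325) .leaf)) (166020, 0, 14, 255508) (.node (.node .leaf (166023, 0, 17, 19474) .leaf) (166025, 0, 17, 196748) (.node .leaf (166026, 0, 17, 170983) .leaf))) (166029, 0, 15, 87462) (.node (.node (.node .leaf (166030, 0, 16, 166380) .leaf) (166033, 0, 15, 112337) (.node .leaf (166034, 0, 18, 191746) .leaf)) (166037, 0, 14, 248268) (.node (.node .leaf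 (166038, 0, 11, 161936) .leaf) (166040, 0, 15, 104639) (.node .leaf (166043, 0, 16, 177215) .leaf)))) (166044, 0, 16, 106908) (.node (.node (.node (.node .leaf (166047, 0, 15, 4575) .leaf) (166049, 0, 16, 179501) (.node .leaf (166050, 0, 15, 237218) .leaf)) (166053, 0, 15, 137154) (.node (.node .leaf (166054, 0, 8, 239489) .leaf) (166056, 0, 17, 60191) (.node .leaf (166059, 0, 15, 88924) .leaf))) (166060, 0, 17, 53820) (.node (.node (.node .leaf (166063, 0, 16, 90751) .leaf) (166064, 0, 17, 46802) (.node .leaf (166067, 0, 17, 205737) .leaf)) (166068, 0, 16, 60904) (.node (.node .leaf (166071, 0, 13, 81842) .leaf) (166073, 0, 16, 8519) (.node .leaf (166074, 0, 14, 246639) .leaf))))))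

/-- part of the orbit tree -/
def itp5_35 : Tree := (.node itp5_31 (165694, 0, 18, 259435) itp5_32)

/-- part of the orbit tree -/
def itp5_36 : Tree := (.node itp5_33 (165948, 0, 16, 15715) itp5_34)

/-- part of the orbit tree -/
def itp5_37 : Tree := (.node (.node (.node (.node (.node (.node .leaf (166078, 0, 13, 257798) .leaf) (166080, 0, 13, 176116) (.node .leaf (166083, 0, 16, 204727) .leaf)) (166084, 0, 17, 169687) (.node (.node .leaf (166087, 0, 16, 206484) .leaf) (166089, 0, 16, 225841) (.node .leaf (166090, 0, 15, 181101) .leaf))) (166093, 0, 13, 68908) (.node (.node (.node .leaf (166094, 0, 15, 48240) .leaf) (166097, 0, 13, 14279) (.node .leaf (166098, 0, 16, 24327) .leaf)) (166101, 0, 15, 3812) (.node (.node .leaf (166102, 0, 15, 139290) .leaf) (166104, 0, 15, 193081) (.node .leaf (166107, 0, 17, 213626) .leaf)))) (166108, 0, 16, 74484) (.node (.node (.node (.node .leaf (166111, 0, 18, 228185) .leaf) (166113, 0, 15, 83047) (.node .leaf (166114, 0, 16, 62500) .leaf)) (166117, 0, 17, 39610) (.node (.node .leaf (166118,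 0, 14, 52487) .leaf) (166120, 0, 16, 22037) (.node .leaf (166123, 0, 16, 124745) .leaf))) (166124, 0, 16, 141576) (.node (.node (.node .leaf (166127, 0, 16, 133369) .leaf) (166128, 0, 15, 253012) (.node .leaf (166131, 0, 16, 158743) .leaf)) (166132, 0, 14, 46434) (.node (.node .leaf (166135, 0, 16, 152884) .leaf) (166137, 0, 16, 72106) (.node .leaf (166138, 0, 15, 43497) .leaf))))) (166141, 0, 14, 73865) (.node (.node (.node (.node (.node .leaf (166142, 0, 16, 37066) .leaf) (166145, 0, 16, 38829) (.node .leaf (166146, 0, 18, 106537) .leaf)) (166149, 0, 15, 10569) (.node (.node .leaf (166150, 0, 17, 219628) .leaf) (166152, 0, 16, 185748) (.node .leaf (166155, 0, 17, 222679) .leaf))) (166156, 0, 12, 23298) (.node (.node (.node .leaf (166159, 0, 14, 125534) .leaf) (166160, 0, 16, 165977) (.node .leaf (166163, 0, 17, 67881) .leaf)) (166164, 0, 16, 182120) (.node (.node .leaf (166167, 0, 16, 196921) .leaf) (166169, 0, 17, 19879) (.node .leaf (166170, 0, 17, 244379) .leaf)))) (166173, 0, 14, 29828) (.node (.node (.node (.node .leaf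 (166174, 0, 16, 116102) .leaf) (166176, 0, 16, 242569) (.node .leaf (166179, 0, 15, 150458) .leaf)) (166180, 0, 13, 117908) (.node (.node .leaf (166183, 0, 17, 32200) .leaf) (166185, 0, 15, 65595) (.node .leaf (166186, 0, 16, 36420) .leaf))) (166189, 0, 12, 229158) (.node (.node (.node .leaf (166190, 0, 10, 183930) .leaf) (166193, 0, 18, 236625) (.node .leaf (166194, 0, 18, 142605) .leaf)) (166197, 0, 16, 123724) (.node (.node .leaf (166198, 0, 15, 60074) .leaf) (166200, 0, 15, 239156) (.node .leaf (166203, 0, 15, 40639) .leaf))))))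

/-- part of the orbit tree -/
def itp5_38 : Tree := (.node (.node (.node (.node (.node (.node .leaf (166207, 0, 15, 143188) .leaf) (166209, 0, 16, 228076) (.node .leaf (166210, 0, 18, 97915) .leaf)) (166213, 0, 17, 213967) (.node (.node .leaf (166214, 0, 17, 193420) .leaf) (166216, 0, 15, 114450) (.node .leaf (166219, 0, 17, 3921) .leaf))) (166220, 0, 14, 904) (.node (.node (.node .leaf (166223, 0, 15, 111316) .leaf) (166224, 0, 17, 57599) (.node .leaf (166227, 0, 13, 21148) .leaf)) (166228, 0, 19, 121852) (.node (.node .leaf (166231, 0, 15, 208574) .leaf) (166233, 0, 14, 152397) (.node .leaf (166234, 0, 18, 254481) .leaf)))) (166237, 0, 17, 11344) (.node (.node (.node (.node .leaf (166238, 0, 17, 175681) .leaf) (166240, 0, 15, 37247) (.node .leaf (166243, 0, 14, 74044) .leaf)) (166244, 0, 17, 43100) (.node (.node .leaf (166247, 0, 17, 9538) .leaf) (166249, 0, 17, 88241) (.node .leaf (166250, 0, 14, 59885) .leaf))) (166253, 0, 16, 159138) (.node (.node (.node .leaf (166254, 0, 16, 253409) .leaf) (166257, 0, 16, 247003) (.node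 .leaf (166258, 0, 17, 161159) .leaf)) (166261, 0, 15, 113606) (.node (.node .leaf (166262, 0, 18, 229420) .leaf) (166264, 0, 13, 52402) (.node .leaf (166267, 0, 15, 50741) .leaf))))) (166268, 0, 15, 62865) (.node (.node (.node (.node (.node .leaf (166271, 0, 17, 83410) .leaf) (166272, 0, 16, 157446) (.node .leaf (166275, 0, 15, 251717) .leaf)) (166276, 0, 15, 155173) (.node (.node .leaf (166279, 0, 17, 176299) .leaf) (166281, 0, 16, 41720) (.node .leaf (166282, 0, 17, 162820) .leaf))) (166285, 0, 16, 39899) (.node (.node (.node .leaf (166286, 0, 18, 76696) .leaf) (166289, 0, 15, 65333) (.node .leaf (166290, 0, 16, 85878) .leaf)) (166293, 0, 11, 208431) (.node (.node .leaf (166294, 0, 17, 95829) .leaf) (166296, 0, 17, 146123) (.node .leaf (166299, 0, 17, 152540) .leaf)))) (166300, 0, 18, 132072) (.node (.node (.node (.node .leaf (166303, 0, 16, 11457) .leaf) (166305, 0, 16, 101525) (.node .leaf (166306, 0, 12, 15574) .leaf)) (166309, 0, 16, 112054) (.node (.node .leaf (166310, 0, 17, 103567) .leaf) (166312, 0, 13, 59772) (.node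 .leaf (166315, 0, 16, 194856) .leaf))) (166316, 0, 15, 225352) (.node (.node (.node .leaf (166319, 0, 17, 206653) .leaf) (166320, 0, 17, 161046) (.node .leaf (166323, 0, 15, 173285) .leaf)) (166324, 0, 18, 208261) (.node (.node .leaf (166327, 0, 16, 171462) .leaf) (166329, 0, 11, 50852) (.node .leaf (166330, 0, 18, 24859) .leaf))))))

/-- part of the orbit tree -/
def itp5_39 : Tree := (.node (.node (.node (.node (.node (.node .leaf (166334, 0, 19, 22584) .leaf) (166336, 0, 16, 68992) (.node .leaf (166339, 0, 17, 48579) .leaf)) (166340, 0, 16, 219517) (.node (.node .leaf (166343, 0, 17, 190497) .leaf) (166345, 0, 15, 247934) (.node .leaf (166346, 0, 14, 140430) .leaf))) (166349, 0, 17, 258397) (.node (.node (.node .leaf (166350, 0, 15, 147742) .leaf) (166353, 0, 17, 234931) (.node .leaf (166354, 0, 17, 47332) .leaf)) (166357, 0, 17, 240784) (.node (.node .leaf (166358, 0, 16, 182265) .leaf) (166360, 0, 16, 86093) (.node .leaf (166363, 0, 18, 57358) .leaf)))) (166364, 0, 18, 92526) (.node (.node (.node (.node .leaf (166367,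 0, 14, 29771) .leaf) (166369, 0, 16, 189971) (.node .leaf (166370, 0, 14, 242456) .leaf)) (166373, 0, 14, 32089) (.node (.node .leaf (166374, 0, 16, 117765) .leaf) (166376, 0, 15, 9197) (.node .leaf (166379, 0, 14, 65706) .leaf))) (166380, 0, 15, 184043) (.node (.node (.node .leaf (166383, 0, 17, 229303) .leaf) (166384, 0, 17, 142748) (.node .leaf (166387, 0, 17, 236736) .leaf)) (166388, 0, 18, 18179) (.node (.node .leaf (166391, 0, 17, 123869) .leaf) (166393, 0, 13, 179166) (.node .leaf (166394, 0, 16, 77682) .leaf))))) (166397, 0, 17, 164605) (.node (.node (.node (.node (.node .leaf (166398, 0, 17, 217199) .leaf) (166400, 0, 14, 228872) (.node .leaf (166401, 0, 15, 30050) .leaf)) (166404, 0, 17, 21329) (.node (.node .leaf (166405, 0, 14, 239437) .leaf) (166410, 0, 15, 77474) (.node .leaf (166411, 0, 15, 60371) .leaf))) (166414, 0, 17, 12950) (.node (.node (.node .leaf (166415, 0, 18, 54000) .leaf) (166418, 0, 16, 242376) (.node .leaf (166419, 0, 15, 46622) .leaf)) (166422, 0, 16, 28507) (.node (.node .leaf (166423, 0, 17,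 36669) .leaf) (166424, 0, 15, 205765) (.node .leaf (166425, 0, 11, 190728) .leaf)))) (166428, 0, 17, 203494) (.node (.node (.node (.node .leaf (166429, 0, 17, 38421) .leaf) (166434, 0, 17, 75224) (.node .leaf (166435, 0, 14, 116158) .leaf)) (166438, 0, 16, 181801) (.node (.node .leaf (166439, 0, 15, 40711) .leaf) (166440, 0, 16, 244698) (.node .leaf (166441, 0, 15, 123636) .leaf))) (166444, 0, 13, 158022) (.node (.node (.node .leaf (166445, 0, 17, 237033) .leaf) (166448, 0, 16, 134568) (.node .leaf (166449, 0, 13, 229022) .leaf)) (166452, 0, 18, 144523) (.node (.node .leaf (166453, 0, 16, 65923) .leaf) (166458, 0, 15, 140638) (.node .leaf (166459, 0, 16, 104563) .leaf))))))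

/-- part of the orbit tree -/
def itp5_40 : Tree := (.node (.node (.node (.node (.node (.node .leaf (166463, 0, 17, 106832) .leaf) (166464, 0, 11, 160966) (.node .leaf (166465, 0, 16, 11752) .leaf)) (166468, 0, 17, 3035) (.node (.node .leaf (166469, 0, 10, 152309) .leaf) (166474, 0, 11, 95784) (.node .leaf (166475, 0, 12, 229717) .leaf))) (166478, 0, 16, 198965) (.node (.node (.node .leaf (166479, 0, 15, 243830) .leaf) (166482, 0, 15, 212222) (.node .leaf (166483, 0, 17, 111468) .leaf)) (166486, 0, 15, 198109) (.node (.node .leaf (166487, 0, 16, 248945) .leaf) (166488, 0, 13, 18755) (.node .leaf (166489, 0, 17, 176514) .leaf)))) (166492, 0, 8, 28768) (.node (.node (.node (.node .leaf (166493, 0, 16, 36870) .leaf) (166498, 0, 19, 151390) (.node .leaf (166499, 0, 17, 178320) .leaf)) (166502, 0, 16, 161405) (.node (.node .leaf (166503, 0, 13, 169499) .leaf) (166504, 0, 18, 80611) (.node .leaf (166505, 0, 15, 113278) .leaf))) (166508, 0, 17, 66496) (.node (.node (.node .leaf (166509, 0, 18, 247139) .leaf) (166512, 0, 17, 98106)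 (.node .leaf (166513, 0, 17, 206356) .leaf)) (166516, 0, 16, 196647) (.node (.node .leaf (166517, 0, 16, 88329) .leaf) (166522, 0, 17, 163284) (.node .leaf (166523, 0, 17, 193269) .leaf))))) (166526, 0, 17, 713) (.node (.node (.node (.node (.node .leaf (166527, 0, 13, 183254) .leaf) (166530, 0, 11, 160855) (.node .leaf (166531, 0, 17, 22849) .leaf)) (166534, 0, 17, 2890) (.node (.node .leaf (166535, 0, 15, 24674) .leaf) (166536, 0, 16, 248986) (.node .leaf (166537, 0, 17, 208124) .leaf))) (166540, 0, 13, 259513) (.node (.node (.node .leaf (166541, 0, 15, 202207) .leaf) (166544, 0, 17, 233815) (.node .leaf (166545, 0, 17, 111613) .leaf)) (166548, 0, 15, 239732) (.node (.node .leaf (166549, 0, 16, 215058) .leaf) (166554, 0, 16, 59453) (.node .leaf (166555, 0, 11, 176403) .leaf)))) (166558, 0, 17, 169760) (.node (.node (.node (.node .leaf (166559, 0, 19, 52750) .leaf) (166560, 0, 17, 57647) (.node .leaf (166561, 0, 18, 131729) .leaf)) (166564, 0, 15, 187348) (.node (.node .leaf (166565, 0, 18, 146354) .leaf) (166570, 0, 17, 254913)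 (.node .leaf (166571, 0, 12, 96044) .leaf))) (166574, 0, 16, 105692) (.node (.node (.node .leaf (166575, 0, 15, 85519) .leaf) (166578, 0, 17, 117383) (.node .leaf (166579, 0, 16, 206469) .leaf)) (166582, 0, 15, 196790) (.node (.node .leaf (166583, 0, 17, 70594) .leaf) (166584, 0, 10, 180026) .leaf)))))

/-- part of the orbit tree -/
def itp5_41 : Tree := (.node itp5_37 (166204, 0, 12, 237335) itp5_38)

/-- part of the orbit tree -/
def itp5_42 : Tree := (.node itp5_39 (166462, 0, 12, 23107) itp5_40)

/-- part of the orbit tree -/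
def itp5_43 : Tree := (.node itp5_35 (165818, 0, 14, 145951) itp5_36)

/-- part of the orbit tree -/
def itp5_44 : Tree := (.node itp5_41 (166333, 0, 18, 125051) itp5_42)

/-- part of the orbit tree -/
def itp5_45 : Tree := (.node (.node (.node (.node (.node (.node .leaf (166588, 0, 13, 600) .leaf) (166589, 0, 16, 157311) (.node .leaf (166594, 0, 17, 142557) .leaf)) (166595, 0, 12, 209863) (.node (.node .leaf (166598, 0, 15, 21440) .leaf) (166599, 0, 18, 199396) (.node .leaf (166600, 0, 16, 42524) .leaf))) (166601, 0, 17, 227101) (.node (.node (.node .leaf (166604, 0, 13, 217390) .leaf) (166605, 0, 15, 32601) (.node .leaf (166608, 0, 16, 242265) .leaf)) (166609, 0, 15, 7095) (.node (.node .leaf (166612, 0, 13, 49906) .leaf) (166613, 0, 15, 8852) (.node .leaf (166618, 0, 16, 233068) .leaf)))) (166619, 0, 18, 224778) (.node (.node (.node (.node .leaf (166622, 0, 17, 184234) .leaf) (166623, 0, 15, 38532) (.node .leaf (166624, 0, 15, 47525) .leaf)) (166625, 0, 18, 188555) (.node (.node .leaf (166628, 0, 18, 110930) .leaf) (166629,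 0, 17, 40854) (.node .leaf (166634, 0, 16, 196044) .leaf))) (166635, 0, 14, 123493) (.node (.node (.node .leaf (166638, 0, 19, 115798) .leaf) (166639, 0, 15, 236920) (.node .leaf (166642, 0, 18, 172033) .leaf)) (166643, 0, 16, 147559) (.node (.node .leaf (166646, 0, 16, 219196) .leaf) (166647, 0, 13, 162116) (.node .leaf (166648, 0, 18, 120252) .leaf))))) (166649, 0, 18, 79322) (.node (.node (.node (.node (.node .leaf (166652, 0, 13, 126111) .leaf) (166653, 0, 17, 132092) (.node .leaf (166656, 0, 15, 56444) .leaf)) (166657, 0, 17, 37505) (.node (.node .leaf (166660, 0, 15, 46258) .leaf) (166661, 0, 16, 1337) (.node .leaf (166666, 0, 18, 240065) .leaf))) (166667, 0, 10, 233583) (.node (.node (.node .leaf (166670, 0, 17, 243292) .leaf) (166671, 0, 17, 225412) (.node .leaf (166674, 0, 16, 218411) .leaf)) (166675, 0, 16, 201834) (.node (.node .leaf (166678, 0, 19, 76342) .leaf) (166679, 0, 14, 226072) (.node .leaf (166680, 0, 16, 33201) .leaf)))) (166681, 0, 16, 134891) (.node (.node (.node (.node .leaf (166684, 0, 17, 141528)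 .leaf) (166685, 0, 12, 29174) (.node .leaf (166690, 0, 14, 165804) .leaf)) (166691, 0, 15, 133113) (.node (.node .leaf (166694, 0, 17, 139722) .leaf) (166695, 0, 17, 30948) (.node .leaf (166696, 0, 17, 220217) .leaf))) (166697, 0, 14, 70263) (.node (.node (.node .leaf (166700, 0, 18, 74532) .leaf) (166701, 0, 16, 227850) (.node .leaf (166704, 0, 16, 114771) .leaf)) (166705, 0, 18, 85946) (.node (.node .leaf (166708, 0, 18, 245582) .leaf) (166709, 0, 16, 95897) (.node .leaf (166714, 0, 13, 180925) .leaf))))))

/-- part of the orbit tree -/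
def itp5_46 : Tree := (.node (.node (.node (.node (.node (.node .leaf (166718, 0, 17, 189250) .leaf) (166719, 0, 13, 189582) (.node .leaf (166720, 0, 16, 243450) .leaf)) (166721, 0, 17, 218780) (.node (.node .leaf (166724, 0, 15, 233433) .leaf) (166725, 0, 16, 177430) (.node .leaf (166730, 0, 15, 102859) .leaf))) (166731, 0, 17, 8993) (.node (.node (.node .leaf (166734, 0, 18, 257750) .leaf) (166735, 0, 17, 112632) (.node .leaf (166738, 0, 19, 200097) .leaf)) (166739, 0, 15, 32492) (.node (.node .leaf (166742, 0, 17, 94908) .leaf) (166743, 0, 16, 207762) (.node .leaf (166744, 0, 17, 3919) .leaf)))) (166745, 0, 16, 153185) (.node (.node (.node (.node .leaf (166748, 0, 16, 159826) .leaf) (166749, 0, 16, 209522) (.node .leaf (166754, 0, 13, 1629) .leaf)) (166755, 0, 16, 155507) (.node (.node .leaf (166758, 0, 11, 119817) .leaf) (166759, 0, 14, 78959) (.node .leaf (166760, 0, 14, 197811) .leaf))) (166761, 0, 14, 89501) (.node (.node (.node .leaf (166764, 0, 12, 97198) .leaf) (166765, 0, 17, 147922) (.node .leaf (166768, 0, 18,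 104665) .leaf)) (166769, 0, 16, 140604) (.node (.node .leaf (166772, 0, 14, 255940) .leaf) (166773, 0, 16, 138271) (.node .leaf (166778, 0, 17, 170551) .leaf))))) (166779, 0, 15, 86145) (.node (.node (.node (.node (.node .leaf (166782, 0, 13, 100804) .leaf) (166783, 0, 16, 179204) (.node .leaf (166786, 0, 17, 168884) .leaf)) (166787, 0, 15, 260917) (.node (.node .leaf (166790, 0, 17, 60585) .leaf) (166791, 0, 16, 177543) (.node .leaf (166792, 0, 17, 102746) .leaf))) (166793, 0, 16, 247924) (.node (.node (.node .leaf (166796, 0, 14, 22477) .leaf) (166797, 0, 16, 112489) (.node .leaf (166800, 0, 14, 13091) .leaf)) (166801, 0, 17, 87070) (.node (.node .leaf (166804, 0, 16, 94765) .leaf) (166805, 0, 12, 207619) (.node .leaf (166810, 0, 17, 4062) .leaf)))) (166811, 0, 14, 239352) (.node (.node (.node (.node .leaf (166814, 0, 15, 229309) .leaf) (166815, 0, 15, 10733) (.node .leaf (166816, 0, 14, 1740) .leaf)) (166817, 0, 18, 155618) (.node (.node .leaf (166820, 0, 17, 162257) .leaf) (166821, 0, 18, 104902) (.node .leaf (166826, 0,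 16, 197666) .leaf))) (166827, 0, 16, 89356) (.node (.node (.node .leaf (166830, 0, 18, 97087) .leaf) (166831, 0, 16, 191611) (.node .leaf (166834, 0, 17, 104520) .leaf)) (166835, 0, 15, 166037) (.node (.node .leaf (166838, 0, 16, 255829) .leaf) (166839, 0, 16, 176566) (.node .leaf (166840, 0, 16, 73038) .leaf))))))

/-- part of the orbit tree -/
def itp5_47 : Tree := (.node (.node (.node (.node (.node (.node .leaf (166844, 0, 17, 74861) .leaf) (166845, 0, 14, 179349) (.node .leaf (166850, 0, 15, 183102) .leaf)) (166851, 0, 13, 37299) (.node (.node .leaf (166854, 0, 16, 18678) .leaf) (166855, 0, 18, 191757) (.node .leaf (166856, 0, 18, 197736) .leaf))) (166857, 0, 15, 233726) (.node (.node (.node .leaf (166860, 0, 18, 243405) .leaf) (166861, 0, 16, 126947) (.node .leaf (166864, 0, 18, 219557) .leaf)) (166865, 0, 13, 244163) (.node (.node .leaf (166868, 0, 16, 76455) .leaf) (166869, 0, 15, 226185) (.node .leaf (166874, 0, 17, 22356) .leaf)))) (166875, 0, 16, 134778) (.node (.node (.node (.node .leaf (166878, 0, 13, 5435) .leaf)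 (166879, 0, 14, 29031) (.node .leaf (166880, 0, 14, 24134) .leaf)) (166881, 0, 18, 182883) (.node (.node .leaf (166884, 0, 16, 135974) .leaf) (166885, 0, 18, 30837) (.node .leaf (166890, 0, 17, 90040) .leaf))) (166891, 0, 12, 66950) (.node (.node (.node .leaf (166894, 0, 13, 91803) .leaf) (166895, 0, 18, 100093) (.node .leaf (166898, 0, 15, 114882) .leaf)) (166899, 0, 10, 236012) (.node (.node .leaf (166902, 0, 17, 245727) .leaf) (166903, 0, 17, 124657) (.node .leaf (166904, 0, 15, 180780) .leaf))))) (166905, 0, 15, 169902) (.node (.node (.node (.node (.node .leaf (166908, 0, 13, 48433) .leaf) (166909, 0, 15, 189471) (.node .leaf (166912, 0, 17, 149712) .leaf)) (166914, 0, 15, 202997) (.node (.node .leaf (166916, 0, 18, 220041) .leaf) (166918, 0, 16, 46075) (.node .leaf (166921, 0, 16, 36142) .leaf))) (166923, 0, 13, 122123) (.node (.node (.node .leaf (166925, 0, 18, 46093) .leaf) (166927, 0, 17, 123944) (.node .leaf (166929, 0, 17, 53475) .leaf)) (166931, 0, 16, 98502) (.node (.node .leaf (166933, 0, 13, 59840) .leaf) (166935,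 0, 15, 113125) (.node .leaf (166936, 0, 13, 243966) .leaf)))) (166938, 0, 18, 214328) (.node (.node (.node (.node .leaf (166940, 0, 18, 116707) .leaf) (166942, 0, 15, 143249) (.node .leaf (166945, 0, 17, 131248) .leaf)) (166947, 0, 17, 125122) (.node (.node .leaf (166949, 0, 16, 32685) .leaf) (166951, 0, 16, 235487) (.node .leaf (166952, 0, 16, 45826) .leaf))) (166954, 0, 16, 145048) (.node (.node (.node .leaf (166956, 0, 15, 183327) .leaf) (166958, 0, 17, 135099) (.node .leaf (166960, 0, 19, 143208) .leaf)) (166962, 0, 16, 158549) (.node (.node .leaf (166964, 0, 15, 197203) .leaf) (166966, 0, 14, 152182) (.node .leaf (166969, 0, 16, 40154) .leaf))))))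

/-- part of the orbit tree -/
def itp5_48 : Tree := (.node (.node (.node (.node (.node (.node .leaf (166973, 0, 13, 116653) .leaf) (166975, 0, 13, 38792) (.node .leaf (166976, 0, 15, 74326) .leaf)) (166978, 0, 17, 29299) (.node (.node .leaf (166980, 0, 15, 72565) .leaf) (166982, 0, 17, 19280) (.node .leaf (166985, 0, 14, 249772) .leaf))) (166987, 0, 17, 10206) (.node (.node (.node .leaf (166989, 0, 17, 253579) .leaf) (166991, 0, 17, 167598) (.node .leaf (166993, 0, 15, 244325) .leaf)) (166995, 0, 19, 179124) (.node (.node .leaf (166997, 0, 11, 208091) .leaf) (166999, 0, 17, 185187) (.node .leaf (167000, 0, 17, 254068) .leaf)))) (167002, 0, 18, 12222) (.node (.node (.node (.node .leaf (167004, 0, 12, 106345) .leaf) (167006, 0, 16, 5789) (.node .leaf (167009, 0, 15, 182725) .leaf)) (167011, 0, 15, 236000) (.node (.node .leaf (167013, 0, 16, 10023) .leaf) (167015, 0, 12, 237763) (.node .leaf (167016, 0, 17, 60296) .leaf))) (167018, 0, 19, 197626) (.node (.node (.node .leaf (167020, 0, 16, 169109) .leaf) (167022, 0, 17, 91453)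 (.node .leaf (167024, 0, 13, 20982) .leaf)) (167026, 0, 16, 66003) (.node (.node .leaf (167028, 0, 15, 26837) .leaf) (167030, 0, 17, 254093) (.node .leaf (167033, 0, 18, 50256) .leaf))))) (167035, 0, 17, 207906) (.node (.node (.node (.node (.node .leaf (167037, 0, 16, 175403) .leaf) (167039, 0, 13, 86847) (.node .leaf (167041, 0, 16, 16316) .leaf)) (167043, 0, 18, 94105) (.node (.node .leaf (167045, 0, 18, 176846) .leaf) (167047, 0, 16, 88764) (.node .leaf (167048, 0, 18, 163425) .leaf))) (167050, 0, 16, 240231) (.node (.node (.node .leaf (167052, 0, 11, 181089) .leaf) (167054, 0, 17, 256270) (.node .leaf (167056, 0, 14, 57867) .leaf)) (167058, 0, 14, 199289) (.node (.node .leaf (167060, 0, 18, 171286) .leaf) (167062, 0, 15, 95588) (.node .leaf (167065, 0, 15, 151993) .leaf)))) (167067, 0, 17, 78420) (.node (.node (.node (.node .leaf (167069, 0, 15, 11940) .leaf) (167071, 0, 14, 247510) (.node .leaf (167072, 0, 19, 256503) .leaf)) (167074, 0, 18, 164874) (.node (.node .leaf (167076, 0, 16, 257292) .leaf) (167078, 0, 12, 163480)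 (.node .leaf (167081, 0, 17, 88645) .leaf))) (167083, 0, 13, 176695) (.node (.node (.node .leaf (167085, 0, 17, 76018) .leaf) (167087, 0, 18, 52522) (.node .leaf (167089, 0, 15, 85020) .leaf)) (167091, 0, 18, 7225) (.node (.node .leaf (167093, 0, 17, 95551) .leaf) (167095, 0, 16, 151872) (.node .leaf (167096, 0, 13, 95645) .leaf))))))

/-- part of the orbit tree -/
def itp5_49 : Tree := (.node itp5_45 (166715, 0, 16, 145927) itp5_46)

/-- part of the orbit tree -/
def itp5_50 : Tree := (.node itp5_47 (166971, 0, 16, 44715) itp5_48)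

/-- part of the orbit tree -/
def itp5_51 : Tree := (.node (.node (.node (.node (.node (.node .leaf (167100, 0, 16, 241857) .leaf) (167102, 0, 16, 188644) (.node .leaf (167105, 0, 18, 218426) .leaf)) (167107, 0, 15, 132383) (.node (.node .leaf (167109, 0, 15, 224281) .leaf) (167111, 0, 12, 146492) (.node .leaf (167112, 0, 16, 102596) .leaf))) (167114, 0, 17, 118425) (.node (.node (.node .leaf (167116, 0, 15, 109031) .leaf) (167118, 0, 17, 242052) (.node .leaf (167120, 0, 15, 47745) .leaf)) (167122, 0, 14, 40236) (.node (.node .leaf (167124, 0, 17, 181660) .leaf) (167126, 0, 17, 41999) (.node .leaf (167129, 0, 15, 133427) .leaf)))) (167131, 0, 16, 153810) (.node (.node (.node (.node .leaf (167133, 0, 16, 209364) .leaf) (167135, 0, 16, 156145) (.node .leaf (167136, 0, 18, 242045) .leaf)) (167138, 0, 13, 126604) (.node (.node .leaf (167140, 0, 17, 34698) .leaf) (167142, 0, 16, 120751) (.node .leaf (167145, 0, 13, 162647) .leaf))) (167147, 0, 15, 207730) (.node (.node (.node .leaf (167149, 0, 14, 148084) .leaf) (167151, 0, 16,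 201297) (.node .leaf (167153, 0, 16, 237221) .leaf)) (167155, 0, 15, 30423) (.node (.node .leaf (167157, 0, 18, 123320) .leaf) (167159, 0, 17, 133578) (.node .leaf (167160, 0, 15, 77079) .leaf))))) (167162, 0, 15, 111425) (.node (.node (.node (.node (.node .leaf (167164, 0, 10, 217610) .leaf) (167166, 0, 16, 47736) (.node .leaf (167168, 0, 16, 125604) .leaf)) (167170, 0, 15, 47745) (.node (.node .leaf (167172, 0, 12, 244842) .leaf) (167174, 0, 13, 21528) (.node .leaf (167177, 0, 15, 225477) .leaf))) (167179, 0, 15, 163711) (.node (.node (.node .leaf (167181, 0, 9, 69592) .leaf) (167183, 0, 16, 149084) (.node .leaf (167185, 0, 14, 225943) .leaf)) (167187, 0, 18, 139954) (.node (.node .leaf (167189, 0, 17, 234418) .leaf) (167191, 0, 15, 138129) (.node .leaf (167192, 0, 16, 112489) .leaf)))) (167194, 0, 18, 59212) (.node (.node (.node (.node .leaf (167196, 0, 12, 73728) .leaf) (167198, 0, 17, 56943) (.node .leaf (167201, 0, 18, 190291) .leaf)) (167203, 0, 16, 217362) (.node (.node .leaf (167205, 0, 15, 38990) .leaf) (167207, 0,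 15, 225340) (.node .leaf (167208, 0, 18, 21729) .leaf))) (167210, 0, 18, 244883) (.node (.node (.node .leaf (167212, 0, 17, 142332) .leaf) (167214, 0, 16, 110031) (.node .leaf (167216, 0, 16, 39172) .leaf)) (167218, 0, 12, 73977) (.node (.node .leaf (167220, 0, 16, 40999) .leaf) (167222, 0, 17, 126978) (.node .leaf (167225, 0, 17, 154874) .leaf))))))

/-- part of the orbit tree -/
def itp5_52 : Tree := (.node (.node (.node (.node (.node (.node .leaf (167229, 0, 12, 157145) .leaf) (167231, 0, 17, 126038) (.node .leaf (167232, 0, 16, 163874) .leaf)) (167234, 0, 12, 160655) (.node (.node .leaf (167236, 0, 17, 178433) .leaf) (167238, 0, 17, 256292) (.node .leaf (167241, 0, 16, 206927) .leaf))) (167243, 0, 16, 71161) (.node (.node (.node .leaf (167245, 0, 16, 31999) .leaf) (167247, 0, 17, 180000) (.node .leaf (167249, 0, 16, 111653) .leaf)) (167251, 0, 16, 154711) (.node (.node .leaf (167253, 0, 12, 8498) .leaf) (167255, 0, 12, 94487) (.node .leaf (167256, 0, 15, 187887) .leaf)))) (167258, 0, 17, 61413) (.node (.node (.node (.node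 .leaf (167260, 0, 10, 96394) .leaf) (167262, 0, 15, 168184) (.node .leaf (167265, 0, 15, 93105) .leaf)) (167267, 0, 14, 87979) (.node (.node .leaf (167269, 0, 17, 86674) .leaf) (167271, 0, 16, 695) (.node .leaf (167272, 0, 15, 3179) .leaf))) (167274, 0, 17, 255001) (.node (.node (.node .leaf (167276, 0, 17, 160630) .leaf) (167278, 0, 16, 182089) (.node .leaf (167280, 0, 16, 167937) .leaf)) (167282, 0, 15, 96371) (.node (.node .leaf (167284, 0, 13, 61212) .leaf) (167286, 0, 17, 170628) (.node .leaf (167289, 0, 16, 9139) .leaf))))) (167291, 0, 17, 248769) (.node (.node (.node (.node (.node .leaf (167293, 0, 18, 69471) .leaf) (167295, 0, 13, 111836) (.node .leaf (167297, 0, 18, 237000) .leaf)) (167299, 0, 14, 246338) (.node (.node .leaf (167301, 0, 15, 152877) .leaf) (167303, 0, 16, 114015) (.node .leaf (167304, 0, 13, 170370) .leaf))) (167306, 0, 15, 94704) (.node (.node (.node .leaf (167308, 0, 16, 59039) .leaf) (167310, 0, 17, 12592) (.node .leaf (167312, 0, 15, 1512) .leaf)) (167314, 0, 16, 257434) (.node (.node .leaf (167316,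 0, 14, 81112) .leaf) (167318, 0, 17, 27901) (.node .leaf (167321, 0, 15, 245765) .leaf)))) (167323, 0, 17, 167968) (.node (.node (.node (.node .leaf (167325, 0, 19, 260390) .leaf) (167327, 0, 16, 174339) (.node .leaf (167328, 0, 18, 30299) .leaf)) (167330, 0, 17, 75390) (.node (.node .leaf (167332, 0, 16, 20344) .leaf) (167334, 0, 16, 73565) (.node .leaf (167337, 0, 13, 114086) .leaf))) (167339, 0, 16, 254848) (.node (.node (.node .leaf (167341, 0, 18, 246459) .leaf) (167343, 0, 16, 10953) (.node .leaf (167345, 0, 15, 205260) .leaf)) (167347, 0, 13, 51646) (.node (.node .leaf (167349, 0, 16, 186187) .leaf) (167351, 0, 14, 177827) (.node .leaf (167352, 0, 11, 103038) .leaf))))))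

/-- part of the orbit tree -/
def itp5_53 : Tree := (.node (.node (.node (.node (.node (.node .leaf (167356, 0, 17, 4789) .leaf) (167358, 0, 13, 1297) (.node .leaf (167361, 0, 17, 63310) .leaf)) (167363, 0, 16, 108395) (.node (.node .leaf (167365, 0, 16, 134567) .leaf) (167367, 0, 15, 106056) (.node .leaf (167368, 0, 17, 144048) .leaf))) (167370, 0, 15, 221845) (.node (.node (.node .leaf (167372, 0, 14, 134035) .leaf) (167374, 0, 13, 218727) (.node .leaf (167376, 0, 15, 23906) .leaf)) (167378, 0, 15, 212824) (.node (.node .leaf (167380, 0, 14, 139903) .leaf) (167382, 0, 14, 117261) (.node .leaf (167385, 0, 17, 192208) .leaf)))) (167387, 0, 17, 67234) (.node (.node (.node (.node .leaf (167389, 0, 16, 37792) .leaf) (167391, 0, 18, 227775) (.node .leaf (167392, 0, 19, 203997) .leaf)) (167394, 0, 17, 150776) (.node (.node .leaf (167396, 0, 17, 206334) .leaf) (167398, 0, 17, 180721) (.node .leaf (167401, 0, 18, 121123) .leaf))) (167403, 0, 14, 134494) (.node (.node (.node .leaf (167405, 0, 17, 236081) .leaf) (167407, 0, 14, 45093)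 (.node .leaf (167409, 0, 15, 227654) .leaf)) (167411, 0, 18, 37172) (.node (.node .leaf (167413, 0, 13, 114125) .leaf) (167415, 0, 14, 192041) (.node .leaf (167416, 0, 16, 117492) .leaf))))) (167418, 0, 19, 139910) (.node (.node (.node (.node (.node .leaf (167420, 0, 17, 243177) .leaf) (167422, 0, 18, 23963) (.node .leaf (167432, 0, 17, 117540) .leaf)) (167433, 0, 17, 41310) (.node (.node .leaf (167434, 0, 18, 69917) .leaf) (167435, 0, 15, 127355) (.node .leaf (167436, 0, 16, 242745) .leaf))) (167437, 0, 17, 126231) (.node (.node (.node .leaf (167438, 0, 14, 23627) .leaf) (167439, 0, 19, 132453) (.node .leaf (167440, 0, 13, 7413) .leaf)) (167441, 0, 17, 69216) (.node (.node .leaf (167442, 0, 11, 85200) .leaf) (167443, 0, 16, 189970) (.node .leaf (167444, 0, 17, 9686) .leaf)))) (167445, 0, 15, 225661) (.node (.node (.node (.node .leaf (167446, 0, 11, 180257) .leaf) (167447, 0, 16, 103829) (.node .leaf (167456, 0, 16, 94037) .leaf)) (167457, 0, 15, 102195) (.node (.node .leaf (167458, 0, 13, 242880) .leaf) (167459, 0, 16, 57110)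 (.node .leaf (167460, 0, 16, 87670) .leaf))) (167461, 0, 11, 112144) (.node (.node (.node .leaf (167462, 0, 10, 117725) .leaf) (167463, 0, 17, 234227) (.node .leaf (167480, 0, 18, 180440) .leaf)) (167481, 0, 15, 39414) (.node (.node .leaf (167482, 0, 19, 75946) .leaf) (167483, 0, 16, 33499) (.node .leaf (167484, 0, 16, 49093) .leaf))))))

/-- part of the orbit tree -/
def itp5_54 : Tree := (.node (.node (.node (.node (.node (.node .leaf (167486, 0, 15, 219063) .leaf) (167487, 0, 18, 48120) (.node .leaf (167496, 0, 17, 103342) .leaf)) (167497, 0, 13, 248792) (.node (.node .leaf (167498, 0, 13, 162715) .leaf) (167499, 0, 16, 8946) (.node .leaf (167500, 0, 16, 201373) .leaf))) (167501, 0, 14, 112029) (.node (.node (.node .leaf (167502, 0, 16, 1217) .leaf) (167503, 0, 16, 155119) (.node .leaf (167504, 0, 13, 200644) .leaf)) (167505, 0, 17, 235029) (.node (.node .leaf (167506, 0, 16, 59318) .leaf) (167507, 0, 17, 181808) (.node .leaf (167508, 0, 17, 94425) .leaf)))) (167509, 0, 18, 207351) (.node (.node (.node (.node .leaf (167510,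 0, 15, 170155) .leaf) (167511, 0, 13, 196371) (.node .leaf (167520, 0, 15, 1080) .leaf)) (167521, 0, 12, 154902) (.node (.node .leaf (167522, 0, 17, 218614) .leaf) (167523, 0, 14, 111972) (.node .leaf (167524, 0, 16, 146672) .leaf))) (167525, 0, 17, 187542) (.node (.node (.node .leaf (167526, 0, 17, 103255) .leaf) (167527, 0, 17, 232627) (.node .leaf (167544, 0, 17, 153630) .leaf)) (167545, 0, 15, 178296) (.node (.node .leaf (167546, 0, 16, 198715) .leaf) (167547, 0, 17, 256093) (.node .leaf (167548, 0, 17, 155965) .leaf))))) (167549, 0, 18, 179809) (.node (.node (.node (.node (.node .leaf (167550, 0, 16, 209176) .leaf) (167551, 0, 14, 250238) (.node .leaf (167552, 0, 15, 62378) .leaf)) (167553, 0, 17, 5068) (.node (.node .leaf (167554, 0, 15, 107407) .leaf) (167555, 0, 16, 82921) (.node .leaf (167556, 0, 15, 51849) .leaf))) (167557, 0, 18, 10991) (.node (.node (.node .leaf (167558, 0, 8, 105132) .leaf) (167559, 0, 18, 90000) (.node .leaf (167576, 0, 16, 44647) .leaf)) (167577, 0, 18, 152725) (.node (.node .leaf (167578, 0,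 18, 255433) .leaf) (167579, 0, 14, 113895) (.node .leaf (167580, 0, 13, 38724) .leaf)))) (167581, 0, 18, 11144) (.node (.node (.node (.node .leaf (167582, 0, 8, 116577) .leaf) (167583, 0, 13, 246778) (.node .leaf (167592, 0, 14, 198215) .leaf)) (167593, 0, 18, 89961) (.node (.node .leaf (167594, 0, 16, 36322) .leaf) (167595, 0, 15, 28036) (.node .leaf (167596, 0, 17, 96602) .leaf))) (167597, 0, 16, 66690) (.node (.node (.node .leaf (167598, 0, 16, 46273) .leaf) (167599, 0, 14, 21671) (.node .leaf (167600, 0, 16, 98314) .leaf)) (167601, 0, 18, 90220) (.node (.node .leaf (167602, 0, 11, 53295) .leaf) (167603, 0, 16, 12361) .leaf)))))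

/-- part of the orbit tree -/
def itp5_55 : Tree := (.node itp5_51 (167227, 0, 17, 199903) itp5_52)

/-- part of the orbit tree -/
def itp5_56 : Tree := (.node itp5_53 (167485, 0, 16, 190187) itp5_54)

/-- part of the orbit tree -/
def itp5_57 : Tree := (.node itp5_49 (166841, 0, 15, 130344) itp5_50)

/-- part of the orbit tree -/
def itp5_58 : Tree := (.node itp5_55 (167354, 0, 17, 162316) itp5_56)

/-- part of the orbit tree -/
def itp5_59 : Tree := (.node itp5_43 (166077, 0, 16, 150031) itp5_44)

/-- part of the orbit tree -/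
def itp5_60 : Tree := (.node itp5_57 (167098, 0, 15, 171503) itp5_58)

/-- part of the orbit tree -/
def itp5_61 : Tree := (.node itp5_29 (164541, 0, 16, 6243) itp5_30)

/-- part of the orbit tree -/
def itp5_62 : Tree := (.node itp5_59 (166585, 0, 18, 155484) itp5_60)

/-- part of the orbit tree -/
def itp5_63 : Tree := (.node (.node (.node (.node (.node (.node .leaf (167605, 0, 16, 88399) .leaf) (167606, 0, 15, 3394) (.node .leaf (167607, 0, 15, 2410) .leaf)) (167616, 0, 17, 235820) (.node (.node .leaf (167617, 0, 18, 227658) .leaf) (167618, 0, 16, 182537) (.node .leaf (167619, 0, 18, 141679) .leaf))) (167620, 0, 17, 46662) (.node (.node (.node .leaf (167621, 0, 11, 192360) .leaf) (167622, 0, 17, 192554) (.node .leaf (167623, 0, 16, 135244) .leaf)) (167640, 0, 19, 247009) (.node (.node .leaf (167641, 0, 17, 134175) .leaf) (167642, 0, 16, 169156) (.node .leaf (167643, 0, 17, 124013) .leaf)))) (167644, 0, 13, 261570) (.node (.node (.node (.node .leaf (167645, 0, 17, 204196) .leaf) (167646, 0, 16, 175591) (.node .leaf (167647,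 0, 13, 150913) .leaf)) (167656, 0, 12, 177985) (.node (.node .leaf (167657, 0, 18, 153383) .leaf) (167658, 0, 17, 255844) (.node .leaf (167659, 0, 15, 198402) .leaf))) (167660, 0, 17, 74192) (.node (.node (.node .leaf (167661, 0, 15, 227582) .leaf) (167662, 0, 17, 253511) (.node .leaf (167663, 0, 15, 212513) .leaf)) (167664, 0, 17, 191116) (.node (.node .leaf (167665, 0, 14, 133866) .leaf) (167666, 0, 17, 244393) (.node .leaf (167667, 0, 13, 29691) .leaf))))) (167668, 0, 13, 185263) (.node (.node (.node (.node (.node .leaf (167669, 0, 16, 124052) .leaf) (167670, 0, 17, 230282) (.node .leaf (167671, 0, 18, 222188) .leaf)) (167688, 0, 16, 254796) (.node (.node .leaf (167689, 0, 14, 226793) .leaf) (167690, 0, 15, 181429) (.node .leaf (167691, 0, 13, 40347) .leaf))) (167692, 0, 18, 252527) (.node (.node (.node .leaf (167693, 0, 17, 211465) .leaf) (167694, 0, 12, 166474) (.node .leaf (167695, 0, 17, 189062) .leaf)) (167696, 0, 17, 241837) (.node (.node .leaf (167697, 0, 15, 220903) .leaf) (167698, 0, 14, 192164) (.node .leaf (167699,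 0, 15, 134850) .leaf)))) (167700, 0, 14, 118704) (.node (.node (.node (.node .leaf (167701, 0, 16, 235166) .leaf) (167702, 0, 16, 141250) (.node .leaf (167703, 0, 15, 32492) .leaf)) (167712, 0, 13, 183585) (.node (.node .leaf (167713, 0, 17, 189055) .leaf) (167714, 0, 16, 217891) (.node .leaf (167715, 0, 16, 228706) .leaf))) (167716, 0, 13, 181324) (.node (.node (.node .leaf (167717, 0, 16, 40290) .leaf) (167718, 0, 18, 238631) (.node .leaf (167719, 0, 17, 226576) .leaf)) (167736, 0, 16, 168172) (.node (.node .leaf (167737, 0, 13, 159882) .leaf) (167738, 0, 17, 245961) (.node .leaf (167739, 0, 13, 204975) .leaf))))))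

/-- part of the orbit tree -/
def itp5_64 : Tree := (.node (.node (.node (.node (.node (.node .leaf (167741, 0, 18, 149929) .leaf) (167742, 0, 14, 241748) (.node .leaf (167743, 0, 16, 125306) .leaf)) (167752, 0, 17, 95309) (.node (.node .leaf (167753, 0, 19, 27052) .leaf) (167754, 0, 15, 171071) (.node .leaf (167755, 0, 14, 80265) .leaf))) (167756, 0, 16, 45289) (.node (.node (.node .leaf (167757, 0, 17, 86654) .leaf) (167758, 0, 17, 123084) (.node .leaf (167759, 0, 14, 65706) .leaf)) (167760, 0, 16, 256039) (.node (.node .leaf (167761, 0, 16, 13409) .leaf) (167762, 0, 18, 85) (.node .leaf (167763, 0, 15, 91204) .leaf)))) (167764, 0, 15, 104250) (.node (.node (.node (.node .leaf (167765, 0, 15, 3394) .leaf) (167766, 0, 16, 163656) (.node .leaf (167767, 0, 18, 9830) .leaf)) (167776, 0, 15, 58331) (.node (.node .leaf (167777, 0, 17, 83905) .leaf) (167778, 0, 17, 199593) (.node .leaf (167779, 0, 16, 6116) .leaf))) (167780, 0, 16, 106116) (.node (.node (.node .leaf (167781, 0, 14, 50664) .leaf) (167782, 0, 16, 95412) (.node .leaf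 (167783, 0, 16, 208282) .leaf)) (167800, 0, 17, 129642) (.node (.node .leaf (167801, 0, 17, 72204) .leaf) (167802, 0, 17, 43599) (.node .leaf (167803, 0, 18, 249581) .leaf))))) (167804, 0, 16, 172) (.node (.node (.node (.node (.node .leaf (167805, 0, 18, 74543) .leaf) (167806, 0, 16, 37740) (.node .leaf (167807, 0, 18, 111088) .leaf)) (167808, 0, 15, 217566) (.node (.node .leaf (167809, 0, 18, 242104) .leaf) (167810, 0, 17, 131579) (.node .leaf (167811, 0, 17, 188829) .leaf))) (167812, 0, 15, 223485) (.node (.node (.node .leaf (167813, 0, 16, 231579) .leaf) (167814, 0, 15, 254301) (.node .leaf (167815, 0, 17, 186558) .leaf)) (167832, 0, 15, 199699) (.node (.node .leaf (167833, 0, 12, 257141) .leaf) (167834, 0, 16, 154678) (.node .leaf (167835, 0, 15, 88836) .leaf)))) (167836, 0, 18, 169285) (.node (.node (.node (.node .leaf (167837, 0, 13, 52331) .leaf) (167838, 0, 15, 97591) (.node .leaf (167839, 0, 15, 205849) .leaf)) (167848, 0, 15, 254372) (.node (.node .leaf (167849, 0, 13, 171989) .leaf) (167850, 0, 11, 208790) (.node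 .leaf (167851, 0, 16, 249840) .leaf))) (167852, 0, 15, 149136) (.node (.node (.node .leaf (167853, 0, 16, 247703) .leaf) (167854, 0, 13, 202421) (.node .leaf (167855, 0, 15, 12261) .leaf)) (167856, 0, 13, 139902) (.node (.node .leaf (167857, 0, 16, 180760) .leaf) (167858, 0, 14, 169404) (.node .leaf (167859, 0, 15, 234045) .leaf))))))

/-- part of the orbit tree -/
def itp5_65 : Tree := (.node (.node (.node (.node (.node (.node .leaf (167861, 0, 15, 89085) .leaf) (167862, 0, 15, 215928) (.node .leaf (167863, 0, 17, 240414) .leaf)) (167872, 0, 11, 15192) (.node (.node .leaf (167873, 0, 16, 30614) .leaf) (167874, 0, 16, 116426) (.node .leaf (167875, 0, 15, 101147) .leaf))) (167876, 0, 19, 20901) (.node (.node (.node .leaf (167877, 0, 15, 57885) .leaf) (167878, 0, 15, 86622) (.node .leaf (167879, 0, 17, 111160) .leaf)) (167896, 0, 16, 45778) (.node (.node .leaf (167897, 0, 17, 34547) .leaf) (167898, 0, 16, 79536) (.node .leaf (167899, 0, 18, 66446) .leaf)))) (167900, 0, 14, 24502) (.node (.node (.node (.node .leaf (167901, 0,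 15, 38113) .leaf) (167902, 0, 18, 75197) (.node .leaf (167903, 0, 14, 126965) .leaf)) (167912, 0, 13, 70965) (.node (.node .leaf (167913, 0, 18, 122880) .leaf) (167914, 0, 19, 17680) (.node .leaf (167915, 0, 18, 133234) .leaf))) (167916, 0, 14, 116275) (.node (.node (.node .leaf (167917, 0, 14, 117872) .leaf) (167918, 0, 17, 31795) (.node .leaf (167919, 0, 17, 30575) .leaf)) (167920, 0, 15, 75076) (.node (.node .leaf (167921, 0, 15, 108702) .leaf) (167922, 0, 17, 6365) (.node .leaf (167923, 0, 8, 63675) .leaf))))) (167924, 0, 17, 219737) (.node (.node (.node (.node (.node .leaf (167925, 0, 17, 102845) .leaf) (167926, 0, 14, 8702) (.node .leaf (167927, 0, 14, 49560) .leaf)) (167937, 0, 15, 124676) (.node (.node .leaf (167938, 0, 16, 92499) .leaf) (167940, 0, 18, 85) (.node .leaf (167943, 0, 17, 110614) .leaf))) (167945, 0, 12, 195720) (.node (.node (.node .leaf (167946, 0, 17, 216267) .leaf) (167948, 0, 17, 140749) (.node .leaf (167951, 0, 16, 234894) .leaf)) (167952, 0, 15, 147747) (.node (.node .leaf (167955, 0, 18, 31104)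 .leaf) (167957, 0, 18, 126703) (.node .leaf (167958, 0, 18, 24499) .leaf)))) (167960, 0, 16, 74304) (.node (.node (.node (.node .leaf (167963, 0, 14, 37660) .leaf) (167965, 0, 16, 48638) (.node .leaf (167966, 0, 14, 69053) .leaf)) (167968, 0, 16, 209539) (.node (.node .leaf (167971, 0, 14, 225916) .leaf) (167973, 0, 17, 189715) (.node .leaf (167974, 0, 17, 154501) .leaf))) (167976, 0, 13, 71451) (.node (.node (.node .leaf (167979, 0, 18, 42840) .leaf) (167981, 0, 9, 135055) (.node .leaf (167982, 0, 16, 32285) .leaf)) (167985, 0, 17, 109232) (.node (.node .leaf (167986, 0, 14, 6899) .leaf) (167988, 0, 17, 182987) (.node .leaf (167991, 0, 16, 228247) .leaf))))))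

/-- part of the orbit tree -/
def itp5_66 : Tree := (.node (.node (.node (.node (.node (.node .leaf (167994, 0, 13, 147307) .leaf) (167996, 0, 16, 139351) (.node .leaf (167999, 0, 13, 233739) .leaf)) (168001, 0, 14, 242582) (.node (.node .leaf (168002, 0, 18, 132053) .leaf) (168004, 0, 16, 104893) (.node .leaf (168007, 0, 16, 10465) .leaf))) (168009, 0, 17, 103950) (.node (.node (.node .leaf (168010, 0, 16, 58446) .leaf) (168012, 0, 17, 85835) (.node .leaf (168015, 0, 16, 49789) .leaf)) (168016, 0, 15, 76709) (.node (.node .leaf (168019, 0, 15, 8458) .leaf) (168021, 0, 19, 127712) (.node .leaf (168022, 0, 16, 1849) .leaf)))) (168024, 0, 18, 200253) (.node (.node (.node (.node .leaf (168027, 0, 16, 179838) .leaf) (168029, 0, 14, 251768) (.node .leaf (168030, 0, 17, 157499) .leaf)) (168032, 0, 18, 170922) (.node (.node .leaf (168035, 0, 13, 207606) .leaf) (168037, 0, 16, 33088) (.node .leaf (168038, 0, 17, 78083) .leaf))) (168040, 0, 17, 160054) (.node (.node (.node .leaf (168043, 0, 13, 249310) .leaf) (168045, 0, 17, 173272)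 (.node .leaf (168046, 0, 17, 255577) .leaf)) (168049, 0, 15, 180278) (.node (.node .leaf (168050, 0, 16, 225397) .leaf) (168052, 0, 17, 137587) (.node .leaf (168055, 0, 15, 205597) .leaf))))) (168057, 0, 17, 58798) (.node (.node (.node (.node (.node .leaf (168058, 0, 15, 87533) .leaf) (168060, 0, 16, 15595) (.node .leaf (168063, 0, 17, 101544) .leaf)) (168064, 0, 17, 175740) (.node (.node .leaf (168067, 0, 11, 204351) .leaf) (168069, 0, 17, 10352) (.node .leaf (168070, 0, 16, 247674) .leaf))) (168072, 0, 17, 58591) (.node (.node (.node .leaf (168075, 0, 13, 87427) .leaf) (168077, 0, 14, 21153) (.node .leaf (168078, 0, 11, 123618) .leaf)) (168081, 0, 15, 8603) (.node (.node .leaf (168082, 0, 15, 102599) .leaf) (168084, 0, 17, 61194) (.node .leaf (168087, 0, 15, 89929) .leaf)))) (168089, 0, 17, 51975) (.node (.node (.node (.node .leaf (168090, 0, 14, 96859) .leaf) (168092, 0, 16, 182930) (.node .leaf (168095, 0, 16, 228049) .leaf)) (168097, 0, 13, 207463) (.node (.node .leaf (168098, 0, 17, 62892) .leaf) (168100, 0, 13, 105642)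 (.node .leaf (168103, 0, 19, 179464) .leaf))) (168105, 0, 17, 221303) (.node (.node (.node .leaf (168106, 0, 16, 184372) .leaf) (168108, 0, 16, 255688) (.node .leaf (168111, 0, 18, 153492) .leaf)) (168112, 0, 13, 253404) (.node (.node .leaf (168115, 0, 18, 177379) .leaf) (168117, 0, 14, 197785) (.node .leaf (168118, 0, 16, 168656) .leaf))))))

/-- part of the orbit tree -/
def itp5_67 : Tree := (.node itp5_63 (167740, 0, 15, 22566) itp5_64)

/-- part of the orbit tree -/
def itp5_68 : Tree := (.node itp5_65 (167993, 0, 16, 233256) itp5_66)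

/-- part of the orbit tree -/
def itp5_69 : Tree := (.node (.node (.node (.node (.node (.node .leaf (168123, 0, 14, 155263) .leaf) (168125, 0, 18, 73985) (.node .leaf (168126, 0, 15, 37186) .leaf)) (168128, 0, 15, 22217) (.node (.node .leaf (168131, 0, 15, 29881) .leaf) (168133, 0, 13, 28922) (.node .leaf (168134, 0, 16, 44540) .leaf))) (168136, 0, 12, 254306) (.node (.node (.node .leaf (168139, 0, 15, 68873) .leaf) (168141, 0, 19, 210983) (.node .leaf (168142, 0, 14, 165988) .leaf)) (168145, 0, 14, 30993) (.node (.node .leaf (168146, 0, 17, 191626) .leaf) (168148, 0, 16, 230796) (.node .leaf (168151, 0, 17, 144847) .leaf)))) (168153, 0, 18, 96593) (.node (.node (.node (.node .leaf (168154, 0, 16, 51474) .leaf) (168156, 0, 13, 46526) (.node .leaf (168159, 0, 14, 4183) .leaf)) (168161, 0, 11, 143209) (.node (.node .leaf (168162, 0, 17, 181169) .leaf) (168164, 0, 17, 218334) (.node .leaf (168167, 0, 17, 214639) .leaf))) (168169, 0, 15, 235633) (.node (.node (.node .leaf (168170, 0, 18, 141613) .leaf) (168172, 0, 15, 54196) (.node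 .leaf (168175, 0, 12, 91127) .leaf)) (168176, 0, 15, 220469) (.node (.node .leaf (168179, 0, 16, 67353) .leaf) (168181, 0, 17, 228102) (.node .leaf (168182, 0, 16, 182874) .leaf))))) (168184, 0, 14, 168642) (.node (.node (.node (.node (.node .leaf (168187, 0, 16, 205441) .leaf) (168189, 0, 13, 150407) (.node .leaf (168190, 0, 16, 261060) .leaf)) (168193, 0, 13, 228196) (.node (.node .leaf (168194, 0, 16, 183079) .leaf) (168196, 0, 16, 238113) (.node .leaf (168199, 0, 13, 38792) .leaf))) (168201, 0, 14, 89852) (.node (.node (.node .leaf (168202, 0, 16, 23335) .leaf) (168204, 0, 15, 100281) (.node .leaf (168207, 0, 16, 14330) .leaf)) (168208, 0, 18, 77631) (.node (.node .leaf (168211, 0, 11, 21268) .leaf) (168213, 0, 16, 80402) (.node .leaf (168214, 0, 16, 47184) .leaf)))) (168216, 0, 14, 247503) (.node (.node (.node (.node .leaf (168219, 0, 15, 161420) .leaf) (168221, 0, 16, 204682) (.node .leaf (168222, 0, 16, 21196) .leaf)) (168224, 0, 10, 140483) (.node (.node .leaf (168227, 0, 17, 234911) .leaf) (168229, 0, 15, 18866) (.node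 .leaf (168230, 0, 18, 129521) .leaf))) (168232, 0, 17, 177519) (.node (.node (.node .leaf (168235, 0, 15, 229123) .leaf) (168237, 0, 17, 158762) (.node .leaf (168238, 0, 14, 219440) .leaf)) (168241, 0, 17, 133915) (.node (.node .leaf (168242, 0, 13, 243847) .leaf) (168244, 0, 18, 142632) (.node .leaf (168247, 0, 19, 236660) .leaf))))))

/-- part of the orbit tree -/
def itp5_70 : Tree := (.node (.node (.node (.node (.node (.node .leaf (168250, 0, 16, 217307) .leaf) (168252, 0, 15, 62489) (.node .leaf (168255, 0, 13, 83034) .leaf)) (168257, 0, 18, 88173) (.node (.node .leaf (168258, 0, 9, 106913) .leaf) (168260, 0, 18, 97886) (.node .leaf (168263, 0, 18, 52994) .leaf))) (168265, 0, 14, 144506) (.node (.node (.node .leaf (168266, 0, 17, 230457) .leaf) (168268, 0, 15, 103618) (.node .leaf (168271, 0, 14, 9630) .leaf)) (168272, 0, 18, 166353) (.node (.node .leaf (168275, 0, 17, 50921) .leaf) (168277, 0, 17, 86406) (.node .leaf (168278, 0, 13, 57562) .leaf)))) (168280, 0, 18, 105769) (.node (.node (.node (.node .leaf (168283, 0,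 15, 72714) .leaf) (168285, 0, 18, 113434) (.node .leaf (168286, 0, 17, 2630) .leaf)) (168288, 0, 14, 260721) (.node (.node .leaf (168291, 0, 16, 249109) .leaf) (168293, 0, 13, 154234) (.node .leaf (168294, 0, 19, 256806) .leaf))) (168296, 0, 17, 169685) (.node (.node (.node .leaf (168299, 0, 12, 28586) .leaf) (168301, 0, 16, 176358) (.node .leaf (168302, 0, 15, 46831) .leaf)) (168305, 0, 16, 152465) (.node (.node .leaf (168306, 0, 17, 254669) .leaf) (168308, 0, 18, 113415) (.node .leaf (168311, 0, 15, 247038) .leaf))))) (168313, 0, 16, 178445) (.node (.node (.node (.node (.node .leaf (168314, 0, 17, 198737) .leaf) (168316, 0, 15, 237215) (.node .leaf (168319, 0, 17, 143068) .leaf)) (168320, 0, 14, 68616) (.node (.node .leaf (168323, 0, 15, 88316) .leaf) (168325, 0, 12, 53139) (.node .leaf (168326, 0, 17, 25870) .leaf))) (168328, 0, 17, 828) (.node (.node (.node .leaf (168331, 0, 14, 170451) .leaf) (168333, 0, 17, 9487) (.node .leaf (168334, 0, 19, 103507) .leaf)) (168337, 0, 15, 50808) (.node (.node .leaf (168338, 0, 16, 140408)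 .leaf) (168340, 0, 18, 216446) (.node .leaf (168343, 0, 15, 195901) .leaf)))) (168345, 0, 17, 11492) (.node (.node (.node (.node .leaf (168346, 0, 15, 480) .leaf) (168348, 0, 12, 2775) (.node .leaf (168351, 0, 16, 113547) .leaf)) (168353, 0, 17, 249220) (.node (.node .leaf (168354, 0, 14, 219096) .leaf) (168356, 0, 13, 256951) (.node .leaf (168359, 0, 14, 154347) .leaf))) (168361, 0, 17, 206616) (.node (.node (.node .leaf (168362, 0, 14, 94784) .leaf) (168364, 0, 17, 6982) (.node .leaf (168367, 0, 18, 109317) .leaf)) (168368, 0, 12, 254556) (.node (.node .leaf (168371, 0, 15, 118763) .leaf) (168373, 0, 17, 42733) (.node .leaf (168374, 0, 17, 71342) .leaf))))))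

/-- part of the orbit tree -/
def itp5_71 : Tree := (.node (.node (.node (.node (.node (.node .leaf (168379, 0, 14, 256627) .leaf) (168381, 0, 16, 164725) (.node .leaf (168382, 0, 16, 209718) .leaf)) (168384, 0, 14, 157326) (.node (.node .leaf (168387, 0, 15, 65654) .leaf) (168389, 0, 16, 180171) (.node .leaf (168390, 0, 16, 200584) .leaf))) (168392, 0, 13, 17174) (.node (.node (.node .leaf (168395, 0, 17, 127829) .leaf) (168397, 0, 13, 32133) (.node .leaf (168398, 0, 17, 76304) .leaf)) (168401, 0, 16, 65213) (.node (.node .leaf (168402, 0, 17, 77742) .leaf) (168404, 0, 15, 10232) (.node .leaf (168407, 0, 18, 67997) .leaf)))) (168409, 0, 17, 187173) (.node (.node (.node (.node .leaf (168410, 0, 16, 224102) .leaf) (168412, 0, 15, 131680) (.node .leaf (168415, 0, 14, 242211) .leaf)) (168417, 0, 16, 101661) (.node (.node .leaf (168418, 0, 15, 15710) .leaf) (168420, 0, 15, 87128) (.node .leaf (168423, 0, 16, 58395) .leaf))) (168425, 0, 18, 229266) (.node (.node (.node .leaf (168426, 0, 13, 184014) .leaf) (168428, 0, 14, 219553)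 (.node .leaf (168431, 0, 15, 180611) .leaf)) (168432, 0, 12, 244438) (.node (.node .leaf (168435, 0, 17, 173421) .leaf) (168437, 0, 15, 236773) (.node .leaf (168438, 0, 17, 142777) .leaf))))) (168440, 0, 12, 78006) (.node (.node (.node (.node (.node .leaf (168443, 0, 18, 188694) .leaf) (168445, 0, 15, 226937) (.node .leaf (168446, 0, 17, 22960) .leaf)) (168448, 0, 15, 244486) (.node (.node .leaf (168449, 0, 18, 123432) .leaf) (168454, 0, 15, 97280) (.node .leaf (168455, 0, 16, 30023) .leaf))) (168456, 0, 19, 143518) (.node (.node (.node .leaf (168457, 0, 18, 184568) .leaf) (168462, 0, 11, 182005) (.node .leaf (168463, 0, 17, 40923) .leaf)) (168466, 0, 16, 212342) (.node (.node .leaf (168467, 0, 14, 253200) .leaf) (168468, 0, 18, 242413) (.node .leaf (168469, 0, 16, 177174) .leaf)))) (168474, 0, 15, 184094) (.node (.node (.node (.node .leaf (168475, 0, 16, 129160) .leaf) (168476, 0, 16, 29160) (.node .leaf (168477, 0, 17, 65887) .leaf)) (168482, 0, 16, 77438) (.node (.node .leaf (168483, 0, 14, 227152) .leaf) (168484, 0, 15,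 206800) (.node .leaf (168485, 0, 17, 247734) .leaf))) (168490, 0, 10, 115938) (.node (.node (.node .leaf (168491, 0, 14, 35624) .leaf) (168492, 0, 16, 66120) (.node .leaf (168493, 0, 16, 123438) .leaf)) (168496, 0, 14, 91814) (.node (.node .leaf (168497, 0, 19, 100032) .leaf) (168502, 0, 16, 4000) (.node .leaf (168503, 0, 17, 61382) .leaf))))))

/-- part of the orbit tree -/
def itp5_72 : Tree := (.node (.node (.node (.node (.node (.node .leaf (168505, 0, 18, 131912) .leaf) (168510, 0, 18, 118025) (.node .leaf (168511, 0, 16, 182878) .leaf)) (168512, 0, 17, 229248) (.node (.node .leaf (168513, 0, 17, 237542) .leaf) (168518, 0, 14, 136838) (.node .leaf (168519, 0, 16, 194272) .leaf))) (168520, 0, 14, 198928) (.node (.node (.node .leaf (168521, 0, 15, 113278) .leaf) (168526, 0, 16, 171647) (.node .leaf (168527, 0, 18, 51025) .leaf)) (168530, 0, 13, 22512) (.node (.node .leaf (168531, 0, 16, 46998) .leaf) (168532, 0, 11, 81654) (.node .leaf (168533, 0, 17, 122512) .leaf)))) (168538, 0, 17, 160360) (.node (.node (.node (.node .leaf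 (168539, 0, 12, 168462) .leaf) (168540, 0, 16, 203630) (.node .leaf (168541, 0, 16, 260872) .leaf)) (168546, 0, 15, 74832) (.node (.node .leaf (168547, 0, 15, 208858) .leaf) (168548, 0, 14, 57755) (.node .leaf (168549, 0, 13, 178357) .leaf))) (168554, 0, 14, 197064) (.node (.node (.node .leaf (168555, 0, 16, 254382) .leaf) (168556, 0, 18, 2823) (.node .leaf (168557, 0, 18, 152105) .leaf)) (168560, 0, 16, 59504) (.node (.node .leaf (168561, 0, 14, 191558) .leaf) (168566, 0, 16, 98079) (.node .leaf (168567, 0, 15, 206385) .leaf))))) (168568, 0, 14, 10680) (.node (.node (.node (.node (.node .leaf (168569, 0, 7, 51678) .leaf) (168574, 0, 17, 82110) (.node .leaf (168575, 0, 18, 249005) .leaf)) (168578, 0, 15, 250409) (.node (.node .leaf (168579, 0, 16, 209487) .leaf) (168580, 0, 15, 160882) (.node .leaf (168581, 0, 17, 11612) .leaf))) (168586, 0, 16, 128945) (.node (.node (.node .leaf (168587, 0, 15, 71639) .leaf) (168588, 0, 19, 40631) (.node .leaf (168589, 0, 16, 32465) .leaf)) (168592, 0, 17, 163225) (.node (.node .leaf (168593,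 0, 18, 6719) .leaf) (168598, 0, 16, 256758) (.node .leaf (168599, 0, 17, 95033) .leaf)))) (168600, 0, 14, 188353) (.node (.node (.node (.node .leaf (168601, 0, 12, 147367) .leaf) (168606, 0, 18, 196714) (.node .leaf (168607, 0, 18, 218785) .leaf)) (168608, 0, 14, 95845) (.node (.node .leaf (168609, 0, 14, 92575) .leaf) (168614, 0, 17, 57599) (.node .leaf (168615, 0, 15, 153) .leaf))) (168616, 0, 15, 105721) (.node (.node (.node .leaf (168617, 0, 13, 216071) .leaf) (168622, 0, 15, 2966) (.node .leaf (168623, 0, 16, 140545) .leaf)) (168626, 0, 17, 59617) (.node (.node .leaf (168627, 0, 14, 147951) .leaf) (168628, 0, 14, 98190) .leaf)))))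

/-- part of the orbit tree -/
def itp5_73 : Tree := (.node itp5_69 (168249, 0, 14, 188807) itp5_70)

/-- part of the orbit tree -/
def itp5_74 : Tree := (.node itp5_71 (168504, 0, 17, 23142) itp5_72)

/-- part of the orbit tree -/
def itp5_75 : Tree := (.node itp5_67 (167860, 0, 16, 138077) itp5_68)

/-- part of the orbit tree -/
def itp5_76 : Tree := (.node itp5_73 (168376, 0, 16, 198848) itp5_74)

/-- part of the orbit tree -/
def itp5_77 : Tree := (.node (.node (.node (.node (.node (.node .leaf (168634, 0, 17, 33809) .leaf) (168635, 0, 16, 25719) (.node .leaf (168636, 0, 17, 126231) .leaf)) (168637, 0, 16, 248892) (.node (.node .leaf (168642, 0, 13, 244631) .leaf) (168643, 0, 16, 22729) (.node .leaf (168644, 0, 16, 142584) .leaf))) (168645, 0, 15, 78287) (.node (.node (.node .leaf (168650, 0, 18, 171319) .leaf) (168651, 0, 16, 163153) (.node .leaf (168652, 0, 16, 259121) .leaf)) (168653, 0, 18, 40778) (.node (.node .leaf (168656, 0, 15, 233695) .leaf) (168657, 0, 18, 31805) (.node .leaf (168662, 0, 16, 195033) .leaf))))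 (168663, 0, 14, 125778) (.node (.node (.node (.node .leaf (168664, 0, 16, 111943) .leaf) (168665, 0, 15, 87329) (.node .leaf (168670, 0, 16, 56385) .leaf)) (168671, 0, 15, 65998) (.node (.node .leaf (168672, 0, 14, 189311) .leaf) (168673, 0, 17, 227265) (.node .leaf (168678, 0, 17, 47488) .leaf))) (168679, 0, 14, 188590) (.node (.node (.node .leaf (168680, 0, 18, 50919) .leaf) (168681, 0, 16, 9857) (.node .leaf (168686, 0, 17, 110561) .leaf)) (168687, 0, 15, 133682) (.node (.node .leaf (168690, 0, 16, 117519) .leaf) (168691, 0, 16, 76649) (.node .leaf (168692, 0, 14, 75524) .leaf))))) (168693, 0, 17, 17007) (.node (.node (.node (.node (.node .leaf (168698, 0, 14, 23287) .leaf) (168699, 0, 15, 200433) (.node .leaf (168700, 0, 16, 118168) .leaf)) (168701, 0, 16, 234678) (.node (.node .leaf (168704, 0, 18, 220389) .leaf) (168705, 0, 15, 67019) (.node .leaf (168710, 0, 16, 188020) .leaf))) (168711, 0, 15, 37540) (.node (.node (.node .leaf (168712, 0, 17, 103146) .leaf) (168713, 0, 16, 126807) (.node .leaf (168718, 0, 12, 64492)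 .leaf)) (168719, 0, 10, 30776) (.node (.node .leaf (168722, 0, 14, 40706) .leaf) (168723, 0, 14, 32612) (.node .leaf (168724, 0, 15, 128516) .leaf)))) (168725, 0, 16, 71266) (.node (.node (.node (.node .leaf (168730, 0, 16, 178842) .leaf) (168731, 0, 14, 154364) (.node .leaf (168732, 0, 15, 245650) .leaf)) (168733, 0, 15, 209914) (.node (.node .leaf (168738, 0, 15, 126114) .leaf) (168739, 0, 17, 233651) (.node .leaf (168740, 0, 16, 24306) .leaf))) (168741, 0, 16, 133084) (.node (.node (.node .leaf (168746, 0, 17, 74497) .leaf) (168747, 0, 16, 207196) (.node .leaf (168748, 0, 16, 46190) .leaf)) (168749, 0, 15, 191808) (.node (.node .leaf (168752, 0, 14, 181458) .leaf) (168753, 0, 13, 134711) (.node .leaf (168758, 0, 16, 114806) .leaf))))))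

/-- part of the orbit tree -/
def itp5_78 : Tree := (.node (.node (.node (.node (.node (.node .leaf (168760, 0, 17, 57674) .leaf) (168761, 0, 17, 300) (.node .leaf (168766, 0, 18, 100428) .leaf)) (168767, 0, 18, 226244) (.node (.node .leaf (168768, 0, 16, 56820) .leaf) (168769, 0, 15, 89409) (.node .leaf (168774, 0, 16, 111858) .leaf))) (168775, 0, 16, 51758) (.node (.node (.node .leaf (168776, 0, 15, 194668) .leaf) (168777, 0, 15, 112605) (.node .leaf (168782, 0, 17, 233834) .leaf)) (168783, 0, 15, 8370) (.node (.node .leaf (168786, 0, 15, 259460) .leaf) (168787, 0, 17, 50117) (.node .leaf (168788, 0, 15, 171138) .leaf)))) (168789, 0, 18, 163044) (.node (.node (.node (.node .leaf (168794, 0, 16, 159863) .leaf) (168795, 0, 16, 77946) (.node .leaf (168796, 0, 16, 47386) .leaf)) (168797, 0, 17, 22908) (.node (.node .leaf (168802, 0, 18, 165412) .leaf) (168803, 0, 16, 157250) (.node .leaf (168804, 0, 16, 257826) .leaf))) (168805, 0, 15, 155478) (.node (.node (.node .leaf (168810, 0, 17, 97163) .leaf) (168811, 0, 16, 17370) (.node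 .leaf (168812, 0, 18, 117434) .leaf)) (168813, 0, 14, 76508) (.node (.node .leaf (168816, 0, 18, 3987) .leaf) (168817, 0, 16, 85554) (.node .leaf (168822, 0, 15, 51026) .leaf))))) (168823, 0, 18, 246226) (.node (.node (.node (.node (.node .leaf (168824, 0, 18, 232396) .leaf) (168825, 0, 17, 179233) (.node .leaf (168830, 0, 15, 189130) .leaf)) (168831, 0, 15, 207694) (.node (.node .leaf (168834, 0, 18, 28765) .leaf) (168835, 0, 16, 36923) (.node .leaf (168836, 0, 14, 168849) .leaf))) (168837, 0, 12, 51903) (.node (.node (.node .leaf (168842, 0, 15, 153029) .leaf) (168843, 0, 13, 112460) (.node .leaf (168844, 0, 17, 162061) .leaf)) (168845, 0, 15, 8227) (.node (.node .leaf (168848, 0, 17, 219181) .leaf) (168849, 0, 13, 243787) (.node .leaf (168854, 0, 18, 199957) .leaf)))) (168855, 0, 17, 87099) (.node (.node (.node (.node .leaf (168856, 0, 12, 159974) .leaf) (168857, 0, 14, 105939) (.node .leaf (168862, 0, 17, 5299) .leaf)) (168863, 0, 17, 114343) (.node (.node .leaf (168864, 0, 13, 142221) .leaf) (168865, 0, 15, 183275) (.node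 .leaf (168870, 0, 17, 213643) .leaf))) (168871, 0, 15, 238317) (.node (.node (.node .leaf (168872, 0, 16, 3605) .leaf) (168873, 0, 15, 205364) (.node .leaf (168878, 0, 16, 60533) .leaf)) (168879, 0, 15, 177499) (.node (.node .leaf (168882, 0, 14, 3842) .leaf) (168883, 0, 17, 123803) (.node .leaf (168884, 0, 16, 27387) .leaf))))))

/-- part of the orbit tree -/
def itp5_79 : Tree := (.node (.node (.node (.node (.node (.node .leaf (168890, 0, 17, 206437) .leaf) (168891, 0, 17, 247299) (.node .leaf (168892, 0, 17, 151395) .leaf)) (168893, 0, 14, 207839) (.node (.node .leaf (168898, 0, 14, 220276) .leaf) (168899, 0, 17, 66906) (.node .leaf (168900, 0, 11, 183067) .leaf))) (168901, 0, 17, 37429) (.node (.node (.node .leaf (168906, 0, 18, 243432) .leaf) (168907, 0, 13, 126918) (.node .leaf (168908, 0, 15, 22085) .leaf)) (168909, 0, 18, 46627) (.node (.node .leaf (168912, 0, 10, 180976) .leaf) (168913, 0, 16, 39902) (.node .leaf (168918, 0, 16, 89005) .leaf)))) (168919, 0, 13, 68785) (.node (.node (.node (.node .leaf (168920, 0, 17,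 137011) .leaf) (168921, 0, 13, 28994) (.node .leaf (168926, 0, 18, 245507) .leaf)) (168927, 0, 16, 124461) (.node (.node .leaf (168928, 0, 17, 82187) .leaf) (168929, 0, 18, 106861) (.node .leaf (168934, 0, 16, 24163) .leaf))) (168935, 0, 14, 51307) (.node (.node (.node .leaf (168936, 0, 16, 222355) .leaf) (168937, 0, 16, 230645) (.node .leaf (168942, 0, 17, 46335) .leaf)) (168943, 0, 16, 191987) (.node (.node .leaf (168946, 0, 15, 22408) .leaf) (168947, 0, 4, 134822) (.node .leaf (168948, 0, 14, 114919) .leaf))))) (168949, 0, 17, 253979) (.node (.node (.node (.node (.node .leaf (168954, 0, 16, 48404) .leaf) (168955, 0, 15, 44165) (.node .leaf (168956, 0, 16, 76411) .leaf)) (168957, 0, 16, 226133) (.node (.node .leaf (168960, 0, 17, 46046) .leaf) (168962, 0, 13, 29691) (.node .leaf (168965, 0, 17, 129691) .leaf))) (168967, 0, 16, 43710) (.node (.node (.node .leaf (168968, 0, 17, 22850) .leaf) (168970, 0, 16, 153187) (.node .leaf (168973, 0, 15, 253699) .leaf)) (168975, 0, 15, 235267) (.node (.node .leaf (168977, 0, 17, 39942)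 .leaf) (168979, 0, 17, 226420) (.node .leaf (168980, 0, 16, 47669) .leaf)))) (168982, 0, 15, 144013) (.node (.node (.node (.node .leaf (168985, 0, 15, 106101) .leaf) (168987, 0, 17, 237288) (.node .leaf (168988, 0, 16, 83760) .leaf)) (168990, 0, 13, 5909) (.node (.node .leaf (168993, 0, 13, 182349) .leaf) (168995, 0, 15, 235624) (.node .leaf (168996, 0, 12, 242121) .leaf))) (168998, 0, 17, 22971) (.node (.node (.node .leaf (169001, 0, 17, 228710) .leaf) (169003, 0, 14, 38164) (.node .leaf (169004, 0, 16, 219989) .leaf)) (169006, 0, 17, 45863) (.node (.node .leaf (169008, 0, 15, 20606) .leaf) (169010, 0, 14, 20560) (.node .leaf (169013, 0, 16, 35131) .leaf))))))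

/-- part of the orbit tree -/
def itp5_80 : Tree := (.node (.node (.node (.node (.node (.node .leaf (169016, 0, 17, 161254) .leaf) (169018, 0, 16, 206275) (.node .leaf (169021, 0, 18, 226445) .leaf)) (169023, 0, 12, 40191) (.node (.node .leaf (169024, 0, 16, 60244) .leaf) (169026, 0, 14, 197414) (.node .leaf (169029, 0, 15, 52583) .leaf))) (169031, 0, 15, 245816) (.node (.node (.node .leaf (169032, 0, 17, 456) .leaf) (169034, 0, 15, 81125) (.node .leaf (169037, 0, 14, 10235) .leaf)) (169039, 0, 18, 124320) (.node (.node .leaf (169041, 0, 13, 53611) .leaf) (169043, 0, 15, 98638) (.node .leaf (169044, 0, 16, 58047) .leaf)))) (169046, 0, 18, 199373) (.node (.node (.node (.node .leaf (169049, 0, 17, 193779) .leaf) (169051, 0, 16, 247394) (.node .leaf (169052, 0, 16, 2083) .leaf)) (169054, 0, 17, 228755) (.node (.node .leaf (169057, 0, 18, 107211) .leaf) (169059, 0, 15, 9986) (.node .leaf (169060, 0, 15, 256323) .leaf))) (169062, 0, 17, 11179) (.node (.node (.node .leaf (169065, 0, 15, 231251) .leaf) (169067, 0, 12, 52638) (.node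 .leaf (169068, 0, 17, 197599) .leaf)) (169070, 0, 15, 60333) (.node (.node .leaf (169072, 0, 17, 211704) .leaf) (169074, 0, 19, 158429) (.node .leaf (169077, 0, 18, 247451) .leaf))))) (169079, 0, 18, 177048) (.node (.node (.node (.node (.node .leaf (169080, 0, 16, 73568) .leaf) (169082, 0, 12, 57926) (.node .leaf (169085, 0, 16, 207879) .leaf)) (169087, 0, 18, 50293) (.node (.node .leaf (169089, 0, 15, 88729) .leaf) (169091, 0, 10, 176875) (.node .leaf (169092, 0, 18, 232951) .leaf))) (169094, 0, 11, 187858) (.node (.node (.node .leaf (169097, 0, 17, 94506) .leaf) (169099, 0, 13, 153719) (.node .leaf (169100, 0, 16, 103990) .leaf)) (169102, 0, 17, 63562) (.node (.node .leaf (169104, 0, 18, 95553) .leaf) (169106, 0, 14, 171315) (.node .leaf (169109, 0, 15, 86898) .leaf)))) (169111, 0, 16, 17889) (.node (.node (.node (.node .leaf (169112, 0, 17, 106461) .leaf) (169114, 0, 18, 178492) (.node .leaf (169117, 0, 15, 208988) .leaf)) (169119, 0, 17, 155769) (.node (.node .leaf (169120, 0, 16, 163517) .leaf) (169122, 0, 17, 104143)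 (.node .leaf (169125, 0, 15, 26212) .leaf))) (169127, 0, 17, 110844) (.node (.node (.node .leaf (169128, 0, 14, 168993) .leaf) (169130, 0, 16, 97363) (.node .leaf (169133, 0, 16, 148476) .leaf)) (169135, 0, 14, 88672) (.node (.node .leaf (169137, 0, 10, 151909) .leaf) (169139, 0, 13, 227127) (.node .leaf (169140, 0, 14, 196183) .leaf))))))

/-- part of the orbit tree -/
def itp5_81 : Tree := (.node itp5_77 (168759, 0, 15, 235864) itp5_78)

/-- part of the orbit tree -/
def itp5_82 : Tree := (.node itp5_79 (169015, 0, 13, 30307) itp5_80)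

/-- part of the orbit tree -/
def itp5_83 : Tree := (.node (.node (.node (.node (.node (.node .leaf (169145, 0, 16, 650) .leaf) (169147, 0, 17, 86923) (.node .leaf (169148, 0, 15, 171466) .leaf)) (169150, 0, 16, 95672) (.node (.node .leaf (169153, 0, 17, 66067) .leaf) (169155, 0, 15, 191073) (.node .leaf (169156, 0, 15, 74784) .leaf))) (169158, 0, 12, 183378) (.node (.node (.node .leaf (169161, 0, 16, 138156) .leaf) (169163, 0, 12, 215945) (.node .leaf (169164, 0, 13, 118460) .leaf)) (169166, 0, 16, 141006) (.node (.node .leaf (169168, 0, 11, 173575) .leaf) (169170, 0, 17, 181689) (.node .leaf (169173, 0, 14, 163650) .leaf)))) (169175, 0, 15, 189322) (.node (.node (.node (.node .leaf (169176, 0, 18, 116567) .leaf) (169178, 0, 16, 119738) (.node .leaf (169181, 0, 17, 123236) .leaf)) (169183, 0, 16, 133398) (.node (.node .leaf (169184, 0, 19, 140855) .leaf) (169186, 0, 15, 118341) (.node .leaf (169189, 0, 12, 131076) .leaf))) (169191, 0, 11, 154823) (.node (.node (.node .leaf (169192, 0, 16, 127039) .leaf) (169194, 0, 17, 74969)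 (.node .leaf (169197, 0, 15, 76154) .leaf)) (169199, 0, 13, 31071) (.node (.node .leaf (169201, 0, 16, 133615) .leaf) (169203, 0, 16, 7601) (.node .leaf (169204, 0, 17, 143324) .leaf))))) (169206, 0, 12, 116654) (.node (.node (.node (.node (.node .leaf (169209, 0, 17, 223244) .leaf) (169211, 0, 11, 145449) (.node .leaf (169212, 0, 16, 181568) .leaf)) (169214, 0, 13, 188780) (.node (.node .leaf (169216, 0, 14, 21565) .leaf) (169218, 0, 14, 244815) (.node .leaf (169221, 0, 17, 153839) .leaf))) (169223, 0, 15, 198858) (.node (.node (.node .leaf (169224, 0, 17, 48801) .leaf) (169226, 0, 17, 218835) (.node .leaf (169229, 0, 14, 32119) .leaf)) (169231, 0, 16, 77138) (.node (.node .leaf (169233, 0, 17, 6553) .leaf) (169235, 0, 18, 84412) (.node .leaf (169236, 0, 16, 24022) .leaf)))) (169238, 0, 18, 102649) (.node (.node (.node (.node .leaf (169241, 0, 16, 37241) .leaf) (169243, 0, 17, 227595) (.node .leaf (169244, 0, 19, 189764) .leaf)) (169246, 0, 16, 220984) (.node (.node .leaf (169249, 0, 13, 92729) .leaf) (169251, 0, 16, 14876)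 (.node .leaf (169252, 0, 18, 218666) .leaf))) (169254, 0, 17, 48728) (.node (.node (.node .leaf (169257, 0, 13, 236165) .leaf) (169259, 0, 13, 139140) (.node .leaf (169260, 0, 16, 244918) .leaf)) (169262, 0, 16, 181953) (.node (.node .leaf (169264, 0, 17, 221121) .leaf) (169266, 0, 18, 172591) (.node .leaf (169269, 0, 16, 227826) .leaf))))))

/-- part of the orbit tree -/
def itp5_84 : Tree := (.node (.node (.node (.node (.node (.node .leaf (169272, 0, 16, 120722) .leaf) (169274, 0, 16, 23855) (.node .leaf (169277, 0, 15, 69335) .leaf)) (169279, 0, 14, 31516) (.node (.node .leaf (169280, 0, 17, 3255) .leaf) (169282, 0, 15, 255173) (.node .leaf (169285, 0, 17, 78441) .leaf))) (169287, 0, 13, 246518) (.node (.node (.node .leaf (169288, 0, 16, 58923) .leaf) (169290, 0, 17, 171665) (.node .leaf (169293, 0, 17, 49176) .leaf)) (169295, 0, 15, 149460) (.node (.node .leaf (169297, 0, 18, 9071) .leaf) (169299, 0, 17, 140090) (.node .leaf (169300, 0, 17, 1372) .leaf)))) (169302, 0, 18, 195199) (.node (.node (.node (.node .leaf (169305,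 0, 15, 51699) .leaf) (169307, 0, 17, 1698) (.node .leaf (169308, 0, 15, 102338) .leaf)) (169310, 0, 16, 198578) (.node (.node .leaf (169313, 0, 16, 131263) .leaf) (169315, 0, 17, 217242) (.node .leaf (169316, 0, 17, 186874) .leaf))) (169318, 0, 17, 231903) (.node (.node (.node .leaf (169321, 0, 17, 9511) .leaf) (169323, 0, 17, 10877) (.node .leaf (169324, 0, 16, 64610) .leaf)) (169326, 0, 17, 3150) (.node (.node .leaf (169328, 0, 15, 198475) .leaf) (169330, 0, 16, 116905) (.node .leaf (169333, 0, 18, 16841) .leaf))))) (169335, 0, 16, 70124) (.node (.node (.node (.node (.node .leaf (169336, 0, 18, 257495) .leaf) (169338, 0, 16, 1445) (.node .leaf (169341, 0, 17, 248804) .leaf)) (169343, 0, 14, 9110) (.node (.node .leaf (169345, 0, 14, 114042) .leaf) (169347, 0, 17, 108259) (.node .leaf (169348, 0, 20, 12163) .leaf))) (169350, 0, 17, 160571) (.node (.node (.node .leaf (169353, 0, 18, 88038) .leaf) (169355, 0, 17, 180116) (.node .leaf (169356, 0, 17, 94677) .leaf)) (169358, 0, 16, 219710) (.node (.node .leaf (169360, 0, 11, 159477)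 .leaf) (169362, 0, 16, 212688) (.node .leaf (169365, 0, 16, 178096) .leaf)))) (169367, 0, 16, 255893) (.node (.node (.node (.node .leaf (169368, 0, 17, 19309) .leaf) (169370, 0, 18, 168012) (.node .leaf (169373, 0, 18, 89613) .leaf)) (169375, 0, 16, 177791) (.node (.node .leaf (169376, 0, 13, 170334) .leaf) (169378, 0, 17, 150896) (.node .leaf (169381, 0, 16, 246800) .leaf))) (169383, 0, 16, 87839) (.node (.node (.node .leaf (169384, 0, 17, 80077) .leaf) (169386, 0, 17, 105392) (.node .leaf (169389, 0, 17, 123272) .leaf)) (169391, 0, 16, 114051) (.node (.node .leaf (169393, 0, 16, 177798) .leaf) (169395, 0, 18, 89844) (.node .leaf (169396, 0, 15, 168117) .leaf))))))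

/-- part of the orbit tree -/
def itp5_85 : Tree := (.node (.node (.node (.node (.node (.node .leaf (169401, 0, 18, 237822) .leaf) (169403, 0, 16, 111720) (.node .leaf (169404, 0, 13, 162345) .leaf)) (169406, 0, 17, 141726) (.node (.node .leaf (169409, 0, 15, 236608) .leaf) (169411, 0, 17, 183397) (.node .leaf (169412, 0, 18, 214277) .leaf))) (169414, 0, 18, 142257) (.node (.node (.node .leaf (169417, 0, 14, 69484) .leaf) (169419, 0, 17, 190238) (.node .leaf (169420, 0, 18, 76127) .leaf)) (169422, 0, 11, 180525) (.node (.node .leaf (169424, 0, 16, 117288) .leaf) (169426, 0, 15, 21590) (.node .leaf (169429, 0, 14, 122166) .leaf)))) (169431, 0, 18, 132201) (.node (.node (.node (.node .leaf (169432, 0, 16, 205291) .leaf) (169434, 0, 18, 182470) (.node .leaf (169437, 0, 13, 67207) .leaf)) (169439, 0, 13, 192245) (.node (.node .leaf (169440, 0, 15, 180692) .leaf) (169442, 0, 18, 76198) (.node .leaf (169445, 0, 15, 190439) .leaf))) (169447, 0, 16, 69525) (.node (.node (.node .leaf (169448, 0, 17, 152139) .leaf) (169450, 0, 18, 197230)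 (.node .leaf (169453, 0, 18, 166670) .leaf)) (169455, 0, 14, 124169) (.node (.node .leaf (169457, 0, 16, 192480) .leaf) (169459, 0, 17, 67198) (.node .leaf (169460, 0, 16, 145061) .leaf))))) (169462, 0, 15, 222848) (.node (.node (.node (.node (.node .leaf (169465, 0, 18, 132240) .leaf) (169467, 0, 14, 105053) (.node .leaf (169468, 0, 14, 4925) .leaf)) (169470, 0, 15, 117457) (.node (.node .leaf (169476, 0, 17, 79501) .leaf) (169477, 0, 16, 120555) (.node .leaf (169478, 0, 15, 26280) .leaf))) (169479, 0, 15, 227507) (.node (.node (.node .leaf (169484, 0, 10, 201493) .leaf) (169485, 0, 16, 31325) (.node .leaf (169486, 0, 18, 117505) .leaf)) (169487, 0, 14, 172886) (.node (.node .leaf (169488, 0, 14, 227323) .leaf) (169489, 0, 17, 39210) (.node .leaf (169490, 0, 15, 141278) .leaf)))) (169491, 0, 18, 182200) (.node (.node (.node (.node .leaf (169496, 0, 14, 141976) .leaf) (169497, 0, 17, 111109) (.node .leaf (169498, 0, 18, 115434) .leaf)) (169499, 0, 12, 57888) (.node (.node .leaf (169504, 0, 13, 132187) .leaf) (169505, 0, 17,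 189501) (.node .leaf (169506, 0, 17, 218238) .leaf))) (169507, 0, 17, 31396) (.node (.node (.node .leaf (169512, 0, 16, 74084) .leaf) (169513, 0, 13, 227402) (.node .leaf (169514, 0, 17, 182550) .leaf)) (169515, 0, 10, 102784) (.node (.node .leaf (169524, 0, 16, 17709) .leaf) (169525, 0, 15, 236349) (.node .leaf (169526, 0, 16, 70920) .leaf))))))

/-- part of the orbit tree -/
def itp5_86 : Tree := (.node (.node (.node (.node (.node (.node .leaf (169532, 0, 15, 155829) .leaf) (169533, 0, 18, 225697) (.node .leaf (169534, 0, 15, 180477) .leaf)) (169535, 0, 16, 39379) (.node (.node .leaf (169540, 0, 14, 168293) .leaf) (169541, 0, 15, 179309) (.node .leaf (169542, 0, 17, 199726) .leaf))) (169543, 0, 16, 257096) (.node (.node (.node .leaf (169548, 0, 8, 162809) .leaf) (169549, 0, 13, 8919) (.node .leaf (169550, 0, 17, 76214) .leaf)) (169551, 0, 15, 248485) (.node (.node .leaf (169552, 0, 15, 170126) .leaf) (169553, 0, 13, 49568) (.node .leaf (169554, 0, 12, 85336) .leaf)))) (169555, 0, 12, 109886) (.node (.node (.node (.node .leaf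 (169560, 0, 16, 160274) .leaf) (169561, 0, 18, 11068) (.node .leaf (169562, 0, 16, 223424) .leaf)) (169563, 0, 12, 231590) (.node (.node .leaf (169568, 0, 18, 103282) .leaf) (169569, 0, 18, 248412) (.node .leaf (169570, 0, 11, 16120) .leaf))) (169571, 0, 17, 8750) (.node (.node (.node .leaf (169576, 0, 16, 96750) .leaf) (169577, 0, 16, 240419) (.node .leaf (169578, 0, 13, 168348) .leaf)) (169579, 0, 14, 195334) (.node (.node .leaf (169588, 0, 17, 105113) .leaf) (169589, 0, 15, 249805) (.node .leaf (169590, 0, 15, 160491) .leaf))))) (169591, 0, 16, 11205) (.node (.node (.node (.node (.node .leaf (169596, 0, 14, 94213) .leaf) (169597, 0, 18, 125525) (.node .leaf (169598, 0, 18, 23062) .leaf)) (169599, 0, 14, 49497) (.node (.node .leaf (169600, 0, 16, 235684) .leaf) (169601, 0, 17, 90037) (.node .leaf (169602, 0, 14, 182401) .leaf))) (169603, 0, 14, 141543) (.node (.node (.node .leaf (169608, 0, 12, 113980) .leaf) (169609, 0, 17, 111913) (.node .leaf (169610, 0, 14, 60697) .leaf)) (169611, 0, 13, 154971) (.node (.node .leaf (169620,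 0, 19, 121298) .leaf) (169621, 0, 18, 87646) (.node .leaf (169622, 0, 17, 59138) .leaf)))) (169623, 0, 12, 27025) (.node (.node (.node (.node .leaf (169628, 0, 16, 255468) .leaf) (169629, 0, 16, 113858) (.node .leaf (169630, 0, 14, 175215) .leaf)) (169631, 0, 17, 152752) (.node (.node .leaf (169636, 0, 15, 43634) .leaf) (169637, 0, 13, 18964) (.node .leaf (169638, 0, 17, 129623) .leaf))) (169639, 0, 13, 112080) (.node (.node (.node .leaf (169644, 0, 17, 60944) .leaf) (169645, 0, 15, 177982) (.node .leaf (169646, 0, 16, 253903) .leaf)) (169647, 0, 15, 212905) (.node (.node .leaf (169648, 0, 17, 3431) .leaf) (169649, 0, 14, 133986) .leaf)))))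

/-- part of the orbit tree -/
def itp5_87 : Tree := (.node itp5_83 (169271, 0, 18, 162666) itp5_84)

/-- part of the orbit tree -/
def itp5_88 : Tree := (.node itp5_85 (169527, 0, 13, 29519) itp5_86)

/-- part of the orbit tree -/
def itp5_89 : Tree := (.node itp5_81 (168885, 0, 17, 35485) itp5_82)

/-- part of the orbit tree -/
def itp5_90 : Tree := (.node itp5_87 (169398, 0, 16, 96455) itp5_88)

/-- part of the orbit tree -/
def itp5_91 : Tree := (.node itp5_75 (168120, 0, 16, 257827) itp5_76)

/-- part of the orbit tree -/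
def itp5_92 : Tree := (.node itp5_89 (169142, 0, 13, 241266) itp5_90)

/-- part of the orbit tree -/
def itp5_93 : Tree := (.node (.node (.node (.node (.node (.node .leaf (169651, 0, 13, 219975) .leaf) (169656, 0, 16, 59387) (.node .leaf (169657, 0, 19, 12026) .leaf)) (169658, 0, 17, 200585) (.node (.node .leaf (169659, 0, 17, 87719) .leaf) (169664, 0, 14, 220689) (.node .leaf (169665, 0, 16, 4676) .leaf))) (169666, 0, 17, 107015) (.node (.node (.node .leaf (169667, 0, 13, 82529) .leaf) (169672, 0, 13, 242829) (.node .leaf (169673, 0, 13, 126371) .leaf)) (169674, 0, 15, 231327) (.node (.node .leaf (169675, 0, 16, 132561) .leaf) (169684, 0, 16, 219130) (.node .leaf (169685, 0, 16, 69332) .leaf)))) (169686, 0, 17, 49032) (.node (.node (.node (.node .leaf (169687, 0, 16, 197399) .leaf) (169692, 0, 17, 245094) (.node .leaf (169693, 0, 14, 123976) .leaf)) (169694, 0, 13, 116457) (.node (.node .leaf (169695, 0, 15, 75407) .leaf) (169700, 0, 15, 246004) (.node .leaf (169701, 0, 15, 132392) .leaf))) (169702, 0, 15, 168145) (.node (.node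 (.node .leaf (169703, 0, 17, 126298) .leaf) (169708, 0, 12, 124268) (.node .leaf (169709, 0, 16, 66826) .leaf)) (169710, 0, 12, 46409) (.node (.node .leaf (169711, 0, 16, 67526) .leaf) (169712, 0, 15, 21997) (.node .leaf (169713, 0, 18, 90596) .leaf))))) (169714, 0, 17, 53671) (.node (.node (.node (.node (.node .leaf (169715, 0, 14, 12737) .leaf) (169720, 0, 16, 238618) (.node .leaf (169721, 0, 16, 214140) .leaf)) (169722, 0, 16, 193599) (.node (.node .leaf (169723, 0, 17, 69165) .leaf) (169732, 0, 18, 169209) (.node .leaf (169733, 0, 16, 160927) .leaf))) (169734, 0, 13, 116350) (.node (.node (.node .leaf (169735, 0, 16, 206010) .leaf) (169740, 0, 14, 45409) (.node .leaf (169741, 0, 17, 20743) .leaf)) (169742, 0, 16, 123204) (.node (.node .leaf (169743, 0, 17, 65826) .leaf) (169744, 0, 16, 54671) (.node .leaf (169745, 0, 17, 32457) .leaf)))) (169746, 0, 16, 99754) (.node (.node (.node (.node .leaf (169747, 0, 17, 91596) .leaf) (169752, 0, 15, 183675) (.node .leaf (169753, 0, 16, 135281) .leaf)) (169754, 0, 15, 237618) (.node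 (.node .leaf (169755, 0, 15, 213076) .leaf) (169760, 0, 16, 108079) (.node .leaf (169761, 0, 16, 226613) .leaf))) (169762, 0, 15, 62986) (.node (.node (.node .leaf (169763, 0, 14, 40263) .leaf) (169768, 0, 18, 116359) (.node .leaf (169769, 0, 17, 237481) .leaf)) (169770, 0, 15, 185234) (.node (.node .leaf (169771, 0, 17, 30683) .leaf) (169780, 0, 19, 75248) (.node .leaf (169781, 0, 17, 228574) .leaf))))))

/-- part of the orbit tree -/
def itp5_94 : Tree := (.node (.node (.node (.node (.node (.node .leaf (169783, 0, 18, 38060) .leaf) (169788, 0, 16, 118636) (.node .leaf (169789, 0, 15, 74407) .leaf)) (169790, 0, 16, 141086) (.node (.node .leaf (169791, 0, 17, 29314) .leaf) (169796, 0, 16, 130687) (.node .leaf (169797, 0, 12, 12200) .leaf))) (169798, 0, 18, 44634) (.node (.node (.node .leaf (169799, 0, 15, 247770) .leaf) (169804, 0, 15, 252903) (.node .leaf (169805, 0, 16, 50484) .leaf)) (169806, 0, 16, 166850) (.node (.node .leaf (169807, 0, 13, 158628) .leaf) (169808, 0, 12, 245513) (.node .leaf (169809, 0, 17, 221039) .leaf))))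 (169810, 0, 16, 192300) (.node (.node (.node (.node .leaf (169811, 0, 16, 249393) .leaf) (169816, 0, 17, 169457) (.node .leaf (169817, 0, 17, 52447) .leaf)) (169818, 0, 15, 97667) (.node (.node .leaf (169819, 0, 18, 10962) .leaf) (169824, 0, 18, 183465) (.node .leaf (169825, 0, 18, 142543) .leaf))) (169826, 0, 19, 171235) (.node (.node (.node .leaf (169827, 0, 17, 50637) .leaf) (169832, 0, 16, 105997) (.node .leaf (169833, 0, 13, 247587) .leaf)) (169834, 0, 17, 161407) (.node (.node .leaf (169835, 0, 16, 88434) .leaf) (169844, 0, 13, 97658) (.node .leaf (169845, 0, 16, 28089) .leaf))))) (169846, 0, 16, 122362) (.node (.node (.node (.node (.node .leaf (169847, 0, 16, 52262) .leaf) (169852, 0, 15, 174151) (.node .leaf (169853, 0, 13, 149537) .leaf)) (169854, 0, 16, 163732) (.node (.node .leaf (169855, 0, 17, 202756) .leaf) (169856, 0, 14, 15056) (.node .leaf (169857, 0, 12, 112726) .leaf))) (169858, 0, 16, 2314) (.node (.node (.node .leaf (169859, 0, 17, 101011) .leaf) (169864, 0, 16, 139080) (.node .leaf (169865, 0, 14, 196398)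 .leaf)) (169866, 0, 15, 58262) (.node (.node .leaf (169867, 0, 17, 178872) .leaf) (169876, 0, 18, 162726) (.node .leaf (169877, 0, 15, 170944) .leaf)))) (169878, 0, 15, 207747) (.node (.node (.node (.node .leaf (169879, 0, 17, 248805) .leaf) (169884, 0, 16, 197135) (.node .leaf (169885, 0, 17, 48728) .leaf)) (169886, 0, 17, 69147) (.node (.node .leaf (169887, 0, 15, 176979) .leaf) (169892, 0, 16, 198662) (.node .leaf (169893, 0, 18, 178753) .leaf))) (169894, 0, 16, 153635) (.node (.node (.node .leaf (169895, 0, 16, 178245) .leaf) (169900, 0, 16, 2547) (.node .leaf (169901, 0, 15, 151773) .leaf)) (169902, 0, 14, 254337) (.node (.node .leaf (169903, 0, 18, 112815) .leaf) (169904, 0, 17, 84336) (.node .leaf (169905, 0, 15, 108822) .leaf))))))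

/-- part of the orbit tree -/
def itp5_95 : Tree := (.node (.node (.node (.node (.node (.node .leaf (169907, 0, 18, 89048) .leaf) (169912, 0, 14, 24) (.node .leaf (169913, 0, 15, 153910) .leaf)) (169914, 0, 16, 146637) (.node (.node .leaf (169915, 0, 10, 110916) .leaf) (169920, 0, 17, 244210) (.node .leaf (169921, 0, 16, 241712) .leaf))) (169922, 0, 16, 20864) (.node (.node (.node .leaf (169923, 0, 15, 188437) .leaf) (169928, 0, 17, 217966) (.node .leaf (169929, 0, 15, 68160) .leaf)) (169930, 0, 18, 9707) (.node (.node .leaf (169931, 0, 17, 50573) .leaf) (169940, 0, 17, 241689) (.node .leaf (169941, 0, 16, 127302) .leaf)))) (169942, 0, 10, 16645) (.node (.node (.node (.node .leaf (169943, 0, 14, 131397) .leaf) (169948, 0, 15, 219781) (.node .leaf (169949, 0, 15, 251102) .leaf)) (169950, 0, 17, 156829) (.node (.node .leaf (169951, 0, 17, 191449) .leaf) (169956, 0, 18, 25216) (.node .leaf (169957, 0, 16, 189131) .leaf))) (169958, 0, 16, 78501) (.node (.node (.node .leaf (169959, 0, 12, 68281) .leaf) (169964, 0, 14, 20857) (.node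 .leaf (169965, 0, 18, 173950) .leaf)) (169966, 0, 16, 243979) (.node (.node .leaf (169967, 0, 18, 122917) .leaf) (169968, 0, 16, 45582) (.node .leaf (169969, 0, 13, 191264) .leaf))))) (169970, 0, 15, 219772) (.node (.node (.node (.node (.node .leaf (169971, 0, 17, 234421) .leaf) (169976, 0, 15, 1646) (.node .leaf (169977, 0, 16, 131516) .leaf)) (169978, 0, 18, 87627) (.node (.node .leaf (169979, 0, 17, 125390) .leaf) (169984, 0, 18, 260885) (.node .leaf (169987, 0, 16, 259881) .leaf))) (169988, 0, 16, 99336) (.node (.node (.node .leaf (169991, 0, 16, 249354) .leaf) (169992, 0, 16, 25330) (.node .leaf (169995, 0, 16, 172245) .leaf)) (169996, 0, 15, 93844) (.node (.node .leaf (169999, 0, 17, 57288) .leaf) (170001, 0, 17, 57177) (.node .leaf (170002, 0, 17, 93978) .leaf)))) (170005, 0, 16, 59002) (.node (.node (.node (.node .leaf (170006, 0, 17, 6796) .leaf) (170009, 0, 15, 212561) (.node .leaf (170010, 0, 16, 215682) .leaf)) (170013, 0, 18, 82252) (.node (.node .leaf (170014, 0, 17, 61456) .leaf) (170017, 0, 17, 57137) (.node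 .leaf (170018, 0, 18, 7354) .leaf))) (170021, 0, 16, 172076) (.node (.node (.node .leaf (170022, 0, 15, 201072) .leaf) (170025, 0, 14, 231777) (.node .leaf (170026, 0, 18, 99569) .leaf)) (170029, 0, 9, 241730) (.node (.node .leaf (170030, 0, 16, 131073) .leaf) (170032, 0, 17, 210122) (.node .leaf (170035, 0, 18, 165001) .leaf))))))

/-- part of the orbit tree -/
def itp5_96 : Tree := (.node (.node (.node (.node (.node (.node .leaf (170039, 0, 17, 212648) .leaf) (170040, 0, 16, 6773) (.node .leaf (170043, 0, 15, 41233) .leaf)) (170044, 0, 16, 75889) (.node (.node .leaf (170047, 0, 17, 38962) .leaf) (170048, 0, 18, 77292) (.node .leaf (170051, 0, 16, 135875) .leaf))) (170052, 0, 17, 70863) (.node (.node (.node .leaf (170055, 0, 14, 28126) .leaf) (170056, 0, 17, 198772) (.node .leaf (170059, 0, 16, 194655) .leaf)) (170060, 0, 15, 209239) (.node (.node .leaf (170063, 0, 15, 164116) .leaf) (170065, 0, 17, 243167) (.node .leaf (170066, 0, 18, 132508) .leaf)))) (170069, 0, 18, 127834) (.node (.node (.node (.node .leaf (170070, 0,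 15, 16902) .leaf) (170073, 0, 17, 222939) (.node .leaf (170074, 0, 18, 8196) .leaf)) (170077, 0, 17, 72134) (.node (.node .leaf (170078, 0, 16, 6439) .leaf) (170081, 0, 15, 181887) (.node .leaf (170082, 0, 13, 226876) .leaf))) (170085, 0, 14, 194726) (.node (.node (.node .leaf (170086, 0, 18, 215546) .leaf) (170089, 0, 15, 27943) (.node .leaf (170090, 0, 18, 121979) .leaf)) (170093, 0, 18, 135738) (.node (.node .leaf (170094, 0, 17, 238438) .leaf) (170096, 0, 17, 43107) (.node .leaf (170099, 0, 17, 126479) .leaf))))) (170100, 0, 13, 26479) (.node (.node (.node (.node (.node .leaf (170103, 0, 19, 120620) .leaf) (170104, 0, 15, 17151) (.node .leaf (170107, 0, 17, 127907) .leaf)) (170108, 0, 16, 148215) (.node (.node .leaf (170111, 0, 17, 232638) .leaf) (170113, 0, 17, 135762) (.node .leaf (170114, 0, 17, 98373) .leaf))) (170117, 0, 17, 2341) (.node (.node (.node .leaf (170118, 0, 17, 121875) .leaf) (170121, 0, 15, 136606) (.node .leaf (170122, 0, 16, 215442) .leaf)) (170125, 0, 17, 142525) (.node (.node .leaf (170126, 0, 14,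 236798) .leaf) (170128, 0, 17, 146826) (.node .leaf (170131, 0, 14, 232662) .leaf)))) (170132, 0, 14, 17047) (.node (.node (.node (.node .leaf (170135, 0, 14, 127947) .leaf) (170136, 0, 17, 186134) (.node .leaf (170139, 0, 18, 222794) .leaf)) (170140, 0, 18, 43019) (.node (.node .leaf (170143, 0, 17, 72023) .leaf) (170144, 0, 11, 79478) (.node .leaf (170147, 0, 17, 158678) .leaf))) (170148, 0, 15, 215403) (.node (.node (.node .leaf (170151, 0, 10, 152309) .leaf) (170152, 0, 16, 122090) (.node .leaf (170155, 0, 14, 28086) .leaf)) (170156, 0, 14, 238583) (.node (.node .leaf (170159, 0, 17, 135851) .leaf) (170161, 0, 16, 72110) (.node .leaf (170162, 0, 17, 43250) .leaf))))))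

/-- part of the orbit tree -/
def itp5_97 : Tree := (.node itp5_93 (169782, 0, 17, 183682) itp5_94)

/-- part of the orbit tree -/
def itp5_98 : Tree := (.node itp5_95 (170036, 0, 18, 167924) itp5_96)

/-- part of the orbit tree -/
def itp5_99 : Tree := (.node (.node (.node (.node (.node (.node .leaf (170166, 0, 13, 186351) .leaf) (170169, 0, 14, 222782) (.node .leaf (170170, 0, 16, 17006) .leaf)) (170173, 0, 18, 232495) (.node (.node .leaf (170174, 0, 14, 146803) .leaf) (170177, 0, 17, 219776) (.node .leaf (170178, 0, 19, 191171) .leaf))) (170181, 0, 17, 222115) (.node (.node (.node .leaf (170182, 0, 16, 185312) .leaf) (170185, 0, 17, 172100) (.node .leaf (170186, 0, 11, 53083) .leaf)) (170189, 0, 14, 83515) (.node (.node .leaf (170190, 0, 17, 93701) .leaf) (170192, 0, 15, 156928) (.node .leaf (170195, 0, 17, 29424) .leaf)))) (170196, 0, 18, 129936) (.node (.node (.node (.node .leaf (170199, 0, 17, 19411) .leaf) (170200, 0, 18, 255787) (.node .leaf (170203, 0, 17, 212672) .leaf)) (170204, 0, 15, 61569) (.node (.node .leaf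 (170207, 0, 14, 82397) .leaf) (170208, 0, 17, 93948) (.node .leaf (170211, 0, 12, 65872) .leaf))) (170212, 0, 14, 201185) (.node (.node (.node .leaf (170215, 0, 16, 172221) .leaf) (170216, 0, 14, 169099) (.node .leaf (170219, 0, 17, 206024) .leaf)) (170220, 0, 16, 175528) (.node (.node .leaf (170223, 0, 15, 204267) .leaf) (170225, 0, 14, 141600) (.node .leaf (170226, 0, 17, 61560) .leaf))))) (170229, 0, 17, 212537) (.node (.node (.node (.node (.node .leaf (170230, 0, 14, 237632) .leaf) (170233, 0, 15, 109496) (.node .leaf (170234, 0, 14, 6884) .leaf)) (170237, 0, 14, 13723) (.node (.node .leaf (170238, 0, 15, 157177) .leaf) (170240, 0, 16, 204022) (.node .leaf (170243, 0, 18, 21853) .leaf))) (170244, 0, 15, 91115) (.node (.node (.node .leaf (170247, 0, 16, 53943) .leaf) (170248, 0, 17, 245894) (.node .leaf (170251, 0, 15, 149302) .leaf)) (170252, 0, 15, 260517) (.node (.node .leaf (170255, 0, 16, 149990) .leaf) (170257, 0, 18, 209710) (.node .leaf (170258, 0, 16, 183662) .leaf)))) (170261, 0, 16, 85043) (.node (.node (.node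 (.node .leaf (170262, 0, 16, 64879) .leaf) (170265, 0, 17, 252338) (.node .leaf (170266, 0, 14, 157934) .leaf)) (170269, 0, 14, 90518) (.node (.node .leaf (170270, 0, 12, 53717) .leaf) (170273, 0, 16, 14546) (.node .leaf (170274, 0, 16, 245454) .leaf))) (170277, 0, 16, 149455) (.node (.node (.node .leaf (170278, 0, 13, 231405) .leaf) (170281, 0, 16, 11029) (.node .leaf (170282, 0, 16, 105302) .leaf)) (170285, 0, 13, 175443) (.node (.node .leaf (170286, 0, 18, 107125) .leaf) (170288, 0, 18, 38590) (.node .leaf (170291, 0, 14, 108118) .leaf))))))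

/-- part of the orbit tree -/
def itp5_100 : Tree := (.node (.node (.node (.node (.node (.node .leaf (170295, 0, 16, 73694) .leaf) (170296, 0, 17, 64918) (.node .leaf (170299, 0, 15, 197477) .leaf)) (170300, 0, 15, 166405) (.node (.node .leaf (170303, 0, 13, 211526) .leaf) (170304, 0, 16, 167832) (.node .leaf (170307, 0, 14, 193824) .leaf))) (170308, 0, 12, 177851) (.node (.node (.node .leaf (170311, 0, 14, 35389) .leaf) (170312, 0, 18, 241376) (.node .leaf (170315, 0, 18, 139196) .leaf)) (170316, 0, 18, 37667) (.node (.node .leaf (170319, 0, 15, 24737) .leaf) (170321, 0, 16, 224164) (.node .leaf (170322, 0, 16, 108520) .leaf)))) (170325, 0, 18, 70841) (.node (.node (.node (.node .leaf (170326, 0, 19, 42469) .leaf) (170329, 0, 14, 229688) (.node .leaf (170330, 0, 14, 230000) .leaf)) (170333, 0, 16, 130597) (.node (.node .leaf (170334, 0, 12, 20345) .leaf) (170337, 0, 16, 91147) (.node .leaf (170338, 0, 17, 54344) .leaf))) (170341, 0, 16, 89384) (.node (.node (.node .leaf (170342, 0, 16, 60779) .leaf) (170345, 0, 17, 35524)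 (.node .leaf (170346, 0, 14, 192976) .leaf)) (170349, 0, 18, 194009) (.node (.node .leaf (170350, 0, 17, 214149) .leaf) (170352, 0, 15, 261176) (.node .leaf (170355, 0, 16, 150651) .leaf))))) (170356, 0, 18, 247067) (.node (.node (.node (.node (.node .leaf (170359, 0, 17, 161112) .leaf) (170360, 0, 13, 42268) (.node .leaf (170363, 0, 18, 70720) .leaf)) (170364, 0, 17, 123011) (.node (.node .leaf (170367, 0, 15, 20672) .leaf) (170369, 0, 13, 193969) (.node .leaf (170370, 0, 12, 214253) .leaf))) (170373, 0, 14, 240465) (.node (.node (.node .leaf (170374, 0, 17, 138002) .leaf) (170377, 0, 16, 112618) (.node .leaf (170378, 0, 16, 1961) .leaf)) (170381, 0, 19, 102089) (.node (.node .leaf (170382, 0, 17, 119148) .leaf) (170384, 0, 18, 68161) (.node .leaf (170387, 0, 14, 224053) .leaf)))) (170388, 0, 16, 78690) (.node (.node (.node (.node .leaf (170391, 0, 16, 70696) .leaf) (170392, 0, 18, 208857) (.node .leaf (170395, 0, 15, 171930) .leaf)) (170396, 0, 15, 20456) (.node (.node .leaf (170399, 0, 14, 130740) .leaf) (170400, 0, 16,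 119189) (.node .leaf (170403, 0, 15, 117154) .leaf))) (170404, 0, 13, 16578) (.node (.node (.node .leaf (170407, 0, 17, 127105) .leaf) (170408, 0, 16, 154745) (.node .leaf (170411, 0, 18, 257082) .leaf)) (170412, 0, 15, 157018) (.node (.node .leaf (170415, 0, 11, 251161) .leaf) (170417, 0, 16, 188882) (.node .leaf (170418, 0, 17, 217489) .leaf))))))

/-- part of the orbit tree -/
def itp5_101 : Tree := (.node (.node (.node (.node (.node (.node .leaf (170422, 0, 18, 143372) .leaf) (170425, 0, 17, 70865) (.node .leaf (170426, 0, 16, 42381) .leaf)) (170429, 0, 19, 64873) (.node (.node .leaf (170430, 0, 13, 85290) .leaf) (170433, 0, 14, 175419) (.node .leaf (170434, 0, 17, 203879) .leaf))) (170437, 0, 16, 53798) (.node (.node (.node .leaf (170438, 0, 13, 94612) .leaf) (170441, 0, 16, 149415) (.node .leaf (170442, 0, 16, 224559) .leaf)) (170445, 0, 18, 189519) (.node (.node .leaf (170446, 0, 9, 218124) .leaf) (170448, 0, 17, 164579) (.node .leaf (170451, 0, 13, 249988) .leaf)))) (170452, 0, 14, 154084) (.node (.node (.node (.node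 .leaf (170455, 0, 14, 256423) .leaf) (170456, 0, 13, 157823) (.node .leaf (170459, 0, 17, 128284) .leaf)) (170460, 0, 18, 5986) (.node (.node .leaf (170463, 0, 16, 117823) .leaf) (170464, 0, 16, 100639) (.node .leaf (170467, 0, 16, 172836) .leaf))) (170468, 0, 16, 207428) (.node (.node (.node .leaf (170471, 0, 16, 149342) .leaf) (170472, 0, 17, 79615) (.node .leaf (170475, 0, 17, 34492) .leaf)) (170476, 0, 15, 203934) (.node (.node .leaf (170479, 0, 16, 49055) .leaf) (170481, 0, 15, 108231) (.node .leaf (170482, 0, 15, 15127) .leaf))))) (170485, 0, 14, 111223) (.node (.node (.node (.node (.node .leaf (170486, 0, 17, 157830) .leaf) (170489, 0, 17, 241356) (.node .leaf (170490, 0, 16, 138895) .leaf)) (170493, 0, 17, 235503) (.node (.node .leaf (170494, 0, 16, 141228) .leaf) (170498, 0, 14, 5707) (.node .leaf (170499, 0, 16, 252761) .leaf))) (170502, 0, 17, 158038) (.node (.node (.node .leaf (170503, 0, 18, 12408) .leaf) (170506, 0, 18, 73383) (.node .leaf (170507, 0, 16, 130753) .leaf)) (170510, 0, 17, 164810) (.node (.node .leaf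 (170511, 0, 17, 116706) .leaf) (170512, 0, 15, 100559) (.node .leaf (170513, 0, 16, 250337) .leaf)))) (170516, 0, 15, 10860) (.node (.node (.node (.node .leaf (170517, 0, 16, 51722) .leaf) (170520, 0, 8, 145111) (.node .leaf (170521, 0, 17, 186033) .leaf)) (170524, 0, 14, 204110) (.node (.node .leaf (170525, 0, 18, 83040) .leaf) (170528, 0, 18, 164659) (.node .leaf (170529, 0, 15, 98441) .leaf))) (170532, 0, 14, 64558) (.node (.node (.node .leaf (170533, 0, 14, 173312) .leaf) (170536, 0, 15, 214391) (.node .leaf (170537, 0, 17, 12417) .leaf)) (170540, 0, 14, 5810) (.node (.node .leaf (170541, 0, 17, 151452) .leaf) (170546, 0, 18, 204215) (.node .leaf (170547, 0, 17, 174329) .leaf))))))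

/-- part of the orbit tree -/
def itp5_102 : Tree := (.node (.node (.node (.node (.node (.node .leaf (170551, 0, 16, 211844) .leaf) (170554, 0, 17, 27911) (.node .leaf (170555, 0, 16, 110085) .leaf)) (170558, 0, 17, 100406) (.node (.node .leaf (170559, 0, 15, 46146) .leaf) (170562, 0, 16, 20161) (.node .leaf (170563, 0, 15, 137199) .leaf))) (170566, 0, 17, 143836) (.node (.node (.node .leaf (170567, 0, 16, 26866) .leaf) (170570, 0, 14, 42077) (.node .leaf (170571, 0, 16, 169031) .leaf)) (170574, 0, 14, 150786) (.node (.node .leaf (170575, 0, 12, 33390) .leaf) (170576, 0, 14, 118853) (.node .leaf (170577, 0, 14, 231787) .leaf)))) (170580, 0, 15, 213226) (.node (.node (.node (.node .leaf (170581, 0, 11, 128630) .leaf) (170584, 0, 13, 80601) (.node .leaf (170585, 0, 16, 222199) .leaf)) (170588, 0, 17, 91506) (.node (.node .leaf (170589, 0, 17, 72938) .leaf) (170592, 0, 18, 133737) (.node .leaf (170593, 0, 16, 190991) .leaf))) (170596, 0, 13, 42148) (.node (.node (.node .leaf (170597, 0, 18, 185132) .leaf) (170600, 0, 17, 143653)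 (.node .leaf (170601, 0, 15, 53143) .leaf)) (170604, 0, 14, 20024) (.node (.node .leaf (170605, 0, 17, 136982) .leaf) (170610, 0, 12, 74265) (.node .leaf (170611, 0, 17, 115327) .leaf))))) (170614, 0, 17, 80416) (.node (.node (.node (.node (.node .leaf (170615, 0, 13, 221966) .leaf) (170618, 0, 17, 241569) (.node .leaf (170619, 0, 17, 128655) .leaf)) (170622, 0, 15, 212642) (.node (.node .leaf (170623, 0, 12, 231826) .leaf) (170624, 0, 17, 64528) (.node .leaf (170625, 0, 13, 7286) .leaf))) (170628, 0, 16, 143693) (.node (.node (.node .leaf (170629, 0, 17, 9557) .leaf) (170632, 0, 15, 42188) (.node .leaf (170633, 0, 16, 145902) .leaf)) (170636, 0, 15, 188587) (.node (.node .leaf (170637, 0, 16, 131277) .leaf) (170642, 0, 17, 118996) (.node .leaf (170643, 0, 7, 209926) .leaf)))) (170646, 0, 15, 257347) (.node (.node (.node (.node .leaf (170647, 0, 16, 199973) .leaf) (170650, 0, 14, 127480) (.node .leaf (170651, 0, 17, 70046) .leaf)) (170654, 0, 15, 116955) (.node (.node .leaf (170655, 0, 14, 75965) .leaf) (170658, 0, 18, 187176)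 (.node .leaf (170659, 0, 18, 33286) .leaf))) (170662, 0, 15, 171747) (.node (.node (.node .leaf (170663, 0, 10, 195867) .leaf) (170666, 0, 17, 33368) (.node .leaf (170667, 0, 18, 26778) .leaf)) (170670, 0, 8, 47995) (.node (.node .leaf (170671, 0, 14, 23325) .leaf) (170672, 0, 14, 102320) .leaf)))))

/-- part of the orbit tree -/
def itp5_103 : Tree := (.node itp5_99 (170292, 0, 16, 157719) itp5_100)

/-- part of the orbit tree -/
def itp5_104 : Tree := (.node itp5_101 (170550, 0, 15, 90794) itp5_102)

/-- part of the orbit tree -/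
def itp5_105 : Tree := (.node itp5_97 (169906, 0, 17, 197366) itp5_98)

/-- part of the orbit tree -/
def itp5_106 : Tree := (.node itp5_103 (170421, 0, 17, 229712) itp5_104)

/-- part of the orbit tree -/
def itp5_107 : Tree := (.node (.node (.node (.node (.node (.node .leaf (170676, 0, 15, 112275) .leaf) (170677, 0, 15, 87797) (.node .leaf (170680, 0, 15, 240168) .leaf)) (170681, 0, 14, 215630) (.node (.node .leaf (170684, 0, 15, 234251) .leaf) (170685, 0, 9, 231683) (.node .leaf (170688, 0, 17, 5850) .leaf))) (170689, 0, 13, 151540) (.node (.node (.node .leaf (170692, 0, 12, 241589) .leaf) (170693, 0, 12, 12521) (.node .leaf (170696, 0, 12, 111374) .leaf)) (170697, 0, 13, 173416) (.node (.node .leaf (170700, 0, 18, 164699) .leaf) (170701, 0, 15, 92747) (.node .leaf (170706, 0, 15, 100446) .leaf)))) (170707, 0, 15, 24192) (.node (.node (.node (.node .leaf (170710, 0, 16, 259907) .leaf) (170711, 0, 13, 26531) (.node .leaf (170714, 0, 17, 90818) .leaf)) (170715, 0, 16, 211948) (.node (.node .leaf (170718, 0, 16, 204255) .leaf)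 (170719, 0, 15, 148027) (.node .leaf (170722, 0, 16, 118086) .leaf))) (170723, 0, 17, 55948) (.node (.node (.node .leaf (170726, 0, 14, 128101) .leaf) (170727, 0, 16, 173457) (.node .leaf (170730, 0, 17, 256222) .leaf)) (170731, 0, 17, 12304) (.node (.node .leaf (170734, 0, 15, 5667) .leaf) (170735, 0, 16, 151309) (.node .leaf (170736, 0, 16, 204070) .leaf))))) (170737, 0, 17, 82952) (.node (.node (.node (.node (.node .leaf (170740, 0, 13, 187413) .leaf) (170741, 0, 14, 146547) (.node .leaf (170744, 0, 17, 260026) .leaf)) (170745, 0, 17, 110228) (.node (.node .leaf (170748, 0, 15, 63885) .leaf) (170749, 0, 15, 6635) (.node .leaf (170754, 0, 18, 39243) .leaf))) (170755, 0, 16, 174214) (.node (.node (.node .leaf (170758, 0, 17, 41064) .leaf) (170759, 0, 15, 55195) (.node .leaf (170762, 0, 16, 6964) .leaf)) (170763, 0, 18, 154805) (.node (.node .leaf (170766, 0, 19, 156713) .leaf) (170767, 0, 18, 15623) (.node .leaf (170768, 0, 15, 241979) .leaf)))) (170769, 0, 16, 210434) (.node (.node (.node (.node .leaf (170772, 0, 15, 200753)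 .leaf) (170773, 0, 15, 84255) (.node .leaf (170776, 0, 17, 103587) .leaf)) (170777, 0, 19, 253086) (.node (.node .leaf (170780, 0, 17, 109952) .leaf) (170781, 0, 16, 85478) (.node .leaf (170784, 0, 17, 156880) .leaf))) (170785, 0, 16, 140029) (.node (.node (.node .leaf (170788, 0, 16, 195512) .leaf) (170789, 0, 16, 148195) (.node .leaf (170792, 0, 17, 167500) .leaf)) (170793, 0, 16, 55138) (.node (.node .leaf (170796, 0, 15, 61777) .leaf) (170797, 0, 15, 174207) (.node .leaf (170802, 0, 18, 125675) .leaf))))))

/-- part of the orbit tree -/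
def itp5_108 : Tree := (.node (.node (.node (.node (.node (.node .leaf (170806, 0, 16, 119752) .leaf) (170807, 0, 16, 78766) (.node .leaf (170810, 0, 14, 200904) .leaf)) (170811, 0, 19, 208661) (.node (.node .leaf (170814, 0, 14, 94165) .leaf) (170815, 0, 17, 202294) (.node .leaf (170818, 0, 13, 259021) .leaf))) (170819, 0, 16, 201643) (.node (.node (.node .leaf (170822, 0, 17, 248558) .leaf) (170823, 0, 17, 207496) (.node .leaf (170826, 0, 18, 120405) .leaf)) (170827, 0, 16, 137872) (.node (.node .leaf (170830, 0, 19, 126838) .leaf) (170831, 0, 16, 25997) (.node .leaf (170832, 0, 15, 79782) .leaf)))) (170833, 0, 17, 224904) (.node (.node (.node (.node .leaf (170836, 0, 16, 58014) .leaf) (170837, 0, 17, 760) (.node .leaf (170840, 0, 16, 196133) .leaf)) (170841, 0, 14, 230420) (.node (.node .leaf (170844, 0, 14, 238119) .leaf) (170845, 0, 16, 141152) (.node .leaf (170848, 0, 15, 108573) .leaf))) (170849, 0, 15, 84091) (.node (.node (.node .leaf (170852, 0, 17, 102718) .leaf) (170853, 0, 12, 137833) (.node .leaf (170856, 0, 17,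 232837) .leaf)) (170857, 0, 16, 224739) (.node (.node .leaf (170860, 0, 15, 242854) .leaf) (170861, 0, 14, 218304) (.node .leaf (170866, 0, 14, 238302) .leaf))))) (170867, 0, 16, 130032) (.node (.node (.node (.node (.node .leaf (170870, 0, 17, 178510) .leaf) (170871, 0, 17, 230637) (.node .leaf (170874, 0, 18, 215106) .leaf)) (170875, 0, 9, 69996) (.node (.node .leaf (170878, 0, 16, 79711) .leaf) (170879, 0, 17, 31920) (.node .leaf (170880, 0, 16, 43443) .leaf))) (170881, 0, 17, 192669) (.node (.node (.node .leaf (170884, 0, 8, 223047) .leaf) (170885, 0, 10, 231201) (.node .leaf (170888, 0, 17, 97276) .leaf)) (170889, 0, 16, 137729) (.node (.node .leaf (170892, 0, 16, 146482) .leaf) (170893, 0, 15, 25884) (.node .leaf (170898, 0, 14, 30228) .leaf)))) (170899, 0, 16, 38514) (.node (.node (.node (.node .leaf (170902, 0, 18, 20279) .leaf) (170903, 0, 18, 44881) (.node .leaf (170906, 0, 15, 122283) .leaf)) (170907, 0, 16, 177130) (.node (.node .leaf (170910, 0, 13, 158383) .leaf) (170911, 0, 17, 129944) (.node .leaf (170914, 0,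 18, 66996) .leaf))) (170915, 0, 16, 124370) (.node (.node (.node .leaf (170918, 0, 15, 17366) .leaf) (170919, 0, 16, 122097) (.node .leaf (170922, 0, 17, 204844) .leaf)) (170923, 0, 16, 36729) (.node (.node .leaf (170926, 0, 17, 203023) .leaf) (170927, 0, 17, 192612) (.node .leaf (170928, 0, 16, 142788) .leaf))))))

/-- part of the orbit tree -/
def itp5_109 : Tree := (.node (.node (.node (.node (.node (.node .leaf (170932, 0, 14, 136423) .leaf) (170933, 0, 16, 230524) (.node .leaf (170936, 0, 17, 2140) .leaf)) (170937, 0, 14, 59450) (.node (.node .leaf (170940, 0, 16, 79822) .leaf) (170941, 0, 17, 53529) (.node .leaf (170944, 0, 14, 13538) .leaf))) (170945, 0, 15, 54404) (.node (.node (.node .leaf (170948, 0, 17, 167460) .leaf) (170949, 0, 16, 55050) (.node .leaf (170952, 0, 18, 7077) .leaf)) (170953, 0, 15, 192796) (.node (.node .leaf (170956, 0, 18, 141401) .leaf) (170957, 0, 11, 15766) (.node .leaf (170962, 0, 9, 94141) .leaf)))) (170963, 0, 16, 261364) (.node (.node (.node (.node .leaf (170966, 0, 16, 200864) .leaf) (170967,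 0, 16, 247255) (.node .leaf (170970, 0, 17, 80138) .leaf)) (170971, 0, 18, 121196) (.node (.node .leaf (170974, 0, 14, 65577) .leaf) (170975, 0, 18, 107282) (.node .leaf (170978, 0, 15, 156737) .leaf))) (170979, 0, 16, 167764) (.node (.node (.node .leaf (170982, 0, 16, 153105) .leaf) (170983, 0, 16, 148082) (.node .leaf (170986, 0, 18, 19114) .leaf)) (170987, 0, 13, 43724) (.node (.node .leaf (170990, 0, 15, 29577) .leaf) (170991, 0, 18, 174318) (.node .leaf (170992, 0, 14, 260805) .leaf))))) (170993, 0, 15, 108324) (.node (.node (.node (.node (.node .leaf (170996, 0, 18, 99800) .leaf) (170997, 0, 16, 253174) (.node .leaf (171000, 0, 13, 200793) .leaf)) (171001, 0, 17, 230076) (.node (.node .leaf (171004, 0, 14, 220153) .leaf) (171005, 0, 16, 210538) (.node .leaf (171009, 0, 18, 245156) .leaf))) (171011, 0, 17, 191873) (.node (.node (.node .leaf (171013, 0, 16, 230535) .leaf) (171015, 0, 18, 185506) (.node .leaf (171017, 0, 15, 104508) .leaf)) (171019, 0, 17, 109857) (.node (.node .leaf (171021, 0, 16, 14926) .leaf) (171023,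 0, 17, 250428) (.node .leaf (171024, 0, 15, 75159) .leaf)))) (171026, 0, 18, 92261) (.node (.node (.node (.node .leaf (171028, 0, 17, 72884) .leaf) (171030, 0, 16, 19601) (.node .leaf (171032, 0, 17, 158347) .leaf)) (171034, 0, 17, 99065) (.node (.node .leaf (171036, 0, 17, 211244) .leaf) (171038, 0, 18, 261604) (.node .leaf (171040, 0, 17, 101355) .leaf))) (171042, 0, 15, 156569) (.node (.node (.node .leaf (171044, 0, 15, 259318) .leaf) (171046, 0, 15, 7300) (.node .leaf (171048, 0, 17, 90487) .leaf)) (171050, 0, 16, 166149) (.node (.node .leaf (171052, 0, 15, 204394) .leaf) (171054, 0, 17, 63000) (.node .leaf (171057, 0, 16, 183812) .leaf))))))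

/-- part of the orbit tree -/
def itp5_110 : Tree := (.node (.node (.node (.node (.node (.node .leaf (171061, 0, 18, 194343) .leaf) (171063, 0, 17, 13148) (.node .leaf (171065, 0, 14, 60316) .leaf)) (171067, 0, 16, 113593) (.node (.node .leaf (171069, 0, 16, 209330) .leaf) (171071, 0, 14, 98970) (.node .leaf (171073, 0, 16, 194373) .leaf))) (171075, 0, 14, 100103) (.node (.node (.node .leaf (171077, 0, 16, 34904) .leaf) (171079, 0, 17, 221226) (.node .leaf (171081, 0, 15, 193210) .leaf)) (171083, 0, 17, 238239) (.node (.node .leaf (171085, 0, 14, 183193) .leaf) (171087, 0, 14, 236476) (.node .leaf (171088, 0, 15, 151313) .leaf)))) (171090, 0, 17, 78063) (.node (.node (.node (.node .leaf (171092, 0, 16, 42880) .leaf) (171094, 0, 16, 206359) (.node .leaf (171096, 0, 16, 27273) .leaf)) (171098, 0, 18, 80556) (.node (.node .leaf (171100, 0, 18, 21418) .leaf) (171102, 0, 15, 238958) (.node .leaf (171104, 0, 17, 119649) .leaf))) (171106, 0, 13, 146195) (.node (.node (.node .leaf (171108, 0, 12, 198034) .leaf) (171110, 0, 17, 153015)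 (.node .leaf (171112, 0, 12, 71977) .leaf)) (171114, 0, 18, 184719) (.node (.node .leaf (171116, 0, 14, 214752) .leaf) (171118, 0, 17, 44690) (.node .leaf (171121, 0, 15, 130233) .leaf))))) (171123, 0, 17, 136395) (.node (.node (.node (.node (.node .leaf (171125, 0, 17, 230308) .leaf) (171127, 0, 16, 52612) (.node .leaf (171129, 0, 17, 71205) .leaf)) (171131, 0, 14, 184639) (.node (.node .leaf (171133, 0, 14, 223544) .leaf) (171135, 0, 16, 190492) (.node .leaf (171136, 0, 13, 214664) .leaf))) (171138, 0, 14, 44794) (.node (.node (.node .leaf (171140, 0, 18, 127979) .leaf) (171142, 0, 14, 184807) (.node .leaf (171144, 0, 15, 257872) .leaf)) (171146, 0, 18, 17510) (.node (.node .leaf (171148, 0, 16, 251507) .leaf) (171150, 0, 16, 146299) (.node .leaf (171153, 0, 16, 217851) .leaf)))) (171155, 0, 16, 33058) (.node (.node (.node (.node .leaf (171157, 0, 14, 71245) .leaf) (171159, 0, 13, 146429) (.node .leaf (171161, 0, 18, 230348) .leaf)) (171163, 0, 13, 10054) (.node (.node .leaf (171165, 0, 17, 85568) .leaf) (171167, 0, 15, 136355)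 (.node .leaf (171169, 0, 17, 139611) .leaf))) (171171, 0, 14, 225662) (.node (.node (.node .leaf (171173, 0, 13, 137336) .leaf) (171175, 0, 13, 215133) (.node .leaf (171177, 0, 15, 34864) .leaf)) (171179, 0, 17, 87270) (.node (.node .leaf (171181, 0, 16, 194349) .leaf) (171183, 0, 18, 93637) (.node .leaf (171184, 0, 16, 47464) .leaf))))))

/-- part of the orbit tree -/
def itp5_111 : Tree := (.node itp5_107 (170803, 0, 16, 107386) itp5_108)

/-- part of the orbit tree -/
def itp5_112 : Tree := (.node itp5_109 (171059, 0, 16, 150593) itp5_110)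

/-- part of the orbit tree -/
def itp5_113 : Tree := (.node (.node (.node (.node (.node (.node .leaf (171188, 0, 15, 143977) .leaf) (171190, 0, 14, 118894) (.node .leaf (171192, 0, 17, 171248) .leaf)) (171194, 0, 16, 249045) (.node (.node .leaf (171196, 0, 18, 186613) .leaf) (171198, 0, 13, 259574) (.node .leaf (171200, 0, 19, 204290) .leaf))) (171202, 0, 14, 258155) (.node (.node (.node .leaf (171204, 0, 14, 90399) .leaf) (171206, 0, 17, 166253) (.node .leaf (171208, 0, 16, 34262) .leaf)) (171210, 0, 17, 120307) (.node (.node .leaf (171212, 0, 16, 48373) .leaf) (171214, 0, 15, 126160) (.node .leaf (171217, 0, 16, 14461) .leaf)))) (171219, 0, 16, 92248) (.node (.node (.node (.node .leaf (171221, 0, 14, 85703) .leaf) (171223, 0, 16, 86395) (.node .leaf (171225, 0, 17, 252742) .leaf)) (171227, 0, 15, 13108) (.node (.node .leaf (171229, 0, 15, 140486) .leaf) (171231, 0, 15, 150569) (.node .leaf (171233, 0, 13, 84957) .leaf))) (171235, 0, 18, 250452) (.node (.node (.node .leaf (171237, 0, 17, 148795) .leaf) (171239, 0, 16, 8923)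 (.node .leaf (171241, 0, 18, 224837) .leaf)) (171243, 0, 17, 211144) (.node (.node .leaf (171245, 0, 14, 218982) .leaf) (171247, 0, 14, 132931) (.node .leaf (171248, 0, 16, 5630) .leaf))))) (171250, 0, 16, 164811) (.node (.node (.node (.node (.node .leaf (171252, 0, 15, 256717) .leaf) (171254, 0, 15, 98961) (.node .leaf (171256, 0, 11, 128630) .leaf)) (171258, 0, 16, 42579) (.node (.node .leaf (171260, 0, 12, 118613) .leaf) (171262, 0, 14, 40816) (.node .leaf (171265, 0, 17, 149548) .leaf))) (171267, 0, 17, 106590) (.node (.node (.node .leaf (171269, 0, 12, 14129) .leaf) (171271, 0, 13, 95958) (.node .leaf (171273, 0, 16, 145992) .leaf)) (171275, 0, 17, 84674) (.node (.node .leaf (171277, 0, 16, 56749) .leaf) (171279, 0, 17, 210399) (.node .leaf (171280, 0, 17, 157684) .leaf)))) (171282, 0, 15, 102278) (.node (.node (.node (.node .leaf (171284, 0, 16, 179904) .leaf) (171286, 0, 17, 257765) (.node .leaf (171288, 0, 14, 41595) .leaf)) (171290, 0, 11, 91418) (.node (.node .leaf (171292, 0, 18, 62069) .leaf) (171294, 0, 16, 203271)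 (.node .leaf (171296, 0, 18, 259139) .leaf))) (171298, 0, 15, 173158) (.node (.node (.node .leaf (171300, 0, 10, 201493) .leaf) (171302, 0, 15, 64359) (.node .leaf (171304, 0, 14, 119259) .leaf)) (171306, 0, 17, 159462) (.node (.node .leaf (171308, 0, 17, 260489) .leaf) (171310, 0, 19, 47325) (.node .leaf (171313, 0, 17, 82896) .leaf))))))

/-- part of the orbit tree -/
def itp5_114 : Tree := (.node (.node (.node (.node (.node (.node .leaf (171317, 0, 16, 87379) .leaf) (171319, 0, 17, 1398) (.node .leaf (171321, 0, 17, 108876) .leaf)) (171323, 0, 19, 147774) (.node (.node .leaf (171325, 0, 18, 251473) .leaf) (171327, 0, 17, 15907) (.node .leaf (171329, 0, 12, 135334) .leaf))) (171331, 0, 12, 140659) (.node (.node (.node .leaf (171333, 0, 15, 28603) .leaf) (171335, 0, 18, 138320) (.node .leaf (171337, 0, 15, 86222) .leaf)) (171339, 0, 15, 235) (.node (.node .leaf (171341, 0, 15, 92653) .leaf) (171343, 0, 15, 224597) (.node .leaf (171344, 0, 16, 126309) .leaf)))) (171346, 0, 14, 120588) (.node (.node (.node (.node .leaf (171348,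 0, 16, 16483) .leaf) (171350, 0, 16, 239633) (.node .leaf (171352, 0, 16, 248061) .leaf)) (171354, 0, 18, 81296) (.node (.node .leaf (171356, 0, 16, 43775) .leaf) (171358, 0, 17, 172539) (.node .leaf (171360, 0, 14, 78978) .leaf))) (171362, 0, 17, 187632) (.node (.node (.node .leaf (171364, 0, 18, 215967) .leaf) (171366, 0, 15, 41965) (.node .leaf (171368, 0, 16, 179037) .leaf)) (171370, 0, 17, 256888) (.node (.node .leaf (171372, 0, 18, 237827) .leaf) (171374, 0, 18, 250459) (.node .leaf (171377, 0, 17, 72538) .leaf))))) (171379, 0, 15, 193320) (.node (.node (.node (.node (.node .leaf (171381, 0, 15, 147413) .leaf) (171383, 0, 17, 225264) (.node .leaf (171385, 0, 17, 9070) .leaf)) (171387, 0, 15, 95051) (.node (.node .leaf (171389, 0, 14, 233179) .leaf) (171391, 0, 15, 26281) (.node .leaf (171392, 0, 18, 157884) .leaf))) (171394, 0, 14, 211097) (.node (.node (.node .leaf (171396, 0, 17, 151967) .leaf) (171398, 0, 16, 197050) (.node .leaf (171400, 0, 18, 19748) .leaf)) (171402, 0, 14, 72961) (.node (.node .leaf (171404, 0,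 19, 79082) .leaf) (171406, 0, 11, 187544) (.node .leaf (171409, 0, 14, 61583) .leaf)))) (171411, 0, 16, 106666) (.node (.node (.node (.node .leaf (171413, 0, 18, 51628) .leaf) (171415, 0, 16, 104841) (.node .leaf (171417, 0, 16, 185623) .leaf)) (171419, 0, 13, 35933) (.node (.node .leaf (171421, 0, 12, 191540) .leaf) (171423, 0, 16, 244753) (.node .leaf (171425, 0, 17, 99119) .leaf))) (171427, 0, 15, 54026) (.node (.node (.node .leaf (171429, 0, 17, 113164) .leaf) (171431, 0, 15, 70176) (.node .leaf (171433, 0, 18, 239287) .leaf)) (171435, 0, 17, 194194) (.node (.node .leaf (171437, 0, 17, 237460) .leaf) (171439, 0, 16, 129212) (.node .leaf (171440, 0, 16, 43671) .leaf))))))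

/-- part of the orbit tree -/
def itp5_115 : Tree := (.node (.node (.node (.node (.node (.node .leaf (171444, 0, 12, 205375) .leaf) (171446, 0, 15, 81400) (.node .leaf (171448, 0, 18, 16395) .leaf)) (171450, 0, 17, 28321) (.node (.node .leaf (171452, 0, 16, 67495) .leaf) (171454, 0, 13, 120676) (.node .leaf (171456, 0, 15, 260577) .leaf))) (171458, 0, 14, 4499) (.node (.node (.node .leaf (171460, 0, 15, 100092) .leaf) (171462, 0, 15, 159374) (.node .leaf (171464, 0, 16, 201597) .leaf)) (171466, 0, 14, 64271) (.node (.node .leaf (171468, 0, 16, 93280) .leaf) (171470, 0, 16, 151204) (.node .leaf (171473, 0, 12, 251449) .leaf)))) (171475, 0, 17, 182828) (.node (.node (.node (.node .leaf (171477, 0, 16, 238378) .leaf) (171479, 0, 17, 147798) (.node .leaf (171481, 0, 12, 114577) .leaf)) (171483, 0, 17, 61364) (.node (.node .leaf (171485, 0, 16, 100018) .leaf) (171487, 0, 17, 175050) (.node .leaf (171489, 0, 17, 56773) .leaf))) (171491, 0, 15, 244108) (.node (.node (.node .leaf (171493, 0, 16, 184458) .leaf) (171495, 0, 16, 84650)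 (.node .leaf (171497, 0, 14, 52273) .leaf)) (171499, 0, 16, 105492) (.node (.node .leaf (171501, 0, 15, 62738) .leaf) (171503, 0, 14, 107831) (.node .leaf (171504, 0, 18, 61981) .leaf))))) (171506, 0, 16, 203375) (.node (.node (.node (.node (.node .leaf (171508, 0, 17, 167168) .leaf) (171510, 0, 17, 91506) (.node .leaf (171512, 0, 17, 6273) .leaf)) (171514, 0, 15, 197671) (.node (.node .leaf (171516, 0, 15, 159009) .leaf) (171518, 0, 14, 102382) (.node .leaf (171520, 0, 16, 225714) .leaf))) (171521, 0, 14, 233940) (.node (.node (.node .leaf (171522, 0, 10, 139671) .leaf) (171523, 0, 16, 82577) (.node .leaf (171524, 0, 16, 167120) .leaf)) (171525, 0, 17, 239863) (.node (.node .leaf (171526, 0, 17, 91298) .leaf) (171527, 0, 15, 212364) (.node .leaf (171528, 0, 14, 6481) .leaf)))) (171529, 0, 13, 147583) (.node (.node (.node (.node .leaf (171530, 0, 15, 1039) .leaf) (171531, 0, 16, 108557) (.node .leaf (171532, 0, 14, 93449) .leaf)) (171533, 0, 17, 101743) (.node (.node .leaf (171534, 0, 12, 101950) .leaf) (171535, 0, 15, 251664)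 (.node .leaf (171568, 0, 17, 131602) .leaf))) (171569, 0, 18, 189044) (.node (.node (.node .leaf (171570, 0, 16, 217655) .leaf) (171571, 0, 18, 149869) (.node .leaf (171572, 0, 15, 146225) .leaf)) (171573, 0, 16, 187223) (.node (.node .leaf (171574, 0, 15, 159582) .leaf) (171575, 0, 16, 232306) (.node .leaf (171576, 0, 17, 201389) .leaf))))))

/-- part of the orbit tree -/
def itp5_116 : Tree := (.node (.node (.node (.node (.node (.node .leaf (171578, 0, 17, 96175) .leaf) (171579, 0, 15, 104393) (.node .leaf (171580, 0, 17, 93616) .leaf)) (171581, 0, 16, 65231) (.node (.node .leaf (171582, 0, 14, 165314) .leaf) (171583, 0, 14, 110314) (.node .leaf (171584, 0, 16, 6964) .leaf))) (171585, 0, 16, 193129) (.node (.node (.node .leaf (171586, 0, 17, 84753) .leaf) (171587, 0, 17, 72219) (.node .leaf (171588, 0, 16, 185434) .leaf)) (171589, 0, 16, 49777) (.node (.node .leaf (171590, 0, 16, 80936) .leaf) (171591, 0, 15, 222470) (.node .leaf (171592, 0, 16, 147116) .leaf)))) (171593, 0, 15, 188106) (.node (.node (.node (.node .leaf (171594,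 0, 16, 240041) .leaf) (171595, 0, 16, 233199) (.node .leaf (171596, 0, 17, 133007) .leaf)) (171597, 0, 17, 26600) (.node (.node .leaf (171598, 0, 16, 219050) .leaf) (171599, 0, 18, 233370) (.node .leaf (171632, 0, 16, 92308) .leaf))) (171633, 0, 17, 100594) (.node (.node (.node .leaf (171634, 0, 14, 14513) .leaf) (171635, 0, 15, 55511) (.node .leaf (171636, 0, 17, 122790) .leaf)) (171637, 0, 17, 111057) (.node (.node .leaf (171638, 0, 15, 145364) .leaf) (171639, 0, 16, 57844) (.node .leaf (171640, 0, 15, 216332) .leaf))))) (171641, 0, 12, 70409) (.node (.node (.node (.node (.node .leaf (171642, 0, 16, 138537) .leaf) (171643, 0, 16, 195919) (.node .leaf (171644, 0, 16, 226351) .leaf)) (171645, 0, 16, 234569) (.node (.node .leaf (171646, 0, 18, 140298) .leaf) (171647, 0, 15, 181356) (.node .leaf (171664, 0, 17, 79186) .leaf))) (171665, 0, 16, 229003) (.node (.node (.node .leaf (171666, 0, 15, 184008) .leaf) (171667, 0, 17, 33806) (.node .leaf (171668, 0, 16, 215631) .leaf)) (171669, 0, 18, 70497) (.node (.node .leaf (171670,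 0, 18, 41533) .leaf) (171671, 0, 16, 195347) (.node .leaf (171672, 0, 18, 122830) .leaf)))) (171673, 0, 17, 88851) (.node (.node (.node (.node .leaf (171674, 0, 13, 145340) .leaf) (171675, 0, 19, 28306) (.node .leaf (171676, 0, 17, 237779) .leaf)) (171677, 0, 18, 90672) (.node (.node .leaf (171678, 0, 16, 53875) .leaf) (171679, 0, 14, 12821) (.node .leaf (171680, 0, 16, 191821) .leaf))) (171681, 0, 16, 26496) (.node (.node (.node .leaf (171682, 0, 15, 120540) .leaf) (171683, 0, 15, 233458) (.node .leaf (171684, 0, 17, 185454) .leaf)) (171685, 0, 15, 144392) (.node (.node .leaf (171686, 0, 16, 230475) .leaf) (171687, 0, 16, 222253) .leaf)))))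

/-- part of the orbit tree -/
def itp5_117 : Tree := (.node itp5_113 (171315, 0, 13, 175010) itp5_114)

/-- part of the orbit tree -/
def itp5_118 : Tree := (.node itp5_115 (171577, 0, 18, 84867) itp5_116)

/-- part of the orbit tree -/
def itp5_119 : Tree := (.node itp5_111 (170929, 0, 17, 129889) itp5_112)

/-- part of the orbit tree -/
def itp5_120 : Tree := (.node itp5_117 (171442, 0, 17, 213733) itp5_118)

/-- part of the orbit tree -/
def itp5_121 : Tree := (.node itp5_105 (170165, 0, 16, 96901) itp5_106)

/-- part of the orbit tree -/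
def itp5_122 : Tree := (.node itp5_119 (171186, 0, 14, 238854) itp5_120)

/-- part of the orbit tree -/
def itp5_123 : Tree := (.node itp5_91 (168629, 0, 14, 206496) itp5_92)

/-- part of the orbit tree -/
def itp5_124 : Tree := (.node itp5_121 (170673, 0, 15, 94166) itp5_122)

/-- part of the orbit tree -/
def itp5_125 : Tree := (.node itp5_61 (165562, 0, 16, 35755) itp5_62)

/-- part of the orbit tree -/
def itp5_126 : Tree := (.node itp5_123 (169650, 0, 17, 244513) itp5_124)

/-- part of the orbit tree -/
def itp5_127 : Tree := (.node (.node (.node (.node (.node (.node .leaf (171689, 0, 16, 36124) .leaf) (171690, 0, 15, 80960) (.node .leaf (171691, 0, 16, 222574) .leaf)) (171692, 0, 17, 61942) (.node (.node .leaf (171693, 0, 16, 193025) .leaf) (171694, 0, 16, 106963) (.node .leaf (171695, 0, 18, 72307) .leaf))) (171728, 0, 15, 62571) (.node (.node (.node .leaf (171729, 0, 18, 210166) .leaf) (171730, 0, 15, 107598) (.node .leaf (171731, 0, 15, 82984) .leaf)) (171732, 0, 16, 201413) (.node (.node .leaf (171733, 0, 16, 84971)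 .leaf) (171734, 0, 15, 64183) (.node .leaf (171735, 0, 17, 172953) .leaf)))) (171736, 0, 16, 184819) (.node (.node (.node (.node .leaf (171737, 0, 16, 253546) .leaf) (171738, 0, 18, 229846) (.node .leaf (171739, 0, 15, 13848) .leaf)) (171740, 0, 13, 260185) (.node (.node .leaf (171741, 0, 17, 133302) .leaf) (171742, 0, 13, 243957) (.node .leaf (171743, 0, 15, 219283) .leaf))) (171744, 0, 18, 157220) (.node (.node (.node .leaf (171745, 0, 15, 92077) .leaf) (171746, 0, 15, 55278) (.node .leaf (171747, 0, 14, 251768) .leaf)) (171748, 0, 19, 6457) (.node (.node .leaf (171749, 0, 16, 147479) .leaf) (171750, 0, 12, 61133) (.node .leaf (171751, 0, 16, 108645) .leaf))))) (171752, 0, 14, 167096) (.node (.node (.node (.node (.node .leaf (171753, 0, 12, 213557) .leaf) (171754, 0, 15, 91338) (.node .leaf (171755, 0, 15, 135696) .leaf)) (171756, 0, 13, 62373) (.node (.node .leaf (171757, 0, 16, 228118) .leaf) (171758, 0, 18, 203735) (.node .leaf (171759, 0, 17, 82681) .leaf))) (171776, 0, 16, 54214) (.node (.node (.node .leaf (171777, 0,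 16, 150784) .leaf) (171778, 0, 15, 99299) (.node .leaf (171779, 0, 14, 107890) .leaf)) (171780, 0, 16, 60133) (.node (.node .leaf (171781, 0, 13, 12829) .leaf) (171782, 0, 17, 113344) (.node .leaf (171783, 0, 14, 88742) .leaf)))) (171784, 0, 17, 65202) (.node (.node (.node (.node .leaf (171785, 0, 17, 173980) .leaf) (171786, 0, 13, 202432) (.node .leaf (171787, 0, 17, 85998) .leaf)) (171788, 0, 17, 164271) (.node (.node .leaf (171789, 0, 16, 55425) .leaf) (171790, 0, 14, 237400) (.node .leaf (171791, 0, 13, 229182) .leaf))) (171824, 0, 16, 204754) (.node (.node (.node .leaf (171825, 0, 13, 81920) .leaf) (171826, 0, 17, 61507) (.node .leaf (171827, 0, 17, 175758) .leaf)) (171828, 0, 17, 104773) (.node (.node .leaf (171829, 0, 17, 96547) .leaf) (171830, 0, 11, 51552) (.node .leaf (171831, 0, 13, 53651) .leaf))))))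

/-- part of the orbit tree -/
def itp5_128 : Tree := (.node (.node (.node (.node (.node (.node .leaf (171833, 0, 16, 109664) .leaf) (171834, 0, 18, 185819) (.node .leaf (171835, 0, 14, 148498) .leaf)) (171836, 0, 15, 244957) (.node (.node .leaf (171837, 0, 15, 220347) .leaf) (171838, 0, 17, 191736) (.node .leaf (171839, 0, 15, 15119) .leaf))) (171840, 0, 14, 244032) (.node (.node (.node .leaf (171841, 0, 16, 219430) .leaf) (171842, 0, 18, 190821) (.node .leaf (171843, 0, 14, 133379) .leaf)) (171844, 0, 15, 144313) (.node (.node .leaf (171845, 0, 18, 221189) .leaf) (171846, 0, 17, 121803) (.node .leaf (171847, 0, 16, 143392) .leaf)))) (171848, 0, 15, 42552) (.node (.node (.node (.node .leaf (171849, 0, 16, 97470) .leaf) (171850, 0, 17, 52477) (.node .leaf (171851, 0, 14, 11419) .leaf)) (171852, 0, 16, 108027) (.node (.node .leaf (171853, 0, 19, 83357) .leaf) (171854, 0, 17, 62942) (.node .leaf (171855, 0, 18, 223353) .leaf))) (171888, 0, 17, 214872) (.node (.node (.node .leaf (171889, 0, 11, 73334) .leaf) (171890, 0, 15, 236229)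 (.node .leaf (171891, 0, 18, 228003) .leaf)) (171892, 0, 16, 79941) (.node (.node .leaf (171893, 0, 13, 136101) .leaf) (171894, 0, 16, 184375) (.node .leaf (171895, 0, 16, 35097) .leaf))))) (171896, 0, 16, 241092) (.node (.node (.node (.node (.node .leaf (171897, 0, 16, 3870) .leaf) (171898, 0, 15, 114525) (.node .leaf (171899, 0, 16, 138392) .leaf)) (171900, 0, 16, 119513) (.node (.node .leaf (171901, 0, 19, 232439) .leaf) (171902, 0, 17, 99966) (.node .leaf (171903, 0, 15, 25477) .leaf))) (171920, 0, 14, 15513) (.node (.node (.node .leaf (171921, 0, 14, 56575) .leaf) (171922, 0, 18, 146115) (.node .leaf (171923, 0, 17, 101594) .leaf)) (171924, 0, 17, 241068) (.node (.node .leaf (171925, 0, 15, 128130) .leaf) (171926, 0, 16, 17886) (.node .leaf (171927, 0, 16, 112121) .leaf)))) (171928, 0, 17, 79917) (.node (.node (.node (.node .leaf (171929, 0, 17, 194919) .leaf) (171930, 0, 14, 215332) (.node .leaf (171931, 0, 16, 239938) .leaf)) (171932, 0, 16, 214832) (.node (.node .leaf (171933, 0, 18, 180292) .leaf) (171934, 0, 17, 225287)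 (.node .leaf (171935, 0, 16, 233569) .leaf))) (171936, 0, 8, 186701) (.node (.node (.node .leaf (171937, 0, 15, 32867) .leaf) (171938, 0, 19, 7964) (.node .leaf (171939, 0, 15, 223249) .leaf)) (171940, 0, 17, 42576) (.node (.node .leaf (171941, 0, 17, 196478) .leaf) (171942, 0, 18, 9791) (.node .leaf (171943, 0, 18, 50777) .leaf))))))

/-- part of the orbit tree -/
def itp5_129 : Tree := (.node (.node (.node (.node (.node (.node .leaf (171945, 0, 17, 232135) .leaf) (171946, 0, 14, 121763) (.node .leaf (171947, 0, 16, 230029) .leaf)) (171948, 0, 18, 19660) (.node (.node .leaf (171949, 0, 17, 136674) .leaf) (171950, 0, 14, 132007) (.node .leaf (171951, 0, 18, 130448) .leaf))) (171984, 0, 16, 218655) (.node (.node (.node .leaf (171985, 0, 12, 250645) .leaf) (171986, 0, 13, 132666) (.node .leaf (171987, 0, 16, 15207) .leaf)) (171988, 0, 17, 225084) (.node (.node .leaf (171989, 0, 12, 233306) .leaf) (171990, 0, 18, 7508) (.node .leaf (171991, 0, 19, 188287) .leaf)))) (171992, 0, 15, 95111) (.node (.node (.node (.node .leaf (171993,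 0, 18, 103393) .leaf) (171994, 0, 16, 166101) (.node .leaf (171995, 0, 17, 50116) .leaf)) (171996, 0, 17, 204730) (.node (.node .leaf (171997, 0, 18, 109250) .leaf) (171998, 0, 12, 63432) (.node .leaf (171999, 0, 16, 64231) .leaf))) (172000, 0, 15, 140735) (.node (.node (.node .leaf (172001, 0, 15, 55529) .leaf) (172002, 0, 18, 92597) (.node .leaf (172003, 0, 15, 235004) .leaf)) (172004, 0, 17, 138396) (.node (.node .leaf (172005, 0, 17, 174068) .leaf) (172006, 0, 16, 202408) (.node .leaf (172007, 0, 18, 240863) .leaf))))) (172008, 0, 16, 158555) (.node (.node (.node (.node (.node .leaf (172009, 0, 13, 12917) .leaf) (172010, 0, 18, 99113) (.node .leaf (172011, 0, 13, 110692) .leaf)) (172012, 0, 15, 5190) (.node (.node .leaf (172013, 0, 17, 55650) .leaf) (172014, 0, 17, 261172) (.node .leaf (172015, 0, 10, 107802) .leaf))) (172033, 0, 17, 241226) (.node (.node (.node .leaf (172034, 0, 17, 175997) .leaf) (172036, 0, 14, 231545) (.node .leaf (172039, 0, 17, 161336) .leaf)) (172040, 0, 10, 73208) (.node (.node .leaf (172043, 0,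 16, 27267) .leaf) (172045, 0, 12, 66437) (.node .leaf (172046, 0, 15, 46022) .leaf)))) (172049, 0, 17, 92011) (.node (.node (.node (.node .leaf (172050, 0, 16, 55080) .leaf) (172052, 0, 13, 130703) (.node .leaf (172055, 0, 18, 3693) .leaf)) (172056, 0, 16, 238229) (.node (.node .leaf (172059, 0, 15, 135894) .leaf) (172061, 0, 15, 216381) (.node .leaf (172062, 0, 17, 195681) .leaf))) (172064, 0, 18, 35438) (.node (.node (.node .leaf (172067, 0, 15, 83182) .leaf) (172069, 0, 16, 11752) (.node .leaf (172070, 0, 14, 72961) .leaf)) (172073, 0, 17, 145884) (.node (.node .leaf (172074, 0, 16, 229648) .leaf) (172076, 0, 15, 190486) (.node .leaf (172079, 0, 17, 241331) .leaf))))))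

/-- part of the orbit tree -/
def itp5_130 : Tree := (.node (.node (.node (.node (.node (.node .leaf (172083, 0, 15, 212155) .leaf) (172085, 0, 13, 187051) (.node .leaf (172086, 0, 18, 255486) .leaf)) (172089, 0, 17, 18694) (.node (.node .leaf (172090, 0, 15, 130678) .leaf) (172092, 0, 17, 26905) (.node .leaf (172095, 0, 12, 73728) .leaf))) (172097, 0, 17, 259776) (.node (.node (.node .leaf (172098, 0, 18, 149404) .leaf) (172100, 0, 16, 44285) (.node .leaf (172103, 0, 17, 72894) .leaf)) (172104, 0, 15, 176198) (.node (.node .leaf (172107, 0, 19, 62510) .leaf) (172109, 0, 15, 90945) (.node .leaf (172110, 0, 18, 53789) .leaf)))) (172113, 0, 13, 134637) (.node (.node (.node (.node .leaf (172114, 0, 19, 12650) .leaf) (172116, 0, 16, 108037) (.node .leaf (172119, 0, 14, 5977) .leaf)) (172120, 0, 16, 51219) (.node (.node .leaf (172123, 0, 15, 96336) .leaf) (172125, 0, 13, 202167) (.node .leaf (172126, 0, 16, 106773) .leaf))) (172128, 0, 16, 53988) (.node (.node (.node .leaf (172131, 0, 14, 142952) .leaf) (172133, 0, 16, 214894)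 (.node .leaf (172134, 0, 16, 194349) .leaf)) (172137, 0, 16, 155990) (.node (.node .leaf (172138, 0, 17, 249866) .leaf) (172140, 0, 17, 149349) (.node .leaf (172143, 0, 17, 259641) .leaf))))) (172144, 0, 16, 124542) (.node (.node (.node (.node (.node .leaf (172147, 0, 16, 202062) .leaf) (172149, 0, 16, 164385) (.node .leaf (172150, 0, 17, 36728) .leaf)) (172153, 0, 13, 6048) (.node (.node .leaf (172154, 0, 16, 108284) .leaf) (172156, 0, 14, 260805) (.node .leaf (172159, 0, 15, 98511) .leaf))) (172160, 0, 12, 149261) (.node (.node (.node .leaf (172163, 0, 15, 259665) .leaf) (172165, 0, 17, 110871) (.node .leaf (172166, 0, 15, 249954) .leaf)) (172169, 0, 12, 62655) (.node (.node .leaf (172170, 0, 15, 83427) .leaf) (172172, 0, 17, 226537) (.node .leaf (172175, 0, 16, 91088) .leaf)))) (172176, 0, 16, 200711) (.node (.node (.node (.node .leaf (172179, 0, 17, 172100) .leaf) (172181, 0, 14, 248130) (.node .leaf (172182, 0, 13, 108180) .leaf)) (172185, 0, 18, 164425) (.node (.node .leaf (172186, 0, 16, 209685) .leaf) (172188, 0, 15,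 173178) (.node .leaf (172191, 0, 18, 48383) .leaf))) (172193, 0, 19, 90921) (.node (.node (.node .leaf (172194, 0, 18, 209794) .leaf) (172196, 0, 16, 154244) (.node .leaf (172199, 0, 16, 62534) .leaf)) (172200, 0, 17, 250011) (.node (.node .leaf (172203, 0, 15, 156103) .leaf) (172205, 0, 13, 259752) (.node .leaf (172206, 0, 14, 77625) .leaf))))))

/-- part of the orbit tree -/
def itp5_131 : Tree := (.node itp5_127 (171832, 0, 17, 230910) itp5_128)

/-- part of the orbit tree -/
def itp5_132 : Tree := (.node itp5_129 (172080, 0, 16, 167160) itp5_130)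

/-- part of the orbit tree -/
def itp5_133 : Tree := (.node (.node (.node (.node (.node (.node .leaf (172210, 0, 14, 84951) .leaf) (172212, 0, 16, 8913) (.node .leaf (172215, 0, 16, 164528) .leaf)) (172216, 0, 15, 108141) (.node (.node .leaf (172219, 0, 17, 5937) .leaf) (172221, 0, 15, 98398) (.node .leaf (172222, 0, 16, 218988) .leaf))) (172224, 0, 15, 131796) (.node (.node (.node .leaf (172227, 0, 13, 242327) .leaf) (172229, 0, 13, 187281) (.node .leaf (172230, 0, 18, 224210) .leaf)) (172233, 0, 14, 50986) (.node (.node .leaf (172234, 0, 15, 73065) .leaf) (172236, 0, 14, 7791) (.node .leaf (172239, 0, 15, 110124) .leaf)))) (172240, 0, 19, 26993) (.node (.node (.node (.node .leaf (172243, 0, 16, 120877) .leaf) (172245, 0, 15, 20290) (.node .leaf (172246, 0, 18, 130590) .leaf)) (172249, 0, 17, 180095) (.node (.node .leaf (172250, 0, 17, 200508) .leaf) (172252, 0, 16, 195824) (.node .leaf (172255, 0, 17, 216492) .leaf))) (172257, 0, 16, 125255) (.node (.node (.node .leaf (172258, 0, 17, 22788) .leaf) (172260, 0, 17, 77826)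 (.node .leaf (172263, 0, 15, 32833) .leaf)) (172264, 0, 16, 208057) (.node (.node .leaf (172267, 0, 10, 145741) .leaf) (172269, 0, 16, 259580) (.node .leaf (172270, 0, 18, 148927) .leaf))))) (172273, 0, 14, 233746) (.node (.node (.node (.node (.node .leaf (172274, 0, 16, 139601) .leaf) (172276, 0, 16, 224102) (.node .leaf (172279, 0, 19, 194580) .leaf)) (172280, 0, 17, 87276) (.node (.node .leaf (172283, 0, 15, 20411) .leaf) (172285, 0, 19, 101801) (.node .leaf (172286, 0, 14, 15850) .leaf))) (172289, 0, 15, 48458) (.node (.node (.node .leaf (172290, 0, 14, 194805) .leaf) (172292, 0, 14, 25615) (.node .leaf (172295, 0, 17, 188102) .leaf)) (172296, 0, 14, 161972) (.node (.node .leaf (172299, 0, 14, 19271) .leaf) (172301, 0, 16, 172529) (.node .leaf (172302, 0, 16, 201138) .leaf)))) (172305, 0, 16, 181535) (.node (.node (.node (.node .leaf (172306, 0, 17, 36355) .leaf) (172308, 0, 16, 72044) (.node .leaf (172311, 0, 17, 240665) .leaf)) (172312, 0, 16, 232685) (.node (.node .leaf (172315, 0, 14, 146865) .leaf) (172317, 0, 15,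 55716) (.node .leaf (172318, 0, 14, 138114) .leaf))) (172320, 0, 16, 28045) (.node (.node (.node .leaf (172323, 0, 16, 190106) .leaf) (172325, 0, 11, 233372) (.node .leaf (172326, 0, 18, 129762) .leaf)) (172329, 0, 15, 103207) (.node (.node .leaf (172330, 0, 16, 225123) .leaf) (172332, 0, 14, 194572) (.node .leaf (172335, 0, 16, 64033) .leaf))))))

/-- part of the orbit tree -/
def itp5_134 : Tree := (.node (.node (.node (.node (.node (.node .leaf (172339, 0, 13, 40655) .leaf) (172341, 0, 13, 128969) (.node .leaf (172342, 0, 17, 18314) .leaf)) (172345, 0, 15, 43209) (.node (.node .leaf (172346, 0, 12, 154417) .leaf) (172348, 0, 14, 209463) (.node .leaf (172351, 0, 16, 81830) .leaf))) (172353, 0, 17, 200995) (.node (.node (.node .leaf (172354, 0, 14, 157583) .leaf) (172356, 0, 9, 210704) (.node .leaf (172359, 0, 18, 165452) .leaf)) (172360, 0, 17, 70194) (.node (.node .leaf (172363, 0, 15, 41585) .leaf) (172365, 0, 17, 99490) (.node .leaf (172366, 0, 19, 13822) .leaf)))) (172369, 0, 16, 110489) (.node (.node (.node (.node .leaf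 (172370, 0, 16, 8154) .leaf) (172372, 0, 18, 82406) (.node .leaf (172375, 0, 18, 61626) .leaf)) (172376, 0, 15, 223847) (.node (.node .leaf (172379, 0, 12, 186916) .leaf) (172381, 0, 18, 258644) (.node .leaf (172382, 0, 17, 148232) .leaf))) (172384, 0, 16, 13575) (.node (.node (.node .leaf (172387, 0, 14, 99419) .leaf) (172389, 0, 16, 4916) (.node .leaf (172390, 0, 17, 87385) .leaf)) (172393, 0, 18, 194977) (.node (.node .leaf (172394, 0, 17, 215522) .leaf) (172396, 0, 16, 172166) (.node .leaf (172399, 0, 15, 201178) .leaf))))) (172400, 0, 17, 148465) (.node (.node (.node (.node (.node .leaf (172403, 0, 14, 259145) .leaf) (172405, 0, 15, 157122) (.node .leaf (172406, 0, 17, 251038) .leaf)) (172409, 0, 17, 61507) (.node (.node .leaf (172410, 0, 15, 82207) .leaf) (172412, 0, 15, 54896) (.node .leaf (172415, 0, 14, 125170) .leaf))) (172416, 0, 16, 182822) (.node (.node (.node .leaf (172419, 0, 16, 201138) .leaf) (172421, 0, 15, 136035) (.node .leaf (172422, 0, 17, 238368) .leaf)) (172425, 0, 17, 4956) (.node (.node .leaf (172426,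 0, 13, 107008) .leaf) (172428, 0, 18, 13679) (.node .leaf (172431, 0, 15, 99379) .leaf)))) (172432, 0, 15, 45683) (.node (.node (.node (.node .leaf (172435, 0, 14, 91972) .leaf) (172437, 0, 18, 27446) (.node .leaf (172438, 0, 17, 82295) .leaf)) (172441, 0, 15, 157098) (.node (.node .leaf (172442, 0, 18, 251126) .leaf) (172444, 0, 18, 175816) (.node .leaf (172447, 0, 16, 258757) .leaf))) (172449, 0, 17, 99530) (.node (.node (.node .leaf (172450, 0, 14, 13718) .leaf) (172452, 0, 17, 129264) (.node .leaf (172455, 0, 14, 5029) .leaf)) (172456, 0, 17, 210808) (.node (.node .leaf (172459, 0, 18, 165412) .leaf) (172461, 0, 12, 201035) (.node .leaf (172462, 0, 17, 167245) .leaf))))))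

/-- part of the orbit tree -/
def itp5_135 : Tree := (.node (.node (.node (.node (.node (.node .leaf (172466, 0, 14, 190883) .leaf) (172468, 0, 17, 250895) (.node .leaf (172471, 0, 18, 143590) .leaf)) (172472, 0, 17, 82318) (.node (.node .leaf (172475, 0, 17, 11357) .leaf) (172477, 0, 14, 83291) (.node .leaf (172478, 0, 16, 62744) .leaf))) (172480, 0, 17, 106656) (.node (.node (.node .leaf (172483, 0, 16, 215352) .leaf) (172485, 0, 16, 187991) (.node .leaf (172486, 0, 16, 51622) .leaf)) (172489, 0, 16, 19414) (.node (.node .leaf (172490, 0, 13, 185629) .leaf) (172492, 0, 16, 244763) (.node .leaf (172495, 0, 16, 134232) .leaf)))) (172496, 0, 12, 252149) (.node (.node (.node (.node .leaf (172499, 0, 18, 157878) .leaf) (172501, 0, 17, 197040) (.node .leaf (172502, 0, 17, 72189) .leaf)) (172505, 0, 14, 146720) (.node (.node .leaf (172506, 0, 14, 44360) .leaf) (172508, 0, 17, 115790) (.node .leaf (172511, 0, 16, 29709) .leaf))) (172513, 0, 13, 150323) (.node (.node (.node .leaf (172514, 0, 17, 27932) .leaf) (172516, 0, 17, 168566)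 (.node .leaf (172519, 0, 16, 205365) .leaf)) (172520, 0, 15, 225266) (.node (.node .leaf (172523, 0, 17, 188078) .leaf) (172525, 0, 14, 215489) (.node .leaf (172526, 0, 15, 194717) .leaf))))) (172529, 0, 15, 240310) (.node (.node (.node (.node (.node .leaf (172530, 0, 17, 99109) .leaf) (172532, 0, 17, 232581) (.node .leaf (172535, 0, 14, 88672) .leaf)) (172536, 0, 17, 194200) (.node (.node .leaf (172539, 0, 16, 43096) .leaf) (172541, 0, 14, 81719) (.node .leaf (172542, 0, 17, 237470) .leaf))) (172544, 0, 15, 127560) (.node (.node (.node .leaf (172545, 0, 16, 240486) .leaf) (172550, 0, 17, 178734) (.node .leaf (172551, 0, 16, 146441) .leaf)) (172554, 0, 16, 42645) (.node (.node .leaf (172555, 0, 17, 18163) .leaf) (172556, 0, 16, 118675) (.node .leaf (172557, 0, 15, 81639) .leaf)))) (172560, 0, 18, 230590) (.node (.node (.node (.node .leaf (172561, 0, 13, 122256) .leaf) (172566, 0, 16, 136145) (.node .leaf (172567, 0, 16, 8733) .leaf)) (172570, 0, 16, 34384) (.node (.node .leaf (172571, 0, 16, 188286) .leaf) (172572, 0, 17, 243654)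 (.node .leaf (172573, 0, 15, 219040) .leaf))) (172578, 0, 15, 223024) (.node (.node (.node .leaf (172579, 0, 16, 92318) .leaf) (172580, 0, 12, 57854) (.node .leaf (172581, 0, 18, 408) .leaf)) (172584, 0, 17, 26078) (.node (.node .leaf (172585, 0, 16, 146672) .leaf) (172590, 0, 15, 234563) (.node .leaf (172591, 0, 17, 240543) .leaf))))))

/-- part of the orbit tree -/
def itp5_136 : Tree := (.node (.node (.node (.node (.node (.node .leaf (172595, 0, 17, 200907) .leaf) (172596, 0, 16, 34473) (.node .leaf (172597, 0, 16, 162253) .leaf)) (172600, 0, 15, 135976) (.node (.node .leaf (172601, 0, 15, 18950) .leaf) (172606, 0, 10, 125974) (.node .leaf (172607, 0, 16, 122217) .leaf))) (172608, 0, 18, 47534) (.node (.node (.node .leaf (172609, 0, 17, 259052) .leaf) (172614, 0, 16, 118952) (.node .leaf (172615, 0, 17, 156803) .leaf)) (172618, 0, 13, 174124) (.node (.node .leaf (172619, 0, 17, 207989) .leaf) (172620, 0, 14, 173333) (.node .leaf (172621, 0, 17, 91757) .leaf)))) (172624, 0, 17, 180731) (.node (.node (.node (.node .leaf (172625,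 0, 14, 99610) .leaf) (172630, 0, 17, 150363) (.node .leaf (172631, 0, 18, 215195) .leaf)) (172634, 0, 12, 57050) (.node (.node .leaf (172635, 0, 17, 87072) .leaf) (172636, 0, 10, 56640) (.node .leaf (172637, 0, 18, 200859) .leaf))) (172642, 0, 17, 212922) (.node (.node (.node .leaf (172643, 0, 13, 131608) .leaf) (172644, 0, 14, 174293) (.node .leaf (172645, 0, 15, 224030) .leaf)) (172648, 0, 17, 104387) (.node (.node .leaf (172649, 0, 14, 96165) .leaf) (172654, 0, 13, 109115) (.node .leaf (172655, 0, 15, 7843) .leaf))))) (172658, 0, 18, 39467) (.node (.node (.node (.node (.node .leaf (172659, 0, 19, 31309) .leaf) (172660, 0, 16, 56867) (.node .leaf (172661, 0, 15, 70475) .leaf)) (172664, 0, 10, 257942) (.node (.node .leaf (172665, 0, 13, 4748) .leaf) (172670, 0, 14, 253133) (.node .leaf (172671, 0, 16, 99811) .leaf))) (172674, 0, 15, 109139) (.node (.node (.node .leaf (172675, 0, 18, 258941) .leaf) (172676, 0, 18, 15676) (.node .leaf (172677, 0, 14, 156690) .leaf)) (172680, 0, 18, 174269) (.node (.node .leaf (172681, 0, 13,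 61843) .leaf) (172686, 0, 19, 133308) (.node .leaf (172687, 0, 17, 190682) .leaf)))) (172690, 0, 18, 158802) (.node (.node (.node (.node .leaf (172691, 0, 16, 166964) .leaf) (172692, 0, 15, 197972) (.node .leaf (172693, 0, 15, 4836) .leaf)) (172696, 0, 15, 72175) (.node (.node .leaf (172697, 0, 18, 129417) .leaf) (172702, 0, 15, 84260) (.node .leaf (172703, 0, 10, 37007) .leaf))) (172704, 0, 15, 212779) (.node (.node (.node .leaf (172705, 0, 11, 176049) .leaf) (172710, 0, 15, 206545) (.node .leaf (172711, 0, 14, 61802) .leaf)) (172714, 0, 19, 80490) (.node (.node .leaf (172715, 0, 17, 156907) .leaf) (172716, 0, 15, 109226) .leaf)))))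

/-- part of the orbit tree -/
def itp5_137 : Tree := (.node itp5_133 (172336, 0, 17, 77452) itp5_134)

/-- part of the orbit tree -/
def itp5_138 : Tree := (.node itp5_135 (172594, 0, 18, 70086) itp5_136)

/-- part of the orbit tree -/
def itp5_139 : Tree := (.node itp5_131 (171944, 0, 17, 223905) itp5_132)

/-- part of the orbit tree -/
def itp5_140 : Tree := (.node itp5_137 (172465, 0, 14, 258620) itp5_138)

/-- part of the orbit tree -/
def itp5_141 : Tree := (.node (.node (.node (.node (.node (.node .leaf (172720, 0, 15, 14210) .leaf) (172721, 0, 17, 200947) (.node .leaf (172726, 0, 18, 89732) .leaf)) (172727, 0, 15, 114402) (.node (.node .leaf (172730, 0, 13, 150323) .leaf) (172731, 0, 17, 238169) (.node .leaf (172732, 0, 18, 142137) .leaf))) (172733, 0, 16, 99698) (.node (.node (.node .leaf (172738, 0, 17, 228993) .leaf) (172739, 0, 15, 240631) (.node .leaf (172740, 0, 18, 26038) .leaf)) (172741, 0, 17, 194529) (.node (.node .leaf (172744, 0, 16, 192567) .leaf) (172745, 0, 18, 43289) (.node .leaf (172750, 0, 17, 90682)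 .leaf)))) (172751, 0, 17, 81526) (.node (.node (.node (.node .leaf (172754, 0, 16, 67284) .leaf) (172755, 0, 15, 122113) (.node .leaf (172756, 0, 16, 28626) .leaf)) (172757, 0, 17, 19054) (.node (.node .leaf (172760, 0, 15, 160617) .leaf) (172761, 0, 11, 168719) (.node .leaf (172766, 0, 16, 70062) .leaf))) (172767, 0, 18, 260617) (.node (.node (.node .leaf (172768, 0, 17, 75089) .leaf) (172769, 0, 15, 81551) (.node .leaf (172774, 0, 13, 192718) .leaf)) (172775, 0, 18, 44081) (.node (.node .leaf (172778, 0, 11, 151788) .leaf) (172779, 0, 17, 176266) (.node .leaf (172780, 0, 15, 127520) .leaf))))) (172781, 0, 16, 240398) (.node (.node (.node (.node (.node .leaf (172784, 0, 15, 220420) .leaf) (172785, 0, 15, 245090) (.node .leaf (172790, 0, 15, 144386) .leaf)) (172791, 0, 16, 188182) (.node (.node .leaf (172794, 0, 14, 136121) .leaf) (172795, 0, 16, 51423) (.node .leaf (172796, 0, 17, 82367) .leaf))) (172797, 0, 17, 106969) (.node (.node (.node .leaf (172800, 0, 15, 29020) .leaf) (172801, 0, 16, 216197) (.node .leaf (172806, 0,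 13, 71770) .leaf)) (172807, 0, 17, 129084) (.node (.node .leaf (172810, 0, 17, 137029) .leaf) (172811, 0, 16, 20075) (.node .leaf (172812, 0, 14, 229418) .leaf)))) (172813, 0, 18, 121092) (.node (.node (.node (.node .leaf (172816, 0, 13, 133385) .leaf) (172817, 0, 14, 190831) (.node .leaf (172822, 0, 14, 221199) .leaf)) (172823, 0, 19, 229481) (.node (.node .leaf (172826, 0, 12, 97460) .leaf) (172827, 0, 17, 105682) (.node .leaf (172828, 0, 14, 128732) .leaf))) (172829, 0, 16, 241650) (.node (.node (.node .leaf (172834, 0, 14, 229587) .leaf) (172835, 0, 16, 183018) (.node .leaf (172836, 0, 15, 137148) .leaf)) (172837, 0, 15, 238572) (.node (.node .leaf (172840, 0, 18, 89905) .leaf) (172841, 0, 12, 187155) (.node .leaf (172846, 0, 15, 13879) .leaf))))))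

/-- part of the orbit tree -/
def itp5_142 : Tree := (.node (.node (.node (.node (.node (.node .leaf (172850, 0, 17, 21209) .leaf) (172851, 0, 15, 45759) (.node .leaf (172852, 0, 16, 24906) .leaf)) (172853, 0, 15, 121785) (.node (.node .leaf (172856, 0, 14, 206692) .leaf) (172857, 0, 16, 247554) (.node .leaf (172862, 0, 17, 151138) .leaf))) (172863, 0, 16, 80522) (.node (.node (.node .leaf (172864, 0, 14, 203738) .leaf) (172865, 0, 18, 261052) (.node .leaf (172870, 0, 17, 55886) .leaf)) (172871, 0, 18, 168634) (.node (.node .leaf (172874, 0, 15, 28263) .leaf) (172875, 0, 16, 5857) (.node .leaf (172876, 0, 18, 252064) .leaf)))) (172877, 0, 16, 124679) (.node (.node (.node (.node .leaf (172880, 0, 17, 211927) .leaf) (172881, 0, 18, 99305) (.node .leaf (172886, 0, 13, 175288) .leaf)) (172887, 0, 17, 62870) (.node (.node .leaf (172890, 0, 14, 136754) .leaf) (172891, 0, 5, 194132) (.node .leaf (172892, 0, 15, 110166) .leaf))) (172893, 0, 15, 237394) (.node (.node (.node .leaf (172898, 0, 13, 251993) .leaf) (172899, 0, 16, 98679)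 (.node .leaf (172900, 0, 13, 10508) .leaf)) (172901, 0, 15, 5656) (.node (.node .leaf (172904, 0, 16, 144823) .leaf) (172905, 0, 14, 164761) (.node .leaf (172910, 0, 12, 85464) .leaf))))) (172911, 0, 18, 201974) (.node (.node (.node (.node (.node .leaf (172914, 0, 16, 110255) .leaf) (172915, 0, 14, 259969) (.node .leaf (172916, 0, 14, 14784) .leaf)) (172917, 0, 18, 155886) (.node (.node .leaf (172920, 0, 16, 175169) .leaf) (172921, 0, 12, 44420) (.node .leaf (172926, 0, 15, 74980) .leaf))) (172927, 0, 16, 90624) (.node (.node (.node .leaf (172930, 0, 18, 85424) .leaf) (172931, 0, 15, 201886) (.node .leaf (172932, 0, 16, 188277) .leaf)) (172933, 0, 15, 164849) (.node (.node .leaf (172936, 0, 17, 50126) .leaf) (172937, 0, 15, 5744) (.node .leaf (172942, 0, 13, 251953) .leaf)))) (172943, 0, 14, 84654) (.node (.node (.node (.node .leaf (172946, 0, 17, 211782) .leaf) (172947, 0, 16, 77376) (.node .leaf (172948, 0, 13, 175145) .leaf)) (172949, 0, 16, 18246) (.node (.node .leaf (172952, 0, 18, 14760) .leaf) (172953, 0, 16, 155782)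 (.node .leaf (172958, 0, 15, 250525) .leaf))) (172959, 0, 14, 260073) (.node (.node (.node .leaf (172960, 0, 13, 126371) .leaf) (172961, 0, 17, 98790) (.node .leaf (172966, 0, 13, 151463) .leaf)) (172967, 0, 17, 5769) (.node (.node .leaf (172970, 0, 18, 170014) .leaf) (172971, 0, 16, 164616) (.node .leaf (172972, 0, 16, 258328) .leaf))))))

/-- part of the orbit tree -/
def itp5_143 : Tree := (.node (.node (.node (.node (.node (.node .leaf (172976, 0, 16, 234998) .leaf) (172977, 0, 16, 226704) (.node .leaf (172982, 0, 16, 195824) .leaf)) (172983, 0, 17, 155775) (.node (.node .leaf (172986, 0, 18, 57419) .leaf) (172987, 0, 14, 62974) (.node .leaf (172988, 0, 18, 211903) .leaf))) (172989, 0, 16, 92459) (.node (.node (.node .leaf (172994, 0, 14, 56565) .leaf) (172995, 0, 17, 216084) (.node .leaf (172996, 0, 15, 33365) .leaf)) (172997, 0, 16, 187259) (.node (.node .leaf (173000, 0, 15, 239944) .leaf) (173001, 0, 16, 215342) (.node .leaf (173006, 0, 16, 229563) .leaf)))) (173007, 0, 15, 139304) (.node (.node (.node (.node .leaf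 (173010, 0, 15, 222156) .leaf) (173011, 0, 16, 148678) (.node .leaf (173012, 0, 19, 193699) .leaf)) (173013, 0, 16, 44429) (.node (.node .leaf (173016, 0, 17, 119069) .leaf) (173017, 0, 16, 78203) (.node .leaf (173022, 0, 16, 47131) .leaf))) (173023, 0, 17, 22653) (.node (.node (.node .leaf (173024, 0, 18, 229442) .leaf) (173025, 0, 15, 157507) (.node .leaf (173030, 0, 16, 137005) .leaf)) (173031, 0, 13, 200261) (.node (.node .leaf (173034, 0, 18, 127640) .leaf) (173035, 0, 18, 187266) (.node .leaf (173036, 0, 13, 71107) .leaf))))) (173037, 0, 18, 216301) (.node (.node (.node (.node (.node .leaf (173040, 0, 15, 128692) .leaf) (173041, 0, 15, 241562) (.node .leaf (173046, 0, 16, 25051) .leaf)) (173047, 0, 15, 95760) (.node (.node .leaf (173050, 0, 15, 232141) .leaf) (173051, 0, 14, 223915) (.node .leaf (173052, 0, 17, 222005) .leaf))) (173053, 0, 16, 132013) (.node (.node (.node .leaf (173056, 0, 12, 195216) .leaf) (173058, 0, 17, 70370) (.node .leaf (173061, 0, 15, 146613) .leaf)) (173063, 0, 15, 79057) (.node (.node .leaf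 (173065, 0, 15, 18722) .leaf) (173067, 0, 14, 94251) (.node .leaf (173068, 0, 17, 28433) .leaf)))) (173070, 0, 17, 108910) (.node (.node (.node (.node .leaf (173072, 0, 13, 40357) .leaf) (173074, 0, 16, 222228) (.node .leaf (173077, 0, 17, 17632) .leaf)) (173079, 0, 15, 213543) (.node (.node .leaf (173081, 0, 17, 153691) .leaf) (173083, 0, 16, 198782) (.node .leaf (173084, 0, 17, 137703) .leaf))) (173086, 0, 17, 250171) (.node (.node (.node .leaf (173089, 0, 14, 69219) .leaf) (173091, 0, 14, 24134) (.node .leaf (173092, 0, 16, 129159) .leaf)) (173094, 0, 17, 34563) (.node (.node .leaf (173096, 0, 12, 248733) .leaf) (173098, 0, 18, 170936) (.node .leaf (173101, 0, 15, 215861) .leaf))))))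

/-- part of the orbit tree -/
def itp5_144 : Tree := (.node (.node (.node (.node (.node (.node .leaf (173105, 0, 17, 239682) .leaf) (173107, 0, 16, 16432) (.node .leaf (173108, 0, 16, 233073) .leaf)) (173110, 0, 17, 26115) (.node (.node .leaf (173112, 0, 17, 72688) .leaf) (173114, 0, 17, 193410) (.node .leaf (173117, 0, 16, 81347) .leaf))) (173119, 0, 17, 15016) (.node (.node (.node .leaf (173120, 0, 12, 102262) .leaf) (173122, 0, 15, 57171) (.node .leaf (173125, 0, 15, 164905) .leaf)) (173127, 0, 13, 93275) (.node (.node .leaf (173129, 0, 16, 4520) .leaf) (173131, 0, 18, 137901) (.node .leaf (173132, 0, 15, 234445) .leaf)))) (173134, 0, 12, 253929) (.node (.node (.node (.node .leaf (173136, 0, 17, 54508) .leaf) (173138, 0, 14, 173830) (.node .leaf (173141, 0, 15, 208486) .leaf)) (173143, 0, 16, 203437) (.node (.node .leaf (173145, 0, 15, 78557) .leaf) (173147, 0, 15, 102188) (.node .leaf (173148, 0, 15, 125848) .leaf))) (173150, 0, 14, 48061) (.node (.node (.node .leaf (173153, 0, 18, 156901) .leaf) (173155, 0, 18, 210112)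 (.node .leaf (173156, 0, 13, 179616) .leaf)) (173158, 0, 14, 149631) (.node (.node .leaf (173160, 0, 16, 210316) .leaf) (173162, 0, 14, 127294) (.node .leaf (173165, 0, 16, 201663) .leaf))))) (173167, 0, 13, 64461) (.node (.node (.node (.node (.node .leaf (173169, 0, 14, 258248) .leaf) (173171, 0, 14, 85141) (.node .leaf (173172, 0, 17, 251643) .leaf)) (173174, 0, 17, 16009) (.node (.node .leaf (173176, 0, 17, 82810) .leaf) (173178, 0, 14, 231787) (.node .leaf (173181, 0, 15, 91465) .leaf))) (173183, 0, 15, 217134) (.node (.node (.node .leaf (173185, 0, 14, 201687) .leaf) (173187, 0, 16, 115385) (.node .leaf (173188, 0, 17, 19417) .leaf)) (173190, 0, 14, 72700) (.node (.node .leaf (173192, 0, 18, 153442) .leaf) (173194, 0, 18, 198471) (.node .leaf (173197, 0, 16, 99926) .leaf)))) (173199, 0, 15, 159268) (.node (.node (.node (.node .leaf (173201, 0, 16, 191177) .leaf) (173203, 0, 15, 244460) (.node .leaf (173204, 0, 17, 144268) .leaf)) (173206, 0, 14, 222121) (.node (.node .leaf (173208, 0, 17, 12087) .leaf) (173210, 0, 15,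 98066) (.node .leaf (173213, 0, 15, 63090) .leaf))) (173215, 0, 17, 6354) (.node (.node (.node .leaf (173216, 0, 16, 227599) .leaf) (173218, 0, 15, 141610) (.node .leaf (173221, 0, 17, 237642) .leaf)) (173223, 0, 15, 192623) (.node (.node .leaf (173225, 0, 14, 113905) .leaf) (173227, 0, 18, 60628) (.node .leaf (173228, 0, 18, 91572) .leaf))))))

/-- part of the orbit tree -/
def itp5_145 : Tree := (.node itp5_141 (172847, 0, 13, 54865) itp5_142)

/-- part of the orbit tree -/
def itp5_146 : Tree := (.node itp5_143 (173103, 0, 17, 41799) itp5_144)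

/-- part of the orbit tree -/
def itp5_147 : Tree := (.node (.node (.node (.node (.node (.node .leaf (173232, 0, 16, 65882) .leaf) (173234, 0, 16, 20863) (.node .leaf (173237, 0, 14, 157494) .leaf)) (173239, 0, 17, 34874) (.node (.node .leaf (173241, 0, 15, 62135) .leaf) (173243, 0, 16, 169089) (.node .leaf (173244, 0, 15, 54404) .leaf))) (173246, 0, 17, 150980) (.node (.node (.node .leaf (173249, 0, 17, 215901) .leaf) (173251, 0, 16, 41775) (.node .leaf (173252, 0, 14, 224622) .leaf)) (173254, 0, 16, 34076) (.node (.node .leaf (173256, 0, 16, 129263) .leaf) (173258, 0, 16, 28097) (.node .leaf (173261, 0, 18, 122588) .leaf)))) (173263, 0, 15, 145070) (.node (.node (.node (.node .leaf (173265, 0, 13, 98383) .leaf) (173267, 0, 13, 185817) (.node .leaf (173268, 0, 17, 88330) .leaf)) (173270, 0, 16, 2351) (.node (.node .leaf (173272, 0, 16, 232985) .leaf) (173274, 0, 14, 26219) (.node .leaf (173277, 0, 17, 239658) .leaf))) (173279, 0, 16, 183505) (.node (.node (.node .leaf (173280, 0, 16, 28537) .leaf) (173282, 0, 14, 231179)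 (.node .leaf (173285, 0, 14, 18762) .leaf)) (173287, 0, 18, 105193) (.node (.node .leaf (173289, 0, 15, 185975) .leaf) (173291, 0, 16, 79033) (.node .leaf (173292, 0, 16, 134962) .leaf))))) (173294, 0, 16, 220951) (.node (.node (.node (.node (.node .leaf (173296, 0, 17, 137615) .leaf) (173298, 0, 15, 211961) (.node .leaf (173301, 0, 16, 176793) .leaf)) (173303, 0, 15, 120782) (.node (.node .leaf (173305, 0, 17, 44578) .leaf) (173307, 0, 18, 130567) (.node .leaf (173308, 0, 16, 30567) .leaf))) (173310, 0, 17, 222332) (.node (.node (.node .leaf (173312, 0, 13, 138611) .leaf) (173314, 0, 17, 6049) (.node .leaf (173317, 0, 13, 146240) .leaf)) (173319, 0, 15, 119602) (.node (.node .leaf (173321, 0, 17, 230010) .leaf) (173323, 0, 13, 184927) (.node .leaf (173324, 0, 16, 219967) .leaf)))) (173326, 0, 18, 221312) (.node (.node (.node (.node .leaf (173328, 0, 14, 212945) .leaf) (173330, 0, 18, 159732) (.node .leaf (173333, 0, 13, 255636) .leaf)) (173335, 0, 16, 177841) (.node (.node .leaf (173337, 0, 16, 186423) .leaf) (173339, 0, 16,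 43530) (.node .leaf (173340, 0, 16, 74602) .leaf))) (173342, 0, 13, 29519) (.node (.node (.node .leaf (173345, 0, 16, 80215) .leaf) (173347, 0, 18, 261170) (.node .leaf (173348, 0, 17, 73572) .leaf)) (173350, 0, 17, 206199) (.node (.node .leaf (173352, 0, 17, 27113) .leaf) (173354, 0, 13, 25239) (.node .leaf (173357, 0, 17, 240854) .leaf))))))

/-- part of the orbit tree -/
def itp5_148 : Tree := (.node (.node (.node (.node (.node (.node .leaf (173361, 0, 17, 54338) .leaf) (173363, 0, 16, 99431) (.node .leaf (173364, 0, 18, 3335) .leaf)) (173366, 0, 17, 89378) (.node (.node .leaf (173368, 0, 12, 130067) .leaf) (173370, 0, 15, 213401) (.node .leaf (173373, 0, 19, 121376) .leaf))) (173375, 0, 18, 143954) (.node (.node (.node .leaf (173376, 0, 11, 142594) .leaf) (173378, 0, 10, 228647) (.node .leaf (173381, 0, 15, 156618) .leaf)) (173383, 0, 17, 238690) (.node (.node .leaf (173385, 0, 16, 63051) .leaf) (173387, 0, 14, 112857) (.node .leaf (173388, 0, 14, 12729) .leaf)))) (173390, 0, 13, 90524) (.node (.node (.node (.node .leaf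 (173392, 0, 13, 21847) .leaf) (173394, 0, 16, 66930) (.node .leaf (173397, 0, 16, 5436) .leaf)) (173399, 0, 11, 121911) (.node (.node .leaf (173401, 0, 16, 164029) .leaf) (173403, 0, 15, 92367) (.node .leaf (173404, 0, 13, 173710) .leaf))) (173406, 0, 16, 85756) (.node (.node (.node .leaf (173409, 0, 16, 116369) .leaf) (173411, 0, 15, 38580) (.node .leaf (173412, 0, 17, 73684) .leaf)) (173414, 0, 16, 20465) (.node (.node .leaf (173416, 0, 12, 250479) .leaf) (173418, 0, 16, 14877) (.node .leaf (173421, 0, 16, 252458) .leaf))))) (173423, 0, 18, 7214) (.node (.node (.node (.node (.node .leaf (173425, 0, 13, 245444) .leaf) (173427, 0, 17, 65369) (.node .leaf (173428, 0, 16, 209176) .leaf)) (173430, 0, 16, 55658) (.node (.node .leaf (173432, 0, 16, 107673) .leaf) (173434, 0, 16, 150763) (.node .leaf (173437, 0, 17, 98986) .leaf))) (173439, 0, 17, 62042) (.node (.node (.node .leaf (173441, 0, 15, 209128) .leaf) (173443, 0, 17, 7238) (.node .leaf (173444, 0, 18, 256429) .leaf)) (173446, 0, 18, 14965) (.node (.node .leaf (173448, 0,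 14, 128278) .leaf) (173450, 0, 13, 176116) (.node .leaf (173453, 0, 18, 90549) .leaf)))) (173455, 0, 18, 166343) (.node (.node (.node (.node .leaf (173457, 0, 15, 84157) .leaf) (173459, 0, 14, 158384) (.node .leaf (173460, 0, 16, 102904) .leaf)) (173462, 0, 17, 150659) (.node (.node .leaf (173464, 0, 17, 232771) .leaf) (173466, 0, 18, 55554) (.node .leaf (173469, 0, 18, 202563) .leaf))) (173471, 0, 14, 132131) (.node (.node (.node .leaf (173472, 0, 17, 56187) .leaf) (173474, 0, 16, 211042) (.node .leaf (173477, 0, 18, 574) .leaf)) (173479, 0, 15, 204369) (.node (.node .leaf (173481, 0, 16, 156578) .leaf) (173483, 0, 17, 216736) (.node .leaf (173484, 0, 18, 148881) .leaf))))))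

/-- part of the orbit tree -/
def itp5_149 : Tree := (.node (.node (.node (.node (.node (.node .leaf (173488, 0, 16, 172846) .leaf) (173490, 0, 18, 85652) (.node .leaf (173493, 0, 14, 162411) .leaf)) (173495, 0, 16, 92327) (.node (.node .leaf (173497, 0, 15, 26320) .leaf) (173499, 0, 16, 79605) (.node .leaf (173500, 0, 16, 49045) .leaf))) (173502, 0, 17, 252693) (.node (.node (.node .leaf (173505, 0, 16, 240830) .leaf) (173507, 0, 14, 68171) (.node .leaf (173508, 0, 17, 232077) .leaf)) (173510, 0, 17, 119566) (.node (.node .leaf (173512, 0, 14, 73484) .leaf) (173514, 0, 16, 249781) (.node .leaf (173517, 0, 15, 149205) .leaf)))) (173519, 0, 18, 202480) (.node (.node (.node (.node .leaf (173521, 0, 13, 121416) .leaf) (173523, 0, 17, 143930) (.node .leaf (173524, 0, 14, 130171) .leaf)) (173526, 0, 15, 136201) (.node (.node .leaf (173528, 0, 16, 223738) .leaf) (173530, 0, 19, 112608) (.node .leaf (173533, 0, 17, 16000) .leaf))) (173535, 0, 16, 93861) (.node (.node (.node .leaf (173536, 0, 17, 242173) .leaf) (173538, 0, 16, 221416)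 (.node .leaf (173541, 0, 15, 223416) .leaf)) (173543, 0, 18, 214747) (.node (.node .leaf (173545, 0, 16, 146216) .leaf) (173547, 0, 14, 119642) (.node .leaf (173548, 0, 18, 109894) .leaf))))) (173550, 0, 15, 128361) (.node (.node (.node (.node (.node .leaf (173552, 0, 16, 117160) .leaf) (173554, 0, 14, 71198) (.node .leaf (173557, 0, 18, 186463) .leaf)) (173559, 0, 17, 16584) (.node (.node .leaf (173561, 0, 16, 199766) .leaf) (173563, 0, 13, 154739) (.node .leaf (173564, 0, 16, 251155) .leaf))) (173566, 0, 18, 230303) (.node (.node (.node .leaf (173572, 0, 16, 192675) .leaf) (173573, 0, 11, 186767) (.node .leaf (173574, 0, 15, 223443) .leaf)) (173575, 0, 10, 78333) (.node (.node .leaf (173576, 0, 19, 60440) .leaf) (173577, 0, 16, 3198) (.node .leaf (173578, 0, 17, 130386) .leaf)))) (173579, 0, 16, 238716) (.node (.node (.node (.node .leaf (173588, 0, 12, 194135) .leaf) (173589, 0, 17, 44921) (.node .leaf (173590, 0, 16, 73253) .leaf)) (173591, 0, 16, 214795) (.node (.node .leaf (173592, 0, 15, 169037) .leaf) (173593, 0, 15,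 160811) (.node .leaf (173594, 0, 13, 246888) .leaf))) (173595, 0, 14, 205838) (.node (.node (.node .leaf (173600, 0, 15, 115317) .leaf) (173601, 0, 16, 121752) (.node .leaf (173602, 0, 14, 37456) .leaf)) (173603, 0, 10, 29238) (.node (.node .leaf (173612, 0, 18, 71479) .leaf) (173613, 0, 17, 212648) (.node .leaf (173614, 0, 12, 196421) .leaf))))))

/-- part of the orbit tree -/
def itp5_150 : Tree := (.node (.node (.node (.node (.node (.node .leaf (173616, 0, 18, 244256) .leaf) (173617, 0, 15, 219718) (.node .leaf (173618, 0, 18, 138290) .leaf)) (173619, 0, 16, 133731) (.node (.node .leaf (173628, 0, 17, 108187) .leaf) (173629, 0, 17, 80111) (.node .leaf (173630, 0, 15, 63166) .leaf))) (173631, 0, 16, 184477) (.node (.node (.node .leaf (173636, 0, 19, 104997) .leaf) (173637, 0, 14, 96835) (.node .leaf (173638, 0, 12, 51712) .leaf)) (173639, 0, 13, 92535) (.node (.node .leaf (173640, 0, 16, 150954) .leaf) (173641, 0, 16, 5252) (.node .leaf (173642, 0, 16, 186043) .leaf)))) (173643, 0, 18, 145117) (.node (.node (.node (.node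 .leaf (173652, 0, 15, 254576) .leaf) (173653, 0, 14, 197142) (.node .leaf (173654, 0, 16, 83631) .leaf)) (173655, 0, 16, 152115) (.node (.node .leaf (173656, 0, 17, 130763) .leaf) (173657, 0, 18, 156274) (.node .leaf (173658, 0, 16, 250670) .leaf))) (173659, 0, 15, 20104) (.node (.node (.node .leaf (173664, 0, 16, 174323) .leaf) (173665, 0, 14, 149653) (.node .leaf (173666, 0, 15, 260310) .leaf)) (173667, 0, 16, 158560) (.node (.node .leaf (173676, 0, 16, 46152) .leaf) (173677, 0, 18, 21550) (.node .leaf (173678, 0, 17, 124013) .leaf))))) (173679, 0, 17, 65249) (.node (.node (.node (.node (.node .leaf (173680, 0, 15, 53414) .leaf) (173681, 0, 13, 12480) (.node .leaf (173682, 0, 18, 98435) .leaf)) (173683, 0, 17, 7574) (.node (.node .leaf (173692, 0, 14, 211275) .leaf) (173693, 0, 16, 142459) (.node .leaf (173694, 0, 17, 236600) .leaf))) (173695, 0, 15, 228446) (.node (.node (.node .leaf (173696, 0, 11, 24202) .leaf) (173697, 0, 18, 48876) (.node .leaf (173698, 0, 16, 173991) .leaf)) (173699, 0, 17, 65161) (.node (.node .leaf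 (173708, 0, 18, 148017) .leaf) (173709, 0, 16, 99194) (.node .leaf (173710, 0, 12, 12838) .leaf)))) (173711, 0, 14, 158472) (.node (.node (.node (.node .leaf (173712, 0, 16, 141023) .leaf) (173713, 0, 17, 90125) (.node .leaf (173714, 0, 14, 53585) .leaf)) (173715, 0, 16, 166015) (.node (.node .leaf (173724, 0, 17, 14948) .leaf) (173725, 0, 14, 55810) (.node .leaf (173726, 0, 14, 92737) .leaf))) (173727, 0, 16, 100903) (.node (.node (.node .leaf (173732, 0, 15, 224348) .leaf) (173733, 0, 17, 232506) (.node .leaf (173734, 0, 16, 146553) .leaf)) (173735, 0, 17, 261278) (.node (.node .leaf (173736, 0, 13, 55363) .leaf) (173737, 0, 15, 102529) .leaf)))))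

/-- part of the orbit tree -/
def itp5_151 : Tree := (.node itp5_147 (173359, 0, 16, 17572) itp5_148)

/-- part of the orbit tree -/
def itp5_152 : Tree := (.node itp5_149 (173615, 0, 15, 159373) itp5_150)

/-- part of the orbit tree -/
def itp5_153 : Tree := (.node itp5_145 (172973, 0, 17, 201831) itp5_146)

/-- part of the orbit tree -/
def itp5_154 : Tree := (.node itp5_151 (173486, 0, 16, 235493) itp5_152)

/-- part of the orbit tree -/
def itp5_155 : Tree := (.node itp5_139 (172209, 0, 15, 202207) itp5_140)

/-- part of the orbit tree -/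
def itp5_156 : Tree := (.node itp5_153 (173230, 0, 16, 84480) itp5_154)

/-- part of the orbit tree -/
def itp5_157 : Tree := (.node (.node (.node (.node (.node (.node .leaf (173739, 0, 14, 49316) .leaf) (173748, 0, 16, 70665) (.node .leaf (173749, 0, 18, 156186) .leaf)) (173750, 0, 20, 250694) (.node (.node .leaf (173751, 0, 15, 42058) .leaf) (173752, 0, 17, 198834) (.node .leaf (173753, 0, 15, 256212) .leaf))) (173754, 0, 15, 83655) (.node (.node (.node .leaf (173755, 0, 15, 178417) .leaf) (173760, 0, 14, 71519) (.node .leaf (173761, 0, 15, 216689) .leaf)) (173762, 0, 19, 156713) (.node (.node .leaf (173763, 0, 18, 164943) .leaf) (173772, 0, 18, 230110) (.node .leaf (173773, 0, 17, 116945) .leaf)))) (173774, 0, 15, 27308) (.node (.node (.node (.node .leaf (173775, 0, 16, 39156) .leaf) (173776, 0, 14, 85081) (.node .leaf (173777, 0, 14, 80007) .leaf)) (173778, 0, 15, 35291) (.node (.node .leaf (173779, 0, 16, 184565) .leaf) (173788, 0, 17, 217314) (.node .leaf (173789, 0, 18, 240902) .leaf))) (173790, 0, 17, 138330) (.node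 (.node (.node .leaf (173791, 0, 16, 188577) .leaf) (173796, 0, 18, 1754) (.node .leaf (173797, 0, 17, 59068) .leaf)) (173798, 0, 17, 87807) (.node (.node .leaf (173799, 0, 16, 112281) .leaf) (173800, 0, 14, 137825) (.node .leaf (173801, 0, 14, 195079) .leaf))))) (173802, 0, 12, 215620) (.node (.node (.node (.node (.node .leaf (173803, 0, 18, 240162) .leaf) (173812, 0, 18, 25534) (.node .leaf (173813, 0, 13, 171753) .leaf)) (173814, 0, 16, 208554) (.node (.node .leaf (173815, 0, 16, 119522) .leaf) (173816, 0, 15, 194111) (.node .leaf (173817, 0, 15, 44817) .leaf))) (173818, 0, 16, 73293) (.node (.node (.node .leaf (173819, 0, 17, 214883) .leaf) (173828, 0, 15, 26434) (.node .leaf (173829, 0, 14, 111281) .leaf)) (173830, 0, 13, 754) (.node (.node .leaf (173831, 0, 18, 58004) .leaf) (173832, 0, 13, 216684) (.node .leaf (173833, 0, 17, 241162) .leaf)))) (173834, 0, 16, 72369) (.node (.node (.node (.node .leaf (173835, 0, 16, 196143) .leaf) (173844, 0, 14, 207490) (.node .leaf (173845, 0, 17, 18586) .leaf)) (173846, 0, 16, 129478)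 (.node (.node .leaf (173847, 0, 14, 170689) .leaf) (173848, 0, 14, 79417) (.node .leaf (173849, 0, 16, 120415) .leaf))) (173850, 0, 13, 224327) (.node (.node (.node .leaf (173851, 0, 15, 79209) .leaf) (173856, 0, 18, 155649) (.node .leaf (173857, 0, 18, 163943) .leaf)) (173858, 0, 17, 208932) (.node (.node .leaf (173859, 0, 16, 249922) .leaf) (173868, 0, 19, 127188) (.node .leaf (173869, 0, 11, 240122) .leaf))))))

/-- part of the orbit tree -/
def itp5_158 : Tree := (.node (.node (.node (.node (.node (.node .leaf (173871, 0, 15, 16776) .leaf) (173872, 0, 16, 6228) (.node .leaf (173873, 0, 15, 63538) .leaf)) (173874, 0, 18, 195537) (.node (.node .leaf (173875, 0, 17, 108567) .leaf) (173884, 0, 14, 132335) (.node .leaf (173885, 0, 16, 189577) .leaf))) (173886, 0, 16, 28240) (.node (.node (.node .leaf (173887, 0, 15, 242860) .leaf) (173892, 0, 15, 16328) (.node .leaf (173893, 0, 16, 186423) .leaf)) (173894, 0, 14, 251834) (.node (.node .leaf (173895, 0, 14, 102036) .leaf) (173896, 0, 10, 174665) (.node .leaf (173897, 0, 16, 62311)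 .leaf)))) (173898, 0, 18, 82491) (.node (.node (.node (.node .leaf (173899, 0, 18, 103593) .leaf) (173908, 0, 15, 149822) (.node .leaf (173909, 0, 15, 41058) .leaf)) (173910, 0, 15, 69665) (.node (.node .leaf (173911, 0, 16, 127047) .leaf) (173912, 0, 16, 154815) (.node .leaf (173913, 0, 13, 179417) .leaf))) (173914, 0, 15, 199834) (.node (.node (.node .leaf (173915, 0, 15, 93667) .leaf) (173920, 0, 17, 212447) (.node .leaf (173921, 0, 17, 125665) .leaf)) (173922, 0, 16, 23202) (.node (.node .leaf (173923, 0, 13, 47812) .leaf) (173932, 0, 17, 108638) (.node .leaf (173933, 0, 16, 258416) .leaf))))) (173934, 0, 12, 149017) (.node (.node (.node (.node (.node .leaf (173935, 0, 16, 173695) .leaf) (173936, 0, 15, 84777) (.node .leaf (173937, 0, 17, 234164) .leaf)) (173938, 0, 6, 172891) (.node (.node .leaf (173939, 0, 17, 180881) .leaf) (173948, 0, 18, 253608) (.node .leaf (173949, 0, 16, 101903) .leaf))) (173950, 0, 17, 15948) (.node (.node (.node .leaf (173951, 0, 17, 56874) .leaf) (173952, 0, 11, 261374) (.node .leaf (173953,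 0, 11, 203928) .leaf)) (173954, 0, 17, 147524) (.node (.node .leaf (173955, 0, 16, 150717) .leaf) (173964, 0, 17, 212407) (.node .leaf (173965, 0, 18, 65571) .leaf)))) (173966, 0, 16, 54725) (.node (.node (.node (.node .leaf (173967, 0, 16, 167147) .leaf) (173968, 0, 16, 253632) (.node .leaf (173969, 0, 10, 91341) .leaf)) (173970, 0, 15, 14002) (.node (.node .leaf (173971, 0, 18, 159644) .leaf) (173980, 0, 16, 235536) (.node .leaf (173981, 0, 17, 227446) .leaf))) (173982, 0, 16, 172851) (.node (.node (.node .leaf (173983, 0, 16, 141395) .leaf) (173988, 0, 15, 52776) (.node .leaf (173989, 0, 16, 62223) .leaf)) (173990, 0, 16, 105997) (.node (.node .leaf (173991, 0, 15, 97899) .leaf) (173992, 0, 15, 184979) (.node .leaf (173993, 0, 14, 157326) .leaf))))))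

/-- part of the orbit tree -/
def itp5_159 : Tree := (.node (.node (.node (.node (.node (.node .leaf (173995, 0, 13, 221904) .leaf) (174004, 0, 17, 56535) (.node .leaf (174005, 0, 17, 153115) .leaf)) (174006, 0, 15, 210085) (.node (.node .leaf (174007, 0, 16, 93579) .leaf) (174008, 0, 15, 43718) (.node .leaf (174009, 0, 13, 4216) .leaf))) (174010, 0, 16, 129763) (.node (.node (.node .leaf (174011, 0, 17, 260106) .leaf) (174016, 0, 18, 38520) (.node .leaf (174017, 0, 14, 30238) .leaf)) (174018, 0, 15, 137422) (.node (.node .leaf (174019, 0, 17, 16864) .leaf) (174028, 0, 13, 166595) (.node .leaf (174029, 0, 17, 158373) .leaf)))) (174030, 0, 18, 252646) (.node (.node (.node (.node .leaf (174031, 0, 19, 185441) .leaf) (174032, 0, 18, 192045) (.node .leaf (174033, 0, 16, 122724) .leaf)) (174034, 0, 18, 245256) (.node (.node .leaf (174035, 0, 13, 145174) .leaf) (174044, 0, 16, 62102) (.node .leaf (174045, 0, 16, 215781) .leaf))) (174046, 0, 15, 195513) (.node (.node (.node .leaf (174047, 0, 18, 41623) .leaf) (174052, 0, 18, 238766)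 (.node .leaf (174053, 0, 15, 214216) .leaf)) (174054, 0, 13, 193675) (.node (.node .leaf (174055, 0, 15, 136429) .leaf) (174056, 0, 18, 112661) (.node .leaf (174057, 0, 16, 88179) .leaf))))) (174058, 0, 12, 59440) (.node (.node (.node (.node (.node .leaf (174059, 0, 16, 2134) .leaf) (174068, 0, 16, 122107) (.node .leaf (174069, 0, 13, 81053) .leaf)) (174070, 0, 16, 224303) (.node (.node .leaf (174071, 0, 17, 27832) .leaf) (174072, 0, 15, 245824) (.node .leaf (174073, 0, 15, 204838) .leaf))) (174074, 0, 17, 168037) (.node (.node (.node .leaf (174075, 0, 15, 159747) .leaf) (174080, 0, 18, 98628) (.node .leaf (174083, 0, 17, 775) .leaf)) (174084, 0, 16, 249158) (.node (.node .leaf (174087, 0, 12, 162842) .leaf) (174089, 0, 17, 197097) (.node .leaf (174090, 0, 16, 193785) .leaf)))) (174093, 0, 16, 98036) (.node (.node (.node (.node .leaf (174094, 0, 18, 183770) .leaf) (174096, 0, 14, 260369) (.node .leaf (174099, 0, 16, 161265) .leaf)) (174100, 0, 17, 113584) (.node (.node .leaf (174103, 0, 18, 159857) .leaf) (174105, 0, 16, 81135)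 (.node .leaf (174106, 0, 16, 36012) .leaf))) (174109, 0, 15, 198658) (.node (.node (.node .leaf (174110, 0, 14, 46479) .leaf) (174113, 0, 15, 169599) (.node .leaf (174114, 0, 13, 206627) .leaf)) (174117, 0, 18, 59746) (.node (.node .leaf (174118, 0, 16, 254903) .leaf) (174120, 0, 16, 9677) (.node .leaf (174123, 0, 15, 73578) .leaf))))))

/-- part of the orbit tree -/
def itp5_160 : Tree := (.node (.node (.node (.node (.node (.node .leaf (174127, 0, 13, 75337) .leaf) (174129, 0, 17, 57481) (.node .leaf (174130, 0, 15, 86485) .leaf)) (174133, 0, 16, 11169) (.node (.node .leaf (174134, 0, 16, 105442) .leaf) (174136, 0, 14, 152379) (.node .leaf (174139, 0, 15, 254567) .leaf))) (174140, 0, 10, 192095) (.node (.node (.node .leaf (174143, 0, 15, 105850) .leaf) (174144, 0, 13, 191426) (.node .leaf (174147, 0, 16, 220033) .leaf)) (174148, 0, 17, 234956) (.node (.node .leaf (174151, 0, 14, 221858) .leaf) (174153, 0, 16, 219491) (.node .leaf (174154, 0, 17, 190527) .leaf)))) (174157, 0, 17, 75390) (.node (.node (.node (.node .leaf (174158,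 0, 10, 108380) .leaf) (174160, 0, 15, 236583) (.node .leaf (174163, 0, 11, 74708) .leaf)) (174164, 0, 17, 123706) (.node (.node .leaf (174167, 0, 18, 72439) .leaf) (174169, 0, 17, 153193) (.node .leaf (174170, 0, 12, 40649) .leaf))) (174173, 0, 15, 217224) (.node (.node (.node .leaf (174174, 0, 17, 188884) .leaf) (174177, 0, 13, 65617) (.node .leaf (174178, 0, 15, 229289) .leaf)) (174181, 0, 16, 45544) (.node (.node .leaf (174182, 0, 18, 35121) .leaf) (174184, 0, 18, 247215) (.node .leaf (174187, 0, 17, 161260) .leaf))))) (174188, 0, 12, 131674) (.node (.node (.node (.node (.node .leaf (174191, 0, 17, 150735) .leaf) (174193, 0, 14, 227332) (.node .leaf (174194, 0, 16, 67935) .leaf)) (174197, 0, 16, 182046) (.node (.node .leaf (174198, 0, 16, 226882) .leaf) (174200, 0, 16, 114170) (.node .leaf (174203, 0, 16, 3513) .leaf))) (174204, 0, 17, 99545) (.node (.node (.node .leaf (174207, 0, 14, 13466) .leaf) (174209, 0, 13, 23324) (.node .leaf (174210, 0, 17, 149099) .leaf)) (174213, 0, 15, 140289) (.node (.node .leaf (174214, 0,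 15, 234845) .leaf) (174216, 0, 17, 78806) (.node .leaf (174219, 0, 15, 219634) .leaf)))) (174220, 0, 14, 68341) (.node (.node (.node (.node .leaf (174223, 0, 16, 47798) .leaf) (174225, 0, 18, 142826) (.node .leaf (174226, 0, 17, 15934) .leaf)) (174229, 0, 17, 21239) (.node (.node .leaf (174230, 0, 16, 123819) .leaf) (174232, 0, 15, 215939) (.node .leaf (174235, 0, 16, 195520) .leaf))) (174236, 0, 17, 188741) (.node (.node (.node .leaf (174239, 0, 14, 180963) .leaf) (174240, 0, 12, 7611) (.node .leaf (174243, 0, 18, 110072) .leaf)) (174244, 0, 14, 65573) (.node (.node .leaf (174247, 0, 18, 103643) .leaf) (174249, 0, 14, 117898) (.node .leaf (174250, 0, 16, 223238) .leaf))))))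

/-- part of the orbit tree -/
def itp5_161 : Tree := (.node itp5_157 (173870, 0, 16, 137382) itp5_158)

/-- part of the orbit tree -/
def itp5_162 : Tree := (.node itp5_159 (174124, 0, 12, 38410) itp5_160)

/-- part of the orbit tree -/
def itp5_163 : Tree := (.node (.node (.node (.node (.node (.node .leaf (174254, 0, 17, 131787) .leaf) (174256, 0, 16, 157166) (.node .leaf (174259, 0, 17, 251309) .leaf)) (174260, 0, 13, 154829) (.node (.node .leaf (174263, 0, 14, 182159) .leaf) (174265, 0, 18, 40976) (.node .leaf (174266, 0, 16, 133920) .leaf))) (174269, 0, 17, 116065) (.node (.node (.node .leaf (174270, 0, 15, 76144) .leaf) (174273, 0, 17, 40110) (.node .leaf (174274, 0, 16, 111306) .leaf)) (174277, 0, 16, 42381) (.node (.node .leaf (174278, 0, 17, 71118) .leaf) (174280, 0, 17, 176164) (.node .leaf (174283, 0, 14, 196984) .leaf)))) (174284, 0, 16, 155763) (.node (.node (.node (.node .leaf (174287, 0, 16, 249904) .leaf) (174289, 0, 16, 189691) (.node .leaf (174290, 0, 17, 246844) .leaf)) (174293, 0, 13, 187864) (.node (.node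 .leaf (174294, 0, 16, 224667) .leaf) (174296, 0, 17, 8453) (.node .leaf (174299, 0, 16, 102726) .leaf))) (174300, 0, 17, 178639) (.node (.node (.node .leaf (174303, 0, 13, 198803) .leaf) (174304, 0, 13, 227133) (.node .leaf (174307, 0, 13, 169710) .leaf)) (174308, 0, 17, 88239) (.node (.node .leaf (174311, 0, 16, 59891) .leaf) (174313, 0, 18, 111299) (.node .leaf (174314, 0, 15, 9564) .leaf))))) (174317, 0, 15, 256797) (.node (.node (.node (.node (.node .leaf (174318, 0, 17, 154177) .leaf) (174320, 0, 15, 86340) (.node .leaf (174323, 0, 15, 57368) .leaf)) (174324, 0, 18, 79435) (.node (.node .leaf (174327, 0, 14, 171781) .leaf) (174329, 0, 16, 248470) (.node .leaf (174330, 0, 13, 152490) .leaf))) (174333, 0, 16, 258997) (.node (.node (.node .leaf (174334, 0, 15, 148470) .leaf) (174336, 0, 17, 87480) (.node .leaf (174339, 0, 15, 58596) .leaf)) (174340, 0, 15, 137747) (.node (.node .leaf (174343, 0, 14, 240208) .leaf) (174345, 0, 14, 59086) (.node .leaf (174346, 0, 17, 87693) .leaf)))) (174349, 0, 12, 57325) (.node (.node (.node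 (.node .leaf (174350, 0, 17, 10315) .leaf) (174352, 0, 12, 205646) (.node .leaf (174355, 0, 16, 125734) .leaf)) (174356, 0, 15, 89171) (.node (.node .leaf (174359, 0, 17, 119301) .leaf) (174361, 0, 17, 102652) (.node .leaf (174362, 0, 15, 208600) .leaf))) (174365, 0, 15, 258017) (.node (.node (.node .leaf (174366, 0, 17, 202747) .leaf) (174369, 0, 15, 116899) (.node .leaf (174370, 0, 18, 245952) .leaf)) (174373, 0, 16, 3713) (.node (.node .leaf (174374, 0, 17, 16835) .leaf) (174376, 0, 17, 49710) (.node .leaf (174379, 0, 17, 179486) .leaf))))))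

/-- part of the orbit tree -/
def itp5_164 : Tree := (.node (.node (.node (.node (.node (.node .leaf (174383, 0, 14, 199791) .leaf) (174385, 0, 14, 1898) (.node .leaf (174386, 0, 13, 131253) .leaf)) (174389, 0, 16, 231893) (.node (.node .leaf (174390, 0, 18, 145814) .leaf) (174392, 0, 16, 177368) (.node .leaf (174395, 0, 15, 50507) .leaf))) (174396, 0, 14, 85035) (.node (.node (.node .leaf (174399, 0, 16, 64616) .leaf) (174400, 0, 9, 84406) (.node .leaf (174403, 0, 17, 63989) .leaf)) (174404, 0, 17, 94357) (.node (.node .leaf (174407, 0, 17, 181107) .leaf) (174409, 0, 19, 232520) (.node .leaf (174410, 0, 18, 146443) .leaf)))) (174413, 0, 14, 115101) (.node (.node (.node (.node .leaf (174414, 0, 15, 132392) .leaf) (174416, 0, 10, 228292) (.node .leaf (174419, 0, 16, 182936) .leaf)) (174420, 0, 15, 66777) (.node (.node .leaf (174423, 0, 16, 46469) .leaf) (174425, 0, 16, 116854) (.node .leaf (174426, 0, 18, 31018) .leaf))) (174429, 0, 13, 118078) (.node (.node (.node .leaf (174430, 0, 16, 32125) .leaf) (174433, 0, 18, 141590)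 (.node .leaf (174434, 0, 12, 201318) .leaf)) (174437, 0, 14, 22027) (.node (.node .leaf (174438, 0, 15, 207685) .leaf) (174440, 0, 14, 26587) (.node .leaf (174443, 0, 16, 120728) .leaf))))) (174444, 0, 16, 24312) (.node (.node (.node (.node (.node .leaf (174447, 0, 17, 126651) .leaf) (174449, 0, 18, 24544) (.node .leaf (174450, 0, 15, 126652) .leaf)) (174453, 0, 16, 58195) (.node (.node .leaf (174454, 0, 16, 86800) .leaf) (174456, 0, 17, 191570) (.node .leaf (174459, 0, 17, 220430) .leaf))) (174460, 0, 15, 37711) (.node (.node (.node .leaf (174463, 0, 17, 74259) .leaf) (174465, 0, 13, 21596) (.node .leaf (174466, 0, 17, 123935) .leaf)) (174469, 0, 16, 28031) (.node (.node .leaf (174470, 0, 16, 225982) .leaf) (174472, 0, 15, 168354) (.node .leaf (174475, 0, 16, 205281) .leaf)))) (174476, 0, 14, 174209) (.node (.node (.node (.node .leaf (174479, 0, 18, 202946) .leaf) (174481, 0, 17, 142345) (.node .leaf (174482, 0, 12, 236618) .leaf)) (174485, 0, 16, 136490) (.node (.node .leaf (174486, 0, 15, 66632) .leaf) (174488, 0, 17, 59895)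 (.node .leaf (174491, 0, 18, 88500) .leaf))) (174492, 0, 17, 132774) (.node (.node (.node .leaf (174495, 0, 17, 90263) .leaf) (174496, 0, 15, 235739) (.node .leaf (174499, 0, 15, 141703) .leaf)) (174500, 0, 18, 124870) (.node (.node .leaf (174503, 0, 17, 145071) .leaf) (174505, 0, 15, 96817) (.node .leaf (174506, 0, 15, 51826) .leaf))))))

/-- part of the orbit tree -/
def itp5_165 : Tree := (.node (.node (.node (.node (.node (.node .leaf (174510, 0, 16, 189736) .leaf) (174512, 0, 17, 116634) (.node .leaf (174515, 0, 16, 24433) .leaf)) (174516, 0, 17, 233776) (.node (.node .leaf (174519, 0, 9, 139372) .leaf) (174521, 0, 15, 220575) (.node .leaf (174522, 0, 17, 176679) .leaf))) (174525, 0, 15, 211783) (.node (.node (.node .leaf (174526, 0, 15, 37854) .leaf) (174529, 0, 17, 212698) (.node .leaf (174530, 0, 16, 87337) .leaf)) (174533, 0, 17, 198649) (.node (.node .leaf (174534, 0, 15, 207412) .leaf) (174536, 0, 17, 153543) (.node .leaf (174539, 0, 17, 19303) .leaf)))) (174540, 0, 16, 10458) (.node (.node (.node (.node .leaf (174543,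 0, 16, 104838) .leaf) (174545, 0, 17, 168579) (.node .leaf (174546, 0, 12, 205791) .leaf)) (174549, 0, 15, 98220) (.node (.node .leaf (174550, 0, 16, 89282) .leaf) (174552, 0, 16, 8497) (.node .leaf (174555, 0, 16, 144178) .leaf))) (174556, 0, 16, 244306) (.node (.node (.node .leaf (174559, 0, 17, 133649) .leaf) (174560, 0, 14, 245841) (.node .leaf (174563, 0, 17, 160013) .leaf)) (174564, 0, 16, 60522) (.node (.node .leaf (174567, 0, 14, 3600) .leaf) (174569, 0, 14, 95203) (.node .leaf (174570, 0, 16, 237812) .leaf))))) (174573, 0, 15, 199934) (.node (.node (.node (.node (.node .leaf (174574, 0, 15, 235991) .leaf) (174576, 0, 18, 112295) (.node .leaf (174579, 0, 18, 204127) .leaf)) (174580, 0, 13, 169023) (.node (.node .leaf (174583, 0, 15, 162022) .leaf) (174585, 0, 18, 26850) (.node .leaf (174586, 0, 14, 120993) .leaf))) (174589, 0, 17, 20929) (.node (.node (.node .leaf (174590, 0, 17, 123266) .leaf) (174594, 0, 16, 64785) (.node .leaf (174595, 0, 16, 1579) .leaf)) (174598, 0, 16, 8216) (.node (.node .leaf (174599, 0, 15,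 162102) .leaf) (174600, 0, 18, 89579) (.node .leaf (174601, 0, 18, 223434) .leaf)))) (174604, 0, 18, 205558) (.node (.node (.node (.node .leaf (174605, 0, 17, 97240) .leaf) (174610, 0, 14, 10739) (.node .leaf (174611, 0, 16, 159965) .leaf)) (174614, 0, 16, 153326) (.node (.node .leaf (174615, 0, 16, 154625) .leaf) (174616, 0, 17, 207645) (.node .leaf (174617, 0, 17, 94771) .leaf))) (174620, 0, 11, 87040) (.node (.node (.node .leaf (174621, 0, 16, 76220) .leaf) (174624, 0, 15, 51837) (.node .leaf (174625, 0, 17, 149159) .leaf)) (174628, 0, 15, 177504) (.node (.node .leaf (174629, 0, 18, 60494) .leaf) (174634, 0, 16, 119676) (.node .leaf (174635, 0, 16, 78618) .leaf))))))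

/-- part of the orbit tree -/
def itp5_166 : Tree := (.node (.node (.node (.node (.node (.node .leaf (174639, 0, 12, 68153) .leaf) (174640, 0, 16, 179339) (.node .leaf (174641, 0, 17, 16114) .leaf)) (174644, 0, 13, 59319) (.node (.node .leaf (174645, 0, 14, 2001) .leaf) (174650, 0, 16, 240425) (.node .leaf (174651, 0, 15, 255819) .leaf))) (174654, 0, 17, 246136) (.node (.node (.node .leaf (174655, 0, 17, 225900) .leaf) (174658, 0, 15, 235415) (.node .leaf (174659, 0, 17, 24225) .leaf)) (174662, 0, 16, 30866) (.node (.node .leaf (174663, 0, 16, 139708) .leaf) (174664, 0, 18, 57898) (.node .leaf (174665, 0, 9, 588) .leaf)))) (174668, 0, 16, 227964) (.node (.node (.node (.node .leaf (174669, 0, 17, 74578) .leaf) (174674, 0, 11, 126914) (.node .leaf (174675, 0, 15, 141399) .leaf)) (174678, 0, 19, 134756) (.node (.node .leaf (174679, 0, 18, 79495) .leaf) (174680, 0, 13, 170623) (.node .leaf (174681, 0, 16, 76473) .leaf))) (174684, 0, 16, 172892) (.node (.node (.node .leaf (174685, 0, 17, 218532) .leaf) (174688, 0, 15, 117831) (.node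 .leaf (174689, 0, 17, 183257) .leaf)) (174692, 0, 17, 191978) (.node (.node .leaf (174693, 0, 15, 46276) .leaf) (174698, 0, 14, 178682) (.node .leaf (174699, 0, 19, 154012) .leaf))))) (174702, 0, 18, 126724) (.node (.node (.node (.node (.node .leaf (174703, 0, 14, 243242) .leaf) (174704, 0, 12, 189441) (.node .leaf (174705, 0, 16, 48431) .leaf)) (174708, 0, 17, 232753) (.node (.node .leaf (174709, 0, 18, 180786) .leaf) (174714, 0, 17, 49583) (.node .leaf (174715, 0, 16, 8649) .leaf))) (174718, 0, 17, 236018) (.node (.node (.node .leaf (174719, 0, 16, 6378) .leaf) (174720, 0, 17, 132894) (.node .leaf (174721, 0, 13, 24112) .leaf)) (174724, 0, 16, 30723) (.node (.node .leaf (174725, 0, 15, 139565) .leaf) (174730, 0, 14, 67056) (.node .leaf (174731, 0, 17, 220382) .leaf)))) (174734, 0, 18, 228077) (.node (.node (.node (.node .leaf (174735, 0, 16, 74691) .leaf) (174736, 0, 16, 82539) (.node .leaf (174737, 0, 15, 141510) .leaf)) (174740, 0, 17, 134901) (.node (.node .leaf (174741, 0, 14, 22491) .leaf) (174746, 0, 18, 145366) (.node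 .leaf (174747, 0, 16, 186288) .leaf))) (174750, 0, 10, 68635) (.node (.node (.node .leaf (174751, 0, 18, 218421) .leaf) (174754, 0, 14, 90606) (.node .leaf (174755, 0, 17, 98696) .leaf)) (174758, 0, 17, 191867) (.node (.node .leaf (174759, 0, 13, 46165) .leaf) (174760, 0, 12, 233608) .leaf)))))

/-- part of the orbit tree -/
def itp5_167 : Tree := (.node itp5_163 (174380, 0, 16, 179507) itp5_164)

/-- part of the orbit tree -/
def itp5_168 : Tree := (.node itp5_165 (174638, 0, 15, 125535) itp5_166)

/-- part of the orbit tree -/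
def itp5_169 : Tree := (.node itp5_161 (173994, 0, 17, 251858) itp5_162)

/-- part of the orbit tree -/
def itp5_170 : Tree := (.node itp5_167 (174509, 0, 18, 218228) itp5_168)

/-- part of the orbit tree -/
def itp5_171 : Tree := (.node (.node (.node (.node (.node (.node .leaf (174764, 0, 10, 126869) .leaf) (174765, 0, 16, 243387) (.node .leaf (174770, 0, 17, 189584) .leaf)) (174771, 0, 12, 48574) (.node (.node .leaf (174774, 0, 19, 39821) .leaf) (174775, 0, 15, 246014) (.node .leaf (174776, 0, 16, 124542) .leaf))) (174777, 0, 15, 35936) (.node (.node (.node .leaf (174780, 0, 15, 21797) .leaf) (174781, 0, 15, 114765) (.node .leaf (174784, 0, 14, 20664) .leaf)) (174785, 0, 16, 1722) (.node (.node .leaf (174788, 0, 18, 27035) .leaf) (174789, 0, 8, 162215) (.node .leaf (174794, 0, 11, 206085) .leaf)))) (174795, 0, 17, 197716) (.node (.node (.node (.node .leaf (174798, 0, 14, 203814) .leaf) (174799, 0, 16, 261184) (.node .leaf (174800, 0, 16, 141549) .leaf)) (174801, 0, 17, 182411) (.node (.node .leaf (174804, 0, 18, 135630) .leaf)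 (174805, 0, 17, 3921) (.node .leaf (174810, 0, 18, 89424) .leaf))) (174811, 0, 15, 94882) (.node (.node (.node .leaf (174814, 0, 15, 87185) .leaf) (174815, 0, 14, 200127) (.node .leaf (174818, 0, 16, 51948) .leaf)) (174819, 0, 15, 168898) (.node (.node .leaf (174822, 0, 12, 177649) .leaf) (174823, 0, 18, 184877) (.node .leaf (174824, 0, 18, 247810) .leaf))))) (174825, 0, 17, 102700) (.node (.node (.node (.node (.node .leaf (174828, 0, 11, 83958) .leaf) (174829, 0, 16, 108432) (.node .leaf (174834, 0, 16, 179226) .leaf)) (174835, 0, 14, 58676) (.node (.node .leaf (174838, 0, 17, 49927) .leaf) (174839, 0, 18, 43640) (.node .leaf (174840, 0, 17, 114420) .leaf))) (174841, 0, 13, 255962) (.node (.node (.node .leaf (174844, 0, 16, 212899) .leaf) (174845, 0, 17, 104647) (.node .leaf (174850, 0, 16, 178406) .leaf)) (174851, 0, 13, 57800) (.node (.node .leaf (174854, 0, 18, 222790) .leaf) (174855, 0, 17, 171733) (.node .leaf (174856, 0, 17, 113160) .leaf)))) (174857, 0, 13, 51902) (.node (.node (.node (.node .leaf (174860, 0, 15, 5115)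 .leaf) (174861, 0, 17, 105531) (.node .leaf (174866, 0, 17, 52752) .leaf)) (174867, 0, 17, 169790) (.node (.node .leaf (174870, 0, 17, 176397) .leaf) (174871, 0, 15, 130677) (.node .leaf (174872, 0, 13, 249086) .leaf))) (174873, 0, 10, 176875) (.node (.node (.node .leaf (174876, 0, 17, 158638) .leaf) (174877, 0, 15, 256717) (.node .leaf (174880, 0, 14, 11678) .leaf)) (174881, 0, 16, 160944) (.node (.node .leaf (174884, 0, 17, 81302) .leaf) (174885, 0, 14, 122352) (.node .leaf (174890, 0, 16, 160008) .leaf))))))

/-- part of the orbit tree -/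
def itp5_172 : Tree := (.node (.node (.node (.node (.node (.node .leaf (174894, 0, 16, 149547) .leaf) (174895, 0, 15, 198979) (.node .leaf (174896, 0, 15, 228576) .leaf)) (174897, 0, 16, 236678) (.node (.node .leaf (174900, 0, 20, 214467) .leaf) (174901, 0, 17, 239013) (.node .leaf (174906, 0, 10, 2397) .leaf))) (174907, 0, 15, 59707) (.node (.node (.node .leaf (174910, 0, 17, 12414) .leaf) (174911, 0, 18, 53272) (.node .leaf (174914, 0, 11, 188524) .leaf)) (174915, 0, 16, 54661) (.node (.node .leaf (174918, 0, 15, 40817) .leaf) (174919, 0, 16, 181855) (.node .leaf (174920, 0, 15, 213086) .leaf)))) (174921, 0, 17, 237624) (.node (.node (.node (.node .leaf (174924, 0, 17, 236959) .leaf) (174925, 0, 11, 115889) (.node .leaf (174930, 0, 17, 38554) .leaf)) (174931, 0, 16, 175568) (.node (.node .leaf (174934, 0, 16, 160917) .leaf) (174935, 0, 15, 45225) (.node .leaf (174936, 0, 16, 234612) .leaf))) (174937, 0, 16, 120941) (.node (.node (.node .leaf (174940, 0, 16, 125801) .leaf) (174941, 0, 13, 123214) (.node .leaf (174944, 0, 18,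 159283) .leaf)) (174945, 0, 18, 142394) (.node (.node .leaf (174948, 0, 17, 153360) .leaf) (174949, 0, 17, 178038) (.node .leaf (174954, 0, 15, 227322) .leaf))))) (174955, 0, 18, 77524) (.node (.node (.node (.node (.node .leaf (174958, 0, 17, 67815) .leaf) (174959, 0, 17, 115403) (.node .leaf (174960, 0, 16, 132066) .leaf)) (174961, 0, 14, 23244) (.node (.node .leaf (174964, 0, 16, 31999) .leaf) (174965, 0, 14, 140753) (.node .leaf (174970, 0, 17, 65804) .leaf))) (174971, 0, 16, 219170) (.node (.node (.node .leaf (174974, 0, 15, 228881) .leaf) (174975, 0, 12, 244382) (.node .leaf (174976, 0, 11, 188669) .leaf)) (174977, 0, 17, 47571) (.node (.node .leaf (174980, 0, 14, 41321) .leaf) (174981, 0, 15, 181966) (.node .leaf (174986, 0, 17, 257527) .leaf)))) (174987, 0, 17, 244541) (.node (.node (.node (.node .leaf (174990, 0, 16, 251092) .leaf) (174991, 0, 16, 210098) (.node .leaf (174992, 0, 14, 38411) .leaf)) (174993, 0, 18, 131193) (.node (.node .leaf (174996, 0, 14, 186684) .leaf) (174997, 0, 16, 45112) (.node .leaf (175002,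 0, 17, 234725) .leaf))) (175003, 0, 14, 118219) (.node (.node (.node .leaf (175006, 0, 18, 109697) .leaf) (175007, 0, 15, 85223) (.node .leaf (175010, 0, 12, 30085) .leaf)) (175011, 0, 14, 140284) (.node (.node .leaf (175014, 0, 17, 195257) .leaf) (175015, 0, 17, 137951) (.node .leaf (175016, 0, 15, 112167) .leaf))))))

/-- part of the orbit tree -/
def itp5_173 : Tree := (.node (.node (.node (.node (.node (.node .leaf (175020, 0, 15, 102148) .leaf) (175021, 0, 15, 217432) (.node .leaf (175026, 0, 16, 48079) .leaf)) (175027, 0, 16, 23133) (.node (.node .leaf (175030, 0, 16, 31854) .leaf) (175031, 0, 16, 25226) (.node .leaf (175032, 0, 17, 65949) .leaf))) (175033, 0, 17, 219315) (.node (.node (.node .leaf (175036, 0, 14, 259921) .leaf) (175037, 0, 18, 202551) (.node .leaf (175040, 0, 18, 178295) .leaf)) (175041, 0, 16, 57689) (.node (.node .leaf (175044, 0, 15, 51050) .leaf) (175045, 0, 17, 171588) (.node .leaf (175050, 0, 16, 113305) .leaf)))) (175051, 0, 16, 254903) (.node (.node (.node (.node .leaf (175054, 0, 14, 48722)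 .leaf) (175055, 0, 13, 105642) (.node .leaf (175056, 0, 18, 52865) .leaf)) (175057, 0, 15, 92927) (.node (.node .leaf (175060, 0, 13, 176540) .leaf) (175061, 0, 17, 87004) (.node .leaf (175066, 0, 17, 248943) .leaf))) (175067, 0, 15, 103745) (.node (.node (.node .leaf (175070, 0, 15, 181767) .leaf) (175071, 0, 17, 256604) (.node .leaf (175074, 0, 15, 11535) .leaf)) (175075, 0, 14, 160801) (.node (.node .leaf (175078, 0, 17, 102463) .leaf) (175079, 0, 16, 94297) (.node .leaf (175080, 0, 12, 208865) .leaf))))) (175081, 0, 13, 146631) (.node (.node (.node (.node (.node .leaf (175084, 0, 13, 86268) .leaf) (175085, 0, 17, 132580) (.node .leaf (175090, 0, 11, 154617) .leaf)) (175091, 0, 16, 727) (.node (.node .leaf (175094, 0, 16, 9444) .leaf) (175095, 0, 17, 198668) (.node .leaf (175096, 0, 17, 88343) .leaf))) (175097, 0, 15, 196665) (.node (.node (.node .leaf (175100, 0, 13, 206346) .leaf) (175101, 0, 17, 98084) (.node .leaf (175105, 0, 14, 31626) .leaf)) (175107, 0, 16, 76719) (.node (.node .leaf (175109, 0, 15, 17065) .leaf)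 (175111, 0, 17, 94702) (.node .leaf (175112, 0, 16, 179828) .leaf)))) (175114, 0, 15, 257617) (.node (.node (.node (.node .leaf (175116, 0, 15, 10798) .leaf) (175118, 0, 18, 251762) (.node .leaf (175121, 0, 16, 168055) .leaf)) (175123, 0, 17, 96261) (.node (.node .leaf (175125, 0, 15, 61290) .leaf) (175127, 0, 18, 223961) (.node .leaf (175128, 0, 16, 50721) .leaf))) (175130, 0, 16, 248759) (.node (.node (.node .leaf (175132, 0, 15, 65282) .leaf) (175134, 0, 17, 110375) (.node .leaf (175136, 0, 15, 233497) .leaf)) (175138, 0, 16, 180284) (.node (.node .leaf (175140, 0, 16, 114104) .leaf) (175142, 0, 18, 153034) (.node .leaf (175145, 0, 12, 94487) .leaf))))))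

/-- part of the orbit tree -/
def itp5_174 : Tree := (.node (.node (.node (.node (.node (.node .leaf (175149, 0, 18, 200202) .leaf) (175151, 0, 12, 59000) (.node .leaf (175152, 0, 15, 111699) .leaf)) (175154, 0, 16, 154657) (.node (.node .leaf (175156, 0, 14, 119151) .leaf) (175158, 0, 15, 9020) (.node .leaf (175161, 0, 12, 208306) .leaf))) (175163, 0, 18, 163223) (.node (.node (.node .leaf (175165, 0, 11, 201873) .leaf) (175167, 0, 12, 168078) (.node .leaf (175169, 0, 15, 200972) .leaf)) (175171, 0, 16, 147753) (.node (.node .leaf (175173, 0, 12, 180502) .leaf) (175175, 0, 17, 76132) (.node .leaf (175176, 0, 14, 134585) .leaf)))) (175178, 0, 15, 124363) (.node (.node (.node (.node .leaf (175180, 0, 15, 29348) .leaf) (175182, 0, 15, 236246) (.node .leaf (175185, 0, 15, 92505) .leaf)) (175187, 0, 17, 14716) (.node (.node .leaf (175189, 0, 17, 47072) .leaf) (175191, 0, 17, 95) (.node .leaf (175192, 0, 16, 31567) .leaf))) (175194, 0, 16, 234301) (.node (.node (.node .leaf (175196, 0, 17, 132178) .leaf) (175198, 0, 17, 125984)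 (.node .leaf (175200, 0, 16, 236079) .leaf)) (175202, 0, 16, 109242) (.node (.node .leaf (175204, 0, 14, 124210) .leaf) (175206, 0, 17, 134464) (.node .leaf (175209, 0, 16, 76189) .leaf))))) (175211, 0, 12, 225092) (.node (.node (.node (.node (.node .leaf (175213, 0, 17, 132674) .leaf) (175215, 0, 13, 218727) (.node .leaf (175216, 0, 15, 126169) .leaf)) (175218, 0, 16, 132267) (.node (.node .leaf (175220, 0, 12, 234436) .leaf) (175222, 0, 18, 256972) (.node .leaf (175225, 0, 15, 18228) .leaf))) (175227, 0, 13, 71441) (.node (.node (.node .leaf (175229, 0, 13, 73846) .leaf) (175231, 0, 17, 182276) (.node .leaf (175232, 0, 15, 69574) .leaf)) (175234, 0, 17, 220355) (.node (.node .leaf (175236, 0, 14, 225499) .leaf) (175238, 0, 16, 222688) (.node .leaf (175241, 0, 14, 51480) .leaf)))) (175243, 0, 17, 21510) (.node (.node (.node (.node .leaf (175245, 0, 15, 115561) .leaf) (175247, 0, 14, 142107) (.node .leaf (175248, 0, 16, 29875) .leaf)) (175250, 0, 15, 37186) (.node (.node .leaf (175252, 0, 15, 19856) .leaf) (175254, 0, 10, 192095)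 (.node .leaf (175257, 0, 18, 117378) .leaf))) (175259, 0, 12, 140016) (.node (.node (.node .leaf (175261, 0, 10, 165998) .leaf) (175263, 0, 13, 251979) (.node .leaf (175265, 0, 16, 142306) .leaf)) (175267, 0, 18, 46928) (.node (.node .leaf (175269, 0, 13, 21759) .leaf) (175271, 0, 17, 244877) (.node .leaf (175272, 0, 14, 38992) .leaf))))))

/-- part of the orbit tree -/
def itp5_175 : Tree := (.node itp5_171 (174891, 0, 16, 168302) itp5_172)

/-- part of the orbit tree -/
def itp5_176 : Tree := (.node itp5_173 (175147, 0, 17, 1474) itp5_174)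

/-- part of the orbit tree -/
def itp5_177 : Tree := (.node (.node (.node (.node (.node (.node .leaf (175276, 0, 18, 190285) .leaf) (175278, 0, 15, 150413) (.node .leaf (175281, 0, 18, 23828) .leaf)) (175283, 0, 14, 243046) (.node (.node .leaf (175285, 0, 15, 239107) .leaf) (175287, 0, 14, 194086) (.node .leaf (175288, 0, 12, 192166) .leaf))) (175290, 0, 16, 67284) (.node (.node (.node .leaf (175292, 0, 18, 91133) .leaf) (175294, 0, 19, 227785) (.node .leaf (175296, 0, 15, 87884) .leaf)) (175298, 0, 12, 180030) (.node (.node .leaf (175300, 0, 17, 206929) .leaf) (175302, 0, 10, 3942) (.node .leaf (175305, 0, 16, 255230) .leaf)))) (175307, 0, 15, 193467) (.node (.node (.node (.node .leaf (175309, 0, 16, 105443) .leaf) (175311, 0, 16, 182936) (.node .leaf (175312, 0, 18, 204341) .leaf)) (175314, 0, 14, 151056) (.node (.node .leaf (175316, 0, 17, 206614) .leaf) (175318, 0, 16, 177877) (.node .leaf (175321, 0, 17, 121803) .leaf))) (175323, 0, 17, 35822) (.node (.node (.node .leaf (175325, 0, 17, 123624) .leaf) (175327, 0, 16, 1383)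 (.node .leaf (175329, 0, 17, 160616) .leaf)) (175331, 0, 17, 105242) (.node (.node .leaf (175333, 0, 18, 177360) .leaf) (175335, 0, 13, 254983) (.node .leaf (175336, 0, 12, 49370) .leaf))))) (175338, 0, 13, 207016) (.node (.node (.node (.node (.node .leaf (175340, 0, 19, 180167) .leaf) (175342, 0, 17, 73995) (.node .leaf (175345, 0, 15, 62886) .leaf)) (175347, 0, 16, 257516) (.node (.node .leaf (175349, 0, 17, 162435) .leaf) (175351, 0, 11, 105632) (.node .leaf (175352, 0, 15, 143448) .leaf))) (175354, 0, 16, 221309) (.node (.node (.node .leaf (175356, 0, 18, 133499) .leaf) (175358, 0, 17, 205123) (.node .leaf (175361, 0, 17, 252414) .leaf)) (175363, 0, 16, 256272) (.node (.node .leaf (175365, 0, 16, 163455) .leaf) (175367, 0, 16, 103949) (.node .leaf (175368, 0, 16, 176848) .leaf)))) (175370, 0, 15, 19493) (.node (.node (.node (.node .leaf (175372, 0, 15, 75043) .leaf) (175374, 0, 16, 29958) (.node .leaf (175377, 0, 18, 106923) .leaf)) (175379, 0, 17, 61838) (.node (.node .leaf (175381, 0, 15, 2185) .leaf) (175383, 0, 13,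 254203) (.node .leaf (175384, 0, 17, 50214) .leaf))) (175386, 0, 16, 207956) (.node (.node (.node .leaf (175388, 0, 19, 220534) .leaf) (175390, 0, 18, 86857) (.node .leaf (175392, 0, 14, 12909) .leaf)) (175394, 0, 15, 52532) (.node (.node .leaf (175396, 0, 16, 88667) .leaf) (175398, 0, 17, 176681) (.node .leaf (175401, 0, 17, 194451) .leaf))))))

/-- part of the orbit tree -/
def itp5_178 : Tree := (.node (.node (.node (.node (.node (.node .leaf (175405, 0, 16, 183984) .leaf) (175407, 0, 17, 237205) (.node .leaf (175408, 0, 10, 150072) .leaf)) (175410, 0, 16, 179138) (.node (.node .leaf (175412, 0, 13, 160539) .leaf) (175414, 0, 18, 205630) (.node .leaf (175417, 0, 17, 253954) .leaf))) (175419, 0, 13, 2160) (.node (.node (.node .leaf (175421, 0, 17, 46821) .leaf) (175423, 0, 17, 124608) (.node .leaf (175425, 0, 17, 23016) .leaf)) (175427, 0, 10, 123741) (.node (.node .leaf (175429, 0, 16, 35419) .leaf) (175431, 0, 17, 118407) (.node .leaf (175432, 0, 15, 191066) .leaf)))) (175434, 0, 17, 206499) (.node (.node (.node (.node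 .leaf (175436, 0, 15, 38215) .leaf) (175438, 0, 12, 204672) (.node .leaf (175441, 0, 16, 183085) .leaf)) (175443, 0, 12, 236296) (.node (.node .leaf (175445, 0, 17, 193038) .leaf) (175447, 0, 18, 243825) (.node .leaf (175448, 0, 14, 3795) .leaf))) (175450, 0, 16, 226526) (.node (.node (.node .leaf (175452, 0, 15, 189361) .leaf) (175454, 0, 16, 68547) (.node .leaf (175456, 0, 14, 219371) .leaf)) (175458, 0, 14, 38334) (.node (.node .leaf (175460, 0, 16, 221640) .leaf) (175462, 0, 14, 143853) (.node .leaf (175465, 0, 15, 105749) .leaf))))) (175467, 0, 18, 52528) (.node (.node (.node (.node (.node .leaf (175469, 0, 18, 107574) .leaf) (175471, 0, 12, 22801) (.node .leaf (175472, 0, 18, 73918) .leaf)) (175474, 0, 15, 28827) (.node (.node .leaf (175476, 0, 18, 226343) .leaf) (175478, 0, 15, 18872) (.node .leaf (175481, 0, 17, 255296) .leaf))) (175483, 0, 17, 177509) (.node (.node (.node .leaf (175485, 0, 14, 253027) .leaf) (175487, 0, 16, 143335) (.node .leaf (175488, 0, 17, 110226) .leaf)) (175490, 0, 16, 131159) (.node (.node .leaf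 (175492, 0, 15, 104369) .leaf) (175494, 0, 17, 32586) (.node .leaf (175497, 0, 17, 224108) .leaf)))) (175499, 0, 15, 146249) (.node (.node (.node (.node .leaf (175501, 0, 12, 217679) .leaf) (175503, 0, 17, 131690) (.node .leaf (175504, 0, 15, 237267) .leaf)) (175506, 0, 16, 165602) (.node (.node .leaf (175508, 0, 18, 258020) .leaf) (175510, 0, 16, 133564) (.node .leaf (175513, 0, 17, 70457) .leaf))) (175515, 0, 18, 181523) (.node (.node (.node .leaf (175517, 0, 18, 217724) .leaf) (175519, 0, 16, 47630) (.node .leaf (175521, 0, 15, 183297) .leaf)) (175523, 0, 16, 74867) (.node (.node .leaf (175525, 0, 16, 45852) .leaf) (175527, 0, 16, 207879) (.node .leaf (175528, 0, 15, 33023) .leaf))))))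

/-- part of the orbit tree -/
def itp5_179 : Tree := (.node (.node (.node (.node (.node (.node .leaf (175532, 0, 17, 131246) .leaf) (175534, 0, 16, 125148) (.node .leaf (175537, 0, 16, 47863) .leaf)) (175539, 0, 14, 93553) (.node (.node .leaf (175541, 0, 9, 181738) .leaf) (175543, 0, 15, 77208) (.node .leaf (175544, 0, 14, 133445) .leaf))) (175546, 0, 16, 239759) (.node (.node (.node .leaf (175548, 0, 14, 180617) .leaf) (175550, 0, 16, 233900) (.node .leaf (175552, 0, 16, 110767) .leaf)) (175554, 0, 18, 153821) (.node (.node .leaf (175556, 0, 12, 195895) .leaf) (175558, 0, 16, 10176) (.node .leaf (175561, 0, 18, 490) .leaf)))) (175563, 0, 17, 60271) (.node (.node (.node (.node .leaf (175565, 0, 15, 97280) .leaf) (175567, 0, 18, 92396) (.node .leaf (175568, 0, 15, 48193) .leaf)) (175570, 0, 18, 126052) (.node (.node .leaf (175572, 0, 16, 34146) .leaf) (175574, 0, 15, 151862) (.node .leaf (175577, 0, 17, 95723) .leaf))) (175579, 0, 17, 171417) (.node (.node (.node .leaf (175581, 0, 14, 147612) .leaf) (175583, 0, 15, 57988) (.node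 .leaf (175585, 0, 14, 169099) .leaf)) (175587, 0, 17, 97529) (.node (.node .leaf (175589, 0, 18, 71332) .leaf) (175591, 0, 15, 197604) (.node .leaf (175592, 0, 14, 10041) .leaf))))) (175594, 0, 16, 178780) (.node (.node (.node (.node (.node .leaf (175596, 0, 17, 250714) .leaf) (175598, 0, 14, 110678) (.node .leaf (175601, 0, 17, 219090) .leaf)) (175603, 0, 16, 199183) (.node (.node .leaf (175605, 0, 15, 171360) .leaf) (175607, 0, 18, 147156) (.node .leaf (175608, 0, 15, 102956) .leaf))) (175610, 0, 17, 49673) (.node (.node (.node .leaf (175612, 0, 14, 109327) .leaf) (175614, 0, 13, 247456) (.node .leaf (175616, 0, 17, 47004) .leaf)) (175617, 0, 17, 58285) (.node (.node .leaf (175618, 0, 17, 86769) .leaf) (175619, 0, 16, 199647) (.node .leaf (175620, 0, 16, 50590) .leaf)))) (175621, 0, 17, 171184) (.node (.node (.node (.node .leaf (175622, 0, 16, 208364) .leaf) (175623, 0, 13, 81660) (.node .leaf (175632, 0, 16, 52341) .leaf)) (175633, 0, 18, 169307) (.node (.node .leaf (175634, 0, 16, 205831) .leaf) (175635, 0, 16, 229258)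 (.node .leaf (175636, 0, 16, 194282) .leaf))) (175637, 0, 16, 136844) (.node (.node (.node .leaf (175638, 0, 17, 239311) .leaf) (175639, 0, 17, 214697) (.node .leaf (175656, 0, 13, 104945) .leaf)) (175657, 0, 18, 95291) (.node (.node .leaf (175658, 0, 15, 51668) .leaf) (175659, 0, 16, 171081) (.node .leaf (175660, 0, 15, 106706) .leaf))))))

/-- part of the orbit tree -/
def itp5_180 : Tree := (.node (.node (.node (.node (.node (.node .leaf (175662, 0, 15, 178810) .leaf) (175663, 0, 18, 58196) (.node .leaf (175672, 0, 15, 254372) .leaf)) (175673, 0, 19, 197058) (.node (.node .leaf (175674, 0, 17, 177041) .leaf) (175675, 0, 14, 152039) (.node .leaf (175676, 0, 16, 252039) .leaf))) (175677, 0, 17, 97744) (.node (.node (.node .leaf (175678, 0, 16, 166050) .leaf) (175679, 0, 13, 157892) (.node .leaf (175680, 0, 16, 188937) .leaf)) (175681, 0, 16, 212348) (.node (.node .leaf (175682, 0, 16, 68219) .leaf) (175683, 0, 12, 159065) (.node .leaf (175684, 0, 13, 255033) .leaf)))) (175685, 0, 17, 181306) (.node (.node (.node (.node .leaf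 (175686, 0, 15, 177180) .leaf) (175687, 0, 16, 152698) (.node .leaf (175696, 0, 17, 38143) .leaf)) (175697, 0, 17, 83241) (.node (.node .leaf (175698, 0, 18, 62826) .leaf) (175699, 0, 12, 75171) (.node .leaf (175700, 0, 13, 105580) .leaf))) (175701, 0, 17, 97290) (.node (.node (.node .leaf (175702, 0, 17, 52297) .leaf) (175703, 0, 17, 11311) (.node .leaf (175720, 0, 17, 226719) .leaf)) (175721, 0, 16, 76977) (.node (.node .leaf (175722, 0, 15, 238418) .leaf) (175723, 0, 14, 213812) (.node .leaf (175724, 0, 14, 182868) .leaf))))) (175725, 0, 13, 218028) (.node (.node (.node (.node (.node .leaf (175726, 0, 14, 189168) .leaf) (175727, 0, 17, 48094) (.node .leaf (175736, 0, 17, 35618) .leaf)) (175737, 0, 15, 27460) (.node (.node .leaf (175738, 0, 16, 121607) .leaf) (175739, 0, 16, 45621) (.node .leaf (175740, 0, 16, 228468) .leaf))) (175741, 0, 14, 21095) (.node (.node (.node .leaf (175742, 0, 16, 123428) .leaf) (175743, 0, 17, 183592) (.node .leaf (175752, 0, 17, 122998) .leaf)) (175753, 0, 18, 58728) (.node (.node .leaf (175754,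 0, 14, 87339) .leaf) (175755, 0, 18, 111949) (.node .leaf (175756, 0, 15, 15405) .leaf)))) (175757, 0, 14, 116293) (.node (.node (.node (.node .leaf (175758, 0, 16, 30489) .leaf) (175759, 0, 16, 142903) (.node .leaf (175768, 0, 15, 235136) .leaf)) (175769, 0, 16, 118702) (.node (.node .leaf (175770, 0, 11, 208254) .leaf) (175771, 0, 16, 249112) (.node .leaf (175772, 0, 18, 148600) .leaf))) (175773, 0, 16, 241843) (.node (.node (.node .leaf (175774, 0, 15, 201821) .leaf) (175775, 0, 16, 259131) (.node .leaf (175776, 0, 17, 76643) .leaf)) (175777, 0, 17, 117509) (.node (.node .leaf (175778, 0, 16, 237458) .leaf) (175779, 0, 14, 39712) .leaf)))))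

/-- part of the orbit tree -/
def itp5_181 : Tree := (.node itp5_177 (175403, 0, 15, 239542) itp5_178)

/-- part of the orbit tree -/
def itp5_182 : Tree := (.node itp5_179 (175661, 0, 15, 199462) itp5_180)

/-- part of the orbit tree -/
def itp5_183 : Tree := (.node itp5_175 (175017, 0, 18, 87617) itp5_176)

/-- part of the orbit tree -/
def itp5_184 : Tree := (.node itp5_181 (175530, 0, 18, 235457) itp5_182)

/-- part of the orbit tree -/
def itp5_185 : Tree := (.node itp5_169 (174253, 0, 14, 188774) itp5_170)

/-- part of the orbit tree -/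
def itp5_186 : Tree := (.node itp5_183 (175274, 0, 15, 160430) itp5_184)

/-- part of the orbit tree -/
def itp5_187 : Tree := (.node itp5_155 (172717, 0, 16, 45834) itp5_156)

/-- part of the orbit tree -/
def itp5_188 : Tree := (.node itp5_185 (174761, 0, 16, 117158) itp5_186)

/-- part of the orbit tree -/
def itp5_189 : Tree := (.node (.node (.node (.node (.node (.node .leaf (175781, 0, 14, 127526) .leaf) (175782, 0, 17, 123023) (.node .leaf (175783, 0, 17, 41475) .leaf)) (175792, 0, 13, 131350) (.node (.node .leaf (175793, 0, 17, 242512) .leaf) (175794, 0, 15, 125284) (.node .leaf (175795, 0, 18, 189301) .leaf))) (175796, 0, 8, 32267) (.node (.node (.node .leaf (175797, 0, 18, 232051) .leaf) (175798, 0, 15, 145968) (.node .leaf (175799, 0, 15, 186966) .leaf)) (175816, 0, 17, 112892) (.node (.node .leaf (175817, 0, 10, 233454) .leaf) (175818, 0, 16, 147373) (.node .leaf (175819, 0, 14, 188363) .leaf)))) (175820, 0, 17, 218795) (.node (.node (.node (.node .leaf (175821, 0, 18, 106191) .leaf) (175822, 0, 17, 132750) (.node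 .leaf (175823, 0, 14, 190184) .leaf)) (175832, 0, 16, 249354) (.node (.node .leaf (175833, 0, 16, 104228) .leaf) (175834, 0, 17, 18424) (.node .leaf (175835, 0, 16, 163670) .leaf))) (175836, 0, 17, 110871) (.node (.node (.node .leaf (175837, 0, 17, 118424) .leaf) (175838, 0, 16, 32475) (.node .leaf (175839, 0, 16, 40637) .leaf)) (175840, 0, 11, 12138) (.node (.node .leaf (175841, 0, 17, 172419) .leaf) (175842, 0, 15, 201152) (.node .leaf (175843, 0, 15, 258470) .leaf))))) (175844, 0, 18, 151671) (.node (.node (.node (.node (.node .leaf (175845, 0, 12, 170144) .leaf) (175846, 0, 17, 207075) (.node .leaf (175847, 0, 17, 254251) .leaf)) (175856, 0, 17, 14768) (.node (.node .leaf (175857, 0, 15, 55766) .leaf) (175858, 0, 19, 111086) (.node .leaf (175859, 0, 14, 256192) .leaf))) (175860, 0, 10, 147) (.node (.node (.node .leaf (175861, 0, 17, 57589) .leaf) (175862, 0, 17, 249587) (.node .leaf (175863, 0, 14, 104413) .leaf)) (175872, 0, 14, 154976) (.node (.node .leaf (175873, 0, 18, 1102) .leaf) (175874, 0, 18, 111890) (.node .leaf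 (175875, 0, 16, 257084) .leaf)))) (175876, 0, 15, 8829) (.node (.node (.node (.node .leaf (175877, 0, 15, 162643) .leaf) (175878, 0, 18, 163054) (.node .leaf (175879, 0, 16, 171144) .leaf)) (175888, 0, 16, 93629) (.node (.node .leaf (175889, 0, 16, 101851) .leaf) (175890, 0, 14, 15768) (.node .leaf (175891, 0, 17, 56830) .leaf))) (175892, 0, 10, 87198) (.node (.node (.node .leaf (175893, 0, 14, 3493) .leaf) (175894, 0, 15, 1211) (.node .leaf (175895, 0, 16, 255447) .leaf)) (175912, 0, 17, 146309) (.node (.node .leaf (175913, 0, 15, 187363) .leaf) (175914, 0, 15, 224160) (.node .leaf (175915, 0, 16, 232390) .leaf))))))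

/-- part of the orbit tree -/
def itp5_190 : Tree := (.node (.node (.node (.node (.node (.node .leaf (175917, 0, 16, 257221) .leaf) (175918, 0, 17, 217731) (.node .leaf (175919, 0, 16, 1207) .leaf)) (175928, 0, 17, 113664) (.node (.node .leaf (175929, 0, 10, 255278) .leaf) (175930, 0, 15, 152690) (.node .leaf (175931, 0, 13, 127891) .leaf))) (175932, 0, 16, 31475) (.node (.node (.node .leaf (175933, 0, 18, 105011) .leaf) (175934, 0, 18, 11119) (.node .leaf (175935, 0, 14, 160321) .leaf)) (175936, 0, 15, 132586) (.node (.node .leaf (175937, 0, 16, 40712) .leaf) (175938, 0, 17, 77643) (.node .leaf (175939, 0, 15, 118573) .leaf)))) (175940, 0, 17, 31479) (.node (.node (.node (.node .leaf (175941, 0, 16, 140249) .leaf) (175942, 0, 17, 234117) (.node .leaf (175943, 0, 17, 117675) .leaf)) (175952, 0, 18, 132923) (.node (.node .leaf (175953, 0, 15, 190301) .leaf) (175954, 0, 14, 218910) (.node .leaf (175955, 0, 16, 115264) .leaf))) (175956, 0, 15, 134145) (.node (.node (.node .leaf (175957, 0, 19, 188030) .leaf) (175958, 0, 16, 124019)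 (.node .leaf (175959, 0, 15, 233051) .leaf)) (175976, 0, 17, 234108) (.node (.node .leaf (175977, 0, 14, 110949) .leaf) (175978, 0, 18, 31246) (.node .leaf (175979, 0, 15, 57664) .leaf))))) (175980, 0, 15, 126305) (.node (.node (.node (.node (.node .leaf (175981, 0, 16, 242767) .leaf) (175982, 0, 13, 132371) (.node .leaf (175983, 0, 17, 23613) .leaf)) (175992, 0, 17, 124042) (.node (.node .leaf (175993, 0, 17, 248112) .leaf) (175994, 0, 17, 134392) (.node .leaf (175995, 0, 17, 21974) .leaf))) (175996, 0, 15, 200821) (.node (.node (.node .leaf (175997, 0, 16, 115385) .leaf) (175998, 0, 17, 29669) (.node .leaf (175999, 0, 18, 142027) .leaf)) (176008, 0, 16, 67477) (.node (.node .leaf (176009, 0, 15, 214812) .leaf) (176010, 0, 18, 192487) (.node .leaf (176011, 0, 16, 137017) .leaf)))) (176012, 0, 16, 227464) (.node (.node (.node (.node .leaf (176013, 0, 15, 74150) .leaf) (176014, 0, 15, 183932) (.node .leaf (176015, 0, 18, 142874) .leaf)) (176024, 0, 18, 122671) (.node (.node .leaf (176025, 0, 15, 81737) .leaf) (176026, 0, 17,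 36618) (.node .leaf (176027, 0, 17, 180287) .leaf))) (176028, 0, 18, 69246) (.node (.node (.node .leaf (176029, 0, 18, 67178) .leaf) (176030, 0, 16, 189964) (.node .leaf (176031, 0, 16, 48930) .leaf)) (176032, 0, 17, 36867) (.node (.node .leaf (176033, 0, 17, 182573) .leaf) (176034, 0, 15, 227441) (.node .leaf (176035, 0, 17, 74079) .leaf))))))

/-- part of the orbit tree -/
def itp5_191 : Tree := (.node (.node (.node (.node (.node (.node .leaf (176037, 0, 18, 151634) .leaf) (176038, 0, 16, 67436) (.node .leaf (176039, 0, 16, 196727) .leaf)) (176048, 0, 15, 190197) (.node (.node .leaf (176049, 0, 10, 49115) .leaf) (176050, 0, 16, 69255) (.node .leaf (176051, 0, 15, 219049) .leaf))) (176052, 0, 13, 39400) (.node (.node (.node .leaf (176053, 0, 17, 10247) .leaf) (176054, 0, 16, 225690) (.node .leaf (176055, 0, 18, 96290) .leaf)) (176072, 0, 17, 52732) (.node (.node .leaf (176073, 0, 17, 11674) .leaf) (176074, 0, 17, 178029) (.node .leaf (176075, 0, 17, 60995) .leaf)))) (176076, 0, 15, 204802) (.node (.node (.node (.node .leaf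 (176077, 0, 17, 5305) .leaf) (176078, 0, 19, 51312) (.node .leaf (176079, 0, 18, 168286) .leaf)) (176088, 0, 17, 207337) (.node (.node .leaf (176089, 0, 17, 153039) .leaf) (176090, 0, 18, 255372) (.node .leaf (176091, 0, 17, 198122) .leaf))) (176092, 0, 17, 87796) (.node (.node (.node .leaf (176093, 0, 14, 200666) .leaf) (176094, 0, 16, 253103) (.node .leaf (176095, 0, 17, 59304) .leaf)) (176096, 0, 16, 51337) (.node (.node .leaf (176097, 0, 15, 168359) .leaf) (176098, 0, 18, 205051) (.node .leaf (176099, 0, 19, 21458) .leaf))))) (176100, 0, 16, 178068) (.node (.node (.node (.node (.node .leaf (176101, 0, 15, 61114) .leaf) (176102, 0, 17, 90086) (.node .leaf (176103, 0, 19, 198344) .leaf)) (176112, 0, 13, 236484) (.node (.node .leaf (176113, 0, 17, 59217) .leaf) (176114, 0, 16, 183265) (.node .leaf (176115, 0, 15, 142215) .leaf))) (176116, 0, 12, 238311) (.node (.node (.node .leaf (176117, 0, 14, 213633) .leaf) (176118, 0, 16, 207120) (.node .leaf (176119, 0, 13, 94270) .leaf)) (176128, 0, 18, 191050) (.node (.node .leaf (176131,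 0, 16, 103501) .leaf) (176133, 0, 12, 802) (.node .leaf (176134, 0, 17, 111230) .leaf)))) (176136, 0, 13, 53202) (.node (.node (.node (.node .leaf (176139, 0, 13, 98001) .leaf) (176141, 0, 13, 5783) (.node .leaf (176142, 0, 17, 88290) .leaf)) (176144, 0, 11, 152551) (.node (.node .leaf (176147, 0, 15, 254651) .leaf) (176149, 0, 13, 161236) (.node .leaf (176150, 0, 17, 129817) .leaf))) (176152, 0, 18, 178555) (.node (.node (.node .leaf (176155, 0, 14, 198695) .leaf) (176157, 0, 16, 171848) (.node .leaf (176158, 0, 17, 253569) .leaf)) (176161, 0, 16, 66009) (.node (.node .leaf (176162, 0, 16, 176233) .leaf) (176164, 0, 16, 206598) (.node .leaf (176167, 0, 14, 26847) .leaf))))))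

/-- part of the orbit tree -/
def itp5_192 : Tree := (.node (.node (.node (.node (.node (.node .leaf (176170, 0, 14, 168962) .leaf) (176172, 0, 13, 249242) (.node .leaf (176175, 0, 18, 163014) .leaf)) (176177, 0, 16, 96195) (.node (.node .leaf (176178, 0, 17, 182735) .leaf) (176180, 0, 17, 237769) (.node .leaf (176183, 0, 17, 57516) .leaf))) (176185, 0, 14, 89108) (.node (.node (.node .leaf (176186, 0, 19, 11267) .leaf) (176188, 0, 15, 99665) (.node .leaf (176191, 0, 16, 2608) .leaf)) (176192, 0, 16, 98508) (.node (.node .leaf (176195, 0, 15, 12431) .leaf) (176197, 0, 13, 88457) (.node .leaf (176198, 0, 14, 59850) .leaf)))) (176200, 0, 18, 38663) (.node (.node (.node (.node .leaf (176203, 0, 16, 75355) .leaf) (176205, 0, 16, 45364) (.node .leaf (176206, 0, 12, 183378) .leaf)) (176208, 0, 18, 133997) (.node (.node .leaf (176211, 0, 16, 149722) .leaf) (176213, 0, 14, 142686) (.node .leaf (176214, 0, 17, 168351) .leaf))) (176216, 0, 15, 122113) (.node (.node (.node .leaf (176219, 0, 17, 217261) .leaf) (176221, 0, 17, 182210)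 (.node .leaf (176222, 0, 15, 226974) .leaf)) (176225, 0, 14, 219583) (.node (.node .leaf (176226, 0, 16, 190691) .leaf) (176228, 0, 15, 176666) (.node .leaf (176231, 0, 17, 197209) .leaf))))) (176233, 0, 15, 242467) (.node (.node (.node (.node (.node .leaf (176234, 0, 9, 131711) .leaf) (176236, 0, 13, 234768) (.node .leaf (176239, 0, 17, 140364) .leaf)) (176241, 0, 17, 77641) (.node (.node .leaf (176242, 0, 16, 107337) .leaf) (176244, 0, 14, 67962) (.node .leaf (176247, 0, 18, 47142) .leaf))) (176249, 0, 13, 145042) (.node (.node (.node .leaf (176250, 0, 16, 29833) .leaf) (176252, 0, 13, 192471) (.node .leaf (176255, 0, 13, 21178) .leaf)) (176257, 0, 15, 40230) (.node (.node .leaf (176258, 0, 16, 77157) .leaf) (176260, 0, 16, 17507) (.node .leaf (176263, 0, 14, 23353) .leaf)))) (176265, 0, 18, 75466) (.node (.node (.node (.node .leaf (176266, 0, 16, 38806) .leaf) (176268, 0, 13, 65785) (.node .leaf (176271, 0, 16, 45477) .leaf)) (176273, 0, 14, 244384) (.node (.node .leaf (176274, 0, 16, 134140) .leaf) (176276, 0, 15, 236691)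 (.node .leaf (176279, 0, 15, 142799) .leaf))) (176281, 0, 15, 49387) (.node (.node (.node .leaf (176282, 0, 15, 188768) .leaf) (176284, 0, 18, 6574) (.node .leaf (176287, 0, 18, 182099) .leaf)) (176288, 0, 13, 190578) (.node (.node .leaf (176291, 0, 16, 219438) .leaf) (176293, 0, 16, 241648) (.node .leaf (176294, 0, 15, 229149) .leaf))))))

/-- part of the orbit tree -/
def itp5_193 : Tree := (.node itp5_189 (175916, 0, 16, 112107) itp5_190)

/-- part of the orbit tree -/
def itp5_194 : Tree := (.node itp5_191 (176169, 0, 16, 256937) itp5_192)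

/-- part of the orbit tree -/
def itp5_195 : Tree := (.node (.node (.node (.node (.node (.node .leaf (176299, 0, 16, 58222) .leaf) (176301, 0, 16, 140509) (.node .leaf (176302, 0, 16, 234881) .leaf)) (176304, 0, 17, 40580) (.node (.node .leaf (176307, 0, 12, 48803) .leaf) (176309, 0, 16, 47287) (.node .leaf (176310, 0, 17, 68075) .leaf))) (176312, 0, 17, 207736) (.node (.node (.node .leaf (176315, 0, 16, 116036) .leaf) (176317, 0, 15, 21035) (.node .leaf (176318, 0, 17, 148094) .leaf)) (176321, 0, 13, 260000) (.node (.node .leaf (176322, 0, 15, 149475) .leaf) (176324, 0, 16, 111343) (.node .leaf (176327, 0, 17, 171686) .leaf)))) (176329, 0, 16, 119352) (.node (.node (.node (.node .leaf (176330, 0, 16, 53020) .leaf) (176332, 0, 16, 68477) (.node .leaf (176335, 0, 16, 59695) .leaf)) (176337, 0, 17, 102389) (.node (.node .leaf (176338, 0, 14, 152438) .leaf) (176340, 0, 16, 246809) (.node .leaf (176343, 0, 18, 161093) .leaf))) (176345, 0, 16, 240237) (.node (.node (.node .leaf (176346, 0, 16, 178666) .leaf) (176348, 0, 4, 226088)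 (.node .leaf (176351, 0, 15, 181099) .leaf)) (176352, 0, 12, 7219) (.node (.node .leaf (176355, 0, 17, 109680) .leaf) (176357, 0, 17, 169675) (.node .leaf (176358, 0, 15, 95541) .leaf))))) (176360, 0, 16, 145835) (.node (.node (.node (.node (.node .leaf (176363, 0, 16, 256824) .leaf) (176365, 0, 12, 188654) (.node .leaf (176366, 0, 15, 249099) .leaf)) (176368, 0, 19, 50702) (.node (.node .leaf (176371, 0, 14, 96082) .leaf) (176373, 0, 16, 57405) (.node .leaf (176374, 0, 15, 200032) .leaf))) (176376, 0, 16, 11410) (.node (.node (.node .leaf (176379, 0, 18, 127421) .leaf) (176381, 0, 18, 2721) (.node .leaf (176382, 0, 17, 76024) .leaf)) (176384, 0, 13, 49906) (.node (.node .leaf (176387, 0, 15, 95150) .leaf) (176389, 0, 17, 102779) (.node .leaf (176390, 0, 17, 8504) .leaf)))) (176392, 0, 16, 224678) (.node (.node (.node (.node .leaf (176395, 0, 16, 187877) .leaf) (176397, 0, 16, 242915) (.node .leaf (176398, 0, 12, 132256) .leaf)) (176400, 0, 15, 209003) (.node (.node .leaf (176403, 0, 10, 197976) .leaf) (176405, 0, 17, 256302)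 (.node .leaf (176406, 0, 12, 205675) .leaf))) (176408, 0, 14, 71155) (.node (.node (.node .leaf (176411, 0, 14, 257988) .leaf) (176413, 0, 15, 117942) (.node .leaf (176414, 0, 13, 31989) .leaf)) (176417, 0, 17, 255702) (.node (.node .leaf (176418, 0, 18, 201710) .leaf) (176420, 0, 16, 245989) (.node .leaf (176423, 0, 13, 248491) .leaf))))))

/-- part of the orbit tree -/
def itp5_196 : Tree := (.node (.node (.node (.node (.node (.node .leaf (176426, 0, 11, 79478) .leaf) (176428, 0, 15, 24432) (.node .leaf (176431, 0, 17, 126771) .leaf)) (176433, 0, 14, 102432) (.node (.node .leaf (176434, 0, 16, 8572) .leaf) (176436, 0, 18, 701) (.node .leaf (176439, 0, 15, 111358) .leaf))) (176441, 0, 18, 96956) (.node (.node (.node .leaf (176442, 0, 17, 52192) .leaf) (176444, 0, 18, 141093) (.node .leaf (176447, 0, 18, 60883) .leaf)) (176448, 0, 18, 139960) (.node (.node .leaf (176451, 0, 16, 76580) .leaf) (176453, 0, 14, 195581) (.node .leaf (176454, 0, 17, 215998) .leaf)))) (176456, 0, 14, 28900) (.node (.node (.node (.node .leaf (176459,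 0, 17, 112483) .leaf) (176461, 0, 17, 22231) (.node .leaf (176462, 0, 17, 93734) .leaf)) (176464, 0, 17, 23277) (.node (.node .leaf (176467, 0, 17, 220626) .leaf) (176469, 0, 15, 182973) (.node .leaf (176470, 0, 17, 78827) .leaf))) (176472, 0, 15, 132626) (.node (.node (.node .leaf (176475, 0, 15, 249654) .leaf) (176477, 0, 18, 139297) (.node .leaf (176478, 0, 17, 233853) .leaf)) (176481, 0, 18, 245340) (.node (.node .leaf (176482, 0, 15, 134912) .leaf) (176484, 0, 14, 69742) (.node .leaf (176487, 0, 16, 41005) .leaf))))) (176489, 0, 14, 218304) (.node (.node (.node (.node (.node .leaf (176490, 0, 16, 154864) .leaf) (176492, 0, 18, 226035) (.node .leaf (176495, 0, 18, 165301) .leaf)) (176497, 0, 17, 116906) (.node (.node .leaf (176498, 0, 15, 31222) .leaf) (176500, 0, 17, 126617) (.node .leaf (176503, 0, 13, 186488) .leaf))) (176505, 0, 19, 103654) (.node (.node (.node .leaf (176506, 0, 17, 37738) .leaf) (176508, 0, 17, 85411) (.node .leaf (176511, 0, 11, 64992) .leaf)) (176513, 0, 18, 76725) (.node (.node .leaf (176514, 0,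 16, 167697) .leaf) (176516, 0, 17, 255511) (.node .leaf (176519, 0, 15, 153172) .leaf)))) (176521, 0, 18, 72394) (.node (.node (.node (.node .leaf (176522, 0, 16, 43657) .leaf) (176524, 0, 17, 124698) (.node .leaf (176527, 0, 18, 29644) .leaf)) (176529, 0, 16, 83719) (.node (.node .leaf (176530, 0, 18, 191519) .leaf) (176532, 0, 16, 228208) (.node .leaf (176535, 0, 17, 182828) .leaf))) (176537, 0, 18, 221855) (.node (.node (.node .leaf (176538, 0, 17, 185052) .leaf) (176540, 0, 12, 233964) (.node .leaf (176543, 0, 18, 134041) .leaf)) (176544, 0, 16, 54465) (.node (.node .leaf (176547, 0, 18, 91266) .leaf) (176549, 0, 17, 141730) (.node .leaf (176550, 0, 16, 235774) .leaf))))))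

/-- part of the orbit tree -/
def itp5_197 : Tree := (.node (.node (.node (.node (.node (.node .leaf (176555, 0, 17, 218193) .leaf) (176557, 0, 15, 181054) (.node .leaf (176558, 0, 15, 225890) .leaf)) (176560, 0, 13, 31079) (.node (.node .leaf (176563, 0, 18, 203991) .leaf) (176565, 0, 16, 161233) (.node .leaf (176566, 0, 15, 247186) .leaf))) (176568, 0, 19, 37883) (.node (.node (.node .leaf (176571, 0, 15, 74407) .leaf) (176573, 0, 17, 46536) (.node .leaf (176574, 0, 15, 122890) .leaf)) (176577, 0, 17, 95039) (.node (.node .leaf (176578, 0, 17, 124311) .leaf) (176580, 0, 14, 35985) (.node .leaf (176583, 0, 16, 58448) .leaf)))) (176585, 0, 18, 104867) (.node (.node (.node (.node .leaf (176586, 0, 16, 245775) .leaf) (176588, 0, 15, 114576) (.node .leaf (176591, 0, 17, 3788) .leaf)) (176593, 0, 16, 142721) (.node (.node .leaf (176594, 0, 17, 177301) .leaf) (176596, 0, 15, 205818) (.node .leaf (176599, 0, 17, 214151) .leaf))) (176601, 0, 14, 257877) (.node (.node (.node .leaf (176602, 0, 10, 112730) .leaf) (176604, 0, 18, 248166)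 (.node .leaf (176607, 0, 14, 90399) .leaf)) (176608, 0, 14, 245319) (.node (.node .leaf (176611, 0, 17, 255559) .leaf) (176613, 0, 14, 222978) (.node .leaf (176614, 0, 17, 186177) .leaf))))) (176616, 0, 15, 105439) (.node (.node (.node (.node (.node .leaf (176619, 0, 16, 199899) .leaf) (176621, 0, 15, 82586) (.node .leaf (176622, 0, 14, 207592) .leaf)) (176624, 0, 15, 8685) (.node (.node .leaf (176627, 0, 17, 30289) .leaf) (176629, 0, 17, 2014) (.node .leaf (176630, 0, 18, 112258) .leaf))) (176632, 0, 13, 52081) (.node (.node (.node .leaf (176635, 0, 15, 152521) .leaf) (176637, 0, 16, 211663) (.node .leaf (176638, 0, 14, 166540) .leaf)) (176642, 0, 14, 235039) (.node (.node .leaf (176643, 0, 15, 226937) .leaf) (176644, 0, 16, 196377) (.node .leaf (176645, 0, 13, 1550) .leaf)))) (176650, 0, 15, 111495) (.node (.node (.node (.node .leaf (176651, 0, 13, 97277) .leaf) (176652, 0, 17, 55937) (.node .leaf (176653, 0, 15, 60562) .leaf)) (176658, 0, 15, 126538) (.node (.node .leaf (176659, 0, 15, 69164) .leaf) (176660, 0, 15, 34636)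 (.node .leaf (176661, 0, 18, 159992) .leaf))) (176666, 0, 14, 248786) (.node (.node (.node .leaf (176667, 0, 16, 199947) .leaf) (176668, 0, 14, 49994) (.node .leaf (176669, 0, 14, 170596) .leaf)) (176672, 0, 17, 118223) (.node (.node .leaf (176673, 0, 16, 77225) .leaf) (176678, 0, 14, 42185) (.node .leaf (176679, 0, 16, 168822) .leaf))))))

/-- part of the orbit tree -/
def itp5_198 : Tree := (.node (.node (.node (.node (.node (.node .leaf (176681, 0, 16, 198705) .leaf) (176686, 0, 17, 8388) (.node .leaf (176687, 0, 18, 155959) .leaf)) (176688, 0, 17, 207809) (.node (.node .leaf (176689, 0, 17, 94959) .leaf) (176694, 0, 18, 179374) (.node .leaf (176695, 0, 12, 146682) .leaf))) (176696, 0, 17, 246109) (.node (.node (.node .leaf (176697, 0, 16, 104563) .leaf) (176702, 0, 17, 63748) (.node .leaf (176703, 0, 18, 3868) .leaf)) (176706, 0, 17, 233669) (.node (.node .leaf (176707, 0, 15, 7423) .leaf) (176708, 0, 17, 133034) (.node .leaf (176709, 0, 16, 95737) .leaf)))) (176714, 0, 15, 186625) (.node (.node (.node (.node .leaf (176715,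 0, 16, 145767) .leaf) (176716, 0, 17, 241671) (.node .leaf (176717, 0, 16, 46104) .leaf)) (176722, 0, 16, 165068) (.node (.node .leaf (176723, 0, 13, 156842) .leaf) (176724, 0, 15, 29020) (.node .leaf (176725, 0, 16, 200108) .leaf))) (176730, 0, 16, 68783) (.node (.node (.node .leaf (176731, 0, 16, 16690) .leaf) (176732, 0, 9, 39872) (.node .leaf (176733, 0, 17, 75828) .leaf)) (176736, 0, 16, 67005) (.node (.node .leaf (176737, 0, 14, 149295) .leaf) (176742, 0, 17, 249423) (.node .leaf (176743, 0, 15, 183292) .leaf))))) (176744, 0, 18, 33489) (.node (.node (.node (.node (.node .leaf (176745, 0, 16, 25271) .leaf) (176750, 0, 14, 125911) (.node .leaf (176751, 0, 18, 139616) .leaf)) (176752, 0, 12, 57116) (.node (.node .leaf (176753, 0, 16, 76389) .leaf) (176758, 0, 14, 112154) (.node .leaf (176759, 0, 16, 48394) .leaf))) (176760, 0, 15, 235991) (.node (.node (.node .leaf (176761, 0, 15, 137954) .leaf) (176766, 0, 17, 234370) (.node .leaf (176767, 0, 10, 22422) .leaf)) (176768, 0, 17, 20784) (.node (.node .leaf (176769, 0, 15,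 45398) .leaf) (176774, 0, 17, 79926) (.node .leaf (176775, 0, 16, 24085) .leaf)))) (176776, 0, 13, 160936) (.node (.node (.node (.node .leaf (176777, 0, 17, 74726) .leaf) (176782, 0, 16, 191911) (.node .leaf (176783, 0, 18, 261576) .leaf)) (176784, 0, 17, 141669) (.node (.node .leaf (176785, 0, 14, 182531) .leaf) (176790, 0, 16, 213091) (.node .leaf (176791, 0, 18, 237573) .leaf))) (176792, 0, 16, 3325) (.node (.node (.node .leaf (176793, 0, 15, 60571) .leaf) (176798, 0, 17, 91643) (.node .leaf (176799, 0, 16, 180863) .leaf)) (176802, 0, 15, 133856) (.node (.node .leaf (176803, 0, 14, 191110) .leaf) (176804, 0, 17, 222182) .leaf)))))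

/-- part of the orbit tree -/
def itp5_199 : Tree := (.node itp5_195 (176425, 0, 18, 34357) itp5_196)

/-- part of the orbit tree -/
def itp5_200 : Tree := (.node itp5_197 (176680, 0, 14, 256087) itp5_198)

/-- part of the orbit tree -/
def itp5_201 : Tree := (.node itp5_193 (176036, 0, 14, 192286) itp5_194)

/-- part of the orbit tree -/
def itp5_202 : Tree := (.node itp5_199 (176552, 0, 18, 192857) itp5_200)

/-- part of the orbit tree -/
def itp5_203 : Tree := (.node (.node (.node (.node (.node (.node .leaf (176810, 0, 15, 12152) .leaf) (176811, 0, 18, 53022) (.node .leaf (176812, 0, 17, 30943) .leaf)) (176813, 0, 16, 139761) (.node (.node .leaf (176818, 0, 13, 29365) .leaf) (176819, 0, 18, 37587) (.node .leaf (176820, 0, 17, 189621) .leaf))) (176821, 0, 15, 130005) (.node (.node (.node .leaf (176826, 0, 17, 235846) .leaf) (176827, 0, 15, 177995) (.node .leaf (176828, 0, 13, 212523) .leaf)) (176829, 0, 17, 22279) (.node (.node .leaf (176832, 0, 18, 248030) .leaf) (176833, 0, 14, 102896) (.node .leaf (176838, 0, 17, 152240)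 .leaf)))) (176839, 0, 17, 176854) (.node (.node (.node (.node .leaf (176840, 0, 15, 205378) .leaf) (176841, 0, 16, 130632) (.node .leaf (176846, 0, 17, 177453) .leaf)) (176847, 0, 15, 38734) (.node (.node .leaf (176848, 0, 15, 82915) .leaf) (176849, 0, 17, 107397) (.node .leaf (176854, 0, 16, 10567) .leaf))) (176855, 0, 16, 159849) (.node (.node (.node .leaf (176856, 0, 12, 87220) .leaf) (176857, 0, 15, 230941) (.node .leaf (176862, 0, 17, 135037) .leaf)) (176863, 0, 15, 170741) (.node (.node .leaf (176866, 0, 15, 89510) .leaf) (176867, 0, 17, 197768) (.node .leaf (176868, 0, 17, 51913) .leaf))))) (176869, 0, 15, 168935) (.node (.node (.node (.node (.node .leaf (176874, 0, 15, 214526) .leaf) (176875, 0, 9, 239000) (.node .leaf (176876, 0, 16, 142584) .leaf)) (176877, 0, 15, 162171) (.node (.node .leaf (176882, 0, 16, 202803) .leaf) (176883, 0, 14, 260181) (.node .leaf (176884, 0, 16, 160053) .leaf))) (176885, 0, 10, 58641) (.node (.node (.node .leaf (176890, 0, 17, 81323) .leaf) (176891, 0, 15, 104674) (.node .leaf (176892,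 0, 17, 153251) .leaf)) (176893, 0, 15, 3981) (.node (.node .leaf (176898, 0, 16, 208812) .leaf) (176899, 0, 17, 95874) (.node .leaf (176900, 0, 11, 89453) .leaf)))) (176901, 0, 15, 113931) (.node (.node (.node (.node .leaf (176906, 0, 17, 135667) .leaf) (176907, 0, 14, 192917) (.node .leaf (176908, 0, 15, 227573) .leaf)) (176909, 0, 14, 2929) (.node (.node .leaf (176914, 0, 17, 150590) .leaf) (176915, 0, 16, 196724) (.node .leaf (176916, 0, 16, 52789) .leaf))) (176917, 0, 16, 169755) (.node (.node (.node .leaf (176922, 0, 15, 111558) .leaf) (176923, 0, 16, 35264) (.node .leaf (176924, 0, 16, 9385) .leaf)) (176925, 0, 17, 163207) (.node (.node .leaf (176928, 0, 17, 159675) .leaf) (176929, 0, 16, 167901) (.node .leaf (176934, 0, 17, 11707) .leaf))))))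

/-- part of the orbit tree -/
def itp5_204 : Tree := (.node (.node (.node (.node (.node (.node .leaf (176936, 0, 15, 18979) .leaf) (176937, 0, 17, 43589) (.node .leaf (176942, 0, 14, 50983) .leaf)) (176943, 0, 14, 171529) (.node (.node .leaf (176944, 0, 14, 6126) .leaf) (176945, 0, 17, 103692) (.node .leaf (176950, 0, 15, 154445) .leaf))) (176951, 0, 16, 106126) (.node (.node (.node .leaf (176952, 0, 13, 143990) .leaf) (176953, 0, 15, 184848) (.node .leaf (176958, 0, 17, 220016) .leaf)) (176959, 0, 15, 59647) (.node (.node .leaf (176962, 0, 14, 227110) .leaf) (176963, 0, 17, 77320) (.node .leaf (176964, 0, 14, 145387) .leaf)))) (176965, 0, 9, 47463) (.node (.node (.node (.node .leaf (176970, 0, 15, 236986) .leaf) (176971, 0, 17, 105235) (.node .leaf (176972, 0, 19, 4723) .leaf)) (176973, 0, 15, 61973) (.node (.node .leaf (176978, 0, 16, 66000) .leaf) (176979, 0, 14, 116446) (.node .leaf (176980, 0, 17, 20414) .leaf))) (176981, 0, 17, 184209) (.node (.node (.node .leaf (176986, 0, 16, 125772) .leaf) (176987, 0, 19, 242274)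 (.node .leaf (176988, 0, 16, 158246) .leaf)) (176989, 0, 12, 166464) (.node (.node .leaf (176992, 0, 16, 123486) .leaf) (176993, 0, 16, 124251) (.node .leaf (176998, 0, 17, 27707) .leaf))))) (176999, 0, 13, 35933) (.node (.node (.node (.node (.node .leaf (177000, 0, 16, 204965) .leaf) (177001, 0, 15, 217580) (.node .leaf (177006, 0, 14, 40877) .leaf)) (177007, 0, 18, 174533) (.node (.node .leaf (177008, 0, 16, 228712) .leaf) (177009, 0, 16, 118150) (.node .leaf (177014, 0, 16, 136302) .leaf))) (177015, 0, 13, 23273) (.node (.node (.node .leaf (177016, 0, 17, 228916) .leaf) (177017, 0, 16, 75546) (.node .leaf (177022, 0, 16, 190811) .leaf)) (177023, 0, 15, 53648) (.node (.node .leaf (177024, 0, 17, 258884) .leaf) (177025, 0, 15, 77465) (.node .leaf (177030, 0, 16, 188632) .leaf)))) (177031, 0, 14, 162340) (.node (.node (.node (.node .leaf (177032, 0, 15, 120540) .leaf) (177033, 0, 16, 115717) (.node .leaf (177038, 0, 13, 133700) .leaf)) (177039, 0, 16, 21354) (.node (.node .leaf (177040, 0, 16, 101137) .leaf) (177041, 0, 16,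 93047) (.node .leaf (177046, 0, 16, 57879) .leaf))) (177047, 0, 14, 184064) (.node (.node (.node .leaf (177048, 0, 17, 241289) .leaf) (177049, 0, 18, 242419) (.node .leaf (177054, 0, 14, 182159) .leaf)) (177055, 0, 12, 141289) (.node (.node .leaf (177058, 0, 16, 123599) .leaf) (177059, 0, 18, 84210) (.node .leaf (177060, 0, 15, 30112) .leaf))))))

/-- part of the orbit tree -/
def itp5_205 : Tree := (.node (.node (.node (.node (.node (.node .leaf (177066, 0, 18, 67667) .leaf) (177067, 0, 15, 217469) (.node .leaf (177068, 0, 10, 40764) .leaf)) (177069, 0, 17, 181778) (.node (.node .leaf (177074, 0, 15, 234553) .leaf) (177075, 0, 18, 118039) (.node .leaf (177076, 0, 12, 131926) .leaf))) (177077, 0, 16, 23160) (.node (.node (.node .leaf (177082, 0, 16, 229029) .leaf) (177083, 0, 15, 70975) (.node .leaf (177084, 0, 8, 190922) .leaf)) (177085, 0, 11, 45284) (.node (.node .leaf (177088, 0, 17, 39362) .leaf) (177089, 0, 16, 95763) (.node .leaf (177094, 0, 18, 127172) .leaf)))) (177095, 0, 17, 57724) (.node (.node (.node (.node .leaf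 (177096, 0, 17, 247201) .leaf) (177097, 0, 15, 105615) (.node .leaf (177102, 0, 17, 251228) .leaf)) (177103, 0, 18, 3040) (.node (.node .leaf (177104, 0, 16, 88523) .leaf) (177105, 0, 15, 196837) (.node .leaf (177110, 0, 15, 52900) .leaf))) (177111, 0, 11, 223479) (.node (.node (.node .leaf (177112, 0, 13, 50191) .leaf) (177113, 0, 17, 9321) (.node .leaf (177118, 0, 17, 109833) .leaf)) (177119, 0, 16, 85359) (.node (.node .leaf (177122, 0, 17, 180754) .leaf) (177123, 0, 16, 139892) (.node .leaf (177124, 0, 16, 240404) .leaf))))) (177125, 0, 18, 160772) (.node (.node (.node (.node (.node .leaf (177130, 0, 15, 59274) .leaf) (177131, 0, 13, 2028) (.node .leaf (177132, 0, 16, 102028) .leaf)) (177133, 0, 16, 93930) (.node (.node .leaf (177138, 0, 14, 47687) .leaf) (177139, 0, 16, 103837) (.node .leaf (177140, 0, 12, 119617) .leaf))) (177141, 0, 13, 754) (.node (.node (.node .leaf (177146, 0, 17, 171999) .leaf) (177147, 0, 16, 163769) (.node .leaf (177148, 0, 16, 259801) .leaf)) (177149, 0, 17, 59502) (.node (.node .leaf (177153,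 0, 18, 200836) .leaf) (177155, 0, 15, 147617) (.node .leaf (177156, 0, 15, 88056) .leaf)))) (177158, 0, 16, 180106) (.node (.node (.node (.node .leaf (177161, 0, 17, 79132) .leaf) (177163, 0, 16, 25913) (.node .leaf (177164, 0, 14, 126041) .leaf)) (177166, 0, 18, 152854) (.node (.node .leaf (177169, 0, 14, 92369) .leaf) (177171, 0, 16, 61263) (.node .leaf (177172, 0, 14, 205070) .leaf))) (177174, 0, 15, 51580) (.node (.node (.node .leaf (177177, 0, 15, 257441) .leaf) (177179, 0, 17, 138604) (.node .leaf (177180, 0, 14, 234508) .leaf)) (177182, 0, 14, 181289) (.node (.node .leaf (177184, 0, 16, 64279) .leaf) (177186, 0, 17, 114077) (.node .leaf (177189, 0, 16, 8786) .leaf))))))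

/-- part of the orbit tree -/
def itp5_206 : Tree := (.node (.node (.node (.node (.node (.node .leaf (177192, 0, 17, 180083) .leaf) (177194, 0, 17, 87809) (.node .leaf (177197, 0, 10, 133066) .leaf)) (177199, 0, 16, 219119) (.node (.node .leaf (177200, 0, 17, 164674) .leaf) (177202, 0, 15, 250727) (.node .leaf (177205, 0, 16, 154119) .leaf))) (177207, 0, 15, 199202) (.node (.node (.node .leaf (177208, 0, 14, 51589) .leaf) (177210, 0, 18, 128767) (.node .leaf (177213, 0, 9, 61366) .leaf)) (177215, 0, 15, 77754) (.node (.node .leaf (177217, 0, 17, 31234) .leaf) (177219, 0, 15, 180531) (.node .leaf (177220, 0, 17, 69490) .leaf)))) (177222, 0, 14, 127842) (.node (.node (.node (.node .leaf (177225, 0, 17, 115677) .leaf) (177227, 0, 16, 142255) (.node .leaf (177228, 0, 16, 124398) .leaf)) (177230, 0, 18, 251642) (.node (.node .leaf (177233, 0, 15, 131671) .leaf) (177235, 0, 14, 217714) (.node .leaf (177236, 0, 15, 227716) .leaf))) (177238, 0, 16, 37366) (.node (.node (.node .leaf (177241, 0, 16, 10191) .leaf) (177243, 0, 18, 23897)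 (.node .leaf (177244, 0, 19, 65162) .leaf)) (177246, 0, 16, 110255) (.node (.node .leaf (177248, 0, 15, 233873) .leaf) (177250, 0, 15, 124183) (.node .leaf (177253, 0, 18, 215252) .leaf))))) (177255, 0, 16, 115492) (.node (.node (.node (.node (.node .leaf (177256, 0, 17, 111625) .leaf) (177258, 0, 17, 58412) (.node .leaf (177261, 0, 19, 93516) .leaf)) (177263, 0, 19, 15721) (.node (.node .leaf (177264, 0, 15, 31635) .leaf) (177266, 0, 17, 234465) (.node .leaf (177269, 0, 17, 77953) .leaf))) (177271, 0, 12, 243154) (.node (.node (.node .leaf (177272, 0, 19, 37135) .leaf) (177274, 0, 18, 171129) (.node .leaf (177277, 0, 17, 46908) .leaf)) (177279, 0, 16, 148796) (.node (.node .leaf (177280, 0, 17, 92136) .leaf) (177282, 0, 16, 225534) (.node .leaf (177285, 0, 17, 48831) .leaf)))) (177287, 0, 15, 218829) (.node (.node (.node (.node .leaf (177288, 0, 18, 29200) .leaf) (177290, 0, 11, 135765) (.node .leaf (177293, 0, 14, 21539) .leaf)) (177295, 0, 14, 244817) (.node (.node .leaf (177296, 0, 18, 192122) .leaf) (177298, 0, 18, 67080)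 (.node .leaf (177301, 0, 16, 182345) .leaf))) (177303, 0, 15, 73787) (.node (.node (.node .leaf (177304, 0, 17, 80421) .leaf) (177306, 0, 15, 126100) (.node .leaf (177309, 0, 13, 139989) .leaf)) (177311, 0, 15, 45893) (.node (.node .leaf (177313, 0, 18, 167035) .leaf) (177315, 0, 17, 21722) (.node .leaf (177316, 0, 16, 152894) .leaf))))))

/-- part of the orbit tree -/
def itp5_207 : Tree := (.node itp5_203 (176935, 0, 16, 160917) itp5_204)

/-- part of the orbit tree -/
def itp5_208 : Tree := (.node itp5_205 (177191, 0, 16, 105390) itp5_206)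

/-- part of the orbit tree -/
def itp5_209 : Tree := (.node (.node (.node (.node (.node (.node .leaf (177321, 0, 17, 43491) .leaf) (177323, 0, 16, 129478) (.node .leaf (177324, 0, 16, 28838) .leaf)) (177326, 0, 17, 73859) (.node (.node .leaf (177329, 0, 18, 117342) .leaf) (177331, 0, 18, 139820) (.node .leaf (177332, 0, 15, 126061) .leaf))) (177334, 0, 14, 132127) (.node (.node (.node .leaf (177337, 0, 15, 73922) .leaf) (177339, 0, 16, 182448) (.node .leaf (177340, 0, 11, 133363) .leaf)) (177342, 0, 15, 219350) (.node (.node .leaf (177344, 0, 15, 49158) .leaf) (177346, 0, 16, 206964) (.node .leaf (177349, 0, 13, 185387) .leaf)))) (177351, 0, 18, 230414) (.node (.node (.node (.node .leaf (177352, 0, 18, 10906) .leaf) (177354, 0, 17, 96467) (.node .leaf (177357, 0, 17, 61875) .leaf)) (177359, 0, 14, 106902) (.node (.node .leaf (177360, 0, 17, 30011) .leaf) (177362, 0, 16, 75038) (.node .leaf (177365, 0, 16, 168131) .leaf))) (177367, 0, 12, 96433) (.node (.node (.node .leaf (177368, 0, 15, 151715) .leaf) (177370, 0, 15, 111646)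 (.node .leaf (177373, 0, 16, 162399) .leaf)) (177375, 0, 17, 252355) (.node (.node .leaf (177377, 0, 17, 255010) .leaf) (177379, 0, 17, 46808) (.node .leaf (177380, 0, 3, 81848) .leaf))))) (177382, 0, 18, 28573) (.node (.node (.node (.node (.node .leaf (177385, 0, 17, 246629) .leaf) (177387, 0, 17, 168768) (.node .leaf (177388, 0, 16, 206989) .leaf)) (177390, 0, 9, 49407) (.node (.node .leaf (177393, 0, 12, 237224) .leaf) (177395, 0, 17, 162470) (.node .leaf (177396, 0, 18, 111847) .leaf))) (177398, 0, 16, 137160) (.node (.node (.node .leaf (177401, 0, 16, 96328) .leaf) (177403, 0, 14, 167994) (.node .leaf (177404, 0, 17, 90741) .leaf)) (177406, 0, 15, 177673) (.node (.node .leaf (177409, 0, 16, 45808) .leaf) (177411, 0, 17, 123605) (.node .leaf (177412, 0, 14, 110619) .leaf)))) (177414, 0, 16, 80784) (.node (.node (.node (.node .leaf (177417, 0, 12, 97460) .leaf) (177419, 0, 13, 169158) (.node .leaf (177420, 0, 15, 88711) .leaf)) (177422, 0, 11, 176885) (.node (.node .leaf (177425, 0, 14, 182949) .leaf) (177427, 0, 18, 236160)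 (.node .leaf (177428, 0, 17, 247533) .leaf))) (177430, 0, 15, 11935) (.node (.node (.node .leaf (177433, 0, 17, 199234) .leaf) (177435, 0, 17, 114456) (.node .leaf (177436, 0, 16, 13944) .leaf)) (177438, 0, 18, 91741) (.node (.node .leaf (177440, 0, 16, 219491) .leaf) (177442, 0, 17, 133446) (.node .leaf (177445, 0, 13, 169023) .leaf))))))

/-- part of the orbit tree -/
def itp5_210 : Tree := (.node (.node (.node (.node (.node (.node .leaf (177448, 0, 16, 97531) .leaf) (177450, 0, 17, 11486) (.node .leaf (177453, 0, 16, 163491) .leaf)) (177455, 0, 18, 104145) (.node (.node .leaf (177456, 0, 19, 50426) .leaf) (177458, 0, 14, 208008) (.node .leaf (177461, 0, 18, 58057) .leaf))) (177463, 0, 16, 199355) (.node (.node (.node .leaf (177464, 0, 17, 197806) .leaf) (177466, 0, 15, 247316) (.node .leaf (177469, 0, 18, 2133) .leaf)) (177471, 0, 14, 167374) (.node (.node .leaf (177473, 0, 14, 252022) .leaf) (177475, 0, 16, 141008) (.node .leaf (177476, 0, 18, 125073) .leaf)))) (177478, 0, 16, 151830) (.node (.node (.node (.node .leaf (177481,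 0, 16, 130542) .leaf) (177483, 0, 16, 183372) (.node .leaf (177484, 0, 15, 66061) .leaf)) (177486, 0, 17, 29838) (.node (.node .leaf (177489, 0, 15, 243796) .leaf) (177491, 0, 9, 61446) (.node .leaf (177492, 0, 17, 96614) .leaf))) (177494, 0, 16, 10563) (.node (.node (.node .leaf (177497, 0, 17, 217800) .leaf) (177499, 0, 14, 185758) (.node .leaf (177500, 0, 15, 226555) .leaf)) (177502, 0, 17, 134363) (.node (.node .leaf (177504, 0, 14, 191110) .leaf) (177506, 0, 18, 66292) (.node .leaf (177509, 0, 16, 183477) .leaf))))) (177511, 0, 16, 74951) (.node (.node (.node (.node (.node .leaf (177512, 0, 12, 131098) .leaf) (177514, 0, 13, 214616) (.node .leaf (177517, 0, 9, 140841) .leaf)) (177519, 0, 16, 118363) (.node (.node .leaf (177520, 0, 17, 40048) .leaf) (177522, 0, 16, 203669) (.node .leaf (177525, 0, 17, 47683) .leaf))) (177527, 0, 13, 246480) (.node (.node (.node .leaf (177528, 0, 14, 30444) .leaf) (177530, 0, 17, 81421) (.node .leaf (177533, 0, 2, 20703) .leaf)) (177535, 0, 16, 243885) (.node (.node .leaf (177536, 0, 13,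 32623) .leaf) (177538, 0, 14, 235293) (.node .leaf (177541, 0, 17, 138457) .leaf)))) (177543, 0, 15, 241966) (.node (.node (.node (.node .leaf (177544, 0, 19, 57348) .leaf) (177546, 0, 17, 228737) (.node .leaf (177549, 0, 18, 46016) .leaf)) (177551, 0, 17, 220082) (.node (.node .leaf (177552, 0, 13, 48585) .leaf) (177554, 0, 15, 123371) (.node .leaf (177557, 0, 16, 25740) .leaf))) (177559, 0, 17, 79017) (.node (.node (.node .leaf (177560, 0, 17, 189189) .leaf) (177562, 0, 16, 247924) (.node .leaf (177565, 0, 14, 181558) .leaf)) (177567, 0, 17, 201009) (.node (.node .leaf (177569, 0, 16, 219979) .leaf) (177571, 0, 18, 45881) (.node .leaf (177572, 0, 17, 128842) .leaf))))))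

/-- part of the orbit tree -/
def itp5_211 : Tree := (.node (.node (.node (.node (.node (.node .leaf (177577, 0, 16, 199575) .leaf) (177579, 0, 17, 22949) (.node .leaf (177580, 0, 14, 235492) .leaf)) (177582, 0, 11, 32662) (.node (.node .leaf (177585, 0, 12, 77245) .leaf) (177587, 0, 16, 132735) (.node .leaf (177588, 0, 14, 68494) .leaf))) (177590, 0, 18, 189436) (.node (.node (.node .leaf (177593, 0, 15, 116513) .leaf) (177595, 0, 13, 9191) (.node .leaf (177596, 0, 17, 123154) .leaf)) (177598, 0, 15, 64162) (.node (.node .leaf (177600, 0, 17, 10213) .leaf) (177602, 0, 17, 249751) (.node .leaf (177605, 0, 16, 470) .leaf)))) (177607, 0, 18, 256420) (.node (.node (.node (.node .leaf (177608, 0, 17, 232066) .leaf) (177610, 0, 16, 187047) (.node .leaf (177613, 0, 16, 60234) .leaf)) (177615, 0, 16, 132066) (.node (.node .leaf (177616, 0, 17, 251727) .leaf) (177618, 0, 15, 165738) (.node .leaf (177621, 0, 17, 161568) .leaf))) (177623, 0, 14, 106322) (.node (.node (.node .leaf (177624, 0, 16, 127703) .leaf) (177626, 0, 14, 87037)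 (.node .leaf (177629, 0, 17, 76690) .leaf)) (177631, 0, 12, 31671) (.node (.node .leaf (177633, 0, 14, 148617) .leaf) (177635, 0, 12, 60339) (.node .leaf (177636, 0, 17, 171468) .leaf))))) (177638, 0, 16, 249321) (.node (.node (.node (.node (.node .leaf (177641, 0, 13, 24849) .leaf) (177643, 0, 17, 303) (.node .leaf (177644, 0, 14, 47188) .leaf)) (177646, 0, 17, 10012) (.node (.node .leaf (177649, 0, 11, 95543) .leaf) (177651, 0, 16, 171333) (.node .leaf (177652, 0, 15, 58777) .leaf))) (177654, 0, 14, 179062) (.node (.node (.node .leaf (177657, 0, 15, 106411) .leaf) (177659, 0, 15, 161753) (.node .leaf (177660, 0, 12, 180225) .leaf)) (177662, 0, 15, 233508) (.node (.node .leaf (177664, 0, 17, 208329) .leaf) (177665, 0, 16, 95463) (.node .leaf (177666, 0, 17, 167095) .leaf)))) (177667, 0, 15, 171157) (.node (.node (.node (.node .leaf (177672, 0, 16, 247637) .leaf) (177673, 0, 14, 106107) (.node .leaf (177674, 0, 17, 12071) .leaf)) (177675, 0, 11, 161289) (.node (.node .leaf (177680, 0, 15, 88895) .leaf) (177681, 0, 11, 197137)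 (.node .leaf (177682, 0, 16, 176973) .leaf))) (177683, 0, 16, 60003) (.node (.node (.node .leaf (177688, 0, 16, 229727) .leaf) (177689, 0, 16, 256141) (.node .leaf (177690, 0, 18, 184698) .leaf)) (177691, 0, 18, 255) (.node (.node .leaf (177700, 0, 16, 12254) .leaf) (177701, 0, 15, 161520) (.node .leaf (177702, 0, 16, 247724) .leaf))))))

/-- part of the orbit tree -/
def itp5_212 : Tree := (.node (.node (.node (.node (.node (.node .leaf (177708, 0, 14, 50498) .leaf) (177709, 0, 15, 171116) (.node .leaf (177710, 0, 19, 236537) .leaf)) (177711, 0, 17, 95262) (.node (.node .leaf (177716, 0, 18, 169489) .leaf) (177717, 0, 16, 161399) (.node .leaf (177718, 0, 18, 247348) .leaf))) (177719, 0, 17, 256116) (.node (.node (.node .leaf (177724, 0, 13, 177076) .leaf) (177725, 0, 16, 21487) (.node .leaf (177726, 0, 16, 89030) .leaf)) (177727, 0, 16, 66506) (.node (.node .leaf (177728, 0, 14, 46612) .leaf) (177729, 0, 12, 76909) (.node .leaf (177730, 0, 15, 124465) .leaf)))) (177731, 0, 16, 67159) (.node (.node (.node (.node .leaf (177736,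 0, 14, 237535) .leaf) (177737, 0, 17, 160746) (.node .leaf (177738, 0, 15, 246697) .leaf)) (177739, 0, 17, 205775) (.node (.node .leaf (177744, 0, 13, 66485) .leaf) (177745, 0, 11, 142887) (.node .leaf (177746, 0, 18, 191431) .leaf))) (177747, 0, 16, 228866) (.node (.node (.node .leaf (177752, 0, 13, 60377) .leaf) (177753, 0, 15, 3007) (.node .leaf (177754, 0, 18, 113660) .leaf)) (177755, 0, 17, 88986) (.node (.node .leaf (177764, 0, 16, 30548) .leaf) (177765, 0, 13, 142970) (.node .leaf (177766, 0, 10, 185575) .leaf))))) (177767, 0, 17, 144513) (.node (.node (.node (.node (.node .leaf (177772, 0, 17, 40392) .leaf) (177773, 0, 16, 181478) (.node .leaf (177774, 0, 18, 61823) .leaf)) (177775, 0, 17, 4377) (.node (.node .leaf (177780, 0, 17, 131490) .leaf) (177781, 0, 15, 72945) (.node .leaf (177782, 0, 16, 125392) .leaf))) (177783, 0, 17, 241918) (.node (.node (.node .leaf (177788, 0, 16, 252175) .leaf) (177789, 0, 18, 211305) (.node .leaf (177790, 0, 16, 66380) .leaf)) (177791, 0, 15, 158028) (.node (.node .leaf (177796, 0,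 16, 94907) .leaf) (177797, 0, 18, 48019) (.node .leaf (177798, 0, 15, 8862) .leaf)))) (177799, 0, 16, 49912) (.node (.node (.node (.node .leaf (177804, 0, 16, 218915) .leaf) (177805, 0, 16, 20751) (.node .leaf (177806, 0, 13, 122963) .leaf)) (177807, 0, 17, 190304) (.node (.node .leaf (177812, 0, 17, 199406) .leaf) (177813, 0, 15, 256648) (.node .leaf (177814, 0, 17, 154315) .leaf))) (177815, 0, 17, 178861) (.node (.node (.node .leaf (177820, 0, 14, 32471) .leaf) (177821, 0, 16, 141305) (.node .leaf (177822, 0, 16, 32595) .leaf)) (177823, 0, 17, 40757) (.node (.node .leaf (177824, 0, 15, 147565) .leaf) (177825, 0, 17, 244100) .leaf)))))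

/-- part of the orbit tree -/
def itp5_213 : Tree := (.node itp5_209 (177447, 0, 16, 97357) itp5_210)

/-- part of the orbit tree -/
def itp5_214 : Tree := (.node itp5_211 (177703, 0, 16, 106114) itp5_212)

/-- part of the orbit tree -/
def itp5_215 : Tree := (.node itp5_207 (177061, 0, 16, 8692) itp5_208)

/-- part of the orbit tree -/
def itp5_216 : Tree := (.node itp5_213 (177574, 0, 19, 42863) itp5_214)

/-- part of the orbit tree -/
def itp5_217 : Tree := (.node itp5_201 (176296, 0, 15, 131822) itp5_202)

/-- part of the orbit tree -/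
def itp5_218 : Tree := (.node itp5_215 (177318, 0, 17, 29417) itp5_216)

/-- part of the orbit tree -/
def itp5_219 : Tree := (.node (.node (.node (.node (.node (.node .leaf (177827, 0, 13, 20982) .leaf) (177832, 0, 17, 26101) (.node .leaf (177833, 0, 17, 217880) .leaf)) (177834, 0, 16, 79312) (.node (.node .leaf (177835, 0, 16, 47978) .leaf) (177840, 0, 16, 235100) (.node .leaf (177841, 0, 15, 55390) .leaf))) (177842, 0, 17, 92189) (.node (.node (.node .leaf (177843, 0, 15, 141056) .leaf) (177848, 0, 12, 228544) (.node .leaf (177849, 0, 16, 75246) .leaf)) (177850, 0, 15, 38066) (.node (.node .leaf (177851, 0, 11, 183708) .leaf) (177860, 0, 17, 178743) (.node .leaf (177861, 0, 16, 194651) .leaf)))) (177862, 0, 15, 86597) (.node (.node (.node (.node .leaf (177863, 0, 14, 239742) .leaf) (177868, 0, 12, 151723) (.node .leaf (177869, 0, 18, 56771) .leaf)) (177870, 0, 14, 112857) (.node (.node .leaf (177871, 0, 18, 254455) .leaf) (177876, 0, 18, 24680) (.node .leaf (177877, 0, 15, 169455) .leaf))) (177878, 0, 16, 77901) (.node (.node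 (.node .leaf (177879, 0, 17, 97693) .leaf) (177884, 0, 10, 148976) (.node .leaf (177885, 0, 17, 163699) .leaf)) (177886, 0, 16, 249391) (.node (.node .leaf (177887, 0, 19, 104193) .leaf) (177888, 0, 11, 112672) (.node .leaf (177889, 0, 14, 254222) .leaf))))) (177890, 0, 17, 31438) (.node (.node (.node (.node (.node .leaf (177891, 0, 16, 2428) .leaf) (177896, 0, 11, 86716) (.node .leaf (177897, 0, 18, 199570) .leaf)) (177898, 0, 15, 155478) (.node (.node .leaf (177899, 0, 16, 180016) .leaf) (177904, 0, 18, 249558) (.node .leaf (177905, 0, 16, 242392) .leaf))) (177906, 0, 11, 131739) (.node (.node (.node .leaf (177907, 0, 18, 189181) .leaf) (177912, 0, 17, 205898) (.node .leaf (177913, 0, 14, 97636) .leaf)) (177914, 0, 13, 52280) (.node (.node .leaf (177915, 0, 15, 51045) .leaf) (177920, 0, 17, 32486) (.node .leaf (177921, 0, 17, 40576) .leaf)))) (177922, 0, 16, 8792) (.node (.node (.node (.node .leaf (177923, 0, 16, 118437) .leaf) (177928, 0, 16, 204982) (.node .leaf (177929, 0, 19, 96664) .leaf)) (177930, 0, 11, 51396) (.node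 (.node .leaf (177931, 0, 14, 168426) .leaf) (177936, 0, 15, 113884) (.node .leaf (177937, 0, 18, 190165) .leaf))) (177938, 0, 13, 218774) (.node (.node (.node .leaf (177939, 0, 17, 243440) .leaf) (177944, 0, 17, 9003) (.node .leaf (177945, 0, 17, 200558) .leaf)) (177946, 0, 18, 94990) (.node (.node .leaf (177947, 0, 15, 59164) .leaf) (177956, 0, 16, 51261) (.node .leaf (177957, 0, 12, 168211) .leaf))))))

/-- part of the orbit tree -/
def itp5_220 : Tree := (.node (.node (.node (.node (.node (.node .leaf (177959, 0, 15, 96609) .leaf) (177964, 0, 16, 92584) (.node .leaf (177965, 0, 16, 162703) .leaf)) (177966, 0, 18, 14733) (.node (.node .leaf (177967, 0, 15, 103421) .leaf) (177972, 0, 18, 179915) (.node .leaf (177973, 0, 17, 59365) .leaf))) (177974, 0, 15, 25664) (.node (.node (.node .leaf (177975, 0, 17, 200599) .leaf) (177980, 0, 15, 152663) (.node .leaf (177981, 0, 14, 258459) .leaf)) (177982, 0, 14, 113701) (.node (.node .leaf (177983, 0, 16, 255243) .leaf) (177984, 0, 17, 201824) (.node .leaf (177985, 0, 11, 259078) .leaf))))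 (177986, 0, 18, 31442) (.node (.node (.node (.node .leaf (177987, 0, 14, 140284) .leaf) (177992, 0, 16, 227388) (.node .leaf (177993, 0, 15, 119198) .leaf)) (177994, 0, 14, 25053) (.node (.node .leaf (177995, 0, 14, 182624) .leaf) (178000, 0, 14, 123990) (.node .leaf (178001, 0, 17, 245112) .leaf))) (178002, 0, 18, 134180) (.node (.node (.node .leaf (178003, 0, 15, 21770) .leaf) (178008, 0, 15, 69322) (.node .leaf (178009, 0, 18, 240075) .leaf)) (178010, 0, 16, 190136) (.node (.node .leaf (178011, 0, 14, 195054) .leaf) (178020, 0, 10, 37047) (.node .leaf (178021, 0, 17, 182681) .leaf))))) (178022, 0, 15, 95891) (.node (.node (.node (.node (.node .leaf (178023, 0, 16, 104181) .leaf) (178028, 0, 13, 31275) (.node .leaf (178029, 0, 16, 140037) .leaf)) (178030, 0, 16, 217867) (.node (.node .leaf (178031, 0, 13, 242541) .leaf) (178036, 0, 17, 190017) (.node .leaf (178037, 0, 16, 49007) .leaf))) (178038, 0, 16, 69171) (.node (.node (.node .leaf (178039, 0, 16, 218909) .leaf) (178044, 0, 16, 31611) (.node .leaf (178045, 0, 15, 39709)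 .leaf)) (178046, 0, 17, 124079) (.node (.node .leaf (178047, 0, 15, 245121) .leaf) (178052, 0, 18, 132446) (.node .leaf (178053, 0, 18, 143529) .leaf)))) (178054, 0, 11, 126252) (.node (.node (.node (.node .leaf (178055, 0, 19, 242690) .leaf) (178060, 0, 17, 192450) (.node .leaf (178061, 0, 17, 5425) .leaf)) (178062, 0, 14, 107890) (.node (.node .leaf (178063, 0, 17, 83220) .leaf) (178068, 0, 15, 29608) (.node .leaf (178069, 0, 17, 141958) .leaf))) (178070, 0, 16, 129215) (.node (.node (.node .leaf (178071, 0, 16, 115444) .leaf) (178076, 0, 16, 167170) (.node .leaf (178077, 0, 16, 180250) .leaf)) (178078, 0, 14, 253223) (.node (.node .leaf (178079, 0, 17, 75880) .leaf) (178080, 0, 16, 123417) (.node .leaf (178081, 0, 15, 66175) .leaf))))))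

/-- part of the orbit tree -/
def itp5_221 : Tree := (.node (.node (.node (.node (.node (.node .leaf (178083, 0, 17, 46613) .leaf) (178088, 0, 14, 126421) (.node .leaf (178089, 0, 18, 206823) .leaf)) (178090, 0, 17, 169892) (.node (.node .leaf (178091, 0, 12, 23689) .leaf) (178096, 0, 15, 236108) (.node .leaf (178097, 0, 17, 75921) .leaf))) (178098, 0, 5, 182889) (.node (.node (.node .leaf (178099, 0, 18, 180451) .leaf) (178104, 0, 16, 236323) (.node .leaf (178105, 0, 11, 90034) .leaf)) (178106, 0, 16, 29521) (.node (.node .leaf (178107, 0, 13, 3991) .leaf) (178116, 0, 17, 155092) (.node .leaf (178117, 0, 17, 88623) .leaf)))) (178118, 0, 15, 112038) (.node (.node (.node (.node .leaf (178119, 0, 18, 2570) .leaf) (178124, 0, 17, 177992) (.node .leaf (178125, 0, 16, 61030) .leaf)) (178126, 0, 17, 184308) (.node (.node .leaf (178127, 0, 17, 143250) .leaf) (178132, 0, 18, 246300) (.node .leaf (178133, 0, 16, 205434) .leaf))) (178134, 0, 16, 246608) (.node (.node (.node .leaf (178135, 0, 17, 160351) .leaf) (178140, 0, 16, 49598)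 (.node .leaf (178141, 0, 18, 67554) .leaf)) (178142, 0, 16, 47009) (.node (.node .leaf (178143, 0, 15, 94434) .leaf) (178144, 0, 15, 90051) (.node .leaf (178145, 0, 17, 157945) .leaf))))) (178146, 0, 18, 178097) (.node (.node (.node (.node (.node .leaf (178147, 0, 16, 61087) .leaf) (178152, 0, 12, 111967) (.node .leaf (178153, 0, 14, 257137) .leaf)) (178154, 0, 17, 154925) (.node (.node .leaf (178155, 0, 17, 73028) .leaf) (178160, 0, 17, 207157) (.node .leaf (178161, 0, 15, 94235) .leaf))) (178162, 0, 18, 49479) (.node (.node (.node .leaf (178163, 0, 16, 82057) .leaf) (178168, 0, 15, 246697) (.node .leaf (178169, 0, 17, 144692) .leaf)) (178170, 0, 16, 230775) (.node (.node .leaf (178171, 0, 15, 160501) .leaf) (178177, 0, 17, 145664) (.node .leaf (178178, 0, 14, 231516) .leaf)))) (178181, 0, 13, 19731) (.node (.node (.node (.node .leaf (178182, 0, 16, 128833) .leaf) (178185, 0, 16, 185244) (.node .leaf (178186, 0, 18, 254443) .leaf)) (178189, 0, 11, 44161) (.node (.node .leaf (178190, 0, 17, 252104) .leaf) (178193, 0, 16, 134245)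 (.node .leaf (178194, 0, 12, 244774) .leaf))) (178197, 0, 16, 143595) (.node (.node (.node .leaf (178198, 0, 17, 230661) .leaf) (178201, 0, 18, 42346) (.node .leaf (178202, 0, 17, 70710) .leaf)) (178205, 0, 10, 186999) (.node (.node .leaf (178206, 0, 17, 224043) .leaf) (178208, 0, 15, 72996) (.node .leaf (178211, 0, 18, 44152) .leaf))))))

/-- part of the orbit tree -/
def itp5_222 : Tree := (.node (.node (.node (.node (.node (.node .leaf (178215, 0, 15, 136899) .leaf) (178216, 0, 15, 128952) (.node .leaf (178219, 0, 17, 2680) .leaf)) (178220, 0, 17, 231589) (.node (.node .leaf (178223, 0, 14, 145913) .leaf) (178224, 0, 13, 124918) (.node .leaf (178227, 0, 18, 22453) .leaf))) (178228, 0, 13, 122581) (.node (.node (.node .leaf (178231, 0, 16, 28310) .leaf) (178232, 0, 16, 229710) (.node .leaf (178235, 0, 16, 143378) .leaf)) (178236, 0, 16, 260941) (.node (.node .leaf (178239, 0, 18, 150286) .leaf) (178241, 0, 15, 156042) (.node .leaf (178242, 0, 18, 250070) .leaf)))) (178245, 0, 15, 206741) (.node (.node (.node (.node .leaf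 (178246, 0, 11, 169942) .leaf) (178249, 0, 18, 80686) (.node .leaf (178250, 0, 15, 211530) .leaf)) (178253, 0, 13, 62475) (.node (.node .leaf (178254, 0, 15, 45646) .leaf) (178257, 0, 17, 6012) (.node .leaf (178258, 0, 17, 108064) .leaf))) (178261, 0, 16, 157793) (.node (.node (.node .leaf (178262, 0, 16, 252221) .leaf) (178265, 0, 11, 64992) (.node .leaf (178266, 0, 16, 193336) .leaf)) (178269, 0, 16, 227928) (.node (.node .leaf (178270, 0, 13, 209825) .leaf) (178272, 0, 18, 83374) (.node .leaf (178275, 0, 16, 83302) .leaf))))) (178276, 0, 17, 52230) (.node (.node (.node (.node (.node .leaf (178279, 0, 15, 97349) .leaf) (178280, 0, 16, 110386) (.node .leaf (178283, 0, 16, 221438) .leaf)) (178284, 0, 17, 249903) (.node (.node .leaf (178287, 0, 12, 219613) .leaf) (178288, 0, 17, 167280) (.node .leaf (178291, 0, 16, 164356) .leaf))) (178292, 0, 15, 177235) (.node (.node (.node .leaf (178295, 0, 17, 197648) .leaf) (178296, 0, 14, 252356) (.node .leaf (178299, 0, 17, 157848) .leaf)) (178300, 0, 16, 37323) (.node (.node .leaf (178303,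 0, 16, 6021) .leaf) (178304, 0, 15, 249927) (.node .leaf (178307, 0, 15, 155931) .leaf)))) (178308, 0, 15, 146047) (.node (.node (.node (.node .leaf (178311, 0, 18, 7686) .leaf) (178312, 0, 15, 9924) (.node .leaf (178315, 0, 14, 104071) .leaf)) (178316, 0, 16, 83398) (.node (.node .leaf (178319, 0, 17, 110500) .leaf) (178320, 0, 16, 31497) (.node .leaf (178323, 0, 16, 6125) .leaf))) (178324, 0, 15, 252332) (.node (.node (.node .leaf (178327, 0, 16, 157936) .leaf) (178328, 0, 16, 85037) (.node .leaf (178331, 0, 18, 257746) .leaf)) (178332, 0, 16, 157618) (.node (.node .leaf (178335, 0, 19, 164460) .leaf) (178337, 0, 17, 125135) (.node .leaf (178338, 0, 17, 22668) .leaf))))))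

/-- part of the orbit tree -/
def itp5_223 : Tree := (.node itp5_219 (177958, 0, 16, 204879) itp5_220)

/-- part of the orbit tree -/
def itp5_224 : Tree := (.node itp5_221 (178212, 0, 16, 221753) itp5_222)

/-- part of the orbit tree -/
def itp5_225 : Tree := (.node (.node (.node (.node (.node (.node .leaf (178342, 0, 14, 211490) .leaf) (178345, 0, 13, 249175) (.node .leaf (178346, 0, 15, 163092) .leaf)) (178349, 0, 14, 156130) (.node (.node .leaf (178350, 0, 17, 250046) .leaf) (178353, 0, 17, 233626) (.node .leaf (178354, 0, 18, 139481) .leaf))) (178357, 0, 12, 64904) (.node (.node (.node .leaf (178358, 0, 16, 85204) .leaf) (178361, 0, 14, 111874) (.node .leaf (178362, 0, 14, 1345) .leaf)) (178365, 0, 16, 101409) (.node (.node .leaf (178366, 0, 18, 108104) .leaf) (178368, 0, 14, 92634) (.node .leaf (178371, 0, 13, 55705) .leaf)))) (178372, 0, 16, 128976) (.node (.node (.node (.node .leaf (178375, 0, 13, 18060) .leaf) (178376, 0, 13, 216130) (.node .leaf (178379, 0, 17, 195585) .leaf)) (178380, 0, 17, 226657) (.node (.node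 .leaf (178383, 0, 17, 181538) .leaf) (178384, 0, 17, 130619) (.node .leaf (178387, 0, 16, 20327) .leaf))) (178388, 0, 13, 229670) (.node (.node (.node .leaf (178391, 0, 16, 143482) .leaf) (178392, 0, 15, 78871) (.node .leaf (178395, 0, 17, 33876) .leaf)) (178396, 0, 16, 224186) (.node (.node .leaf (178399, 0, 17, 187110) .leaf) (178401, 0, 18, 164425) (.node .leaf (178402, 0, 16, 73141) .leaf))))) (178405, 0, 17, 179050) (.node (.node (.node (.node (.node .leaf (178406, 0, 15, 199465) .leaf) (178409, 0, 16, 18037) (.node .leaf (178410, 0, 15, 71570) .leaf)) (178413, 0, 17, 145768) (.node (.node .leaf (178414, 0, 18, 231476) .leaf) (178417, 0, 14, 64028) (.node .leaf (178418, 0, 12, 224067) .leaf))) (178421, 0, 15, 49983) (.node (.node (.node .leaf (178422, 0, 18, 70750) .leaf) (178425, 0, 16, 143491) (.node .leaf (178426, 0, 16, 225223) .leaf)) (178429, 0, 12, 190119) (.node (.node .leaf (178430, 0, 13, 130754) .leaf) (178433, 0, 16, 188131) (.node .leaf (178434, 0, 17, 225215) .leaf)))) (178437, 0, 15, 41470) (.node (.node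 (.node (.node .leaf (178438, 0, 17, 69794) .leaf) (178441, 0, 14, 127964) (.node .leaf (178442, 0, 16, 17311) .leaf)) (178445, 0, 15, 117503) (.node (.node .leaf (178446, 0, 16, 129598) .leaf) (178449, 0, 14, 110097) (.node .leaf (178450, 0, 14, 72009) .leaf))) (178453, 0, 19, 104242) (.node (.node (.node .leaf (178454, 0, 14, 222804) .leaf) (178457, 0, 17, 17033) (.node .leaf (178458, 0, 16, 146378) .leaf)) (178461, 0, 13, 242346) (.node (.node .leaf (178462, 0, 16, 131817) .leaf) (178464, 0, 14, 129735) (.node .leaf (178467, 0, 16, 101780) .leaf))))))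

/-- part of the orbit tree -/
def itp5_226 : Tree := (.node (.node (.node (.node (.node (.node .leaf (178471, 0, 18, 144518) .leaf) (178472, 0, 17, 69723) (.node .leaf (178475, 0, 17, 41223) .leaf)) (178476, 0, 17, 225094) (.node (.node .leaf (178479, 0, 15, 187930) .leaf) (178480, 0, 16, 232497) (.node .leaf (178483, 0, 15, 146797) .leaf))) (178484, 0, 12, 162977) (.node (.node (.node .leaf (178487, 0, 12, 249058) .leaf) (178488, 0, 16, 222893) (.node .leaf (178491, 0, 17, 118873) .leaf)) (178492, 0, 17, 22841) (.node (.node .leaf (178495, 0, 16, 125306) .leaf) (178497, 0, 16, 165481) (.node .leaf (178498, 0, 17, 210741) .leaf)))) (178501, 0, 16, 63860) (.node (.node (.node (.node .leaf (178502, 0, 17, 79266) .leaf) (178505, 0, 15, 170330) (.node .leaf (178506, 0, 18, 207129) .leaf)) (178509, 0, 14, 172153) (.node (.node .leaf (178510, 0, 16, 107188) .leaf) (178513, 0, 17, 181399) (.node .leaf (178514, 0, 17, 82371) .leaf))) (178517, 0, 16, 196020) (.node (.node (.node .leaf (178518, 0, 16, 212702) .leaf) (178521, 0, 15,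 57615) (.node .leaf (178522, 0, 14, 86348) .leaf)) (178525, 0, 17, 55340) (.node (.node .leaf (178526, 0, 15, 250946) .leaf) (178528, 0, 18, 107085) (.node .leaf (178531, 0, 12, 4881) .leaf))))) (178532, 0, 16, 224882) (.node (.node (.node (.node (.node .leaf (178535, 0, 18, 187953) .leaf) (178536, 0, 18, 84177) (.node .leaf (178539, 0, 15, 63885) .leaf)) (178540, 0, 16, 210892) (.node (.node .leaf (178543, 0, 15, 64425) .leaf) (178544, 0, 18, 77572) (.node .leaf (178547, 0, 15, 40775) .leaf))) (178548, 0, 15, 109478) (.node (.node (.node .leaf (178551, 0, 17, 6906) .leaf) (178552, 0, 15, 212519) (.node .leaf (178555, 0, 17, 178911) .leaf)) (178556, 0, 15, 82234) (.node (.node .leaf (178559, 0, 12, 61542) .leaf) (178560, 0, 17, 106792) (.node .leaf (178563, 0, 18, 165624) .leaf)))) (178564, 0, 17, 84153) (.node (.node (.node (.node .leaf (178567, 0, 15, 10312) .leaf) (178568, 0, 17, 230576) (.node .leaf (178571, 0, 15, 158820) .leaf)) (178572, 0, 17, 107045) (.node (.node .leaf (178575, 0, 14, 4985) .leaf) (178576, 0, 17, 252285)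 (.node .leaf (178579, 0, 15, 61454) .leaf))) (178580, 0, 17, 254046) (.node (.node (.node .leaf (178583, 0, 16, 167699) .leaf) (178584, 0, 17, 130277) (.node .leaf (178587, 0, 16, 6802) .leaf)) (178588, 0, 14, 251091) (.node (.node .leaf (178591, 0, 12, 30085) .leaf) (178593, 0, 16, 4992) (.node .leaf (178594, 0, 15, 107228) .leaf))))))

/-- part of the orbit tree -/
def itp5_227 : Tree := (.node (.node (.node (.node (.node (.node .leaf (178598, 0, 16, 246747) .leaf) (178601, 0, 14, 28451) (.node .leaf (178602, 0, 16, 84032) .leaf)) (178605, 0, 16, 22016) (.node (.node .leaf (178606, 0, 12, 124483) .leaf) (178609, 0, 16, 157046) (.node .leaf (178610, 0, 15, 250922) .leaf))) (178613, 0, 19, 3021) (.node (.node (.node .leaf (178614, 0, 17, 113550) .leaf) (178617, 0, 19, 137078) (.node .leaf (178618, 0, 16, 212662) .leaf)) (178621, 0, 15, 142933) (.node (.node .leaf (178622, 0, 12, 237078) .leaf) (178624, 0, 12, 225070) (.node .leaf (178627, 0, 15, 228333) .leaf)))) (178628, 0, 16, 193165) (.node (.node (.node (.node .leaf (178631,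 0, 15, 213710) .leaf) (178632, 0, 16, 230834) (.node .leaf (178635, 0, 15, 144622) .leaf)) (178636, 0, 16, 129711) (.node (.node .leaf (178639, 0, 16, 19443) .leaf) (178640, 0, 15, 72152) (.node .leaf (178643, 0, 17, 66488) .leaf))) (178644, 0, 13, 222917) (.node (.node (.node .leaf (178647, 0, 17, 80539) .leaf) (178648, 0, 18, 169571) (.node .leaf (178651, 0, 15, 16920) .leaf)) (178652, 0, 16, 175936) (.node (.node .leaf (178655, 0, 17, 204547) .leaf) (178657, 0, 15, 19210) (.node .leaf (178658, 0, 6, 36990) .leaf))))) (178661, 0, 17, 71966) (.node (.node (.node (.node (.node .leaf (178662, 0, 15, 230731) .leaf) (178665, 0, 15, 41366) (.node .leaf (178666, 0, 15, 69834) .leaf)) (178669, 0, 12, 212102) (.node (.node .leaf (178670, 0, 14, 225239) .leaf) (178673, 0, 16, 146940) (.node .leaf (178674, 0, 18, 232608) .leaf))) (178677, 0, 18, 221515) (.node (.node (.node .leaf (178678, 0, 16, 127933) .leaf) (178681, 0, 17, 186208) (.node .leaf (178682, 0, 13, 52659) .leaf)) (178685, 0, 17, 43133) (.node (.node .leaf (178686, 0, 11,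 62608) .leaf) (178688, 0, 14, 25858) (.node .leaf (178689, 0, 19, 22592) .leaf)))) (178692, 0, 14, 137759) (.node (.node (.node (.node .leaf (178693, 0, 17, 24931) .leaf) (178696, 0, 14, 171454) (.node .leaf (178697, 0, 18, 163288) .leaf)) (178700, 0, 16, 192643) (.node (.node .leaf (178701, 0, 16, 148731) .leaf) (178704, 0, 17, 180339) (.node .leaf (178705, 0, 13, 139285) .leaf))) (178708, 0, 16, 194896) (.node (.node (.node .leaf (178709, 0, 16, 144839) .leaf) (178712, 0, 18, 58859) (.node .leaf (178713, 0, 19, 41030) .leaf)) (178716, 0, 18, 56520) (.node (.node .leaf (178717, 0, 14, 15534) .leaf) (178722, 0, 17, 189430) (.node .leaf (178723, 0, 15, 131984) .leaf))))))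

/-- part of the orbit tree -/
def itp5_228 : Tree := (.node (.node (.node (.node (.node (.node .leaf (178727, 0, 14, 146099) .leaf) (178730, 0, 18, 137958) (.node .leaf (178731, 0, 16, 17352) .leaf)) (178734, 0, 16, 65357) (.node (.node .leaf (178735, 0, 14, 7979) .leaf) (178738, 0, 18, 39843) (.node .leaf (178739, 0, 17, 188322) .leaf))) (178742, 0, 16, 194961) (.node (.node (.node .leaf (178743, 0, 16, 17126) .leaf) (178746, 0, 15, 179771) (.node .leaf (178747, 0, 16, 155229) .leaf)) (178750, 0, 14, 165656) (.node (.node .leaf (178751, 0, 15, 18979) .leaf) (178752, 0, 18, 250528) (.node .leaf (178753, 0, 17, 209606) .leaf)))) (178756, 0, 15, 256899) (.node (.node (.node (.node .leaf (178757, 0, 17, 199653) .leaf) (178760, 0, 14, 128824) (.node .leaf (178761, 0, 15, 71518) .leaf)) (178764, 0, 17, 118299) (.node (.node .leaf (178765, 0, 14, 77437) .leaf) (178768, 0, 13, 150398) (.node .leaf (178769, 0, 18, 84627) .leaf))) (178772, 0, 17, 103382) (.node (.node (.node .leaf (178773, 0, 15, 159053) .leaf) (178776, 0, 14, 233325)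 (.node .leaf (178777, 0, 18, 225035) .leaf)) (178780, 0, 15, 57087) (.node (.node .leaf (178781, 0, 15, 218664) .leaf) (178786, 0, 16, 174320) (.node .leaf (178787, 0, 16, 61918) .leaf))))) (178790, 0, 11, 55277) (.node (.node (.node (.node (.node .leaf (178791, 0, 16, 86069) .leaf) (178794, 0, 16, 148076) (.node .leaf (178795, 0, 15, 216206) .leaf)) (178798, 0, 16, 15729) (.node (.node .leaf (178799, 0, 17, 156767) .leaf) (178802, 0, 14, 258341) (.node .leaf (178803, 0, 15, 165672) .leaf))) (178806, 0, 15, 172315) (.node (.node (.node .leaf (178807, 0, 13, 63541) .leaf) (178810, 0, 14, 13466) (.node .leaf (178811, 0, 16, 79067) .leaf)) (178814, 0, 13, 150407) (.node (.node .leaf (178815, 0, 18, 4777) .leaf) (178818, 0, 16, 229129) (.node .leaf (178819, 0, 17, 156727) .leaf)))) (178822, 0, 18, 214570) (.node (.node (.node (.node .leaf (178823, 0, 15, 6954) .leaf) (178826, 0, 15, 55173) (.node .leaf (178827, 0, 16, 167595) .leaf)) (178830, 0, 16, 174232) (.node (.node .leaf (178831, 0, 18, 99284) .leaf) (178834, 0, 14, 67420)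 (.node .leaf (178835, 0, 10, 124730) .leaf))) (178838, 0, 16, 81535) (.node (.node (.node .leaf (178839, 0, 17, 122393) .leaf) (178842, 0, 15, 172403) (.node .leaf (178843, 0, 16, 63581) .leaf)) (178846, 0, 17, 203751) (.node (.node .leaf (178847, 0, 17, 260993) .leaf) (178848, 0, 14, 174177) .leaf)))))

/-- part of the orbit tree -/
def itp5_229 : Tree := (.node itp5_225 (178468, 0, 16, 1268) itp5_226)

/-- part of the orbit tree -/
def itp5_230 : Tree := (.node itp5_227 (178726, 0, 17, 187093) itp5_228)

/-- part of the orbit tree -/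
def itp5_231 : Tree := (.node itp5_223 (178082, 0, 12, 192315) itp5_224)

/-- part of the orbit tree -/
def itp5_232 : Tree := (.node itp5_229 (178597, 0, 17, 158877) itp5_230)

/-- part of the orbit tree -/
def itp5_233 : Tree := (.node (.node (.node (.node (.node (.node .leaf (178852, 0, 17, 73210) .leaf) (178853, 0, 16, 130460) (.node .leaf (178856, 0, 18, 148221) .leaf)) (178857, 0, 14, 254247) (.node (.node .leaf (178860, 0, 16, 211042) .leaf) (178861, 0, 16, 156878) (.node .leaf (178864, 0, 19, 220300) .leaf))) (178865, 0, 17, 165817) (.node (.node (.node .leaf (178868, 0, 14, 172426) .leaf) (178869, 0, 14, 63652) (.node .leaf (178872, 0, 16, 96532) .leaf)) (178873, 0, 14, 104818) (.node (.node .leaf (178876, 0, 15, 150294) .leaf) (178877, 0, 16, 106577) (.node .leaf (178882, 0, 17, 5519) .leaf)))) (178883, 0, 17, 62953) (.node (.node (.node (.node .leaf (178886, 0, 14, 11436) .leaf) (178887, 0, 16, 52426) (.node .leaf (178890, 0, 15, 143383) .leaf)) (178891, 0, 16, 185889) (.node (.node .leaf (178894, 0, 15, 133428)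 .leaf) (178895, 0, 17, 190802) (.node .leaf (178898, 0, 17, 136037) .leaf))) (178899, 0, 16, 19019) (.node (.node (.node .leaf (178902, 0, 17, 27768) .leaf) (178903, 0, 16, 177311) (.node .leaf (178906, 0, 17, 18498) .leaf)) (178907, 0, 15, 41175) (.node (.node .leaf (178910, 0, 18, 34532) .leaf) (178911, 0, 16, 188362) (.node .leaf (178912, 0, 16, 151135) .leaf))))) (178913, 0, 18, 43461) (.node (.node (.node (.node (.node .leaf (178916, 0, 15, 36854) .leaf) (178917, 0, 10, 186072) (.node .leaf (178920, 0, 19, 27591) .leaf)) (178921, 0, 13, 17241) (.node (.node .leaf (178924, 0, 14, 25962) .leaf) (178925, 0, 17, 146500) (.node .leaf (178928, 0, 17, 13834) .leaf))) (178929, 0, 16, 188211) (.node (.node (.node .leaf (178932, 0, 15, 194816) .leaf) (178933, 0, 16, 61263) (.node .leaf (178936, 0, 15, 136082) .leaf)) (178937, 0, 17, 193524) (.node (.node .leaf (178940, 0, 18, 136092) .leaf) (178941, 0, 18, 19122) (.node .leaf (178944, 0, 16, 33505) .leaf)))) (178945, 0, 17, 187343) (.node (.node (.node (.node .leaf (178948, 0, 16,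 196092) .leaf) (178949, 0, 16, 42194) (.node .leaf (178952, 0, 18, 26749) .leaf)) (178953, 0, 17, 122796) (.node (.node .leaf (178956, 0, 17, 137056) .leaf) (178957, 0, 15, 20046) (.node .leaf (178960, 0, 15, 90631) .leaf))) (178961, 0, 15, 44345) (.node (.node (.node .leaf (178964, 0, 18, 88868) .leaf) (178965, 0, 13, 184868) (.node .leaf (178968, 0, 20, 214943) .leaf)) (178969, 0, 16, 239609) (.node (.node .leaf (178972, 0, 17, 229052) .leaf) (178973, 0, 17, 145592) (.node .leaf (178978, 0, 18, 137113) .leaf))))))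

/-- part of the orbit tree -/
def itp5_234 : Tree := (.node (.node (.node (.node (.node (.node .leaf (178982, 0, 16, 96417) .leaf) (178983, 0, 17, 104647) (.node .leaf (178986, 0, 13, 222234) .leaf)) (178987, 0, 16, 230524) (.node (.node .leaf (178990, 0, 17, 220473) .leaf) (178991, 0, 15, 187190) (.node .leaf (178994, 0, 12, 211415) .leaf))) (178995, 0, 14, 145473) (.node (.node (.node .leaf (178998, 0, 14, 196852) .leaf) (178999, 0, 15, 18268) (.node .leaf (179002, 0, 13, 35827) .leaf)) (179003, 0, 19, 185053) (.node (.node .leaf (179006, 0, 13, 193774) .leaf) (179007, 0, 15, 44480) (.node .leaf (179008, 0, 17, 28884) .leaf)))) (179009, 0, 15, 164677) (.node (.node (.node (.node .leaf (179012, 0, 17, 173430) .leaf) (179013, 0, 14, 64600) (.node .leaf (179016, 0, 16, 12535) .leaf)) (179017, 0, 18, 177450) (.node (.node .leaf (179020, 0, 17, 151530) .leaf) (179021, 0, 16, 5828) (.node .leaf (179024, 0, 11, 175261) .leaf))) (179025, 0, 17, 62899) (.node (.node (.node .leaf (179028, 0, 15, 143778) .leaf) (179029, 0, 17, 166574)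 (.node .leaf (179032, 0, 16, 11545) .leaf)) (179033, 0, 18, 7983) (.node (.node .leaf (179036, 0, 16, 14620) .leaf) (179037, 0, 15, 155698) (.node .leaf (179042, 0, 18, 142084) .leaf))))) (179043, 0, 17, 183138) (.node (.node (.node (.node (.node .leaf (179046, 0, 16, 135719) .leaf) (179047, 0, 17, 193089) (.node .leaf (179050, 0, 16, 3740) .leaf)) (179051, 0, 14, 64673) (.node (.node .leaf (179054, 0, 12, 14271) .leaf) (179055, 0, 18, 55257) (.node .leaf (179058, 0, 14, 14821) .leaf))) (179059, 0, 15, 155851) (.node (.node (.node .leaf (179062, 0, 13, 27250) .leaf) (179063, 0, 16, 35348) (.node .leaf (179066, 0, 15, 54137) .leaf)) (179067, 0, 16, 169647) (.node (.node .leaf (179070, 0, 15, 175204) .leaf) (179071, 0, 17, 176012) (.node .leaf (179074, 0, 18, 56058) .leaf)))) (179075, 0, 18, 164820) (.node (.node (.node (.node .leaf (179078, 0, 19, 58462) .leaf) (179079, 0, 15, 1080) (.node .leaf (179082, 0, 17, 194789) .leaf)) (179083, 0, 18, 137347) (.node (.node .leaf (179086, 0, 14, 180678) .leaf) (179087, 0, 15, 139680)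 (.node .leaf (179090, 0, 16, 175116) .leaf))) (179091, 0, 18, 148814) (.node (.node (.node .leaf (179094, 0, 17, 54033) .leaf) (179095, 0, 14, 162925) (.node .leaf (179098, 0, 15, 149136) .leaf)) (179099, 0, 17, 24790) (.node (.node .leaf (179102, 0, 15, 47507) .leaf) (179103, 0, 12, 23029) (.node .leaf (179104, 0, 18, 165549) .leaf))))))

/-- part of the orbit tree -/
def itp5_235 : Tree := (.node (.node (.node (.node (.node (.node .leaf (179108, 0, 16, 180110) .leaf) (179109, 0, 16, 158129) (.node .leaf (179112, 0, 14, 173342) .leaf)) (179113, 0, 15, 17235) (.node (.node .leaf (179116, 0, 17, 55811) .leaf) (179117, 0, 16, 164653) (.node .leaf (179120, 0, 14, 14708) .leaf))) (179121, 0, 17, 7838) (.node (.node (.node .leaf (179124, 0, 18, 51163) .leaf) (179125, 0, 17, 8007) (.node .leaf (179128, 0, 17, 187232) .leaf)) (179129, 0, 16, 166598) (.node (.node .leaf (179132, 0, 15, 188995) .leaf) (179133, 0, 15, 62939) (.node .leaf (179138, 0, 15, 243707) .leaf)))) (179139, 0, 16, 219037) (.node (.node (.node (.node .leaf (179142,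 0, 17, 195949) .leaf) (179143, 0, 16, 42051) (.node .leaf (179146, 0, 14, 103011) .leaf)) (179147, 0, 17, 143810) (.node (.node .leaf (179150, 0, 13, 109376) .leaf) (179151, 0, 16, 20191) (.node .leaf (179154, 0, 16, 118702) .leaf))) (179155, 0, 12, 77768) (.node (.node (.node .leaf (179158, 0, 15, 128653) .leaf) (179159, 0, 16, 71403) (.node .leaf (179162, 0, 19, 256566) .leaf)) (179163, 0, 15, 18228) (.node (.node .leaf (179166, 0, 12, 250645) .leaf) (179167, 0, 11, 145449) (.node .leaf (179168, 0, 15, 136968) .leaf))))) (179169, 0, 12, 20006) (.node (.node (.node (.node (.node .leaf (179172, 0, 16, 120072) .leaf) (179173, 0, 16, 143675) (.node .leaf (179176, 0, 15, 248243) .leaf)) (179177, 0, 17, 207317) (.node (.node .leaf (179180, 0, 17, 258192) .leaf) (179181, 0, 18, 200950) (.node .leaf (179184, 0, 16, 234622) .leaf))) (179185, 0, 14, 226328) (.node (.node (.node .leaf (179188, 0, 14, 138979) .leaf) (179189, 0, 19, 18381) (.node .leaf (179192, 0, 17, 35682) .leaf)) (179193, 0, 17, 86400) (.node (.node .leaf (179196,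 0, 16, 100549) .leaf) (179197, 0, 18, 92323) (.node .leaf (179200, 0, 17, 102142) .leaf)))) (179202, 0, 16, 57051) (.node (.node (.node (.node .leaf (179204, 0, 15, 112605) .leaf) (179206, 0, 14, 59384) (.node .leaf (179208, 0, 16, 240486) .leaf)) (179210, 0, 16, 28468) (.node (.node .leaf (179212, 0, 14, 129115) .leaf) (179214, 0, 16, 180832) (.node .leaf (179216, 0, 17, 72492) .leaf))) (179218, 0, 13, 173710) (.node (.node (.node .leaf (179220, 0, 19, 222257) .leaf) (179222, 0, 15, 35907) (.node .leaf (179224, 0, 15, 127408) .leaf)) (179226, 0, 15, 33558) (.node (.node .leaf (179228, 0, 11, 125456) .leaf) (179230, 0, 16, 47669) (.node .leaf (179233, 0, 16, 157037) .leaf))))))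

/-- part of the orbit tree -/
def itp5_236 : Tree := (.node (.node (.node (.node (.node (.node .leaf (179237, 0, 16, 145123) .leaf) (179239, 0, 16, 122513) (.node .leaf (179241, 0, 14, 41826) .leaf)) (179243, 0, 17, 69840) (.node (.node .leaf (179245, 0, 17, 31190) .leaf) (179247, 0, 14, 76275) (.node .leaf (179249, 0, 18, 147208) .leaf))) (179251, 0, 14, 85277) (.node (.node (.node .leaf (179253, 0, 16, 16405) .leaf) (179255, 0, 17, 239719) (.node .leaf (179257, 0, 14, 145568) .leaf)) (179259, 0, 15, 223365) (.node (.node .leaf (179261, 0, 16, 43657) .leaf) (179263, 0, 17, 217510) (.node .leaf (179264, 0, 17, 210256) .leaf)))) (179266, 0, 14, 242781) (.node (.node (.node (.node .leaf (179268, 0, 14, 187739) .leaf) (179270, 0, 17, 172607) (.node .leaf (179272, 0, 14, 49632) .leaf)) (179274, 0, 17, 102853) (.node (.node .leaf (179276, 0, 17, 63683) .leaf) (179278, 0, 15, 149667) (.node .leaf (179280, 0, 18, 82854) .leaf))) (179282, 0, 14, 175060) (.node (.node (.node .leaf (179284, 0, 14, 42254) .leaf) (179286, 0, 16, 54473)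 (.node .leaf (179288, 0, 16, 108858) .leaf)) (179290, 0, 16, 256400) (.node (.node .leaf (179292, 0, 16, 251431) .leaf) (179294, 0, 15, 250035) (.node .leaf (179297, 0, 18, 4468) .leaf))))) (179299, 0, 14, 260358) (.node (.node (.node (.node (.node .leaf (179301, 0, 14, 79560) .leaf) (179303, 0, 16, 26349) (.node .leaf (179305, 0, 12, 207475) .leaf)) (179307, 0, 17, 162390) (.node (.node .leaf (179309, 0, 14, 201552) .leaf) (179311, 0, 16, 148341) (.node .leaf (179313, 0, 15, 157570) .leaf))) (179315, 0, 17, 141211) (.node (.node (.node .leaf (179317, 0, 19, 6303) .leaf) (179319, 0, 18, 258285) (.node .leaf (179321, 0, 18, 167198) .leaf)) (179323, 0, 16, 515) (.node (.node .leaf (179325, 0, 16, 61955) .leaf) (179327, 0, 17, 203377) (.node .leaf (179329, 0, 15, 260498) .leaf)))) (179331, 0, 10, 174519) (.node (.node (.node (.node .leaf (179333, 0, 17, 245937) .leaf) (179335, 0, 18, 168084) (.node .leaf (179337, 0, 17, 159233) .leaf)) (179339, 0, 15, 99955) (.node (.node .leaf (179341, 0, 14, 4380) .leaf) (179343, 0, 16, 46348)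 (.node .leaf (179345, 0, 15, 62059) .leaf))) (179347, 0, 17, 53730) (.node (.node (.node .leaf (179349, 0, 13, 112868) .leaf) (179351, 0, 18, 59585) (.node .leaf (179353, 0, 18, 6391) .leaf)) (179355, 0, 14, 258181) (.node (.node .leaf (179357, 0, 12, 236924) .leaf) (179359, 0, 14, 102296) (.node .leaf (179360, 0, 16, 106681) .leaf))))))

/-- part of the orbit tree -/
def itp5_237 : Tree := (.node itp5_233 (178979, 0, 14, 20151) itp5_234)

/-- part of the orbit tree -/
def itp5_238 : Tree := (.node itp5_235 (179235, 0, 15, 210248) itp5_236)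

/-- part of the orbit tree -/
def itp5_239 : Tree := (.node (.node (.node (.node (.node (.node .leaf (179364, 0, 16, 253860) .leaf) (179366, 0, 16, 97031) (.node .leaf (179368, 0, 18, 145305) .leaf)) (179370, 0, 16, 223164) (.node (.node .leaf (179372, 0, 17, 134842) .leaf) (179374, 0, 17, 220831) (.node .leaf (179376, 0, 18, 158292) .leaf))) (179378, 0, 11, 15933) (.node (.node (.node .leaf (179380, 0, 16, 152439) .leaf) (179382, 0, 14, 197458) (.node .leaf (179384, 0, 18, 20428) .leaf)) (179386, 0, 16, 73705) (.node (.node .leaf (179388, 0, 15, 30447) .leaf) (179390, 0, 15, 175036) (.node .leaf (179393, 0, 16, 37652) .leaf)))) (179395, 0, 19, 78949) (.node (.node (.node (.node .leaf (179397, 0, 13, 41738) .leaf) (179399, 0, 15, 215928) (.node .leaf (179401, 0, 17, 177804) .leaf)) (179403, 0, 17, 255657) (.node (.node .leaf (179405, 0, 16, 167855) .leaf) (179407, 0, 19, 253834) (.node .leaf (179409, 0, 18, 43745) .leaf))) (179411, 0, 16, 213651) (.node (.node (.node .leaf (179413, 0, 15, 184930) .leaf) (179415, 0, 14, 81294)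 (.node .leaf (179417, 0, 12, 52953) .leaf)) (179419, 0, 16, 106236) (.node (.node .leaf (179421, 0, 16, 147296) .leaf) (179423, 0, 16, 108511) (.node .leaf (179424, 0, 17, 227463) .leaf))))) (179426, 0, 13, 135233) (.node (.node (.node (.node (.node .leaf (179428, 0, 16, 231214) .leaf) (179430, 0, 15, 135553) (.node .leaf (179432, 0, 13, 70319) .leaf)) (179434, 0, 17, 195293) (.node (.node .leaf (179436, 0, 14, 91196) .leaf) (179438, 0, 15, 34240) (.node .leaf (179440, 0, 15, 65746) .leaf))) (179442, 0, 18, 26295) (.node (.node (.node .leaf (179444, 0, 18, 80369) .leaf) (179446, 0, 12, 137642) (.node .leaf (179448, 0, 18, 206154) .leaf)) (179450, 0, 17, 161135) (.node (.node .leaf (179452, 0, 16, 203881) .leaf) (179454, 0, 12, 193334) (.node .leaf (179456, 0, 15, 142474) .leaf)))) (179458, 0, 17, 25163) (.node (.node (.node (.node .leaf (179460, 0, 18, 128292) .leaf) (179462, 0, 16, 214412) (.node .leaf (179464, 0, 18, 221349) .leaf)) (179466, 0, 13, 88375) (.node (.node .leaf (179468, 0, 16, 12337) .leaf) (179470, 0, 14, 90132)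 (.node .leaf (179472, 0, 17, 21727) .leaf))) (179474, 0, 17, 66810) (.node (.node (.node .leaf (179476, 0, 17, 28156) .leaf) (179478, 0, 17, 81369) (.node .leaf (179480, 0, 17, 160071) .leaf)) (179482, 0, 15, 205154) (.node (.node .leaf (179484, 0, 13, 223566) .leaf) (179486, 0, 16, 202817) (.node .leaf (179489, 0, 14, 116505) .leaf))))))

/-- part of the orbit tree -/
def itp5_240 : Tree := (.node (.node (.node (.node (.node (.node .leaf (179493, 0, 16, 184576) .leaf) (179495, 0, 18, 44575) (.node .leaf (179497, 0, 17, 17537) .leaf)) (179499, 0, 18, 176804) (.node (.node .leaf (179501, 0, 15, 252834) .leaf) (179503, 0, 17, 166791) (.node .leaf (179505, 0, 18, 186603) .leaf))) (179507, 0, 15, 192361) (.node (.node (.node .leaf (179509, 0, 14, 231023) .leaf) (179511, 0, 16, 185930) (.node .leaf (179513, 0, 15, 105172) .leaf)) (179515, 0, 12, 51953) (.node (.node .leaf (179517, 0, 16, 19818) .leaf) (179519, 0, 13, 62418) (.node .leaf (179520, 0, 16, 250547) .leaf)))) (179522, 0, 15, 15041) (.node (.node (.node (.node .leaf (179524,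 0, 18, 98095) .leaf) (179526, 0, 16, 148956) (.node .leaf (179528, 0, 16, 222100) .leaf)) (179530, 0, 17, 53341) (.node (.node .leaf (179532, 0, 13, 219831) .leaf) (179534, 0, 16, 175936) (.node .leaf (179536, 0, 18, 107589) .leaf))) (179538, 0, 13, 150583) (.node (.node (.node .leaf (179540, 0, 16, 198522) .leaf) (179542, 0, 15, 13098) (.node .leaf (179544, 0, 17, 85721) .leaf)) (179546, 0, 15, 173739) (.node (.node .leaf (179548, 0, 15, 74466) .leaf) (179550, 0, 17, 29383) (.node .leaf (179553, 0, 16, 63127) .leaf))))) (179555, 0, 16, 204517) (.node (.node (.node (.node (.node .leaf (179557, 0, 16, 169148) .leaf) (179559, 0, 16, 90616) (.node .leaf (179561, 0, 17, 34823) .leaf)) (179563, 0, 19, 259193) (.node (.node .leaf (179565, 0, 17, 156438) .leaf) (179567, 0, 16, 123137) (.node .leaf (179569, 0, 16, 163937) .leaf))) (179571, 0, 16, 99823) (.node (.node (.node .leaf (179573, 0, 15, 60649) .leaf) (179575, 0, 16, 113868) (.node .leaf (179577, 0, 11, 158461) .leaf)) (179579, 0, 17, 98959) (.node (.node .leaf (179581, 0,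 18, 182641) .leaf) (179583, 0, 15, 235860) (.node .leaf (179585, 0, 16, 156542) .leaf)))) (179587, 0, 16, 68547) (.node (.node (.node (.node .leaf (179589, 0, 18, 25285) .leaf) (179591, 0, 15, 259089) (.node .leaf (179593, 0, 15, 166370) .leaf)) (179595, 0, 13, 90512) (.node (.node .leaf (179597, 0, 16, 63231) .leaf) (179599, 0, 17, 204429) (.node .leaf (179601, 0, 18, 140211) .leaf))) (179603, 0, 13, 226198) (.node (.node (.node .leaf (179605, 0, 16, 137872) .leaf) (179607, 0, 18, 215733) (.node .leaf (179609, 0, 16, 65300) .leaf)) (179611, 0, 17, 202598) (.node (.node .leaf (179613, 0, 13, 163849) .leaf) (179615, 0, 14, 92283) (.node .leaf (179616, 0, 12, 83802) .leaf))))))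

/-- part of the orbit tree -/
def itp5_241 : Tree := (.node (.node (.node (.node (.node (.node .leaf (179620, 0, 16, 211015) .leaf) (179622, 0, 13, 186739) (.node .leaf (179624, 0, 15, 110022) .leaf)) (179626, 0, 18, 148916) (.node (.node .leaf (179628, 0, 15, 109774) .leaf) (179630, 0, 16, 64747) (.node .leaf (179632, 0, 18, 209324) .leaf))) (179634, 0, 16, 38917) (.node (.node (.node .leaf (179636, 0, 13, 85681) .leaf) (179638, 0, 18, 41254) (.node .leaf (179640, 0, 15, 257464) .leaf)) (179642, 0, 14, 179613) (.node (.node .leaf (179644, 0, 15, 251035) .leaf) (179646, 0, 15, 150623) (.node .leaf (179649, 0, 17, 146420) .leaf)))) (179651, 0, 12, 155973) (.node (.node (.node (.node .leaf (179653, 0, 15, 198723) .leaf) (179655, 0, 12, 240795) (.node .leaf (179657, 0, 18, 184680) .leaf)) (179659, 0, 12, 17629) (.node (.node .leaf (179661, 0, 16, 77275) .leaf) (179663, 0, 15, 32254) (.node .leaf (179665, 0, 15, 84277) .leaf))) (179667, 0, 13, 6416) (.node (.node (.node .leaf (179669, 0, 14, 94230) .leaf) (179671, 0, 20, 8243)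 (.node .leaf (179673, 0, 17, 224429) .leaf)) (179675, 0, 16, 217068) (.node (.node .leaf (179677, 0, 17, 218510) .leaf) (179679, 0, 16, 132523) (.node .leaf (179680, 0, 18, 73680) .leaf))))) (179682, 0, 17, 101078) (.node (.node (.node (.node (.node .leaf (179684, 0, 13, 221389) .leaf) (179686, 0, 14, 35007) (.node .leaf (179688, 0, 13, 128332) .leaf)) (179690, 0, 16, 138558) (.node (.node .leaf (179692, 0, 18, 232017) .leaf) (179694, 0, 13, 235117) (.node .leaf (179696, 0, 16, 172710) .leaf))) (179698, 0, 16, 258691) (.node (.node (.node .leaf (179700, 0, 11, 170885) .leaf) (179702, 0, 17, 196169) (.node .leaf (179704, 0, 17, 230330) .leaf)) (179706, 0, 17, 120603) (.node (.node .leaf (179708, 0, 17, 48669) .leaf) (179710, 0, 16, 126520) (.node .leaf (179744, 0, 17, 136700) .leaf)))) (179745, 0, 15, 19666) (.node (.node (.node (.node .leaf (179746, 0, 16, 130446) .leaf) (179747, 0, 16, 203064) (.node .leaf (179748, 0, 18, 27361) .leaf)) (179749, 0, 16, 144335) (.node (.node .leaf (179750, 0, 18, 230035) .leaf) (179751, 0,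 16, 204827) (.node .leaf (179752, 0, 15, 196448) .leaf))) (179753, 0, 17, 42574) (.node (.node (.node .leaf (179754, 0, 15, 122054) .leaf) (179755, 0, 16, 216636) (.node .leaf (179756, 0, 16, 32893) .leaf)) (179757, 0, 15, 21926) (.node (.node .leaf (179758, 0, 12, 223247) .leaf) (179759, 0, 16, 66947) (.node .leaf (179760, 0, 15, 25354) .leaf))))))

/-- part of the orbit tree -/
def itp5_242 : Tree := (.node (.node (.node (.node (.node (.node .leaf (179762, 0, 18, 98571) .leaf) (179763, 0, 14, 90477) (.node .leaf (179764, 0, 15, 59405) .leaf)) (179765, 0, 16, 17721) (.node (.node .leaf (179766, 0, 14, 128101) .leaf) (179767, 0, 11, 240971) (.node .leaf (179768, 0, 17, 193718) .leaf))) (179769, 0, 15, 136400) (.node (.node (.node .leaf (179770, 0, 12, 238739) .leaf) (179771, 0, 14, 80074) (.node .leaf (179772, 0, 15, 194187) .leaf)) (179773, 0, 17, 44965) (.node (.node .leaf (179774, 0, 16, 236976) .leaf) (179775, 0, 14, 214999) (.node .leaf (179808, 0, 15, 150902) .leaf)))) (179809, 0, 17, 74651) (.node (.node (.node (.node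 .leaf (179810, 0, 13, 37848) .leaf) (179811, 0, 15, 261162) (.node .leaf (179812, 0, 17, 129758) .leaf)) (179813, 0, 15, 158533) (.node (.node .leaf (179814, 0, 16, 43771) .leaf) (179815, 0, 16, 99127) (.node .leaf (179816, 0, 13, 174058) .leaf))) (179817, 0, 16, 65220) (.node (.node (.node .leaf (179818, 0, 15, 177728) .leaf) (179819, 0, 15, 153126) (.node .leaf (179820, 0, 15, 253766) .leaf)) (179821, 0, 16, 164313) (.node (.node .leaf (179822, 0, 17, 209029) .leaf) (179823, 0, 17, 159493) (.node .leaf (179824, 0, 14, 15232) .leaf))))) (179825, 0, 15, 156334) (.node (.node (.node (.node (.node .leaf (179826, 0, 12, 191373) .leaf) (179827, 0, 12, 134123) (.node .leaf (179828, 0, 15, 230027) .leaf)) (179829, 0, 16, 221933) (.node (.node .leaf (179830, 0, 17, 185006) .leaf) (179831, 0, 17, 259521) (.node .leaf (179832, 0, 16, 106032) .leaf))) (179833, 0, 12, 97878) (.node (.node (.node .leaf (179834, 0, 17, 52757) .leaf) (179835, 0, 15, 11891) (.node .leaf (179836, 0, 18, 108307) .leaf)) (179837, 0, 16, 83829) (.node (.node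 .leaf (179838, 0, 15, 63286) .leaf) (179839, 0, 16, 5968) (.node .leaf (179840, 0, 18, 210308) .leaf)))) (179841, 0, 16, 164273) (.node (.node (.node (.node .leaf (179842, 0, 16, 209133) .leaf) (179843, 0, 13, 165319) (.node .leaf (179844, 0, 15, 199847) .leaf)) (179845, 0, 17, 257217) (.node (.node .leaf (179846, 0, 16, 154754) .leaf) (179847, 0, 12, 202462) (.node .leaf (179848, 0, 18, 12803) .leaf))) (179849, 0, 15, 127098) (.node (.node (.node .leaf (179850, 0, 17, 252529) .leaf) (179851, 0, 17, 99167) (.node .leaf (179852, 0, 13, 150814) .leaf)) (179853, 0, 18, 5168) (.node (.node .leaf (179854, 0, 12, 107884) .leaf) (179855, 0, 17, 261186) .leaf)))))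

/-- part of the orbit tree -/
def itp5_243 : Tree := (.node itp5_239 (179491, 0, 17, 214639) itp5_240)

/-- part of the orbit tree -/
def itp5_244 : Tree := (.node itp5_241 (179761, 0, 18, 145956) itp5_242)

/-- part of the orbit tree -/
def itp5_245 : Tree := (.node itp5_237 (179105, 0, 15, 157387) itp5_238)

/-- part of the orbit tree -/
def itp5_246 : Tree := (.node itp5_243 (179618, 0, 16, 188496) itp5_244)

/-- part of the orbit tree -/
def itp5_247 : Tree := (.node itp5_231 (178341, 0, 14, 166782) itp5_232)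

/-- part of the orbit tree -/
def itp5_248 : Tree := (.node itp5_245 (179362, 0, 16, 82468) itp5_246)

/-- part of the orbit tree -/
def itp5_249 : Tree := (.node itp5_217 (176805, 0, 16, 183149) itp5_218)

/-- part of the orbit tree -/
def itp5_250 : Tree := (.node itp5_247 (178849, 0, 12, 61775) itp5_248)

/-- part of the orbit tree -/
def itp5_251 : Tree := (.node itp5_187 (173738, 0, 18, 208945) itp5_188)

/-- part of the orbit tree -/
def itp5_252 : Tree := (.node itp5_249 (177826, 0, 15, 200776) itp5_250)

/-- part of the orbit tree -/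
def itp5_253 : Tree := (.node itp5_125 (167604, 0, 17, 112937) itp5_126)

/-- part of the orbit tree -/
def itp5_254 : Tree := (.node itp5_251 (175780, 0, 14, 70208) itp5_252)

/-- part of the orbit tree -/
def itp5_255 : Tree := (.node (.node (.node (.node (.node (.node .leaf (179857, 0, 16, 63303) .leaf) (179858, 0, 16, 7668) (.node .leaf (179859, 0, 15, 64914) .leaf)) (179860, 0, 18, 53620) (.node (.node .leaf (179861, 0, 15, 103572) .leaf) (179862, 0, 17, 211206) (.node .leaf (179863, 0, 18, 50353) .leaf))) (179864, 0, 17, 223305) (.node (.node (.node .leaf (179865, 0, 6, 7643) .leaf) (179866, 0, 17, 109703) (.node .leaf (179867, 0, 13, 186378) .leaf)) (179868, 0, 17, 15336) (.node (.node .leaf (179869, 0, 16, 241932) .leaf) (179870, 0, 16, 131407) (.node .leaf (179871, 0, 16, 188713) .leaf)))) (179904, 0, 15, 32789) (.node (.node (.node (.node .leaf (179905, 0, 16, 48996) .leaf) (179906, 0, 18, 223335) (.node .leaf (179907, 0, 18, 78153) .leaf)) (179908, 0, 13, 26145) (.node (.node .leaf (179909, 0, 16, 34375) .leaf) (179910,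 0, 13, 79364) (.node .leaf (179911, 0, 18, 216660) .leaf))) (179912, 0, 16, 27273) (.node (.node (.node .leaf (179913, 0, 16, 170748) .leaf) (179914, 0, 17, 207551) (.node .leaf (179915, 0, 17, 248537) .leaf)) (179916, 0, 14, 148409) (.node (.node .leaf (179917, 0, 18, 173023) .leaf) (179918, 0, 16, 130534) (.node .leaf (179919, 0, 16, 238792) .leaf))))) (179920, 0, 18, 194275) (.node (.node (.node (.node (.node .leaf (179921, 0, 18, 182065) .leaf) (179922, 0, 17, 227186) (.node .leaf (179923, 0, 14, 214975) .leaf)) (179924, 0, 17, 138868) (.node (.node .leaf (179925, 0, 18, 184528) .leaf) (179926, 0, 13, 216657) (.node .leaf (179927, 0, 11, 80034) .leaf))) (179928, 0, 17, 719) (.node (.node (.node .leaf (179929, 0, 16, 58025) .leaf) (179930, 0, 19, 128013) (.node .leaf (179931, 0, 16, 240931) .leaf)) (179932, 0, 15, 25442) (.node (.node .leaf (179933, 0, 14, 145996) .leaf) (179934, 0, 18, 232208) (.node .leaf (179935, 0, 18, 119358) .leaf)))) (180000, 0, 16, 193055) (.node (.node (.node (.node .leaf (180001, 0, 16, 125801)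 .leaf) (180002, 0, 14, 23338) (.node .leaf (180003, 0, 17, 213827) .leaf)) (180004, 0, 17, 36098) (.node (.node .leaf (180005, 0, 17, 119370) .leaf) (180006, 0, 18, 25097) (.node .leaf (180007, 0, 14, 33391) .leaf))) (180008, 0, 18, 208535) (.node (.node (.node .leaf (180009, 0, 14, 249585) .leaf) (180010, 0, 16, 163506) (.node .leaf (180011, 0, 14, 240095) .leaf)) (180012, 0, 15, 202676) (.node (.node .leaf (180013, 0, 16, 147120) .leaf) (180014, 0, 16, 233452) (.node .leaf (180015, 0, 18, 120514) .leaf))))))

/-- part of the orbit tree -/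
def itp5_256 : Tree := (.node (.node (.node (.node (.node (.node .leaf (180017, 0, 16, 187847) .leaf) (180018, 0, 17, 224411) (.node .leaf (180019, 0, 15, 79285) .leaf)) (180020, 0, 17, 215673) (.node (.node .leaf (180021, 0, 15, 240159) .leaf) (180022, 0, 18, 70534) (.node .leaf (180023, 0, 16, 195130) .leaf))) (180024, 0, 18, 87746) (.node (.node (.node .leaf (180025, 0, 16, 145243) .leaf) (180026, 0, 9, 230919) (.node .leaf (180027, 0, 16, 122665) .leaf)) (180028, 0, 17, 94177) (.node (.node .leaf (180029, 0, 14, 18502) .leaf) (180030, 0, 11, 16324) (.node .leaf (180031, 0, 17, 237620) .leaf)))) (180064, 0, 15, 174741) (.node (.node (.node (.node .leaf (180065, 0, 15, 164335) .leaf) (180066, 0, 13, 82663) (.node .leaf (180067, 0, 17, 203721) .leaf)) (180068, 0, 16, 54664) (.node (.node .leaf (180069, 0, 13, 167078) .leaf) (180070, 0, 17, 198799) (.node .leaf (180071, 0, 14, 91348) .leaf))) (180072, 0, 11, 147465) (.node (.node (.node .leaf (180073, 0, 16, 6439) .leaf) (180074, 0, 15, 108667) (.node .leaf (180075, 0, 17,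 128082) .leaf)) (180076, 0, 14, 16148) (.node (.node .leaf (180077, 0, 16, 157242) .leaf) (180078, 0, 15, 77079) (.node .leaf (180079, 0, 17, 101960) .leaf))))) (180080, 0, 15, 6620) (.node (.node (.node (.node (.node .leaf (180081, 0, 16, 63930) .leaf) (180082, 0, 16, 84473) (.node .leaf (180083, 0, 16, 93503) .leaf)) (180084, 0, 16, 172926) (.node (.node .leaf (180085, 0, 18, 49305) .leaf) (180086, 0, 16, 84748) (.node .leaf (180087, 0, 18, 102588) .leaf))) (180088, 0, 17, 146500) (.node (.node (.node .leaf (180089, 0, 15, 159697) .leaf) (180090, 0, 16, 224353) (.node .leaf (180091, 0, 17, 100259) .leaf)) (180092, 0, 15, 132455) (.node (.node .leaf (180093, 0, 16, 189697) .leaf) (180094, 0, 14, 218434) (.node .leaf (180095, 0, 16, 242980) .leaf)))) (180096, 0, 15, 16252) (.node (.node (.node (.node .leaf (180097, 0, 16, 30614) .leaf) (180098, 0, 19, 251662) (.node .leaf (180099, 0, 16, 75699) .leaf)) (180100, 0, 18, 147553) (.node (.node .leaf (180101, 0, 17, 20149) .leaf) (180102, 0, 15, 130806) (.node .leaf (180103, 0,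 18, 73360) .leaf))) (180104, 0, 19, 54752) (.node (.node (.node .leaf (180105, 0, 18, 167118) .leaf) (180106, 0, 15, 212370) (.node .leaf (180107, 0, 13, 91324) .leaf)) (180108, 0, 18, 166731) (.node (.node .leaf (180109, 0, 17, 158509) .leaf) (180110, 0, 15, 82575) (.node .leaf (180111, 0, 15, 211720) .leaf))))))

/-- part of the orbit tree -/
def itp5_257 : Tree := (.node (.node (.node (.node (.node (.node .leaf (180113, 0, 17, 135107) .leaf) (180114, 0, 16, 107000) (.node .leaf (180115, 0, 15, 221158) .leaf)) (180116, 0, 16, 185990) (.node (.node .leaf (180117, 0, 14, 159673) .leaf) (180118, 0, 16, 253669) (.node .leaf (180119, 0, 13, 222917) .leaf))) (180120, 0, 15, 172822) (.node (.node (.node .leaf (180121, 0, 16, 10843) .leaf) (180122, 0, 17, 104984) (.node .leaf (180123, 0, 17, 201290) .leaf)) (180124, 0, 18, 62238) (.node (.node .leaf (180125, 0, 17, 165157) .leaf) (180126, 0, 15, 107323) (.node .leaf (180127, 0, 16, 82781) .leaf)))) (180160, 0, 14, 261494) (.node (.node (.node (.node .leaf (180161, 0, 17, 147160)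 .leaf) (180162, 0, 13, 175443) (.node .leaf (180163, 0, 18, 120490) .leaf)) (180164, 0, 16, 246869) (.node (.node .leaf (180165, 0, 17, 205875) .leaf) (180166, 0, 17, 127129) (.node .leaf (180167, 0, 18, 160790) .leaf))) (180168, 0, 18, 121070) (.node (.node (.node .leaf (180169, 0, 17, 185412) .leaf) (180170, 0, 17, 35019) (.node .leaf (180171, 0, 15, 80950) .leaf)) (180172, 0, 15, 193143) (.node (.node .leaf (180173, 0, 17, 65963) .leaf) (180174, 0, 16, 72197) (.node .leaf (180175, 0, 12, 20878) .leaf))))) (180176, 0, 12, 135424) (.node (.node (.node (.node (.node .leaf (180177, 0, 15, 18478) .leaf) (180178, 0, 16, 129394) (.node .leaf (180179, 0, 11, 13664) .leaf)) (180180, 0, 17, 28189) (.node (.node .leaf (180181, 0, 15, 145203) .leaf) (180182, 0, 14, 231023) (.node .leaf (180183, 0, 16, 3139) .leaf))) (180184, 0, 18, 237755) (.node (.node (.node .leaf (180185, 0, 17, 213213) .leaf) (180186, 0, 11, 192670) (.node .leaf (180187, 0, 16, 135416) .leaf)) (180188, 0, 17, 33921) (.node (.node .leaf (180189, 0, 16, 187823) .leaf)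 (180190, 0, 17, 182717) (.node .leaf (180191, 0, 17, 141787) .leaf)))) (180225, 0, 11, 77191) (.node (.node (.node (.node .leaf (180226, 0, 16, 191635) .leaf) (180228, 0, 16, 128194) (.node .leaf (180231, 0, 16, 182944) .leaf)) (180232, 0, 16, 256121) (.node (.node .leaf (180235, 0, 18, 153658) .leaf) (180237, 0, 18, 209212) (.node .leaf (180238, 0, 18, 30994) .leaf))) (180240, 0, 15, 225815) (.node (.node (.node .leaf (180243, 0, 15, 132599) .leaf) (180245, 0, 19, 224497) (.node .leaf (180246, 0, 18, 189816) .leaf)) (180249, 0, 18, 94282) (.node (.node .leaf (180250, 0, 15, 49161) .leaf) (180252, 0, 18, 124822) (.node .leaf (180255, 0, 17, 6476) .leaf))))))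

/-- part of the orbit tree -/
def itp5_258 : Tree := (.node (.node (.node (.node (.node (.node .leaf (180258, 0, 16, 233881) .leaf) (180260, 0, 15, 196407) (.node .leaf (180263, 0, 17, 216948) .leaf)) (180264, 0, 13, 58252) (.node (.node .leaf (180267, 0, 18, 86991) .leaf) (180269, 0, 16, 46404) (.node .leaf (180270, 0, 15, 66584) .leaf))) (180272, 0, 18, 134941) (.node (.node (.node .leaf (180275, 0, 15, 245313) .leaf) (180277, 0, 13, 141614) (.node .leaf (180278, 0, 14, 120647) .leaf)) (180281, 0, 16, 162751) (.node (.node .leaf (180282, 0, 17, 248828) .leaf) (180284, 0, 15, 172794) (.node .leaf (180287, 0, 16, 201401) .leaf)))) (180289, 0, 12, 197957) (.node (.node (.node (.node .leaf (180290, 0, 16, 177177) .leaf) (180292, 0, 17, 171588) (.node .leaf (180295, 0, 11, 168490) .leaf)) (180296, 0, 16, 112375) (.node (.node .leaf (180299, 0, 18, 1963) .leaf) (180301, 0, 16, 102596) (.node .leaf (180302, 0, 17, 125945) .leaf))) (180304, 0, 16, 207517) (.node (.node (.node .leaf (180307, 0, 16, 170945) .leaf) (180309, 0, 16,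 1655) (.node .leaf (180310, 0, 14, 112180) .leaf)) (180313, 0, 16, 104751) (.node (.node .leaf (180314, 0, 16, 240271) .leaf) (180316, 0, 17, 181129) (.node .leaf (180319, 0, 17, 226250) .leaf))))) (180321, 0, 16, 161871) (.node (.node (.node (.node (.node .leaf (180322, 0, 15, 64695) .leaf) (180324, 0, 15, 103857) (.node .leaf (180327, 0, 15, 9714) .leaf)) (180328, 0, 11, 231690) (.node (.node .leaf (180331, 0, 17, 96929) .leaf) (180333, 0, 15, 60878) (.node .leaf (180334, 0, 16, 188428) .leaf))) (180336, 0, 13, 153495) (.node (.node (.node .leaf (180339, 0, 16, 255691) .leaf) (180341, 0, 15, 200066) (.node .leaf (180342, 0, 18, 179649) .leaf)) (180345, 0, 14, 69945) (.node (.node .leaf (180346, 0, 17, 87417) .leaf) (180348, 0, 18, 49686) (.node .leaf (180351, 0, 15, 30783) .leaf)))) (180352, 0, 17, 219883) (.node (.node (.node (.node .leaf (180355, 0, 17, 191144) .leaf) (180357, 0, 14, 230318) (.node .leaf (180358, 0, 16, 144365) .leaf)) (180361, 0, 17, 1850) (.node (.node .leaf (180362, 0, 13, 12118) .leaf) (180364, 0, 16,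 8457) (.node .leaf (180367, 0, 17, 102485) .leaf))) (180369, 0, 16, 170832) (.node (.node (.node .leaf (180370, 0, 15, 29339) .leaf) (180372, 0, 17, 179555) (.node .leaf (180375, 0, 17, 43998) .leaf)) (180376, 0, 16, 10466) (.node (.node .leaf (180379, 0, 17, 104894) .leaf) (180381, 0, 15, 3793) (.node .leaf (180382, 0, 16, 114573) .leaf))))))

/-- part of the orbit tree -/
def itp5_259 : Tree := (.node itp5_255 (180016, 0, 15, 226138) itp5_256)

/-- part of the orbit tree -/
def itp5_260 : Tree := (.node itp5_257 (180257, 0, 10, 140914) itp5_258)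

/-- part of the orbit tree -/
def itp5_261 : Tree := (.node (.node (.node (.node (.node (.node .leaf (180387, 0, 13, 123229) .leaf) (180389, 0, 15, 34907) (.node .leaf (180390, 0, 16, 155373) .leaf)) (180393, 0, 18, 96816) (.node (.node .leaf (180394, 0, 17, 52076) .leaf) (180396, 0, 14, 150949) (.node .leaf (180399, 0, 16, 261606) .leaf))) (180401, 0, 14, 255578) (.node (.node (.node .leaf (180402, 0, 17, 153350) .leaf) (180404, 0, 14, 135272) (.node .leaf (180407, 0, 16, 237611) .leaf)) (180408, 0, 14, 87528) (.node (.node .leaf (180411, 0, 16, 58548) .leaf) (180413, 0, 16, 95195) (.node .leaf (180414, 0, 14, 91605) .leaf)))) (180416, 0, 15, 12397) (.node (.node (.node (.node .leaf (180419, 0, 15, 220510) .leaf) (180421, 0, 17, 182833) (.node .leaf (180422, 0, 16, 88427) .leaf)) (180425, 0, 17, 24496) (.node (.node .leaf (180426, 0, 15, 126700) .leaf) (180428, 0, 16, 142550) (.node .leaf (180431, 0, 13, 116959) .leaf))) (180433, 0, 17, 181210) (.node (.node (.node .leaf (180434, 0, 15, 225926) .leaf) (180436, 0, 14, 189929)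 (.node .leaf (180439, 0, 13, 246104) .leaf)) (180440, 0, 17, 28776) (.node (.node .leaf (180443, 0, 14, 122339) .leaf) (180445, 0, 16, 22107) (.node .leaf (180446, 0, 16, 124679) .leaf))))) (180448, 0, 15, 233736) (.node (.node (.node (.node (.node .leaf (180451, 0, 17, 166875) .leaf) (180453, 0, 16, 254685) (.node .leaf (180454, 0, 17, 152222) .leaf)) (180457, 0, 16, 74426) (.node (.node .leaf (180458, 0, 16, 37862) .leaf) (180460, 0, 17, 66697) (.node .leaf (180463, 0, 18, 46549) .leaf))) (180465, 0, 15, 107435) (.node (.node (.node .leaf (180466, 0, 17, 135052) .leaf) (180468, 0, 15, 235747) (.node .leaf (180471, 0, 18, 141759) .leaf)) (180472, 0, 15, 68962) (.node (.node .leaf (180475, 0, 18, 185878) .leaf) (180477, 0, 14, 245520) (.node .leaf (180478, 0, 16, 134995) .leaf)))) (180481, 0, 9, 167923) (.node (.node (.node (.node .leaf (180482, 0, 16, 134000) .leaf) (180484, 0, 16, 236575) (.node .leaf (180487, 0, 12, 142659) .leaf)) (180488, 0, 18, 18957) (.node (.node .leaf (180491, 0, 15, 129614) .leaf) (180493, 0, 14,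 77741) (.node .leaf (180494, 0, 17, 74507) .leaf))) (180496, 0, 15, 6080) (.node (.node (.node .leaf (180499, 0, 15, 140456) .leaf) (180501, 0, 17, 52869) (.node .leaf (180502, 0, 11, 131739) .leaf)) (180505, 0, 17, 184894) (.node (.node .leaf (180506, 0, 16, 38682) .leaf) (180508, 0, 15, 65653) (.node .leaf (180511, 0, 9, 45353) .leaf))))))

/-- part of the orbit tree -/
def itp5_262 : Tree := (.node (.node (.node (.node (.node (.node .leaf (180514, 0, 15, 13381) .leaf) (180516, 0, 12, 188693) (.node .leaf (180519, 0, 16, 217161) .leaf)) (180520, 0, 18, 213496) (.node (.node .leaf (180523, 0, 15, 116168) .leaf) (180525, 0, 10, 235709) (.node .leaf (180526, 0, 16, 123899) .leaf))) (180528, 0, 17, 203829) (.node (.node (.node .leaf (180531, 0, 14, 219554) .leaf) (180533, 0, 16, 184013) (.node .leaf (180534, 0, 17, 161075) .leaf)) (180537, 0, 18, 121291) (.node (.node .leaf (180538, 0, 11, 125456) .leaf) (180540, 0, 16, 32127) (.node .leaf (180543, 0, 16, 117795) .leaf)))) (180545, 0, 12, 254630) (.node (.node (.node (.node .leaf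 (180546, 0, 19, 152570) .leaf) (180548, 0, 16, 80944) (.node .leaf (180551, 0, 16, 35955) .leaf)) (180552, 0, 16, 86292) (.node (.node .leaf (180555, 0, 13, 168136) .leaf) (180557, 0, 18, 260558) (.node .leaf (180558, 0, 16, 50811) .leaf))) (180560, 0, 14, 249214) (.node (.node (.node .leaf (180563, 0, 19, 183557) .leaf) (180565, 0, 12, 256845) (.node .leaf (180566, 0, 16, 136256) .leaf)) (180569, 0, 16, 112824) (.node (.node .leaf (180570, 0, 17, 53136) .leaf) (180572, 0, 18, 90621) (.node .leaf (180575, 0, 17, 53694) .leaf))))) (180577, 0, 11, 192128) (.node (.node (.node (.node (.node .leaf (180578, 0, 14, 220867) .leaf) (180580, 0, 13, 178591) (.node .leaf (180583, 0, 17, 198851) .leaf)) (180584, 0, 13, 11294) (.node (.node .leaf (180587, 0, 16, 105277) .leaf) (180589, 0, 17, 62011) (.node .leaf (180590, 0, 17, 113521) .leaf))) (180592, 0, 15, 176244) (.node (.node (.node .leaf (180595, 0, 10, 196904) .leaf) (180597, 0, 14, 45046) (.node .leaf (180598, 0, 10, 73653) .leaf)) (180601, 0, 14, 966) (.node (.node .leaf (180602,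 0, 16, 111258) .leaf) (180604, 0, 15, 9717) (.node .leaf (180607, 0, 16, 252491) .leaf)))) (180608, 0, 10, 152427) (.node (.node (.node (.node .leaf (180611, 0, 14, 84188) .leaf) (180613, 0, 17, 161112) (.node .leaf (180614, 0, 16, 102809) .leaf)) (180617, 0, 13, 57561) (.node (.node .leaf (180618, 0, 18, 86405) .leaf) (180620, 0, 17, 189476) (.node .leaf (180623, 0, 15, 218215) .leaf))) (180625, 0, 18, 155820) (.node (.node (.node .leaf (180626, 0, 17, 250095) .leaf) (180628, 0, 16, 178665) (.node .leaf (180631, 0, 17, 256988) .leaf)) (180632, 0, 18, 52993) (.node (.node .leaf (180635, 0, 16, 70929) .leaf) (180637, 0, 16, 59698) (.node .leaf (180638, 0, 12, 117844) .leaf))))))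

/-- part of the orbit tree -/
def itp5_263 : Tree := (.node (.node (.node (.node (.node (.node .leaf (180643, 0, 16, 171837) .leaf) (180645, 0, 13, 198738) (.node .leaf (180646, 0, 15, 170604) .leaf)) (180649, 0, 14, 105939) (.node (.node .leaf (180650, 0, 17, 11407) .leaf) (180652, 0, 10, 113632) (.node .leaf (180655, 0, 17, 24466) .leaf))) (180657, 0, 15, 197049) (.node (.node (.node .leaf (180658, 0, 17, 56090) .leaf) (180660, 0, 16, 206730) (.node .leaf (180663, 0, 14, 607) .leaf)) (180664, 0, 11, 111115) (.node (.node .leaf (180667, 0, 14, 855) .leaf) (180669, 0, 15, 227298) (.node .leaf (180670, 0, 18, 182177) .leaf)))) (180672, 0, 16, 234009) (.node (.node (.node (.node .leaf (180675, 0, 16, 244413) .leaf) (180677, 0, 16, 142802) (.node .leaf (180678, 0, 13, 236686) .leaf)) (180681, 0, 15, 47187) (.node (.node .leaf (180682, 0, 18, 59300) .leaf) (180684, 0, 16, 40544) (.node .leaf (180687, 0, 17, 77628) .leaf))) (180689, 0, 18, 140345) (.node (.node (.node .leaf (180690, 0, 16, 47721) .leaf) (180692, 0, 14, 119663)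 (.node .leaf (180695, 0, 16, 25388) .leaf)) (180696, 0, 16, 249812) (.node (.node .leaf (180699, 0, 18, 163735) .leaf) (180701, 0, 15, 202385) (.node .leaf (180702, 0, 16, 173778) .leaf))))) (180704, 0, 17, 227051) (.node (.node (.node (.node (.node .leaf (180707, 0, 14, 182199) .leaf) (180709, 0, 15, 16553) (.node .leaf (180710, 0, 16, 188804) .leaf)) (180713, 0, 17, 116057) (.node (.node .leaf (180714, 0, 17, 257105) .leaf) (180716, 0, 16, 123754) (.node .leaf (180719, 0, 15, 21046) .leaf))) (180721, 0, 16, 219443) (.node (.node (.node .leaf (180722, 0, 14, 190575) .leaf) (180724, 0, 17, 229120) (.node .leaf (180727, 0, 16, 183900) .leaf)) (180728, 0, 16, 50209) (.node (.node .leaf (180731, 0, 16, 23517) .leaf) (180733, 0, 13, 117938) (.node .leaf (180734, 0, 17, 32238) .leaf)))) (180736, 0, 16, 65997) (.node (.node (.node (.node .leaf (180737, 0, 18, 66039) .leaf) (180742, 0, 17, 38562) (.node .leaf (180743, 0, 17, 184204) .leaf)) (180746, 0, 17, 169004) (.node (.node .leaf (180747, 0, 16, 23053) .leaf) (180748, 0, 16, 234572)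 (.node .leaf (180749, 0, 18, 118114) .leaf))) (180754, 0, 16, 40777) (.node (.node (.node .leaf (180755, 0, 15, 181863) .leaf) (180756, 0, 16, 237799) (.node .leaf (180757, 0, 15, 213121) .leaf)) (180760, 0, 15, 236967) (.node (.node .leaf (180761, 0, 13, 89146) .leaf) (180766, 0, 16, 133832) (.node .leaf (180767, 0, 17, 13628) .leaf))))))

/-- part of the orbit tree -/
def itp5_264 : Tree := (.node (.node (.node (.node (.node (.node .leaf (180769, 0, 16, 140777) .leaf) (180774, 0, 16, 230242) (.node .leaf (180775, 0, 18, 221956) .leaf)) (180778, 0, 15, 106457) (.node (.node .leaf (180779, 0, 13, 75527) .leaf) (180780, 0, 14, 63199) (.node .leaf (180781, 0, 8, 45160) .leaf))) (180786, 0, 17, 115220) (.node (.node (.node .leaf (180787, 0, 16, 244589) .leaf) (180788, 0, 13, 29996) (.node .leaf (180789, 0, 14, 19316) .leaf)) (180792, 0, 17, 188589) (.node (.node .leaf (180793, 0, 17, 153551) .leaf) (180798, 0, 17, 227266) (.node .leaf (180799, 0, 14, 77548) .leaf)))) (180800, 0, 15, 166679) (.node (.node (.node (.node .leaf (180801,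 0, 14, 158577) .leaf) (180806, 0, 15, 52776) (.node .leaf (180807, 0, 14, 169734) .leaf)) (180810, 0, 19, 130730) (.node (.node .leaf (180811, 0, 13, 647) .leaf) (180812, 0, 17, 38828) (.node .leaf (180813, 0, 16, 30666) .leaf))) (180818, 0, 16, 51139) (.node (.node (.node .leaf (180819, 0, 16, 82689) .leaf) (180820, 0, 13, 51809) (.node .leaf (180821, 0, 18, 10759) .leaf)) (180824, 0, 15, 247085) (.node (.node .leaf (180825, 0, 16, 105475) .leaf) (180830, 0, 12, 245724) (.node .leaf (180831, 0, 16, 2924) .leaf))))) (180832, 0, 15, 98530) (.node (.node (.node (.node (.node .leaf (180833, 0, 13, 90244) .leaf) (180838, 0, 15, 59876) (.node .leaf (180839, 0, 15, 2434) .leaf)) (180842, 0, 17, 206499) (.node (.node .leaf (180843, 0, 14, 98189) .leaf) (180844, 0, 16, 176588) (.node .leaf (180845, 0, 17, 59618) .leaf))) (180850, 0, 18, 113353) (.node (.node (.node .leaf (180851, 0, 12, 149748) .leaf) (180852, 0, 17, 11686) (.node .leaf (180853, 0, 16, 160904) .leaf)) (180856, 0, 16, 178215) (.node (.node .leaf (180857, 0, 16, 81225)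 .leaf) (180862, 0, 16, 46121) (.node .leaf (180863, 0, 15, 21583) .leaf)))) (180866, 0, 18, 140990) (.node (.node (.node (.node .leaf (180867, 0, 18, 181976) .leaf) (180868, 0, 16, 217016) (.node .leaf (180869, 0, 18, 241630) .leaf)) (180872, 0, 13, 154424) (.node (.node .leaf (180873, 0, 16, 111461) .leaf) (180878, 0, 17, 248919) (.node .leaf (180879, 0, 15, 103801) .leaf))) (180880, 0, 15, 51026) (.node (.node (.node .leaf (180881, 0, 16, 126632) .leaf) (180886, 0, 14, 26568) (.node .leaf (180887, 0, 12, 198931) .leaf)) (180890, 0, 14, 247228) (.node (.node .leaf (180891, 0, 16, 170773) .leaf) (180892, 0, 17, 201333) .leaf)))))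

/-- part of the orbit tree -/
def itp5_265 : Tree := (.node itp5_261 (180513, 0, 14, 99334) itp5_262)

/-- part of the orbit tree -/
def itp5_266 : Tree := (.node itp5_263 (180768, 0, 13, 31943) itp5_264)

/-- part of the orbit tree -/
def itp5_267 : Tree := (.node itp5_259 (180112, 0, 17, 192421) itp5_260)

/-- part of the orbit tree -/
def itp5_268 : Tree := (.node itp5_265 (180640, 0, 17, 258922) itp5_266)

/-- part of the orbit tree -/
def itp5_269 : Tree := (.node (.node (.node (.node (.node (.node .leaf (180898, 0, 18, 9436) .leaf) (180899, 0, 16, 163314) (.node .leaf (180900, 0, 15, 111539) .leaf)) (180901, 0, 17, 256669) (.node (.node .leaf (180904, 0, 13, 206386) .leaf) (180905, 0, 17, 178320) (.node .leaf (180910, 0, 18, 209392) .leaf))) (180911, 0, 18, 250262) (.node (.node (.node .leaf (180912, 0, 15, 132411) .leaf) (180913, 0, 16, 189789) (.node .leaf (180918, 0, 16, 11575) .leaf)) (180919, 0, 16, 232539) (.node (.node .leaf (180922, 0, 17, 178358) .leaf) (180923, 0, 16, 57752) (.node .leaf (180924, 0, 17, 6528)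 .leaf)))) (180925, 0, 12, 63974) (.node (.node (.node (.node .leaf (180930, 0, 12, 65884) .leaf) (180931, 0, 16, 219250) (.node .leaf (180932, 0, 16, 38451) .leaf)) (180933, 0, 17, 50520) (.node (.node .leaf (180936, 0, 17, 145797) .leaf) (180937, 0, 16, 186851) (.node .leaf (180942, 0, 19, 234717) .leaf))) (180943, 0, 14, 241893) (.node (.node (.node .leaf (180944, 0, 17, 156744) .leaf) (180945, 0, 16, 164910) (.node .leaf (180950, 0, 12, 67767) .leaf)) (180951, 0, 10, 257320) (.node (.node .leaf (180954, 0, 16, 236854) .leaf) (180955, 0, 12, 127379) (.node .leaf (180956, 0, 16, 30963) .leaf))))) (180957, 0, 10, 39061) (.node (.node (.node (.node (.node .leaf (180962, 0, 16, 31830) .leaf) (180963, 0, 13, 140664) (.node .leaf (180964, 0, 15, 125753) .leaf)) (180965, 0, 16, 242199) (.node (.node .leaf (180968, 0, 16, 229048) .leaf) (180969, 0, 19, 119318) (.node .leaf (180974, 0, 18, 190935) .leaf))) (180975, 0, 15, 47888) (.node (.node (.node .leaf (180976, 0, 9, 94141) .leaf) (180977, 0, 15, 244732) (.node .leaf (180982, 0,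 12, 30141) .leaf)) (180983, 0, 18, 142483) (.node (.node .leaf (180986, 0, 17, 137728) .leaf) (180987, 0, 17, 195174) (.node .leaf (180988, 0, 15, 227155) .leaf)))) (180989, 0, 14, 77437) (.node (.node (.node (.node .leaf (180992, 0, 15, 148453) .leaf) (180993, 0, 14, 245504) (.node .leaf (180998, 0, 18, 207587) .leaf)) (180999, 0, 16, 141423) (.node (.node .leaf (181002, 0, 16, 79448) .leaf) (181003, 0, 17, 48622) (.node .leaf (181004, 0, 16, 24414) .leaf))) (181005, 0, 18, 76417) (.node (.node (.node .leaf (181010, 0, 15, 30890) .leaf) (181011, 0, 17, 139652) (.node .leaf (181012, 0, 16, 126917) .leaf)) (181013, 0, 16, 58101) (.node (.node .leaf (181016, 0, 13, 138792) .leaf) (181017, 0, 16, 74602) (.node .leaf (181022, 0, 16, 191787) .leaf))))))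

/-- part of the orbit tree -/
def itp5_270 : Tree := (.node (.node (.node (.node (.node (.node .leaf (181024, 0, 17, 83984) .leaf) (181025, 0, 14, 108662) (.node .leaf (181030, 0, 14, 68683) .leaf)) (181031, 0, 17, 218469) (.node (.node .leaf (181034, 0, 16, 146861) .leaf) (181035, 0, 14, 187851) (.node .leaf (181036, 0, 15, 218283) .leaf))) (181037, 0, 15, 22411) (.node (.node (.node .leaf (181042, 0, 14, 66976) .leaf) (181043, 0, 14, 163846) (.node .leaf (181044, 0, 16, 37583) .leaf)) (181045, 0, 13, 256256) (.node (.node .leaf (181048, 0, 13, 132942) .leaf) (181049, 0, 18, 24160) (.node .leaf (181054, 0, 14, 31963) .leaf)))) (181055, 0, 15, 117007) (.node (.node (.node (.node .leaf (181056, 0, 17, 76131) .leaf) (181057, 0, 16, 116997) (.node .leaf (181062, 0, 13, 16485) .leaf)) (181063, 0, 17, 40963) (.node (.node .leaf (181066, 0, 18, 154846) .leaf) (181067, 0, 15, 58724) (.node .leaf (181068, 0, 17, 207653) .leaf))) (181069, 0, 15, 251326) (.node (.node (.node .leaf (181074, 0, 19, 8224) .leaf) (181075, 0, 16, 188789)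 (.node .leaf (181076, 0, 16, 223253) .leaf)) (181077, 0, 12, 231539) (.node (.node .leaf (181080, 0, 14, 95406) .leaf) (181081, 0, 15, 97248) (.node .leaf (181086, 0, 17, 7592) .leaf))))) (181087, 0, 13, 60559) (.node (.node (.node (.node (.node .leaf (181088, 0, 16, 50094) .leaf) (181089, 0, 10, 180976) (.node .leaf (181094, 0, 14, 87233) .leaf)) (181095, 0, 14, 240630) (.node (.node .leaf (181098, 0, 17, 87851) .leaf) (181099, 0, 14, 104558) (.node .leaf (181100, 0, 17, 15917) .leaf))) (181101, 0, 14, 3841) (.node (.node (.node .leaf (181106, 0, 13, 89386) .leaf) (181107, 0, 16, 125568) (.node .leaf (181108, 0, 16, 25568) .leaf)) (181109, 0, 17, 168811) (.node (.node .leaf (181112, 0, 16, 155588) .leaf) (181113, 0, 16, 171837) (.node .leaf (181118, 0, 18, 202333) .leaf)))) (181119, 0, 16, 259643) (.node (.node (.node (.node .leaf (181122, 0, 17, 99530) .leaf) (181123, 0, 16, 91308) (.node .leaf (181124, 0, 17, 60876) .leaf)) (181125, 0, 18, 3498) (.node (.node .leaf (181128, 0, 17, 179419) .leaf) (181129, 0, 16, 58869) (.node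 .leaf (181134, 0, 15, 235633) .leaf))) (181135, 0, 16, 94874) (.node (.node (.node .leaf (181136, 0, 17, 8369) .leaf) (181137, 0, 17, 150748) (.node .leaf (181142, 0, 14, 247228) .leaf)) (181143, 0, 17, 257776) (.node (.node .leaf (181146, 0, 16, 205407) .leaf) (181147, 0, 15, 97137) (.node .leaf (181148, 0, 19, 45057) .leaf))))))

/-- part of the orbit tree -/
def itp5_271 : Tree := (.node (.node (.node (.node (.node (.node .leaf (181154, 0, 15, 49983) .leaf) (181155, 0, 17, 170513) (.node .leaf (181156, 0, 18, 255545) .leaf)) (181157, 0, 12, 198239) (.node (.node .leaf (181160, 0, 16, 129666) .leaf) (181161, 0, 15, 72420) (.node .leaf (181166, 0, 17, 37764) .leaf))) (181167, 0, 17, 29666) (.node (.node (.node .leaf (181168, 0, 17, 89531) .leaf) (181169, 0, 16, 197781) (.node .leaf (181174, 0, 16, 52809) .leaf)) (181175, 0, 15, 11823) (.node (.node .leaf (181178, 0, 16, 185074) .leaf) (181179, 0, 16, 1659) (.node .leaf (181180, 0, 15, 247866) .leaf)))) (181181, 0, 19, 102676) (.node (.node (.node (.node .leaf (181186, 0, 12,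 192076) .leaf) (181187, 0, 13, 134698) (.node .leaf (181188, 0, 18, 231242) .leaf)) (181189, 0, 15, 223020) (.node (.node .leaf (181192, 0, 13, 189521) .leaf) (181193, 0, 16, 48511) (.node .leaf (181198, 0, 16, 62199) .leaf))) (181199, 0, 14, 4753) (.node (.node (.node .leaf (181200, 0, 14, 116284) .leaf) (181201, 0, 16, 75354) (.node .leaf (181206, 0, 15, 126804) .leaf)) (181207, 0, 14, 243322) (.node (.node .leaf (181210, 0, 16, 177025) .leaf) (181211, 0, 11, 152551) (.node .leaf (181212, 0, 16, 252551) .leaf))))) (181213, 0, 19, 46228) (.node (.node (.node (.node (.node .leaf (181218, 0, 18, 124345) .leaf) (181219, 0, 14, 67039) (.node .leaf (181220, 0, 13, 68826) .leaf)) (181221, 0, 15, 27865) (.node (.node .leaf (181224, 0, 16, 235867) .leaf) (181225, 0, 16, 159842) (.node .leaf (181230, 0, 15, 260354) .leaf))) (181231, 0, 16, 203108) (.node (.node (.node .leaf (181232, 0, 14, 66865) .leaf) (181233, 0, 11, 220191) (.node .leaf (181238, 0, 11, 238799) .leaf)) (181239, 0, 15, 183152) (.node (.node .leaf (181242, 0, 15, 133087)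 .leaf) (181243, 0, 15, 24305) (.node .leaf (181244, 0, 18, 233648) .leaf)))) (181245, 0, 16, 12564) (.node (.node (.node (.node .leaf (181248, 0, 16, 55113) .leaf) (181250, 0, 18, 123239) (.node .leaf (181253, 0, 17, 143142) .leaf)) (181255, 0, 18, 116564) (.node (.node .leaf (181257, 0, 17, 47783) .leaf) (181259, 0, 17, 213650) (.node .leaf (181260, 0, 14, 183282) .leaf))) (181262, 0, 16, 236503) (.node (.node (.node .leaf (181265, 0, 16, 151418) .leaf) (181267, 0, 15, 204639) (.node .leaf (181268, 0, 17, 169535) .leaf)) (181270, 0, 15, 247322) (.node (.node .leaf (181272, 0, 16, 35460) .leaf) (181274, 0, 19, 121505) (.node .leaf (181277, 0, 15, 45900) .leaf))))))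

/-- part of the orbit tree -/
def itp5_272 : Tree := (.node (.node (.node (.node (.node (.node .leaf (181280, 0, 17, 253116) .leaf) (181282, 0, 16, 40045) (.node .leaf (181285, 0, 16, 217644) .leaf)) (181287, 0, 18, 153052) (.node (.node .leaf (181289, 0, 13, 116653) .leaf) (181291, 0, 16, 18791) (.node .leaf (181292, 0, 11, 114695) .leaf))) (181294, 0, 18, 133612) (.node (.node (.node .leaf (181297, 0, 17, 220103) .leaf) (181299, 0, 16, 5290) (.node .leaf (181300, 0, 10, 228852) .leaf)) (181302, 0, 17, 52719) (.node (.node .leaf (181304, 0, 17, 229745) .leaf) (181306, 0, 16, 184660) (.node .leaf (181309, 0, 16, 118342) .leaf)))) (181311, 0, 16, 133137) (.node (.node (.node (.node .leaf (181312, 0, 16, 245199) .leaf) (181314, 0, 17, 191978) (.node .leaf (181317, 0, 14, 161708) .leaf)) (181319, 0, 12, 144559) (.node (.node .leaf (181321, 0, 18, 57901) .leaf) (181323, 0, 17, 199263) (.node .leaf (181324, 0, 12, 106868) .leaf))) (181326, 0, 15, 61777) (.node (.node (.node .leaf (181329, 0, 16, 75260) .leaf) (181331, 0, 14, 30169)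 (.node .leaf (181332, 0, 15, 130233) .leaf)) (181334, 0, 13, 110598) (.node (.node .leaf (181336, 0, 16, 52725) .leaf) (181338, 0, 13, 206215) (.node .leaf (181341, 0, 16, 60358) .leaf))))) (181343, 0, 16, 197556) (.node (.node (.node (.node (.node .leaf (181344, 0, 14, 208021) .leaf) (181346, 0, 13, 50407) (.node .leaf (181349, 0, 16, 199334) .leaf)) (181351, 0, 14, 81754) (.node (.node .leaf (181353, 0, 17, 160708) .leaf) (181355, 0, 8, 161621) (.node .leaf (181356, 0, 14, 174721) .leaf))) (181358, 0, 16, 260772) (.node (.node (.node .leaf (181361, 0, 15, 197453) .leaf) (181363, 0, 17, 60223) (.node .leaf (181364, 0, 17, 206206) .leaf)) (181366, 0, 15, 52492) (.node (.node .leaf (181368, 0, 13, 110847) .leaf) (181370, 0, 15, 153741) (.node .leaf (181373, 0, 18, 104140) .leaf)))) (181375, 0, 15, 163518) (.node (.node (.node (.node .leaf (181377, 0, 17, 172069) .leaf) (181379, 0, 16, 258048) (.node .leaf (181380, 0, 17, 162144) .leaf)) (181382, 0, 14, 11795) (.node (.node .leaf (181384, 0, 14, 87008) .leaf) (181386, 0, 17,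 179090) (.node .leaf (181389, 0, 16, 48286) .leaf))) (181391, 0, 16, 126139) (.node (.node (.node .leaf (181392, 0, 17, 14358) .leaf) (181394, 0, 15, 10232) (.node .leaf (181397, 0, 16, 256441) .leaf)) (181399, 0, 16, 459) (.node (.node .leaf (181401, 0, 13, 196072) .leaf) (181403, 0, 16, 169034) (.node .leaf (181404, 0, 16, 140461) .leaf))))))

/-- part of the orbit tree -/
def itp5_273 : Tree := (.node itp5_269 (181023, 0, 13, 235336) itp5_270)

/-- part of the orbit tree -/
def itp5_274 : Tree := (.node itp5_271 (181279, 0, 17, 66532) itp5_272)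

/-- part of the orbit tree -/
def itp5_275 : Tree := (.node (.node (.node (.node (.node (.node .leaf (181409, 0, 17, 171352) .leaf) (181411, 0, 15, 64501) (.node .leaf (181412, 0, 15, 179051) .leaf)) (181414, 0, 17, 8880) (.node (.node .leaf (181416, 0, 17, 12010) .leaf) (181418, 0, 17, 146955) (.node .leaf (181421, 0, 14, 243563) .leaf))) (181423, 0, 13, 254123) (.node (.node (.node .leaf (181424, 0, 17, 209891) .leaf) (181426, 0, 16, 88818) (.node .leaf (181429, 0, 14, 169139) .leaf)) (181431, 0, 17, 97473) (.node (.node .leaf (181433, 0, 16, 128541) .leaf) (181435, 0, 15, 42552) (.node .leaf (181436, 0, 18, 9985) .leaf)))) (181438, 0, 18, 32637) (.node (.node (.node (.node .leaf (181441, 0, 17, 243928) .leaf) (181443, 0, 18, 20650) (.node .leaf (181444, 0, 16, 70630) .leaf)) (181446, 0, 15, 30361) (.node (.node .leaf (181448, 0, 18, 68458) .leaf) (181450, 0, 14, 189208) (.node .leaf (181453, 0, 13, 77145) .leaf))) (181455, 0, 12, 181547) (.node (.node (.node .leaf (181456, 0, 17, 235264) .leaf) (181458, 0, 13, 32626) (.node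 .leaf (181461, 0, 17, 241971) .leaf)) (181463, 0, 16, 187376) (.node (.node .leaf (181465, 0, 16, 74930) .leaf) (181467, 0, 17, 183488) (.node .leaf (181468, 0, 17, 85547) .leaf))))) (181470, 0, 16, 191219) (.node (.node (.node (.node (.node .leaf (181473, 0, 17, 180566) .leaf) (181475, 0, 17, 77216) (.node .leaf (181476, 0, 15, 137235) .leaf)) (181478, 0, 15, 68499) (.node (.node .leaf (181480, 0, 17, 1192) .leaf) (181482, 0, 17, 237074) (.node .leaf (181485, 0, 14, 20563) .leaf))) (181487, 0, 18, 243745) (.node (.node (.node .leaf (181488, 0, 17, 22885) .leaf) (181490, 0, 18, 66168) (.node .leaf (181493, 0, 13, 183353) .leaf)) (181495, 0, 16, 118789) (.node (.node .leaf (181497, 0, 14, 171163) .leaf) (181499, 0, 15, 249022) (.node .leaf (181500, 0, 15, 148958) .leaf)))) (181502, 0, 15, 235513) (.node (.node (.node (.node .leaf (181504, 0, 14, 192246) .leaf) (181506, 0, 18, 67204) (.node .leaf (181509, 0, 14, 182469) .leaf)) (181511, 0, 14, 73911) (.node (.node .leaf (181513, 0, 15, 23876) .leaf) (181515, 0, 18, 57574) (.node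 .leaf (181516, 0, 17, 92550) .leaf))) (181518, 0, 18, 234245) (.node (.node (.node .leaf (181521, 0, 17, 180526) .leaf) (181523, 0, 17, 76124) (.node .leaf (181524, 0, 16, 190237) .leaf)) (181526, 0, 15, 69487) (.node (.node .leaf (181528, 0, 15, 29340) .leaf) (181530, 0, 15, 236270) (.node .leaf (181533, 0, 17, 258485) .leaf))))))

/-- part of the orbit tree -/
def itp5_276 : Tree := (.node (.node (.node (.node (.node (.node .leaf (181536, 0, 12, 32456) .leaf) (181538, 0, 16, 77549) (.node .leaf (181541, 0, 14, 243151) .leaf)) (181543, 0, 16, 128936) (.node (.node .leaf (181545, 0, 15, 178998) .leaf) (181547, 0, 11, 256787) (.node .leaf (181548, 0, 18, 67197) .leaf))) (181550, 0, 13, 209494) (.node (.node (.node .leaf (181553, 0, 17, 244772) .leaf) (181555, 0, 15, 21590) (.node .leaf (181556, 0, 12, 147390) .leaf)) (181558, 0, 13, 29285) (.node (.node .leaf (181560, 0, 14, 69526) .leaf) (181562, 0, 14, 190436) (.node .leaf (181565, 0, 16, 76197) .leaf)))) (181567, 0, 16, 109157) (.node (.node (.node (.node .leaf (181568, 0,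 15, 8123) .leaf) (181570, 0, 18, 85918) (.node .leaf (181573, 0, 17, 168015) .leaf)) (181575, 0, 18, 104155) (.node (.node .leaf (181577, 0, 16, 186949) .leaf) (181579, 0, 14, 232032) (.node .leaf (181580, 0, 16, 9213) .leaf))) (181582, 0, 18, 248719) (.node (.node (.node .leaf (181585, 0, 14, 165768) .leaf) (181587, 0, 17, 94678) (.node .leaf (181588, 0, 14, 180119) .leaf)) (181590, 0, 16, 200424) (.node (.node .leaf (181592, 0, 13, 17014) .leaf) (181594, 0, 17, 246372) (.node .leaf (181597, 0, 17, 3109) .leaf))))) (181599, 0, 12, 255063) (.node (.node (.node (.node (.node .leaf (181600, 0, 14, 248694) .leaf) (181602, 0, 13, 148587) (.node .leaf (181605, 0, 15, 249099) .leaf)) (181607, 0, 18, 1335) (.node (.node .leaf (181609, 0, 12, 96452) .leaf) (181611, 0, 17, 168118) (.node .leaf (181612, 0, 17, 89847) .leaf))) (181614, 0, 18, 22736) (.node (.node (.node .leaf (181617, 0, 17, 101501) .leaf) (181619, 0, 17, 3292) (.node .leaf (181620, 0, 17, 246429) .leaf)) (181622, 0, 13, 1309) (.node (.node .leaf (181624, 0, 15, 87836)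 .leaf) (181626, 0, 16, 180078) (.node .leaf (181629, 0, 16, 233670) .leaf)))) (181631, 0, 17, 170333) (.node (.node (.node (.node .leaf (181633, 0, 17, 66129) .leaf) (181635, 0, 18, 61379) (.node .leaf (181636, 0, 15, 205186) .leaf)) (181638, 0, 11, 35633) (.node (.node .leaf (181640, 0, 14, 111619) .leaf) (181642, 0, 16, 169866) (.node .leaf (181645, 0, 18, 102960) .leaf))) (181647, 0, 17, 162370) (.node (.node (.node .leaf (181648, 0, 18, 236130) .leaf) (181650, 0, 14, 182855) (.node .leaf (181653, 0, 15, 200282) .leaf)) (181655, 0, 18, 135938) (.node (.node .leaf (181657, 0, 16, 105435) .leaf) (181659, 0, 14, 160681) (.node .leaf (181660, 0, 16, 114152) .leaf))))))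

/-- part of the orbit tree -/
def itp5_277 : Tree := (.node (.node (.node (.node (.node (.node .leaf (181665, 0, 17, 162491) .leaf) (181667, 0, 15, 219521) (.node .leaf (181668, 0, 17, 184545) .leaf)) (181670, 0, 11, 229572) (.node (.node .leaf (181672, 0, 16, 52314) .leaf) (181674, 0, 18, 105599) (.node .leaf (181677, 0, 18, 61242) .leaf))) (181679, 0, 14, 198472) (.node (.node (.node .leaf (181680, 0, 17, 37271) .leaf) (181682, 0, 14, 115122) (.node .leaf (181685, 0, 16, 18642) .leaf)) (181687, 0, 17, 71927) (.node (.node .leaf (181689, 0, 16, 59089) .leaf) (181691, 0, 18, 200355) (.node .leaf (181692, 0, 18, 49378) .leaf)))) (181694, 0, 17, 206992) (.node (.node (.node (.node .leaf (181697, 0, 16, 157911) .leaf) (181699, 0, 14, 46921) (.node .leaf (181700, 0, 12, 227592) .leaf)) (181702, 0, 18, 37242) (.node (.node .leaf (181704, 0, 15, 44329) .leaf) (181706, 0, 18, 130316) (.node .leaf (181709, 0, 18, 117434) .leaf))) (181711, 0, 17, 74825) (.node (.node (.node .leaf (181712, 0, 14, 61668) .leaf) (181714, 0, 18, 39057)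 (.node .leaf (181717, 0, 17, 10657) .leaf)) (181719, 0, 15, 96644) (.node (.node .leaf (181721, 0, 14, 115537) .leaf) (181723, 0, 17, 222527) (.node .leaf (181724, 0, 18, 124258) .leaf))))) (181726, 0, 18, 244858) (.node (.node (.node (.node (.node .leaf (181729, 0, 12, 139825) .leaf) (181731, 0, 10, 13063) (.node .leaf (181732, 0, 15, 132098) .leaf)) (181734, 0, 16, 59970) (.node (.node .leaf (181736, 0, 16, 37251) .leaf) (181738, 0, 8, 194297) (.node .leaf (181741, 0, 19, 229273) .leaf))) (181743, 0, 16, 143292) (.node (.node (.node .leaf (181744, 0, 17, 134633) .leaf) (181746, 0, 16, 124315) (.node .leaf (181749, 0, 17, 205396) .leaf)) (181751, 0, 16, 160369) (.node (.node .leaf (181753, 0, 15, 48731) .leaf) (181755, 0, 17, 28362) (.node .leaf (181756, 0, 16, 39016) .leaf)))) (181758, 0, 18, 46991) (.node (.node (.node (.node .leaf (181764, 0, 14, 29476) .leaf) (181765, 0, 17, 8828) (.node .leaf (181766, 0, 18, 236374) .leaf)) (181767, 0, 14, 115320) (.node (.node .leaf (181768, 0, 18, 188065) .leaf) (181769, 0, 18, 147143)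 (.node .leaf (181770, 0, 15, 69335) .leaf))) (181771, 0, 15, 224994) (.node (.node (.node .leaf (181776, 0, 19, 164716) .leaf) (181777, 0, 17, 156426) (.node .leaf (181778, 0, 16, 250697) .leaf)) (181779, 0, 16, 209711) (.node (.node .leaf (181788, 0, 15, 192334) .leaf) (181789, 0, 15, 46688) (.node .leaf (181790, 0, 14, 118770) .leaf))))))

/-- part of the orbit tree -/
def itp5_278 : Tree := (.node (.node (.node (.node (.node (.node .leaf (181796, 0, 13, 69166) .leaf) (181797, 0, 18, 218880) (.node .leaf (181798, 0, 17, 170442) .leaf)) (181799, 0, 17, 162220) (.node (.node .leaf (181800, 0, 15, 236463) .leaf) (181801, 0, 15, 115329) (.node .leaf (181802, 0, 10, 34161) .leaf))) (181803, 0, 13, 25879) (.node (.node (.node .leaf (181808, 0, 16, 67525) .leaf) (181809, 0, 17, 220907) (.node .leaf (181810, 0, 16, 55484) .leaf)) (181811, 0, 18, 14554) (.node (.node .leaf (181820, 0, 15, 234052) .leaf) (181821, 0, 14, 117610) (.node .leaf (181822, 0, 18, 31286) .leaf)))) (181823, 0, 17, 140385) (.node (.node (.node (.node .leaf (181828,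 0, 13, 11182) .leaf) (181829, 0, 14, 160384) (.node .leaf (181830, 0, 19, 246748) .leaf)) (181831, 0, 15, 137439) (.node (.node .leaf (181832, 0, 17, 179759) .leaf) (181833, 0, 18, 87105) (.node .leaf (181834, 0, 18, 58370) .leaf))) (181835, 0, 15, 1124) (.node (.node (.node .leaf (181840, 0, 16, 8773) .leaf) (181841, 0, 15, 67980) (.node .leaf (181842, 0, 18, 248375) .leaf)) (181843, 0, 16, 103193) (.node (.node .leaf (181852, 0, 16, 259409) .leaf) (181853, 0, 16, 61162) (.node .leaf (181854, 0, 17, 173428) .leaf))))) (181855, 0, 15, 148754) (.node (.node (.node (.node (.node .leaf (181860, 0, 18, 41833) .leaf) (181861, 0, 17, 200586) (.node .leaf (181862, 0, 14, 179926) .leaf)) (181863, 0, 14, 59384) (.node (.node .leaf (181864, 0, 16, 246565) .leaf) (181865, 0, 17, 104971) (.node .leaf (181866, 0, 16, 258039) .leaf))) (181867, 0, 15, 200593) (.node (.node (.node .leaf (181872, 0, 17, 89935) .leaf) (181873, 0, 16, 131705) (.node .leaf (181874, 0, 15, 177981) .leaf)) (181875, 0, 16, 217692) (.node (.node .leaf (181884, 0,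 15, 248526) .leaf) (181885, 0, 16, 7874) (.node .leaf (181886, 0, 15, 110209) .leaf)))) (181887, 0, 14, 162706) (.node (.node (.node (.node .leaf (181888, 0, 17, 158771) .leaf) (181889, 0, 12, 166997) (.node .leaf (181890, 0, 17, 152610) .leaf)) (181891, 0, 18, 3340) (.node (.node .leaf (181900, 0, 16, 28808) .leaf) (181901, 0, 17, 37102) (.node .leaf (181902, 0, 15, 49571) .leaf))) (181903, 0, 18, 170125) (.node (.node (.node .leaf (181908, 0, 17, 112059) .leaf) (181909, 0, 17, 52515) (.node .leaf (181910, 0, 17, 155081) .leaf)) (181911, 0, 15, 105734) (.node (.node .leaf (181912, 0, 17, 204858) .leaf) (181913, 0, 14, 184728) .leaf)))))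

/-- part of the orbit tree -/
def itp5_279 : Tree := (.node itp5_275 (181535, 0, 15, 244957) itp5_276)

/-- part of the orbit tree -/
def itp5_280 : Tree := (.node itp5_277 (181791, 0, 17, 77716) itp5_278)

/-- part of the orbit tree -/
def itp5_281 : Tree := (.node itp5_273 (181149, 0, 16, 20583) itp5_274)

/-- part of the orbit tree -/
def itp5_282 : Tree := (.node itp5_279 (181662, 0, 16, 152986) itp5_280)

/-- part of the orbit tree -/
def itp5_283 : Tree := (.node itp5_267 (180384, 0, 15, 20766) itp5_268)

/-- part of the orbit tree -/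
def itp5_284 : Tree := (.node itp5_281 (181406, 0, 16, 176761) itp5_282)

/-- part of the orbit tree -/
def itp5_285 : Tree := (.node (.node (.node (.node (.node (.node .leaf (181915, 0, 18, 229821) .leaf) (181920, 0, 14, 49498) (.node .leaf (181921, 0, 14, 170100) .leaf)) (181922, 0, 16, 14307) (.node (.node .leaf (181923, 0, 15, 94214) .leaf) (181932, 0, 17, 152795) (.node .leaf (181933, 0, 16, 236315) .leaf))) (181934, 0, 13, 142168) (.node (.node (.node .leaf (181935, 0, 15, 183102) .leaf) (181940, 0, 16, 51377) (.node .leaf (181941, 0, 14, 247510) .leaf)) (181942, 0, 17, 204995) (.node (.node .leaf (181943, 0, 15, 169715) .leaf) (181944, 0, 17, 80395) (.node .leaf (181945, 0, 16, 1054) .leaf)))) (181946, 0, 15, 111938) (.node (.node (.node (.node .leaf (181947, 0, 16, 35400) .leaf) (181952, 0, 14, 124122) (.node .leaf (181953, 0, 15, 124627) .leaf)) (181954, 0, 16, 134312) (.node (.node .leaf (181955, 0, 9, 21894) .leaf) (181964, 0, 19, 203278) (.node .leaf (181965, 0, 13, 260712) .leaf))) (181966, 0, 14, 150059) (.node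 (.node (.node .leaf (181967, 0, 17, 180231) .leaf) (181972, 0, 16, 214979) (.node .leaf (181973, 0, 17, 242719) .leaf)) (181974, 0, 16, 132419) (.node (.node .leaf (181975, 0, 17, 23661) .leaf) (181976, 0, 17, 88952) (.node .leaf (181977, 0, 18, 74142) .leaf))))) (181978, 0, 14, 2909) (.node (.node (.node (.node (.node .leaf (181979, 0, 15, 182764) .leaf) (181984, 0, 17, 134464) (.node .leaf (181985, 0, 17, 180478) .leaf)) (181986, 0, 18, 225698) (.node (.node .leaf (181987, 0, 17, 75916) .leaf) (181996, 0, 17, 134225) (.node .leaf (181997, 0, 19, 21887) .leaf))) (181998, 0, 17, 123939) (.node (.node (.node .leaf (181999, 0, 16, 106936) .leaf) (182004, 0, 16, 36923) (.node .leaf (182005, 0, 10, 182549) .leaf)) (182006, 0, 17, 227401) (.node (.node .leaf (182007, 0, 18, 74087) .leaf) (182008, 0, 14, 132538) (.node .leaf (182009, 0, 17, 176363) .leaf)))) (182010, 0, 17, 196776) (.node (.node (.node (.node .leaf (182011, 0, 14, 254158) .leaf) (182020, 0, 16, 38087) (.node .leaf (182021, 0, 17, 229384) .leaf)) (182022, 0, 17, 228533)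 (.node (.node .leaf (182023, 0, 11, 184365) .leaf) (182024, 0, 16, 97493) (.node .leaf (182025, 0, 15, 105651) .leaf))) (182026, 0, 17, 125236) (.node (.node (.node .leaf (182027, 0, 17, 52374) .leaf) (182032, 0, 14, 40236) (.node .leaf (182033, 0, 16, 115070) .leaf)) (182034, 0, 16, 28989) (.node (.node .leaf (182035, 0, 16, 76912) .leaf) (182044, 0, 19, 133293) (.node .leaf (182045, 0, 15, 253381) .leaf))))))

/-- part of the orbit tree -/
def itp5_286 : Tree := (.node (.node (.node (.node (.node (.node .leaf (182047, 0, 15, 244209) .leaf) (182052, 0, 15, 125389) (.node .leaf (182053, 0, 16, 241891) .leaf)) (182054, 0, 17, 80830) (.node (.node .leaf (182055, 0, 17, 22673) .leaf) (182056, 0, 17, 161568) (.node .leaf (182057, 0, 19, 169798) .leaf))) (182058, 0, 14, 206597) (.node (.node (.node .leaf (182059, 0, 16, 183568) .leaf) (182064, 0, 17, 142061) (.node .leaf (182065, 0, 17, 243976) .leaf)) (182066, 0, 16, 228040) (.node (.node .leaf (182067, 0, 16, 236206) .leaf) (182076, 0, 17, 226727) (.node .leaf (182077, 0, 13,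 54832) .leaf)))) (182078, 0, 15, 91763) (.node (.node (.node (.node .leaf (182079, 0, 15, 99861) .leaf) (182084, 0, 15, 2792) (.node .leaf (182085, 0, 16, 60046) .leaf)) (182086, 0, 15, 88781) (.node (.node .leaf (182087, 0, 16, 113323) .leaf) (182088, 0, 14, 136787) (.node .leaf (182089, 0, 15, 226) .leaf))) (182090, 0, 18, 214646) (.node (.node (.node .leaf (182091, 0, 17, 256144) .leaf) (182096, 0, 19, 50598) (.node .leaf (182097, 0, 16, 171144) .leaf)) (182098, 0, 15, 208340) (.node (.node .leaf (182099, 0, 17, 95482) .leaf) (182108, 0, 13, 22309) (.node .leaf (182109, 0, 17, 46915) .leaf))))) (182110, 0, 15, 67328) (.node (.node (.node (.node (.node .leaf (182111, 0, 14, 124774) .leaf) (182116, 0, 17, 196893) (.node .leaf (182117, 0, 18, 256105) .leaf)) (182118, 0, 12, 151864) (.node (.node .leaf (182119, 0, 13, 27) .leaf) (182120, 0, 15, 73126) (.node .leaf (182121, 0, 16, 97768) .leaf))) (182122, 0, 15, 52404) (.node (.node (.node .leaf (182123, 0, 18, 44517) .leaf) (182128, 0, 17, 112812) (.node .leaf (182129, 0, 15,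 106509) .leaf)) (182130, 0, 10, 4174) (.node (.node .leaf (182131, 0, 14, 61480) .leaf) (182140, 0, 19, 220368) (.node .leaf (182141, 0, 16, 244918) .leaf)))) (182142, 0, 16, 134389) (.node (.node (.node (.node .leaf (182143, 0, 16, 171121) .leaf) (182144, 0, 17, 89011) (.node .leaf (182145, 0, 17, 77345) .leaf)) (182146, 0, 16, 40546) (.node (.node .leaf (182147, 0, 16, 32260) .leaf) (182156, 0, 16, 250620) (.node .leaf (182157, 0, 16, 209562) .leaf))) (182158, 0, 19, 9792) (.node (.node (.node .leaf (182159, 0, 13, 156351) .leaf) (182164, 0, 13, 86616) (.node .leaf (182165, 0, 16, 225111) .leaf)) (182166, 0, 17, 188180) (.node (.node .leaf (182167, 0, 16, 58116) .leaf) (182168, 0, 17, 247769) (.node .leaf (182169, 0, 16, 106231) .leaf))))))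

/-- part of the orbit tree -/
def itp5_287 : Tree := (.node (.node (.node (.node (.node (.node .leaf (182171, 0, 16, 161413) .leaf) (182176, 0, 15, 181682) (.node .leaf (182177, 0, 17, 140756) .leaf)) (182178, 0, 15, 249547) (.node (.node .leaf (182179, 0, 16, 226801) .leaf) (182188, 0, 14, 176952) (.node .leaf (182189, 0, 17, 14703) .leaf))) (182190, 0, 16, 88906) (.node (.node (.node .leaf (182191, 0, 14, 92490) .leaf) (182196, 0, 15, 12114) (.node .leaf (182197, 0, 17, 25762) .leaf)) (182198, 0, 10, 120033) (.node (.node .leaf (182199, 0, 13, 78983) .leaf) (182200, 0, 17, 178899) (.node .leaf (182201, 0, 16, 58365) .leaf)))) (182202, 0, 13, 86689) (.node (.node (.node (.node .leaf (182203, 0, 15, 206908) .leaf) (182208, 0, 18, 173249) (.node .leaf (182209, 0, 17, 148647) .leaf)) (182210, 0, 16, 191307) (.node (.node .leaf (182211, 0, 18, 201858) .leaf) (182220, 0, 18, 47226) (.node .leaf (182221, 0, 16, 22556) .leaf))) (182222, 0, 16, 32458) (.node (.node (.node .leaf (182223, 0, 18, 67641) .leaf) (182228, 0, 15, 68306)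 (.node .leaf (182229, 0, 17, 218108) .leaf)) (182230, 0, 18, 112018) (.node (.node .leaf (182231, 0, 17, 48014) .leaf) (182232, 0, 16, 194828) (.node .leaf (182233, 0, 17, 137578) .leaf))))) (182234, 0, 15, 30497) (.node (.node (.node (.node (.node .leaf (182235, 0, 16, 215375) .leaf) (182240, 0, 18, 110388) (.node .leaf (182241, 0, 16, 141085) .leaf)) (182242, 0, 15, 235073) (.node (.node .leaf (182243, 0, 17, 8055) .leaf) (182252, 0, 17, 242575) (.node .leaf (182253, 0, 16, 45724) .leaf))) (182254, 0, 16, 189354) (.node (.node (.node .leaf (182255, 0, 17, 219886) .leaf) (182260, 0, 18, 30680) (.node .leaf (182261, 0, 12, 200228) .leaf)) (182262, 0, 17, 179815) (.node (.node .leaf (182263, 0, 16, 116356) .leaf) (182264, 0, 18, 127737) (.node .leaf (182265, 0, 15, 70303) .leaf)))) (182266, 0, 16, 68139) (.node (.node (.node (.node .leaf (182267, 0, 16, 17082) .leaf) (182272, 0, 17, 242685) (.node .leaf (182275, 0, 14, 132030) .leaf)) (182276, 0, 16, 212675) (.node (.node .leaf (182279, 0, 16, 167839) .leaf) (182281, 0, 16,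 95747) (.node .leaf (182282, 0, 18, 50752) .leaf))) (182285, 0, 15, 101745) (.node (.node (.node .leaf (182286, 0, 15, 15405) .leaf) (182289, 0, 16, 76750) (.node .leaf (182290, 0, 18, 57178) .leaf)) (182293, 0, 18, 70381) (.node (.node .leaf (182294, 0, 17, 41646) .leaf) (182296, 0, 18, 253364) (.node .leaf (182299, 0, 15, 158952) .leaf))))))

/-- part of the orbit tree -/
def itp5_288 : Tree := (.node (.node (.node (.node (.node (.node .leaf (182303, 0, 18, 157520) .leaf) (182304, 0, 15, 47112) (.node .leaf (182307, 0, 18, 101768) .leaf)) (182308, 0, 17, 33067) (.node (.node .leaf (182311, 0, 7, 258709) .leaf) (182313, 0, 17, 167782) (.node .leaf (182314, 0, 17, 212538) .leaf))) (182317, 0, 17, 148693) (.node (.node (.node .leaf (182318, 0, 13, 82215) .leaf) (182321, 0, 14, 139323) (.node .leaf (182322, 0, 12, 233592) .leaf)) (182325, 0, 17, 137496) (.node (.node .leaf (182326, 0, 16, 239963) .leaf) (182328, 0, 17, 172222) (.node .leaf (182331, 0, 17, 201186) .leaf)))) (182332, 0, 17, 56550) (.node (.node (.node (.node .leaf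 (182335, 0, 16, 93951) .leaf) (182336, 0, 15, 72020) (.node .leaf (182339, 0, 15, 43016) .leaf)) (182340, 0, 18, 222793) (.node (.node .leaf (182343, 0, 17, 86043) .leaf) (182345, 0, 15, 240358) (.node .leaf (182346, 0, 15, 138170) .leaf))) (182349, 0, 12, 140710) (.node (.node (.node .leaf (182350, 0, 17, 234981) .leaf) (182353, 0, 15, 79500) (.node .leaf (182354, 0, 12, 34768) .leaf)) (182357, 0, 13, 215441) (.node (.node .leaf (182358, 0, 16, 247848) .leaf) (182360, 0, 14, 230718) (.node .leaf (182363, 0, 17, 144482) .leaf))))) (182364, 0, 13, 48533) (.node (.node (.node (.node (.node .leaf (182367, 0, 17, 19327) .leaf) (182368, 0, 17, 250510) (.node .leaf (182371, 0, 13, 120066) .leaf)) (182372, 0, 14, 256941) (.node (.node .leaf (182375, 0, 15, 240159) .leaf) (182377, 0, 16, 186348) (.node .leaf (182378, 0, 16, 42803) .leaf))) (182381, 0, 17, 77395) (.node (.node (.node .leaf (182382, 0, 15, 40464) .leaf) (182385, 0, 15, 19334) (.node .leaf (182386, 0, 18, 129754) .leaf)) (182389, 0, 16, 144539) (.node (.node .leaf (182390,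 0, 16, 230855) .leaf) (182392, 0, 18, 233283) (.node .leaf (182395, 0, 16, 215400) .leaf)))) (182396, 0, 16, 243296) (.node (.node (.node (.node .leaf (182399, 0, 18, 79477) .leaf) (182401, 0, 13, 115857) (.node .leaf (182402, 0, 16, 72133) .leaf)) (182405, 0, 15, 186244) (.node (.node .leaf (182406, 0, 18, 222936) .leaf) (182408, 0, 15, 196975) (.node .leaf (182411, 0, 16, 176428) .leaf))) (182412, 0, 16, 25654) (.node (.node (.node .leaf (182415, 0, 15, 165903) .leaf) (182416, 0, 16, 220322) (.node .leaf (182419, 0, 17, 191713) .leaf)) (182420, 0, 14, 194652) (.node (.node .leaf (182423, 0, 17, 215296) .leaf) (182425, 0, 11, 104796) (.node .leaf (182426, 0, 16, 230831) .leaf))))))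

/-- part of the orbit tree -/
def itp5_289 : Tree := (.node itp5_285 (182046, 0, 15, 159110) itp5_286)

/-- part of the orbit tree -/
def itp5_290 : Tree := (.node itp5_287 (182300, 0, 17, 251667) itp5_288)

/-- part of the orbit tree -/
def itp5_291 : Tree := (.node (.node (.node (.node (.node (.node .leaf (182430, 0, 16, 129714) .leaf) (182433, 0, 15, 120211) (.node .leaf (182434, 0, 13, 229159) .leaf)) (182437, 0, 15, 240270) (.node (.node .leaf (182438, 0, 17, 138194) .leaf) (182440, 0, 18, 222753) (.node .leaf (182443, 0, 14, 186237) .leaf))) (182444, 0, 16, 13241) (.node (.node (.node .leaf (182447, 0, 14, 99322) .leaf) (182448, 0, 15, 129611) (.node .leaf (182451, 0, 10, 124692) .leaf)) (182452, 0, 17, 230742) (.node (.node .leaf (182455, 0, 17, 144394) .leaf) (182457, 0, 14, 168617) (.node .leaf (182458, 0, 18, 205546) .leaf)))) (182461, 0, 18, 79588) (.node (.node (.node (.node .leaf (182462, 0, 17, 203721) .leaf) (182465, 0, 18, 61459) (.node .leaf (182466, 0, 15, 204372) .leaf)) (182469, 0, 13, 167694) (.node (.node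 .leaf (182470, 0, 17, 212562) .leaf) (182472, 0, 16, 27625) (.node .leaf (182475, 0, 12, 121770) .leaf))) (182476, 0, 19, 15548) (.node (.node (.node .leaf (182479, 0, 17, 123529) .leaf) (182480, 0, 17, 13860) (.node .leaf (182483, 0, 12, 93847) .leaf)) (182484, 0, 17, 3847) (.node (.node .leaf (182487, 0, 15, 201098) .leaf) (182489, 0, 18, 158841) (.node .leaf (182490, 0, 17, 213913) .leaf))))) (182493, 0, 14, 4964) (.node (.node (.node (.node (.node .leaf (182494, 0, 15, 228026) .leaf) (182497, 0, 14, 101657) (.node .leaf (182498, 0, 14, 5537) .leaf)) (182501, 0, 15, 258564) (.node (.node .leaf (182502, 0, 16, 148312) .leaf) (182504, 0, 15, 212651) (.node .leaf (182507, 0, 15, 167927) .leaf))) (182508, 0, 17, 219455) (.node (.node (.node .leaf (182511, 0, 16, 61674) .leaf) (182512, 0, 13, 212433) (.node .leaf (182515, 0, 17, 167314) .leaf)) (182516, 0, 13, 253404) (.node (.node .leaf (182519, 0, 15, 158848) .leaf) (182521, 0, 18, 201075) (.node .leaf (182522, 0, 18, 172079) .leaf)))) (182525, 0, 16, 93806) (.node (.node (.node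 (.node .leaf (182526, 0, 17, 29007) .leaf) (182528, 0, 17, 108093) (.node .leaf (182531, 0, 13, 5985) .leaf)) (182532, 0, 16, 10410) (.node (.node .leaf (182535, 0, 16, 157820) .leaf) (182537, 0, 15, 202127) (.node .leaf (182538, 0, 14, 173267) .leaf))) (182541, 0, 14, 92818) (.node (.node (.node .leaf (182542, 0, 16, 56270) .leaf) (182545, 0, 18, 100837) (.node .leaf (182546, 0, 16, 211449) .leaf)) (182549, 0, 9, 259832) (.node (.node .leaf (182550, 0, 16, 149412) .leaf) (182552, 0, 14, 19524) (.node .leaf (182555, 0, 11, 166667) .leaf))))))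

/-- part of the orbit tree -/
def itp5_292 : Tree := (.node (.node (.node (.node (.node (.node .leaf (182559, 0, 14, 62486) .leaf) (182560, 0, 17, 203388) (.node .leaf (182563, 0, 16, 92779) .leaf)) (182564, 0, 16, 205663) (.node (.node .leaf (182567, 0, 16, 168732) .leaf) (182569, 0, 11, 157829) (.node .leaf (182570, 0, 15, 28609) .leaf))) (182573, 0, 16, 6040) (.node (.node (.node .leaf (182574, 0, 15, 108228) .leaf) (182577, 0, 13, 98895) (.node .leaf (182578, 0, 17, 83379) .leaf)) (182581, 0, 16, 166898) (.node (.node .leaf (182582, 0, 16, 2863) .leaf) (182584, 0, 14, 214961) (.node .leaf (182587, 0, 15, 194546) .leaf)))) (182588, 0, 17, 14400) (.node (.node (.node (.node .leaf (182591, 0, 14, 100636) .leaf) (182592, 0, 17, 228111) (.node .leaf (182595, 0, 18, 20459) .leaf)) (182596, 0, 14, 229802) (.node (.node .leaf (182599, 0, 16, 143606) .leaf) (182601, 0, 16, 114417) (.node .leaf (182602, 0, 16, 3762) .leaf))) (182605, 0, 14, 78360) (.node (.node (.node .leaf (182606, 0, 16, 14225) .leaf) (182609, 0, 13, 123708) (.node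 .leaf (182610, 0, 15, 24627) .leaf)) (182613, 0, 13, 241266) (.node (.node .leaf (182614, 0, 11, 139054) .leaf) (182616, 0, 15, 221917) (.node .leaf (182619, 0, 18, 169601) .leaf))))) (182620, 0, 15, 73152) (.node (.node (.node (.node (.node .leaf (182623, 0, 16, 176034) .leaf) (182624, 0, 13, 28922) (.node .leaf (182627, 0, 18, 78561) .leaf)) (182628, 0, 17, 195744) (.node (.node .leaf (182631, 0, 14, 129434) .leaf) (182633, 0, 15, 143375) (.node .leaf (182634, 0, 15, 197959) .leaf))) (182637, 0, 14, 20242) (.node (.node (.node .leaf (182638, 0, 18, 212068) .leaf) (182641, 0, 17, 190665) (.node .leaf (182642, 0, 17, 219274) .leaf)) (182645, 0, 14, 184810) (.node (.node .leaf (182646, 0, 15, 221732) .leaf) (182648, 0, 16, 139223) (.node .leaf (182651, 0, 19, 105844) .leaf)))) (182652, 0, 18, 24778) (.node (.node (.node (.node .leaf (182655, 0, 17, 119190) .leaf) (182657, 0, 16, 20346) (.node .leaf (182658, 0, 18, 130598) .leaf)) (182661, 0, 13, 155590) (.node (.node .leaf (182662, 0, 18, 257925) .leaf) (182664, 0, 15, 195784)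 (.node .leaf (182667, 0, 17, 216468) .leaf))) (182668, 0, 12, 33749) (.node (.node (.node .leaf (182671, 0, 16, 76411) .leaf) (182672, 0, 16, 24738) (.node .leaf (182675, 0, 16, 119294) .leaf)) (182676, 0, 18, 51189) (.node (.node .leaf (182679, 0, 18, 96182) .leaf) (182681, 0, 16, 146216) (.node .leaf (182682, 0, 17, 232299) .leaf))))))

/-- part of the orbit tree -/
def itp5_293 : Tree := (.node (.node (.node (.node (.node (.node .leaf (182686, 0, 17, 242248) .leaf) (182689, 0, 16, 78448) (.node .leaf (182690, 0, 17, 33580) .leaf)) (182693, 0, 14, 87091) (.node (.node .leaf (182694, 0, 16, 195633) .leaf) (182696, 0, 17, 239854) (.node .leaf (182699, 0, 14, 137389) .leaf))) (182700, 0, 17, 130783) (.node (.node (.node .leaf (182703, 0, 18, 139662) .leaf) (182704, 0, 15, 259363) (.node .leaf (182707, 0, 15, 44276) .leaf)) (182708, 0, 15, 221877) (.node (.node .leaf (182711, 0, 16, 185321) .leaf) (182713, 0, 17, 241178) (.node .leaf (182714, 0, 17, 32926) .leaf)))) (182717, 0, 16, 68094) (.node (.node (.node (.node .leaf (182718,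 0, 14, 47549) .leaf) (182721, 0, 16, 68707) (.node .leaf (182722, 0, 17, 108204) .leaf)) (182725, 0, 14, 157933) (.node (.node .leaf (182726, 0, 17, 252337) .leaf) (182728, 0, 16, 173122) (.node .leaf (182731, 0, 15, 202014) .leaf))) (182732, 0, 14, 56159) (.node (.node (.node .leaf (182735, 0, 16, 147709) .leaf) (182736, 0, 17, 234576) (.node .leaf (182739, 0, 17, 140307) .leaf)) (182740, 0, 17, 241011) (.node (.node .leaf (182743, 0, 18, 259689) .leaf) (182745, 0, 17, 86446) (.node .leaf (182746, 0, 14, 211654) .leaf))))) (182749, 0, 15, 62599) (.node (.node (.node (.node (.node .leaf (182750, 0, 19, 55502) .leaf) (182753, 0, 17, 92922) (.node .leaf (182754, 0, 15, 56230) .leaf)) (182757, 0, 17, 202215) (.node (.node .leaf (182758, 0, 15, 233206) .leaf) (182760, 0, 16, 49768) (.node .leaf (182763, 0, 14, 94763) .leaf))) (182764, 0, 14, 108117) (.node (.node (.node .leaf (182767, 0, 18, 5897) .leaf) (182768, 0, 17, 40869) (.node .leaf (182771, 0, 15, 77798) .leaf)) (182772, 0, 17, 42630) (.node (.node .leaf (182775, 0, 17,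 71365) .leaf) (182777, 0, 16, 259728) (.node .leaf (182778, 0, 17, 256536) .leaf)))) (182781, 0, 17, 156536) (.node (.node (.node (.node .leaf (182782, 0, 17, 250683) .leaf) (182786, 0, 16, 175232) (.node .leaf (182787, 0, 14, 62894) .leaf)) (182790, 0, 14, 54173) (.node (.node .leaf (182791, 0, 16, 136941) .leaf) (182792, 0, 14, 110190) (.node .leaf (182793, 0, 17, 259904) .leaf))) (182796, 0, 18, 99126) (.node (.node (.node .leaf (182797, 0, 15, 100445) .leaf) (182800, 0, 18, 124888) (.node .leaf (182801, 0, 13, 67518) .leaf)) (182804, 0, 15, 85273) (.node (.node .leaf (182805, 0, 17, 201783) .leaf) (182810, 0, 14, 168549) (.node .leaf (182811, 0, 18, 158148) .leaf))))))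

/-- part of the orbit tree -/
def itp5_294 : Tree := (.node (.node (.node (.node (.node (.node .leaf (182815, 0, 16, 5849) .leaf) (182818, 0, 19, 115805) (.node .leaf (182819, 0, 18, 100516) .leaf)) (182822, 0, 15, 130430) (.node (.node .leaf (182823, 0, 17, 260025) .leaf) (182824, 0, 15, 176608) (.node .leaf (182825, 0, 12, 166474) .leaf))) (182828, 0, 16, 175225) (.node (.node (.node .leaf (182829, 0, 12, 157861) .leaf) (182832, 0, 14, 191533) (.node .leaf (182833, 0, 16, 134219) .leaf)) (182836, 0, 17, 185614) (.node (.node .leaf (182837, 0, 17, 144744) .leaf) (182842, 0, 14, 104848) (.node .leaf (182843, 0, 13, 96758) .leaf)))) (182846, 0, 14, 106675) (.node (.node (.node (.node .leaf (182847, 0, 16, 82133) .leaf) (182850, 0, 18, 107822) (.node .leaf (182851, 0, 15, 44324) .leaf)) (182854, 0, 17, 105485) (.node (.node .leaf (182855, 0, 13, 97387) .leaf) (182856, 0, 15, 128740) (.node .leaf (182857, 0, 18, 241610) .leaf))) (182860, 0, 17, 190896) (.node (.node (.node .leaf (182861, 0, 16, 133590) .leaf) (182864, 0, 16,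 167262) (.node .leaf (182865, 0, 14, 159032) .leaf)) (182868, 0, 13, 71059) (.node (.node .leaf (182869, 0, 16, 152603) .leaf) (182874, 0, 15, 26720) (.node .leaf (182875, 0, 17, 143694) .leaf))))) (182878, 0, 15, 115136) (.node (.node (.node (.node (.node .leaf (182879, 0, 15, 74150) .leaf) (182882, 0, 16, 231680) (.node .leaf (182883, 0, 17, 118830) .leaf)) (182886, 0, 16, 169976) (.node (.node .leaf (182887, 0, 15, 241459) .leaf) (182888, 0, 17, 35822) (.node .leaf (182889, 0, 4, 80640) .leaf))) (182892, 0, 17, 193779) (.node (.node (.node .leaf (182893, 0, 17, 66083) .leaf) (182896, 0, 16, 100011) (.node .leaf (182897, 0, 18, 91853) .leaf)) (182900, 0, 12, 26777) (.node (.node .leaf (182901, 0, 17, 90094) .leaf) (182906, 0, 17, 71018) (.node .leaf (182907, 0, 17, 136048) .leaf)))) (182910, 0, 14, 223863) (.node (.node (.node (.node .leaf (182911, 0, 16, 141907) .leaf) (182912, 0, 14, 193691) (.node .leaf (182913, 0, 14, 44469) .leaf)) (182916, 0, 15, 78244) (.node (.node .leaf (182917, 0, 16, 185000) .leaf) (182922, 0,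 16, 128629) (.node .leaf (182923, 0, 17, 171356) .leaf))) (182926, 0, 17, 231784) (.node (.node (.node .leaf (182927, 0, 16, 173183) .leaf) (182930, 0, 15, 139511) (.node .leaf (182931, 0, 14, 78641) .leaf)) (182934, 0, 17, 137684) (.node (.node .leaf (182935, 0, 18, 194994) .leaf) (182936, 0, 15, 87370) .leaf)))))

/-- part of the orbit tree -/
def itp5_295 : Tree := (.node itp5_291 (182556, 0, 15, 83274) itp5_292)

/-- part of the orbit tree -/
def itp5_296 : Tree := (.node itp5_293 (182814, 0, 16, 151543) itp5_294)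

/-- part of the orbit tree -/
def itp5_297 : Tree := (.node itp5_289 (182170, 0, 16, 50095) itp5_290)

/-- part of the orbit tree -/
def itp5_298 : Tree := (.node itp5_295 (182685, 0, 17, 131595) itp5_296)

/-- part of the orbit tree -/
def itp5_299 : Tree := (.node (.node (.node (.node (.node (.node .leaf (182940, 0, 17, 93289) .leaf) (182941, 0, 15, 101391) (.node .leaf (182944, 0, 15, 131954) .leaf)) (182945, 0, 17, 118975) (.node (.node .leaf (182948, 0, 16, 128652) .leaf) (182949, 0, 13, 186935) (.node .leaf (182954, 0, 18, 95951) .leaf))) (182955, 0, 13, 104105) (.node (.node (.node .leaf (182958, 0, 15, 193634) .leaf) (182959, 0, 17, 110474) (.node .leaf (182962, 0, 16, 136981) .leaf)) (182963, 0, 13, 20027) (.node (.node .leaf (182966, 0, 16, 26632) .leaf) (182967, 0, 17, 143654) (.node .leaf (182968, 0, 14, 155327) .leaf)))) (182969, 0, 17, 179929) (.node (.node (.node (.node .leaf (182972, 0, 14, 223974) .leaf) (182973, 0, 14, 165882) (.node .leaf (182976, 0, 17, 175121) .leaf)) (182977, 0, 16, 62783) (.node (.node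 .leaf (182980, 0, 18, 54028) .leaf) (182981, 0, 18, 166434) (.node .leaf (182986, 0, 15, 71612) .leaf))) (182987, 0, 16, 128986) (.node (.node (.node .leaf (182990, 0, 17, 250338) .leaf) (182991, 0, 13, 118521) (.node .leaf (182994, 0, 13, 84593) .leaf)) (182995, 0, 17, 109079) (.node (.node .leaf (182998, 0, 16, 85384) .leaf) (182999, 0, 19, 103220) (.node .leaf (183000, 0, 16, 12411) .leaf))))) (183001, 0, 15, 158037) (.node (.node (.node (.node (.node .leaf (183004, 0, 16, 132847) .leaf) (183005, 0, 17, 5704) (.node .leaf (183008, 0, 17, 250139) .leaf)) (183009, 0, 12, 100754) (.node (.node .leaf (183012, 0, 14, 86231) .leaf) (183013, 0, 15, 259880) (.node .leaf (183018, 0, 15, 54261) .leaf))) (183019, 0, 17, 195631) (.node (.node (.node .leaf (183022, 0, 13, 175336) .leaf) (183023, 0, 18, 181516) (.node .leaf (183026, 0, 15, 151455) .leaf)) (183027, 0, 17, 5809) (.node (.node .leaf (183030, 0, 16, 161959) .leaf) (183031, 0, 17, 158124) (.node .leaf (183032, 0, 17, 78905) .leaf)))) (183033, 0, 16, 119903) (.node (.node (.node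 (.node .leaf (183036, 0, 17, 68890) .leaf) (183037, 0, 13, 126332) (.node .leaf (183042, 0, 16, 150371) .leaf)) (183043, 0, 15, 4685) (.node (.node .leaf (183046, 0, 7, 87295) .leaf) (183047, 0, 16, 111769) (.node .leaf (183048, 0, 14, 137313) .leaf))) (183049, 0, 17, 194567) (.node (.node (.node .leaf (183052, 0, 16, 210576) .leaf) (183053, 0, 13, 180516) (.node .leaf (183056, 0, 18, 251367) .leaf)) (183057, 0, 16, 101577) (.node (.node .leaf (183060, 0, 8, 109306) .leaf) (183061, 0, 16, 259028) (.node .leaf (183066, 0, 19, 77841) .leaf))))))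

/-- part of the orbit tree -/
def itp5_300 : Tree := (.node (.node (.node (.node (.node (.node .leaf (183070, 0, 16, 67890) .leaf) (183071, 0, 17, 125268) (.node .leaf (183074, 0, 16, 210537) .leaf)) (183075, 0, 15, 165455) (.node (.node .leaf (183078, 0, 17, 84340) .leaf) (183079, 0, 15, 180076) (.node .leaf (183080, 0, 16, 70548) .leaf))) (183081, 0, 14, 159145) (.node (.node (.node .leaf (183084, 0, 16, 76471) .leaf) (183085, 0, 15, 117457) (.node .leaf (183088, 0, 16, 174317) .leaf)) (183089, 0, 15, 61891) (.node (.node .leaf (183092, 0, 17, 96122) .leaf) (183093, 0, 17, 167646) (.node .leaf (183098, 0, 15, 146404) .leaf)))) (183099, 0, 17, 258861) (.node (.node (.node (.node .leaf (183102, 0, 14, 131783) .leaf) (183103, 0, 13, 189089) (.node .leaf (183106, 0, 14, 136169) .leaf)) (183107, 0, 12, 190268) (.node (.node .leaf (183110, 0, 16, 27892) .leaf) (183111, 0, 17, 187935) (.node .leaf (183112, 0, 17, 94951) .leaf))) (183113, 0, 17, 103041) (.node (.node (.node .leaf (183116, 0, 17, 84932) .leaf) (183117, 0, 16, 109474)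 (.node .leaf (183120, 0, 18, 77610) .leaf)) (183121, 0, 17, 119875) (.node (.node .leaf (183124, 0, 17, 71177) .leaf) (183125, 0, 18, 128623) (.node .leaf (183130, 0, 14, 36739) .leaf))))) (183131, 0, 17, 178929) (.node (.node (.node (.node (.node .leaf (183134, 0, 11, 192670) .leaf) (183135, 0, 16, 164818) (.node .leaf (183138, 0, 16, 68783) .leaf)) (183139, 0, 16, 79821) (.node (.node .leaf (183142, 0, 16, 70142) .leaf) (183143, 0, 16, 215248) (.node .leaf (183144, 0, 15, 162066) .leaf))) (183145, 0, 17, 144675) (.node (.node (.node .leaf (183148, 0, 12, 135952) .leaf) (183149, 0, 15, 172119) (.node .leaf (183152, 0, 14, 192615) .leaf)) (183153, 0, 17, 43337) (.node (.node .leaf (183156, 0, 15, 36730) .leaf) (183157, 0, 13, 185940) (.node .leaf (183162, 0, 12, 127625) .leaf)))) (183163, 0, 17, 110852) (.node (.node (.node (.node .leaf (183166, 0, 16, 92225) .leaf) (183167, 0, 13, 100391) (.node .leaf (183168, 0, 15, 174835) .leaf)) (183169, 0, 16, 150165) (.node (.node .leaf (183172, 0, 11, 168912) .leaf) (183173, 0, 16,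 144715) (.node .leaf (183178, 0, 16, 122702) .leaf))) (183179, 0, 17, 215224) (.node (.node (.node .leaf (183182, 0, 17, 224907) .leaf) (183183, 0, 14, 67083) (.node .leaf (183186, 0, 10, 98947) .leaf)) (183187, 0, 18, 90853) (.node (.node .leaf (183190, 0, 14, 113568) .leaf) (183191, 0, 16, 89030) (.node .leaf (183192, 0, 15, 194366) .leaf))))))

/-- part of the orbit tree -/
def itp5_301 : Tree := (.node (.node (.node (.node (.node (.node .leaf (183196, 0, 13, 183837) .leaf) (183197, 0, 17, 43297) (.node .leaf (183200, 0, 16, 224882) .leaf)) (183201, 0, 13, 79708) (.node (.node .leaf (183204, 0, 17, 69999) .leaf) (183205, 0, 16, 215105) (.node .leaf (183210, 0, 18, 27804) .leaf))) (183211, 0, 14, 144818) (.node (.node (.node .leaf (183214, 0, 14, 191896) .leaf) (183215, 0, 15, 134654) (.node .leaf (183218, 0, 17, 192758) .leaf)) (183219, 0, 16, 157968) (.node (.node .leaf (183222, 0, 15, 176213) .leaf) (183223, 0, 16, 151603) (.node .leaf (183224, 0, 16, 130251) .leaf)))) (183225, 0, 16, 72877) (.node (.node (.node (.node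 .leaf (183228, 0, 14, 232709) .leaf) (183229, 0, 15, 119851) (.node .leaf (183232, 0, 16, 114805) .leaf)) (183233, 0, 18, 73747) (.node (.node .leaf (183236, 0, 10, 13551) .leaf) (183237, 0, 14, 71984) (.node .leaf (183242, 0, 14, 84252) .leaf))) (183243, 0, 15, 200754) (.node (.node (.node .leaf (183246, 0, 16, 167147) .leaf) (183247, 0, 15, 158861) (.node .leaf (183250, 0, 15, 251254) .leaf)) (183251, 0, 18, 101464) (.node (.node .leaf (183254, 0, 12, 109163) .leaf) (183255, 0, 15, 143680) (.node .leaf (183256, 0, 18, 55192) .leaf))))) (183257, 0, 16, 167606) (.node (.node (.node (.node (.node .leaf (183260, 0, 16, 174213) .leaf) (183261, 0, 16, 61867) (.node .leaf (183264, 0, 16, 210680) .leaf)) (183265, 0, 15, 94166) (.node (.node .leaf (183268, 0, 13, 84453) .leaf) (183269, 0, 17, 200907) (.node .leaf (183274, 0, 17, 114237) .leaf))) (183275, 0, 14, 159032) (.node (.node (.node .leaf (183278, 0, 16, 100126) .leaf) (183279, 0, 15, 92024) (.node .leaf (183282, 0, 13, 123888) .leaf)) (183283, 0, 16, 61778) (.node (.node .leaf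 (183286, 0, 19, 121555) .leaf) (183287, 0, 15, 80565) (.node .leaf (183288, 0, 14, 169549) .leaf)))) (183289, 0, 14, 161323) (.node (.node (.node (.node .leaf (183292, 0, 14, 175982) .leaf) (183293, 0, 16, 151304) (.node .leaf (183297, 0, 14, 5380) .leaf)) (183299, 0, 14, 203030) (.node (.node .leaf (183301, 0, 12, 159760) .leaf) (183303, 0, 15, 98923) (.node .leaf (183304, 0, 19, 36045) .leaf))) (183306, 0, 17, 122088) (.node (.node (.node .leaf (183308, 0, 13, 55723) .leaf) (183310, 0, 15, 124363) (.node .leaf (183312, 0, 17, 53504) .leaf)) (183314, 0, 13, 98597) (.node (.node .leaf (183316, 0, 15, 148929) .leaf) (183318, 0, 16, 110003) (.node .leaf (183321, 0, 17, 136446) .leaf))))))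

/-- part of the orbit tree -/
def itp5_302 : Tree := (.node (.node (.node (.node (.node (.node .leaf (183325, 0, 16, 142813) .leaf) (183327, 0, 14, 228856) (.node .leaf (183329, 0, 18, 82630) .leaf)) (183331, 0, 15, 163964) (.node (.node .leaf (183333, 0, 15, 97253) .leaf) (183335, 0, 17, 11200) (.node .leaf (183336, 0, 15, 252860) .leaf))) (183338, 0, 17, 186141) (.node (.node (.node .leaf (183340, 0, 15, 245275) .leaf) (183342, 0, 18, 150739) (.node .leaf (183344, 0, 18, 83926) .leaf)) (183346, 0, 15, 176036) (.node (.node .leaf (183348, 0, 18, 211147) .leaf) (183350, 0, 12, 53433) (.node .leaf (183353, 0, 12, 73483) .leaf)))) (183355, 0, 18, 7190) (.node (.node (.node (.node .leaf (183357, 0, 16, 75304) .leaf) (183359, 0, 16, 30221) (.node .leaf (183361, 0, 15, 19854) .leaf)) (183363, 0, 18, 239100) (.node (.node .leaf (183365, 0, 14, 144019) .leaf) (183367, 0, 16, 121569) (.node .leaf (183368, 0, 17, 196156) .leaf))) (183370, 0, 15, 71246) (.node (.node (.node .leaf (183372, 0, 15, 253800) .leaf) (183374, 0, 17, 223571)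 (.node .leaf (183376, 0, 16, 244614) .leaf)) (183378, 0, 11, 231972) (.node (.node .leaf (183380, 0, 17, 230053) .leaf) (183382, 0, 17, 128313) (.node .leaf (183385, 0, 17, 97912) .leaf))))) (183387, 0, 14, 80278) (.node (.node (.node (.node (.node .leaf (183389, 0, 16, 83803) .leaf) (183391, 0, 16, 214667) (.node .leaf (183393, 0, 16, 77956) .leaf)) (183395, 0, 10, 186614) (.node (.node .leaf (183397, 0, 16, 135523) .leaf) (183399, 0, 18, 213318) (.node .leaf (183400, 0, 9, 60862) .leaf))) (183402, 0, 15, 27460) (.node (.node (.node .leaf (183404, 0, 15, 54429) .leaf) (183406, 0, 14, 99512) (.node .leaf (183408, 0, 17, 45171) .leaf)) (183410, 0, 19, 122966) (.node (.node .leaf (183412, 0, 18, 221249) .leaf) (183414, 0, 16, 34867) (.node .leaf (183417, 0, 18, 240878) .leaf)))) (183419, 0, 14, 17564) (.node (.node (.node (.node .leaf (183421, 0, 15, 150702) .leaf) (183423, 0, 17, 146305) (.node .leaf (183424, 0, 11, 15967) .leaf)) (183426, 0, 15, 93818) (.node (.node .leaf (183428, 0, 19, 230238) .leaf) (183430, 0, 13, 27436)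 (.node .leaf (183433, 0, 17, 195489) .leaf))) (183435, 0, 16, 42883) (.node (.node (.node .leaf (183437, 0, 14, 78060) .leaf) (183439, 0, 14, 186526) (.node .leaf (183441, 0, 17, 173676) .leaf)) (183443, 0, 17, 259657) (.node (.node .leaf (183445, 0, 16, 240774) .leaf) (183447, 0, 17, 17652) (.node .leaf (183448, 0, 13, 25490) .leaf))))))

/-- part of the orbit tree -/
def itp5_303 : Tree := (.node itp5_299 (183067, 0, 10, 118903) itp5_300)

/-- part of the orbit tree -/
def itp5_304 : Tree := (.node itp5_301 (183323, 0, 17, 214235) itp5_302)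

/-- part of the orbit tree -/
def itp5_305 : Tree := (.node (.node (.node (.node (.node (.node .leaf (183452, 0, 16, 23217) .leaf) (183454, 0, 15, 194374) (.node .leaf (183456, 0, 16, 210346) .leaf)) (183458, 0, 19, 157071) (.node (.node .leaf (183460, 0, 13, 196180) .leaf) (183462, 0, 17, 71206) (.node .leaf (183465, 0, 17, 144123) .leaf))) (183467, 0, 17, 41073) (.node (.node (.node .leaf (183469, 0, 14, 19942) .leaf) (183471, 0, 16, 39250) (.node .leaf (183473, 0, 18, 44689) .leaf)) (183475, 0, 14, 64956) (.node (.node .leaf (183477, 0, 15, 184716) .leaf) (183479, 0, 13, 80382) (.node .leaf (183480, 0, 18, 223335) .leaf)))) (183482, 0, 14, 128337) (.node (.node (.node (.node .leaf (183484, 0, 16, 217412) .leaf) (183486, 0, 15, 232012) (.node .leaf (183488, 0, 16, 107721) .leaf)) (183490, 0, 14, 150715) (.node (.node .leaf (183492, 0, 12, 224762) .leaf) (183494, 0, 17, 13222) (.node .leaf (183497, 0, 17, 202619) .leaf))) (183499, 0, 16, 65289) (.node (.node (.node .leaf (183501, 0, 12, 92262) .leaf) (183503, 0, 16, 63521)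 (.node .leaf (183505, 0, 15, 117994) .leaf)) (183507, 0, 17, 156515) (.node (.node .leaf (183509, 0, 17, 259084) .leaf) (183511, 0, 15, 7294) (.node .leaf (183512, 0, 18, 211107) .leaf))))) (183514, 0, 18, 53457) (.node (.node (.node (.node (.node .leaf (183516, 0, 16, 83902) .leaf) (183518, 0, 16, 176076) (.node .leaf (183520, 0, 15, 55747) .leaf)) (183522, 0, 17, 69385) (.node (.node .leaf (183524, 0, 16, 26127) .leaf) (183526, 0, 15, 79402) (.node .leaf (183529, 0, 16, 170706) .leaf))) (183531, 0, 18, 98819) (.node (.node (.node .leaf (183533, 0, 16, 173041) .leaf) (183535, 0, 16, 259028) (.node .leaf (183537, 0, 14, 63003) .leaf)) (183539, 0, 14, 204393) (.node (.node .leaf (183541, 0, 17, 196156) .leaf) (183543, 0, 17, 90484) (.node .leaf (183544, 0, 17, 148905) .leaf)))) (183546, 0, 18, 110043) (.node (.node (.node (.node .leaf (183548, 0, 17, 15028) .leaf) (183550, 0, 16, 93159) (.node .leaf (183553, 0, 17, 62183) .leaf)) (183555, 0, 11, 203413) (.node (.node .leaf (183557, 0, 18, 119396) .leaf) (183559, 0, 17, 33345)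 (.node .leaf (183560, 0, 16, 147797) .leaf))) (183562, 0, 13, 163484) (.node (.node (.node .leaf (183564, 0, 12, 15944) .leaf) (183566, 0, 15, 149439) (.node .leaf (183568, 0, 15, 56639) .leaf)) (183570, 0, 17, 210253) (.node (.node .leaf (183572, 0, 16, 172578) .leaf) (183574, 0, 16, 84560) (.node .leaf (183577, 0, 15, 112266) .leaf))))))

/-- part of the orbit tree -/
def itp5_306 : Tree := (.node (.node (.node (.node (.node (.node .leaf (183581, 0, 16, 102313) .leaf) (183583, 0, 16, 57228) (.node .leaf (183585, 0, 12, 188594) .leaf)) (183587, 0, 17, 157599) (.node (.node .leaf (183589, 0, 13, 186769) .leaf) (183591, 0, 13, 6274) (.node .leaf (183592, 0, 16, 212063) .leaf))) (183594, 0, 16, 95593) (.node (.node (.node .leaf (183596, 0, 14, 7279) .leaf) (183598, 0, 16, 85066) (.node .leaf (183600, 0, 18, 106549) .leaf)) (183602, 0, 17, 149575) (.node (.node .leaf (183604, 0, 15, 16802) .leaf) (183606, 0, 18, 14170) (.node .leaf (183609, 0, 16, 179583) .leaf)))) (183611, 0, 15, 64501) (.node (.node (.node (.node .leaf (183613,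 0, 16, 164956) .leaf) (183615, 0, 16, 165096) (.node .leaf (183617, 0, 14, 164289) .leaf)) (183619, 0, 15, 213535) (.node (.node .leaf (183621, 0, 13, 185712) .leaf) (183623, 0, 14, 81154) (.node .leaf (183624, 0, 14, 17471) .leaf))) (183626, 0, 17, 70682) (.node (.node (.node .leaf (183628, 0, 18, 32028) .leaf) (183630, 0, 17, 77113) (.node .leaf (183632, 0, 14, 34229) .leaf)) (183634, 0, 15, 84439) (.node (.node .leaf (183636, 0, 17, 195240) .leaf) (183638, 0, 13, 70362) (.node .leaf (183641, 0, 15, 187404) .leaf))))) (183643, 0, 14, 122485) (.node (.node (.node (.node (.node .leaf (183645, 0, 18, 18714) .leaf) (183647, 0, 16, 237928) (.node .leaf (183649, 0, 18, 120679) .leaf)) (183651, 0, 17, 147221) (.node (.node .leaf (183653, 0, 17, 239738) .leaf) (183655, 0, 17, 16392) (.node .leaf (183656, 0, 17, 222421) .leaf))) (183658, 0, 18, 36007) (.node (.node (.node .leaf (183660, 0, 17, 227049) .leaf) (183662, 0, 15, 193466) (.node .leaf (183664, 0, 16, 129215) .leaf)) (183666, 0, 11, 148002) (.node (.node .leaf (183668, 0,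 15, 207652) .leaf) (183670, 0, 15, 28624) (.node .leaf (183673, 0, 17, 120825) .leaf)))) (183675, 0, 14, 34780) (.node (.node (.node (.node .leaf (183677, 0, 15, 78864) .leaf) (183679, 0, 16, 187490) (.node .leaf (183680, 0, 16, 72608) .leaf)) (183682, 0, 16, 193490) (.node (.node .leaf (183684, 0, 17, 222397) .leaf) (183686, 0, 17, 193837) (.node .leaf (183689, 0, 16, 239634) .leaf))) (183691, 0, 18, 2544) (.node (.node (.node .leaf (183693, 0, 15, 120591) .leaf) (183695, 0, 12, 147325) (.node .leaf (183697, 0, 15, 78968) .leaf)) (183699, 0, 14, 21565) (.node (.node .leaf (183701, 0, 18, 215909) .leaf) (183703, 0, 16, 41751) (.node .leaf (183704, 0, 12, 246246) .leaf))))))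

/-- part of the orbit tree -/
def itp5_307 : Tree := (.node (.node (.node (.node (.node (.node .leaf (183708, 0, 10, 260293) .leaf) (183710, 0, 14, 174304) (.node .leaf (183712, 0, 18, 38878) .leaf)) (183714, 0, 17, 116731) (.node (.node .leaf (183716, 0, 13, 137655) .leaf) (183718, 0, 17, 130776) (.node .leaf (183721, 0, 17, 152096) .leaf))) (183723, 0, 12, 197125) (.node (.node (.node .leaf (183725, 0, 17, 43525) .leaf) (183727, 0, 9, 213623) (.node .leaf (183729, 0, 18, 135149) .leaf)) (183731, 0, 19, 221128) (.node (.node .leaf (183733, 0, 16, 145007) .leaf) (183735, 0, 14, 122397) (.node .leaf (183736, 0, 17, 51731) .leaf)))) (183738, 0, 15, 70322) (.node (.node (.node (.node .leaf (183740, 0, 15, 62256) .leaf) (183742, 0, 13, 107285) (.node .leaf (183744, 0, 15, 82730) .leaf)) (183746, 0, 17, 174936) (.node (.node .leaf (183748, 0, 16, 212023) .leaf) (183750, 0, 15, 106411) (.node .leaf (183753, 0, 16, 258200) .leaf))) (183755, 0, 16, 6378) (.node (.node (.node .leaf (183757, 0, 18, 102277) .leaf) (183759, 0, 17, 157687)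 (.node .leaf (183761, 0, 17, 93426) .leaf)) (183763, 0, 15, 164992) (.node (.node .leaf (183765, 0, 16, 201711) .leaf) (183767, 0, 17, 198552) (.node .leaf (183768, 0, 16, 43872) .leaf))))) (183770, 0, 17, 14130) (.node (.node (.node (.node (.node .leaf (183772, 0, 18, 37443) .leaf) (183774, 0, 17, 149551) (.node .leaf (183776, 0, 15, 15904) .leaf)) (183778, 0, 15, 175485) (.node (.node .leaf (183780, 0, 16, 246907) .leaf) (183782, 0, 16, 108879) (.node .leaf (183785, 0, 17, 167314) .leaf))) (183787, 0, 18, 91616) (.node (.node (.node .leaf (183789, 0, 15, 65925) .leaf) (183791, 0, 16, 203517) (.node .leaf (183793, 0, 13, 91499) .leaf)) (183795, 0, 16, 260490) (.node (.node .leaf (183797, 0, 17, 89160) .leaf) (183799, 0, 16, 3181) (.node .leaf (183800, 0, 14, 172618) .leaf)))) (183802, 0, 15, 192688) (.node (.node (.node (.node .leaf (183804, 0, 18, 56663) .leaf) (183806, 0, 17, 182675) (.node .leaf (183808, 0, 14, 149766) .leaf)) (183809, 0, 17, 156995) (.node (.node .leaf (183810, 0, 12, 106868) .leaf) (183811, 0, 14, 210278)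 (.node .leaf (183812, 0, 15, 179206) .leaf))) (183813, 0, 13, 154720) (.node (.node (.node .leaf (183814, 0, 15, 253545) .leaf) (183815, 0, 17, 100167) (.node .leaf (183832, 0, 17, 54636) .leaf)) (183833, 0, 16, 145550) (.node (.node .leaf (183834, 0, 15, 231629) .leaf) (183835, 0, 14, 91184) (.node .leaf (183836, 0, 16, 188875) .leaf))))))

/-- part of the orbit tree -/
def itp5_308 : Tree := (.node (.node (.node (.node (.node (.node .leaf (183838, 0, 15, 242158) .leaf) (183839, 0, 12, 217480) (.node .leaf (183840, 0, 18, 209932) .leaf)) (183841, 0, 19, 93878) (.node (.node .leaf (183842, 0, 16, 57077) .leaf) (183843, 0, 16, 165200) (.node .leaf (183844, 0, 17, 84753) .leaf))) (183845, 0, 16, 201279) (.node (.node (.node .leaf (183846, 0, 17, 172899) .leaf) (183847, 0, 16, 64077) (.node .leaf (183864, 0, 15, 119581) .leaf)) (183865, 0, 18, 78715) (.node (.node .leaf (183866, 0, 18, 33592) .leaf) (183867, 0, 17, 25438) (.node .leaf (183868, 0, 10, 251771) .leaf)))) (183869, 0, 18, 68184) (.node (.node (.node (.node .leaf (183870,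 0, 17, 47643) .leaf) (183871, 0, 15, 157223) (.node .leaf (183872, 0, 13, 126883) .leaf)) (183873, 0, 16, 69573) (.node (.node .leaf (183874, 0, 14, 129534) .leaf) (183875, 0, 17, 237776) (.node .leaf (183876, 0, 14, 28305) .leaf))) (183877, 0, 16, 145343) (.node (.node (.node .leaf (183878, 0, 14, 34469) .leaf) (183879, 0, 19, 122829) (.node .leaf (183896, 0, 16, 111214) .leaf)) (183897, 0, 16, 185544) (.node (.node .leaf (183898, 0, 18, 57931) .leaf) (183899, 0, 17, 557) (.node .leaf (183900, 0, 15, 101197) .leaf))))) (183901, 0, 17, 43989) (.node (.node (.node (.node (.node .leaf (183902, 0, 17, 56168) .leaf) (183903, 0, 16, 15118) (.node .leaf (183904, 0, 17, 189526) .leaf)) (183905, 0, 16, 79272) (.node (.node .leaf (183906, 0, 15, 34036) .leaf) (183907, 0, 16, 218133) (.node .leaf (183908, 0, 19, 70555) .leaf))) (183909, 0, 14, 146707) (.node (.node (.node .leaf (183910, 0, 12, 232784) .leaf) (183911, 0, 13, 224566) (.node .leaf (183928, 0, 17, 178587) .leaf)) (183929, 0, 17, 240066) (.node (.node .leaf (183930, 0, 9,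 256446) .leaf) (183931, 0, 15, 16816) (.node .leaf (183932, 0, 14, 233457) .leaf)))) (183933, 0, 13, 120543) (.node (.node (.node (.node .leaf (183934, 0, 15, 250013) .leaf) (183935, 0, 17, 147117) (.node .leaf (183944, 0, 10, 145335) .leaf)) (183945, 0, 18, 215773) (.node (.node .leaf (183946, 0, 12, 195457) .leaf) (183947, 0, 14, 231412) (.node .leaf (183948, 0, 13, 134804) .leaf))) (183949, 0, 17, 192242) (.node (.node (.node .leaf (183950, 0, 16, 220849) .leaf) (183951, 0, 14, 245463) (.node .leaf (183952, 0, 17, 158330) .leaf)) (183953, 0, 15, 120503) (.node (.node .leaf (183954, 0, 18, 26603) .leaf) (183955, 0, 18, 252473) .leaf)))))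

/-- part of the orbit tree -/
def itp5_309 : Tree := (.node itp5_305 (183579, 0, 13, 100095) itp5_306)

/-- part of the orbit tree -/
def itp5_310 : Tree := (.node itp5_307 (183837, 0, 12, 131501) itp5_308)

/-- part of the orbit tree -/
def itp5_311 : Tree := (.node itp5_303 (183193, 0, 13, 185916) itp5_304)

/-- part of the orbit tree -/
def itp5_312 : Tree := (.node itp5_309 (183706, 0, 15, 28600) itp5_310)

/-- part of the orbit tree -/
def itp5_313 : Tree := (.node itp5_297 (182429, 0, 14, 106623) itp5_298)

/-- part of the orbit tree -/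
def itp5_314 : Tree := (.node itp5_311 (183450, 0, 15, 34907) itp5_312)

/-- part of the orbit tree -/
def itp5_315 : Tree := (.node itp5_283 (180893, 0, 16, 3069) itp5_284)

/-- part of the orbit tree -/
def itp5_316 : Tree := (.node itp5_313 (182937, 0, 14, 111916) itp5_314)

/-- part of the orbit tree -/
def itp5_317 : Tree := (.node (.node (.node (.node (.node (.node .leaf (183957, 0, 16, 176959) .leaf) (183958, 0, 17, 137462) (.node .leaf (183959, 0, 18, 254746) .leaf)) (183976, 0, 17, 28409) (.node (.node .leaf (183977, 0, 17, 145367) .leaf) (183978, 0, 15, 231051) (.node .leaf (183979, 0, 13, 35841) .leaf))) (183980, 0, 17, 135652) (.node (.node (.node .leaf (183981, 0, 15, 124167) .leaf) (183982, 0, 15, 129430) (.node .leaf (183983, 0, 14, 46370) .leaf)) (183984, 0, 15, 193171) (.node (.node .leaf (183985, 0, 13, 98793) .leaf) (183986, 0, 16, 12714) (.node .leaf (183987, 0, 17, 213967) .leaf)))) (183988, 0, 14, 88236) (.node (.node (.node (.node .leaf (183989, 0, 13, 112842) .leaf) (183990, 0, 14, 222716) (.node .leaf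 (183991, 0, 17, 59631) .leaf)) (184008, 0, 14, 89393) (.node (.node .leaf (184009, 0, 17, 114007) .leaf) (184010, 0, 17, 172811) (.node .leaf (184011, 0, 16, 60786) .leaf))) (184012, 0, 14, 210020) (.node (.node (.node .leaf (184013, 0, 15, 99444) .leaf) (184014, 0, 12, 13367) (.node .leaf (184015, 0, 18, 54353) .leaf)) (184016, 0, 17, 251667) (.node (.node .leaf (184017, 0, 13, 101949) .leaf) (184018, 0, 16, 20697) (.node .leaf (184019, 0, 17, 45247) .leaf))))) (184020, 0, 14, 108558) (.node (.node (.node (.node (.node .leaf (184021, 0, 17, 258336) .leaf) (184022, 0, 18, 147580) (.node .leaf (184023, 0, 15, 35228) .leaf)) (184040, 0, 18, 13939) (.node (.node .leaf (184041, 0, 16, 177826) .leaf) (184042, 0, 17, 198369) (.node .leaf (184043, 0, 14, 100143) .leaf))) (184044, 0, 18, 149870) (.node (.node (.node .leaf (184045, 0, 17, 4160) .leaf) (184046, 0, 17, 212930) (.node .leaf (184047, 0, 16, 253860) .leaf)) (184048, 0, 17, 133897) (.node (.node .leaf (184049, 0, 16, 62263) .leaf) (184050, 0, 13, 219948) (.node .leaf (184051,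 0, 18, 244554) .leaf)))) (184052, 0, 15, 143914) (.node (.node (.node (.node .leaf (184053, 0, 17, 166954) .leaf) (184054, 0, 16, 212342) (.node .leaf (184055, 0, 18, 91224) .leaf)) (184064, 0, 13, 175845) (.node (.node .leaf (184065, 0, 16, 63435) .leaf) (184066, 0, 17, 83607) (.node .leaf (184067, 0, 14, 38674) .leaf))) (184068, 0, 15, 73330) (.node (.node (.node .leaf (184069, 0, 16, 166102) .leaf) (184070, 0, 15, 20055) (.node .leaf (184071, 0, 10, 44593) .leaf)) (184088, 0, 13, 12943) (.node (.node .leaf (184089, 0, 10, 105210) .leaf) (184090, 0, 15, 252669) (.node .leaf (184091, 0, 15, 99283) .leaf))))))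

/-- part of the orbit tree -/
def itp5_318 : Tree := (.node (.node (.node (.node (.node (.node .leaf (184093, 0, 17, 107481) .leaf) (184094, 0, 14, 108000) (.node .leaf (184095, 0, 17, 261326) .leaf)) (184096, 0, 16, 142500) (.node (.node .leaf (184097, 0, 15, 183490) .leaf) (184098, 0, 14, 15261) (.node .leaf (184099, 0, 14, 156339) .leaf))) (184100, 0, 15, 109810) (.node (.node (.node .leaf (184101, 0, 17, 259548) .leaf) (184102, 0, 15, 148608) (.node .leaf (184103, 0, 17, 7598) .leaf)) (184120, 0, 18, 160105) (.node (.node .leaf (184121, 0, 15, 202411) .leaf) (184122, 0, 18, 174071) (.node .leaf (184123, 0, 18, 246058) .leaf)))) (184124, 0, 14, 149578) (.node (.node (.node (.node .leaf (184125, 0, 13, 174124) .leaf) (184126, 0, 18, 55530) (.node .leaf (184127, 0, 17, 164292) .leaf)) (184128, 0, 15, 150999) (.node (.node .leaf (184129, 0, 10, 44865) .leaf) (184130, 0, 17, 204274) (.node .leaf (184131, 0, 17, 214835) .leaf))) (184132, 0, 17, 161012) (.node (.node (.node .leaf (184133, 0, 15, 169106) .leaf) (184134, 0, 15,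 221440) (.node .leaf (184135, 0, 15, 79918) .leaf)) (184152, 0, 16, 27141) (.node (.node .leaf (184153, 0, 16, 192636) .leaf) (184154, 0, 17, 213055) (.node .leaf (184155, 0, 14, 121689) .leaf))))) (184156, 0, 15, 136472) (.node (.node (.node (.node (.node .leaf (184157, 0, 16, 19510) .leaf) (184158, 0, 17, 130410) (.node .leaf (184159, 0, 17, 238660) .leaf)) (184160, 0, 18, 83490) (.node (.node .leaf (184161, 0, 16, 119371) .leaf) (184162, 0, 16, 5639) (.node .leaf (184163, 0, 15, 145977) .leaf))) (184164, 0, 16, 128120) (.node (.node (.node .leaf (184165, 0, 9, 240982) .leaf) (184166, 0, 17, 12068) (.node .leaf (184167, 0, 17, 17700) .leaf)) (184184, 0, 13, 71439) (.node (.node .leaf (184185, 0, 14, 129929) .leaf) (184186, 0, 17, 19402) (.node .leaf (184187, 0, 16, 42579) .leaf)))) (184188, 0, 16, 223250) (.node (.node (.node (.node .leaf (184189, 0, 17, 78140) .leaf) (184190, 0, 13, 32864) (.node .leaf (184191, 0, 18, 37519) .leaf)) (184200, 0, 16, 103875) (.node (.node .leaf (184201, 0, 14, 95653) .leaf) (184202, 0, 16,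 50662) (.node .leaf (184203, 0, 14, 17740) .leaf))) (184204, 0, 16, 109792) (.node (.node (.node .leaf (184205, 0, 19, 119331) .leaf) (184206, 0, 14, 25471) (.node .leaf (184207, 0, 18, 146001) .leaf)) (184208, 0, 14, 116750) (.node (.node .leaf (184209, 0, 16, 78164) .leaf) (184210, 0, 16, 38955) (.node .leaf (184211, 0, 15, 186662) .leaf))))))

/-- part of the orbit tree -/
def itp5_319 : Tree := (.node (.node (.node (.node (.node (.node .leaf (184213, 0, 16, 216649) .leaf) (184214, 0, 17, 41224) (.node .leaf (184215, 0, 17, 42555) .leaf)) (184232, 0, 15, 35098) (.node (.node .leaf (184233, 0, 16, 184372) .leaf) (184234, 0, 16, 249363) (.node .leaf (184235, 0, 16, 79942) .leaf))) (184236, 0, 14, 194055) (.node (.node (.node .leaf (184237, 0, 17, 44841) .leaf) (184238, 0, 16, 73333) (.node .leaf (184239, 0, 16, 202582) .leaf)) (184240, 0, 16, 136560) (.node (.node .leaf (184241, 0, 17, 19550) .leaf) (184242, 0, 15, 130306) (.node .leaf (184243, 0, 16, 238636) .leaf)))) (184244, 0, 16, 195288) (.node (.node (.node (.node .leaf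 (184245, 0, 14, 144195) .leaf) (184246, 0, 17, 240381) (.node .leaf (184247, 0, 18, 215707) .leaf)) (184264, 0, 12, 196421) (.node (.node .leaf (184265, 0, 18, 259508) .leaf) (184266, 0, 15, 241504) (.node .leaf (184267, 0, 16, 7622) .leaf))) (184268, 0, 15, 181862) (.node (.node (.node .leaf (184269, 0, 17, 140800) .leaf) (184270, 0, 16, 235075) (.node .leaf (184271, 0, 17, 226853) .leaf)) (184272, 0, 12, 209136) (.node (.node .leaf (184273, 0, 17, 148206) .leaf) (184274, 0, 17, 258733) (.node .leaf (184275, 0, 17, 164268) .leaf))))) (184276, 0, 17, 170923) (.node (.node (.node (.node (.node .leaf (184277, 0, 15, 162765) .leaf) (184278, 0, 17, 173983) (.node .leaf (184279, 0, 16, 65201) .leaf)) (184296, 0, 15, 53648) (.node (.node .leaf (184297, 0, 14, 166078) .leaf) (184298, 0, 15, 211426) (.node .leaf (184299, 0, 15, 17651) .leaf))) (184300, 0, 15, 118163) (.node (.node (.node .leaf (184301, 0, 15, 77301) .leaf) (184302, 0, 14, 83711) (.node .leaf (184303, 0, 16, 204753) .leaf)) (184304, 0, 16, 108925) (.node (.node .leaf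 (184305, 0, 17, 84251) .leaf) (184306, 0, 16, 107912) (.node .leaf (184307, 0, 18, 6462) .leaf)))) (184308, 0, 16, 102494) (.node (.node (.node (.node .leaf (184309, 0, 17, 158665) .leaf) (184310, 0, 13, 49275) (.node .leaf (184311, 0, 18, 8221) .leaf)) (184320, 0, 16, 54932) (.node (.node .leaf (184323, 0, 17, 92336) .leaf) (184325, 0, 17, 438) (.node .leaf (184326, 0, 17, 111093) .leaf))) (184328, 0, 13, 195947) (.node (.node (.node .leaf (184331, 0, 14, 101716) .leaf) (184333, 0, 14, 6715) (.node .leaf (184334, 0, 15, 234605) .leaf)) (184337, 0, 17, 147648) (.node (.node .leaf (184338, 0, 14, 258179) .leaf) (184340, 0, 15, 170373) (.node .leaf (184343, 0, 13, 207302) .leaf))))))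

/-- part of the orbit tree -/
def itp5_320 : Tree := (.node (.node (.node (.node (.node (.node .leaf (184346, 0, 14, 120091) .leaf) (184348, 0, 12, 13795) (.node .leaf (184351, 0, 15, 68702) .leaf)) (184352, 0, 15, 109470) (.node (.node .leaf (184355, 0, 17, 156485) .leaf) (184357, 0, 15, 101805) (.node .leaf (184358, 0, 15, 178688) .leaf))) (184360, 0, 17, 128670) (.node (.node (.node .leaf (184363, 0, 16, 61534) .leaf) (184365, 0, 10, 77787) (.node .leaf (184366, 0, 16, 54893) .leaf)) (184369, 0, 14, 84789) (.node (.node .leaf (184370, 0, 13, 64374) .leaf) (184372, 0, 15, 103024) (.node .leaf (184375, 0, 15, 8755) .leaf)))) (184377, 0, 16, 93914) (.node (.node (.node (.node .leaf (184378, 0, 18, 57222) .leaf) (184380, 0, 18, 84201) (.node .leaf (184383, 0, 15, 63925) .leaf)) (184384, 0, 15, 36382) (.node (.node .leaf (184387, 0, 16, 131638) .leaf) (184389, 0, 17, 43053) (.node .leaf (184390, 0, 18, 72049) .leaf))) (184392, 0, 18, 104429) (.node (.node (.node .leaf (184395, 0, 15, 10158) .leaf) (184397, 0, 15, 85672) (.node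 .leaf (184398, 0, 15, 65259) .leaf)) (184401, 0, 17, 41414) (.node (.node .leaf (184402, 0, 17, 39429) .leaf) (184404, 0, 14, 34805) (.node .leaf (184407, 0, 16, 17216) .leaf))))) (184409, 0, 17, 200670) (.node (.node (.node (.node (.node .leaf (184410, 0, 18, 180125) .leaf) (184412, 0, 15, 251547) (.node .leaf (184415, 0, 17, 157400) .leaf)) (184416, 0, 15, 127764) (.node (.node .leaf (184419, 0, 16, 16968) .leaf) (184421, 0, 17, 24773) (.node .leaf (184422, 0, 13, 118918) .leaf))) (184424, 0, 15, 72072) (.node (.node (.node .leaf (184427, 0, 16, 43220) .leaf) (184429, 0, 16, 148829) (.node .leaf (184430, 0, 15, 259358) .leaf)) (184433, 0, 15, 122060) (.node (.node .leaf (184434, 0, 17, 233968) .leaf) (184436, 0, 11, 194806) (.node .leaf (184439, 0, 18, 19363) .leaf)))) (184441, 0, 17, 1067) (.node (.node (.node (.node .leaf (184442, 0, 16, 111720) .leaf) (184444, 0, 16, 69731) (.node .leaf (184447, 0, 18, 41279) .leaf)) (184449, 0, 17, 176031) (.node (.node .leaf (184450, 0, 15, 204764) .leaf) (184452, 0, 13, 72160) (.node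 .leaf (184455, 0, 16, 43196) .leaf))) (184457, 0, 15, 120143) (.node (.node (.node .leaf (184458, 0, 15, 25619) .leaf) (184460, 0, 15, 127868) (.node .leaf (184463, 0, 16, 123649) .leaf)) (184464, 0, 16, 14252) (.node (.node .leaf (184467, 0, 17, 41303) .leaf) (184469, 0, 16, 61161) (.node .leaf (184470, 0, 18, 34660) .leaf))))))

/-- part of the orbit tree -/
def itp5_321 : Tree := (.node itp5_317 (184092, 0, 16, 82879) itp5_318)

/-- part of the orbit tree -/
def itp5_322 : Tree := (.node itp5_319 (184345, 0, 15, 25944) itp5_320)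

/-- part of the orbit tree -/
def itp5_323 : Tree := (.node (.node (.node (.node (.node (.node .leaf (184475, 0, 14, 238199) .leaf) (184477, 0, 15, 122020) (.node .leaf (184478, 0, 14, 228146) .leaf)) (184481, 0, 18, 17113) (.node (.node .leaf (184482, 0, 15, 5161) .leaf) (184484, 0, 16, 97583) (.node .leaf (184487, 0, 16, 52588) .leaf))) (184489, 0, 17, 43077) (.node (.node (.node .leaf (184490, 0, 14, 71961) .leaf) (184492, 0, 14, 219319) (.node .leaf (184495, 0, 16, 190708) .leaf)) (184496, 0, 17, 27905) (.node (.node .leaf (184499, 0, 16, 121949) .leaf) (184501, 0, 15, 19250) (.node .leaf (184502, 0, 17, 152927) .leaf)))) (184504, 0, 16, 34717) (.node (.node (.node (.node .leaf (184507, 0, 15, 43394) .leaf) (184509, 0, 16, 114820) (.node .leaf (184510, 0, 18, 69874) .leaf)) (184513, 0, 17, 115993) (.node (.node .leaf (184514, 0, 17, 30042) .leaf) (184516, 0, 15, 82282) (.node .leaf (184519, 0, 10, 61494) .leaf))) (184521, 0, 16, 101829) (.node (.node (.node .leaf (184522, 0, 14, 15513) .leaf) (184524, 0, 15, 109558) (.node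 .leaf (184527, 0, 17, 6826) .leaf)) (184528, 0, 17, 84097) (.node (.node .leaf (184531, 0, 16, 191849) .leaf) (184533, 0, 17, 93874) (.node .leaf (184534, 0, 12, 144428) .leaf))))) (184536, 0, 17, 107037) (.node (.node (.node (.node (.node .leaf (184539, 0, 17, 51441) .leaf) (184541, 0, 14, 99374) (.node .leaf (184542, 0, 14, 13682) .leaf)) (184545, 0, 16, 6739) (.node (.node .leaf (184546, 0, 14, 109327) .leaf) (184548, 0, 18, 137129) (.node .leaf (184551, 0, 14, 101692) .leaf))) (184553, 0, 18, 61647) (.node (.node (.node .leaf (184554, 0, 15, 88887) .leaf) (184556, 0, 12, 12849) (.node .leaf (184559, 0, 15, 92064) .leaf)) (184560, 0, 16, 13707) (.node (.node .leaf (184563, 0, 15, 124572) .leaf) (184565, 0, 15, 36762) (.node .leaf (184566, 0, 18, 107236) .leaf)))) (184568, 0, 17, 160583) (.node (.node (.node (.node .leaf (184571, 0, 16, 93771) .leaf) (184573, 0, 15, 63780) (.node .leaf (184574, 0, 10, 84088) .leaf)) (184576, 0, 15, 227975) (.node (.node .leaf (184579, 0, 13, 98347) .leaf) (184581, 0, 16, 238530) (.node .leaf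 (184582, 0, 15, 136065) .leaf))) (184584, 0, 17, 56299) (.node (.node (.node .leaf (184587, 0, 16, 61276) .leaf) (184589, 0, 16, 99930) (.node .leaf (184590, 0, 16, 13849) .leaf)) (184593, 0, 17, 123572) (.node (.node .leaf (184594, 0, 17, 110579) .leaf) (184596, 0, 15, 14492) (.node .leaf (184599, 0, 17, 35762) .leaf))))))

/-- part of the orbit tree -/
def itp5_324 : Tree := (.node (.node (.node (.node (.node (.node .leaf (184602, 0, 17, 83311) .leaf) (184604, 0, 14, 204393) (.node .leaf (184607, 0, 16, 175658) .leaf)) (184608, 0, 16, 85117) (.node (.node .leaf (184611, 0, 16, 64801) .leaf) (184613, 0, 17, 92750) (.node .leaf (184614, 0, 16, 71796) .leaf))) (184616, 0, 17, 108257) (.node (.node (.node .leaf (184619, 0, 17, 255145) .leaf) (184621, 0, 17, 167343) (.node .leaf (184622, 0, 18, 212460) .leaf)) (184625, 0, 17, 91045) (.node (.node .leaf (184626, 0, 18, 219394) .leaf) (184628, 0, 15, 83350) (.node .leaf (184631, 0, 16, 62666) .leaf)))) (184633, 0, 13, 52441) (.node (.node (.node (.node .leaf (184634, 0, 17, 97434)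 .leaf) (184636, 0, 16, 5532) (.node .leaf (184639, 0, 13, 7766) .leaf)) (184640, 0, 16, 4097) (.node (.node .leaf (184643, 0, 14, 120993) .leaf) (184645, 0, 16, 20430) (.node .leaf (184646, 0, 14, 130706) .leaf))) (184648, 0, 17, 33633) (.node (.node (.node .leaf (184651, 0, 16, 78397) .leaf) (184653, 0, 17, 191708) (.node .leaf (184654, 0, 17, 70670) .leaf)) (184657, 0, 15, 165938) (.node (.node .leaf (184658, 0, 16, 128889) .leaf) (184660, 0, 15, 151927) (.node .leaf (184663, 0, 16, 119114) .leaf))))) (184665, 0, 15, 44217) (.node (.node (.node (.node (.node .leaf (184666, 0, 17, 73189) .leaf) (184668, 0, 15, 29935) (.node .leaf (184671, 0, 18, 80854) .leaf)) (184672, 0, 15, 203764) (.node (.node .leaf (184675, 0, 16, 42411) .leaf) (184677, 0, 16, 78532) (.node .leaf (184678, 0, 17, 160498) .leaf))) (184680, 0, 17, 81516) (.node (.node (.node .leaf (184683, 0, 17, 36399) .leaf) (184685, 0, 15, 120920) (.node .leaf (184686, 0, 18, 26884) .leaf)) (184689, 0, 17, 99271) (.node (.node .leaf (184690, 0, 14, 13188) .leaf) (184692,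 0, 17, 88706) (.node .leaf (184695, 0, 17, 60097) .leaf)))) (184697, 0, 12, 239199) (.node (.node (.node (.node .leaf (184698, 0, 17, 24815) .leaf) (184700, 0, 18, 128896) (.node .leaf (184703, 0, 17, 184153) .leaf)) (184705, 0, 17, 69099) (.node (.node .leaf (184706, 0, 17, 26988) .leaf) (184708, 0, 13, 130563) (.node .leaf (184711, 0, 16, 20319) .leaf))) (184713, 0, 17, 78508) (.node (.node (.node .leaf (184714, 0, 17, 33776) .leaf) (184716, 0, 14, 70815) (.node .leaf (184719, 0, 17, 147829) .leaf)) (184720, 0, 13, 234968) (.node (.node .leaf (184723, 0, 18, 140699) .leaf) (184725, 0, 14, 119259) (.node .leaf (184726, 0, 19, 195806) .leaf))))))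

/-- part of the orbit tree -/
def itp5_325 : Tree := (.node (.node (.node (.node (.node (.node .leaf (184731, 0, 1, 3) .leaf) (184733, 0, 16, 80711) (.node .leaf (184734, 0, 16, 55622) .leaf)) (184737, 0, 16, 132638) (.node (.node .leaf (184738, 0, 14, 243293) .leaf) (184740, 0, 18, 188251) (.node .leaf (184743, 0, 16, 78421) .leaf))) (184745, 0, 13, 9094) (.node (.node (.node .leaf (184746, 0, 16, 130810) .leaf) (184748, 0, 17, 64195) (.node .leaf (184751, 0, 16, 84608) .leaf)) (184752, 0, 14, 40493) (.node (.node .leaf (184755, 0, 15, 77422) .leaf) (184757, 0, 14, 44241) (.node .leaf (184758, 0, 18, 73101) .leaf)))) (184760, 0, 18, 24702) (.node (.node (.node (.node .leaf (184763, 0, 15, 119074) .leaf) (184765, 0, 15, 156400) (.node .leaf (184766, 0, 16, 250547) .leaf)) (184769, 0, 17, 98490) (.node (.node .leaf (184770, 0, 13, 12774) .leaf) (184772, 0, 16, 179752) (.node .leaf (184775, 0, 15, 6101) .leaf))) (184777, 0, 15, 92710) (.node (.node (.node .leaf (184778, 0, 16, 127670) .leaf) (184780, 0, 17, 39856) (.node .leaf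 (184783, 0, 18, 64841) .leaf)) (184784, 0, 16, 110434) (.node (.node .leaf (184787, 0, 18, 7742) .leaf) (184789, 0, 12, 100689) (.node .leaf (184790, 0, 16, 14349) .leaf))))) (184792, 0, 17, 83454) (.node (.node (.node (.node (.node .leaf (184795, 0, 14, 223877) .leaf) (184797, 0, 15, 131971) (.node .leaf (184798, 0, 16, 242624) .leaf)) (184801, 0, 17, 64944) (.node (.node .leaf (184802, 0, 16, 85228) .leaf) (184804, 0, 16, 56195) (.node .leaf (184807, 0, 13, 92895) .leaf))) (184809, 0, 17, 215296) (.node (.node (.node .leaf (184810, 0, 13, 108144) .leaf) (184812, 0, 17, 233541) (.node .leaf (184815, 0, 15, 139270) .leaf)) (184816, 0, 18, 53864) (.node (.node .leaf (184819, 0, 15, 148712) .leaf) (184821, 0, 12, 62555) (.node .leaf (184822, 0, 18, 83207) .leaf)))) (184824, 0, 18, 119091) (.node (.node (.node (.node .leaf (184827, 0, 15, 24944) .leaf) (184829, 0, 16, 67702) (.node .leaf (184830, 0, 15, 110491) .leaf)) (184834, 0, 14, 107686) (.node (.node .leaf (184835, 0, 16, 83136) .leaf) (184836, 0, 14, 52640) (.node .leaf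 (184837, 0, 13, 62859) .leaf))) (184842, 0, 15, 229694) (.node (.node (.node .leaf (184843, 0, 16, 221528) .leaf) (184844, 0, 17, 149049) (.node .leaf (184845, 0, 17, 7959) .leaf)) (184848, 0, 14, 173390) (.node (.node .leaf (184849, 0, 16, 158896) .leaf) (184854, 0, 17, 255440) (.node .leaf (184855, 0, 14, 198070) .leaf))))))

/-- part of the orbit tree -/
def itp5_326 : Tree := (.node (.node (.node (.node (.node (.node .leaf (184857, 0, 13, 5884) .leaf) (184862, 0, 14, 252093) (.node .leaf (184863, 0, 14, 98707) .leaf)) (184866, 0, 16, 149184) (.node (.node .leaf (184867, 0, 14, 151349) .leaf) (184868, 0, 12, 250287) (.node .leaf (184869, 0, 18, 100481) .leaf))) (184874, 0, 18, 175196) (.node (.node (.node .leaf (184875, 0, 17, 27309) .leaf) (184876, 0, 16, 211763) (.node .leaf (184877, 0, 17, 66475) .leaf)) (184880, 0, 15, 100131) (.node (.node .leaf (184881, 0, 16, 98666) .leaf) (184886, 0, 14, 151339) (.node .leaf (184887, 0, 16, 5637) .leaf)))) (184888, 0, 17, 238267) (.node (.node (.node (.node .leaf (184889, 0, 16,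 93174) .leaf) (184894, 0, 16, 183229) (.node .leaf (184895, 0, 18, 142299) .leaf)) (184898, 0, 17, 222016) (.node (.node .leaf (184899, 0, 15, 142918) .leaf) (184900, 0, 16, 239398) (.node .leaf (184901, 0, 17, 214848) .leaf))) (184906, 0, 16, 60344) (.node (.node (.node .leaf (184907, 0, 15, 3038) .leaf) (184908, 0, 17, 99006) (.node .leaf (184909, 0, 16, 18333) .leaf)) (184912, 0, 10, 196036) (.node (.node .leaf (184913, 0, 18, 67126) .leaf) (184918, 0, 14, 223915) (.node .leaf (184919, 0, 14, 78725) .leaf))))) (184920, 0, 14, 246728) (.node (.node (.node (.node (.node .leaf (184921, 0, 15, 20086) .leaf) (184926, 0, 15, 174798) (.node .leaf (184927, 0, 12, 150184) .leaf)) (184930, 0, 14, 138826) (.node (.node .leaf (184931, 0, 16, 75187) .leaf) (184932, 0, 15, 231717) (.node .leaf (184933, 0, 13, 19637) .leaf))) (184938, 0, 18, 254029) (.node (.node (.node .leaf (184939, 0, 13, 44536) .leaf) (184940, 0, 18, 222137) (.node .leaf (184941, 0, 13, 80535) .leaf)) (184944, 0, 15, 229582) (.node (.node .leaf (184945, 0, 18, 121312)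 .leaf) (184950, 0, 16, 137121) (.node .leaf (184951, 0, 16, 222405) .leaf)))) (184952, 0, 16, 51261) (.node (.node (.node (.node .leaf (184953, 0, 13, 10331) .leaf) (184958, 0, 15, 195901) (.node .leaf (184959, 0, 17, 42003) .leaf)) (184960, 0, 17, 156553) (.node (.node .leaf (184961, 0, 17, 164847) .leaf) (184966, 0, 11, 199311) (.node .leaf (184967, 0, 14, 44432) .leaf))) (184968, 0, 16, 17937) (.node (.node (.node .leaf (184969, 0, 16, 42615) .leaf) (184974, 0, 13, 77591) (.node .leaf (184975, 0, 17, 118641) .leaf)) (184978, 0, 17, 84985) (.node (.node .leaf (184979, 0, 14, 42107) .leaf) (184980, 0, 14, 8959) .leaf)))))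

/-- part of the orbit tree -/
def itp5_327 : Tree := (.node itp5_323 (184601, 0, 13, 247596) itp5_324)

/-- part of the orbit tree -/
def itp5_328 : Tree := (.node itp5_325 (184856, 0, 16, 151506) itp5_326)

/-- part of the orbit tree -/
def itp5_329 : Tree := (.node itp5_321 (184212, 0, 16, 127277) itp5_322)

/-- part of the orbit tree -/
def itp5_330 : Tree := (.node itp5_327 (184728, 0, 13, 110656) itp5_328)

/-- part of the orbit tree -/
def itp5_331 : Tree := (.node (.node (.node (.node (.node (.node .leaf (184986, 0, 15, 224865) .leaf) (184987, 0, 14, 20199) (.node .leaf (184988, 0, 17, 132967) .leaf)) (184989, 0, 18, 190209) (.node (.node .leaf (184992, 0, 18, 92284) .leaf) (184993, 0, 16, 18421) (.node .leaf (184998, 0, 17, 378) .leaf))) (184999, 0, 18, 118938) (.node (.node (.node .leaf (185000, 0, 15, 216548) .leaf) (185001, 0, 16, 241026) (.node .leaf (185006, 0, 16, 221992) .leaf)) (185007, 0, 17, 80390) (.node (.node .leaf (185010, 0, 18, 147468) .leaf) (185011, 0, 15, 121201) (.node .leaf (185012, 0, 17, 207114)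 .leaf)))) (185013, 0, 16, 19998) (.node (.node (.node (.node .leaf (185018, 0, 15, 223939) .leaf) (185019, 0, 17, 34290) (.node .leaf (185020, 0, 16, 196012) .leaf)) (185021, 0, 17, 42114) (.node (.node .leaf (185024, 0, 17, 211803) .leaf) (185025, 0, 16, 125289) (.node .leaf (185030, 0, 15, 175156) .leaf))) (185031, 0, 15, 32879) (.node (.node (.node .leaf (185032, 0, 18, 208023) .leaf) (185033, 0, 17, 100585) (.node .leaf (185038, 0, 14, 149160) .leaf)) (185039, 0, 15, 8070) (.node (.node .leaf (185042, 0, 17, 173535) .leaf) (185043, 0, 14, 64753) (.node .leaf (185044, 0, 19, 209584) .leaf))))) (185045, 0, 17, 239647) (.node (.node (.node (.node (.node .leaf (185050, 0, 14, 151363) .leaf) (185051, 0, 16, 58497) (.node .leaf (185052, 0, 16, 93665) .leaf)) (185053, 0, 18, 98562) (.node (.node .leaf (185056, 0, 15, 149073) .leaf) (185057, 0, 18, 8063) (.node .leaf (185062, 0, 16, 224252) .leaf))) (185063, 0, 15, 232346) (.node (.node (.node .leaf (185064, 0, 15, 10082) .leaf) (185065, 0, 17, 50948) (.node .leaf (185070, 0, 16,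 211874) .leaf)) (185071, 0, 17, 90764) (.node (.node .leaf (185074, 0, 15, 76426) .leaf) (185075, 0, 17, 98811) (.node .leaf (185076, 0, 16, 17292) .leaf)))) (185077, 0, 17, 41962) (.node (.node (.node (.node .leaf (185082, 0, 17, 200466) .leaf) (185083, 0, 13, 257908) (.node .leaf (185084, 0, 14, 157204) .leaf)) (185085, 0, 15, 165490) (.node (.node .leaf (185090, 0, 18, 252969) .leaf) (185091, 0, 18, 99591) (.node .leaf (185092, 0, 18, 225236) .leaf))) (185093, 0, 16, 233394) (.node (.node (.node .leaf (185098, 0, 19, 210613) .leaf) (185099, 0, 17, 49964) (.node .leaf (185100, 0, 15, 172506) .leaf)) (185101, 0, 18, 63732) (.node (.node .leaf (185104, 0, 15, 77474) .leaf) (185105, 0, 14, 118468) (.node .leaf (185110, 0, 17, 18340) .leaf))))))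

/-- part of the orbit tree -/
def itp5_332 : Tree := (.node (.node (.node (.node (.node (.node .leaf (185112, 0, 16, 199482) .leaf) (185113, 0, 14, 61727) (.node .leaf (185118, 0, 16, 156220) .leaf)) (185119, 0, 17, 91760) (.node (.node .leaf (185122, 0, 17, 68903) .leaf) (185123, 0, 15, 126273) (.node .leaf (185124, 0, 16, 210508) .leaf))) (185125, 0, 17, 33863) (.node (.node (.node .leaf (185130, 0, 17, 150463) .leaf) (185131, 0, 14, 4753) (.node .leaf (185132, 0, 17, 147897) .leaf)) (185133, 0, 16, 99838) (.node (.node .leaf (185136, 0, 16, 212903) .leaf) (185137, 0, 18, 91785) (.node .leaf (185142, 0, 18, 174280) .leaf)))) (185143, 0, 16, 61926) (.node (.node (.node (.node .leaf (185144, 0, 15, 251195) .leaf) (185145, 0, 16, 57513) (.node .leaf (185150, 0, 15, 148052) .leaf)) (185151, 0, 14, 100783) (.node (.node .leaf (185154, 0, 15, 93268) .leaf) (185155, 0, 16, 101426) (.node .leaf (185156, 0, 13, 1362) .leaf))) (185157, 0, 14, 58676) (.node (.node (.node .leaf (185162, 0, 18, 215500) .leaf) (185163, 0, 15, 79633) (.node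 .leaf (185164, 0, 16, 194896) .leaf)) (185165, 0, 15, 180396) (.node (.node .leaf (185168, 0, 16, 148516) .leaf) (185169, 0, 16, 17161) (.node .leaf (185174, 0, 18, 232776) .leaf))))) (185175, 0, 16, 119910) (.node (.node (.node (.node (.node .leaf (185176, 0, 18, 25020) .leaf) (185177, 0, 18, 33242) (.node .leaf (185182, 0, 18, 67770) .leaf)) (185183, 0, 15, 81658) (.node (.node .leaf (185186, 0, 18, 194985) .leaf) (185187, 0, 16, 165831) (.node .leaf (185188, 0, 15, 200359) .leaf))) (185189, 0, 17, 257729) (.node (.node (.node .leaf (185194, 0, 17, 135989) .leaf) (185195, 0, 15, 41567) (.node .leaf (185196, 0, 16, 76607) .leaf)) (185197, 0, 15, 117593) (.node (.node .leaf (185200, 0, 16, 223021) .leaf) (185201, 0, 16, 110519) (.node .leaf (185206, 0, 17, 192578) .leaf)))) (185207, 0, 15, 50865) (.node (.node (.node (.node .leaf (185208, 0, 15, 232881) .leaf) (185209, 0, 15, 119967) (.node .leaf (185214, 0, 15, 137950) .leaf)) (185215, 0, 17, 17392) (.node (.node .leaf (185216, 0, 13, 115197) .leaf) (185217, 0, 17, 122140)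 (.node .leaf (185222, 0, 15, 136029) .leaf))) (185223, 0, 18, 19059) (.node (.node (.node .leaf (185224, 0, 12, 224942) .leaf) (185225, 0, 16, 79744) (.node .leaf (185230, 0, 15, 167267) .leaf)) (185231, 0, 18, 158981) (.node (.node .leaf (185234, 0, 14, 190861) .leaf) (185235, 0, 17, 17304) (.node .leaf (185236, 0, 16, 232921) .leaf))))))

/-- part of the orbit tree -/
def itp5_333 : Tree := (.node (.node (.node (.node (.node (.node .leaf (185242, 0, 16, 52245) .leaf) (185243, 0, 15, 43268) (.node .leaf (185244, 0, 15, 107795) .leaf)) (185245, 0, 18, 81515) (.node (.node .leaf (185248, 0, 15, 182792) .leaf) (185249, 0, 15, 141934) (.node .leaf (185254, 0, 15, 224855) .leaf))) (185255, 0, 12, 79737) (.node (.node (.node .leaf (185256, 0, 17, 136100) .leaf) (185257, 0, 16, 19082) (.node .leaf (185262, 0, 15, 230603) .leaf)) (185263, 0, 12, 91888) (.node (.node .leaf (185266, 0, 14, 123512) .leaf) (185267, 0, 17, 66078) (.node .leaf (185268, 0, 17, 35710) .leaf)))) (185269, 0, 15, 43517) (.node (.node (.node (.node .leaf (185274,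 0, 16, 247776) .leaf) (185275, 0, 17, 119822) (.node .leaf (185276, 0, 15, 137807) .leaf)) (185277, 0, 15, 17249) (.node (.node .leaf (185280, 0, 17, 174971) .leaf) (185281, 0, 16, 99734) (.node .leaf (185286, 0, 16, 150487) .leaf))) (185287, 0, 15, 4857) (.node (.node (.node .leaf (185288, 0, 17, 210468) .leaf) (185289, 0, 11, 28293) (.node .leaf (185294, 0, 16, 172363) .leaf)) (185295, 0, 16, 67459) (.node (.node .leaf (185298, 0, 18, 99083) .leaf) (185299, 0, 18, 6930) (.node .leaf (185300, 0, 16, 59917) .leaf))))) (185301, 0, 16, 2667) (.node (.node (.node (.node (.node .leaf (185306, 0, 13, 174240) .leaf) (185307, 0, 17, 214773) (.node .leaf (185308, 0, 17, 184213) .leaf)) (185309, 0, 16, 143347) (.node (.node .leaf (185312, 0, 15, 172466) .leaf) (185313, 0, 15, 63644) (.node .leaf (185318, 0, 16, 51592) .leaf))) (185319, 0, 17, 94195) (.node (.node (.node .leaf (185320, 0, 16, 230678) .leaf) (185321, 0, 15, 4608) (.node .leaf (185326, 0, 15, 191504) .leaf)) (185327, 0, 18, 134262) (.node (.node .leaf (185330, 0, 17, 166142)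 .leaf) (185331, 0, 15, 91672) (.node .leaf (185332, 0, 18, 174169) .leaf)))) (185333, 0, 15, 61815) (.node (.node (.node (.node .leaf (185338, 0, 16, 251306) .leaf) (185339, 0, 15, 101508) (.node .leaf (185340, 0, 14, 115808) .leaf)) (185341, 0, 17, 74758) (.node (.node .leaf (185345, 0, 18, 74301) .leaf) (185347, 0, 18, 29208) (.node .leaf (185348, 0, 18, 107645) .leaf))) (185350, 0, 17, 150543) (.node (.node (.node .leaf (185353, 0, 15, 92370) .leaf) (185355, 0, 13, 153472) (.node .leaf (185356, 0, 16, 85729) .leaf)) (185358, 0, 12, 167621) (.node (.node .leaf (185360, 0, 16, 244238) .leaf) (185362, 0, 14, 191019) (.node .leaf (185365, 0, 14, 222027) .leaf))))))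

/-- part of the orbit tree -/
def itp5_334 : Tree := (.node (.node (.node (.node (.node (.node .leaf (185368, 0, 14, 106390) .leaf) (185370, 0, 17, 53171) (.node .leaf (185373, 0, 16, 83667) .leaf)) (185375, 0, 18, 166219) (.node (.node .leaf (185377, 0, 18, 141768) .leaf) (185379, 0, 14, 227821) (.node .leaf (185380, 0, 16, 192653) .leaf))) (185382, 0, 18, 209157) (.node (.node (.node .leaf (185385, 0, 17, 3152) .leaf) (185387, 0, 12, 89205) (.node .leaf (185388, 0, 17, 54549) .leaf)) (185390, 0, 14, 99632) (.node (.node .leaf (185392, 0, 15, 53404) .leaf) (185394, 0, 17, 123358) (.node .leaf (185397, 0, 16, 26814) .leaf)))) (185399, 0, 15, 80027) (.node (.node (.node (.node .leaf (185400, 0, 14, 14848) .leaf) (185402, 0, 18, 246854) (.node .leaf (185405, 0, 12, 7219) .leaf)) (185407, 0, 16, 204035) (.node (.node .leaf (185409, 0, 14, 121540) .leaf) (185411, 0, 15, 144054) (.node .leaf (185412, 0, 16, 130295) .leaf))) (185414, 0, 17, 136325) (.node (.node (.node .leaf (185417, 0, 16, 27939) .leaf) (185419, 0, 17, 81158) (.node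 .leaf (185420, 0, 12, 46182) .leaf)) (185422, 0, 18, 123971) (.node (.node .leaf (185424, 0, 15, 53384) .leaf) (185426, 0, 18, 138606) (.node .leaf (185429, 0, 12, 119599) .leaf))))) (185431, 0, 16, 88552) (.node (.node (.node (.node (.node .leaf (185432, 0, 18, 73600) .leaf) (185434, 0, 15, 194546) (.node .leaf (185437, 0, 10, 80307) .leaf)) (185439, 0, 18, 184769) (.node (.node .leaf (185441, 0, 18, 82766) .leaf) (185443, 0, 17, 217020) (.node .leaf (185444, 0, 16, 33277) .leaf))) (185446, 0, 16, 51758) (.node (.node (.node .leaf (185449, 0, 13, 222934) .leaf) (185451, 0, 18, 145139) (.node .leaf (185452, 0, 15, 245651) .leaf)) (185454, 0, 16, 230163) (.node (.node .leaf (185456, 0, 16, 34838) .leaf) (185458, 0, 18, 221284) (.node .leaf (185461, 0, 17, 44581) .leaf)))) (185463, 0, 15, 214615) (.node (.node (.node (.node .leaf (185464, 0, 16, 25226) .leaf) (185466, 0, 16, 44736) (.node .leaf (185469, 0, 18, 75680) .leaf)) (185471, 0, 14, 30597) (.node (.node .leaf (185472, 0, 18, 218449) .leaf) (185474, 0, 15, 132468) (.node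 .leaf (185477, 0, 17, 232468) .leaf))) (185479, 0, 16, 187441) (.node (.node (.node .leaf (185480, 0, 18, 94409) .leaf) (185482, 0, 14, 223719) (.node .leaf (185485, 0, 8, 108940) .leaf)) (185487, 0, 15, 217044) (.node (.node .leaf (185489, 0, 17, 17617) .leaf) (185491, 0, 14, 40263) (.node .leaf (185492, 0, 15, 25314) .leaf))))))

/-- part of the orbit tree -/
def itp5_335 : Tree := (.node itp5_331 (185111, 0, 18, 42946) itp5_332)

/-- part of the orbit tree -/
def itp5_336 : Tree := (.node itp5_333 (185367, 0, 15, 144238) itp5_334)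

/-- part of the orbit tree -/
def itp5_337 : Tree := (.node (.node (.node (.node (.node (.node .leaf (185497, 0, 16, 44621) .leaf) (185499, 0, 18, 178399) (.node .leaf (185500, 0, 15, 34942) .leaf)) (185502, 0, 16, 221196) (.node (.node .leaf (185504, 0, 15, 24228) .leaf) (185506, 0, 17, 69249) (.node .leaf (185509, 0, 15, 77872) .leaf))) (185511, 0, 16, 120772) (.node (.node (.node .leaf (185512, 0, 16, 130207) .leaf) (185514, 0, 15, 136429) (.node .leaf (185517, 0, 14, 172665) .leaf)) (185519, 0, 18, 258652) (.node (.node .leaf (185521, 0, 16, 181911) .leaf) (185523, 0, 14, 184745) (.node .leaf (185524, 0, 16, 139218) .leaf)))) (185526, 0, 18, 194458) (.node (.node (.node (.node .leaf (185529, 0, 15, 58127) .leaf) (185531, 0, 17, 146229) (.node .leaf (185532, 0, 15, 128372) .leaf)) (185534, 0, 15, 92783) (.node (.node .leaf (185536, 0, 17, 16343) .leaf) (185538, 0, 13, 252913) (.node .leaf (185541, 0, 16, 5552) .leaf))) (185543, 0, 13, 261570) (.node (.node (.node .leaf (185544, 0, 15, 137807) .leaf) (185546, 0, 18, 209261)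 (.node .leaf (185549, 0, 17, 181002) .leaf)) (185551, 0, 14, 202590) (.node (.node .leaf (185553, 0, 18, 7259) .leaf) (185555, 0, 14, 259113) (.node .leaf (185556, 0, 14, 14952) .leaf))))) (185558, 0, 15, 250394) (.node (.node (.node (.node (.node .leaf (185561, 0, 13, 33404) .leaf) (185563, 0, 19, 119385) (.node .leaf (185564, 0, 14, 23353) .leaf)) (185566, 0, 14, 68380) (.node (.node .leaf (185568, 0, 16, 85641) .leaf) (185570, 0, 18, 156679) (.node .leaf (185573, 0, 10, 92346) .leaf))) (185575, 0, 9, 164040) (.node (.node (.node .leaf (185576, 0, 16, 70074) .leaf) (185578, 0, 13, 150631) (.node .leaf (185581, 0, 18, 98854) .leaf)) (185583, 0, 18, 158292) (.node (.node .leaf (185585, 0, 17, 90449) .leaf) (185587, 0, 12, 64564) (.node .leaf (185588, 0, 13, 95572) .leaf)))) (185590, 0, 16, 9585) (.node (.node (.node (.node .leaf (185593, 0, 18, 231817) .leaf) (185595, 0, 13, 156607) (.node .leaf (185596, 0, 17, 110078) .leaf)) (185598, 0, 14, 148876) (.node (.node .leaf (185601, 0, 15, 163913) .leaf) (185603, 0, 19, 167391)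 (.node .leaf (185604, 0, 15, 153868) .leaf))) (185606, 0, 12, 198953) (.node (.node (.node .leaf (185609, 0, 16, 102193) .leaf) (185611, 0, 15, 157507) (.node .leaf (185612, 0, 13, 108802) .leaf)) (185614, 0, 16, 76977) (.node (.node .leaf (185616, 0, 14, 6266) .leaf) (185618, 0, 17, 172551) (.node .leaf (185621, 0, 12, 49471) .leaf))))))

/-- part of the orbit tree -/
def itp5_338 : Tree := (.node (.node (.node (.node (.node (.node .leaf (185624, 0, 19, 146914) .leaf) (185626, 0, 18, 224711) (.node .leaf (185629, 0, 12, 189607) .leaf)) (185631, 0, 16, 159400) (.node (.node .leaf (185633, 0, 16, 101308) .leaf) (185635, 0, 17, 56217) (.node .leaf (185636, 0, 17, 86777) .leaf))) (185638, 0, 17, 251622) (.node (.node (.node .leaf (185641, 0, 17, 62011) .leaf) (185643, 0, 17, 203337) (.node .leaf (185644, 0, 17, 54280) .leaf)) (185646, 0, 17, 141124) (.node (.node .leaf (185648, 0, 17, 201615) .leaf) (185650, 0, 14, 253709) (.node .leaf (185653, 0, 15, 248522) .leaf)))) (185655, 0, 16, 260414) (.node (.node (.node (.node .leaf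 (185656, 0, 18, 56803) .leaf) (185658, 0, 18, 26162) (.node .leaf (185661, 0, 11, 126802) .leaf)) (185663, 0, 17, 201634) (.node (.node .leaf (185665, 0, 13, 81191) .leaf) (185667, 0, 17, 47850) (.node .leaf (185668, 0, 17, 72468) .leaf))) (185670, 0, 15, 25519) (.node (.node (.node .leaf (185673, 0, 15, 120763) .leaf) (185675, 0, 16, 147401) (.node .leaf (185676, 0, 17, 202258) .leaf)) (185678, 0, 17, 149047) (.node (.node .leaf (185680, 0, 14, 70399) .leaf) (185682, 0, 18, 195213) (.node .leaf (185685, 0, 18, 79052) .leaf))))) (185687, 0, 17, 187582) (.node (.node (.node (.node (.node .leaf (185688, 0, 17, 87908) .leaf) (185690, 0, 14, 135185) (.node .leaf (185693, 0, 14, 122448) .leaf)) (185695, 0, 13, 144930) (.node (.node .leaf (185697, 0, 16, 188730) .leaf) (185699, 0, 17, 241951) (.node .leaf (185700, 0, 10, 26142) .leaf))) (185702, 0, 16, 233068) (.node (.node (.node .leaf (185705, 0, 14, 43697) .leaf) (185707, 0, 16, 213699) (.node .leaf (185708, 0, 17, 7655) .leaf)) (185710, 0, 17, 222448) (.node (.node .leaf (185712,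 0, 12, 30985) .leaf) (185714, 0, 16, 76076) (.node .leaf (185717, 0, 15, 41036) .leaf)))) (185719, 0, 15, 127081) (.node (.node (.node (.node .leaf (185720, 0, 16, 34153) .leaf) (185722, 0, 18, 224539) (.node .leaf (185725, 0, 9, 165332) .leaf)) (185727, 0, 12, 251377) (.node (.node .leaf (185728, 0, 14, 63269) .leaf) (185730, 0, 14, 108288) (.node .leaf (185733, 0, 18, 43737) .leaf))) (185735, 0, 15, 213675) (.node (.node (.node .leaf (185736, 0, 12, 26230) .leaf) (185738, 0, 17, 230040) (.node .leaf (185741, 0, 16, 134136) .leaf)) (185743, 0, 16, 220125) (.node (.node .leaf (185745, 0, 15, 159510) .leaf) (185747, 0, 15, 215872) (.node .leaf (185748, 0, 15, 34049) .leaf))))))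

/-- part of the orbit tree -/
def itp5_339 : Tree := (.node (.node (.node (.node (.node (.node .leaf (185753, 0, 16, 18862) .leaf) (185755, 0, 16, 72363) (.node .leaf (185756, 0, 16, 37835) .leaf)) (185758, 0, 13, 231407) (.node (.node .leaf (185760, 0, 18, 127456) .leaf) (185762, 0, 17, 137618) (.node .leaf (185765, 0, 16, 206229) .leaf))) (185767, 0, 16, 161200) (.node (.node (.node .leaf (185768, 0, 17, 72572) .leaf) (185770, 0, 12, 35181) (.node .leaf (185773, 0, 15, 81231) .leaf)) (185775, 0, 12, 185661) (.node (.node .leaf (185777, 0, 18, 91363) .leaf) (185779, 0, 16, 144970) (.node .leaf (185780, 0, 13, 114086) .leaf)))) (185782, 0, 18, 60803) (.node (.node (.node (.node .leaf (185785, 0, 13, 79012) .leaf) (185787, 0, 16, 187606) (.node .leaf (185788, 0, 17, 70295) .leaf)) (185790, 0, 16, 182299) (.node (.node .leaf (185792, 0, 16, 236963) .leaf) (185794, 0, 17, 211986) (.node .leaf (185797, 0, 12, 214246) .leaf))) (185799, 0, 9, 136387) (.node (.node (.node .leaf (185800, 0, 18, 16124) .leaf) (185802, 0, 15, 59422)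 (.node .leaf (185805, 0, 16, 6351) .leaf)) (185807, 0, 15, 258237) (.node (.node .leaf (185809, 0, 17, 66960) .leaf) (185811, 0, 13, 201674) (.node .leaf (185812, 0, 17, 56715) .leaf))))) (185814, 0, 18, 36080) (.node (.node (.node (.node (.node .leaf (185817, 0, 12, 204808) .leaf) (185819, 0, 17, 260438) (.node .leaf (185820, 0, 17, 14103) .leaf)) (185822, 0, 15, 174440) (.node (.node .leaf (185824, 0, 17, 108906) .leaf) (185826, 0, 16, 147736) (.node .leaf (185829, 0, 18, 20243) .leaf))) (185831, 0, 15, 157483) (.node (.node (.node .leaf (185832, 0, 18, 177102) .leaf) (185834, 0, 15, 174980) (.node .leaf (185837, 0, 17, 91589) .leaf)) (185839, 0, 15, 167351) (.node (.node .leaf (185841, 0, 16, 134757) .leaf) (185843, 0, 16, 220736) (.node .leaf (185844, 0, 18, 186144) .leaf)))) (185846, 0, 19, 149747) (.node (.node (.node (.node .leaf (185849, 0, 16, 11261) .leaf) (185851, 0, 16, 164956) (.node .leaf (185852, 0, 18, 84509) .leaf)) (185854, 0, 16, 172655) (.node (.node .leaf (185856, 0, 17, 253516) .leaf) (185857, 0, 13, 100194)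 (.node .leaf (185858, 0, 16, 13886) .leaf))) (185859, 0, 10, 159504) (.node (.node (.node .leaf (185864, 0, 17, 210128) .leaf) (185865, 0, 16, 93694) (.node .leaf (185866, 0, 17, 56482) .leaf)) (185867, 0, 10, 165260) (.node (.node .leaf (185876, 0, 14, 251815) .leaf) (185877, 0, 18, 102025) (.node .leaf (185878, 0, 17, 196472) .leaf))))))

/-- part of the orbit tree -/
def itp5_340 : Tree := (.node (.node (.node (.node (.node (.node .leaf (185884, 0, 19, 212283) .leaf) (185885, 0, 17, 92835) (.node .leaf (185886, 0, 17, 54601) .leaf)) (185887, 0, 13, 167015) (.node (.node .leaf (185888, 0, 18, 189918) .leaf) (185889, 0, 15, 132536) (.node .leaf (185890, 0, 18, 84788) .leaf))) (185891, 0, 18, 218525) (.node (.node (.node .leaf (185896, 0, 13, 149978) .leaf) (185897, 0, 17, 4340) (.node .leaf (185898, 0, 14, 102499) .leaf)) (185899, 0, 14, 94213) (.node (.node .leaf (185908, 0, 16, 42152) .leaf) (185909, 0, 12, 62339) (.node .leaf (185910, 0, 16, 82655) .leaf)))) (185911, 0, 16, 203761) (.node (.node (.node (.node .leaf (185916,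 0, 12, 164144) .leaf) (185917, 0, 16, 155990) (.node .leaf (185918, 0, 15, 250133) .leaf)) (185919, 0, 17, 209267) (.node (.node .leaf (185920, 0, 14, 231110) .leaf) (185921, 0, 16, 156875) (.node .leaf (185922, 0, 17, 28340) .leaf))) (185923, 0, 17, 210158) (.node (.node (.node .leaf (185928, 0, 17, 41269) .leaf) (185929, 0, 18, 79220) (.node .leaf (185930, 0, 15, 127248) .leaf)) (185931, 0, 17, 70006) (.node (.node .leaf (185940, 0, 12, 50651) .leaf) (185941, 0, 14, 9661) (.node .leaf (185942, 0, 17, 26463) .leaf))))) (185943, 0, 17, 95640) (.node (.node (.node (.node (.node .leaf (185948, 0, 15, 222641) .leaf) (185949, 0, 16, 81055) (.node .leaf (185950, 0, 16, 36291) .leaf)) (185951, 0, 19, 217088) (.node (.node .leaf (185952, 0, 17, 102232) .leaf) (185953, 0, 18, 94014) (.node .leaf (185954, 0, 17, 70590) .leaf))) (185955, 0, 16, 16155) (.node (.node (.node .leaf (185960, 0, 15, 135504) .leaf) (185961, 0, 15, 18558) (.node .leaf (185962, 0, 16, 129314) .leaf)) (185963, 0, 13, 137859) (.node (.node .leaf (185972, 0, 17,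 193063) .leaf) (185973, 0, 12, 43785) (.node .leaf (185974, 0, 17, 171531) .leaf)))) (185975, 0, 14, 213883) (.node (.node (.node (.node .leaf (185980, 0, 17, 137403) .leaf) (185981, 0, 16, 16789) (.node .leaf (185982, 0, 18, 127177) .leaf)) (185983, 0, 17, 240103) (.node (.node .leaf (185988, 0, 18, 135480) .leaf) (185989, 0, 18, 18454) (.node .leaf (185990, 0, 15, 135207) .leaf))) (185991, 0, 17, 192577) (.node (.node (.node .leaf (185996, 0, 16, 91546) .leaf) (185997, 0, 15, 99836) (.node .leaf (185998, 0, 14, 70614) .leaf)) (185999, 0, 16, 54745) (.node (.node .leaf (186000, 0, 17, 65908) .leaf) (186001, 0, 16, 16893) .leaf)))))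

/-- part of the orbit tree -/
def itp5_341 : Tree := (.node itp5_337 (185623, 0, 15, 164916) itp5_338)

/-- part of the orbit tree -/
def itp5_342 : Tree := (.node itp5_339 (185879, 0, 10, 157435) itp5_340)

/-- part of the orbit tree -/
def itp5_343 : Tree := (.node itp5_335 (185237, 0, 17, 120055) itp5_336)

/-- part of the orbit tree -/
def itp5_344 : Tree := (.node itp5_341 (185750, 0, 15, 224627) itp5_342)

/-- part of the orbit tree -/
def itp5_345 : Tree := (.node itp5_329 (184472, 0, 14, 135732) itp5_330)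

/-- part of the orbit tree -/
def itp5_346 : Tree := (.node itp5_343 (185494, 0, 17, 232080) itp5_344)

/-- part of the orbit tree -/
def itp5_347 : Tree := (.node (.node (.node (.node (.node (.node .leaf (186003, 0, 18, 240015) .leaf) (186008, 0, 19, 206060) (.node .leaf (186009, 0, 16, 43873) .leaf)) (186010, 0, 15, 72253) (.node (.node .leaf (186011, 0, 15, 169135) .leaf) (186020, 0, 16, 19447) (.node .leaf (186021, 0, 16, 43921) .leaf))) (186022, 0, 13, 72658) (.node (.node (.node .leaf (186023, 0, 15, 129972) .leaf) (186028, 0, 18, 231086) (.node .leaf (186029, 0, 17, 122752) .leaf)) (186030, 0, 18, 212554) (.node (.node .leaf (186031, 0, 19, 145394) .leaf) (186032, 0, 17, 133761) (.node .leaf (186033, 0, 16, 191207) .leaf)))) (186034, 0, 16, 219812) (.node (.node (.node (.node .leaf (186035, 0, 17, 244418) .leaf) (186040, 0, 17, 12057) (.node .leaf (186041, 0, 15, 120427) .leaf)) (186042, 0, 18, 98108) (.node (.node .leaf (186043, 0, 15, 146969) .leaf) (186052, 0, 17, 149938) (.node .leaf (186053, 0, 18, 51938) .leaf)))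 (186054, 0, 17, 106944) (.node (.node (.node .leaf (186055, 0, 9, 260334) .leaf) (186060, 0, 16, 172846) (.node .leaf (186061, 0, 15, 64000) .leaf)) (186062, 0, 15, 84828) (.node (.node .leaf (186063, 0, 13, 245599) .leaf) (186064, 0, 16, 158706) (.node .leaf (186065, 0, 16, 6519) .leaf))))) (186066, 0, 15, 108587) (.node (.node (.node (.node (.node .leaf (186067, 0, 17, 258309) .leaf) (186072, 0, 9, 174789) (.node .leaf (186073, 0, 18, 62443) .leaf)) (186074, 0, 15, 82615) (.node (.node .leaf (186075, 0, 17, 203673) .leaf) (186084, 0, 16, 205169) (.node .leaf (186085, 0, 12, 93590) .leaf))) (186086, 0, 12, 56522) (.node (.node (.node .leaf (186087, 0, 14, 168242) .leaf) (186092, 0, 15, 253476) (.node .leaf (186093, 0, 15, 124047) .leaf)) (186094, 0, 16, 21708) (.node (.node .leaf (186095, 0, 18, 159608) .leaf) (186096, 0, 16, 90119) (.node .leaf (186097, 0, 18, 91261) .leaf)))) (186098, 0, 11, 54561) (.node (.node (.node (.node .leaf (186099, 0, 15, 53316) .leaf) (186104, 0, 17, 251855) (.node .leaf (186105, 0, 18, 239097)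 .leaf)) (186106, 0, 16, 16317) (.node (.node .leaf (186107, 0, 17, 157331) .leaf) (186112, 0, 15, 150623) (.node .leaf (186113, 0, 13, 175161) .leaf))) (186114, 0, 15, 203898) (.node (.node (.node .leaf (186115, 0, 15, 261148) .leaf) (186120, 0, 18, 27079) (.node .leaf (186121, 0, 16, 100893) .leaf)) (186122, 0, 16, 80354) (.node (.node .leaf (186123, 0, 6, 121220) .leaf) (186132, 0, 15, 3369) (.node .leaf (186133, 0, 18, 60751) .leaf))))))

/-- part of the orbit tree -/
def itp5_348 : Tree := (.node (.node (.node (.node (.node (.node .leaf (186135, 0, 16, 114026) .leaf) (186140, 0, 15, 252632) (.node .leaf (186141, 0, 16, 182487) .leaf)) (186142, 0, 14, 227476) (.node (.node .leaf (186143, 0, 16, 158596) .leaf) (186144, 0, 17, 83882) (.node .leaf (186145, 0, 17, 7563) .leaf))) (186146, 0, 16, 6031) (.node (.node (.node .leaf (186147, 0, 13, 63465) .leaf) (186152, 0, 18, 221746) (.node .leaf (186153, 0, 14, 63255) .leaf)) (186154, 0, 16, 83531) (.node (.node .leaf (186155, 0, 14, 204645) .leaf) (186164, 0, 17, 198364) (.node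 .leaf (186165, 0, 15, 5216) .leaf)))) (186166, 0, 16, 107836) (.node (.node (.node (.node .leaf (186167, 0, 16, 261138) .leaf) (186172, 0, 16, 74564) (.node .leaf (186173, 0, 16, 115490) .leaf)) (186174, 0, 17, 85920) (.node (.node .leaf (186175, 0, 18, 202382) .leaf) (186176, 0, 15, 75481) (.node .leaf (186177, 0, 16, 116415) .leaf))) (186178, 0, 15, 30460) (.node (.node (.node .leaf (186179, 0, 17, 38554) .leaf) (186184, 0, 15, 232377) (.node .leaf (186185, 0, 15, 254759) .leaf)) (186186, 0, 15, 152420) (.node (.node .leaf (186187, 0, 15, 146149) .leaf) (186196, 0, 14, 223438) (.node .leaf (186197, 0, 18, 78304) .leaf))))) (186198, 0, 16, 32956) (.node (.node (.node (.node (.node .leaf (186199, 0, 16, 186348) .leaf) (186204, 0, 13, 82487) (.node .leaf (186205, 0, 16, 121724) .leaf)) (186206, 0, 16, 4626) (.node (.node .leaf (186207, 0, 17, 62068) .leaf) (186208, 0, 16, 138287) (.node .leaf (186209, 0, 18, 183626) .leaf))) (186210, 0, 15, 228617) (.node (.node (.node .leaf (186211, 0, 16, 236911) .leaf) (186216, 0, 18, 194227)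 (.node .leaf (186217, 0, 16, 59602) .leaf)) (186218, 0, 14, 88209) (.node (.node .leaf (186219, 0, 18, 112887) .leaf) (186228, 0, 17, 27738) (.node .leaf (186229, 0, 14, 35900) .leaf)))) (186230, 0, 16, 81023) (.node (.node (.node (.node .leaf (186231, 0, 15, 238744) .leaf) (186236, 0, 16, 149954) (.node .leaf (186237, 0, 13, 42614) .leaf)) (186238, 0, 16, 71466) (.node (.node .leaf (186239, 0, 14, 216580) .leaf) (186244, 0, 14, 57974) (.node .leaf (186245, 0, 15, 45045) .leaf))) (186246, 0, 14, 111187) (.node (.node (.node .leaf (186247, 0, 17, 214919) .leaf) (186252, 0, 14, 138311) (.node .leaf (186253, 0, 14, 17769) .leaf)) (186254, 0, 17, 128053) (.node (.node .leaf (186255, 0, 16, 227245) .leaf) (186256, 0, 16, 172800) (.node .leaf (186257, 0, 16, 148326) .leaf))))))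

/-- part of the orbit tree -/
def itp5_349 : Tree := (.node (.node (.node (.node (.node (.node .leaf (186259, 0, 13, 216684) .leaf) (186264, 0, 12, 34456) (.node .leaf (186265, 0, 18, 19586) .leaf)) (186266, 0, 11, 120509) (.node (.node .leaf (186267, 0, 14, 79579) .leaf) (186276, 0, 17, 256387) (.node .leaf (186277, 0, 15, 199141) .leaf))) (186278, 0, 17, 25507) (.node (.node (.node .leaf (186279, 0, 17, 146061) .leaf) (186284, 0, 15, 221517) (.node .leaf (186285, 0, 18, 76925) .leaf)) (186286, 0, 18, 35135) (.node (.node .leaf (186287, 0, 17, 31832) .leaf) (186288, 0, 15, 229946) (.node .leaf (186289, 0, 18, 121620) .leaf)))) (186290, 0, 10, 63696) (.node (.node (.node (.node .leaf (186291, 0, 17, 144230) .leaf) (186296, 0, 18, 223398) (.node .leaf (186297, 0, 16, 78216) .leaf)) (186298, 0, 17, 32980) (.node (.node .leaf (186299, 0, 15, 146734) .leaf) (186308, 0, 15, 231664) (.node .leaf (186309, 0, 17, 63359) .leaf))) (186310, 0, 16, 83491) (.node (.node (.node .leaf (186311, 0, 17, 204557) .leaf) (186316, 0, 15, 148685)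 (.node .leaf (186317, 0, 17, 7651) .leaf)) (186318, 0, 16, 109759) (.node (.node .leaf (186319, 0, 17, 7467) .leaf) (186320, 0, 16, 117126) (.node .leaf (186321, 0, 17, 65172) .leaf))))) (186322, 0, 16, 39331) (.node (.node (.node (.node (.node .leaf (186323, 0, 15, 31173) .leaf) (186328, 0, 15, 150822) (.node .leaf (186329, 0, 14, 5128) .leaf)) (186330, 0, 16, 179259) (.node (.node .leaf (186331, 0, 16, 261242) .leaf) (186340, 0, 16, 33541) (.node .leaf (186341, 0, 16, 25443) .leaf))) (186342, 0, 19, 119584) (.node (.node (.node .leaf (186343, 0, 16, 78662) .leaf) (186348, 0, 15, 173725) (.node .leaf (186349, 0, 16, 90345) .leaf)) (186350, 0, 16, 259768) (.node (.node .leaf (186351, 0, 12, 202462) .leaf) (186352, 0, 13, 180851) (.node .leaf (186353, 0, 17, 99230) .leaf)))) (186354, 0, 17, 12994) (.node (.node (.node (.node .leaf (186355, 0, 18, 158700) .leaf) (186360, 0, 16, 59371) (.node .leaf (186361, 0, 18, 1933) .leaf)) (186362, 0, 15, 55390) (.node (.node .leaf (186363, 0, 16, 87976) .leaf) (186369, 0, 16, 149129) (.node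 .leaf (186370, 0, 15, 259786) .leaf))) (186373, 0, 14, 46488) (.node (.node (.node .leaf (186374, 0, 16, 66756) .leaf) (186377, 0, 13, 139289) (.node .leaf (186378, 0, 12, 119634) .leaf)) (186381, 0, 15, 24324) (.node (.node .leaf (186382, 0, 17, 125553) .leaf) (186384, 0, 16, 189789) (.node .leaf (186387, 0, 16, 218113) .leaf))))))

/-- part of the orbit tree -/
def itp5_350 : Tree := (.node (.node (.node (.node (.node (.node .leaf (186391, 0, 16, 88026) .leaf) (186392, 0, 17, 135105) (.node .leaf (186395, 0, 15, 215905) .leaf)) (186396, 0, 18, 28892) (.node (.node .leaf (186399, 0, 16, 115072) .leaf) (186401, 0, 18, 85372) (.node .leaf (186402, 0, 17, 132819) .leaf))) (186405, 0, 15, 95327) (.node (.node (.node .leaf (186406, 0, 14, 50204) .leaf) (186409, 0, 17, 220435) (.node .leaf (186410, 0, 17, 191567) .leaf)) (186413, 0, 16, 217543) (.node (.node .leaf (186414, 0, 16, 188804) .leaf) (186416, 0, 17, 251215) (.node .leaf (186419, 0, 17, 141579) .leaf)))) (186420, 0, 11, 124746) (.node (.node (.node (.node .leaf (186423,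 0, 15, 154671) .leaf) (186424, 0, 16, 127191) (.node .leaf (186427, 0, 17, 16532) .leaf)) (186428, 0, 17, 69078) (.node (.node .leaf (186431, 0, 16, 48266) .leaf) (186433, 0, 16, 76815) (.node .leaf (186434, 0, 19, 205651) .leaf))) (186437, 0, 17, 60690) (.node (.node (.node .leaf (186438, 0, 17, 89166) .leaf) (186441, 0, 17, 199063) (.node .leaf (186442, 0, 14, 178644) .leaf)) (186445, 0, 17, 1934) (.node (.node .leaf (186446, 0, 16, 164087) .leaf) (186448, 0, 19, 242748) (.node .leaf (186451, 0, 16, 199819) .leaf))))) (186452, 0, 17, 232735) (.node (.node (.node (.node (.node .leaf (186455, 0, 18, 95126) .leaf) (186456, 0, 11, 153419) (.node .leaf (186459, 0, 17, 255511) .leaf)) (186460, 0, 14, 108679) (.node (.node .leaf (186463, 0, 17, 6340) .leaf) (186465, 0, 14, 141306) (.node .leaf (186466, 0, 14, 235449) .leaf))) (186469, 0, 13, 102424) (.node (.node (.node .leaf (186470, 0, 14, 8516) .leaf) (186473, 0, 17, 610) (.node .leaf (186474, 0, 14, 177349) .leaf)) (186477, 0, 17, 96900) (.node (.node .leaf (186478, 0, 13, 52184)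 .leaf) (186480, 0, 15, 49097) (.node .leaf (186483, 0, 18, 69514) .leaf)))) (186484, 0, 15, 114624) (.node (.node (.node (.node .leaf (186487, 0, 16, 79529) .leaf) (186488, 0, 12, 207425) (.node .leaf (186491, 0, 17, 170781) .leaf)) (186492, 0, 17, 172914) (.node (.node .leaf (186495, 0, 18, 201521) .leaf) (186496, 0, 16, 205762) (.node .leaf (186499, 0, 18, 98726) .leaf))) (186500, 0, 15, 2246) (.node (.node (.node .leaf (186503, 0, 17, 112773) .leaf) (186504, 0, 16, 248158) (.node .leaf (186507, 0, 16, 161794) .leaf)) (186508, 0, 14, 142686) (.node (.node .leaf (186511, 0, 15, 236829) .leaf) (186513, 0, 17, 174550) (.node .leaf (186514, 0, 17, 179526) .leaf))))))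

/-- part of the orbit tree -/
def itp5_351 : Tree := (.node itp5_347 (186134, 0, 16, 89356) itp5_348)

/-- part of the orbit tree -/
def itp5_352 : Tree := (.node itp5_349 (186388, 0, 17, 59289) itp5_350)

/-- part of the orbit tree -/
def itp5_353 : Tree := (.node (.node (.node (.node (.node (.node .leaf (186518, 0, 16, 204982) .leaf) (186521, 0, 9, 35918) (.node .leaf (186522, 0, 18, 80909) .leaf)) (186525, 0, 15, 104859) (.node (.node .leaf (186526, 0, 13, 10439) .leaf) (186528, 0, 17, 211472) (.node .leaf (186531, 0, 17, 257940) .leaf))) (186532, 0, 14, 197427) (.node (.node (.node .leaf (186535, 0, 17, 177008) .leaf) (186536, 0, 16, 177236) (.node .leaf (186539, 0, 18, 45003) .leaf)) (186540, 0, 18, 52041) (.node (.node .leaf (186543, 0, 17, 96789) .leaf) (186545, 0, 15, 160016) (.node .leaf (186546, 0, 16, 4704) .leaf)))) (186549, 0, 16, 105216) (.node (.node (.node (.node .leaf (186550, 0, 14, 11075) .leaf) (186553, 0, 17, 170892) (.node .leaf (186554, 0, 16, 145400) .leaf)) (186557, 0, 13, 245400) (.node (.node .leaf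 (186558, 0, 16, 134875) .leaf) (186560, 0, 14, 228168) (.node .leaf (186563, 0, 13, 191264) .leaf))) (186564, 0, 12, 66645) (.node (.node (.node .leaf (186567, 0, 12, 46345) .leaf) (186568, 0, 14, 233940) (.node .leaf (186571, 0, 13, 139400) .leaf)) (186572, 0, 18, 126665) (.node (.node .leaf (186575, 0, 18, 24469) .leaf) (186577, 0, 18, 115536) (.node .leaf (186578, 0, 16, 29459) .leaf))))) (186581, 0, 17, 76685) (.node (.node (.node (.node (.node .leaf (186582, 0, 11, 39633) .leaf) (186585, 0, 16, 255688) (.node .leaf (186586, 0, 16, 134992) .leaf)) (186589, 0, 18, 114961) (.node (.node .leaf (186590, 0, 17, 28749) .leaf) (186592, 0, 16, 20630) (.node .leaf (186595, 0, 16, 243486) .leaf))) (186596, 0, 13, 31071) (.node (.node (.node .leaf (186599, 0, 14, 121334) .leaf) (186600, 0, 18, 191710) (.node .leaf (186603, 0, 17, 220546) .leaf)) (186604, 0, 15, 37827) (.node (.node .leaf (186607, 0, 17, 261230) .leaf) (186609, 0, 16, 182437) (.node .leaf (186610, 0, 13, 235718) .leaf)))) (186613, 0, 17, 192902) (.node (.node (.node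 (.node .leaf (186614, 0, 9, 213445) .leaf) (186617, 0, 13, 60733) (.node .leaf (186618, 0, 18, 89470) .leaf)) (186621, 0, 16, 54302) (.node (.node .leaf (186622, 0, 16, 91229) .leaf) (186625, 0, 14, 124157) (.node .leaf (186626, 0, 14, 21694) .leaf))) (186629, 0, 13, 21115) (.node (.node (.node .leaf (186630, 0, 16, 123687) .leaf) (186633, 0, 16, 246117) (.node .leaf (186634, 0, 16, 226982) .leaf)) (186637, 0, 17, 260166) (.node (.node .leaf (186638, 0, 16, 149509) .leaf) (186640, 0, 14, 228558) (.node .leaf (186643, 0, 15, 183437) .leaf))))))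

/-- part of the orbit tree -/
def itp5_354 : Tree := (.node (.node (.node (.node (.node (.node .leaf (186647, 0, 17, 118015) .leaf) (186648, 0, 17, 190498) (.node .leaf (186651, 0, 17, 59669) .leaf)) (186652, 0, 15, 90229) (.node (.node .leaf (186655, 0, 16, 53302) .leaf) (186657, 0, 17, 217196) (.node .leaf (186658, 0, 17, 221003) .leaf))) (186661, 0, 15, 77681) (.node (.node (.node .leaf (186662, 0, 14, 40493) .leaf) (186665, 0, 18, 51856) (.node .leaf (186666, 0, 17, 96979) .leaf)) (186669, 0, 16, 62387) (.node (.node .leaf (186670, 0, 16, 29873) .leaf) (186672, 0, 18, 229300) (.node .leaf (186675, 0, 19, 116600) .leaf)))) (186676, 0, 17, 19992) (.node (.node (.node (.node .leaf (186679, 0, 17, 130651) .leaf) (186680, 0, 17, 234792) (.node .leaf (186683, 0, 15, 140404) .leaf)) (186684, 0, 13, 158592) (.node (.node .leaf (186687, 0, 14, 252867) .leaf) (186689, 0, 17, 161260) (.node .leaf (186690, 0, 16, 246960) .leaf))) (186693, 0, 16, 178008) (.node (.node (.node .leaf (186694, 0, 18, 198427) .leaf) (186697, 0, 16, 44003)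 (.node .leaf (186698, 0, 16, 72608) .leaf)) (186701, 0, 7, 37568) (.node (.node .leaf (186702, 0, 17, 86321) .leaf) (186704, 0, 17, 5704) (.node .leaf (186707, 0, 14, 256872) .leaf))))) (186708, 0, 14, 9513) (.node (.node (.node (.node (.node .leaf (186711, 0, 13, 103541) .leaf) (186712, 0, 16, 176296) (.node .leaf (186715, 0, 15, 230291) .leaf)) (186716, 0, 18, 53173) (.node (.node .leaf (186719, 0, 16, 244400) .leaf) (186721, 0, 16, 99726) (.node .leaf (186722, 0, 16, 13773) .leaf))) (186725, 0, 15, 96251) (.node (.node (.node .leaf (186726, 0, 16, 3310) .leaf) (186729, 0, 16, 237590) (.node .leaf (186730, 0, 16, 135253) .leaf)) (186733, 0, 17, 105831) (.node (.node .leaf (186734, 0, 16, 141686) .leaf) (186736, 0, 15, 206654) (.node .leaf (186739, 0, 12, 169570) .leaf)))) (186740, 0, 17, 205982) (.node (.node (.node (.node .leaf (186743, 0, 16, 59775) .leaf) (186744, 0, 16, 79909) (.node .leaf (186747, 0, 15, 163070) .leaf)) (186748, 0, 17, 65798) (.node (.node .leaf (186751, 0, 15, 995) .leaf) (186752, 0, 18, 246817) (.node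 .leaf (186755, 0, 16, 140242) .leaf))) (186756, 0, 14, 113468) (.node (.node (.node .leaf (186759, 0, 17, 137969) .leaf) (186760, 0, 17, 112137) (.node .leaf (186763, 0, 16, 172001) .leaf)) (186764, 0, 10, 86432) (.node (.node .leaf (186767, 0, 10, 16233) .leaf) (186769, 0, 12, 68514) (.node .leaf (186770, 0, 19, 48097) .leaf))))))

/-- part of the orbit tree -/
def itp5_355 : Tree := (.node (.node (.node (.node (.node (.node .leaf (186774, 0, 18, 33474) .leaf) (186777, 0, 17, 196965) (.node .leaf (186778, 0, 13, 171641) .leaf)) (186781, 0, 15, 202521) (.node (.node .leaf (186782, 0, 16, 173914) .leaf) (186784, 0, 17, 39012) (.node .leaf (186787, 0, 17, 75815) .leaf))) (186788, 0, 18, 41287) (.node (.node (.node .leaf (186791, 0, 16, 96106) .leaf) (186792, 0, 16, 152503) (.node .leaf (186795, 0, 14, 200127) .leaf)) (186796, 0, 19, 11434) (.node (.node .leaf (186799, 0, 16, 105974) .leaf) (186801, 0, 15, 169715) (.node .leaf (186802, 0, 13, 241684) .leaf)))) (186805, 0, 16, 145780) (.node (.node (.node (.node .leaf (186806,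 0, 18, 88242) .leaf) (186809, 0, 16, 9679) (.node .leaf (186810, 0, 15, 103820) .leaf)) (186813, 0, 17, 882) (.node (.node .leaf (186814, 0, 17, 111150) .leaf) (186816, 0, 15, 63767) (.node .leaf (186819, 0, 17, 84308) .leaf))) (186820, 0, 18, 123830) (.node (.node (.node .leaf (186823, 0, 18, 21226) .leaf) (186824, 0, 15, 226871) (.node .leaf (186827, 0, 18, 224460) .leaf)) (186828, 0, 18, 67882) (.node (.node .leaf (186831, 0, 15, 218607) .leaf) (186833, 0, 18, 155940) (.node .leaf (186834, 0, 18, 250215) .leaf))))) (186837, 0, 18, 153607) (.node (.node (.node (.node (.node .leaf (186838, 0, 16, 32050) .leaf) (186841, 0, 16, 219631) (.node .leaf (186842, 0, 17, 190643) .leaf)) (186845, 0, 16, 75506) (.node (.node .leaf (186846, 0, 17, 38830) .leaf) (186848, 0, 15, 258786) (.node .leaf (186851, 0, 15, 148129) .leaf))) (186852, 0, 17, 248769) (.node (.node (.node .leaf (186855, 0, 16, 77792) .leaf) (186856, 0, 16, 133949) (.node .leaf (186859, 0, 15, 26425) .leaf)) (186860, 0, 13, 29728) (.node (.node .leaf (186863, 0, 16,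 24090) .leaf) (186865, 0, 16, 92881) (.node .leaf (186866, 0, 19, 229157) .leaf)))) (186869, 0, 15, 87026) (.node (.node (.node (.node .leaf (186870, 0, 15, 58289) .leaf) (186873, 0, 14, 140517) (.node .leaf (186874, 0, 16, 234937) .leaf)) (186877, 0, 15, 226922) (.node (.node .leaf (186878, 0, 16, 181801) .leaf) (186880, 0, 17, 38535) (.node .leaf (186881, 0, 17, 184233) .leaf))) (186884, 0, 9, 177084) (.node (.node (.node .leaf (186885, 0, 18, 45236) .leaf) (186888, 0, 14, 31771) (.node .leaf (186889, 0, 15, 140597) .leaf)) (186892, 0, 15, 38436) (.node (.node .leaf (186893, 0, 13, 23080) .leaf) (186898, 0, 12, 67587) (.node .leaf (186899, 0, 18, 217389) .leaf))))))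

/-- part of the orbit tree -/
def itp5_356 : Tree := (.node (.node (.node (.node (.node (.node .leaf (186903, 0, 17, 97194) .leaf) (186906, 0, 16, 123551) (.node .leaf (186907, 0, 14, 222993) .leaf)) (186910, 0, 17, 236930) (.node (.node .leaf (186911, 0, 16, 220722) .leaf) (186912, 0, 16, 98666) (.node .leaf (186913, 0, 17, 242339) .leaf))) (186916, 0, 11, 234640) (.node (.node (.node .leaf (186917, 0, 17, 88111) .leaf) (186920, 0, 16, 65809) (.node .leaf (186921, 0, 17, 219199) .leaf)) (186924, 0, 18, 237009) (.node (.node .leaf (186925, 0, 18, 228791) .leaf) (186930, 0, 16, 174362) (.node .leaf (186931, 0, 16, 142375) .leaf)))) (186934, 0, 17, 167993) (.node (.node (.node (.node .leaf (186935, 0, 12, 21306) .leaf) (186938, 0, 19, 40853) (.node .leaf (186939, 0, 16, 27876) .leaf)) (186942, 0, 18, 46497) (.node (.node .leaf (186943, 0, 16, 47526) .leaf) (186944, 0, 15, 122905) (.node .leaf (186945, 0, 15, 169763) .leaf))) (186948, 0, 15, 121146) (.node (.node (.node .leaf (186949, 0, 15, 80220) .leaf) (186952, 0, 18, 247169)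 (.node .leaf (186953, 0, 16, 163263) .leaf)) (186956, 0, 16, 154508) (.node (.node .leaf (186957, 0, 13, 674) .leaf) (186962, 0, 16, 86153) (.node .leaf (186963, 0, 14, 141327) .leaf))))) (186966, 0, 14, 208788) (.node (.node (.node (.node (.node .leaf (186967, 0, 17, 95930) .leaf) (186970, 0, 17, 113173) (.node .leaf (186971, 0, 17, 254779) .leaf)) (186974, 0, 15, 54482) (.node (.node .leaf (186975, 0, 15, 13492) .leaf) (186976, 0, 17, 191468) (.node .leaf (186977, 0, 17, 134026) .leaf))) (186980, 0, 16, 185039) (.node (.node (.node .leaf (186981, 0, 18, 103732) .leaf) (186984, 0, 16, 52852) (.node .leaf (186985, 0, 17, 11794) .leaf)) (186988, 0, 16, 206470) (.node (.node .leaf (186989, 0, 17, 5937) .leaf) (186994, 0, 16, 11651) (.node .leaf (186995, 0, 17, 74746) .leaf)))) (186998, 0, 17, 152222) (.node (.node (.node (.node .leaf (186999, 0, 9, 2992) .leaf) (187002, 0, 16, 50975) (.node .leaf (187003, 0, 17, 198242) .leaf)) (187006, 0, 15, 178178) (.node (.node .leaf (187007, 0, 15, 57644) .leaf) (187010, 0, 18, 85424) (.node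 .leaf (187011, 0, 15, 110038) .leaf))) (187014, 0, 18, 95379) (.node (.node (.node .leaf (187015, 0, 14, 59567) .leaf) (187018, 0, 13, 223272) (.node .leaf (187019, 0, 12, 163118) .leaf)) (187022, 0, 18, 154397) (.node (.node .leaf (187023, 0, 17, 242029) .leaf) (187024, 0, 17, 157120) .leaf)))))

/-- part of the orbit tree -/
def itp5_357 : Tree := (.node itp5_353 (186644, 0, 17, 32163) itp5_354)

/-- part of the orbit tree -/
def itp5_358 : Tree := (.node itp5_355 (186902, 0, 16, 105420) itp5_356)

/-- part of the orbit tree -/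
def itp5_359 : Tree := (.node itp5_351 (186258, 0, 13, 258853) itp5_352)

/-- part of the orbit tree -/
def itp5_360 : Tree := (.node itp5_357 (186773, 0, 16, 103652) itp5_358)

/-- part of the orbit tree -/
def itp5_361 : Tree := (.node (.node (.node (.node (.node (.node .leaf (187028, 0, 15, 208645) .leaf) (187029, 0, 17, 95787) (.node .leaf (187032, 0, 16, 113284) .leaf)) (187033, 0, 16, 41022) (.node (.node .leaf (187036, 0, 16, 31099) .leaf) (187037, 0, 17, 105655) (.node .leaf (187042, 0, 17, 111510) .leaf))) (187043, 0, 11, 173603) (.node (.node (.node .leaf (187046, 0, 11, 163686) .leaf) (187047, 0, 15, 103845) (.node .leaf (187050, 0, 15, 25565) .leaf)) (187051, 0, 12, 196644) (.node (.node .leaf (187054, 0, 16, 206359) .leaf) (187055, 0, 16, 98105) (.node .leaf (187056, 0, 15, 11538) .leaf)))) (187057, 0, 16, 101971) (.node (.node (.node (.node .leaf (187060, 0, 15, 87830) .leaf) (187061, 0, 18, 2849) (.node .leaf (187064, 0, 14, 215981) .leaf)) (187065, 0, 10, 240587) (.node (.node .leaf (187068, 0, 16, 225934) .leaf)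 (187069, 0, 15, 234216) (.node .leaf (187074, 0, 16, 38422) .leaf))) (187075, 0, 19, 184120) (.node (.node (.node .leaf (187078, 0, 17, 190731) .leaf) (187079, 0, 14, 45093) (.node .leaf (187082, 0, 16, 686) .leaf)) (187083, 0, 12, 140708) (.node (.node .leaf (187086, 0, 15, 131991) .leaf) (187087, 0, 17, 23225) (.node .leaf (187088, 0, 17, 69446) .leaf))))) (187089, 0, 18, 126752) (.node (.node (.node (.node (.node .leaf (187092, 0, 16, 227215) .leaf) (187093, 0, 16, 77473) (.node .leaf (187096, 0, 15, 123406) .leaf)) (187097, 0, 15, 248504) (.node (.node .leaf (187100, 0, 17, 236819) .leaf) (187101, 0, 17, 115773) (.node .leaf (187106, 0, 16, 125724) .leaf))) (187107, 0, 14, 117925) (.node (.node (.node .leaf (187110, 0, 16, 234497) .leaf) (187111, 0, 15, 118063) (.node .leaf (187114, 0, 15, 199003) .leaf)) (187115, 0, 12, 219310) (.node (.node .leaf (187118, 0, 18, 229021) .leaf) (187119, 0, 16, 249886) (.node .leaf (187120, 0, 16, 30104) .leaf)))) (187121, 0, 18, 189653) (.node (.node (.node (.node .leaf (187124, 0, 17,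 133765) .leaf) (187125, 0, 16, 187894) (.node .leaf (187128, 0, 16, 8491) .leaf)) (187129, 0, 11, 181802) (.node (.node .leaf (187132, 0, 15, 188441) .leaf) (187133, 0, 16, 63598) (.node .leaf (187136, 0, 14, 29028) .leaf))) (187137, 0, 16, 141386) (.node (.node (.node .leaf (187140, 0, 13, 70088) .leaf) (187141, 0, 17, 22359) (.node .leaf (187144, 0, 15, 39928) .leaf)) (187145, 0, 13, 180950) (.node (.node .leaf (187148, 0, 15, 189669) .leaf) (187149, 0, 16, 48587) (.node .leaf (187154, 0, 15, 131227) .leaf))))))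

/-- part of the orbit tree -/
def itp5_362 : Tree := (.node (.node (.node (.node (.node (.node .leaf (187158, 0, 16, 145848) .leaf) (187159, 0, 16, 117203) (.node .leaf (187162, 0, 14, 66940) .leaf)) (187163, 0, 17, 220242) (.node (.node .leaf (187166, 0, 17, 227937) .leaf) (187167, 0, 15, 74575) (.node .leaf (187168, 0, 16, 140062) .leaf))) (187169, 0, 14, 218432) (.node (.node (.node .leaf (187172, 0, 14, 137789) .leaf) (187173, 0, 16, 76381) (.node .leaf (187176, 0, 17, 124658) .leaf)) (187177, 0, 12, 245724) (.node (.node .leaf (187180, 0, 18, 236015) .leaf) (187181, 0, 16, 57283) (.node .leaf (187186, 0, 16, 37610) .leaf)))) (187187, 0, 11, 183236) (.node (.node (.node (.node .leaf (187190, 0, 14, 78413) .leaf) (187191, 0, 15, 119339) (.node .leaf (187194, 0, 16, 208630) .leaf)) (187195, 0, 18, 139608) (.node (.node .leaf (187198, 0, 16, 132971) .leaf) (187199, 0, 18, 260019) (.node .leaf (187200, 0, 17, 148077) .leaf))) (187201, 0, 18, 159936) (.node (.node (.node .leaf (187204, 0, 16, 162638) .leaf) (187205, 0, 16,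 4061) (.node .leaf (187208, 0, 16, 50034) .leaf)) (187209, 0, 15, 34707) (.node (.node .leaf (187212, 0, 17, 179311) .leaf) (187213, 0, 16, 48816) (.node .leaf (187218, 0, 18, 92701) .leaf))))) (187219, 0, 17, 257604) (.node (.node (.node (.node (.node .leaf (187222, 0, 17, 247927) .leaf) (187223, 0, 15, 102745) (.node .leaf (187226, 0, 16, 89590) .leaf)) (187227, 0, 17, 241635) (.node (.node .leaf (187230, 0, 16, 226982) .leaf) (187231, 0, 16, 97221) (.node .leaf (187232, 0, 16, 87268) .leaf))) (187233, 0, 14, 200138) (.node (.node (.node .leaf (187236, 0, 16, 94395) .leaf) (187237, 0, 15, 102621) (.node .leaf (187240, 0, 18, 224256) .leaf)) (187241, 0, 18, 255830) (.node (.node .leaf (187244, 0, 16, 246117) .leaf) (187245, 0, 16, 104523) (.node .leaf (187250, 0, 17, 156136) .leaf)))) (187251, 0, 18, 164238) (.node (.node (.node (.node .leaf (187254, 0, 3, 177533) .leaf) (187255, 0, 9, 60499) (.node .leaf (187258, 0, 17, 17520) .leaf)) (187259, 0, 15, 162258) (.node (.node .leaf (187262, 0, 18, 32083) .leaf) (187263, 0, 16,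 40245) (.node .leaf (187266, 0, 17, 10623) .leaf))) (187267, 0, 17, 135074) (.node (.node (.node .leaf (187270, 0, 15, 153186) .leaf) (187271, 0, 17, 145025) (.node .leaf (187274, 0, 18, 50147) .leaf)) (187275, 0, 16, 170701) (.node (.node .leaf (187278, 0, 11, 62335) .leaf) (187279, 0, 15, 4889) (.node .leaf (187280, 0, 18, 116660) .leaf))))))

/-- part of the orbit tree -/
def itp5_363 : Tree := (.node (.node (.node (.node (.node (.node .leaf (187284, 0, 15, 130711) .leaf) (187285, 0, 15, 73457) (.node .leaf (187288, 0, 15, 254508) .leaf)) (187289, 0, 17, 197705) (.node (.node .leaf (187292, 0, 16, 252687) .leaf) (187293, 0, 15, 97108) (.node .leaf (187298, 0, 15, 87157) .leaf))) (187299, 0, 18, 200027) (.node (.node (.node .leaf (187302, 0, 15, 207720) .leaf) (187303, 0, 17, 94790) (.node .leaf (187306, 0, 17, 246185) .leaf)) (187307, 0, 15, 255943) (.node (.node .leaf (187310, 0, 17, 246260) .leaf) (187311, 0, 16, 202988) (.node .leaf (187312, 0, 12, 51953) .leaf)))) (187313, 0, 16, 142375) (.node (.node (.node (.node .leaf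 (187316, 0, 15, 177644) .leaf) (187317, 0, 18, 60610) (.node .leaf (187320, 0, 17, 59865) .leaf)) (187321, 0, 18, 2495) (.node (.node .leaf (187324, 0, 19, 53498) .leaf) (187325, 0, 12, 1630) (.node .leaf (187330, 0, 18, 29173) .leaf))) (187331, 0, 17, 91428) (.node (.node (.node .leaf (187334, 0, 17, 113761) .leaf) (187335, 0, 16, 89095) (.node .leaf (187338, 0, 14, 237786) .leaf)) (187339, 0, 15, 180807) (.node (.node .leaf (187342, 0, 16, 236025) .leaf) (187343, 0, 16, 48474) (.node .leaf (187344, 0, 14, 126833) .leaf))))) (187345, 0, 16, 150868) (.node (.node (.node (.node (.node .leaf (187348, 0, 14, 233580) .leaf) (187349, 0, 17, 160887) (.node .leaf (187352, 0, 17, 67053) .leaf)) (187353, 0, 17, 26828) (.node (.node .leaf (187356, 0, 17, 45449) .leaf) (187357, 0, 15, 20975) (.node .leaf (187362, 0, 16, 167607) .leaf))) (187363, 0, 14, 218577) (.node (.node (.node .leaf (187366, 0, 14, 226274) .leaf) (187367, 0, 17, 153586) (.node .leaf (187370, 0, 16, 124515) .leaf)) (187371, 0, 14, 19273) (.node (.node .leaf (187374,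 0, 15, 235902) .leaf) (187375, 0, 15, 114768) (.node .leaf (187376, 0, 15, 108231) .leaf)))) (187377, 0, 19, 183125) (.node (.node (.node (.node .leaf (187380, 0, 12, 191846) .leaf) (187381, 0, 16, 46152) (.node .leaf (187384, 0, 17, 30951) .leaf)) (187385, 0, 17, 222009) (.node (.node .leaf (187388, 0, 18, 133114) .leaf) (187389, 0, 15, 24276) (.node .leaf (187392, 0, 17, 237151) .leaf))) (187394, 0, 14, 191586) (.node (.node (.node .leaf (187396, 0, 17, 123202) .leaf) (187398, 0, 14, 133424) (.node .leaf (187400, 0, 13, 226499) .leaf)) (187402, 0, 18, 51706) (.node (.node .leaf (187404, 0, 14, 68574) .leaf) (187406, 0, 15, 189356) (.node .leaf (187409, 0, 15, 74868) .leaf))))))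

/-- part of the orbit tree -/
def itp5_364 : Tree := (.node (.node (.node (.node (.node (.node .leaf (187413, 0, 12, 118426) .leaf) (187415, 0, 15, 141032) (.node .leaf (187417, 0, 17, 197100) .leaf)) (187419, 0, 14, 45929) (.node (.node .leaf (187421, 0, 17, 74758) .leaf) (187423, 0, 17, 157930) (.node .leaf (187424, 0, 14, 189269) .leaf))) (187426, 0, 17, 68391) (.node (.node (.node .leaf (187428, 0, 14, 36497) .leaf) (187430, 0, 15, 122548) (.node .leaf (187432, 0, 11, 168490) .leaf)) (187434, 0, 18, 246287) (.node (.node .leaf (187436, 0, 14, 174857) .leaf) (187438, 0, 16, 237222) (.node .leaf (187441, 0, 15, 183437) .leaf)))) (187443, 0, 18, 75007) (.node (.node (.node (.node .leaf (187445, 0, 17, 45968) .leaf) (187447, 0, 18, 214663) (.node .leaf (187449, 0, 18, 2585) .leaf)) (187451, 0, 19, 118371) (.node (.node .leaf (187453, 0, 16, 13114) .leaf) (187455, 0, 17, 242046) (.node .leaf (187456, 0, 18, 247509) .leaf))) (187458, 0, 16, 11943) (.node (.node (.node .leaf (187460, 0, 16, 113096) .leaf) (187462, 0, 17, 151994)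 (.node .leaf (187464, 0, 12, 193369) .leaf)) (187466, 0, 15, 238460) (.node (.node .leaf (187468, 0, 15, 86868) .leaf) (187470, 0, 15, 236127) (.node .leaf (187473, 0, 17, 256269) .leaf))))) (187475, 0, 15, 383) (.node (.node (.node (.node (.node .leaf (187477, 0, 17, 161745) .leaf) (187479, 0, 17, 163426) (.node .leaf (187481, 0, 14, 27498) .leaf)) (187483, 0, 15, 60387) (.node (.node .leaf (187485, 0, 15, 21065) .leaf) (187487, 0, 14, 169214) (.node .leaf (187488, 0, 12, 179167) .leaf))) (187490, 0, 15, 86957) (.node (.node (.node .leaf (187492, 0, 18, 50370) .leaf) (187494, 0, 16, 177202) (.node .leaf (187496, 0, 16, 151875) .leaf)) (187498, 0, 17, 43145) (.node (.node .leaf (187500, 0, 15, 115087) .leaf) (187502, 0, 16, 37290) (.node .leaf (187505, 0, 17, 168967) .leaf)))) (187507, 0, 18, 5410) (.node (.node (.node (.node .leaf (187509, 0, 17, 60186) .leaf) (187511, 0, 18, 11265) (.node .leaf (187513, 0, 16, 163483) .leaf)) (187515, 0, 14, 104169) (.node (.node .leaf (187517, 0, 13, 390) .leaf) (187519, 0, 18, 133529) (.node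 .leaf (187521, 0, 15, 117547) .leaf))) (187523, 0, 11, 106346) (.node (.node (.node .leaf (187525, 0, 15, 2053) .leaf) (187527, 0, 16, 254071) (.node .leaf (187529, 0, 16, 257715) .leaf)) (187531, 0, 14, 95734) (.node (.node .leaf (187533, 0, 14, 251792) .leaf) (187535, 0, 16, 165813) (.node .leaf (187536, 0, 16, 153792) .leaf))))))

/-- part of the orbit tree -/
def itp5_365 : Tree := (.node itp5_361 (187155, 0, 11, 188669) itp5_362)

/-- part of the orbit tree -/
def itp5_366 : Tree := (.node itp5_363 (187411, 0, 12, 23029) itp5_364)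

/-- part of the orbit tree -/
def itp5_367 : Tree := (.node (.node (.node (.node (.node (.node .leaf (187540, 0, 14, 223803) .leaf) (187542, 0, 16, 249775) (.node .leaf (187544, 0, 10, 176732) .leaf)) (187546, 0, 15, 88622) (.node (.node .leaf (187548, 0, 17, 85923) .leaf) (187550, 0, 15, 8070) (.node .leaf (187553, 0, 17, 180446) .leaf))) (187555, 0, 15, 233723) (.node (.node (.node .leaf (187557, 0, 15, 95503) .leaf) (187559, 0, 15, 171389) (.node .leaf (187561, 0, 14, 58694) .leaf)) (187563, 0, 15, 111971) (.node (.node .leaf (187565, 0, 19, 56421) .leaf) (187567, 0, 10, 161761) (.node .leaf (187568, 0, 18, 206282) .leaf)))) (187570, 0, 17, 52664) (.node (.node (.node (.node .leaf (187572, 0, 16, 88791) .leaf) (187574, 0, 17, 176805) (.node .leaf (187576, 0, 13, 249686) .leaf)) (187578, 0, 14, 208208) (.node (.node .leaf (187580, 0, 16, 148566) .leaf) (187582, 0, 16, 153657) (.node .leaf (187585, 0, 13, 172461) .leaf))) (187587, 0, 15, 116704) (.node (.node (.node .leaf (187589, 0, 15, 170126) .leaf) (187591, 0, 16, 243965)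 (.node .leaf (187593, 0, 18, 33845) .leaf)) (187595, 0, 16, 119824) (.node (.node .leaf (187597, 0, 17, 47635) .leaf) (187599, 0, 16, 217697) (.node .leaf (187600, 0, 15, 131146) .leaf))))) (187602, 0, 18, 92603) (.node (.node (.node (.node (.node .leaf (187604, 0, 18, 189) .leaf) (187606, 0, 15, 235301) (.node .leaf (187608, 0, 16, 191190) .leaf)) (187610, 0, 16, 216099) (.node (.node .leaf (187612, 0, 17, 38347) .leaf) (187614, 0, 16, 226560) (.node .leaf (187617, 0, 18, 217752) .leaf))) (187619, 0, 15, 64125) (.node (.node (.node .leaf (187621, 0, 16, 103291) .leaf) (187623, 0, 17, 181751) (.node .leaf (187625, 0, 12, 243716) .leaf)) (187627, 0, 13, 20598) (.node (.node .leaf (187629, 0, 14, 116505) .leaf) (187631, 0, 17, 143211) (.node .leaf (187632, 0, 16, 228672) .leaf)))) (187634, 0, 17, 38194) (.node (.node (.node (.node .leaf (187636, 0, 18, 199496) .leaf) (187638, 0, 16, 191023) (.node .leaf (187640, 0, 15, 71667) .leaf)) (187642, 0, 15, 32686) (.node (.node .leaf (187644, 0, 17, 125121) .leaf) (187646, 0, 17, 32501)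 (.node .leaf (187648, 0, 16, 227772) .leaf))) (187650, 0, 16, 85526) (.node (.node (.node .leaf (187652, 0, 15, 10000) .leaf) (187654, 0, 17, 192211) (.node .leaf (187656, 0, 12, 146347) .leaf)) (187658, 0, 17, 224142) (.node (.node .leaf (187660, 0, 16, 131720) .leaf) (187662, 0, 13, 132175) (.node .leaf (187665, 0, 14, 165376) .leaf))))))

/-- part of the orbit tree -/
def itp5_368 : Tree := (.node (.node (.node (.node (.node (.node .leaf (187669, 0, 18, 76153) .leaf) (187671, 0, 13, 257798) (.node .leaf (187673, 0, 15, 41880) .leaf)) (187675, 0, 15, 21642) (.node (.node .leaf (187677, 0, 18, 115685) .leaf) (187679, 0, 16, 142231) (.node .leaf (187680, 0, 17, 202182) .leaf))) (187682, 0, 16, 126148) (.node (.node (.node .leaf (187684, 0, 17, 208101) .leaf) (187686, 0, 18, 234457) (.node .leaf (187688, 0, 14, 77918) .leaf)) (187690, 0, 17, 24699) (.node (.node .leaf (187692, 0, 18, 67965) .leaf) (187694, 0, 17, 22872) (.node .leaf (187697, 0, 16, 142190) .leaf)))) (187699, 0, 17, 115484) (.node (.node (.node (.node .leaf (187701,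 0, 15, 21619) .leaf) (187703, 0, 15, 244737) (.node .leaf (187705, 0, 15, 180722) .leaf)) (187707, 0, 14, 194632) (.node (.node .leaf (187709, 0, 16, 233806) .leaf) (187711, 0, 17, 180587) (.node .leaf (187712, 0, 16, 205110) .leaf))) (187714, 0, 16, 140432) (.node (.node (.node .leaf (187716, 0, 18, 216470) .leaf) (187718, 0, 16, 177753) (.node .leaf (187720, 0, 17, 248746) .leaf)) (187722, 0, 16, 9176) (.node (.node .leaf (187724, 0, 18, 92174) .leaf) (187726, 0, 17, 14379) (.node .leaf (187729, 0, 16, 200430) .leaf))))) (187731, 0, 15, 48291) (.node (.node (.node (.node (.node .leaf (187733, 0, 14, 94707) .leaf) (187735, 0, 14, 170369) (.node .leaf (187737, 0, 15, 255090) .leaf)) (187739, 0, 13, 3072) (.node (.node .leaf (187741, 0, 14, 105327) .leaf) (187743, 0, 16, 160541) (.node .leaf (187744, 0, 17, 32576) .leaf))) (187746, 0, 15, 111694) (.node (.node (.node .leaf (187748, 0, 15, 18019) .leaf) (187750, 0, 18, 248659) (.node .leaf (187752, 0, 16, 177824) .leaf)) (187754, 0, 17, 199421) (.node (.node .leaf (187756, 0,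 18, 51645) .leaf) (187758, 0, 16, 209886) (.node .leaf (187761, 0, 14, 190323) .leaf)))) (187763, 0, 18, 105366) (.node (.node (.node (.node .leaf (187765, 0, 18, 3321) .leaf) (187767, 0, 16, 233077) (.node .leaf (187769, 0, 14, 170360) .leaf)) (187771, 0, 17, 103118) (.node (.node .leaf (187773, 0, 16, 58981) .leaf) (187775, 0, 17, 109549) (.node .leaf (187777, 0, 17, 168187) .leaf))) (187779, 0, 14, 96393) (.node (.node (.node .leaf (187781, 0, 16, 151676) .leaf) (187783, 0, 17, 198548) (.node .leaf (187785, 0, 14, 19655) .leaf)) (187787, 0, 17, 72930) (.node (.node .leaf (187789, 0, 18, 1402) .leaf) (187791, 0, 17, 75201) (.node .leaf (187792, 0, 18, 180003) .leaf))))))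

/-- part of the orbit tree -/
def itp5_369 : Tree := (.node (.node (.node (.node (.node (.node .leaf (187796, 0, 16, 49214) .leaf) (187798, 0, 16, 104554) (.node .leaf (187800, 0, 14, 185588) .leaf)) (187802, 0, 13, 114125) (.node (.node .leaf (187804, 0, 17, 10914) .leaf) (187806, 0, 13, 246480) (.node .leaf (187809, 0, 14, 257521) .leaf))) (187811, 0, 13, 12943) (.node (.node (.node .leaf (187813, 0, 11, 103148) .leaf) (187815, 0, 16, 2988) (.node .leaf (187817, 0, 15, 214834) .leaf)) (187819, 0, 19, 136983) (.node (.node .leaf (187821, 0, 15, 228881) .leaf) (187823, 0, 15, 142900) (.node .leaf (187824, 0, 14, 246313) .leaf)))) (187826, 0, 16, 10843) (.node (.node (.node (.node .leaf (187828, 0, 16, 246714) .leaf) (187830, 0, 16, 152902) (.node .leaf (187832, 0, 9, 207029) .leaf)) (187834, 0, 16, 36644) (.node (.node .leaf (187836, 0, 14, 124450) .leaf) (187838, 0, 12, 180186) (.node .leaf (187841, 0, 16, 182385) .leaf))) (187843, 0, 19, 21500) (.node (.node (.node .leaf (187845, 0, 14, 46956) .leaf) (187847, 0, 15, 220958)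 (.node .leaf (187849, 0, 15, 206401) .leaf)) (187851, 0, 13, 117407) (.node (.node .leaf (187853, 0, 19, 204642) .leaf) (187855, 0, 15, 151367) (.node .leaf (187856, 0, 16, 236522) .leaf))))) (187858, 0, 10, 69595) (.node (.node (.node (.node (.node .leaf (187860, 0, 19, 238281) .leaf) (187862, 0, 16, 193260) (.node .leaf (187864, 0, 12, 114290) .leaf)) (187866, 0, 15, 124231) (.node (.node .leaf (187868, 0, 15, 29224) .leaf) (187870, 0, 17, 236122) (.node .leaf (187873, 0, 12, 243067) .leaf))) (187875, 0, 16, 219145) (.node (.node (.node .leaf (187877, 0, 15, 117350) .leaf) (187879, 0, 17, 221482) (.node .leaf (187881, 0, 17, 221159) .leaf)) (187883, 0, 15, 46997) (.node (.node .leaf (187885, 0, 14, 5271) .leaf) (187887, 0, 14, 83122) (.node .leaf (187888, 0, 16, 236195) .leaf)))) (187890, 0, 14, 114746) (.node (.node (.node (.node .leaf (187892, 0, 13, 124350) .leaf) (187894, 0, 15, 129305) (.node .leaf (187896, 0, 16, 177543) .leaf)) (187898, 0, 17, 255394) (.node (.node .leaf (187900, 0, 17, 167076) .leaf) (187902, 0, 14,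 190288) (.node .leaf (187920, 0, 8, 125026) .leaf))) (187921, 0, 18, 242859) (.node (.node (.node .leaf (187922, 0, 14, 47175) .leaf) (187923, 0, 15, 23769) (.node .leaf (187924, 0, 16, 119105) .leaf)) (187925, 0, 16, 78119) (.node (.node .leaf (187926, 0, 17, 31466) .leaf) (187927, 0, 17, 140228) (.node .leaf (187928, 0, 16, 67353) .leaf))))))

/-- part of the orbit tree -/
def itp5_370 : Tree := (.node (.node (.node (.node (.node (.node .leaf (187930, 0, 14, 192363) .leaf) (187931, 0, 16, 46661) (.node .leaf (187932, 0, 14, 227332) .leaf)) (187933, 0, 17, 201919) (.node (.node .leaf (187934, 0, 14, 36982) .leaf) (187935, 0, 16, 182616) (.node .leaf (187952, 0, 10, 37007) .leaf))) (187953, 0, 17, 182689) (.node (.node (.node .leaf (187954, 0, 16, 227581) .leaf) (187955, 0, 15, 74195) (.node .leaf (187956, 0, 16, 187060) .leaf)) (187957, 0, 18, 146130) (.node (.node .leaf (187958, 0, 16, 232081) .leaf) (187959, 0, 17, 223991) (.node .leaf (187960, 0, 17, 31251) .leaf)))) (187961, 0, 17, 140093) (.node (.node (.node (.node .leaf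 (187962, 0, 15, 234081) .leaf) (187963, 0, 16, 117583) (.node .leaf (187964, 0, 17, 132366) .leaf)) (187965, 0, 18, 8010) (.node (.node .leaf (187966, 0, 13, 126332) .leaf) (187967, 0, 15, 242770) (.node .leaf (187984, 0, 18, 111887) .leaf))) (187985, 0, 18, 257057) (.node (.node (.node .leaf (187986, 0, 13, 250561) .leaf) (187987, 0, 14, 209575) (.node .leaf (187988, 0, 17, 179143) .leaf)) (187989, 0, 17, 154529) (.node (.node .leaf (187990, 0, 16, 8800) .leaf) (187991, 0, 15, 199556) (.node .leaf (187992, 0, 15, 90003) .leaf))))) (187993, 0, 18, 198333) (.node (.node (.node (.node (.node .leaf (187994, 0, 17, 128857) .leaf) (187995, 0, 16, 71487) (.node .leaf (187996, 0, 15, 40543) .leaf)) (187997, 0, 17, 32313) (.node (.node .leaf (187998, 0, 17, 51452) .leaf) (187999, 0, 18, 77340) (.node .leaf (188016, 0, 17, 51205) .leaf))) (188017, 0, 13, 92535) (.node (.node (.node .leaf (188018, 0, 16, 204919) .leaf) (188019, 0, 17, 14674) (.node .leaf (188020, 0, 15, 110642) .leaf)) (188021, 0, 18, 60982) (.node (.node .leaf (188022,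 0, 14, 89962) .leaf) (188023, 0, 19, 113) (.node .leaf (188024, 0, 16, 8857) .leaf)))) (188025, 0, 17, 216303) (.node (.node (.node (.node .leaf (188026, 0, 14, 248555) .leaf) (188027, 0, 16, 138442) (.node .leaf (188028, 0, 14, 155012) .leaf)) (188029, 0, 18, 1194) (.node (.node .leaf (188030, 0, 18, 181647) .leaf) (188031, 0, 16, 140777) (.node .leaf (188032, 0, 14, 67389) .leaf))) (188033, 0, 16, 160308) (.node (.node (.node .leaf (188034, 0, 17, 22296) .leaf) (188035, 0, 18, 105030) (.node .leaf (188036, 0, 17, 81438) .leaf)) (188037, 0, 15, 3369) (.node (.node .leaf (188038, 0, 16, 28219) .leaf) (188039, 0, 15, 255323) .leaf)))))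

/-- part of the orbit tree -/
def itp5_371 : Tree := (.node itp5_367 (187667, 0, 14, 251429) itp5_368)

/-- part of the orbit tree -/
def itp5_372 : Tree := (.node itp5_369 (187929, 0, 16, 220727) itp5_370)

/-- part of the orbit tree -/
def itp5_373 : Tree := (.node itp5_365 (187281, 0, 12, 257749) itp5_366)

/-- part of the orbit tree -/
def itp5_374 : Tree := (.node itp5_371 (187794, 0, 16, 87889) itp5_372)

/-- part of the orbit tree -/
def itp5_375 : Tree := (.node itp5_359 (186517, 0, 13, 94983) itp5_360)

/-- part of the orbit tree -/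
def itp5_376 : Tree := (.node itp5_373 (187538, 0, 18, 110770) itp5_374)

/-- part of the orbit tree -/
def itp5_377 : Tree := (.node itp5_345 (184981, 0, 15, 78612) itp5_346)

/-- part of the orbit tree -/
def itp5_378 : Tree := (.node itp5_375 (187025, 0, 16, 165286) itp5_376)

/-- part of the orbit tree -/
def itp5_379 : Tree := (.node itp5_315 (181914, 0, 19, 221659) itp5_316)

/-- part of the orbit tree -/
def itp5_380 : Tree := (.node itp5_377 (186002, 0, 14, 127137) itp5_378)

/-- part of the orbit tree -/
def itp5_381 : Tree := (.node (.node (.node (.node (.node (.node .leaf (188041, 0, 17, 170152) .leaf) (188042, 0, 14, 160384) (.node .leaf (188043, 0, 17, 94426) .leaf)) (188044, 0, 14, 179867) (.node (.node .leaf (188045, 0, 16, 261088) .leaf) (188046, 0, 16, 150435) (.node .leaf (188047, 0, 18, 175045) .leaf))) (188064, 0, 11, 134344) (.node (.node (.node .leaf (188065, 0, 17, 200510) .leaf) (188066, 0, 14, 220397) (.node .leaf (188067, 0, 17, 244875) .leaf)) (188068, 0, 14, 207117) (.node (.node .leaf (188069, 0,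 16, 94243) .leaf) (188070, 0, 15, 49535) (.node .leaf (188071, 0, 16, 230824) .leaf)))) (188072, 0, 17, 10576) (.node (.node (.node (.node .leaf (188073, 0, 17, 51510) .leaf) (188074, 0, 16, 152830) (.node .leaf (188075, 0, 15, 3536) .leaf)) (188076, 0, 19, 246673) (.node (.node .leaf (188077, 0, 15, 61461) .leaf) (188078, 0, 16, 11235) (.node .leaf (188079, 0, 11, 160461) .leaf))) (188096, 0, 17, 159163) (.node (.node (.node .leaf (188097, 0, 16, 142014) .leaf) (188098, 0, 14, 236514) (.node .leaf (188099, 0, 16, 115404) .leaf)) (188100, 0, 14, 152728) (.node (.node .leaf (188101, 0, 16, 177406) .leaf) (188102, 0, 16, 197821) (.node .leaf (188103, 0, 16, 245201) .leaf))))) (188104, 0, 16, 18467) (.node (.node (.node (.node (.node .leaf (188105, 0, 17, 43077) .leaf) (188106, 0, 14, 225662) (.node .leaf (188107, 0, 15, 75856) .leaf)) (188108, 0, 15, 189969) (.node (.node .leaf (188109, 0, 14, 37222) .leaf) (188110, 0, 14, 69219) (.node .leaf (188111, 0, 16, 218957) .leaf))) (188128, 0, 11, 69274) (.node (.node (.node .leaf (188129,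 0, 17, 219060) .leaf) (188130, 0, 14, 190184) (.node .leaf (188131, 0, 15, 54797) .leaf)) (188132, 0, 16, 89965) (.node (.node .leaf (188133, 0, 17, 114443) .leaf) (188134, 0, 17, 3912) (.node .leaf (188135, 0, 15, 180443) .leaf)))) (188136, 0, 18, 213974) (.node (.node (.node (.node .leaf (188137, 0, 14, 245032) .leaf) (188138, 0, 15, 134260) (.node .leaf (188139, 0, 15, 21850) .leaf)) (188140, 0, 16, 236315) (.node (.node .leaf (188141, 0, 18, 236179) .leaf) (188142, 0, 17, 142032) (.node .leaf (188143, 0, 17, 182966) .leaf))) (188176, 0, 19, 150038) (.node (.node (.node .leaf (188177, 0, 13, 174704) .leaf) (188178, 0, 16, 203315) (.node .leaf (188179, 0, 17, 47930) .leaf)) (188180, 0, 16, 226683) (.node (.node .leaf (188181, 0, 14, 76885) .leaf) (188182, 0, 15, 205584) (.node .leaf (188183, 0, 17, 246646) .leaf))))))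

/-- part of the orbit tree -/
def itp5_382 : Tree := (.node (.node (.node (.node (.node (.node .leaf (188185, 0, 14, 244180) .leaf) (188186, 0, 15, 133256) (.node .leaf (188187, 0, 14, 20902) .leaf)) (188188, 0, 14, 237543) (.node (.node .leaf (188189, 0, 8, 46795) .leaf) (188190, 0, 14, 67208) (.node .leaf (188191, 0, 17, 143035) .leaf))) (188208, 0, 16, 82403) (.node (.node (.node .leaf (188209, 0, 15, 106885) .leaf) (188210, 0, 16, 4550) (.node .leaf (188211, 0, 15, 61856) .leaf)) (188212, 0, 15, 96448) (.node (.node .leaf (188213, 0, 18, 20831) .leaf) (188214, 0, 16, 122883) (.node .leaf (188215, 0, 18, 51331) .leaf)))) (188216, 0, 15, 222331) (.node (.node (.node (.node .leaf (188217, 0, 17, 230429) .leaf) (188218, 0, 17, 144478) (.node .leaf (188219, 0, 15, 185400) .leaf)) (188220, 0, 17, 220504) (.node (.node .leaf (188221, 0, 17, 48067) .leaf) (188222, 0, 15, 134525) (.node .leaf (188223, 0, 15, 191771) .leaf))) (188240, 0, 17, 86764) (.node (.node (.node .leaf (188241, 0, 15, 199618) .leaf) (188242, 0, 10, 28853)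 (.node .leaf (188243, 0, 17, 58288) .leaf)) (188244, 0, 17, 72115) (.node (.node .leaf (188245, 0, 13, 129493) .leaf) (188246, 0, 18, 50563) (.node .leaf (188247, 0, 17, 171181) .leaf))))) (188248, 0, 14, 112752) (.node (.node (.node (.node (.node .leaf (188249, 0, 16, 254302) .leaf) (188250, 0, 15, 152877) (.node .leaf (188251, 0, 17, 177483) .leaf)) (188252, 0, 16, 212011) (.node (.node .leaf (188253, 0, 14, 106051) .leaf) (188254, 0, 16, 12063) (.node .leaf (188255, 0, 18, 161329) .leaf))) (188272, 0, 13, 142181) (.node (.node (.node .leaf (188273, 0, 16, 183043) .leaf) (188274, 0, 18, 228160) (.node .leaf (188275, 0, 16, 236326) .leaf)) (188276, 0, 15, 135750) (.node (.node .leaf (188277, 0, 15, 193056) .leaf) (188278, 0, 18, 112777) (.node .leaf (188279, 0, 16, 238085) .leaf)))) (188280, 0, 14, 50554) (.node (.node (.node (.node .leaf (188281, 0, 17, 61083) .leaf) (188282, 0, 16, 89816) (.node .leaf (188283, 0, 14, 95270) .leaf)) (188284, 0, 17, 14302) (.node (.node .leaf (188285, 0, 16, 55224) .leaf) (188286, 0, 15, 86549)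 (.node .leaf (188287, 0, 18, 199483) .leaf))) (188288, 0, 17, 173385) (.node (.node (.node .leaf (188289, 0, 13, 148783) .leaf) (188290, 0, 17, 205963) (.node .leaf (188291, 0, 17, 201994) .leaf)) (188292, 0, 17, 177124) (.node (.node .leaf (188293, 0, 13, 162828) .leaf) (188294, 0, 18, 88982) (.node .leaf (188295, 0, 17, 207913) .leaf))))))

/-- part of the orbit tree -/
def itp5_383 : Tree := (.node (.node (.node (.node (.node (.node .leaf (188297, 0, 16, 163659) .leaf) (188298, 0, 17, 119028) (.node .leaf (188299, 0, 18, 104249) .leaf)) (188300, 0, 18, 47602) (.node (.node .leaf (188301, 0, 18, 22932) .leaf) (188302, 0, 14, 125399) (.node .leaf (188303, 0, 15, 256036) .leaf))) (188320, 0, 14, 111091) (.node (.node (.node .leaf (188321, 0, 11, 256221) .leaf) (188322, 0, 16, 65177) (.node .leaf (188323, 0, 15, 7935) .leaf)) (188324, 0, 18, 249582) (.node (.node .leaf (188325, 0, 12, 96249) .leaf) (188326, 0, 13, 9884) (.node .leaf (188327, 0, 13, 10204) .leaf)))) (188328, 0, 16, 88943) (.node (.node (.node (.node .leaf (188329,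 0, 17, 197185) .leaf) (188330, 0, 17, 187137) (.node .leaf (188331, 0, 16, 146279) .leaf)) (188332, 0, 15, 242183) (.node (.node .leaf (188333, 0, 15, 97628) .leaf) (188334, 0, 16, 52224) (.node .leaf (188335, 0, 17, 169262) .leaf))) (188352, 0, 17, 118735) (.node (.node (.node .leaf (188353, 0, 13, 77737) .leaf) (188354, 0, 16, 40938) (.node .leaf (188355, 0, 15, 75055) .leaf)) (188356, 0, 17, 128748) (.node (.node .leaf (188357, 0, 14, 45632) .leaf) (188358, 0, 15, 42697) (.node .leaf (188359, 0, 18, 219698) .leaf))))) (188360, 0, 17, 32495) (.node (.node (.node (.node (.node .leaf (188361, 0, 16, 199217) .leaf) (188362, 0, 15, 178802) (.node .leaf (188363, 0, 13, 154132) .leaf)) (188364, 0, 14, 250740) (.node (.node .leaf (188365, 0, 15, 22748) .leaf) (188366, 0, 15, 125312) (.node .leaf (188367, 0, 16, 241838) .leaf))) (188384, 0, 16, 125305) (.node (.node (.node .leaf (188385, 0, 16, 140380) .leaf) (188386, 0, 17, 234527) (.node .leaf (188387, 0, 17, 22565) .leaf)) (188388, 0, 13, 235108) (.node (.node .leaf (188389, 0,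 16, 138623) .leaf) (188390, 0, 17, 32278) (.node .leaf (188391, 0, 12, 141112) .leaf)))) (188392, 0, 14, 66533) (.node (.node (.node (.node .leaf (188393, 0, 17, 452) .leaf) (188394, 0, 14, 191383) (.node .leaf (188395, 0, 18, 86497) .leaf)) (188396, 0, 14, 228600) (.node (.node .leaf (188397, 0, 14, 75222) .leaf) (188398, 0, 18, 100516) (.node .leaf (188399, 0, 14, 183716) .leaf))) (188416, 0, 17, 204509) (.node (.node (.node .leaf (188419, 0, 16, 175774) .leaf) (188421, 0, 15, 247704) (.node .leaf (188422, 0, 15, 198837) .leaf)) (188425, 0, 17, 121635) (.node (.node .leaf (188426, 0, 12, 105780) .leaf) (188428, 0, 15, 66150) (.node .leaf (188431, 0, 14, 45605) .leaf))))))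

/-- part of the orbit tree -/
def itp5_384 : Tree := (.node (.node (.node (.node (.node (.node .leaf (188435, 0, 18, 54987) .leaf) (188437, 0, 14, 53023) (.node .leaf (188438, 0, 17, 97859) .leaf)) (188441, 0, 14, 154270) (.node (.node .leaf (188442, 0, 17, 135989) .leaf) (188444, 0, 16, 227891) (.node .leaf (188447, 0, 17, 182896) .leaf))) (188448, 0, 12, 5416) (.node (.node (.node .leaf (188451, 0, 18, 152460) .leaf) (188453, 0, 17, 52333) (.node .leaf (188454, 0, 17, 97326) .leaf)) (188457, 0, 13, 86370) (.node (.node .leaf (188458, 0, 16, 57406) .leaf) (188460, 0, 16, 96081) (.node .leaf (188463, 0, 11, 244176) .leaf)))) (188464, 0, 18, 159101) (.node (.node (.node (.node .leaf (188467, 0, 17, 253246) .leaf) (188469, 0, 15, 177208) (.node .leaf (188470, 0, 16, 841) .leaf)) (188473, 0, 18, 43139) (.node (.node .leaf (188474, 0, 14, 169672) .leaf) (188476, 0, 18, 197031) (.node .leaf (188479, 0, 17, 115077) .leaf))) (188480, 0, 18, 29787) (.node (.node (.node .leaf (188483, 0, 16, 226828) .leaf) (188485, 0, 17, 188771) (.node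 .leaf (188486, 0, 18, 217151) .leaf)) (188489, 0, 14, 29922) (.node (.node .leaf (188490, 0, 14, 116158) .leaf) (188492, 0, 15, 21201) (.node .leaf (188495, 0, 15, 252067) .leaf))))) (188496, 0, 15, 134158) (.node (.node (.node (.node (.node .leaf (188499, 0, 12, 65786) .leaf) (188501, 0, 17, 185675) (.node .leaf (188502, 0, 17, 75465) .leaf)) (188505, 0, 15, 51696) (.node (.node .leaf (188506, 0, 18, 96691) .leaf) (188508, 0, 16, 4277) (.node .leaf (188511, 0, 16, 106742) .leaf))) (188512, 0, 17, 229294) (.node (.node (.node .leaf (188515, 0, 16, 184301) .leaf) (188517, 0, 18, 239339) (.node .leaf (188518, 0, 18, 142645) .leaf)) (188521, 0, 16, 68072) (.node (.node .leaf (188522, 0, 17, 47284) .leaf) (188524, 0, 10, 77787) (.node .leaf (188527, 0, 17, 54102) .leaf)))) (188528, 0, 13, 67579) (.node (.node (.node (.node .leaf (188531, 0, 16, 32240) .leaf) (188533, 0, 16, 122558) (.node .leaf (188534, 0, 14, 28413) .leaf)) (188537, 0, 13, 229150) (.node (.node .leaf (188538, 0, 15, 183874) .leaf) (188540, 0, 14, 219437) (.node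 .leaf (188543, 0, 14, 174851) .leaf))) (188545, 0, 17, 92593) (.node (.node (.node .leaf (188546, 0, 17, 55794) .leaf) (188548, 0, 13, 217262) (.node .leaf (188551, 0, 17, 183) .leaf)) (188552, 0, 17, 240719) (.node (.node .leaf (188555, 0, 17, 29811) .leaf) (188557, 0, 17, 123676) (.node .leaf (188558, 0, 16, 21056) .leaf))))))

/-- part of the orbit tree -/
def itp5_385 : Tree := (.node itp5_381 (188184, 0, 16, 123130) itp5_382)

/-- part of the orbit tree -/
def itp5_386 : Tree := (.node itp5_383 (188432, 0, 13, 59692) itp5_384)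

/-- part of the orbit tree -/
def itp5_387 : Tree := (.node (.node (.node (.node (.node (.node .leaf (188562, 0, 15, 172455) .leaf) (188564, 0, 17, 75352) (.node .leaf (188567, 0, 14, 38660) .leaf)) (188568, 0, 15, 119834) (.node (.node .leaf (188571, 0, 14, 131717) .leaf) (188573, 0, 14, 68959) (.node .leaf (188574, 0, 14, 48412) .leaf))) (188577, 0, 15, 134039) (.node (.node (.node .leaf (188578, 0, 17, 244427) .leaf) (188580, 0, 18, 142756) (.node .leaf (188583, 0, 13, 199490) .leaf)) (188584, 0, 17, 47141) (.node (.node .leaf (188587, 0, 14, 67961) .leaf) (188589, 0, 16, 40470) (.node .leaf (188590, 0, 13, 118460) .leaf)))) (188593, 0, 16, 32097) (.node (.node (.node (.node .leaf (188594, 0, 11, 117821) .leaf) (188596, 0, 17, 23378) (.node .leaf (188599, 0, 15, 94999) .leaf)) (188600, 0, 15, 188399) (.node (.node .leaf (188603, 0, 17, 229263) .leaf) (188605, 0, 18, 132778) (.node .leaf (188606, 0, 14, 243433) .leaf))) (188609, 0, 15, 208407) (.node (.node (.node .leaf (188610, 0, 15, 171851) .leaf) (188612, 0, 17, 186994)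 (.node .leaf (188615, 0, 16, 178552) .leaf)) (188616, 0, 18, 50889) (.node (.node .leaf (188619, 0, 17, 95882) .leaf) (188621, 0, 16, 113558) (.node .leaf (188622, 0, 17, 2762) .leaf))))) (188625, 0, 15, 31586) (.node (.node (.node (.node (.node .leaf (188626, 0, 16, 59837) .leaf) (188628, 0, 15, 98002) (.node .leaf (188631, 0, 17, 70244) .leaf)) (188632, 0, 15, 256851) (.node (.node .leaf (188635, 0, 16, 200415) .leaf) (188637, 0, 17, 249184) (.node .leaf (188638, 0, 14, 251802) .leaf))) (188641, 0, 14, 152349) (.node (.node (.node .leaf (188642, 0, 16, 254529) .leaf) (188644, 0, 15, 161070) (.node .leaf (188647, 0, 16, 25028) .leaf)) (188648, 0, 11, 57519) (.node (.node .leaf (188651, 0, 17, 86515) .leaf) (188653, 0, 16, 50844) (.node .leaf (188654, 0, 11, 96192) .leaf)))) (188657, 0, 15, 225431) (.node (.node (.node (.node .leaf (188658, 0, 15, 103607) .leaf) (188660, 0, 18, 240082) (.node .leaf (188663, 0, 15, 137617) .leaf)) (188664, 0, 19, 111977) (.node (.node .leaf (188667, 0, 14, 206597) .leaf) (188669, 0, 10, 176234)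 (.node .leaf (188670, 0, 16, 196918) .leaf))) (188672, 0, 18, 161849) (.node (.node (.node .leaf (188675, 0, 14, 248165) .leaf) (188677, 0, 15, 26092) (.node .leaf (188678, 0, 18, 120239) .leaf)) (188681, 0, 17, 52107) (.node (.node .leaf (188682, 0, 17, 248084) .leaf) (188684, 0, 15, 60856) (.node .leaf (188687, 0, 17, 89316) .leaf))))))

/-- part of the orbit tree -/
def itp5_388 : Tree := (.node (.node (.node (.node (.node (.node .leaf (188691, 0, 18, 114579) .leaf) (188693, 0, 11, 138681) (.node .leaf (188694, 0, 17, 104864) .leaf)) (188697, 0, 16, 258) (.node (.node .leaf (188698, 0, 14, 110913) .leaf) (188700, 0, 18, 55367) (.node .leaf (188703, 0, 18, 92164) .leaf))) (188704, 0, 15, 243548) (.node (.node (.node .leaf (188707, 0, 17, 132895) .leaf) (188709, 0, 16, 224793) (.node .leaf (188710, 0, 17, 168540) .leaf)) (188713, 0, 15, 94882) (.node (.node .leaf (188714, 0, 12, 2013) .leaf) (188716, 0, 15, 102578) (.node .leaf (188719, 0, 14, 8686) .leaf)))) (188720, 0, 17, 118537) (.node (.node (.node (.node .leaf (188723,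 0, 17, 32586) .leaf) (188725, 0, 13, 87542) (.node .leaf (188726, 0, 13, 58538) .leaf)) (188729, 0, 16, 245879) (.node (.node .leaf (188730, 0, 15, 178868) .leaf) (188732, 0, 15, 250802) (.node .leaf (188735, 0, 15, 156657) .leaf))) (188736, 0, 14, 139443) (.node (.node (.node .leaf (188739, 0, 15, 233967) .leaf) (188741, 0, 16, 132736) (.node .leaf (188742, 0, 15, 180009) .leaf)) (188745, 0, 15, 70609) (.node (.node .leaf (188746, 0, 17, 41874) .leaf) (188748, 0, 16, 117396) (.node .leaf (188751, 0, 16, 31447) .leaf))))) (188752, 0, 13, 110202) (.node (.node (.node (.node (.node .leaf (188755, 0, 19, 7737) .leaf) (188757, 0, 14, 96063) (.node .leaf (188758, 0, 16, 114986) .leaf)) (188761, 0, 16, 189943) (.node (.node .leaf (188762, 0, 15, 218283) .leaf) (188764, 0, 17, 242369) (.node .leaf (188767, 0, 15, 225944) .leaf))) (188768, 0, 14, 56794) (.node (.node (.node .leaf (188771, 0, 16, 93593) .leaf) (188773, 0, 13, 228234) (.node .leaf (188774, 0, 13, 111836) .leaf)) (188777, 0, 15, 126475) (.node (.node .leaf (188778, 0,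 17, 239719) .leaf) (188780, 0, 12, 180577) (.node .leaf (188783, 0, 17, 31076) .leaf)))) (188784, 0, 19, 76623) (.node (.node (.node (.node .leaf (188787, 0, 16, 39443) .leaf) (188789, 0, 15, 68988) (.node .leaf (188790, 0, 18, 48160) .leaf)) (188793, 0, 17, 235773) (.node (.node .leaf (188794, 0, 16, 118834) .leaf) (188796, 0, 16, 245454) (.node .leaf (188799, 0, 11, 67959) .leaf))) (188801, 0, 15, 183237) (.node (.node (.node .leaf (188802, 0, 17, 228230) .leaf) (188804, 0, 15, 135808) (.node .leaf (188807, 0, 13, 132625) .leaf)) (188808, 0, 19, 74444) (.node (.node .leaf (188811, 0, 17, 37776) .leaf) (188813, 0, 16, 55166) (.node .leaf (188814, 0, 15, 91965) .leaf))))))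

/-- part of the orbit tree -/
def itp5_389 : Tree := (.node (.node (.node (.node (.node (.node .leaf (188818, 0, 16, 66515) .leaf) (188820, 0, 17, 27349) (.node .leaf (188823, 0, 16, 121494) .leaf)) (188824, 0, 14, 161390) (.node (.node .leaf (188827, 0, 16, 247341) .leaf) (188829, 0, 16, 225801) (.node .leaf (188830, 0, 13, 181077) .leaf))) (188833, 0, 15, 191604) (.node (.node (.node .leaf (188834, 0, 16, 28787) .leaf) (188836, 0, 14, 182855) (.node .leaf (188839, 0, 16, 228123) .leaf)) (188840, 0, 14, 198094) (.node (.node .leaf (188843, 0, 16, 126618) .leaf) (188845, 0, 16, 253067) (.node .leaf (188846, 0, 15, 158920) .leaf)))) (188849, 0, 15, 39554) (.node (.node (.node (.node .leaf (188850, 0, 16, 133158) .leaf) (188852, 0, 15, 221472) (.node .leaf (188855, 0, 15, 69101) .leaf)) (188856, 0, 17, 141616) (.node (.node .leaf (188859, 0, 14, 52696) .leaf) (188861, 0, 16, 107742) (.node .leaf (188862, 0, 15, 245343) .leaf))) (188865, 0, 17, 106819) (.node (.node (.node .leaf (188866, 0, 17, 4352) .leaf) (188868, 0, 13, 96262)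 (.node .leaf (188871, 0, 15, 155291) .leaf)) (188872, 0, 14, 96838) (.node (.node .leaf (188875, 0, 15, 51994) .leaf) (188877, 0, 12, 89205) (.node .leaf (188878, 0, 16, 60713) .leaf))))) (188881, 0, 16, 252182) (.node (.node (.node (.node (.node .leaf (188882, 0, 15, 158037) .leaf) (188884, 0, 16, 196691) (.node .leaf (188887, 0, 12, 176144) .leaf)) (188888, 0, 18, 199856) (.node (.node .leaf (188891, 0, 17, 44203) .leaf) (188893, 0, 18, 207491) (.node .leaf (188894, 0, 17, 30190) .leaf))) (188897, 0, 16, 177406) (.node (.node (.node .leaf (188898, 0, 15, 203509) .leaf) (188900, 0, 17, 160755) (.node .leaf (188903, 0, 17, 246704) .leaf)) (188904, 0, 15, 1868) (.node (.node .leaf (188907, 0, 11, 112144) .leaf) (188909, 0, 16, 46605) (.node .leaf (188910, 0, 17, 67150) .leaf)))) (188913, 0, 15, 53987) (.node (.node (.node (.node .leaf (188914, 0, 17, 95060) .leaf) (188916, 0, 15, 58427) (.node .leaf (188919, 0, 12, 113637) .leaf)) (188920, 0, 15, 136989) (.node (.node .leaf (188923, 0, 14, 245990) .leaf) (188925, 0, 17, 183896)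 (.node .leaf (188926, 0, 17, 255701) .leaf))) (188930, 0, 13, 94852) (.node (.node (.node .leaf (188931, 0, 14, 207786) .leaf) (188932, 0, 17, 199566) (.node .leaf (188933, 0, 14, 179397) .leaf)) (188936, 0, 15, 71477) (.node (.node .leaf (188937, 0, 15, 128851) .leaf) (188942, 0, 19, 255749) (.node .leaf (188943, 0, 18, 114219) .leaf))))))

/-- part of the orbit tree -/
def itp5_390 : Tree := (.node (.node (.node (.node (.node (.node .leaf (188947, 0, 16, 64187) .leaf) (188948, 0, 16, 168733) (.node .leaf (188949, 0, 13, 103357) .leaf)) (188952, 0, 15, 225120) (.node (.node .leaf (188953, 0, 15, 155570) .leaf) (188958, 0, 14, 102899) (.node .leaf (188959, 0, 17, 189952) .leaf))) (188962, 0, 18, 3982) (.node (.node (.node .leaf (188963, 0, 14, 153248) .leaf) (188964, 0, 15, 123) (.node .leaf (188965, 0, 15, 57373) .leaf)) (188968, 0, 13, 138432) (.node (.node .leaf (188969, 0, 17, 87118) .leaf) (188974, 0, 16, 226758) (.node .leaf (188975, 0, 16, 49953) .leaf)))) (188978, 0, 19, 201000) (.node (.node (.node (.node .leaf (188979,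 0, 17, 8278) .leaf) (188980, 0, 12, 257559) (.node .leaf (188981, 0, 17, 112441) .leaf)) (188984, 0, 18, 25749) (.node (.node .leaf (188985, 0, 16, 205496) .leaf) (188990, 0, 17, 60665) (.node .leaf (188991, 0, 15, 177623) .leaf))) (188994, 0, 17, 76302) (.node (.node (.node .leaf (188995, 0, 14, 125032) .leaf) (188996, 0, 15, 48481) (.node .leaf (188997, 0, 18, 33134) .leaf)) (189000, 0, 17, 163251) (.node (.node .leaf (189001, 0, 17, 171477) .leaf) (189006, 0, 18, 201909) (.node .leaf (189007, 0, 14, 259283) .leaf))))) (189010, 0, 15, 225371) (.node (.node (.node (.node (.node .leaf (189011, 0, 16, 233533) .leaf) (189012, 0, 17, 137565) (.node .leaf (189013, 0, 17, 37561) .leaf)) (189016, 0, 15, 24086) (.node (.node .leaf (189017, 0, 18, 132920) .leaf) (189022, 0, 12, 93408) (.node .leaf (189023, 0, 18, 233559) .leaf))) (189026, 0, 16, 22276) (.node (.node (.node .leaf (189027, 0, 13, 134698) .leaf) (189028, 0, 14, 223997) (.node .leaf (189029, 0, 16, 232091) .leaf)) (189032, 0, 18, 218602) (.node (.node .leaf (189033, 0,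 18, 103968) .leaf) (189038, 0, 17, 8000) (.node .leaf (189039, 0, 16, 65318) .leaf)))) (189042, 0, 13, 31662) (.node (.node (.node (.node .leaf (189043, 0, 16, 39880) .leaf) (189044, 0, 17, 70312) (.node .leaf (189045, 0, 16, 126899) .leaf)) (189048, 0, 17, 200211) (.node (.node .leaf (189049, 0, 16, 227890) .leaf) (189054, 0, 17, 157461) (.node .leaf (189055, 0, 16, 191837) .leaf))) (189056, 0, 12, 76447) (.node (.node (.node .leaf (189057, 0, 16, 83393) .leaf) (189062, 0, 16, 52385) (.node .leaf (189063, 0, 14, 11463) .leaf)) (189066, 0, 15, 184346) (.node (.node .leaf (189067, 0, 14, 29023) .leaf) (189068, 0, 17, 243996) .leaf)))))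

/-- part of the orbit tree -/
def itp5_391 : Tree := (.node itp5_387 (188688, 0, 16, 181500) itp5_388)

/-- part of the orbit tree -/
def itp5_392 : Tree := (.node itp5_389 (188946, 0, 16, 197746) itp5_390)

/-- part of the orbit tree -/
def itp5_393 : Tree := (.node itp5_385 (188296, 0, 16, 32977) itp5_386)

/-- part of the orbit tree -/
def itp5_394 : Tree := (.node itp5_391 (188817, 0, 17, 45968) itp5_392)

/-- part of the orbit tree -/
def itp5_395 : Tree := (.node (.node (.node (.node (.node (.node .leaf (189072, 0, 18, 220265) .leaf) (189073, 0, 17, 66887) (.node .leaf (189078, 0, 8, 183046) .leaf)) (189079, 0, 18, 37416) (.node (.node .leaf (189082, 0, 17, 24199) .leaf) (189083, 0, 17, 18473) (.node .leaf (189084, 0, 18, 117224) .leaf))) (189085, 0, 16, 233670) (.node (.node (.node .leaf (189088, 0, 18, 22421) .leaf) (189089, 0, 12, 134843) (.node .leaf (189094, 0, 17, 114938) .leaf)) (189095, 0, 16, 206642) (.node (.node .leaf (189098, 0, 18, 218491) .leaf) (189099, 0, 15, 80777) (.node .leaf (189100, 0, 17, 180756)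 .leaf)))) (189101, 0, 15, 39738) (.node (.node (.node (.node .leaf (189104, 0, 17, 54791) .leaf) (189105, 0, 15, 13921) (.node .leaf (189110, 0, 16, 243212) .leaf)) (189111, 0, 14, 89959) (.node (.node .leaf (189114, 0, 15, 74637) .leaf) (189115, 0, 14, 213980) (.node .leaf (189116, 0, 15, 182972) .leaf))) (189117, 0, 15, 191948) (.node (.node (.node .leaf (189120, 0, 16, 184097) .leaf) (189121, 0, 15, 143175) (.node .leaf (189126, 0, 11, 239143) .leaf)) (189127, 0, 15, 179284) (.node (.node .leaf (189130, 0, 14, 113308) .leaf) (189131, 0, 15, 10709) (.node .leaf (189132, 0, 16, 54170) .leaf))))) (189133, 0, 13, 114362) (.node (.node (.node (.node (.node .leaf (189136, 0, 13, 197859) .leaf) (189137, 0, 18, 89549) (.node .leaf (189142, 0, 18, 168844) .leaf)) (189143, 0, 16, 81428) (.node (.node .leaf (189146, 0, 13, 1549) .leaf) (189147, 0, 16, 205487) (.node .leaf (189148, 0, 14, 175055) .leaf))) (189149, 0, 17, 247884) (.node (.node (.node .leaf (189152, 0, 14, 115924) .leaf) (189153, 0, 16, 74930) (.node .leaf (189158, 0,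 16, 44498) .leaf)) (189159, 0, 17, 246110) (.node (.node .leaf (189162, 0, 15, 176489) .leaf) (189163, 0, 17, 151823) (.node .leaf (189164, 0, 16, 170654) .leaf)))) (189165, 0, 17, 210953) (.node (.node (.node (.node .leaf (189168, 0, 13, 162281) .leaf) (189169, 0, 16, 220391) (.node .leaf (189174, 0, 16, 185735) .leaf)) (189175, 0, 16, 144865) (.node (.node .leaf (189178, 0, 16, 97031) .leaf) (189179, 0, 18, 10586) (.node .leaf (189180, 0, 18, 106554) .leaf))) (189181, 0, 17, 177478) (.node (.node (.node .leaf (189186, 0, 17, 103783) .leaf) (189187, 0, 17, 73882) (.node .leaf (189188, 0, 18, 520) .leaf)) (189189, 0, 16, 154406) (.node (.node .leaf (189192, 0, 15, 177473) .leaf) (189193, 0, 17, 152871) (.node .leaf (189198, 0, 16, 196838) .leaf))))))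

/-- part of the orbit tree -/
def itp5_396 : Tree := (.node (.node (.node (.node (.node (.node .leaf (189202, 0, 11, 243881) .leaf) (189203, 0, 18, 219343) (.node .leaf (189204, 0, 17, 184751) .leaf)) (189205, 0, 17, 143817) (.node (.node .leaf (189208, 0, 13, 57727) .leaf) (189209, 0, 18, 178257) (.node .leaf (189214, 0, 15, 95760) .leaf))) (189215, 0, 19, 208702) (.node (.node (.node .leaf (189218, 0, 16, 59501) .leaf) (189219, 0, 17, 142191) (.node .leaf (189220, 0, 14, 98050) .leaf)) (189221, 0, 15, 213609) (.node (.node .leaf (189224, 0, 17, 256643) .leaf) (189225, 0, 17, 111533) (.node .leaf (189230, 0, 13, 55218) .leaf)))) (189231, 0, 16, 9410) (.node (.node (.node (.node .leaf (189234, 0, 18, 45916) .leaf) (189235, 0, 12, 21306) (.node .leaf (189236, 0, 16, 121434) .leaf)) (189237, 0, 16, 86234) (.node (.node .leaf (189240, 0, 17, 247521) .leaf) (189241, 0, 15, 247131) (.node .leaf (189246, 0, 18, 2842) .leaf))) (189247, 0, 16, 151425) (.node (.node (.node .leaf (189250, 0, 16, 118253) .leaf) (189251, 0, 14, 150044)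 (.node .leaf (189252, 0, 16, 23170) .leaf)) (189253, 0, 15, 132012) (.node (.node .leaf (189256, 0, 15, 184067) .leaf) (189257, 0, 12, 38445) (.node .leaf (189262, 0, 16, 46785) .leaf))))) (189263, 0, 17, 65858) (.node (.node (.node (.node (.node .leaf (189266, 0, 15, 244507) .leaf) (189267, 0, 16, 12873) (.node .leaf (189268, 0, 14, 113449) .leaf)) (189269, 0, 13, 88911) (.node (.node .leaf (189272, 0, 17, 239506) .leaf) (189273, 0, 17, 215028) (.node .leaf (189278, 0, 18, 183956) .leaf))) (189279, 0, 15, 227252) (.node (.node (.node .leaf (189282, 0, 12, 45287) .leaf) (189283, 0, 15, 190921) (.node .leaf (189284, 0, 16, 51337) .leaf)) (189285, 0, 17, 229030) (.node (.node .leaf (189288, 0, 18, 185394) .leaf) (189289, 0, 17, 125735) (.node .leaf (189294, 0, 16, 140646) .leaf)))) (189295, 0, 18, 220498) (.node (.node (.node (.node .leaf (189298, 0, 17, 252378) .leaf) (189299, 0, 17, 211388) (.node .leaf (189300, 0, 5, 176348) .leaf)) (189301, 0, 17, 67664) (.node (.node .leaf (189304, 0, 17, 115967) .leaf) (189305, 0, 17, 19457)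 (.node .leaf (189310, 0, 17, 116065) .leaf))) (189311, 0, 13, 133822) (.node (.node (.node .leaf (189312, 0, 18, 133075) .leaf) (189313, 0, 15, 234578) (.node .leaf (189318, 0, 14, 23059) .leaf)) (189319, 0, 17, 233139) (.node (.node .leaf (189322, 0, 14, 94830) .leaf) (189323, 0, 15, 38588) (.node .leaf (189324, 0, 15, 7016) .leaf))))))

/-- part of the orbit tree -/
def itp5_397 : Tree := (.node (.node (.node (.node (.node (.node .leaf (189328, 0, 13, 32646) .leaf) (189329, 0, 17, 40928) (.node .leaf (189334, 0, 16, 142565) .leaf)) (189335, 0, 14, 30155) (.node (.node .leaf (189338, 0, 17, 47460) .leaf) (189339, 0, 15, 188490) (.node .leaf (189340, 0, 17, 77323) .leaf))) (189341, 0, 17, 227109) (.node (.node (.node .leaf (189344, 0, 14, 68646) .leaf) (189345, 0, 13, 190808) (.node .leaf (189350, 0, 17, 25888) .leaf)) (189351, 0, 14, 228919) (.node (.node .leaf (189354, 0, 15, 162203) .leaf) (189355, 0, 18, 125878) (.node .leaf (189356, 0, 14, 140791) .leaf)))) (189357, 0, 15, 258299) (.node (.node (.node (.node .leaf (189360,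 0, 18, 181888) .leaf) (189361, 0, 14, 40878) (.node .leaf (189366, 0, 16, 138613) .leaf)) (189367, 0, 17, 67777) (.node (.node .leaf (189370, 0, 14, 462) .leaf) (189371, 0, 19, 57768) (.node .leaf (189372, 0, 16, 21249) .leaf))) (189373, 0, 14, 133679) (.node (.node (.node .leaf (189376, 0, 15, 103926) .leaf) (189377, 0, 18, 249048) (.node .leaf (189382, 0, 14, 665) .leaf)) (189383, 0, 14, 154551) (.node (.node .leaf (189386, 0, 16, 137448) .leaf) (189387, 0, 18, 194702) (.node .leaf (189388, 0, 16, 196727) .leaf))))) (189389, 0, 15, 88409) (.node (.node (.node (.node (.node .leaf (189392, 0, 14, 201984) .leaf) (189393, 0, 17, 113198) (.node .leaf (189398, 0, 17, 160879) .leaf)) (189399, 0, 16, 11585) (.node (.node .leaf (189402, 0, 17, 24765) .leaf) (189403, 0, 15, 178368) (.node .leaf (189404, 0, 17, 95873) .leaf))) (189405, 0, 16, 125405) (.node (.node (.node .leaf (189408, 0, 13, 157344) .leaf) (189409, 0, 18, 176594) (.node .leaf (189414, 0, 18, 200614) .leaf)) (189415, 0, 18, 206525) (.node (.node .leaf (189418, 0, 14,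 256530) .leaf) (189419, 0, 17, 127867) (.node .leaf (189420, 0, 14, 163197) .leaf)))) (189421, 0, 11, 39549) (.node (.node (.node (.node .leaf (189424, 0, 16, 171530) .leaf) (189425, 0, 15, 65171) (.node .leaf (189430, 0, 16, 199013) .leaf)) (189431, 0, 19, 86091) (.node (.node .leaf (189434, 0, 14, 105700) .leaf) (189435, 0, 17, 247242) (.node .leaf (189436, 0, 17, 131662) .leaf))) (189437, 0, 14, 188968) (.node (.node (.node .leaf (189441, 0, 11, 189459) .leaf) (189443, 0, 15, 9074) (.node .leaf (189444, 0, 15, 146774) .leaf)) (189446, 0, 14, 1345) (.node (.node .leaf (189448, 0, 15, 8685) .leaf) (189450, 0, 16, 168128) (.node .leaf (189453, 0, 17, 89729) .leaf))))))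

/-- part of the orbit tree -/
def itp5_398 : Tree := (.node (.node (.node (.node (.node (.node .leaf (189457, 0, 18, 40006) .leaf) (189459, 0, 10, 152964) (.node .leaf (189460, 0, 18, 17667) .leaf)) (189462, 0, 16, 160695) (.node (.node .leaf (189464, 0, 17, 200260) .leaf) (189466, 0, 17, 199069) (.node .leaf (189469, 0, 13, 164093) .leaf))) (189471, 0, 14, 49157) (.node (.node (.node .leaf (189473, 0, 17, 126950) .leaf) (189475, 0, 15, 49091) (.node .leaf (189476, 0, 16, 79523) .leaf)) (189478, 0, 17, 26246) (.node (.node .leaf (189480, 0, 14, 1464) .leaf) (189482, 0, 18, 257482) (.node .leaf (189485, 0, 16, 258909) .leaf)))) (189487, 0, 17, 172920) (.node (.node (.node (.node .leaf (189489, 0, 15, 235443) .leaf) (189491, 0, 14, 206990) (.node .leaf (189492, 0, 17, 59087) .leaf)) (189494, 0, 17, 200381) (.node (.node .leaf (189496, 0, 16, 160590) .leaf) (189498, 0, 16, 616) (.node .leaf (189501, 0, 16, 101128) .leaf))) (189503, 0, 13, 56109) (.node (.node (.node .leaf (189505, 0, 14, 234378) .leaf) (189507, 0, 18, 31736)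 (.node .leaf (189508, 0, 16, 88016) .leaf)) (189510, 0, 17, 2037) (.node (.node .leaf (189512, 0, 13, 215915) .leaf) (189514, 0, 16, 182346) (.node .leaf (189517, 0, 12, 234030) .leaf))))) (189519, 0, 17, 180747) (.node (.node (.node (.node (.node .leaf (189521, 0, 12, 124284) .leaf) (189523, 0, 17, 134414) (.node .leaf (189524, 0, 13, 208773) .leaf)) (189526, 0, 16, 142141) (.node (.node .leaf (189528, 0, 16, 218830) .leaf) (189530, 0, 14, 48828) (.node .leaf (189533, 0, 16, 225533) .leaf))) (189535, 0, 18, 47710) (.node (.node (.node .leaf (189537, 0, 11, 192128) .leaf) (189539, 0, 13, 67314) (.node .leaf (189540, 0, 11, 182451) .leaf)) (189542, 0, 15, 73921) (.node (.node .leaf (189544, 0, 15, 23858) .leaf) (189546, 0, 18, 69819) (.node .leaf (189549, 0, 18, 31489) .leaf)))) (189551, 0, 14, 117246) (.node (.node (.node (.node .leaf (189553, 0, 15, 39030) .leaf) (189555, 0, 17, 109840) (.node .leaf (189556, 0, 18, 9328) .leaf)) (189558, 0, 17, 218679) (.node (.node .leaf (189560, 0, 17, 145611) .leaf) (189562, 0, 15, 115638)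 (.node .leaf (189565, 0, 16, 188814) .leaf))) (189567, 0, 16, 124293) (.node (.node (.node .leaf (189568, 0, 15, 139847) .leaf) (189570, 0, 12, 115546) (.node .leaf (189573, 0, 13, 132212) .leaf)) (189575, 0, 18, 125958) (.node (.node .leaf (189577, 0, 15, 37365) .leaf) (189579, 0, 16, 227719) (.node .leaf (189580, 0, 16, 47046) .leaf))))))

/-- part of the orbit tree -/
def itp5_399 : Tree := (.node itp5_395 (189199, 0, 18, 88520) itp5_396)

/-- part of the orbit tree -/
def itp5_400 : Tree := (.node itp5_397 (189455, 0, 19, 108685) itp5_398)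

/-- part of the orbit tree -/
def itp5_401 : Tree := (.node (.node (.node (.node (.node (.node .leaf (189584, 0, 16, 191274) .leaf) (189586, 0, 18, 244931) (.node .leaf (189589, 0, 17, 29314) .leaf)) (189591, 0, 16, 236272) (.node (.node .leaf (189593, 0, 12, 190211) .leaf) (189595, 0, 13, 98033) (.node .leaf (189596, 0, 17, 63377) .leaf))) (189598, 0, 16, 76098) (.node (.node (.node .leaf (189600, 0, 16, 221005) .leaf) (189602, 0, 15, 182447) (.node .leaf (189605, 0, 15, 227710) .leaf)) (189607, 0, 11, 37132) (.node (.node .leaf (189609, 0, 15, 89460) .leaf) (189611, 0, 16, 132237) (.node .leaf (189612, 0, 16, 117452) .leaf)))) (189614, 0, 17, 54292) (.node (.node (.node (.node .leaf (189616, 0, 16, 76219) .leaf) (189618, 0, 16, 180681) (.node .leaf (189621, 0, 16, 69512) .leaf)) (189623, 0, 17, 27071) (.node (.node .leaf (189625, 0, 19, 236041) .leaf) (189627, 0, 16, 161028) (.node .leaf (189628, 0, 17, 261220) .leaf))) (189630, 0, 14, 21576) (.node (.node (.node .leaf (189632, 0, 16, 260601) .leaf) (189634, 0, 15, 103103)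 (.node .leaf (189637, 0, 18, 204988) .leaf)) (189639, 0, 15, 159897) (.node (.node .leaf (189641, 0, 5, 80903) .leaf) (189643, 0, 15, 205069) (.node .leaf (189644, 0, 17, 61260) .leaf))))) (189646, 0, 19, 198462) (.node (.node (.node (.node (.node .leaf (189648, 0, 16, 98732) .leaf) (189650, 0, 17, 255049) (.node .leaf (189653, 0, 17, 88297) .leaf)) (189655, 0, 18, 2252) (.node (.node .leaf (189657, 0, 15, 214098) .leaf) (189659, 0, 17, 88059) (.node .leaf (189660, 0, 17, 170426) .leaf))) (189662, 0, 18, 183602) (.node (.node (.node .leaf (189664, 0, 13, 198599) .leaf) (189666, 0, 18, 61365) (.node .leaf (189669, 0, 14, 11081) .leaf)) (189671, 0, 15, 51590) (.node (.node .leaf (189673, 0, 18, 111733) .leaf) (189675, 0, 17, 223191) (.node .leaf (189676, 0, 13, 102982) .leaf)))) (189678, 0, 15, 245394) (.node (.node (.node (.node .leaf (189680, 0, 17, 94513) .leaf) (189682, 0, 15, 170307) (.node .leaf (189685, 0, 16, 152348) .leaf)) (189687, 0, 16, 180080) (.node (.node .leaf (189689, 0, 13, 246403) .leaf) (189691, 0, 15, 10993)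 (.node .leaf (189692, 0, 18, 255152) .leaf))) (189694, 0, 16, 3266) (.node (.node (.node .leaf (189697, 0, 15, 208099) .leaf) (189699, 0, 14, 5698) (.node .leaf (189700, 0, 15, 199376) .leaf)) (189702, 0, 16, 52999) (.node (.node .leaf (189704, 0, 16, 106321) .leaf) (189706, 0, 16, 185276) (.node .leaf (189709, 0, 19, 112994) .leaf))))))

/-- part of the orbit tree -/
def itp5_402 : Tree := (.node (.node (.node (.node (.node (.node .leaf (189713, 0, 16, 88597) .leaf) (189715, 0, 16, 176743) (.node .leaf (189716, 0, 15, 97318) .leaf)) (189718, 0, 17, 169044) (.node (.node .leaf (189720, 0, 14, 256423) .leaf) (189722, 0, 17, 44009) (.node .leaf (189725, 0, 16, 249748) .leaf))) (189727, 0, 12, 10214) (.node (.node (.node .leaf (189729, 0, 17, 150930) .leaf) (189731, 0, 18, 204215) (.node .leaf (189732, 0, 16, 169175) .leaf)) (189734, 0, 15, 106408) (.node (.node .leaf (189736, 0, 15, 57947) .leaf) (189738, 0, 15, 120905) (.node .leaf (189741, 0, 12, 20777) .leaf)))) (189743, 0, 17, 65804) (.node (.node (.node (.node .leaf (189745,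 0, 15, 10015) .leaf) (189747, 0, 12, 249709) (.node .leaf (189748, 0, 17, 60546) .leaf)) (189750, 0, 17, 256350) (.node (.node .leaf (189752, 0, 17, 169133) .leaf) (189754, 0, 14, 97503) (.node .leaf (189757, 0, 18, 141692) .leaf))) (189759, 0, 16, 88812) (.node (.node (.node .leaf (189761, 0, 11, 226409) .leaf) (189763, 0, 17, 39963) (.node .leaf (189764, 0, 18, 193956) .leaf)) (189766, 0, 15, 47656) (.node (.node .leaf (189768, 0, 15, 59679) .leaf) (189770, 0, 16, 143273) (.node .leaf (189773, 0, 17, 123368) .leaf))))) (189775, 0, 17, 90239) (.node (.node (.node (.node (.node .leaf (189777, 0, 16, 66207) .leaf) (189779, 0, 17, 66705) (.node .leaf (189780, 0, 16, 74924) .leaf)) (189782, 0, 16, 122324) (.node (.node .leaf (189784, 0, 17, 241965) .leaf) (189786, 0, 16, 246127) (.node .leaf (189789, 0, 15, 149519) .leaf))) (189791, 0, 14, 202794) (.node (.node (.node .leaf (189793, 0, 17, 75540) .leaf) (189795, 0, 18, 30513) (.node .leaf (189796, 0, 18, 130641) .leaf)) (189798, 0, 17, 44660) (.node (.node .leaf (189800, 0, 18,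 47825) .leaf) (189802, 0, 10, 217763) (.node .leaf (189805, 0, 11, 211887) .leaf)))) (189807, 0, 17, 226448) (.node (.node (.node (.node .leaf (189809, 0, 16, 220993) .leaf) (189811, 0, 17, 135012) (.node .leaf (189812, 0, 17, 22950) .leaf)) (189814, 0, 15, 242132) (.node (.node .leaf (189816, 0, 17, 105151) .leaf) (189818, 0, 16, 51866) (.node .leaf (189821, 0, 15, 190996) .leaf))) (189823, 0, 14, 5087) (.node (.node (.node .leaf (189824, 0, 18, 181668) .leaf) (189826, 0, 17, 77270) (.node .leaf (189829, 0, 15, 189335) .leaf)) (189831, 0, 17, 178283) (.node (.node .leaf (189833, 0, 15, 30230) .leaf) (189835, 0, 10, 42192) (.node .leaf (189836, 0, 17, 20517) .leaf))))))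

/-- part of the orbit tree -/
def itp5_403 : Tree := (.node (.node (.node (.node (.node (.node .leaf (189840, 0, 17, 45906) .leaf) (189842, 0, 17, 219936) (.node .leaf (189845, 0, 15, 38241) .leaf)) (189847, 0, 13, 228627) (.node (.node .leaf (189849, 0, 16, 131296) .leaf) (189851, 0, 16, 187525) (.node .leaf (189852, 0, 18, 218597) .leaf))) (189854, 0, 17, 132544) (.node (.node (.node .leaf (189856, 0, 16, 243886) .leaf) (189858, 0, 16, 20700) (.node .leaf (189861, 0, 16, 237213) .leaf)) (189863, 0, 15, 30447) (.node (.node .leaf (189865, 0, 13, 196352) .leaf) (189867, 0, 17, 189294) (.node .leaf (189868, 0, 17, 140869) .leaf)))) (189870, 0, 18, 226912) (.node (.node (.node (.node .leaf (189872, 0, 18, 148139) .leaf) (189874, 0, 16, 201358) (.node .leaf (189877, 0, 16, 170990) .leaf)) (189879, 0, 14, 248779) (.node (.node .leaf (189881, 0, 16, 34645) .leaf) (189883, 0, 16, 120688) (.node .leaf (189884, 0, 17, 220121) .leaf))) (189886, 0, 14, 45995) (.node (.node (.node .leaf (189888, 0, 19, 23437) .leaf) (189890, 0, 16, 68520)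 (.node .leaf (189893, 0, 17, 33480) .leaf)) (189895, 0, 15, 119533) (.node (.node .leaf (189897, 0, 16, 171635) .leaf) (189899, 0, 17, 249430) (.node .leaf (189900, 0, 15, 149302) .leaf))))) (189902, 0, 18, 202515) (.node (.node (.node (.node (.node .leaf (189904, 0, 16, 60376) .leaf) (189906, 0, 14, 226301) (.node .leaf (189909, 0, 13, 52715) .leaf)) (189911, 0, 17, 206233) (.node (.node .leaf (189913, 0, 15, 153706) .leaf) (189915, 0, 12, 112131) (.node .leaf (189916, 0, 12, 163417) .leaf))) (189918, 0, 17, 94022) (.node (.node (.node .leaf (189920, 0, 18, 253988) .leaf) (189922, 0, 16, 2134) (.node .leaf (189925, 0, 14, 247319) .leaf)) (189927, 0, 13, 11877) (.node (.node .leaf (189929, 0, 13, 86934) .leaf) (189931, 0, 17, 179172) (.node .leaf (189932, 0, 14, 95653) .leaf)))) (189934, 0, 17, 7398) (.node (.node (.node (.node .leaf (189936, 0, 18, 75821) .leaf) (189938, 0, 16, 30728) (.node .leaf (189941, 0, 19, 127336) .leaf)) (189943, 0, 15, 41293) (.node (.node .leaf (189945, 0, 15, 206176) .leaf) (189947, 0, 18, 179702)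 (.node .leaf (189948, 0, 17, 210070) .leaf))) (189950, 0, 17, 156851) (.node (.node (.node .leaf (189952, 0, 16, 141317) .leaf) (189953, 0, 14, 182371) (.node .leaf (189954, 0, 14, 227360) .leaf)) (189955, 0, 15, 235590) (.node (.node .leaf (189964, 0, 15, 197251) .leaf) (189965, 0, 15, 54488) (.node .leaf (189966, 0, 17, 60145) .leaf))))))

/-- part of the orbit tree -/
def itp5_404 : Tree := (.node (.node (.node (.node (.node (.node .leaf (189968, 0, 14, 20560) .leaf) (189969, 0, 14, 45110) (.node .leaf (189970, 0, 15, 65653) .leaf)) (189971, 0, 15, 122899) (.node (.node .leaf (189980, 0, 16, 150763) .leaf) (189981, 0, 16, 175245) (.node .leaf (189982, 0, 16, 203982) .leaf))) (189983, 0, 15, 261288) (.node (.node (.node .leaf (189984, 0, 17, 59912) .leaf) (189985, 0, 15, 115606) (.node .leaf (189986, 0, 13, 29653) .leaf)) (189987, 0, 15, 88916) (.node (.node .leaf (189996, 0, 15, 163721) .leaf) (189997, 0, 18, 9895) (.node .leaf (189998, 0, 16, 159598) .leaf)))) (189999, 0, 17, 249557) (.node (.node (.node (.node .leaf (190000,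 0, 15, 171262) .leaf) (190001, 0, 17, 50640) (.node .leaf (190002, 0, 17, 134016) .leaf)) (190003, 0, 18, 208290) (.node (.node .leaf (190012, 0, 17, 83742) .leaf) (190013, 0, 17, 151633) (.node .leaf (190014, 0, 16, 5947) .leaf))) (190015, 0, 18, 112675) (.node (.node (.node .leaf (190016, 0, 14, 82563) .leaf) (190017, 0, 16, 107237) (.node .leaf (190018, 0, 14, 4774) .leaf)) (190019, 0, 18, 32468) (.node (.node .leaf (190028, 0, 17, 219657) .leaf) (190029, 0, 17, 66343) (.node .leaf (190030, 0, 15, 45691) .leaf))))) (190031, 0, 16, 192123) (.node (.node (.node (.node (.node .leaf (190032, 0, 17, 244094) .leaf) (190033, 0, 16, 252592) (.node .leaf (190034, 0, 17, 20748) .leaf)) (190035, 0, 15, 133154) (.node (.node .leaf (190044, 0, 17, 75373) .leaf) (190045, 0, 17, 226769) (.node .leaf (190046, 0, 16, 30280) .leaf))) (190047, 0, 16, 40355) (.node (.node (.node .leaf (190048, 0, 18, 149878) .leaf) (190049, 0, 13, 174352) (.node .leaf (190050, 0, 15, 219888) .leaf)) (190051, 0, 16, 260405) (.node (.node .leaf (190060, 0, 18,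 141059) .leaf) (190061, 0, 17, 46507) (.node .leaf (190062, 0, 15, 67048) .leaf)))) (190063, 0, 16, 124302) (.node (.node (.node (.node .leaf (190064, 0, 16, 12579) .leaf) (190065, 0, 12, 53573) (.node .leaf (190066, 0, 14, 76806) .leaf)) (190067, 0, 16, 226600) (.node (.node .leaf (190076, 0, 17, 142744) .leaf) (190077, 0, 15, 133339) (.node .leaf (190078, 0, 16, 228797) .leaf))) (190079, 0, 15, 237019) (.node (.node (.node .leaf (190084, 0, 15, 22646) .leaf) (190085, 0, 16, 26186) (.node .leaf (190086, 0, 17, 241668) .leaf)) (190087, 0, 13, 125226) (.node (.node .leaf (190088, 0, 17, 183799) .leaf) (190089, 0, 18, 162545) .leaf)))))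

/-- part of the orbit tree -/
def itp5_405 : Tree := (.node itp5_401 (189711, 0, 14, 151824) itp5_402)

/-- part of the orbit tree -/
def itp5_406 : Tree := (.node itp5_403 (189967, 0, 17, 177119) itp5_404)

/-- part of the orbit tree -/
def itp5_407 : Tree := (.node itp5_399 (189325, 0, 16, 66003) itp5_400)

/-- part of the orbit tree -/
def itp5_408 : Tree := (.node itp5_405 (189838, 0, 14, 32149) itp5_406)

/-- part of the orbit tree -/
def itp5_409 : Tree := (.node itp5_393 (188561, 0, 14, 201188) itp5_394)

/-- part of the orbit tree -/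
def itp5_410 : Tree := (.node itp5_407 (189582, 0, 12, 221108) itp5_408)

/-- part of the orbit tree -/
def itp5_411 : Tree := (.node (.node (.node (.node (.node (.node .leaf (190091, 0, 16, 207572) .leaf) (190100, 0, 18, 196217) (.node .leaf (190101, 0, 15, 138783) .leaf)) (190102, 0, 17, 116466) (.node (.node .leaf (190103, 0, 16, 237532) .leaf) (190104, 0, 14, 47873) (.node .leaf (190105, 0, 17, 676) .leaf))) (190106, 0, 15, 217971) (.node (.node (.node .leaf (190107, 0, 16, 86657) .leaf) (190116, 0, 16, 232921) (.node .leaf (190117, 0, 18, 228434) .leaf)) (190118, 0, 16, 183566) (.node (.node .leaf (190119, 0, 11, 146842) .leaf) (190120, 0, 16, 102754) (.node .leaf (190121, 0, 15, 94468) .leaf)))) (190122, 0, 18, 49479) (.node (.node (.node (.node .leaf (190123, 0, 18, 8481) .leaf) (190132, 0, 19, 128396) (.node .leaf (190133, 0, 12, 68260) .leaf)) (190134, 0, 17, 42409) (.node (.node .leaf (190135, 0, 16, 17871) .leaf) (190136, 0, 15, 256311) (.node .leaf (190137, 0, 17, 237349) .leaf))) (190138, 0, 15, 178450) (.node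 (.node (.node .leaf (190139, 0, 14, 153972) .leaf) (190148, 0, 19, 252) (.node .leaf (190149, 0, 18, 199884) .leaf)) (190150, 0, 17, 179343) (.node (.node .leaf (190151, 0, 17, 111008) .leaf) (190152, 0, 16, 126993) (.node .leaf (190153, 0, 14, 69751) .leaf))))) (190154, 0, 14, 41012) (.node (.node (.node (.node (.node .leaf (190155, 0, 15, 16466) .leaf) (190164, 0, 16, 103679) (.node .leaf (190165, 0, 17, 12068) .leaf)) (190166, 0, 15, 50394) (.node (.node .leaf (190167, 0, 15, 247638) .leaf) (190168, 0, 17, 231492) (.node .leaf (190169, 0, 17, 178853) .leaf))) (190170, 0, 15, 186465) (.node (.node (.node .leaf (190171, 0, 16, 145415) .leaf) (190180, 0, 13, 59231) (.node .leaf (190181, 0, 16, 1849) .leaf)) (190182, 0, 17, 112506) (.node (.node .leaf (190183, 0, 15, 87836) .leaf) (190184, 0, 13, 195556) (.node .leaf (190185, 0, 14, 138114) .leaf)))) (190186, 0, 16, 5) (.node (.node (.node (.node .leaf (190187, 0, 15, 215975) .leaf) (190196, 0, 14, 171786) (.node .leaf (190197, 0, 14, 163692) .leaf)) (190198, 0, 18, 249647)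 (.node (.node .leaf (190199, 0, 16, 178780) .leaf) (190200, 0, 14, 33713) (.node .leaf (190201, 0, 16, 25559) .leaf))) (190202, 0, 19, 119700) (.node (.node (.node .leaf (190203, 0, 18, 78834) .leaf) (190208, 0, 17, 94433) (.node .leaf (190209, 0, 17, 92695) .leaf)) (190210, 0, 15, 170131) (.node (.node .leaf (190211, 0, 11, 49597) .leaf) (190220, 0, 16, 235210) (.node .leaf (190221, 0, 15, 113742) .leaf))))))

/-- part of the orbit tree -/
def itp5_412 : Tree := (.node (.node (.node (.node (.node (.node .leaf (190223, 0, 15, 152636) .leaf) (190224, 0, 16, 258596) (.node .leaf (190225, 0, 18, 89913) .leaf)) (190226, 0, 12, 61029) (.node (.node .leaf (190227, 0, 15, 177995) .leaf) (190236, 0, 14, 126623) (.node .leaf (190237, 0, 15, 248504) .leaf))) (190238, 0, 16, 48826) (.node (.node (.node .leaf (190239, 0, 16, 24284) .leaf) (190240, 0, 16, 164228) (.node .leaf (190241, 0, 14, 156130) .leaf)) (190242, 0, 16, 250273) (.node (.node .leaf (190243, 0, 14, 113847) .leaf) (190252, 0, 18, 40255) (.node .leaf (190253, 0, 11, 49476)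 .leaf)))) (190254, 0, 15, 94232) (.node (.node (.node (.node .leaf (190255, 0, 15, 207158) .leaf) (190256, 0, 16, 63953) (.node .leaf (190257, 0, 15, 8755) .leaf)) (190258, 0, 18, 103279) (.node (.node .leaf (190259, 0, 13, 248385) .leaf) (190268, 0, 11, 189802) (.node .leaf (190269, 0, 6, 178098) .leaf))) (190270, 0, 18, 198382) (.node (.node (.node .leaf (190271, 0, 17, 218409) .leaf) (190272, 0, 16, 188663) (.node .leaf (190273, 0, 16, 225605) .leaf)) (190274, 0, 15, 241874) (.node (.node .leaf (190275, 0, 16, 217268) .leaf) (190284, 0, 17, 245226) (.node .leaf (190285, 0, 17, 7210) .leaf))))) (190286, 0, 17, 21912) (.node (.node (.node (.node (.node .leaf (190287, 0, 10, 85007) .leaf) (190288, 0, 13, 220829) (.node .leaf (190289, 0, 16, 30916) .leaf)) (190290, 0, 15, 46831) (.node (.node .leaf (190291, 0, 17, 76001) .leaf) (190300, 0, 15, 117532) (.node .leaf (190301, 0, 14, 234034) .leaf))) (190302, 0, 15, 140142) (.node (.node (.node .leaf (190303, 0, 16, 210010) .leaf) (190304, 0, 16, 21857) (.node .leaf (190305, 0,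 17, 68452) .leaf)) (190306, 0, 15, 245011) (.node (.node .leaf (190307, 0, 13, 23361) .leaf) (190316, 0, 16, 180448) (.node .leaf (190317, 0, 18, 39374) .leaf)))) (190318, 0, 15, 75922) (.node (.node (.node (.node .leaf (190319, 0, 14, 149498) .leaf) (190320, 0, 12, 234327) (.node .leaf (190321, 0, 18, 31417) .leaf)) (190322, 0, 14, 181106) (.node (.node .leaf (190323, 0, 13, 234187) .leaf) (190332, 0, 18, 102380) (.node .leaf (190333, 0, 17, 192312) .leaf))) (190334, 0, 18, 57289) (.node (.node (.node .leaf (190335, 0, 18, 16303) .leaf) (190340, 0, 16, 49045) (.node .leaf (190341, 0, 15, 190139) .leaf)) (190342, 0, 14, 160893) (.node (.node .leaf (190343, 0, 18, 168987) .leaf) (190344, 0, 17, 141844) (.node .leaf (190345, 0, 13, 29498) .leaf))))))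

/-- part of the orbit tree -/
def itp5_413 : Tree := (.node (.node (.node (.node (.node (.node .leaf (190347, 0, 17, 236360) .leaf) (190356, 0, 19, 182627) (.node .leaf (190357, 0, 17, 113771) .leaf)) (190358, 0, 15, 3112) (.node (.node .leaf (190359, 0, 18, 227391) .leaf) (190360, 0, 14, 213174) (.node .leaf (190361, 0, 14, 132556) .leaf))) (190362, 0, 18, 135315) (.node (.node (.node .leaf (190363, 0, 19, 126398) .leaf) (190372, 0, 17, 115359) (.node .leaf (190373, 0, 15, 53195) .leaf)) (190374, 0, 17, 98184) (.node (.node .leaf (190375, 0, 19, 29635) .leaf) (190376, 0, 14, 218910) (.node .leaf (190377, 0, 16, 69168) .leaf)))) (190378, 0, 16, 49004) (.node (.node (.node (.node .leaf (190379, 0, 15, 190018) .leaf) (190388, 0, 18, 153592) (.node .leaf (190389, 0, 15, 178078) .leaf)) (190390, 0, 18, 23579) (.node (.node .leaf (190391, 0, 14, 132405) .leaf) (190392, 0, 18, 74216) (.node .leaf (190393, 0, 18, 43813) .leaf))) (190394, 0, 18, 182682) (.node (.node (.node .leaf (190395, 0, 18, 37044) .leaf) (190404, 0, 17, 20190)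 (.node .leaf (190405, 0, 18, 44728) .leaf)) (190406, 0, 19, 73467) (.node (.node .leaf (190407, 0, 17, 130717) .leaf) (190408, 0, 14, 152165) (.node .leaf (190409, 0, 16, 176643) .leaf))))) (190410, 0, 18, 197184) (.node (.node (.node (.node (.node .leaf (190411, 0, 13, 246722) .leaf) (190420, 0, 17, 145035) (.node .leaf (190421, 0, 16, 186093) .leaf)) (190422, 0, 17, 222894) (.node (.node .leaf (190423, 0, 14, 204981) .leaf) (190424, 0, 18, 1128) (.node .leaf (190425, 0, 14, 51798) .leaf))) (190426, 0, 17, 96789) (.node (.node (.node .leaf (190427, 0, 16, 111924) .leaf) (190436, 0, 13, 104981) (.node .leaf (190437, 0, 13, 238925) .leaf)) (190438, 0, 12, 136462) (.node (.node .leaf (190439, 0, 14, 11081) .leaf) (190440, 0, 16, 200596) (.node .leaf (190441, 0, 18, 87738) .leaf)))) (190442, 0, 13, 59366) (.node (.node (.node (.node .leaf (190443, 0, 13, 59859) .leaf) (190452, 0, 16, 81278) (.node .leaf (190453, 0, 14, 112077) .leaf)) (190454, 0, 15, 1169) (.node (.node .leaf (190455, 0, 15, 155071) .leaf) (190456, 0, 16, 96610)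 (.node .leaf (190457, 0, 17, 246179) .leaf))) (190458, 0, 16, 160224) (.node (.node (.node .leaf (190459, 0, 17, 51262) .leaf) (190465, 0, 11, 33739) (.node .leaf (190466, 0, 14, 12516) .leaf)) (190469, 0, 16, 195798) (.node (.node .leaf (190470, 0, 14, 216458) .leaf) (190472, 0, 17, 143481) (.node .leaf (190475, 0, 13, 193818) .leaf))))))

/-- part of the orbit tree -/
def itp5_414 : Tree := (.node (.node (.node (.node (.node (.node .leaf (190479, 0, 13, 183353) .leaf) (190481, 0, 16, 260338) (.node .leaf (190482, 0, 15, 149681) .leaf)) (190485, 0, 16, 35360) (.node (.node .leaf (190486, 0, 14, 80764) .leaf) (190488, 0, 15, 18063) (.node .leaf (190491, 0, 16, 128979) .leaf))) (190492, 0, 15, 145810) (.node (.node (.node .leaf (190495, 0, 16, 46188) .leaf) (190497, 0, 16, 130753) (.node .leaf (190498, 0, 16, 211729) .leaf)) (190501, 0, 16, 229852) (.node (.node .leaf (190502, 0, 16, 197170) .leaf) (190504, 0, 17, 20140) (.node .leaf (190507, 0, 17, 130799) .leaf)))) (190508, 0, 16, 30607) (.node (.node (.node (.node .leaf (190511,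 0, 15, 33586) .leaf) (190513, 0, 9, 231479) (.node .leaf (190514, 0, 17, 82756) .leaf)) (190517, 0, 15, 51748) (.node (.node .leaf (190518, 0, 17, 96871) .leaf) (190520, 0, 16, 80773) (.node .leaf (190523, 0, 15, 231098) .leaf))) (190524, 0, 17, 135130) (.node (.node (.node .leaf (190527, 0, 16, 245657) .leaf) (190529, 0, 16, 191009) (.node .leaf (190530, 0, 18, 219746) .leaf)) (190533, 0, 16, 173148) (.node (.node .leaf (190534, 0, 14, 201984) .leaf) (190536, 0, 18, 157939) (.node .leaf (190539, 0, 16, 106396) .leaf))))) (190540, 0, 13, 5884) (.node (.node (.node (.node (.node .leaf (190543, 0, 14, 108210) .leaf) (190545, 0, 16, 175543) (.node .leaf (190546, 0, 17, 74295) .leaf)) (190549, 0, 16, 43863) (.node (.node .leaf (190550, 0, 17, 72468) .leaf) (190552, 0, 18, 153482) (.node .leaf (190555, 0, 18, 255945) .leaf))) (190556, 0, 16, 159401) (.node (.node (.node .leaf (190559, 0, 17, 249924) .leaf) (190561, 0, 17, 123348) (.node .leaf (190562, 0, 18, 20887) .leaf)) (190565, 0, 17, 252246) (.node (.node .leaf (190566, 0,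 17, 26804) .leaf) (190568, 0, 16, 202233) (.node .leaf (190571, 0, 16, 169065) .leaf)))) (190572, 0, 18, 204041) (.node (.node (.node (.node .leaf (190575, 0, 13, 56248) .leaf) (190577, 0, 16, 250045) (.node .leaf (190578, 0, 12, 156129) .leaf)) (190581, 0, 18, 237730) (.node (.node .leaf (190582, 0, 16, 135393) .leaf) (190584, 0, 14, 90895) (.node .leaf (190587, 0, 15, 60476) .leaf))) (190588, 0, 15, 91484) (.node (.node (.node .leaf (190591, 0, 13, 175438) .leaf) (190592, 0, 16, 260043) (.node .leaf (190595, 0, 16, 149384) .leaf)) (190596, 0, 11, 249576) (.node (.node .leaf (190599, 0, 16, 163499) .leaf) (190601, 0, 16, 78389) (.node .leaf (190602, 0, 14, 157794) .leaf))))))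

/-- part of the orbit tree -/
def itp5_415 : Tree := (.node itp5_411 (190222, 0, 17, 181999) itp5_412)

/-- part of the orbit tree -/
def itp5_416 : Tree := (.node itp5_413 (190476, 0, 18, 228474) itp5_414)

/-- part of the orbit tree -/
def itp5_417 : Tree := (.node (.node (.node (.node (.node (.node .leaf (190606, 0, 14, 47957) .leaf) (190608, 0, 15, 203898) (.node .leaf (190611, 0, 17, 16349) .leaf)) (190612, 0, 15, 112317) (.node (.node .leaf (190615, 0, 16, 1790) .leaf) (190617, 0, 17, 215648) (.node .leaf (190618, 0, 14, 195107) .leaf))) (190621, 0, 17, 250069) (.node (.node (.node .leaf (190622, 0, 16, 180992) .leaf) (190624, 0, 14, 6022) (.node .leaf (190627, 0, 16, 85117) .leaf)) (190628, 0, 16, 50461) (.node (.node .leaf (190631, 0, 17, 95582) .leaf) (190633, 0, 17, 173108) (.node .leaf (190634, 0, 15, 231811) .leaf)))) (190637, 0, 19, 131299) (.node (.node (.node (.node .leaf (190638, 0, 16, 92789) .leaf) (190640, 0, 17, 164971) (.node .leaf (190643, 0, 16, 249900) .leaf)) (190644, 0, 13, 7789) (.node (.node .leaf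 (190647, 0, 14, 110385) .leaf) (190649, 0, 16, 16789) (.node .leaf (190650, 0, 18, 127446) .leaf))) (190653, 0, 15, 30902) (.node (.node (.node .leaf (190654, 0, 17, 116981) .leaf) (190656, 0, 15, 40269) (.node .leaf (190659, 0, 18, 77070) .leaf)) (190660, 0, 19, 216347) (.node (.node .leaf (190663, 0, 16, 195655) .leaf) (190665, 0, 16, 153779) (.node .leaf (190666, 0, 14, 143592) .leaf))))) (190669, 0, 14, 130729) (.node (.node (.node (.node (.node .leaf (190670, 0, 15, 20469) .leaf) (190672, 0, 15, 189720) (.node .leaf (190675, 0, 16, 218459) .leaf)) (190676, 0, 17, 80877) (.node (.node .leaf (190679, 0, 18, 224376) .leaf) (190681, 0, 17, 8422) (.node .leaf (190682, 0, 16, 17950) .leaf))) (190685, 0, 14, 6597) (.node (.node (.node .leaf (190686, 0, 18, 145667) .leaf) (190688, 0, 18, 20236) (.node .leaf (190691, 0, 15, 130640) .leaf)) (190692, 0, 15, 143377) (.node (.node .leaf (190695, 0, 17, 139224) .leaf) (190697, 0, 17, 86854) (.node .leaf (190698, 0, 16, 58117) .leaf)))) (190701, 0, 17, 33699) (.node (.node (.node (.node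 .leaf (190702, 0, 16, 78591) .leaf) (190704, 0, 15, 126701) (.node .leaf (190707, 0, 12, 231590) .leaf)) (190708, 0, 15, 120782) (.node (.node .leaf (190711, 0, 17, 26509) .leaf) (190713, 0, 16, 35400) (.node .leaf (190714, 0, 14, 80660) .leaf))) (190717, 0, 15, 193877) (.node (.node (.node .leaf (190718, 0, 17, 214025) .leaf) (190721, 0, 18, 25640) (.node .leaf (190722, 0, 17, 234128) .leaf)) (190725, 0, 14, 138037) (.node (.node .leaf (190726, 0, 17, 240563) .leaf) (190728, 0, 10, 59181) (.node .leaf (190731, 0, 16, 87918) .leaf))))))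

/-- part of the orbit tree -/
def itp5_418 : Tree := (.node (.node (.node (.node (.node (.node .leaf (190735, 0, 18, 72155) .leaf) (190737, 0, 16, 135902) (.node .leaf (190738, 0, 15, 125637) .leaf)) (190741, 0, 14, 25509) (.node (.node .leaf (190742, 0, 17, 122015) .leaf) (190744, 0, 17, 41324) (.node .leaf (190747, 0, 17, 69680) .leaf))) (190748, 0, 14, 188017) (.node (.node (.node .leaf (190751, 0, 18, 225069) .leaf) (190753, 0, 16, 76070) (.node .leaf (190754, 0, 13, 43134) .leaf)) (190757, 0, 16, 222783) (.node (.node .leaf (190758, 0, 17, 186211) .leaf) (190760, 0, 16, 257240) (.node .leaf (190763, 0, 16, 138188) .leaf)))) (190764, 0, 13, 120205) (.node (.node (.node (.node .leaf (190767, 0, 19, 157112) .leaf) (190769, 0, 18, 217459) (.node .leaf (190770, 0, 18, 188720) .leaf)) (190773, 0, 14, 223312) (.node (.node .leaf (190774, 0, 17, 41365) .leaf) (190776, 0, 18, 103565) (.node .leaf (190779, 0, 16, 27962) .leaf))) (190780, 0, 15, 238459) (.node (.node (.node .leaf (190783, 0, 16, 135719) .leaf) (190785, 0, 16, 15522)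 (.node .leaf (190786, 0, 17, 63510) .leaf)) (190789, 0, 19, 94582) (.node (.node .leaf (190790, 0, 15, 49461) .leaf) (190792, 0, 18, 167696) (.node .leaf (190795, 0, 16, 146920) .leaf))))) (190796, 0, 18, 242824) (.node (.node (.node (.node (.node .leaf (190799, 0, 16, 82257) .leaf) (190801, 0, 18, 150100) (.node .leaf (190802, 0, 16, 260872) .leaf)) (190805, 0, 16, 13641) (.node (.node .leaf (190806, 0, 17, 99349) .leaf) (190808, 0, 12, 63974) (.node .leaf (190811, 0, 15, 17853) .leaf))) (190812, 0, 18, 117981) (.node (.node (.node .leaf (190815, 0, 16, 31902) .leaf) (190817, 0, 14, 82344) (.node .leaf (190818, 0, 16, 259043) .leaf)) (190821, 0, 17, 162435) (.node (.node .leaf (190822, 0, 16, 248512) .leaf) (190824, 0, 18, 258586) (.node .leaf (190827, 0, 17, 148294) .leaf)))) (190828, 0, 17, 49021) (.node (.node (.node (.node .leaf (190831, 0, 13, 69438) .leaf) (190833, 0, 13, 210782) (.node .leaf (190834, 0, 15, 101302) .leaf)) (190837, 0, 16, 84035) (.node (.node .leaf (190838, 0, 16, 111253) .leaf) (190840, 0, 16, 196107)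 (.node .leaf (190843, 0, 15, 13744) .leaf))) (190844, 0, 16, 261105) (.node (.node (.node .leaf (190847, 0, 18, 227179) .leaf) (190848, 0, 17, 101743) (.node .leaf (190851, 0, 10, 15411) .leaf)) (190852, 0, 18, 258674) (.node (.node .leaf (190855, 0, 17, 148270) .leaf) (190857, 0, 15, 168001) (.node .leaf (190858, 0, 15, 204802) .leaf))))))

/-- part of the orbit tree -/
def itp5_419 : Tree := (.node (.node (.node (.node (.node (.node .leaf (190862, 0, 15, 61596) .leaf) (190864, 0, 16, 261017) (.node .leaf (190867, 0, 15, 236969) .leaf)) (190868, 0, 18, 99460) (.node (.node .leaf (190871, 0, 17, 238730) .leaf) (190873, 0, 17, 59412) (.node .leaf (190874, 0, 14, 88151) .leaf))) (190877, 0, 18, 53559) (.node (.node (.node .leaf (190878, 0, 17, 90484) .leaf) (190880, 0, 16, 61541) (.node .leaf (190883, 0, 13, 192009) .leaf)) (190884, 0, 17, 223081) (.node (.node .leaf (190887, 0, 17, 212516) .leaf) (190889, 0, 17, 148439) (.node .leaf (190890, 0, 11, 258699) .leaf)))) (190893, 0, 15, 107159) (.node (.node (.node (.node .leaf (190894,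 0, 17, 101782) .leaf) (190896, 0, 16, 165523) (.node .leaf (190899, 0, 14, 38492) .leaf)) (190900, 0, 16, 63886) (.node (.node .leaf (190903, 0, 12, 84178) .leaf) (190905, 0, 17, 13601) (.node .leaf (190906, 0, 18, 152482) .leaf))) (190909, 0, 16, 150076) (.node (.node (.node .leaf (190910, 0, 16, 158337) .leaf) (190912, 0, 18, 212793) (.node .leaf (190915, 0, 15, 25785) .leaf)) (190916, 0, 14, 198170) (.node (.node .leaf (190919, 0, 16, 177753) .leaf) (190921, 0, 14, 129735) (.node .leaf (190922, 0, 7, 186123) .leaf))))) (190925, 0, 13, 115684) (.node (.node (.node (.node (.node .leaf (190926, 0, 15, 43030) .leaf) (190928, 0, 14, 83820) (.node .leaf (190931, 0, 18, 135759) .leaf)) (190932, 0, 18, 121870) (.node (.node .leaf (190935, 0, 17, 52748) .leaf) (190937, 0, 17, 69793) (.node .leaf (190938, 0, 15, 41469) .leaf))) (190941, 0, 17, 225212) (.node (.node (.node .leaf (190942, 0, 12, 188128) .leaf) (190944, 0, 14, 13516) (.node .leaf (190947, 0, 17, 72115) .leaf)) (190948, 0, 12, 3567) (.node (.node .leaf (190951, 0, 17,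 222894) .leaf) (190953, 0, 16, 192818) (.node .leaf (190954, 0, 15, 213361) .leaf)))) (190957, 0, 15, 25664) (.node (.node (.node (.node .leaf (190958, 0, 17, 120092) .leaf) (190960, 0, 16, 150681) (.node .leaf (190963, 0, 17, 261338) .leaf)) (190964, 0, 15, 161210) (.node (.node .leaf (190967, 0, 19, 247289) .leaf) (190969, 0, 13, 35175) (.node .leaf (190970, 0, 15, 122103) .leaf))) (190973, 0, 16, 135862) (.node (.node (.node .leaf (190974, 0, 14, 238570) .leaf) (190976, 0, 17, 188361) (.node .leaf (190977, 0, 12, 34535) .leaf)) (190980, 0, 17, 41172) (.node (.node .leaf (190981, 0, 17, 195066) .leaf) (190986, 0, 17, 122151) (.node .leaf (190987, 0, 17, 186730) .leaf))))))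

/-- part of the orbit tree -/
def itp5_420 : Tree := (.node (.node (.node (.node (.node (.node .leaf (190991, 0, 15, 188489) .leaf) (190992, 0, 16, 210148) (.node .leaf (190993, 0, 15, 251010) .leaf)) (190996, 0, 14, 200135) (.node (.node .leaf (190997, 0, 15, 257441) .leaf) (191002, 0, 14, 16729) (.node .leaf (191003, 0, 15, 127743) .leaf))) (191006, 0, 14, 30842) (.node (.node (.node .leaf (191007, 0, 16, 232930) .leaf) (191008, 0, 16, 238275) (.node .leaf (191009, 0, 15, 130029) .leaf)) (191012, 0, 15, 122334) (.node (.node .leaf (191013, 0, 14, 230640) .leaf) (191018, 0, 16, 41005) (.node .leaf (191019, 0, 13, 194819) .leaf)))) (191022, 0, 17, 68570) (.node (.node (.node (.node .leaf (191023, 0, 15, 125884) .leaf) (191024, 0, 16, 16145) (.node .leaf (191025, 0, 17, 232731) .leaf)) (191028, 0, 17, 1586) (.node (.node .leaf (191029, 0, 14, 58964) .leaf) (191034, 0, 18, 186075) (.node .leaf (191035, 0, 15, 240330) .leaf))) (191038, 0, 17, 226191) (.node (.node (.node .leaf (191039, 0, 14, 234473) .leaf) (191040, 0, 18, 165699)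 (.node .leaf (191041, 0, 16, 181841) .leaf)) (191044, 0, 18, 63582) (.node (.node .leaf (191045, 0, 17, 196466) .leaf) (191050, 0, 17, 86922) (.node .leaf (191051, 0, 15, 253059) .leaf))))) (191054, 0, 9, 260784) (.node (.node (.node (.node (.node .leaf (191055, 0, 14, 101071) .leaf) (191056, 0, 15, 24162) (.node .leaf (191057, 0, 17, 174235) .leaf)) (191060, 0, 15, 26433) (.node (.node .leaf (191061, 0, 18, 34599) .leaf) (191066, 0, 14, 207839) (.node .leaf (191067, 0, 17, 109173) .leaf))) (191070, 0, 16, 101446) (.node (.node (.node .leaf (191071, 0, 16, 258714) .leaf) (191072, 0, 18, 77250) (.node .leaf (191073, 0, 14, 118180) .leaf)) (191076, 0, 14, 70881) (.node (.node .leaf (191077, 0, 16, 253050) .leaf) (191082, 0, 17, 63655) (.node .leaf (191083, 0, 18, 172425) .leaf)))) (191086, 0, 15, 165818) (.node (.node (.node (.node .leaf (191087, 0, 18, 56980) .leaf) (191088, 0, 15, 218519) (.node .leaf (191089, 0, 16, 251281) .leaf)) (191092, 0, 18, 224436) (.node (.node .leaf (191093, 0, 13, 109196) .leaf) (191098, 0, 18, 167505)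 (.node .leaf (191099, 0, 12, 49228) .leaf))) (191102, 0, 18, 61772) (.node (.node (.node .leaf (191103, 0, 16, 174178) .leaf) (191106, 0, 16, 165842) (.node .leaf (191107, 0, 16, 57084) .leaf)) (191110, 0, 13, 63695) (.node (.node .leaf (191111, 0, 14, 172513) .leaf) (191112, 0, 17, 99644) .leaf)))))

/-- part of the orbit tree -/
def itp5_421 : Tree := (.node itp5_417 (190732, 0, 11, 43143) itp5_418)

/-- part of the orbit tree -/
def itp5_422 : Tree := (.node itp5_419 (190990, 0, 16, 238138) itp5_420)

/-- part of the orbit tree -/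
def itp5_423 : Tree := (.node itp5_415 (190346, 0, 14, 26822) itp5_416)

/-- part of the orbit tree -/
def itp5_424 : Tree := (.node itp5_421 (190861, 0, 13, 174434) itp5_422)

/-- part of the orbit tree -/
def itp5_425 : Tree := (.node (.node (.node (.node (.node (.node .leaf (191116, 0, 16, 116480) .leaf) (191117, 0, 18, 107279) (.node .leaf (191122, 0, 17, 61732) .leaf)) (191123, 0, 17, 174090) (.node (.node .leaf (191126, 0, 16, 167481) .leaf) (191127, 0, 18, 55063) (.node .leaf (191128, 0, 16, 231030) .leaf))) (191129, 0, 16, 109284) (.node (.node (.node .leaf (191132, 0, 14, 245589) .leaf) (191133, 0, 16, 251385) (.node .leaf (191138, 0, 18, 260824) .leaf)) (191139, 0, 16, 107510) (.node (.node .leaf (191142, 0, 14, 99781) .leaf) (191143, 0, 16, 253163) (.node .leaf (191144, 0, 16, 194006) .leaf)))) (191145, 0, 12, 136624) (.node (.node (.node (.node .leaf (191148, 0, 17, 165675) .leaf) (191149, 0, 16, 56837) (.node .leaf (191154, 0, 16, 101422) .leaf)) (191155, 0, 17, 202840) (.node (.node .leaf (191158, 0, 16, 246045)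 .leaf) (191159, 0, 17, 109085) (.node .leaf (191160, 0, 11, 36227) .leaf))) (191161, 0, 15, 55278) (.node (.node (.node .leaf (191164, 0, 18, 46240) .leaf) (191165, 0, 16, 174323) (.node .leaf (191170, 0, 15, 188248) .leaf)) (191171, 0, 18, 34422) (.node (.node .leaf (191174, 0, 16, 41029) .leaf) (191175, 0, 16, 194923) (.node .leaf (191176, 0, 16, 169125) .leaf))))) (191177, 0, 15, 160963) (.node (.node (.node (.node (.node .leaf (191180, 0, 18, 175494) .leaf) (191181, 0, 14, 151008) (.node .leaf (191186, 0, 16, 235853) .leaf)) (191187, 0, 18, 227627) (.node (.node .leaf (191190, 0, 15, 237678) .leaf) (191191, 0, 15, 213000) (.node .leaf (191192, 0, 14, 60656) .leaf))) (191193, 0, 15, 3222) (.node (.node (.node .leaf (191196, 0, 17, 54739) .leaf) (191197, 0, 14, 13749) (.node .leaf (191202, 0, 18, 238162) .leaf)) (191203, 0, 14, 129916) (.node (.node .leaf (191206, 0, 17, 185294) .leaf) (191207, 0, 15, 144296) (.node .leaf (191208, 0, 17, 106320) .leaf)))) (191209, 0, 18, 98102) (.node (.node (.node (.node .leaf (191212, 0,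 12, 188321) .leaf) (191213, 0, 17, 83477) (.node .leaf (191218, 0, 16, 119972) .leaf)) (191219, 0, 15, 29406) (.node (.node .leaf (191222, 0, 18, 43931) .leaf) (191223, 0, 16, 127639) (.node .leaf (191224, 0, 16, 185930) .leaf))) (191225, 0, 18, 198499) (.node (.node (.node .leaf (191228, 0, 14, 253478) .leaf) (191229, 0, 18, 212544) (.node .leaf (191232, 0, 14, 145450) .leaf)) (191233, 0, 17, 134819) (.node (.node .leaf (191236, 0, 20, 186342) .leaf) (191237, 0, 15, 138777) (.node .leaf (191242, 0, 18, 80580) .leaf))))))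

/-- part of the orbit tree -/
def itp5_426 : Tree := (.node (.node (.node (.node (.node (.node .leaf (191246, 0, 18, 107099) .leaf) (191247, 0, 16, 72951) (.node .leaf (191248, 0, 16, 38544) .leaf)) (191249, 0, 17, 137202) (.node (.node .leaf (191252, 0, 15, 44979) .leaf) (191253, 0, 16, 20437) (.node .leaf (191258, 0, 17, 254765) .leaf))) (191259, 0, 17, 70940) (.node (.node (.node .leaf (191262, 0, 16, 252430) .leaf) (191263, 0, 16, 211560) (.node .leaf (191264, 0, 12, 124208) .leaf)) (191265, 0, 17, 66902) (.node (.node .leaf (191268, 0, 15, 80445) .leaf) (191269, 0, 14, 221971) (.node .leaf (191274, 0, 15, 168077) .leaf)))) (191275, 0, 10, 159979) (.node (.node (.node (.node .leaf (191278, 0, 13, 145619) .leaf) (191279, 0, 15, 25085) (.node .leaf (191280, 0, 17, 78806) .leaf)) (191281, 0, 16, 228611) (.node (.node .leaf (191284, 0, 17, 238662) .leaf) (191285, 0, 17, 214048) (.node .leaf (191290, 0, 14, 59608) .leaf))) (191291, 0, 15, 2238) (.node (.node (.node .leaf (191294, 0, 18, 53755) .leaf) (191295, 0, 13, 136971)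 (.node .leaf (191296, 0, 16, 155808) .leaf)) (191297, 0, 17, 91173) (.node (.node .leaf (191300, 0, 17, 114016) .leaf) (191301, 0, 17, 149139) (.node .leaf (191306, 0, 15, 193022) .leaf))))) (191307, 0, 15, 135576) (.node (.node (.node (.node (.node .leaf (191310, 0, 15, 182493) .leaf) (191311, 0, 16, 141499) (.node .leaf (191312, 0, 13, 261142) .leaf)) (191313, 0, 18, 151416) (.node (.node .leaf (191316, 0, 17, 158027) .leaf) (191317, 0, 15, 206163) (.node .leaf (191322, 0, 16, 201912) .leaf))) (191323, 0, 18, 85398) (.node (.node (.node .leaf (191326, 0, 13, 45192) .leaf) (191327, 0, 17, 209547) (.node .leaf (191328, 0, 16, 167862) .leaf)) (191329, 0, 17, 159696) (.node (.node .leaf (191332, 0, 16, 177813) .leaf) (191333, 0, 15, 211865) (.node .leaf (191338, 0, 17, 129547) .leaf)))) (191339, 0, 16, 72301) (.node (.node (.node (.node .leaf (191342, 0, 19, 155737) .leaf) (191343, 0, 16, 14711) (.node .leaf (191344, 0, 17, 63459) .leaf)) (191345, 0, 16, 6021) (.node (.node .leaf (191348, 0, 14, 201793) .leaf) (191349, 0, 16,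 85359) (.node .leaf (191354, 0, 15, 158130) .leaf))) (191355, 0, 15, 12444) (.node (.node (.node .leaf (191358, 0, 17, 5807) .leaf) (191359, 0, 16, 151425) (.node .leaf (191362, 0, 17, 76266) .leaf)) (191363, 0, 16, 117132) (.node (.node .leaf (191366, 0, 15, 69833) .leaf) (191367, 0, 14, 148994) (.node .leaf (191368, 0, 16, 154711) .leaf))))))

/-- part of the orbit tree -/
def itp5_427 : Tree := (.node (.node (.node (.node (.node (.node .leaf (191372, 0, 16, 204226) .leaf) (191373, 0, 11, 83180) (.node .leaf (191378, 0, 16, 5831) .leaf)) (191379, 0, 15, 242137) (.node (.node .leaf (191382, 0, 13, 223388) .leaf) (191383, 0, 13, 12532) (.node .leaf (191384, 0, 18, 201769) .leaf))) (191385, 0, 16, 50276) (.node (.node (.node .leaf (191388, 0, 15, 7457) .leaf) (191389, 0, 12, 209434) (.node .leaf (191394, 0, 18, 204091) .leaf)) (191395, 0, 17, 82965) (.node (.node .leaf (191398, 0, 17, 138044) .leaf) (191399, 0, 13, 195418) (.node .leaf (191400, 0, 17, 87970) .leaf)))) (191401, 0, 12, 112580) (.node (.node (.node (.node .leaf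 (191404, 0, 16, 93825) .leaf) (191405, 0, 16, 14822) (.node .leaf (191410, 0, 18, 93133) .leaf)) (191411, 0, 12, 47660) (.node (.node .leaf (191414, 0, 11, 25449) .leaf) (191415, 0, 14, 33551) (.node .leaf (191416, 0, 15, 208887) .leaf))) (191417, 0, 16, 249745) (.node (.node (.node .leaf (191420, 0, 13, 202452) .leaf) (191421, 0, 16, 259762) (.node .leaf (191426, 0, 12, 148332) .leaf)) (191427, 0, 18, 172810) (.node (.node .leaf (191430, 0, 17, 162383) .leaf) (191431, 0, 17, 138888) (.node .leaf (191432, 0, 17, 79569) .leaf))))) (191433, 0, 15, 120503) (.node (.node (.node (.node (.node .leaf (191436, 0, 16, 69618) .leaf) (191437, 0, 14, 72806) (.node .leaf (191442, 0, 16, 15161) .leaf)) (191443, 0, 14, 56159) (.node (.node .leaf (191446, 0, 15, 143696) .leaf) (191447, 0, 16, 26750) (.node .leaf (191448, 0, 18, 216227) .leaf))) (191449, 0, 16, 241378) (.node (.node (.node .leaf (191452, 0, 15, 78782) .leaf) (191453, 0, 15, 223888) (.node .leaf (191458, 0, 18, 214449) .leaf)) (191459, 0, 18, 108799) (.node (.node .leaf (191462,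 0, 18, 80556) .leaf) (191463, 0, 17, 222082) (.node .leaf (191464, 0, 13, 146724) .leaf)))) (191465, 0, 17, 187714) (.node (.node (.node (.node .leaf (191468, 0, 16, 145474) .leaf) (191469, 0, 12, 189537) (.node .leaf (191474, 0, 16, 78663) .leaf)) (191475, 0, 13, 223849) (.node (.node .leaf (191478, 0, 16, 216154) .leaf) (191479, 0, 18, 71028) (.node .leaf (191480, 0, 19, 143785) .leaf))) (191481, 0, 16, 42263) (.node (.node (.node .leaf (191484, 0, 17, 20148) .leaf) (191485, 0, 12, 39988) (.node .leaf (191488, 0, 9, 31337) .leaf)) (191490, 0, 15, 76364) (.node (.node .leaf (191492, 0, 18, 239628) .leaf) (191494, 0, 15, 16510) (.node .leaf (191497, 0, 14, 180119) .leaf))))))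

/-- part of the orbit tree -/
def itp5_428 : Tree := (.node (.node (.node (.node (.node (.node .leaf (191501, 0, 15, 72638) .leaf) (191503, 0, 16, 193484) (.node .leaf (191504, 0, 14, 238055) .leaf)) (191506, 0, 15, 18837) (.node (.node .leaf (191508, 0, 14, 122618) .leaf) (191510, 0, 17, 224058) (.node .leaf (191513, 0, 18, 70229) .leaf))) (191515, 0, 15, 104423) (.node (.node (.node .leaf (191517, 0, 17, 65249) .leaf) (191519, 0, 17, 110276) (.node .leaf (191520, 0, 15, 225692) .leaf)) (191522, 0, 15, 213609) (.node (.node .leaf (191524, 0, 13, 185606) .leaf) (191526, 0, 17, 137370) (.node .leaf (191529, 0, 15, 137641) .leaf)))) (191531, 0, 15, 127451) (.node (.node (.node (.node .leaf (191533, 0, 13, 101697) .leaf) (191535, 0, 15, 56676) (.node .leaf (191536, 0, 13, 68041) .leaf)) (191538, 0, 17, 23020) (.node (.node .leaf (191540, 0, 11, 41968) .leaf) (191542, 0, 13, 24783) (.node .leaf (191545, 0, 14, 248887) .leaf))) (191547, 0, 19, 171026) (.node (.node (.node .leaf (191549, 0, 16, 259348) .leaf) (191551, 0, 16, 129072)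 (.node .leaf (191552, 0, 11, 102299) .leaf)) (191554, 0, 17, 147658) (.node (.node .leaf (191556, 0, 17, 207308) .leaf) (191558, 0, 13, 162281) (.node .leaf (191561, 0, 16, 212009) .leaf))))) (191563, 0, 16, 34100) (.node (.node (.node (.node (.node .leaf (191565, 0, 16, 126002) .leaf) (191567, 0, 16, 174918) (.node .leaf (191568, 0, 10, 92346) .leaf)) (191570, 0, 16, 4383) (.node (.node .leaf (191572, 0, 14, 86425) .leaf) (191574, 0, 17, 159234) (.node .leaf (191577, 0, 14, 240964) .leaf))) (191579, 0, 17, 172717) (.node (.node (.node .leaf (191581, 0, 16, 210370) .leaf) (191583, 0, 17, 56752) (.node .leaf (191584, 0, 16, 6938) .leaf)) (191586, 0, 13, 203491) (.node (.node .leaf (191588, 0, 17, 167308) .leaf) (191590, 0, 16, 94748) (.node .leaf (191593, 0, 15, 147747) .leaf)))) (191595, 0, 18, 233153) (.node (.node (.node (.node .leaf (191597, 0, 17, 15934) .leaf) (191599, 0, 15, 243682) (.node .leaf (191600, 0, 13, 164967) .leaf)) (191602, 0, 15, 209770) (.node (.node .leaf (191604, 0, 14, 154220) .leaf) (191606, 0, 18, 199241)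 (.node .leaf (191609, 0, 12, 14293) .leaf))) (191611, 0, 15, 253863) (.node (.node (.node .leaf (191613, 0, 14, 40850) .leaf) (191615, 0, 13, 106682) (.node .leaf (191617, 0, 16, 15958) .leaf)) (191619, 0, 15, 220448) (.node (.node .leaf (191621, 0, 17, 147787) .leaf) (191623, 0, 15, 108857) (.node .leaf (191624, 0, 18, 51451) .leaf))))))

/-- part of the orbit tree -/
def itp5_429 : Tree := (.node itp5_425 (191243, 0, 17, 97054) itp5_426)

/-- part of the orbit tree -/
def itp5_430 : Tree := (.node itp5_427 (191499, 0, 12, 36049) itp5_428)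

/-- part of the orbit tree -/
def itp5_431 : Tree := (.node (.node (.node (.node (.node (.node .leaf (191628, 0, 18, 61912) .leaf) (191630, 0, 17, 203403) (.node .leaf (191633, 0, 15, 30032) .leaf)) (191635, 0, 15, 106706) (.node (.node .leaf (191637, 0, 18, 14269) .leaf) (191639, 0, 16, 72790) (.node .leaf (191640, 0, 17, 176302) .leaf))) (191642, 0, 17, 201568) (.node (.node (.node .leaf (191644, 0, 15, 164879) .leaf) (191646, 0, 17, 93309) (.node .leaf (191649, 0, 15, 67312) .leaf)) (191651, 0, 16, 22229) (.node (.node .leaf (191653, 0, 18, 212033) .leaf) (191655, 0, 17, 28662) (.node .leaf (191656, 0, 15, 258286) .leaf)))) (191658, 0, 17, 6300) (.node (.node (.node (.node .leaf (191660, 0, 15, 260653) .leaf) (191662, 0, 17, 157569) (.node .leaf (191665, 0, 16, 210346) .leaf)) (191667, 0, 17, 56792) (.node (.node .leaf (191669, 0, 18, 84663) .leaf) (191671, 0, 17, 137123) (.node .leaf (191672, 0, 13, 113499) .leaf))) (191674, 0, 14, 159338) (.node (.node (.node .leaf (191676, 0, 17, 98936) .leaf) (191678, 0, 16, 4471) (.node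 .leaf (191681, 0, 16, 92035) .leaf)) (191683, 0, 19, 233134) (.node (.node .leaf (191685, 0, 15, 137665) .leaf) (191687, 0, 15, 127411) (.node .leaf (191688, 0, 15, 238205) .leaf))))) (191690, 0, 15, 81180) (.node (.node (.node (.node (.node .leaf (191692, 0, 16, 236382) .leaf) (191694, 0, 17, 213505) (.node .leaf (191697, 0, 17, 135210) .leaf)) (191699, 0, 15, 129112) (.node (.node .leaf (191701, 0, 16, 206581) .leaf) (191703, 0, 16, 161488) (.node .leaf (191704, 0, 15, 41880) .leaf))) (191706, 0, 17, 216042) (.node (.node (.node .leaf (191708, 0, 16, 187525) .leaf) (191710, 0, 17, 45870) (.node .leaf (191713, 0, 16, 72662) .leaf)) (191715, 0, 14, 212051) (.node (.node .leaf (191717, 0, 17, 152917) .leaf) (191719, 0, 15, 198000) (.node .leaf (191720, 0, 18, 239716) .leaf)))) (191722, 0, 14, 16406) (.node (.node (.node (.node .leaf (191724, 0, 16, 37035) .leaf) (191726, 0, 16, 114830) (.node .leaf (191729, 0, 14, 224544) .leaf)) (191731, 0, 14, 82950) (.node (.node .leaf (191733, 0, 12, 70205) .leaf) (191735, 0, 14, 195151)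 (.node .leaf (191736, 0, 16, 184797) .leaf))) (191738, 0, 16, 229880) (.node (.node (.node .leaf (191740, 0, 15, 237967) .leaf) (191742, 0, 13, 18941) (.node .leaf (191744, 0, 16, 251933) .leaf)) (191746, 0, 17, 186496) (.node (.node .leaf (191748, 0, 17, 254270) .leaf) (191750, 0, 15, 176411) (.node .leaf (191753, 0, 16, 73187) .leaf))))))

/-- part of the orbit tree -/
def itp5_432 : Tree := (.node (.node (.node (.node (.node (.node .leaf (191757, 0, 17, 74944) .leaf) (191759, 0, 11, 136239) (.node .leaf (191760, 0, 15, 106568) .leaf)) (191762, 0, 16, 44662) (.node (.node .leaf (191764, 0, 17, 80153) .leaf) (191766, 0, 18, 184683) (.node .leaf (191769, 0, 15, 222646) .leaf))) (191771, 0, 14, 144787) (.node (.node (.node .leaf (191773, 0, 12, 232107) .leaf) (191775, 0, 16, 25305) (.node .leaf (191776, 0, 18, 19960) .leaf)) (191778, 0, 18, 99277) (.node (.node .leaf (191780, 0, 13, 60107) .leaf) (191782, 0, 16, 121495) (.node .leaf (191785, 0, 16, 136726) .leaf)))) (191787, 0, 15, 71224) (.node (.node (.node (.node .leaf (191789,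 0, 15, 33111) .leaf) (191791, 0, 17, 223525) (.node .leaf (191792, 0, 14, 146190) .leaf)) (191794, 0, 16, 119676) (.node (.node .leaf (191796, 0, 17, 17427) .leaf) (191798, 0, 18, 246459) (.node .leaf (191801, 0, 17, 28227) .leaf))) (191803, 0, 15, 81510) (.node (.node (.node .leaf (191805, 0, 13, 22368) .leaf) (191807, 0, 14, 73683) (.node .leaf (191808, 0, 14, 92280) .leaf)) (191810, 0, 18, 163850) (.node (.node .leaf (191812, 0, 17, 35768) .leaf) (191814, 0, 16, 65303) (.node .leaf (191817, 0, 16, 161637) .leaf))))) (191819, 0, 13, 13240) (.node (.node (.node (.node (.node .leaf (191821, 0, 15, 151110) .leaf) (191823, 0, 18, 204387) (.node .leaf (191824, 0, 18, 182990) .leaf)) (191826, 0, 14, 63228) (.node (.node .leaf (191828, 0, 16, 90515) .leaf) (191830, 0, 17, 166369) (.node .leaf (191833, 0, 16, 3888) .leaf))) (191835, 0, 15, 89877) (.node (.node (.node .leaf (191837, 0, 15, 13843) .leaf) (191839, 0, 18, 14931) (.node .leaf (191840, 0, 17, 5490) .leaf)) (191842, 0, 16, 261376) (.node (.node .leaf (191844, 0, 12, 158319)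 .leaf) (191846, 0, 11, 98845) (.node .leaf (191849, 0, 15, 173760) .leaf)))) (191851, 0, 14, 11445) (.node (.node (.node (.node .leaf (191853, 0, 15, 55773) .leaf) (191855, 0, 17, 5526) (.node .leaf (191856, 0, 14, 115003) .leaf)) (191858, 0, 17, 101366) (.node (.node .leaf (191860, 0, 17, 7321) .leaf) (191862, 0, 15, 259307) (.node .leaf (191865, 0, 16, 53302) .leaf))) (191867, 0, 16, 152800) (.node (.node (.node .leaf (191869, 0, 17, 175915) .leaf) (191871, 0, 9, 83801) (.node .leaf (191873, 0, 16, 110449) .leaf)) (191875, 0, 16, 65364) (.node (.node .leaf (191877, 0, 14, 104018) .leaf) (191879, 0, 16, 50807) (.node .leaf (191880, 0, 16, 223887) .leaf))))))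

/-- part of the orbit tree -/
def itp5_433 : Tree := (.node (.node (.node (.node (.node (.node .leaf (191884, 0, 13, 218028) .leaf) (191886, 0, 18, 131977) (.node .leaf (191889, 0, 16, 175939) .leaf)) (191891, 0, 13, 165633) (.node (.node .leaf (191893, 0, 17, 257543) .leaf) (191895, 0, 11, 210988) (.node .leaf (191896, 0, 13, 70362) .leaf))) (191898, 0, 15, 17151) (.node (.node (.node .leaf (191900, 0, 16, 76793) .leaf) (191902, 0, 15, 101278) (.node .leaf (191905, 0, 18, 107711) .leaf)) (191907, 0, 18, 259233) (.node (.node .leaf (191909, 0, 15, 252834) .leaf) (191911, 0, 15, 13264) (.node .leaf (191912, 0, 17, 202509) .leaf)))) (191914, 0, 15, 65407) (.node (.node (.node (.node .leaf (191916, 0, 14, 22617) .leaf) (191918, 0, 15, 67708) (.node .leaf (191921, 0, 15, 250441) .leaf)) (191923, 0, 16, 101620) (.node (.node .leaf (191925, 0, 16, 109908) .leaf) (191927, 0, 15, 148774) (.node .leaf (191928, 0, 16, 137519) .leaf))) (191930, 0, 17, 166281) (.node (.node (.node .leaf (191932, 0, 15, 204518) .leaf) (191934, 0, 16, 63124)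 (.node .leaf (191937, 0, 17, 181751) .leaf)) (191939, 0, 17, 223565) (.node (.node .leaf (191941, 0, 17, 196130) .leaf) (191943, 0, 12, 71248) (.node .leaf (191944, 0, 15, 144013) .leaf))))) (191946, 0, 16, 121599) (.node (.node (.node (.node (.node .leaf (191948, 0, 14, 14634) .leaf) (191950, 0, 17, 239074) (.node .leaf (191953, 0, 15, 194505) .leaf)) (191955, 0, 14, 73659) (.node (.node .leaf (191957, 0, 17, 33921) .leaf) (191959, 0, 16, 119972) (.node .leaf (191960, 0, 12, 161884) .leaf))) (191962, 0, 15, 206969) (.node (.node (.node .leaf (191964, 0, 11, 146278) .leaf) (191966, 0, 16, 119572) (.node .leaf (191969, 0, 15, 130101) .leaf)) (191971, 0, 16, 136263) (.node (.node .leaf (191973, 0, 16, 230184) .leaf) (191975, 0, 18, 27482) (.node .leaf (191976, 0, 17, 199676) .leaf)))) (191978, 0, 16, 42997) (.node (.node (.node (.node .leaf (191980, 0, 18, 77978) .leaf) (191982, 0, 19, 186600) (.node .leaf (191985, 0, 16, 243287) .leaf)) (191987, 0, 15, 190066) (.node (.node .leaf (191989, 0, 16, 233332) .leaf) (191991, 0, 16,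 188241) (.node .leaf (191992, 0, 14, 80241) .leaf))) (191994, 0, 14, 184579) (.node (.node (.node .leaf (191996, 0, 12, 84618) .leaf) (191998, 0, 16, 6831) (.node .leaf (192008, 0, 16, 160641) .leaf)) (192009, 0, 12, 221583) (.node (.node .leaf (192010, 0, 15, 205732) .leaf) (192011, 0, 13, 246722) (.node .leaf (192012, 0, 18, 150178) .leaf))))))

/-- part of the orbit tree -/
def itp5_434 : Tree := (.node (.node (.node (.node (.node (.node .leaf (192014, 0, 16, 45006) .leaf) (192015, 0, 16, 194272) (.node .leaf (192024, 0, 17, 216663) .leaf)) (192025, 0, 15, 71545) (.node (.node .leaf (192026, 0, 17, 42533) .leaf) (192027, 0, 18, 196363) (.node .leaf (192028, 0, 16, 13047) .leaf))) (192029, 0, 17, 223332) (.node (.node (.node .leaf (192030, 0, 16, 90834) .leaf) (192031, 0, 11, 32790) (.node .leaf (192040, 0, 11, 17835) .leaf)) (192041, 0, 13, 104466) (.node (.node .leaf (192042, 0, 14, 241113) .leaf) (192043, 0, 15, 51255) (.node .leaf (192044, 0, 18, 146102) .leaf)))) (192045, 0, 17, 25496) (.node (.node (.node (.node .leaf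 (192046, 0, 18, 119492) .leaf) (192047, 0, 16, 61716) (.node .leaf (192056, 0, 15, 196641) .leaf)) (192057, 0, 17, 254023) (.node (.node .leaf (192058, 0, 14, 151556) .leaf) (192059, 0, 16, 229889) (.node .leaf (192060, 0, 18, 19520) .leaf))) (192061, 0, 18, 136558) (.node (.node (.node .leaf (192062, 0, 17, 157991) .leaf) (192063, 0, 17, 166209) (.node .leaf (192072, 0, 15, 71943) .leaf)) (192073, 0, 17, 211205) (.node (.node .leaf (192074, 0, 15, 18722) .leaf) (192075, 0, 17, 53623) (.node .leaf (192076, 0, 11, 73764) .leaf))))) (192077, 0, 17, 114754) (.node (.node (.node (.node (.node .leaf (192078, 0, 15, 28673) .leaf) (192079, 0, 15, 36967) (.node .leaf (192088, 0, 13, 202461) .leaf)) (192089, 0, 18, 229684) (.node (.node .leaf (192090, 0, 15, 65199) .leaf) (192091, 0, 12, 173953) (.node .leaf (192092, 0, 18, 219249) .leaf))) (192093, 0, 16, 209134) (.node (.node (.node .leaf (192094, 0, 16, 164274) .leaf) (192095, 0, 9, 55452) (.node .leaf (192104, 0, 15, 7457) .leaf)) (192105, 0, 17, 148495) (.node (.node .leaf (192106,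 0, 16, 259411) .leaf) (192107, 0, 16, 238257) (.node .leaf (192108, 0, 15, 142289) .leaf)))) (192109, 0, 16, 15122) (.node (.node (.node (.node .leaf (192110, 0, 14, 100942) .leaf) (192111, 0, 18, 250720) (.node .leaf (192120, 0, 16, 158679) .leaf)) (192121, 0, 18, 13049) (.node (.node .leaf (192122, 0, 17, 80514) .leaf) (192123, 0, 15, 121572) (.node .leaf (192124, 0, 18, 21380) .leaf))) (192125, 0, 17, 46050) (.node (.node (.node .leaf (192126, 0, 14, 66465) .leaf) (192127, 0, 18, 107926) (.node .leaf (192128, 0, 10, 156244) .leaf)) (192129, 0, 18, 139637) (.node (.node .leaf (192130, 0, 16, 100902) .leaf) (192131, 0, 16, 225616) .leaf)))))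

/-- part of the orbit tree -/
def itp5_435 : Tree := (.node itp5_431 (191755, 0, 17, 27442) itp5_432)

/-- part of the orbit tree -/
def itp5_436 : Tree := (.node itp5_433 (192013, 0, 17, 73362) itp5_434)

/-- part of the orbit tree -/
def itp5_437 : Tree := (.node itp5_429 (191369, 0, 19, 179249) itp5_430)

/-- part of the orbit tree -/
def itp5_438 : Tree := (.node itp5_435 (191882, 0, 17, 98933) itp5_436)

/-- part of the orbit tree -/
def itp5_439 : Tree := (.node itp5_423 (190605, 0, 12, 68374) itp5_424)

/-- part of the orbit tree -/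
def itp5_440 : Tree := (.node itp5_437 (191626, 0, 16, 104670) itp5_438)

/-- part of the orbit tree -/
def itp5_441 : Tree := (.node itp5_409 (189069, 0, 15, 124464) itp5_410)

/-- part of the orbit tree -/
def itp5_442 : Tree := (.node itp5_439 (191113, 0, 16, 73285) itp5_440)

/-- part of the orbit tree -/
def itp5_443 : Tree := (.node (.node (.node (.node (.node (.node .leaf (192133, 0, 15, 148583) .leaf) (192134, 0, 17, 239637) (.node .leaf (192135, 0, 15, 215155) .leaf)) (192144, 0, 17, 47430) (.node (.node .leaf (192145, 0, 16, 22816) .leaf) (192146, 0, 18, 125283) (.node .leaf (192147, 0, 17, 67845) .leaf))) (192148, 0, 14, 158655) (.node (.node (.node .leaf (192149, 0, 15, 12945) .leaf) (192150, 0, 18, 99277) (.node .leaf (192151, 0, 15, 252643) .leaf)) (192160, 0, 18, 204638) (.node (.node .leaf (192161, 0, 16, 83568) .leaf) (192162, 0, 17, 39619) (.node .leaf (192163, 0, 17, 31397) .leaf)))) (192164, 0, 13, 127941) (.node (.node (.node (.node .leaf (192165, 0, 19, 211309) .leaf) (192166, 0, 11, 165937) (.node .leaf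 (192167, 0, 17, 53535) .leaf)) (192176, 0, 14, 242355) (.node (.node .leaf (192177, 0, 19, 217813) .leaf) (192178, 0, 9, 189078) (.node .leaf (192179, 0, 17, 131824) .leaf))) (192180, 0, 9, 232336) (.node (.node (.node .leaf (192181, 0, 17, 85915) .leaf) (192182, 0, 13, 65223) (.node .leaf (192183, 0, 17, 174057) .leaf)) (192192, 0, 12, 109461) (.node (.node .leaf (192193, 0, 13, 25584) .leaf) (192194, 0, 16, 64432) (.node .leaf (192195, 0, 15, 7126) .leaf))))) (192196, 0, 18, 17859) (.node (.node (.node (.node (.node .leaf (192197, 0, 16, 138477) .leaf) (192198, 0, 16, 49811) (.node .leaf (192199, 0, 18, 128159) .leaf)) (192208, 0, 16, 250816) (.node (.node .leaf (192209, 0, 15, 136454) .leaf) (192210, 0, 18, 238682) (.node .leaf (192211, 0, 16, 156547) .leaf))) (192212, 0, 17, 256739) (.node (.node (.node .leaf (192213, 0, 18, 199301) .leaf) (192214, 0, 15, 178886) (.node .leaf (192215, 0, 18, 154272) .leaf)) (192224, 0, 17, 172128) (.node (.node .leaf (192225, 0, 18, 73466) .leaf) (192226, 0, 10, 44966) (.node .leaf (192227,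 0, 18, 200739) .leaf)))) (192228, 0, 15, 170307) (.node (.node (.node (.node .leaf (192229, 0, 17, 162085) .leaf) (192230, 0, 16, 184507) (.node .leaf (192231, 0, 15, 207104) .leaf)) (192240, 0, 17, 78114) (.node (.node .leaf (192241, 0, 17, 223244) .leaf) (192242, 0, 16, 100368) (.node .leaf (192243, 0, 17, 32894) .leaf))) (192244, 0, 15, 216639) (.node (.node (.node .leaf (192245, 0, 12, 368) .leaf) (192246, 0, 13, 110899) (.node .leaf (192247, 0, 15, 86357) .leaf)) (192264, 0, 17, 119285) (.node (.node .leaf (192265, 0, 15, 231020) .leaf) (192266, 0, 16, 145200) (.node .leaf (192267, 0, 18, 25014) .leaf))))))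

/-- part of the orbit tree -/
def itp5_444 : Tree := (.node (.node (.node (.node (.node (.node .leaf (192269, 0, 13, 129393) .leaf) (192270, 0, 16, 18477) (.node .leaf (192271, 0, 17, 22677) .leaf)) (192280, 0, 17, 240052) (.node (.node .leaf (192281, 0, 16, 127130) .leaf) (192282, 0, 11, 16838) (.node .leaf (192283, 0, 16, 137448) .leaf))) (192284, 0, 16, 233603) (.node (.node (.node .leaf (192285, 0, 17, 233351) .leaf) (192286, 0, 13, 147163) (.node .leaf (192287, 0, 18, 26613) .leaf)) (192296, 0, 16, 41544) (.node (.node .leaf (192297, 0, 12, 195430) .leaf) (192298, 0, 14, 215610) (.node .leaf (192299, 0, 14, 70420) .leaf)))) (192300, 0, 15, 187733) (.node (.node (.node (.node .leaf (192301, 0, 18, 33915) .leaf) (192302, 0, 18, 79143) (.node .leaf (192303, 0, 14, 224265) .leaf)) (192312, 0, 16, 185534) (.node (.node .leaf (192313, 0, 16, 16947) .leaf) (192314, 0, 15, 81100) (.node .leaf (192315, 0, 11, 70166) .leaf))) (192316, 0, 18, 39798) (.node (.node (.node .leaf (192317, 0, 16, 193165) .leaf) (192318, 0, 12, 117587)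 (.node .leaf (192319, 0, 15, 76597) .leaf)) (192328, 0, 16, 179059) (.node (.node .leaf (192329, 0, 16, 253670) .leaf) (192330, 0, 16, 159674) (.node .leaf (192331, 0, 18, 13972) .leaf))))) (192332, 0, 15, 164432) (.node (.node (.node (.node (.node .leaf (192333, 0, 18, 107003) .leaf) (192334, 0, 14, 250485) (.node .leaf (192335, 0, 15, 209427) .leaf)) (192344, 0, 18, 49958) (.node (.node .leaf (192345, 0, 18, 9024) .leaf) (192346, 0, 17, 103171) (.node .leaf (192347, 0, 15, 95077) .leaf))) (192348, 0, 17, 64005) (.node (.node (.node .leaf (192349, 0, 16, 251661) .leaf) (192350, 0, 15, 157265) (.node .leaf (192351, 0, 16, 84550) .leaf)) (192360, 0, 10, 64194) (.node (.node .leaf (192361, 0, 14, 173036) .leaf) (192362, 0, 16, 57507) (.node .leaf (192363, 0, 13, 197) .leaf)))) (192364, 0, 16, 100773) (.node (.node (.node (.node .leaf (192365, 0, 19, 92611) .leaf) (192366, 0, 12, 55680) (.node .leaf (192367, 0, 15, 210051) .leaf)) (192376, 0, 16, 166964) (.node (.node .leaf (192377, 0, 9, 207029) .leaf) (192378, 0, 15, 170230)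 (.node .leaf (192379, 0, 11, 161936) .leaf))) (192380, 0, 17, 62249) (.node (.node (.node .leaf (192381, 0, 16, 174599) .leaf) (192382, 0, 17, 203611) (.node .leaf (192383, 0, 17, 147891) .leaf)) (192384, 0, 17, 165303) (.node (.node .leaf (192385, 0, 16, 99073) .leaf) (192386, 0, 17, 13122) (.node .leaf (192387, 0, 16, 210155) .leaf))))))

/-- part of the orbit tree -/
def itp5_445 : Tree := (.node (.node (.node (.node (.node (.node .leaf (192389, 0, 17, 172932) .leaf) (192390, 0, 17, 2657) (.node .leaf (192391, 0, 16, 59911) .leaf)) (192400, 0, 17, 62273) (.node (.node .leaf (192401, 0, 15, 174703) .leaf) (192402, 0, 18, 150295) (.node .leaf (192403, 0, 15, 174961) .leaf))) (192404, 0, 13, 167004) (.node (.node (.node .leaf (192405, 0, 17, 54642) .leaf) (192406, 0, 16, 160308) (.node .leaf (192407, 0, 14, 168530) .leaf)) (192416, 0, 17, 260285) (.node (.node .leaf (192417, 0, 15, 166132) .leaf) (192418, 0, 15, 4303) (.node .leaf (192419, 0, 16, 252113) .leaf)))) (192420, 0, 15, 100256) (.node (.node (.node (.node .leaf (192421,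 0, 16, 253582) .leaf) (192422, 0, 16, 197012) (.node .leaf (192423, 0, 16, 254450) .leaf)) (192432, 0, 17, 101963) (.node (.node .leaf (192433, 0, 17, 251749) .leaf) (192434, 0, 15, 157241) (.node .leaf (192435, 0, 18, 16151) .leaf))) (192436, 0, 15, 10724) (.node (.node (.node .leaf (192437, 0, 18, 108664) .leaf) (192438, 0, 16, 96705) (.node .leaf (192439, 0, 16, 104871) .leaf)) (192448, 0, 17, 187709) (.node (.node .leaf (192449, 0, 17, 33811) .leaf) (192450, 0, 16, 219588) (.node .leaf (192451, 0, 16, 224353) .leaf))))) (192452, 0, 17, 143554) (.node (.node (.node (.node (.node .leaf (192453, 0, 15, 195342) .leaf) (192454, 0, 17, 215634) (.node .leaf (192455, 0, 17, 229505) .leaf)) (192464, 0, 15, 43979) (.node (.node .leaf (192465, 0, 13, 37330) .leaf) (192466, 0, 14, 213945) (.node .leaf (192467, 0, 16, 115191) .leaf))) (192468, 0, 16, 185558) (.node (.node (.node .leaf (192469, 0, 16, 36344) .leaf) (192470, 0, 16, 81060) (.node .leaf (192471, 0, 12, 129236) .leaf)) (192480, 0, 15, 66068) (.node (.node .leaf (192481,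 0, 15, 129305) .leaf) (192482, 0, 14, 21041) (.node .leaf (192483, 0, 17, 45655) .leaf)))) (192484, 0, 16, 122666) (.node (.node (.node (.node .leaf (192485, 0, 18, 230916) .leaf) (192486, 0, 12, 145240) (.node .leaf (192487, 0, 17, 28278) .leaf)) (192496, 0, 15, 227905) (.node (.node .leaf (192497, 0, 17, 233455) .leaf) (192498, 0, 16, 147123) (.node .leaf (192499, 0, 17, 182786) .leaf))) (192500, 0, 16, 240092) (.node (.node (.node .leaf (192501, 0, 17, 127218) .leaf) (192502, 0, 12, 16814) (.node .leaf (192503, 0, 13, 137344) .leaf)) (192513, 0, 13, 191401) (.node (.node .leaf (192514, 0, 17, 220138) .leaf) (192516, 0, 17, 144108) (.node .leaf (192519, 0, 18, 230063) .leaf))))))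

/-- part of the orbit tree -/
def itp5_446 : Tree := (.node (.node (.node (.node (.node (.node .leaf (192522, 0, 13, 20289) .leaf) (192524, 0, 16, 120878) (.node .leaf (192527, 0, 15, 26994) .leaf)) (192529, 0, 16, 37884) (.node (.node .leaf (192530, 0, 15, 185131) .leaf) (192532, 0, 17, 214084) (.node .leaf (192535, 0, 18, 193816) .leaf))) (192537, 0, 14, 231659) (.node (.node (.node .leaf (192538, 0, 18, 145847) .leaf) (192540, 0, 17, 241368) (.node .leaf (192543, 0, 13, 139140) .leaf)) (192545, 0, 11, 27019) (.node (.node .leaf (192546, 0, 13, 20511) .leaf) (192548, 0, 14, 20408) (.node .leaf (192551, 0, 17, 130788) .leaf)))) (192553, 0, 13, 247236) (.node (.node (.node (.node .leaf (192554, 0, 16, 78411) .leaf) (192556, 0, 16, 42276) (.node .leaf (192559, 0, 13, 175298) .leaf)) (192561, 0, 17, 235529) (.node (.node .leaf (192562, 0, 16, 141386) .leaf) (192564, 0, 17, 145742) (.node .leaf (192567, 0, 15, 192783) .leaf))) (192569, 0, 18, 194017) (.node (.node (.node .leaf (192570, 0, 16, 3538) .leaf) (192572, 0, 14, 91348)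 (.node .leaf (192575, 0, 15, 54423) .leaf)) (192577, 0, 16, 98607) (.node (.node .leaf (192578, 0, 16, 64855) .leaf) (192580, 0, 15, 88170) (.node .leaf (192583, 0, 13, 59433) .leaf))))) (192585, 0, 15, 238775) (.node (.node (.node (.node (.node .leaf (192586, 0, 15, 6091) .leaf) (192588, 0, 16, 98468) (.node .leaf (192591, 0, 16, 12792) .leaf)) (192593, 0, 15, 260474) (.node (.node .leaf (192594, 0, 18, 149817) .leaf) (192596, 0, 16, 203982) (.node .leaf (192599, 0, 17, 168060) .leaf))) (192601, 0, 17, 249953) (.node (.node (.node .leaf (192602, 0, 13, 27809) .leaf) (192604, 0, 17, 259666) (.node .leaf (192607, 0, 17, 46564) .leaf)) (192609, 0, 17, 12545) (.node (.node .leaf (192610, 0, 15, 211609) .leaf) (192612, 0, 16, 152479) (.node .leaf (192615, 0, 13, 108142) .leaf)))) (192617, 0, 16, 56221) (.node (.node (.node (.node .leaf (192618, 0, 16, 73473) .leaf) (192620, 0, 12, 64942) (.node .leaf (192623, 0, 14, 85234) .leaf)) (192625, 0, 17, 149495) (.node (.node .leaf (192626, 0, 17, 82636) .leaf) (192628, 0, 17, 156100)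 (.node .leaf (192631, 0, 15, 105353) .leaf))) (192633, 0, 17, 186135) (.node (.node (.node .leaf (192634, 0, 16, 203831) .leaf) (192636, 0, 15, 134738) (.node .leaf (192639, 0, 15, 211460) .leaf)) (192640, 0, 18, 40133) (.node (.node .leaf (192643, 0, 15, 76934) .leaf) (192645, 0, 15, 56309) (.node .leaf (192646, 0, 16, 128451) .leaf))))))

/-- part of the orbit tree -/
def itp5_447 : Tree := (.node itp5_443 (192268, 0, 16, 125142) itp5_444)

/-- part of the orbit tree -/
def itp5_448 : Tree := (.node itp5_445 (192521, 0, 13, 130589) itp5_446)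

/-- part of the orbit tree -/
def itp5_449 : Tree := (.node (.node (.node (.node (.node (.node .leaf (192651, 0, 18, 198942) .leaf) (192653, 0, 15, 12649) (.node .leaf (192654, 0, 16, 98357) .leaf)) (192656, 0, 17, 166704) (.node (.node .leaf (192659, 0, 12, 211564) .leaf) (192661, 0, 17, 175363) (.node .leaf (192662, 0, 10, 232854) .leaf))) (192664, 0, 15, 156076) (.node (.node (.node .leaf (192667, 0, 17, 94539) .leaf) (192669, 0, 16, 149407) (.node .leaf (192670, 0, 10, 259779) .leaf)) (192672, 0, 16, 98508) (.node (.node .leaf (192675, 0, 15, 12688) .leaf) (192677, 0, 18, 108287) (.node .leaf (192678, 0, 17, 196150) .leaf)))) (192680, 0, 19, 92752) (.node (.node (.node (.node .leaf (192683, 0, 18, 56076) .leaf) (192685, 0, 14, 85091) (.node .leaf (192686, 0, 14, 56238) .leaf)) (192688, 0, 14, 259642) (.node (.node .leaf (192691, 0, 15, 149350) .leaf) (192693, 0, 16, 79392) (.node .leaf (192694, 0, 15, 155989) .leaf))) (192696, 0, 18, 203942) (.node (.node (.node .leaf (192699, 0, 17, 162494) .leaf) (192701, 0, 17, 211605)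 (.node .leaf (192702, 0, 15, 173051) .leaf)) (192704, 0, 16, 42316) (.node (.node .leaf (192707, 0, 17, 70672) .leaf) (192709, 0, 18, 33663) (.node .leaf (192710, 0, 14, 78371) .leaf))))) (192712, 0, 15, 119771) (.node (.node (.node (.node (.node .leaf (192715, 0, 17, 25496) .leaf) (192717, 0, 18, 27107) (.node .leaf (192718, 0, 12, 121023) .leaf)) (192720, 0, 17, 185274) (.node (.node .leaf (192723, 0, 18, 221926) .leaf) (192725, 0, 17, 87891) (.node .leaf (192726, 0, 18, 214229) .leaf))) (192728, 0, 17, 145702) (.node (.node (.node .leaf (192731, 0, 17, 231546) .leaf) (192733, 0, 17, 139029) (.node .leaf (192734, 0, 14, 180872) .leaf)) (192736, 0, 17, 64950) (.node (.node .leaf (192739, 0, 17, 85493) .leaf) (192741, 0, 14, 9459) (.node .leaf (192742, 0, 18, 103600) .leaf)))) (192744, 0, 17, 186414) (.node (.node (.node (.node .leaf (192747, 0, 16, 223341) .leaf) (192749, 0, 12, 131435) (.node .leaf (192750, 0, 17, 42421) .leaf)) (192752, 0, 16, 241328) (.node (.node .leaf (192755, 0, 14, 210336) .leaf) (192757, 0, 18, 231555)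 (.node .leaf (192758, 0, 16, 145887) .leaf))) (192760, 0, 16, 214060) (.node (.node (.node .leaf (192763, 0, 16, 193904) .leaf) (192765, 0, 16, 31038) (.node .leaf (192766, 0, 17, 185155) .leaf)) (192769, 0, 14, 127842) (.node (.node .leaf (192770, 0, 17, 16958) .leaf) (192772, 0, 16, 102552) (.node .leaf (192775, 0, 16, 8411) .leaf))))))

/-- part of the orbit tree -/
def itp5_450 : Tree := (.node (.node (.node (.node (.node (.node .leaf (192778, 0, 15, 187398) .leaf) (192780, 0, 17, 242944) (.node .leaf (192783, 0, 14, 36497) .leaf)) (192785, 0, 12, 209288) (.node (.node .leaf (192786, 0, 15, 144584) .leaf) (192788, 0, 16, 238503) (.node .leaf (192791, 0, 16, 135931) .leaf))) (192793, 0, 17, 225032) (.node (.node (.node .leaf (192794, 0, 14, 42067) .leaf) (192796, 0, 14, 118101) (.node .leaf (192799, 0, 15, 32022) .leaf)) (192801, 0, 14, 36456) (.node (.node .leaf (192802, 0, 15, 258667) .leaf) (192804, 0, 15, 170861) (.node .leaf (192807, 0, 15, 71943) .leaf)))) (192809, 0, 17, 26544) (.node (.node (.node (.node .leaf (192810,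 0, 14, 120232) .leaf) (192812, 0, 16, 48885) (.node .leaf (192815, 0, 15, 127899) .leaf)) (192817, 0, 14, 194718) (.node (.node .leaf (192818, 0, 15, 215490) .leaf) (192820, 0, 16, 188077) (.node .leaf (192823, 0, 16, 86907) .leaf))) (192825, 0, 11, 135682) (.node (.node (.node .leaf (192826, 0, 17, 238430) .leaf) (192828, 0, 15, 181920) (.node .leaf (192831, 0, 18, 227043) .leaf)) (192833, 0, 16, 109544) (.node (.node .leaf (192834, 0, 18, 6836) .leaf) (192836, 0, 16, 101851) (.node .leaf (192839, 0, 17, 15495) .leaf))))) (192841, 0, 17, 1731) (.node (.node (.node (.node (.node .leaf (192842, 0, 14, 61480) .leaf) (192844, 0, 18, 57222) (.node .leaf (192847, 0, 14, 94149) .leaf)) (192849, 0, 16, 23310) (.node (.node .leaf (192850, 0, 17, 125773) .leaf) (192852, 0, 17, 33355) (.node .leaf (192855, 0, 15, 150129) .leaf))) (192857, 0, 17, 210818) (.node (.node (.node .leaf (192858, 0, 13, 165598) .leaf) (192860, 0, 14, 174035) (.node .leaf (192863, 0, 17, 172269) .leaf)) (192865, 0, 17, 55010) (.node (.node .leaf (192866, 0, 16,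 39149) .leaf) (192868, 0, 15, 61649) (.node .leaf (192871, 0, 17, 16808) .leaf)))) (192873, 0, 13, 199990) (.node (.node (.node (.node .leaf (192874, 0, 16, 179573) .leaf) (192876, 0, 14, 6733) (.node .leaf (192879, 0, 13, 156720) .leaf)) (192881, 0, 14, 172052) (.node (.node .leaf (192882, 0, 15, 201032) .leaf) (192884, 0, 16, 165415) (.node .leaf (192887, 0, 18, 210811) .leaf))) (192889, 0, 16, 95587) (.node (.node (.node .leaf (192890, 0, 17, 50464) .leaf) (192892, 0, 16, 109606) (.node .leaf (192895, 0, 8, 7269) .leaf)) (192896, 0, 16, 212657) (.node (.node .leaf (192899, 0, 17, 109433) .leaf) (192901, 0, 16, 255988) (.node .leaf (192902, 0, 16, 101706) .leaf))))))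

/-- part of the orbit tree -/
def itp5_451 : Tree := (.node (.node (.node (.node (.node (.node .leaf (192907, 0, 17, 43882) .leaf) (192909, 0, 13, 115308) (.node .leaf (192910, 0, 13, 29231) .leaf)) (192912, 0, 14, 83684) (.node (.node .leaf (192915, 0, 13, 253327) .leaf) (192917, 0, 13, 150240) (.node .leaf (192918, 0, 16, 12258) .leaf))) (192920, 0, 15, 222076) (.node (.node (.node .leaf (192923, 0, 15, 185151) .leaf) (192925, 0, 15, 244281) (.node .leaf (192926, 0, 16, 133754) .leaf)) (192928, 0, 18, 13636) (.node (.node .leaf (192931, 0, 16, 54899) .leaf) (192933, 0, 16, 82204) (.node .leaf (192934, 0, 15, 61504) .leaf)))) (192936, 0, 16, 101811) (.node (.node (.node (.node .leaf (192939, 0, 14, 15599) .leaf) (192941, 0, 15, 109440) (.node .leaf (192942, 0, 16, 6876) .leaf)) (192944, 0, 17, 150801) (.node (.node .leaf (192947, 0, 16, 261458) .leaf) (192949, 0, 17, 169044) (.node .leaf (192950, 0, 17, 165558) .leaf))) (192952, 0, 17, 260933) (.node (.node (.node .leaf (192955, 0, 17, 150041) .leaf) (192957, 0, 17, 45516)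 (.node .leaf (192958, 0, 14, 65935) .leaf)) (192960, 0, 13, 21559) (.node (.node .leaf (192963, 0, 18, 124020) .leaf) (192965, 0, 16, 25756) (.node .leaf (192966, 0, 14, 81201) .leaf))))) (192968, 0, 15, 43059) (.node (.node (.node (.node (.node .leaf (192971, 0, 5, 246252) .leaf) (192973, 0, 16, 174314) (.node .leaf (192974, 0, 16, 81756) .leaf)) (192976, 0, 13, 142434) (.node (.node .leaf (192979, 0, 16, 236577) .leaf) (192981, 0, 16, 193831) (.node .leaf (192982, 0, 17, 238390) .leaf))) (192984, 0, 17, 2554) (.node (.node (.node .leaf (192987, 0, 16, 225177) .leaf) (192989, 0, 11, 194806) (.node .leaf (192990, 0, 15, 90364) .leaf)) (192992, 0, 19, 81829) (.node (.node .leaf (192995, 0, 12, 36601) .leaf) (192997, 0, 16, 72086) (.node .leaf (192998, 0, 16, 145092) .leaf)))) (193000, 0, 14, 120121) (.node (.node (.node (.node .leaf (193003, 0, 15, 51737) .leaf) (193005, 0, 17, 107295) (.node .leaf (193006, 0, 17, 4956) .leaf)) (193008, 0, 19, 215379) (.node (.node .leaf (193011, 0, 15, 38868) .leaf) (193013, 0, 15, 225120)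 (.node .leaf (193014, 0, 18, 187964) .leaf))) (193016, 0, 16, 197135) (.node (.node (.node .leaf (193019, 0, 18, 176716) .leaf) (193021, 0, 15, 252746) (.node .leaf (193022, 0, 14, 144544) .leaf)) (193024, 0, 17, 141247) (.node (.node .leaf (193025, 0, 15, 70061) .leaf) (193030, 0, 15, 188396) (.node .leaf (193031, 0, 17, 241375) .leaf))))))

/-- part of the orbit tree -/
def itp5_452 : Tree := (.node (.node (.node (.node (.node (.node .leaf (193033, 0, 16, 129841) .leaf) (193038, 0, 16, 144752) (.node .leaf (193039, 0, 15, 27742) .leaf)) (193040, 0, 18, 24554) (.node (.node .leaf (193041, 0, 13, 223067) .leaf) (193046, 0, 16, 43290) (.node .leaf (193047, 0, 17, 120458) .leaf))) (193048, 0, 14, 120041) (.node (.node (.node .leaf (193049, 0, 15, 232903) .leaf) (193054, 0, 16, 201588) (.node .leaf (193055, 0, 15, 137896) .leaf)) (193056, 0, 14, 144777) (.node (.node .leaf (193057, 0, 18, 27815) .leaf) (193062, 0, 14, 17740) (.node .leaf (193063, 0, 16, 129992) .leaf)))) (193064, 0, 15, 188181) (.node (.node (.node (.node .leaf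 (193065, 0, 17, 256436) .leaf) (193070, 0, 15, 215162) (.node .leaf (193071, 0, 4, 164018) .leaf)) (193072, 0, 16, 218143) (.node (.node .leaf (193073, 0, 17, 137809) .leaf) (193078, 0, 16, 146713) (.node .leaf (193079, 0, 18, 187775) .leaf))) (193080, 0, 16, 94599) (.node (.node (.node .leaf (193081, 0, 14, 102881) .leaf) (193086, 0, 17, 6273) (.node .leaf (193087, 0, 16, 63719) .leaf)) (193088, 0, 17, 200713) (.node (.node .leaf (193089, 0, 16, 109919) .leaf) (193094, 0, 13, 9279) (.node .leaf (193095, 0, 17, 50265) .leaf))))) (193096, 0, 15, 223393) (.node (.node (.node (.node (.node .leaf (193097, 0, 16, 107451) .leaf) (193102, 0, 17, 131495) (.node .leaf (193103, 0, 18, 188865) .leaf)) (193104, 0, 16, 91903) (.node (.node .leaf (193105, 0, 14, 212945) .leaf) (193110, 0, 16, 154730) (.node .leaf (193111, 0, 15, 179212) .leaf))) (193112, 0, 16, 69876) (.node (.node (.node .leaf (193113, 0, 17, 127122) .leaf) (193118, 0, 17, 6924) (.node .leaf (193119, 0, 11, 148002) .leaf)) (193120, 0, 16, 158979) (.node (.node .leaf (193121,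 0, 17, 13357) .leaf) (193126, 0, 16, 208842) (.node .leaf (193127, 0, 14, 249772) .leaf)))) (193128, 0, 15, 25428) (.node (.node (.node (.node .leaf (193129, 0, 15, 33586) .leaf) (193134, 0, 17, 200944) (.node .leaf (193135, 0, 19, 84446) .leaf)) (193136, 0, 17, 7157) (.node (.node .leaf (193137, 0, 11, 148187) .leaf) (193142, 0, 16, 87967) (.node .leaf (193143, 0, 14, 112633) .leaf))) (193144, 0, 16, 137985) (.node (.node (.node .leaf (193145, 0, 15, 174151) .leaf) (193150, 0, 19, 91654) (.node .leaf (193151, 0, 15, 212776) .leaf)) (193154, 0, 17, 123024) (.node (.node .leaf (193155, 0, 9, 84406) .leaf) (193156, 0, 17, 35222) .leaf)))))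

/-- part of the orbit tree -/
def itp5_453 : Tree := (.node itp5_449 (192777, 0, 16, 224325) itp5_450)

/-- part of the orbit tree -/
def itp5_454 : Tree := (.node itp5_451 (193032, 0, 14, 551) itp5_452)

/-- part of the orbit tree -/
def itp5_455 : Tree := (.node itp5_447 (192388, 0, 15, 64170) itp5_448)

/-- part of the orbit tree -/
def itp5_456 : Tree := (.node itp5_453 (192904, 0, 16, 72489) itp5_454)

/-- part of the orbit tree -/
def itp5_457 : Tree := (.node (.node (.node (.node (.node (.node .leaf (193162, 0, 17, 260612) .leaf) (193163, 0, 17, 206190) (.node .leaf (193164, 0, 16, 159083) .leaf)) (193165, 0, 15, 13381) (.node (.node .leaf (193170, 0, 18, 235717) .leaf) (193171, 0, 14, 227491) (.node .leaf (193172, 0, 16, 61697) .leaf))) (193173, 0, 14, 174127) (.node (.node (.node .leaf (193178, 0, 13, 101618) .leaf) (193179, 0, 17, 251356) (.node .leaf (193180, 0, 17, 54363) .leaf)) (193181, 0, 17, 13373) (.node (.node .leaf (193186, 0, 16, 191333) .leaf) (193187, 0, 15, 133891) (.node .leaf (193188, 0, 15, 260861)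 .leaf)))) (193189, 0, 9, 221701) (.node (.node (.node (.node .leaf (193194, 0, 15, 165646) .leaf) (193195, 0, 18, 11931) (.node .leaf (193196, 0, 15, 200801) .leaf)) (193197, 0, 18, 83869) (.node (.node .leaf (193202, 0, 17, 7012) .leaf) (193203, 0, 14, 29526) (.node .leaf (193204, 0, 16, 129590) .leaf))) (193205, 0, 14, 72272) (.node (.node (.node .leaf (193210, 0, 14, 61944) .leaf) (193211, 0, 17, 174294) (.node .leaf (193212, 0, 13, 91799) .leaf)) (193213, 0, 17, 212936) (.node (.node .leaf (193218, 0, 16, 215058) .leaf) (193219, 0, 16, 158320) (.node .leaf (193220, 0, 17, 188285) .leaf))))) (193221, 0, 16, 197494) (.node (.node (.node (.node (.node .leaf (193226, 0, 17, 44942) .leaf) (193227, 0, 15, 20456) (.node .leaf (193228, 0, 16, 144865) .leaf)) (193229, 0, 14, 75502) (.node (.node .leaf (193234, 0, 17, 62019) .leaf) (193235, 0, 16, 4645) (.node .leaf (193236, 0, 17, 43403) .leaf))) (193237, 0, 15, 97059) (.node (.node (.node .leaf (193242, 0, 15, 119928) .leaf) (193243, 0, 14, 145341) (.node .leaf (193244, 0, 18,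 17175) .leaf)) (193245, 0, 15, 220859) (.node (.node .leaf (193250, 0, 15, 144664) .leaf) (193251, 0, 16, 90501) (.node .leaf (193252, 0, 14, 238199) .leaf)))) (193253, 0, 15, 129881) (.node (.node (.node (.node .leaf (193258, 0, 14, 238715) .leaf) (193259, 0, 13, 34474) (.node .leaf (193260, 0, 15, 215275) .leaf)) (193261, 0, 18, 142619) (.node (.node .leaf (193266, 0, 17, 260534) .leaf) (193267, 0, 17, 137920) (.node .leaf (193268, 0, 14, 168112) .leaf))) (193269, 0, 16, 159958) (.node (.node (.node .leaf (193274, 0, 14, 121902) .leaf) (193275, 0, 17, 80968) (.node .leaf (193276, 0, 15, 81437) .leaf)) (193277, 0, 15, 223027) (.node (.node .leaf (193280, 0, 15, 241504) .leaf) (193281, 0, 18, 91565) (.node .leaf (193286, 0, 13, 60621) .leaf))))))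

/-- part of the orbit tree -/
def itp5_458 : Tree := (.node (.node (.node (.node (.node (.node .leaf (193288, 0, 18, 214524) .leaf) (193289, 0, 18, 72914) (.node .leaf (193294, 0, 14, 182613) .leaf)) (193295, 0, 18, 35773) (.node (.node .leaf (193296, 0, 16, 121238) .leaf) (193297, 0, 18, 204280) (.node .leaf (193302, 0, 18, 20217) .leaf))) (193303, 0, 17, 161022) (.node (.node (.node .leaf (193304, 0, 9, 120838) .leaf) (193305, 0, 18, 79968) (.node .leaf (193310, 0, 18, 45312) .leaf)) (193311, 0, 11, 20838) (.node (.node .leaf (193312, 0, 16, 167486) .leaf) (193313, 0, 17, 35652) (.node .leaf (193318, 0, 17, 255800) .leaf)))) (193319, 0, 16, 198494) (.node (.node (.node (.node .leaf (193320, 0, 14, 145654) .leaf) (193321, 0, 19, 19392) (.node .leaf (193326, 0, 16, 115360) .leaf)) (193327, 0, 14, 74438) (.node (.node .leaf (193328, 0, 18, 63083) .leaf) (193329, 0, 16, 5645) (.node .leaf (193334, 0, 11, 78835) .leaf))) (193335, 0, 14, 98059) (.node (.node (.node .leaf (193336, 0, 15, 19968) .leaf) (193337, 0, 15, 137006) (.node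 .leaf (193342, 0, 16, 244469) .leaf)) (193343, 0, 17, 219795) (.node (.node .leaf (193344, 0, 18, 260074) .leaf) (193345, 0, 10, 134955) (.node .leaf (193350, 0, 18, 155781) .leaf))))) (193351, 0, 15, 14763) (.node (.node (.node (.node (.node .leaf (193352, 0, 18, 51925) .leaf) (193353, 0, 15, 10931) (.node .leaf (193358, 0, 12, 166425) .leaf)) (193359, 0, 14, 54071) (.node (.node .leaf (193360, 0, 16, 38680) .leaf) (193361, 0, 18, 30590) (.node .leaf (193366, 0, 18, 130590) .leaf))) (193367, 0, 16, 73336) (.node (.node (.node .leaf (193368, 0, 16, 93056) .leaf) (193369, 0, 11, 209582) (.node .leaf (193374, 0, 17, 64751) .leaf)) (193375, 0, 17, 173505) (.node (.node .leaf (193376, 0, 16, 166624) .leaf) (193377, 0, 15, 66782) (.node .leaf (193382, 0, 17, 204175) .leaf)))) (193383, 0, 17, 83105) (.node (.node (.node (.node .leaf (193384, 0, 14, 155772) .leaf) (193385, 0, 12, 205126) (.node .leaf (193390, 0, 17, 174118) .leaf)) (193391, 0, 14, 149568) (.node (.node .leaf (193392, 0, 14, 236781) .leaf) (193393, 0, 13, 173368) (.node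 .leaf (193398, 0, 17, 93049) .leaf))) (193399, 0, 17, 209495) (.node (.node (.node .leaf (193400, 0, 14, 113013) .leaf) (193401, 0, 15, 88339) (.node .leaf (193406, 0, 16, 53363) .leaf)) (193407, 0, 14, 12309) (.node (.node .leaf (193410, 0, 16, 148196) .leaf) (193411, 0, 16, 172674) (.node .leaf (193412, 0, 13, 155668) .leaf))))))

/-- part of the orbit tree -/
def itp5_459 : Tree := (.node (.node (.node (.node (.node (.node .leaf (193418, 0, 17, 204263) .leaf) (193419, 0, 15, 34586) (.node .leaf (193420, 0, 16, 69242) .leaf)) (193421, 0, 16, 126492) (.node (.node .leaf (193426, 0, 13, 15025) .leaf) (193427, 0, 15, 252067) (.node .leaf (193428, 0, 17, 5858) .leaf))) (193429, 0, 16, 151500) (.node (.node (.node .leaf (193434, 0, 19, 139049) .leaf) (193435, 0, 17, 196431) (.node .leaf (193436, 0, 17, 64638) .leaf)) (193437, 0, 14, 173392) (.node (.node .leaf (193442, 0, 18, 166513) .leaf) (193443, 0, 17, 108919) (.node .leaf (193444, 0, 18, 204062) .leaf)))) (193445, 0, 13, 82992) (.node (.node (.node (.node .leaf (193450, 0,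 12, 224393) .leaf) (193451, 0, 18, 232687) (.node .leaf (193452, 0, 16, 132495) .leaf)) (193453, 0, 14, 189929) (.node (.node .leaf (193458, 0, 11, 209220) .leaf) (193459, 0, 17, 173481) (.node .leaf (193460, 0, 14, 93160) .leaf))) (193461, 0, 17, 209606) (.node (.node (.node .leaf (193466, 0, 14, 70876) .leaf) (193467, 0, 14, 151349) (.node .leaf (193468, 0, 16, 32218) .leaf)) (193469, 0, 17, 251994) (.node (.node .leaf (193474, 0, 15, 241649) .leaf) (193475, 0, 16, 128735) (.node .leaf (193476, 0, 16, 16740) .leaf))))) (193477, 0, 13, 25008) (.node (.node (.node (.node (.node .leaf (193482, 0, 17, 214381) .leaf) (193483, 0, 14, 72771) (.node .leaf (193484, 0, 15, 184834) .leaf)) (193485, 0, 13, 165018) (.node (.node .leaf (193490, 0, 15, 217143) .leaf) (193491, 0, 17, 229417) (.node .leaf (193492, 0, 19, 145713) .leaf))) (193493, 0, 14, 186711) (.node (.node (.node .leaf (193498, 0, 18, 95663) .leaf) (193499, 0, 17, 103881) (.node .leaf (193500, 0, 16, 7337) .leaf)) (193501, 0, 14, 196058) (.node (.node .leaf (193506, 0,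 14, 185083) .leaf) (193507, 0, 12, 181233) (.node .leaf (193508, 0, 15, 215697) .leaf)))) (193509, 0, 18, 72890) (.node (.node (.node (.node .leaf (193514, 0, 16, 1551) .leaf) (193515, 0, 15, 24905) (.node .leaf (193516, 0, 16, 93961) .leaf)) (193517, 0, 16, 102255) (.node (.node .leaf (193522, 0, 17, 23490) .leaf) (193523, 0, 18, 195875) (.node .leaf (193524, 0, 16, 78690) .leaf))) (193525, 0, 15, 119458) (.node (.node (.node .leaf (193530, 0, 17, 163418) .leaf) (193531, 0, 18, 171580) (.node .leaf (193532, 0, 15, 121342) .leaf)) (193533, 0, 15, 229584) (.node (.node .leaf (193536, 0, 17, 201063) .leaf) (193538, 0, 16, 147778) (.node .leaf (193541, 0, 16, 247842) .leaf))))))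

/-- part of the orbit tree -/
def itp5_460 : Tree := (.node (.node (.node (.node (.node (.node .leaf (193544, 0, 17, 79103) .leaf) (193546, 0, 17, 25818) (.node .leaf (193549, 0, 18, 36084) .leaf)) (193551, 0, 16, 222342) (.node (.node .leaf (193552, 0, 17, 145069) .leaf) (193554, 0, 12, 122591) (.node .leaf (193557, 0, 16, 135326) .leaf))) (193559, 0, 17, 129260) (.node (.node (.node .leaf (193560, 0, 16, 187441) .leaf) (193562, 0, 17, 78915) (.node .leaf (193565, 0, 16, 195074) .leaf)) (193567, 0, 19, 70256) (.node (.node .leaf (193568, 0, 16, 81233) .leaf) (193570, 0, 18, 185635) (.node .leaf (193573, 0, 15, 72546) .leaf)))) (193575, 0, 17, 193296) (.node (.node (.node (.node .leaf (193576, 0, 17, 120781) .leaf) (193578, 0, 14, 147391) (.node .leaf (193581, 0, 17, 190031) .leaf)) (193583, 0, 15, 137612) (.node (.node .leaf (193584, 0, 15, 215975) .leaf) (193586, 0, 16, 41941) (.node .leaf (193589, 0, 18, 224660) .leaf))) (193591, 0, 15, 34278) (.node (.node (.node .leaf (193592, 0, 12, 237883) .leaf) (193594, 0, 16, 71546)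 (.node .leaf (193597, 0, 13, 40474) .leaf)) (193599, 0, 15, 118335) (.node (.node .leaf (193600, 0, 15, 31713) .leaf) (193602, 0, 16, 258211) (.node .leaf (193605, 0, 14, 41636) .leaf))))) (193607, 0, 16, 127617) (.node (.node (.node (.node (.node .leaf (193608, 0, 11, 155257) .leaf) (193610, 0, 16, 203327) (.node .leaf (193613, 0, 17, 54398) .leaf)) (193615, 0, 15, 211980) (.node (.node .leaf (193616, 0, 17, 132020) .leaf) (193618, 0, 15, 218001) (.node .leaf (193621, 0, 17, 149524) .leaf))) (193623, 0, 17, 232148) (.node (.node (.node .leaf (193624, 0, 16, 165051) .leaf) (193626, 0, 16, 95753) (.node .leaf (193629, 0, 15, 65385) .leaf)) (193631, 0, 18, 110412) (.node (.node .leaf (193632, 0, 16, 91611) .leaf) (193634, 0, 14, 167337) (.node .leaf (193637, 0, 16, 82920) .leaf)))) (193639, 0, 15, 194932) (.node (.node (.node (.node .leaf (193640, 0, 16, 87436) .leaf) (193642, 0, 14, 157493) (.node .leaf (193645, 0, 16, 101577) .leaf)) (193647, 0, 9, 147718) (.node (.node .leaf (193648, 0, 7, 67649) .leaf) (193650, 0, 17, 22628)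 (.node .leaf (193653, 0, 18, 119044) .leaf))) (193655, 0, 18, 33057) (.node (.node (.node .leaf (193656, 0, 15, 208345) .leaf) (193658, 0, 15, 163324) (.node .leaf (193661, 0, 13, 253826) .leaf)) (193663, 0, 16, 173241) (.node (.node .leaf (193665, 0, 17, 91659) .leaf) (193667, 0, 15, 13870) (.node .leaf (193668, 0, 17, 102191) .leaf))))))

/-- part of the orbit tree -/
def itp5_461 : Tree := (.node itp5_457 (193287, 0, 15, 3243) itp5_458)

/-- part of the orbit tree -/
def itp5_462 : Tree := (.node itp5_459 (193543, 0, 17, 169991) itp5_460)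

/-- part of the orbit tree -/
def itp5_463 : Tree := (.node (.node (.node (.node (.node (.node .leaf (193673, 0, 17, 82816) .leaf) (193675, 0, 12, 175090) (.node .leaf (193676, 0, 15, 236246) .leaf)) (193678, 0, 18, 183027) (.node (.node .leaf (193681, 0, 17, 204382) .leaf) (193683, 0, 17, 14232) (.node .leaf (193684, 0, 18, 260569) .leaf))) (193686, 0, 17, 4523) (.node (.node (.node .leaf (193689, 0, 17, 80838) .leaf) (193691, 0, 13, 27619) (.node .leaf (193692, 0, 16, 201541) .leaf)) (193694, 0, 16, 64311) (.node (.node .leaf (193697, 0, 16, 159230) .leaf) (193699, 0, 18, 212068) (.node .leaf (193700, 0, 15, 61989) .leaf)))) (193702, 0, 18, 203351) (.node (.node (.node (.node .leaf (193705, 0, 12, 18534) .leaf) (193707, 0, 16, 71747) (.node .leaf (193708, 0, 18, 6329) .leaf)) (193710, 0, 18, 258251) (.node (.node .leaf (193713, 0, 17, 5547) .leaf) (193715, 0, 12, 83342) (.node .leaf (193716, 0, 13, 165075) .leaf))) (193718, 0, 16, 105675) (.node (.node (.node .leaf (193721, 0, 14, 149628) .leaf) (193723, 0, 14, 106510) (.node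 .leaf (193724, 0, 15, 159311) .leaf)) (193726, 0, 16, 244051) (.node (.node .leaf (193729, 0, 16, 134285) .leaf) (193731, 0, 15, 137700) (.node .leaf (193732, 0, 16, 120741) .leaf))))) (193734, 0, 15, 147415) (.node (.node (.node (.node (.node .leaf (193737, 0, 17, 10517) .leaf) (193739, 0, 15, 193400) (.node .leaf (193740, 0, 17, 81209) .leaf)) (193742, 0, 16, 106613) (.node (.node .leaf (193745, 0, 16, 231264) .leaf) (193747, 0, 15, 28434) (.node .leaf (193748, 0, 13, 44445) .leaf))) (193750, 0, 18, 130488) (.node (.node (.node .leaf (193753, 0, 16, 151872) .leaf) (193755, 0, 17, 196965) (.node .leaf (193756, 0, 15, 216015) .leaf)) (193758, 0, 17, 41917) (.node (.node .leaf (193761, 0, 15, 35996) .leaf) (193763, 0, 16, 222446) (.node .leaf (193764, 0, 15, 122429) .leaf)))) (193766, 0, 17, 36376) (.node (.node (.node (.node .leaf (193769, 0, 15, 26112) .leaf) (193771, 0, 17, 233074) (.node .leaf (193772, 0, 16, 261029) .leaf)) (193774, 0, 12, 174976) (.node (.node .leaf (193777, 0, 14, 229165) .leaf) (193779, 0, 16, 143112)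 (.node .leaf (193780, 0, 15, 187481) .leaf))) (193782, 0, 16, 78891) (.node (.node (.node .leaf (193785, 0, 15, 135414) .leaf) (193787, 0, 17, 2704) (.node .leaf (193788, 0, 14, 145093) .leaf)) (193790, 0, 18, 122551) (.node (.node .leaf (193792, 0, 15, 42936) .leaf) (193794, 0, 17, 217034) (.node .leaf (193797, 0, 18, 33163) .leaf))))))

/-- part of the orbit tree -/
def itp5_464 : Tree := (.node (.node (.node (.node (.node (.node .leaf (193800, 0, 14, 169611) .leaf) (193802, 0, 17, 238934) (.node .leaf (193805, 0, 18, 27415) .leaf)) (193807, 0, 15, 204779) (.node (.node .leaf (193808, 0, 17, 183110) .leaf) (193810, 0, 16, 80188) (.node .leaf (193813, 0, 15, 194429) .leaf))) (193815, 0, 16, 73487) (.node (.node (.node .leaf (193816, 0, 17, 146386) .leaf) (193818, 0, 12, 119712) (.node .leaf (193821, 0, 17, 138721) .leaf)) (193823, 0, 15, 128403) (.node (.node .leaf (193824, 0, 13, 243942) .leaf) (193826, 0, 17, 144064) (.node .leaf (193829, 0, 15, 130177) .leaf)))) (193831, 0, 15, 143750) (.node (.node (.node (.node .leaf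 (193832, 0, 19, 77870) .leaf) (193834, 0, 15, 186460) (.node .leaf (193837, 0, 16, 83003) .leaf)) (193839, 0, 16, 5150) (.node (.node .leaf (193840, 0, 17, 240708) .leaf) (193842, 0, 14, 37014) (.node .leaf (193845, 0, 14, 232055) .leaf))) (193847, 0, 17, 18899) (.node (.node (.node .leaf (193848, 0, 16, 255275) .leaf) (193850, 0, 12, 177422) (.node .leaf (193853, 0, 16, 221419) .leaf)) (193855, 0, 13, 34969) (.node (.node .leaf (193856, 0, 18, 252309) .leaf) (193858, 0, 16, 202560) (.node .leaf (193861, 0, 16, 55553) .leaf))))) (193863, 0, 17, 151797) (.node (.node (.node (.node (.node .leaf (193864, 0, 14, 5550) .leaf) (193866, 0, 17, 44072) (.node .leaf (193869, 0, 15, 75080) .leaf)) (193871, 0, 18, 30061) (.node (.node .leaf (193872, 0, 17, 166340) .leaf) (193874, 0, 18, 90550) (.node .leaf (193877, 0, 14, 176119) .leaf))) (193879, 0, 17, 10400) (.node (.node (.node .leaf (193880, 0, 17, 230488) .leaf) (193882, 0, 17, 101162) (.node .leaf (193885, 0, 17, 220445) .leaf)) (193887, 0, 17, 109849) (.node (.node .leaf (193888,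 0, 17, 98872) .leaf) (193890, 0, 14, 98885) (.node .leaf (193893, 0, 18, 2853) .leaf)))) (193895, 0, 16, 88832) (.node (.node (.node (.node .leaf (193896, 0, 16, 92324) .leaf) (193898, 0, 19, 239581) (.node .leaf (193901, 0, 17, 85655) .leaf)) (193903, 0, 16, 229016) (.node (.node .leaf (193904, 0, 15, 174645) .leaf) (193906, 0, 18, 7356) (.node .leaf (193909, 0, 14, 160624) .leaf))) (193911, 0, 16, 14991) (.node (.node (.node .leaf (193912, 0, 11, 204370) .leaf) (193914, 0, 17, 63008) (.node .leaf (193917, 0, 17, 22248) .leaf)) (193919, 0, 18, 67277) (.node (.node .leaf (193921, 0, 16, 181375) .leaf) (193923, 0, 17, 173709) (.node .leaf (193924, 0, 17, 138554) .leaf))))))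

/-- part of the orbit tree -/
def itp5_465 : Tree := (.node (.node (.node (.node (.node (.node .leaf (193929, 0, 16, 57831) .leaf) (193931, 0, 19, 150545) (.node .leaf (193932, 0, 16, 14498) .leaf)) (193934, 0, 17, 92295) (.node (.node .leaf (193937, 0, 17, 210953) .leaf) (193939, 0, 17, 53371) (.node .leaf (193940, 0, 18, 25967) .leaf))) (193942, 0, 16, 79178) (.node (.node (.node .leaf (193945, 0, 18, 250517) .leaf) (193947, 0, 17, 248215) (.node .leaf (193948, 0, 16, 259238) .leaf)) (193950, 0, 18, 7380) (.node (.node .leaf (193953, 0, 18, 118666) .leaf) (193955, 0, 17, 252807) (.node .leaf (193956, 0, 17, 71375) .leaf)))) (193958, 0, 15, 261556) (.node (.node (.node (.node .leaf (193961, 0, 14, 256530) .leaf) (193963, 0, 17, 178743) (.node .leaf (193964, 0, 16, 209751) .leaf)) (193966, 0, 17, 202536) (.node (.node .leaf (193969, 0, 12, 148739) .leaf) (193971, 0, 15, 109937) (.node .leaf (193972, 0, 17, 156464) .leaf))) (193974, 0, 17, 101186) (.node (.node (.node .leaf (193977, 0, 17, 176031) .leaf) (193979, 0, 17, 83949)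 (.node .leaf (193980, 0, 16, 84738) .leaf)) (193982, 0, 15, 6951) (.node (.node .leaf (193985, 0, 15, 110329) .leaf) (193987, 0, 18, 65244) (.node .leaf (193988, 0, 15, 77894) .leaf))))) (193990, 0, 12, 186420) (.node (.node (.node (.node (.node .leaf (193993, 0, 15, 232289) .leaf) (193995, 0, 17, 187204) (.node .leaf (193996, 0, 17, 121562) .leaf)) (193998, 0, 17, 131585) (.node (.node .leaf (194001, 0, 15, 251564) .leaf) (194003, 0, 17, 165513) (.node .leaf (194004, 0, 17, 214704) .leaf))) (194006, 0, 15, 44738) (.node (.node (.node .leaf (194009, 0, 17, 127796) .leaf) (194011, 0, 15, 25197) (.node .leaf (194012, 0, 16, 76401) .leaf)) (194014, 0, 14, 31316) (.node (.node .leaf (194017, 0, 17, 173324) .leaf) (194019, 0, 13, 230157) (.node .leaf (194020, 0, 17, 162889) .leaf)))) (194022, 0, 15, 207980) (.node (.node (.node (.node .leaf (194025, 0, 19, 33251) .leaf) (194027, 0, 17, 223633) (.node .leaf (194028, 0, 14, 22993) .leaf)) (194030, 0, 15, 216994) (.node (.node .leaf (194033, 0, 16, 56665) .leaf) (194035, 0, 15, 128507)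 (.node .leaf (194036, 0, 14, 1052) .leaf))) (194038, 0, 16, 119752) (.node (.node (.node .leaf (194041, 0, 15, 194325) .leaf) (194043, 0, 11, 73575) (.node .leaf (194044, 0, 17, 139652) .leaf)) (194046, 0, 18, 225697) (.node (.node .leaf (194052, 0, 18, 146026) .leaf) (194053, 0, 17, 255058) (.node .leaf (194054, 0, 16, 119320) .leaf))))))

/-- part of the orbit tree -/
def itp5_466 : Tree := (.node (.node (.node (.node (.node (.node .leaf (194060, 0, 14, 74156) .leaf) (194061, 0, 14, 35288) (.node .leaf (194062, 0, 12, 80004) .leaf)) (194063, 0, 16, 37359) (.node (.node .leaf (194068, 0, 13, 19612) .leaf) (194069, 0, 14, 136626) (.node .leaf (194070, 0, 16, 238830) .leaf))) (194071, 0, 18, 52258) (.node (.node (.node .leaf (194076, 0, 13, 42496) .leaf) (194077, 0, 14, 196398) (.node .leaf (194078, 0, 17, 133596) .leaf)) (194079, 0, 16, 71516) (.node (.node .leaf (194084, 0, 14, 214880) .leaf) (194085, 0, 16, 61351) (.node .leaf (194086, 0, 13, 90084) .leaf)))) (194087, 0, 16, 194108) (.node (.node (.node (.node .leaf (194092,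 0, 16, 241148) .leaf) (194093, 0, 14, 128210) (.node .leaf (194094, 0, 13, 17806) .leaf)) (194095, 0, 16, 138400) (.node (.node .leaf (194100, 0, 17, 78230) .leaf) (194101, 0, 15, 223416) (.node .leaf (194102, 0, 16, 206769) .leaf))) (194103, 0, 17, 247767) (.node (.node (.node .leaf (194108, 0, 15, 121610) .leaf) (194109, 0, 16, 45674) (.node .leaf (194110, 0, 17, 66089) .leaf)) (194111, 0, 14, 123471) (.node (.node .leaf (194116, 0, 17, 156384) .leaf) (194117, 0, 14, 15310) (.node .leaf (194118, 0, 17, 101010) .leaf))))) (194119, 0, 18, 122609) (.node (.node (.node (.node (.node .leaf (194124, 0, 14, 166012) .leaf) (194125, 0, 18, 53586) (.node .leaf (194126, 0, 17, 90126) .leaf)) (194127, 0, 16, 211232) (.node (.node .leaf (194132, 0, 4, 136935) .leaf) (194133, 0, 14, 194177) (.node .leaf (194134, 0, 16, 214722) .leaf))) (194135, 0, 11, 239268) (.node (.node (.node .leaf (194140, 0, 17, 13183) .leaf) (194141, 0, 16, 173988) (.node .leaf (194142, 0, 18, 90970) .leaf)) (194143, 0, 16, 85974) (.node (.node .leaf (194148, 0,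 18, 222535) .leaf) (194149, 0, 14, 230689) (.node .leaf (194150, 0, 13, 144738) .leaf)))) (194151, 0, 16, 175798) (.node (.node (.node (.node .leaf (194156, 0, 17, 82143) .leaf) (194157, 0, 16, 106681) (.node .leaf (194158, 0, 15, 7428) .leaf)) (194159, 0, 15, 61596) (.node (.node .leaf (194164, 0, 17, 92444) .leaf) (194165, 0, 17, 208946) (.node .leaf (194166, 0, 15, 164206) .leaf))) (194167, 0, 11, 55360) (.node (.node (.node .leaf (194172, 0, 14, 99200) .leaf) (194173, 0, 17, 252590) (.node .leaf (194174, 0, 16, 158706) .leaf)) (194175, 0, 12, 13020) (.node (.node .leaf (194176, 0, 15, 259358) .leaf) (194177, 0, 13, 109616) .leaf)))))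

/-- part of the orbit tree -/
def itp5_467 : Tree := (.node itp5_463 (193799, 0, 15, 80499) itp5_464)

/-- part of the orbit tree -/
def itp5_468 : Tree := (.node itp5_465 (194055, 0, 13, 177271) itp5_466)

/-- part of the orbit tree -/
def itp5_469 : Tree := (.node itp5_461 (193413, 0, 14, 14650) itp5_462)

/-- part of the orbit tree -/
def itp5_470 : Tree := (.node itp5_467 (193926, 0, 18, 216351) itp5_468)

/-- part of the orbit tree -/
def itp5_471 : Tree := (.node itp5_455 (192648, 0, 15, 5978) itp5_456)

/-- part of the orbit tree -/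
def itp5_472 : Tree := (.node itp5_469 (193670, 0, 16, 157533) itp5_470)

/-- part of the orbit tree -/
def itp5_473 : Tree := (.node (.node (.node (.node (.node (.node .leaf (194179, 0, 17, 6750) .leaf) (194184, 0, 18, 204674) (.node .leaf (194185, 0, 14, 83628) .leaf)) (194186, 0, 15, 188320) (.node (.node .leaf (194187, 0, 14, 147398) .leaf) (194192, 0, 14, 250440) (.node .leaf (194193, 0, 18, 252614) .leaf))) (194194, 0, 16, 164461) (.node (.node (.node .leaf (194195, 0, 16, 12980) .leaf) (194200, 0, 16, 128976) (.node .leaf (194201, 0, 17, 208986) .leaf)) (194202, 0, 16, 42997) (.node (.node .leaf (194203, 0, 16, 18323) .leaf) (194208, 0, 16, 172520) (.node .leaf (194209, 0, 14, 147854) .leaf)))) (194210, 0, 15, 258509) (.node (.node (.node (.node .leaf (194211, 0, 16, 201131) .leaf) (194216, 0, 15, 156296) (.node .leaf (194217, 0, 16, 15270) .leaf)) (194218, 0, 18, 119893) (.node (.node .leaf (194219, 0, 17, 78899) .leaf) (194224, 0, 17, 65250) (.node .leaf (194225, 0, 14, 14811) .leaf))) (194226, 0, 15, 202384) (.node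 (.node (.node .leaf (194227, 0, 17, 92670) .leaf) (194232, 0, 14, 195621) (.node .leaf (194233, 0, 16, 138307) .leaf)) (194234, 0, 13, 240640) (.node (.node .leaf (194235, 0, 17, 107810) .leaf) (194240, 0, 18, 180379) (.node .leaf (194241, 0, 19, 139517) .leaf))))) (194242, 0, 15, 233662) (.node (.node (.node (.node (.node .leaf (194243, 0, 15, 138440) .leaf) (194248, 0, 15, 214792) (.node .leaf (194249, 0, 19, 73254) .leaf)) (194250, 0, 17, 44922) (.node (.node .leaf (194251, 0, 5, 194132) .leaf) (194256, 0, 16, 121698) (.node .leaf (194257, 0, 16, 22696) .leaf))) (194258, 0, 13, 144144) (.node (.node (.node .leaf (194259, 0, 17, 27198) .leaf) (194264, 0, 16, 78334) (.node .leaf (194265, 0, 13, 163120) .leaf)) (194266, 0, 11, 186764) (.node (.node .leaf (194267, 0, 14, 208149) .leaf) (194272, 0, 15, 184478) (.node .leaf (194273, 0, 15, 35248) .leaf)))) (194274, 0, 17, 80108) (.node (.node (.node (.node .leaf (194275, 0, 17, 31533) .leaf) (194280, 0, 12, 257782) (.node .leaf (194281, 0, 14, 200336) .leaf)) (194282, 0, 15, 179923)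 (.node (.node .leaf (194283, 0, 19, 232286) .leaf) (194288, 0, 15, 242491) (.node .leaf (194289, 0, 17, 217949) .leaf))) (194290, 0, 16, 189214) (.node (.node (.node .leaf (194291, 0, 17, 71476) .leaf) (194296, 0, 17, 104099) (.node .leaf (194297, 0, 7, 136666) .leaf)) (194298, 0, 15, 238726) (.node (.node .leaf (194299, 0, 17, 9952) .leaf) (194308, 0, 15, 187785) (.node .leaf (194309, 0, 15, 33959) .leaf))))))

/-- part of the orbit tree -/
def itp5_474 : Tree := (.node (.node (.node (.node (.node (.node .leaf (194311, 0, 17, 224469) .leaf) (194316, 0, 14, 145173) (.node .leaf (194317, 0, 16, 28219) .leaf)) (194318, 0, 18, 122727) (.node (.node .leaf (194319, 0, 16, 230985) .leaf) (194324, 0, 13, 43903) (.node .leaf (194325, 0, 14, 147059) .leaf))) (194326, 0, 18, 233008) (.node (.node (.node .leaf (194327, 0, 17, 224854) .leaf) (194332, 0, 17, 16867) (.node .leaf (194333, 0, 16, 137421) .leaf)) (194334, 0, 17, 109480) (.node (.node .leaf (194335, 0, 17, 84942) .leaf) (194340, 0, 17, 237699) (.node .leaf (194341, 0, 17, 216531)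 .leaf)))) (194342, 0, 18, 18673) (.node (.node (.node (.node .leaf (194343, 0, 17, 135647) .leaf) (194348, 0, 17, 215583) (.node .leaf (194349, 0, 15, 92235) .leaf)) (194350, 0, 18, 55304) (.node (.node .leaf (194351, 0, 15, 14446) .leaf) (194356, 0, 15, 120288) (.node .leaf (194357, 0, 16, 233307) .leaf))) (194358, 0, 17, 34245) (.node (.node (.node .leaf (194359, 0, 15, 26409) .leaf) (194364, 0, 17, 81129) (.node .leaf (194365, 0, 16, 200734) .leaf)) (194366, 0, 14, 172125) (.node (.node .leaf (194367, 0, 17, 36277) .leaf) (194372, 0, 19, 249030) (.node .leaf (194373, 0, 15, 56365) .leaf))))) (194374, 0, 14, 93553) (.node (.node (.node (.node (.node .leaf (194375, 0, 17, 210015) .leaf) (194380, 0, 17, 125278) (.node .leaf (194381, 0, 15, 67896) .leaf)) (194382, 0, 17, 100333) (.node (.node .leaf (194383, 0, 18, 253635) .leaf) (194388, 0, 12, 62453) (.node .leaf (194389, 0, 15, 87285) .leaf))) (194390, 0, 17, 203655) (.node (.node (.node .leaf (194391, 0, 13, 1232) .leaf) (194396, 0, 13, 233739) (.node .leaf (194397, 0, 18,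 225645) .leaf)) (194398, 0, 17, 180526) (.node (.node .leaf (194399, 0, 18, 108597) .leaf) (194404, 0, 10, 50995) (.node .leaf (194405, 0, 13, 106791) .leaf)))) (194406, 0, 16, 104214) (.node (.node (.node (.node .leaf (194407, 0, 14, 149845) .leaf) (194412, 0, 16, 189099) (.node .leaf (194413, 0, 15, 84923) .leaf)) (194414, 0, 16, 64231) (.node (.node .leaf (194415, 0, 16, 217832) .leaf) (194420, 0, 15, 102143) (.node .leaf (194421, 0, 15, 155392) .leaf))) (194422, 0, 17, 157325) (.node (.node (.node .leaf (194423, 0, 15, 16291) .leaf) (194428, 0, 18, 39678) (.node .leaf (194429, 0, 14, 212301) .leaf)) (194430, 0, 16, 117467) (.node (.node .leaf (194431, 0, 14, 76477) .leaf) (194432, 0, 16, 133225) (.node .leaf (194433, 0, 14, 190479) .leaf))))))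

/-- part of the orbit tree -/
def itp5_475 : Tree := (.node (.node (.node (.node (.node (.node .leaf (194435, 0, 15, 243754) .leaf) (194440, 0, 15, 11761) (.node .leaf (194441, 0, 15, 52631) .leaf)) (194442, 0, 13, 97748) (.node (.node .leaf (194443, 0, 14, 149821) .leaf) (194448, 0, 16, 91147) (.node .leaf (194449, 0, 17, 36954) .leaf))) (194450, 0, 13, 73753) (.node (.node (.node .leaf (194451, 0, 16, 54615) .leaf) (194456, 0, 16, 102039) (.node .leaf (194457, 0, 16, 251833) .leaf)) (194458, 0, 17, 157413) (.node (.node .leaf (194459, 0, 19, 255463) .leaf) (194464, 0, 14, 66460) (.node .leaf (194465, 0, 14, 14041) .leaf)))) (194466, 0, 17, 100229) (.node (.node (.node (.node .leaf (194467, 0, 14, 46047) .leaf) (194472, 0, 17, 165227) (.node .leaf (194473, 0, 16, 247394) .leaf)) (194474, 0, 16, 161313) (.node (.node .leaf (194475, 0, 17, 209975) .leaf) (194480, 0, 18, 6401) (.node .leaf (194481, 0, 15, 236463) .leaf))) (194482, 0, 15, 258419) (.node (.node (.node .leaf (194483, 0, 16, 108637) .leaf) (194488, 0, 18, 62365)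 (.node .leaf (194489, 0, 13, 174771) .leaf)) (194490, 0, 16, 203759) (.node (.node .leaf (194491, 0, 14, 60946) .leaf) (194496, 0, 15, 90863) (.node .leaf (194497, 0, 16, 98953) .leaf))))) (194498, 0, 18, 13002) (.node (.node (.node (.node (.node .leaf (194499, 0, 15, 195371) .leaf) (194504, 0, 16, 214903) (.node .leaf (194505, 0, 14, 239377) .leaf)) (194506, 0, 14, 137042) (.node (.node .leaf (194507, 0, 16, 194356) .leaf) (194512, 0, 19, 81025) (.node .leaf (194513, 0, 16, 222639) .leaf))) (194514, 0, 13, 185587) (.node (.node (.node .leaf (194515, 0, 14, 174841) .leaf) (194520, 0, 17, 120349) (.node .leaf (194521, 0, 16, 122692) .leaf)) (194522, 0, 17, 28423) (.node (.node .leaf (194523, 0, 15, 26433) .leaf) (194528, 0, 15, 157978) (.node .leaf (194529, 0, 16, 166268) .leaf)))) (194530, 0, 13, 122639) (.node (.node (.node (.node .leaf (194531, 0, 17, 252249) .leaf) (194536, 0, 13, 187873) (.node .leaf (194537, 0, 12, 33999) .leaf)) (194538, 0, 16, 72871) (.node (.node .leaf (194539, 0, 18, 130241) .leaf) (194544, 0, 16,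 4431) (.node .leaf (194545, 0, 15, 137381) .leaf))) (194546, 0, 14, 240121) (.node (.node (.node .leaf (194547, 0, 16, 127191) .leaf) (194552, 0, 15, 43799) (.node .leaf (194553, 0, 15, 193081) .leaf)) (194554, 0, 6, 213861) (.node (.node .leaf (194555, 0, 17, 72267) .leaf) (194560, 0, 16, 30163) (.node .leaf (194563, 0, 16, 116112) .leaf))))))

/-- part of the orbit tree -/
def itp5_476 : Tree := (.node (.node (.node (.node (.node (.node .leaf (194567, 0, 16, 130227) .leaf) (194568, 0, 16, 151627) (.node .leaf (194571, 0, 16, 253960) .leaf)) (194572, 0, 13, 105745) (.node (.node .leaf (194575, 0, 17, 11341) .leaf) (194576, 0, 17, 134534) (.node .leaf (194579, 0, 16, 245189) .leaf))) (194580, 0, 18, 144549) (.node (.node (.node .leaf (194583, 0, 13, 230630) .leaf) (194584, 0, 13, 103674) (.node .leaf (194587, 0, 16, 104541) .leaf)) (194588, 0, 18, 256999) (.node (.node .leaf (194591, 0, 18, 154299) .leaf) (194592, 0, 16, 228902) (.node .leaf (194595, 0, 15, 183909) .leaf)))) (194596, 0, 16, 2695) (.node (.node (.node (.node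 .leaf (194599, 0, 15, 194374) .leaf) (194600, 0, 18, 171782) (.node .leaf (194603, 0, 16, 208474) .leaf)) (194604, 0, 15, 57371) (.node (.node .leaf (194607, 0, 17, 86343) .leaf) (194608, 0, 14, 876) (.node .leaf (194611, 0, 18, 111152) .leaf))) (194612, 0, 18, 81744) (.node (.node (.node .leaf (194615, 0, 17, 249133) .leaf) (194616, 0, 14, 59888) (.node .leaf (194619, 0, 14, 88236) .leaf)) (194620, 0, 16, 203464) (.node (.node .leaf (194623, 0, 16, 206769) .leaf) (194624, 0, 14, 204629) (.node .leaf (194627, 0, 16, 175894) .leaf))))) (194628, 0, 16, 206454) (.node (.node (.node (.node (.node .leaf (194631, 0, 16, 40539) .leaf) (194632, 0, 13, 80589) (.node .leaf (194635, 0, 18, 134106) .leaf)) (194636, 0, 14, 116123) (.node (.node .leaf (194639, 0, 15, 45997) .leaf) (194640, 0, 18, 91904) (.node .leaf (194643, 0, 14, 38832) .leaf))) (194644, 0, 17, 89635) (.node (.node (.node .leaf (194647, 0, 18, 61024) .leaf) (194648, 0, 14, 117872) (.node .leaf (194651, 0, 15, 193243) .leaf)) (194652, 0, 13, 242541) (.node (.node .leaf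 (194655, 0, 15, 183288) .leaf) (194656, 0, 18, 5280) (.node .leaf (194659, 0, 13, 107747) .leaf)))) (194660, 0, 16, 11651) (.node (.node (.node (.node .leaf (194663, 0, 17, 123729) .leaf) (194664, 0, 17, 143672) (.node .leaf (194667, 0, 15, 227024) .leaf)) (194668, 0, 14, 133147) (.node (.node .leaf (194671, 0, 15, 68045) .leaf) (194672, 0, 17, 158965) (.node .leaf (194675, 0, 9, 125626) .leaf))) (194676, 0, 18, 140539) (.node (.node (.node .leaf (194679, 0, 15, 234919) .leaf) (194680, 0, 13, 18797) (.node .leaf (194683, 0, 16, 129326) .leaf)) (194684, 0, 14, 183911) (.node (.node .leaf (194687, 0, 16, 229179) .leaf) (194689, 0, 13, 188887) (.node .leaf (194690, 0, 16, 217227) .leaf))))))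

/-- part of the orbit tree -/
def itp5_477 : Tree := (.node itp5_473 (194310, 0, 16, 79355) itp5_474)

/-- part of the orbit tree -/
def itp5_478 : Tree := (.node itp5_475 (194564, 0, 14, 96141) itp5_476)

/-- part of the orbit tree -/
def itp5_479 : Tree := (.node (.node (.node (.node (.node (.node .leaf (194694, 0, 14, 232415) .leaf) (194697, 0, 15, 133963) (.node .leaf (194698, 0, 15, 104292) .leaf)) (194701, 0, 16, 29782) (.node (.node .leaf (194702, 0, 17, 110151) .leaf) (194705, 0, 17, 38689) (.node .leaf (194706, 0, 16, 75389) .leaf))) (194709, 0, 18, 190524) (.node (.node (.node .leaf (194710, 0, 17, 219488) .leaf) (194713, 0, 15, 32189) (.node .leaf (194714, 0, 15, 117985) .leaf)) (194717, 0, 14, 131744) (.node (.node .leaf (194718, 0, 13, 251410) .leaf) (194721, 0, 17, 67914) (.node .leaf (194722, 0, 13, 47369) .leaf)))) (194725, 0, 18, 77929) (.node (.node (.node (.node .leaf (194726, 0, 13, 21148) .leaf) (194729, 0, 17, 226881) (.node .leaf (194730, 0, 16, 182045) .leaf)) (194733, 0, 16, 202225) (.node (.node .leaf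 (194734, 0, 14, 47104) .leaf) (194737, 0, 19, 225567) (.node .leaf (194738, 0, 17, 23415) .leaf))) (194741, 0, 18, 215100) (.node (.node (.node .leaf (194742, 0, 16, 140394) .leaf) (194745, 0, 18, 87175) (.node .leaf (194746, 0, 12, 45547) .leaf)) (194749, 0, 17, 93604) (.node (.node .leaf (194750, 0, 17, 184054) .leaf) (194753, 0, 16, 92217) (.node .leaf (194754, 0, 17, 55418) .leaf))))) (194757, 0, 18, 50752) (.node (.node (.node (.node (.node .leaf (194758, 0, 16, 57689) .leaf) (194761, 0, 12, 152513) (.node .leaf (194762, 0, 16, 196066) .leaf)) (194765, 0, 16, 226434) (.node (.node .leaf (194766, 0, 17, 105856) .leaf) (194769, 0, 16, 200812) (.node .leaf (194770, 0, 17, 98039) .leaf))) (194773, 0, 18, 176310) (.node (.node (.node .leaf (194774, 0, 14, 197098) .leaf) (194777, 0, 17, 79348) (.node .leaf (194778, 0, 16, 34231) .leaf)) (194781, 0, 16, 68823) (.node (.node .leaf (194782, 0, 17, 256886) .leaf) (194785, 0, 19, 156620) (.node .leaf (194786, 0, 13, 250767) .leaf)))) (194789, 0, 16, 113482) (.node (.node (.node (.node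 .leaf (194790, 0, 18, 2582) .leaf) (194793, 0, 16, 208587) (.node .leaf (194794, 0, 17, 171927) .leaf)) (194797, 0, 16, 32631) (.node (.node .leaf (194798, 0, 15, 118580) .leaf) (194801, 0, 17, 111265) (.node .leaf (194802, 0, 18, 1021) .leaf))) (194805, 0, 13, 8890) (.node (.node (.node .leaf (194806, 0, 10, 163040) .leaf) (194809, 0, 17, 88125) (.node .leaf (194810, 0, 15, 233026) .leaf)) (194813, 0, 14, 206624) (.node (.node .leaf (194814, 0, 15, 169596) .leaf) (194816, 0, 14, 251815) (.node .leaf (194819, 0, 12, 157668) .leaf))))))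

/-- part of the orbit tree -/
def itp5_480 : Tree := (.node (.node (.node (.node (.node (.node .leaf (194823, 0, 12, 8498) .leaf) (194824, 0, 18, 127551) (.node .leaf (194827, 0, 18, 17020) .leaf)) (194828, 0, 15, 117532) (.node (.node .leaf (194831, 0, 15, 52142) .leaf) (194832, 0, 16, 110578) (.node .leaf (194835, 0, 17, 8113) .leaf))) (194836, 0, 15, 255640) (.node (.node (.node .leaf (194839, 0, 15, 9874) .leaf) (194840, 0, 16, 95001) (.node .leaf (194843, 0, 17, 145961) .leaf)) (194844, 0, 13, 199684) (.node (.node .leaf (194847, 0, 18, 179544) .leaf) (194848, 0, 8, 168569) (.node .leaf (194851, 0, 17, 205605) .leaf)))) (194852, 0, 16, 58737) (.node (.node (.node (.node .leaf (194855, 0, 17, 87346) .leaf) (194856, 0, 15, 195018) (.node .leaf (194859, 0, 18, 215433) .leaf)) (194860, 0, 16, 2040) (.node (.node .leaf (194863, 0, 17, 225450) .leaf) (194864, 0, 16, 173063) (.node .leaf (194867, 0, 15, 201796) .leaf))) (194868, 0, 11, 171300) (.node (.node (.node .leaf (194871, 0, 15, 208231) .leaf) (194872, 0, 16, 3603) (.node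 .leaf (194875, 0, 17, 114511) .leaf)) (194876, 0, 18, 160014) (.node (.node .leaf (194879, 0, 15, 67839) .leaf) (194880, 0, 17, 243705) (.node .leaf (194883, 0, 15, 68962) .leaf))))) (194884, 0, 11, 116964) (.node (.node (.node (.node (.node .leaf (194887, 0, 14, 78913) .leaf) (194888, 0, 15, 170169) (.node .leaf (194891, 0, 15, 191545) .leaf)) (194892, 0, 17, 74360) (.node (.node .leaf (194895, 0, 18, 37668) .leaf) (194896, 0, 15, 114959) (.node .leaf (194899, 0, 18, 226615) .leaf))) (194900, 0, 15, 245266) (.node (.node (.node .leaf (194903, 0, 14, 134990) .leaf) (194904, 0, 17, 57580) (.node .leaf (194907, 0, 16, 86191) .leaf)) (194908, 0, 14, 218254) (.node (.node .leaf (194911, 0, 15, 189906) .leaf) (194912, 0, 17, 243412) (.node .leaf (194915, 0, 19, 132759) .leaf)))) (194916, 0, 15, 46574) (.node (.node (.node (.node .leaf (194919, 0, 16, 147380) .leaf) (194920, 0, 18, 103244) (.node .leaf (194923, 0, 15, 8975) .leaf)) (194924, 0, 18, 24434) (.node (.node .leaf (194927, 0, 18, 6700) .leaf) (194928, 0, 18, 48133) (.node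 .leaf (194931, 0, 15, 32450) .leaf))) (194932, 0, 14, 181016) (.node (.node (.node .leaf (194935, 0, 17, 225860) .leaf) (194936, 0, 17, 256793) (.node .leaf (194939, 0, 17, 154458) .leaf)) (194940, 0, 17, 250426) (.node (.node .leaf (194943, 0, 17, 235736) .leaf) (194945, 0, 17, 132660) (.node .leaf (194946, 0, 17, 4232) .leaf))))))

/-- part of the orbit tree -/
def itp5_481 : Tree := (.node (.node (.node (.node (.node (.node .leaf (194950, 0, 17, 10667) .leaf) (194953, 0, 15, 230739) (.node .leaf (194954, 0, 18, 144656) .leaf)) (194957, 0, 17, 244848) (.node (.node .leaf (194958, 0, 13, 74473) .leaf) (194961, 0, 15, 252062) (.node .leaf (194962, 0, 18, 157917) .leaf))) (194965, 0, 18, 254397) (.node (.node (.node .leaf (194966, 0, 17, 245379) .leaf) (194969, 0, 13, 130310) (.node .leaf (194970, 0, 17, 76546) .leaf)) (194973, 0, 17, 115749) (.node (.node .leaf (194974, 0, 16, 218143) .leaf) (194977, 0, 17, 228158) (.node .leaf (194978, 0, 15, 203645) .leaf)))) (194981, 0, 13, 66595) (.node (.node (.node (.node .leaf (194982,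 0, 16, 205406) .leaf) (194985, 0, 17, 36518) (.node .leaf (194986, 0, 15, 81637) .leaf)) (194989, 0, 17, 46981) (.node (.node .leaf (194990, 0, 15, 24547) .leaf) (194993, 0, 15, 69064) (.node .leaf (194994, 0, 17, 90920) .leaf))) (194997, 0, 18, 226005) (.node (.node (.node .leaf (194998, 0, 17, 181129) .leaf) (195001, 0, 17, 124756) (.node .leaf (195002, 0, 16, 22024) .leaf)) (195005, 0, 13, 184272) (.node (.node .leaf (195006, 0, 17, 141589) .leaf) (195009, 0, 17, 182861) (.node .leaf (195010, 0, 16, 227854) .leaf))))) (195013, 0, 17, 8611) (.node (.node (.node (.node (.node .leaf (195014, 0, 14, 102655) .leaf) (195017, 0, 17, 61397) (.node .leaf (195018, 0, 14, 90006) .leaf)) (195021, 0, 16, 55030) (.node (.node .leaf (195022, 0, 15, 96867) .leaf) (195025, 0, 15, 10312) (.node .leaf (195026, 0, 17, 104724) .leaf))) (195029, 0, 17, 153429) (.node (.node (.node .leaf (195030, 0, 18, 255497) .leaf) (195033, 0, 15, 169856) (.node .leaf (195034, 0, 16, 206787) .leaf)) (195037, 0, 15, 175779) (.node (.node .leaf (195038, 0, 16,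 204512) .leaf) (195041, 0, 15, 205748) (.node .leaf (195042, 0, 17, 29179) .leaf)))) (195045, 0, 13, 129179) (.node (.node (.node (.node .leaf (195046, 0, 16, 18648) .leaf) (195049, 0, 15, 248104) (.node .leaf (195050, 0, 16, 152675) .leaf)) (195053, 0, 14, 253187) (.node (.node .leaf (195054, 0, 13, 1897) .leaf) (195057, 0, 17, 244205) (.node .leaf (195058, 0, 16, 58398) .leaf))) (195061, 0, 15, 229582) (.node (.node (.node .leaf (195062, 0, 17, 170755) .leaf) (195065, 0, 17, 105589) (.node .leaf (195066, 0, 16, 3714) .leaf)) (195069, 0, 16, 107862) (.node (.node .leaf (195070, 0, 18, 5397) .leaf) (195074, 0, 15, 67974) (.node .leaf (195075, 0, 17, 125408) .leaf))))))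

/-- part of the orbit tree -/
def itp5_482 : Tree := (.node (.node (.node (.node (.node (.node .leaf (195079, 0, 13, 118979) .leaf) (195082, 0, 17, 207902) (.node .leaf (195083, 0, 16, 153212) .leaf)) (195086, 0, 14, 159823) (.node (.node .leaf (195087, 0, 16, 259419) .leaf) (195090, 0, 18, 225747) (.node .leaf (195091, 0, 11, 233909) .leaf))) (195094, 0, 15, 215280) (.node (.node (.node .leaf (195095, 0, 14, 177419) .leaf) (195098, 0, 12, 162212) (.node .leaf (195099, 0, 14, 111661) .leaf)) (195102, 0, 16, 93544) (.node (.node .leaf (195103, 0, 17, 101646) .leaf) (195106, 0, 16, 104644) (.node .leaf (195107, 0, 13, 246250) .leaf)))) (195110, 0, 17, 146256) (.node (.node (.node (.node .leaf (195111, 0, 15, 187190) .leaf) (195114, 0, 11, 94808) (.node .leaf (195115, 0, 15, 207734) .leaf)) (195118, 0, 16, 7880) (.node (.node .leaf (195119, 0, 15, 87147) .leaf) (195122, 0, 18, 31270) (.node .leaf (195123, 0, 17, 112412) .leaf))) (195126, 0, 18, 17157) (.node (.node (.node .leaf (195127, 0, 16, 41827) .leaf) (195130, 0, 15, 155582)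 (.node .leaf (195131, 0, 18, 89472) .leaf)) (195134, 0, 18, 97203) (.node (.node .leaf (195135, 0, 16, 205469) .leaf) (195138, 0, 17, 156416) (.node .leaf (195139, 0, 16, 164710) .leaf))))) (195142, 0, 17, 180825) (.node (.node (.node (.node (.node .leaf (195143, 0, 18, 178757) .leaf) (195146, 0, 17, 18072) (.node .leaf (195147, 0, 16, 134902) .leaf)) (195150, 0, 13, 32699) (.node (.node .leaf (195151, 0, 13, 29163) .leaf) (195154, 0, 17, 6997) (.node .leaf (195155, 0, 15, 37532) .leaf))) (195158, 0, 15, 8822) (.node (.node (.node .leaf (195159, 0, 17, 49680) .leaf) (195162, 0, 16, 139566) (.node .leaf (195163, 0, 16, 188075) .leaf)) (195166, 0, 16, 133102) (.node (.node .leaf (195167, 0, 18, 132893) .leaf) (195170, 0, 17, 92405) (.node .leaf (195171, 0, 16, 100499) .leaf)))) (195174, 0, 16, 245587) (.node (.node (.node (.node .leaf (195175, 0, 12, 124541) .leaf) (195178, 0, 18, 76498) (.node .leaf (195179, 0, 15, 240907) .leaf)) (195182, 0, 18, 218575) (.node (.node .leaf (195183, 0, 18, 68833) .leaf) (195186, 0, 15, 243384)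 (.node .leaf (195187, 0, 16, 258246) .leaf))) (195190, 0, 16, 207235) (.node (.node (.node .leaf (195191, 0, 17, 233611) .leaf) (195194, 0, 10, 220196) (.node .leaf (195195, 0, 10, 120158) .leaf)) (195198, 0, 10, 68635) (.node (.node .leaf (195199, 0, 17, 126077) .leaf) (195200, 0, 16, 48597) .leaf)))))

/-- part of the orbit tree -/
def itp5_483 : Tree := (.node itp5_479 (194820, 0, 17, 257668) itp5_480)

/-- part of the orbit tree -/
def itp5_484 : Tree := (.node itp5_481 (195078, 0, 16, 170707) itp5_482)

/-- part of the orbit tree -/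
def itp5_485 : Tree := (.node itp5_477 (194434, 0, 15, 64143) itp5_478)

/-- part of the orbit tree -/
def itp5_486 : Tree := (.node itp5_483 (194949, 0, 15, 104936) itp5_484)

/-- part of the orbit tree -/
def itp5_487 : Tree := (.node (.node (.node (.node (.node (.node .leaf (195204, 0, 14, 194442) .leaf) (195205, 0, 16, 39910) (.node .leaf (195208, 0, 17, 60209) .leaf)) (195209, 0, 16, 134759) (.node (.node .leaf (195212, 0, 19, 53778) .leaf) (195213, 0, 17, 12916) (.node .leaf (195216, 0, 11, 46844) .leaf))) (195217, 0, 17, 37389) (.node (.node (.node .leaf (195220, 0, 16, 46142) .leaf) (195221, 0, 13, 28601) (.node .leaf (195224, 0, 17, 168804) .leaf)) (195225, 0, 18, 160514) (.node (.node .leaf (195228, 0, 17, 174663) .leaf) (195229, 0, 15, 133004) (.node .leaf (195232, 0, 16, 114911) .leaf)))) (195233, 0, 15, 75066) (.node (.node (.node (.node .leaf (195236, 0, 17, 130175) .leaf) (195237, 0, 15, 124652) (.node .leaf (195240, 0, 16, 76355) .leaf)) (195241, 0, 14, 226157) (.node (.node .leaf (195244, 0, 14, 252391) .leaf)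 (195245, 0, 16, 211329) (.node .leaf (195248, 0, 16, 243241) .leaf))) (195249, 0, 15, 126727) (.node (.node (.node .leaf (195252, 0, 17, 230442) .leaf) (195253, 0, 15, 233498) (.node .leaf (195256, 0, 15, 104593) .leaf)) (195257, 0, 16, 66971) (.node (.node .leaf (195260, 0, 14, 74664) .leaf) (195261, 0, 13, 227974) (.node .leaf (195264, 0, 18, 107567) .leaf))))) (195265, 0, 16, 179313) (.node (.node (.node (.node (.node .leaf (195268, 0, 17, 170562) .leaf) (195269, 0, 16, 50028) (.node .leaf (195272, 0, 18, 229815) .leaf)) (195273, 0, 16, 153325) (.node (.node .leaf (195276, 0, 17, 243860) .leaf) (195277, 0, 16, 219378) (.node .leaf (195280, 0, 16, 253050) .leaf))) (195281, 0, 15, 51847) (.node (.node (.node .leaf (195284, 0, 14, 60596) .leaf) (195285, 0, 17, 177562) (.node .leaf (195288, 0, 15, 162101) .leaf)) (195289, 0, 17, 8219) (.node (.node .leaf (195292, 0, 16, 114881) .leaf) (195293, 0, 16, 73895) (.node .leaf (195296, 0, 17, 104533) .leaf)))) (195297, 0, 17, 151484) (.node (.node (.node (.node .leaf (195300, 0, 13,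 255816) .leaf) (195301, 0, 17, 114278) (.node .leaf (195304, 0, 17, 35394) .leaf)) (195305, 0, 17, 27172) (.node (.node .leaf (195308, 0, 16, 45921) .leaf) (195309, 0, 14, 87290) (.node .leaf (195312, 0, 18, 257699) .leaf))) (195313, 0, 16, 14313) (.node (.node (.node .leaf (195316, 0, 12, 61100) .leaf) (195317, 0, 13, 247952) (.node .leaf (195320, 0, 18, 197695) .leaf)) (195321, 0, 14, 135793) (.node (.node .leaf (195324, 0, 18, 97058) .leaf) (195325, 0, 13, 142162) (.node .leaf (195330, 0, 12, 175090) .leaf))))))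

/-- part of the orbit tree -/
def itp5_488 : Tree := (.node (.node (.node (.node (.node (.node .leaf (195334, 0, 13, 163120) .leaf) (195335, 0, 15, 9246) (.node .leaf (195338, 0, 16, 59569) .leaf)) (195339, 0, 14, 28172) (.node (.node .leaf (195342, 0, 14, 46921) .leaf) (195343, 0, 13, 22319) (.node .leaf (195346, 0, 16, 160987) .leaf))) (195347, 0, 15, 11765) (.node (.node (.node .leaf (195350, 0, 17, 3014) .leaf) (195351, 0, 15, 2786) (.node .leaf (195354, 0, 15, 194111) .leaf)) (195355, 0, 13, 51049) (.node (.node .leaf (195358, 0, 17, 184092) .leaf) (195359, 0, 16, 143226) (.node .leaf (195362, 0, 17, 98087) .leaf)))) (195363, 0, 16, 82017) (.node (.node (.node (.node .leaf (195366, 0, 16, 104740) .leaf) (195367, 0, 16, 96578) (.node .leaf (195370, 0, 9, 103867) .leaf)) (195371, 0, 14, 248981) (.node (.node .leaf (195374, 0, 15, 256678) .leaf) (195375, 0, 15, 220378) (.node .leaf (195378, 0, 15, 199121) .leaf))) (195379, 0, 15, 210996) (.node (.node (.node .leaf (195382, 0, 18, 95948) .leaf) (195383, 0, 19, 196887) (.node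 .leaf (195386, 0, 14, 130506) .leaf)) (195387, 0, 16, 113251) (.node (.node .leaf (195390, 0, 16, 115945) .leaf) (195391, 0, 16, 74895) (.node .leaf (195394, 0, 14, 23207) .leaf))))) (195395, 0, 18, 131977) (.node (.node (.node (.node (.node .leaf (195398, 0, 16, 140730) .leaf) (195399, 0, 15, 71729) (.node .leaf (195402, 0, 18, 45115) .leaf)) (195403, 0, 15, 190741) (.node (.node .leaf (195406, 0, 15, 253391) .leaf) (195407, 0, 15, 38408) (.node .leaf (195410, 0, 14, 142417) .leaf))) (195411, 0, 13, 30079) (.node (.node (.node .leaf (195414, 0, 16, 229378) .leaf) (195415, 0, 16, 133730) (.node .leaf (195418, 0, 12, 105657) .leaf)) (195419, 0, 14, 97503) (.node (.node .leaf (195422, 0, 12, 47568) .leaf) (195423, 0, 11, 83452) (.node .leaf (195426, 0, 15, 75693) .leaf)))) (195427, 0, 15, 142055) (.node (.node (.node (.node .leaf (195430, 0, 11, 219312) .leaf) (195431, 0, 18, 136132) (.node .leaf (195434, 0, 17, 118065) .leaf)) (195435, 0, 17, 234527) (.node (.node .leaf (195438, 0, 15, 54842) .leaf) (195439, 0, 17, 13916) (.node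 .leaf (195442, 0, 11, 217435) .leaf))) (195443, 0, 17, 21170) (.node (.node (.node .leaf (195446, 0, 13, 35831) .leaf) (195447, 0, 18, 227176) (.node .leaf (195450, 0, 16, 169804) .leaf)) (195451, 0, 16, 123625) (.node (.node .leaf (195454, 0, 17, 115930) .leaf) (195455, 0, 16, 237044) (.node .leaf (195456, 0, 16, 23094) .leaf))))))

/-- part of the orbit tree -/
def itp5_489 : Tree := (.node (.node (.node (.node (.node (.node .leaf (195460, 0, 13, 140587) .leaf) (195461, 0, 16, 112024) (.node .leaf (195464, 0, 16, 215365) .leaf)) (195465, 0, 19, 190852) (.node (.node .leaf (195468, 0, 17, 225382) .leaf) (195469, 0, 15, 233472) (.node .leaf (195472, 0, 14, 142528) .leaf))) (195473, 0, 17, 30190) (.node (.node (.node .leaf (195476, 0, 10, 208299) .leaf) (195477, 0, 17, 249293) (.node .leaf (195480, 0, 17, 181852) .leaf)) (195481, 0, 16, 40818) (.node (.node .leaf (195484, 0, 18, 67635) .leaf) (195485, 0, 18, 188527) (.node .leaf (195488, 0, 17, 157480) .leaf)))) (195489, 0, 16, 228882) (.node (.node (.node (.node .leaf (195492,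 0, 16, 155147) .leaf) (195493, 0, 14, 65807) (.node .leaf (195496, 0, 16, 118176) .leaf)) (195497, 0, 18, 234638) (.node (.node .leaf (195500, 0, 14, 242365) .leaf) (195501, 0, 13, 39925) (.node .leaf (195504, 0, 15, 217546) .leaf))) (195505, 0, 15, 67812) (.node (.node (.node .leaf (195508, 0, 18, 77527) .leaf) (195509, 0, 18, 50744) (.node .leaf (195512, 0, 15, 146149) .leaf)) (195513, 0, 14, 123512) (.node (.node .leaf (195516, 0, 15, 115787) .leaf) (195517, 0, 15, 189344) (.node .leaf (195520, 0, 15, 700) .leaf))))) (195521, 0, 16, 154514) (.node (.node (.node (.node (.node .leaf (195524, 0, 18, 147320) .leaf) (195525, 0, 15, 188190) (.node .leaf (195528, 0, 16, 59424) .leaf)) (195529, 0, 13, 176398) (.node (.node .leaf (195532, 0, 16, 6880) .leaf) (195533, 0, 17, 64134) (.node .leaf (195536, 0, 15, 32270) .leaf))) (195537, 0, 17, 40552) (.node (.node (.node .leaf (195540, 0, 17, 18221) .leaf) (195541, 0, 16, 42827) (.node .leaf (195544, 0, 16, 171734) .leaf)) (195545, 0, 17, 179184) (.node (.node .leaf (195548, 0, 13,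 57803) .leaf) (195549, 0, 15, 164563) (.node .leaf (195552, 0, 17, 98230) .leaf)))) (195553, 0, 16, 206488) (.node (.node (.node (.node .leaf (195556, 0, 12, 196779) .leaf) (195557, 0, 17, 120043) (.node .leaf (195560, 0, 16, 206902) .leaf)) (195561, 0, 14, 247888) (.node (.node .leaf (195564, 0, 15, 200981) .leaf) (195565, 0, 15, 111385) (.node .leaf (195568, 0, 12, 198976) .leaf))) (195569, 0, 18, 86126) (.node (.node (.node .leaf (195572, 0, 17, 216280) .leaf) (195573, 0, 16, 240830) (.node .leaf (195576, 0, 18, 254940) .leaf)) (195577, 0, 13, 113394) (.node (.node .leaf (195580, 0, 17, 105665) .leaf) (195581, 0, 13, 247279) (.node .leaf (195585, 0, 16, 102173) .leaf))))))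

/-- part of the orbit tree -/
def itp5_490 : Tree := (.node (.node (.node (.node (.node (.node .leaf (195589, 0, 18, 9047) .leaf) (195591, 0, 16, 58907) (.node .leaf (195593, 0, 17, 177878) .leaf)) (195595, 0, 16, 89764) (.node (.node .leaf (195597, 0, 16, 234406) .leaf) (195599, 0, 16, 205241) (.node .leaf (195601, 0, 14, 10940) .leaf))) (195603, 0, 17, 246478) (.node (.node (.node .leaf (195605, 0, 11, 249451) .leaf) (195607, 0, 17, 171598) (.node .leaf (195609, 0, 15, 119504) .leaf)) (195611, 0, 16, 33525) (.node (.node .leaf (195613, 0, 15, 180029) .leaf) (195615, 0, 15, 87887) (.node .leaf (195617, 0, 16, 165096) .leaf)))) (195619, 0, 18, 51506) (.node (.node (.node (.node .leaf (195621, 0, 13, 179659) .leaf) (195623, 0, 17, 257518) (.node .leaf (195625, 0, 11, 41328) .leaf)) (195627, 0, 17, 127317) (.node (.node .leaf (195629, 0, 16, 111809) .leaf) (195631, 0, 16, 116854) (.node .leaf (195633, 0, 15, 87990) .leaf))) (195635, 0, 15, 109720) (.node (.node (.node .leaf (195637, 0, 15, 207019) .leaf) (195639, 0, 9, 103867)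 (.node .leaf (195641, 0, 15, 113962) .leaf)) (195643, 0, 16, 231680) (.node (.node .leaf (195645, 0, 16, 188422) .leaf) (195647, 0, 15, 241699) (.node .leaf (195649, 0, 17, 189851) .leaf))))) (195651, 0, 13, 243134) (.node (.node (.node (.node (.node .leaf (195653, 0, 14, 187576) .leaf) (195655, 0, 15, 232605) (.node .leaf (195657, 0, 15, 49155) .leaf)) (195659, 0, 17, 102438) (.node (.node .leaf (195661, 0, 13, 37185) .leaf) (195663, 0, 16, 108805) (.node .leaf (195665, 0, 10, 29238) .leaf))) (195667, 0, 15, 236100) (.node (.node (.node .leaf (195669, 0, 17, 42221) .leaf) (195671, 0, 17, 124249) (.node .leaf (195673, 0, 16, 39082) .leaf)) (195675, 0, 16, 225496) (.node (.node .leaf (195677, 0, 15, 190391) .leaf) (195679, 0, 16, 69573) (.node .leaf (195681, 0, 16, 227786) .leaf)))) (195683, 0, 13, 48715) (.node (.node (.node (.node .leaf (195685, 0, 18, 67287) .leaf) (195687, 0, 18, 34664) (.node .leaf (195689, 0, 17, 234326) .leaf)) (195691, 0, 17, 170963) (.node (.node .leaf (195693, 0, 16, 258773) .leaf) (195695, 0, 16,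 172784) (.node .leaf (195697, 0, 16, 69436) .leaf))) (195699, 0, 15, 181790) (.node (.node (.node .leaf (195701, 0, 17, 225313) .leaf) (195703, 0, 17, 196413) (.node .leaf (195705, 0, 18, 124320) .leaf)) (195707, 0, 18, 58246) (.node (.node .leaf (195709, 0, 18, 100992) .leaf) (195711, 0, 16, 29391) (.node .leaf (195712, 0, 16, 260209) .leaf))))))

/-- part of the orbit tree -/
def itp5_491 : Tree := (.node itp5_487 (195331, 0, 11, 154371) itp5_488)

/-- part of the orbit tree -/
def itp5_492 : Tree := (.node itp5_489 (195587, 0, 15, 57144) itp5_490)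

/-- part of the orbit tree -/
def itp5_493 : Tree := (.node (.node (.node (.node (.node (.node .leaf (195716, 0, 15, 246098) .leaf) (195718, 0, 16, 168311) (.node .leaf (195720, 0, 11, 122345) .leaf)) (195722, 0, 13, 47075) (.node (.node .leaf (195724, 0, 14, 73868) .leaf) (195726, 0, 17, 46319) (.node .leaf (195728, 0, 11, 98340) .leaf))) (195730, 0, 16, 53249) (.node (.node (.node .leaf (195732, 0, 17, 244966) .leaf) (195734, 0, 17, 59682) (.node .leaf (195736, 0, 16, 76135) .leaf)) (195738, 0, 18, 180501) (.node (.node .leaf (195740, 0, 14, 236703) .leaf) (195742, 0, 15, 183482) (.node .leaf (195744, 0, 16, 62340) .leaf)))) (195746, 0, 14, 107425) (.node (.node (.node (.node .leaf (195748, 0, 15, 51879) .leaf) (195750, 0, 17, 221032) (.node .leaf (195752, 0, 18, 139931) .leaf)) (195754, 0, 17, 230969) (.node (.node .leaf (195756, 0, 16, 192319) .leaf) (195758, 0, 17, 243188) (.node .leaf (195760, 0, 14, 166865) .leaf))) (195762, 0, 13, 252916) (.node (.node (.node .leaf (195764, 0, 17, 180716) .leaf) (195766, 0, 17, 76190)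 (.node .leaf (195768, 0, 18, 44617) .leaf)) (195770, 0, 16, 130668) (.node (.node .leaf (195772, 0, 14, 142192) .leaf) (195774, 0, 16, 116559) (.node .leaf (195776, 0, 12, 257415) .leaf))))) (195778, 0, 12, 115410) (.node (.node (.node (.node (.node .leaf (195780, 0, 17, 43988) .leaf) (195782, 0, 15, 130033) (.node .leaf (195784, 0, 14, 178031) .leaf)) (195786, 0, 16, 61289) (.node (.node .leaf (195788, 0, 13, 96262) .leaf) (195790, 0, 15, 253545) (.node .leaf (195792, 0, 19, 105329) .leaf))) (195794, 0, 17, 160515) (.node (.node (.node .leaf (195796, 0, 18, 185217) .leaf) (195798, 0, 15, 3102) (.node .leaf (195800, 0, 16, 94701) .leaf)) (195802, 0, 15, 170399) (.node (.node .leaf (195804, 0, 15, 63001) .leaf) (195806, 0, 18, 108092) (.node .leaf (195808, 0, 14, 235778) .leaf)))) (195810, 0, 17, 182567) (.node (.node (.node (.node .leaf (195812, 0, 13, 237601) .leaf) (195814, 0, 18, 198626) (.node .leaf (195816, 0, 16, 113818) .leaf)) (195818, 0, 14, 103011) (.node (.node .leaf (195820, 0, 17, 99769) .leaf) (195822, 0, 18,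 54684) (.node .leaf (195824, 0, 15, 123223) .leaf))) (195826, 0, 16, 200201) (.node (.node (.node .leaf (195828, 0, 17, 170342) .leaf) (195830, 0, 17, 94484) (.node .leaf (195832, 0, 14, 3303) .leaf)) (195834, 0, 18, 169194) (.node (.node .leaf (195836, 0, 14, 160762) .leaf) (195838, 0, 19, 175561) (.node .leaf (195841, 0, 16, 179113) .leaf))))))

/-- part of the orbit tree -/
def itp5_494 : Tree := (.node (.node (.node (.node (.node (.node .leaf (195845, 0, 17, 50356) .leaf) (195847, 0, 14, 208070) (.node .leaf (195849, 0, 16, 2289) .leaf)) (195851, 0, 14, 112967) (.node (.node .leaf (195853, 0, 17, 11816) .leaf) (195855, 0, 14, 90615) (.node .leaf (195857, 0, 17, 52575) .leaf))) (195859, 0, 16, 66841) (.node (.node (.node .leaf (195861, 0, 18, 176706) .leaf) (195863, 0, 14, 88624) (.node .leaf (195865, 0, 16, 10179) .leaf)) (195867, 0, 9, 204929) (.node (.node .leaf (195869, 0, 14, 153822) .leaf) (195871, 0, 16, 110764) (.node .leaf (195873, 0, 14, 247459) .leaf)))) (195875, 0, 17, 30393) (.node (.node (.node (.node .leaf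 (195877, 0, 17, 73663) .leaf) (195879, 0, 17, 152012) (.node .leaf (195881, 0, 13, 207935) .leaf)) (195883, 0, 16, 50253) (.node (.node .leaf (195885, 0, 16, 86818) .leaf) (195887, 0, 12, 179024) (.node .leaf (195889, 0, 12, 110677) .leaf))) (195891, 0, 14, 153639) (.node (.node (.node .leaf (195893, 0, 15, 223210) .leaf) (195895, 0, 11, 145359) (.node .leaf (195897, 0, 9, 97105) .leaf)) (195899, 0, 16, 176827) (.node (.node .leaf (195901, 0, 14, 206292) .leaf) (195903, 0, 14, 52646) (.node .leaf (195905, 0, 15, 83951) .leaf))))) (195907, 0, 17, 6090) (.node (.node (.node (.node (.node .leaf (195909, 0, 19, 39998) .leaf) (195911, 0, 15, 226380) (.node .leaf (195913, 0, 18, 133567) .leaf)) (195915, 0, 16, 123341) (.node (.node .leaf (195917, 0, 15, 219988) .leaf) (195919, 0, 15, 237264) (.node .leaf (195921, 0, 11, 38357) .leaf))) (195923, 0, 16, 228775) (.node (.node (.node .leaf (195925, 0, 16, 198297) .leaf) (195927, 0, 16, 153276) (.node .leaf (195929, 0, 19, 32585) .leaf)) (195931, 0, 12, 235323) (.node (.node .leaf (195933,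 0, 17, 74497) .leaf) (195935, 0, 14, 124966) (.node .leaf (195937, 0, 17, 237097) .leaf)))) (195939, 0, 11, 203839) (.node (.node (.node (.node .leaf (195941, 0, 13, 123188) .leaf) (195943, 0, 14, 206108) (.node .leaf (195945, 0, 16, 27010) .leaf)) (195947, 0, 12, 40135) (.node (.node .leaf (195949, 0, 16, 68520) .leaf) (195951, 0, 18, 65668) (.node .leaf (195953, 0, 14, 125151) .leaf))) (195955, 0, 17, 91242) (.node (.node (.node .leaf (195957, 0, 17, 235458) .leaf) (195959, 0, 16, 32688) (.node .leaf (195961, 0, 16, 66115) .leaf)) (195963, 0, 14, 213490) (.node (.node .leaf (195965, 0, 15, 141556) .leaf) (195967, 0, 18, 227537) (.node .leaf (195968, 0, 15, 23045) .leaf))))))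

/-- part of the orbit tree -/
def itp5_495 : Tree := (.node (.node (.node (.node (.node (.node .leaf (195972, 0, 18, 25382) .leaf) (195974, 0, 18, 181633) (.node .leaf (195976, 0, 16, 243826) .leaf)) (195978, 0, 18, 208824) (.node (.node .leaf (195980, 0, 15, 149182) .leaf) (195982, 0, 17, 202395) (.node .leaf (195984, 0, 18, 74776) .leaf))) (195986, 0, 16, 183402) (.node (.node (.node .leaf (195988, 0, 15, 219909) .leaf) (195990, 0, 17, 215894) (.node .leaf (195992, 0, 14, 118404) .leaf)) (195994, 0, 16, 141046) (.node (.node .leaf (195996, 0, 16, 16107) .leaf) (195998, 0, 13, 23019) (.node .leaf (196000, 0, 15, 143332) .leaf)))) (196002, 0, 19, 116630) (.node (.node (.node (.node .leaf (196004, 0, 15, 223443) .leaf) (196006, 0, 14, 145654) (.node .leaf (196008, 0, 16, 181624) .leaf)) (196010, 0, 16, 9293) (.node (.node .leaf (196012, 0, 15, 47717) .leaf) (196014, 0, 15, 217623) (.node .leaf (196016, 0, 16, 76197) .leaf))) (196018, 0, 17, 242016) (.node (.node (.node .leaf (196020, 0, 15, 140815) .leaf) (196022, 0, 17, 118397)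 (.node .leaf (196024, 0, 17, 45966) .leaf)) (196026, 0, 17, 154648) (.node (.node .leaf (196028, 0, 18, 183443) .leaf) (196030, 0, 18, 74977) (.node .leaf (196032, 0, 15, 199268) .leaf))))) (196034, 0, 13, 57878) (.node (.node (.node (.node (.node .leaf (196036, 0, 9, 95609) .leaf) (196038, 0, 18, 171275) (.node .leaf (196040, 0, 16, 70939) .leaf)) (196042, 0, 18, 17726) (.node (.node .leaf (196044, 0, 15, 76856) .leaf) (196046, 0, 14, 31773) (.node .leaf (196048, 0, 15, 97426) .leaf))) (196050, 0, 17, 6387) (.node (.node (.node .leaf (196052, 0, 17, 197519) .leaf) (196054, 0, 15, 8656) (.node .leaf (196056, 0, 16, 224590) .leaf)) (196058, 0, 13, 146795) (.node (.node .leaf (196060, 0, 13, 218221) .leaf) (196062, 0, 13, 353) (.node .leaf (196064, 0, 15, 15222) .leaf)))) (196066, 0, 15, 106268) (.node (.node (.node (.node .leaf (196068, 0, 17, 2163) .leaf) (196070, 0, 14, 253953) (.node .leaf (196072, 0, 12, 138990) .leaf)) (196074, 0, 17, 216779) (.node (.node .leaf (196076, 0, 16, 58095) .leaf) (196078, 0, 16, 227304) (.node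 .leaf (196080, 0, 17, 148259) .leaf))) (196082, 0, 16, 256490) (.node (.node (.node .leaf (196084, 0, 10, 162304) .leaf) (196086, 0, 16, 104183) (.node .leaf (196088, 0, 16, 60164) .leaf)) (196090, 0, 16, 197494) (.node (.node .leaf (196092, 0, 15, 24472) .leaf) (196094, 0, 13, 97387) (.node .leaf (196096, 0, 15, 82699) .leaf))))))

/-- part of the orbit tree -/
def itp5_496 : Tree := (.node (.node (.node (.node (.node (.node .leaf (196098, 0, 15, 4910) .leaf) (196099, 0, 16, 110868) (.node .leaf (196100, 0, 17, 96808) .leaf)) (196101, 0, 18, 105038) (.node (.node .leaf (196102, 0, 16, 10765) .leaf) (196103, 0, 17, 51819) (.node .leaf (196104, 0, 17, 222867) .leaf))) (196105, 0, 14, 231157) (.node (.node (.node .leaf (196106, 0, 19, 197286) .leaf) (196107, 0, 15, 88968) (.node .leaf (196108, 0, 15, 221104) .leaf)) (196109, 0, 14, 52455) (.node (.node .leaf (196110, 0, 17, 97723) .leaf) (196111, 0, 18, 192499) (.node .leaf (196112, 0, 13, 211806) .leaf)))) (196113, 0, 10, 12176) (.node (.node (.node (.node .leaf (196114, 0,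 19, 158587) .leaf) (196115, 0, 13, 166685) (.node .leaf (196116, 0, 18, 2467) .leaf)) (196117, 0, 16, 254491) (.node (.node .leaf (196118, 0, 15, 254417) .leaf) (196119, 0, 17, 112895) (.node .leaf (196120, 0, 16, 171042) .leaf))) (196121, 0, 17, 130720) (.node (.node (.node .leaf (196122, 0, 11, 95312) .leaf) (196123, 0, 11, 208254) (.node .leaf (196124, 0, 14, 75749) .leaf)) (196125, 0, 14, 178705) (.node (.node .leaf (196126, 0, 17, 199501) .leaf) (196127, 0, 16, 86627) (.node .leaf (196128, 0, 17, 97602) .leaf))))) (196129, 0, 16, 174232) (.node (.node (.node (.node (.node .leaf (196130, 0, 16, 202971) .leaf) (196131, 0, 17, 260285) (.node .leaf (196132, 0, 13, 160221) .leaf)) (196133, 0, 15, 168379) (.node (.node .leaf (196134, 0, 18, 59949) .leaf) (196135, 0, 16, 246174) (.node .leaf (196136, 0, 17, 104414) .leaf))) (196137, 0, 17, 249584) (.node (.node (.node .leaf (196138, 0, 17, 81219) .leaf) (196139, 0, 17, 122149) (.node .leaf (196140, 0, 17, 21573) .leaf)) (196141, 0, 16, 111085) (.node (.node .leaf (196142, 0,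 16, 177) .leaf) (196143, 0, 15, 154015) (.node .leaf (196144, 0, 14, 199604) .leaf)))) (196145, 0, 18, 53453) (.node (.node (.node (.node .leaf (196146, 0, 16, 58310) .leaf) (196147, 0, 18, 98536) (.node .leaf (196148, 0, 16, 2440) .leaf)) (196149, 0, 18, 208263) (.node (.node .leaf (196150, 0, 16, 171227) .leaf) (196151, 0, 18, 113099) (.node .leaf (196152, 0, 17, 136499) .leaf))) (196153, 0, 15, 193877) (.node (.node (.node .leaf (196154, 0, 11, 214294) .leaf) (196155, 0, 14, 151668) (.node .leaf (196156, 0, 16, 106037) .leaf)) (196157, 0, 17, 183414) (.node (.node .leaf (196158, 0, 16, 161351) .leaf) (196159, 0, 15, 12137) .leaf)))))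

/-- part of the orbit tree -/
def itp5_497 : Tree := (.node itp5_493 (195843, 0, 17, 87003) itp5_494)

/-- part of the orbit tree -/
def itp5_498 : Tree := (.node itp5_495 (196097, 0, 17, 107373) itp5_496)

/-- part of the orbit tree -/
def itp5_499 : Tree := (.node itp5_491 (195457, 0, 11, 131864) itp5_492)

/-- part of the orbit tree -/
def itp5_500 : Tree := (.node itp5_497 (195970, 0, 12, 68128) itp5_498)

/-- part of the orbit tree -/
def itp5_501 : Tree := (.node itp5_485 (194693, 0, 16, 146332) itp5_486)

/-- part of the orbit tree -/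
def itp5_502 : Tree := (.node itp5_499 (195714, 0, 18, 23935) itp5_500)

/-- part of the orbit tree -/
def itp5_503 : Tree := (.node itp5_471 (193157, 0, 16, 57049) itp5_472)

/-- part of the orbit tree -/
def itp5_504 : Tree := (.node itp5_501 (195201, 0, 16, 189691) itp5_502)

/-- part of the orbit tree -/
def itp5_505 : Tree := (.node itp5_441 (190090, 0, 17, 75141) itp5_442)

/-- part of the orbit tree -/
def itp5_506 : Tree := (.node itp5_503 (194178, 0, 18, 7532) itp5_504)

/-- part of the orbit tree -/
def itp5_507 : Tree := (.node itp5_379 (183956, 0, 17, 127108) itp5_380)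

/-- part of the orbit tree -/
def itp5_508 : Tree := (.node itp5_505 (192132, 0, 15, 194608) itp5_506)

/-- part of the orbit tree -/
def itp5_509 : Tree := (.node itp5_253 (171688, 0, 17, 51413) itp5_254)

/-- part of the orbit tree -/
def itp5_510 : Tree := (.node itp5_507 (188040, 0, 18, 205477) itp5_508)

/-- part of the orbit tree -/
def itr_5 : Tree := (.node itp5_509 (179856, 0, 16, 85457) itp5_510)

end Cfsg.Agent.Lib.Helper28.J3IsoData
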