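import Cfsg.Agent.Lib.Helper28.BSGSF4

/-!
# The orbit of the triple cover of `J₃` on isotropic vectors: part 6 of the orbit tree

Generated by a script.
-/

set_option autoImplicit false

namespace Cfsg.Agent.Lib.Helper28.J3IsoData

open Cfsg.Agent.Lib.Helper28.BSGSMat (Tree)

/-- part of the orbit tree -/
def itp6_1 : Tree := (.node (.node (.node (.node (.node (.node .leaf (196161, 0, 15, 182763) .leaf) (196162, 0, 14, 227752) (.node .leaf (196163, 0, 17, 125342) .leaf)) (196164, 0, 16, 141279) (.node (.node .leaf (196165, 0, 16, 192712) .leaf) (196166, 0, 16, 213131) (.node .leaf (196167, 0, 15, 237805) .leaf))) (196168, 0, 16, 3093) (.node (.node (.node .leaf (196169, 0, 16, 60531) .leaf) (196170, 0, 16, 89136) (.node .leaf (196171, 0, 14, 66306) .leaf)) (196172, 0, 16, 183619) (.node (.node .leaf (196173, 0, 16, 37997) .leaf) (196174, 0, 17, 75057) (.node .leaf (196175, 0, 16, 228383) .leaf)))) (196176, 0, 15, 142900) (.node (.node (.node (.node .leaf (196177, 0, 16, 30490) .leaf) (196178, 0, 16, 116294) (.node .leaf (196179,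 0, 15, 123291) .leaf)) (196180, 0, 12, 20777) (.node (.node .leaf (196181, 0, 16, 133127) .leaf) (196182, 0, 17, 80094) (.node .leaf (196183, 0, 13, 122997) .leaf))) (196184, 0, 16, 160832) (.node (.node (.node .leaf (196185, 0, 14, 40326) .leaf) (196186, 0, 18, 77018) (.node .leaf (196187, 0, 16, 246787) .leaf)) (196188, 0, 17, 48053) (.node (.node .leaf (196189, 0, 17, 175365) .leaf) (196190, 0, 19, 204102) (.node .leaf (196191, 0, 18, 261408) .leaf))))) (196192, 0, 17, 74360) (.node (.node (.node (.node (.node .leaf (196193, 0, 11, 115230) .leaf) (196194, 0, 16, 183738) (.node .leaf (196195, 0, 14, 38036) .leaf)) (196196, 0, 14, 219861) (.node (.node .leaf (196197, 0, 17, 129853) .leaf) (196198, 0, 13, 45735) (.node .leaf (196199, 0, 15, 43800) .leaf))) (196200, 0, 16, 118612) (.node (.node (.node .leaf (196201, 0, 18, 255878) .leaf) (196202, 0, 17, 153541) (.node .leaf (196203, 0, 15, 32264) .leaf)) (196204, 0, 16, 212675) (.node (.node .leaf (196205, 0, 15, 253605) .leaf) (196206, 0, 16, 22587) (.node .leaf (196207, 0,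 16, 167552) .leaf)))) (196208, 0, 14, 217918) (.node (.node (.node (.node .leaf (196209, 0, 18, 244299) .leaf) (196210, 0, 18, 47948) (.node .leaf (196211, 0, 16, 191086) .leaf)) (196212, 0, 13, 221966) (.node (.node .leaf (196213, 0, 14, 226573) .leaf) (196214, 0, 17, 181329) (.node .leaf (196215, 0, 16, 40319) .leaf))) (196216, 0, 18, 244130) (.node (.node (.node .leaf (196217, 0, 17, 106451) .leaf) (196218, 0, 10, 12176) (.node .leaf (196219, 0, 16, 133374) .leaf)) (196220, 0, 16, 116415) (.node (.node .leaf (196221, 0, 12, 237457) .leaf) (196222, 0, 16, 143053) (.node .leaf (196223, 0, 17, 63189) .leaf))))))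

/-- part of the orbit tree -/
def itp6_2 : Tree := (.node (.node (.node (.node (.node (.node .leaf (196353, 0, 18, 179845) .leaf) (196354, 0, 13, 242010) (.node .leaf (196355, 0, 15, 217404) .leaf)) (196356, 0, 14, 170166) (.node (.node .leaf (196357, 0, 14, 49560) .leaf) (196358, 0, 14, 231545) (.node .leaf (196359, 0, 15, 207338) .leaf))) (196360, 0, 13, 50407) (.node (.node (.node .leaf (196361, 0, 15, 9345) .leaf) (196362, 0, 15, 103618) (.node .leaf (196363, 0, 17, 113771) .leaf)) (196364, 0, 18, 160298) (.node (.node .leaf (196365, 0, 15, 7586) .leaf) (196366, 0, 14, 105048) (.node .leaf (196367, 0, 16, 85383) .leaf)))) (196368, 0, 17, 39210) (.node (.node (.node (.node .leaf (196369, 0, 16, 31052) .leaf) (196370, 0, 15, 117007) (.node .leaf (196371, 0, 12, 76137) .leaf)) (196372, 0, 15, 40969) (.node (.node .leaf (196373, 0, 17, 178030) .leaf) (196374, 0, 16, 127020) (.node .leaf (196375, 0, 16, 69706) .leaf))) (196376, 0, 12, 179378) (.node (.node (.node .leaf (196377, 0, 15, 154836) .leaf) (196378, 0, 14, 257175)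 (.node .leaf (196379, 0, 16, 248477) .leaf)) (196380, 0, 16, 165265) (.node (.node .leaf (196381, 0, 16, 155122) .leaf) (196382, 0, 16, 257198) (.node .leaf (196383, 0, 15, 112000) .leaf))))) (196384, 0, 15, 105121) (.node (.node (.node (.node (.node .leaf (196385, 0, 16, 68332) .leaf) (196386, 0, 18, 160467) (.node .leaf (196387, 0, 16, 11261) .leaf)) (196388, 0, 18, 119721) (.node (.node .leaf (196389, 0, 17, 113810) .leaf) (196390, 0, 15, 3534) (.node .leaf (196391, 0, 16, 152800) .leaf))) (196392, 0, 19, 94269) (.node (.node (.node .leaf (196393, 0, 16, 208756) .leaf) (196394, 0, 14, 171831) (.node .leaf (196395, 0, 18, 163665) .leaf)) (196396, 0, 15, 259633) (.node (.node .leaf (196397, 0, 19, 202327) .leaf) (196398, 0, 13, 173588) (.node .leaf (196399, 0, 15, 149106) .leaf)))) (196400, 0, 17, 234207) (.node (.node (.node (.node .leaf (196401, 0, 16, 225977) .leaf) (196402, 0, 15, 1061) (.node .leaf (196403, 0, 15, 139932) .leaf)) (196404, 0, 16, 103242) (.node (.node .leaf (196405, 0, 16, 248420) .leaf) (196406, 0, 17,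 162616) (.node .leaf (196407, 0, 14, 138175) .leaf))) (196408, 0, 17, 112455) (.node (.node (.node .leaf (196409, 0, 14, 90085) .leaf) (196410, 0, 14, 61113) (.node .leaf (196411, 0, 17, 178071) .leaf)) (196412, 0, 16, 101988) (.node (.node .leaf (196413, 0, 16, 205048) .leaf) (196414, 0, 14, 168356) (.node .leaf (196415, 0, 16, 15911) .leaf))))))

/-- part of the orbit tree -/
def itp6_3 : Tree := (.node (.node (.node (.node (.node (.node .leaf (196417, 0, 10, 93087) .leaf) (196418, 0, 17, 56284) (.node .leaf (196419, 0, 15, 69245) .leaf)) (196420, 0, 16, 180284) (.node (.node .leaf (196421, 0, 11, 86716) .leaf) (196422, 0, 18, 75854) (.node .leaf (196423, 0, 13, 225632) .leaf))) (196424, 0, 15, 241249) (.node (.node (.node .leaf (196425, 0, 16, 134291) .leaf) (196426, 0, 16, 245199) (.node .leaf (196427, 0, 15, 138786) .leaf)) (196428, 0, 12, 235330) (.node (.node .leaf (196429, 0, 17, 29582) .leaf) (196430, 0, 12, 115410) (.node .leaf (196431, 0, 16, 141057) .leaf)))) (196432, 0, 19, 182743) (.node (.node (.node (.node .leaf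 (196433, 0, 13, 201674) .leaf) (196434, 0, 16, 172937) (.node .leaf (196435, 0, 14, 148463) .leaf)) (196436, 0, 14, 46794) (.node (.node .leaf (196437, 0, 17, 207593) .leaf) (196438, 0, 17, 220856) (.node .leaf (196439, 0, 16, 67478) .leaf))) (196440, 0, 16, 140107) (.node (.node (.node .leaf (196441, 0, 16, 79442) .leaf) (196442, 0, 19, 34321) (.node .leaf (196443, 0, 17, 234007) .leaf)) (196444, 0, 16, 23638) (.node (.node .leaf (196445, 0, 15, 132472) .leaf) (196446, 0, 16, 242724) (.node .leaf (196447, 0, 17, 126218) .leaf))))) (196448, 0, 14, 115243) (.node (.node (.node (.node (.node .leaf (196449, 0, 14, 236293) .leaf) (196450, 0, 16, 249897) (.node .leaf (196451, 0, 16, 29559) .leaf)) (196452, 0, 16, 178479) (.node (.node .leaf (196453, 0, 17, 153929) .leaf) (196454, 0, 15, 256266) (.node .leaf (196455, 0, 15, 134250) .leaf))) (196456, 0, 18, 42388) (.node (.node (.node .leaf (196457, 0, 19, 225689) .leaf) (196458, 0, 17, 128433) (.node .leaf (196459, 0, 15, 39403) .leaf)) (196460, 0, 16, 40119) (.node (.node .leaf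 (196461, 0, 15, 31953) .leaf) (196462, 0, 13, 49112) (.node .leaf (196463, 0, 17, 77044) .leaf)))) (196464, 0, 14, 242909) (.node (.node (.node (.node .leaf (196465, 0, 15, 6207) .leaf) (196466, 0, 16, 23727) (.node .leaf (196467, 0, 15, 83994) .leaf)) (196468, 0, 15, 49530) (.node (.node .leaf (196469, 0, 16, 8476) .leaf) (196470, 0, 18, 102751) (.node .leaf (196471, 0, 15, 94521) .leaf))) (196472, 0, 16, 220737) (.node (.node (.node .leaf (196473, 0, 15, 67439) .leaf) (196474, 0, 16, 46643) (.node .leaf (196475, 0, 16, 224642) .leaf)) (196476, 0, 19, 74076) (.node (.node .leaf (196477, 0, 17, 227442) .leaf) (196478, 0, 16, 182574) (.node .leaf (196479, 0, 18, 36864) .leaf))))))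

/-- part of the orbit tree -/
def itp6_4 : Tree := (.node (.node (.node (.node (.node (.node .leaf (196611, 0, 13, 127735) .leaf) (196613, 0, 18, 201183) (.node .leaf (196614, 0, 16, 120004) .leaf)) (196617, 0, 7, 68964) (.node (.node .leaf (196618, 0, 18, 48423) .leaf) (196620, 0, 15, 185898) (.node .leaf (196623, 0, 18, 223094) .leaf))) (196625, 0, 18, 86185) (.node (.node (.node .leaf (196626, 0, 18, 57578) .leaf) (196628, 0, 18, 100844) (.node .leaf (196631, 0, 17, 14767) .leaf)) (196632, 0, 14, 188353) (.node (.node .leaf (196635, 0, 17, 224925) .leaf) (196637, 0, 16, 216082) (.node .leaf (196638, 0, 11, 195665) .leaf)))) (196641, 0, 14, 8969) (.node (.node (.node (.node .leaf (196642, 0, 16, 103242) .leaf) (196644, 0, 11, 213436) (.node .leaf (196647, 0, 15, 84495) .leaf)) (196648, 0, 16, 119869) (.node (.node .leaf (196651, 0, 17, 25953) .leaf) (196653, 0, 16, 127502) (.node .leaf (196654, 0, 14, 233457) .leaf))) (196656, 0, 14, 179002) (.node (.node (.node .leaf (196659, 0, 16, 199545) .leaf) (196661, 0, 14, 224868)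 (.node .leaf (196662, 0, 16, 188216) .leaf)) (196665, 0, 14, 130021) (.node (.node .leaf (196666, 0, 17, 118407) .leaf) (196668, 0, 14, 42881) (.node .leaf (196671, 0, 18, 27786) .leaf))))) (196673, 0, 18, 17018) (.node (.node (.node (.node (.node .leaf (196674, 0, 15, 258899) .leaf) (196676, 0, 17, 156732) (.node .leaf (196679, 0, 17, 251232) .leaf)) (196680, 0, 13, 165764) (.node (.node .leaf (196683, 0, 15, 82145) .leaf) (196685, 0, 11, 155329) (.node .leaf (196686, 0, 12, 91858) .leaf))) (196688, 0, 16, 159191) (.node (.node (.node .leaf (196691, 0, 15, 223754) .leaf) (196693, 0, 16, 150500) (.node .leaf (196694, 0, 16, 242511) .leaf)) (196697, 0, 18, 8119) (.node (.node .leaf (196698, 0, 13, 110580) .leaf) (196700, 0, 16, 50930) (.node .leaf (196703, 0, 12, 84234) .leaf)))) (196704, 0, 13, 91691) (.node (.node (.node (.node .leaf (196707, 0, 12, 137642) .leaf) (196709, 0, 16, 81944) (.node .leaf (196710, 0, 17, 61764) .leaf)) (196713, 0, 16, 251289) (.node (.node .leaf (196714, 0, 17, 156869) .leaf) (196716, 0, 17, 111954)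 (.node .leaf (196719, 0, 13, 1297) .leaf))) (196721, 0, 16, 78298) (.node (.node (.node .leaf (196722, 0, 16, 33177) .leaf) (196724, 0, 15, 125087) (.node .leaf (196727, 0, 15, 22748) .leaf)) (196728, 0, 14, 260673) (.node (.node .leaf (196731, 0, 15, 148583) .leaf) (196733, 0, 16, 208225) (.node .leaf (196734, 0, 16, 171298) .leaf))))))

/-- part of the orbit tree -/
def itp6_5 : Tree := (.node itp6_1 (196352, 0, 12, 188799) itp6_2)

/-- part of the orbit tree -/
def itp6_6 : Tree := (.node itp6_3 (196608, 0, 16, 247962) itp6_4)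

/-- part of the orbit tree -/
def itp6_7 : Tree := (.node (.node (.node (.node (.node (.node .leaf (196739, 0, 15, 148126) .leaf) (196741, 0, 12, 251377) (.node .leaf (196742, 0, 17, 156845) .leaf)) (196745, 0, 17, 236142) (.node (.node .leaf (196746, 0, 16, 61740) .leaf) (196748, 0, 16, 213803) (.node .leaf (196751, 0, 15, 55071) .leaf))) (196753, 0, 15, 247715) (.node (.node (.node .leaf (196754, 0, 16, 161760) .leaf) (196756, 0, 15, 204518) (.node .leaf (196759, 0, 14, 150389) .leaf)) (196760, 0, 18, 94120) (.node (.node .leaf (196763, 0, 17, 57076) .leaf) (196765, 0, 16, 121624) (.node .leaf (196766, 0, 18, 27483) .leaf)))) (196769, 0, 16, 177155) (.node (.node (.node (.node .leaf (196770, 0, 15, 197696) .leaf) (196772, 0, 14, 61909) (.node .leaf (196775, 0, 16, 82057) .leaf)) (196776, 0, 16, 156756) (.node (.node .leaf (196779, 0, 11, 251144) .leaf) (196781, 0, 15, 148071) (.node .leaf (196782, 0, 14, 258875) .leaf))) (196784, 0, 13, 11312) (.node (.node (.node .leaf (196787, 0, 15, 84322) .leaf) (196789, 0, 17, 62837)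 (.node .leaf (196790, 0, 14, 94033) .leaf)) (196793, 0, 16, 190926) (.node (.node .leaf (196794, 0, 15, 260816) .leaf) (196796, 0, 17, 159167) (.node .leaf (196799, 0, 15, 229576) .leaf))))) (196801, 0, 13, 185712) (.node (.node (.node (.node (.node .leaf (196802, 0, 14, 17210) .leaf) (196804, 0, 16, 134197) (.node .leaf (196807, 0, 15, 25865) .leaf)) (196808, 0, 16, 213460) (.node (.node .leaf (196811, 0, 13, 106701) .leaf) (196813, 0, 17, 223207) (.node .leaf (196814, 0, 16, 186043) .leaf))) (196816, 0, 17, 19779) (.node (.node (.node .leaf (196819, 0, 17, 27874) .leaf) (196821, 0, 17, 37894) (.node .leaf (196822, 0, 15, 19153) .leaf)) (196825, 0, 15, 224780) (.node (.node .leaf (196826, 0, 17, 211198) .leaf) (196828, 0, 13, 215103) (.node .leaf (196831, 0, 19, 254395) .leaf)))) (196832, 0, 15, 81635) (.node (.node (.node (.node .leaf (196835, 0, 16, 223006) .leaf) (196837, 0, 14, 124838) (.node .leaf (196838, 0, 15, 22501) .leaf)) (196841, 0, 16, 26096) (.node (.node .leaf (196842, 0, 16, 150366) .leaf) (196844, 0, 15, 205400)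 (.node .leaf (196847, 0, 17, 168475) .leaf))) (196849, 0, 18, 194970) (.node (.node (.node .leaf (196850, 0, 15, 215238) .leaf) (196852, 0, 13, 229269) (.node .leaf (196855, 0, 15, 225013) .leaf)) (196856, 0, 18, 18984) (.node (.node .leaf (196859, 0, 16, 54125) .leaf) (196861, 0, 15, 27675) (.node .leaf (196862, 0, 16, 122183) .leaf))))))

/-- part of the orbit tree -/
def itp6_8 : Tree := (.node (.node (.node (.node (.node (.node .leaf (196867, 0, 18, 70932) .leaf) (196869, 0, 14, 45995) (.node .leaf (196870, 0, 17, 66536) .leaf)) (196873, 0, 15, 137210) (.node (.node .leaf (196874, 0, 18, 239270) .leaf) (196876, 0, 17, 143817) (.node .leaf (196879, 0, 17, 229525) .leaf))) (196881, 0, 16, 193245) (.node (.node (.node .leaf (196882, 0, 16, 80588) .leaf) (196884, 0, 17, 44451) (.node .leaf (196887, 0, 18, 236507) .leaf)) (196888, 0, 14, 145442) (.node (.node .leaf (196891, 0, 18, 100192) .leaf) (196893, 0, 16, 61030) (.node .leaf (196894, 0, 12, 241485) .leaf)))) (196897, 0, 16, 229757) (.node (.node (.node (.node .leaf (196898,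 0, 17, 143664) .leaf) (196900, 0, 12, 239199) (.node .leaf (196903, 0, 16, 190587) .leaf)) (196904, 0, 9, 78814) (.node (.node .leaf (196907, 0, 18, 62656) .leaf) (196909, 0, 17, 105926) (.node .leaf (196910, 0, 17, 42161) .leaf))) (196912, 0, 15, 241588) (.node (.node (.node .leaf (196915, 0, 17, 43277) .leaf) (196917, 0, 16, 231815) (.node .leaf (196918, 0, 15, 145627) .leaf)) (196921, 0, 15, 72710) (.node (.node .leaf (196922, 0, 15, 158963) .leaf) (196924, 0, 17, 80437) (.node .leaf (196927, 0, 19, 177590) .leaf))))) (196929, 0, 19, 173548) (.node (.node (.node (.node (.node .leaf (196930, 0, 17, 151629) .leaf) (196932, 0, 14, 211275) (.node .leaf (196935, 0, 16, 209539) .leaf)) (196936, 0, 18, 5726) (.node (.node .leaf (196939, 0, 16, 108290) .leaf) (196941, 0, 15, 12397) (.node .leaf (196942, 0, 13, 98609) .leaf))) (196944, 0, 18, 96317) (.node (.node (.node .leaf (196947, 0, 18, 51326) .leaf) (196949, 0, 12, 106872) (.node .leaf (196950, 0, 16, 4411) .leaf)) (196953, 0, 16, 14726) (.node (.node .leaf (196954, 0, 15,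 100570) .leaf) (196956, 0, 16, 222342) (.node .leaf (196959, 0, 16, 110313) .leaf)))) (196960, 0, 18, 98760) (.node (.node (.node (.node .leaf (196963, 0, 18, 113630) .leaf) (196965, 0, 16, 108539) (.node .leaf (196966, 0, 16, 90779) .leaf)) (196969, 0, 15, 209530) (.node (.node .leaf (196970, 0, 16, 164646) .leaf) (196972, 0, 11, 201801) (.node .leaf (196975, 0, 14, 173333) .leaf))) (196977, 0, 16, 110096) (.node (.node (.node .leaf (196978, 0, 18, 205805) .leaf) (196980, 0, 16, 100387) (.node .leaf (196983, 0, 16, 14719) .leaf)) (196984, 0, 13, 22096) (.node (.node .leaf (196987, 0, 18, 124435) .leaf) (196989, 0, 15, 36629) (.node .leaf (196990, 0, 13, 81750) .leaf))))))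

/-- part of the orbit tree -/
def itp6_9 : Tree := (.node (.node (.node (.node (.node (.node .leaf (196995, 0, 14, 216487) .leaf) (196997, 0, 14, 209426) (.node .leaf (196998, 0, 14, 234722) .leaf)) (197001, 0, 15, 108435) (.node (.node .leaf (197002, 0, 17, 100441) .leaf) (197004, 0, 15, 57695) (.node .leaf (197007, 0, 18, 12540) .leaf))) (197009, 0, 15, 211961) (.node (.node (.node .leaf (197010, 0, 18, 120212) .leaf) (197012, 0, 15, 204234) (.node .leaf (197015, 0, 9, 68817) .leaf)) (197016, 0, 15, 100427) (.node (.node .leaf (197019, 0, 17, 200810) .leaf) (197021, 0, 15, 162156) (.node .leaf (197022, 0, 15, 248111) .leaf)))) (197025, 0, 16, 71287) (.node (.node (.node (.node .leaf (197026, 0, 16, 42548) .leaf) (197028, 0, 17, 5686) (.node .leaf (197031, 0, 17, 108394) .leaf)) (197032, 0, 16, 164791) (.node (.node .leaf (197035, 0, 15, 156618) .leaf) (197037, 0, 17, 199372) (.node .leaf (197038, 0, 18, 201944) .leaf))) (197040, 0, 16, 233028) (.node (.node (.node .leaf (197043, 0, 15, 110209) .leaf) (197045, 0, 16, 14830)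 (.node .leaf (197046, 0, 16, 190274) .leaf)) (197049, 0, 14, 175215) (.node (.node .leaf (197050, 0, 15, 64505) .leaf) (197052, 0, 9, 166492) (.node .leaf (197055, 0, 17, 211712) .leaf))))) (197057, 0, 16, 96004) (.node (.node (.node (.node (.node .leaf (197058, 0, 18, 51015) .leaf) (197060, 0, 16, 78774) (.node .leaf (197063, 0, 17, 7682) .leaf)) (197064, 0, 13, 242426) (.node (.node .leaf (197067, 0, 18, 137067) .leaf) (197069, 0, 16, 224191) (.node .leaf (197070, 0, 14, 143704) .leaf))) (197072, 0, 14, 80477) (.node (.node (.node .leaf (197075, 0, 15, 35585) .leaf) (197077, 0, 12, 72814) (.node .leaf (197078, 0, 15, 44338) .leaf)) (197081, 0, 15, 76489) (.node (.node .leaf (197082, 0, 16, 39562) .leaf) (197084, 0, 17, 241628) (.node .leaf (197087, 0, 17, 138880) .leaf)))) (197088, 0, 14, 171159) (.node (.node (.node (.node .leaf (197091, 0, 15, 208084) .leaf) (197093, 0, 16, 137106) (.node .leaf (197094, 0, 17, 259473) .leaf)) (197097, 0, 16, 33299) (.node (.node .leaf (197098, 0, 13, 125226) .leaf) (197100, 0, 16, 42016)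 (.node .leaf (197103, 0, 16, 71036) .leaf))) (197105, 0, 16, 138873) (.node (.node (.node .leaf (197106, 0, 18, 111847) .leaf) (197108, 0, 15, 56801) (.node .leaf (197111, 0, 17, 231702) .leaf)) (197112, 0, 18, 180570) (.node (.node .leaf (197115, 0, 16, 225561) .leaf) (197117, 0, 17, 35832) (.node .leaf (197118, 0, 13, 80548) .leaf))))))

/-- part of the orbit tree -/
def itp6_10 : Tree := (.node (.node (.node (.node (.node (.node .leaf (197123, 0, 16, 128987) .leaf) (197124, 0, 15, 145818) (.node .leaf (197125, 0, 11, 212399) .leaf)) (197128, 0, 17, 44059) (.node (.node .leaf (197129, 0, 15, 193845) .leaf) (197134, 0, 17, 43124) (.node .leaf (197135, 0, 15, 18450) .leaf))) (197136, 0, 16, 143473) (.node (.node (.node .leaf (197137, 0, 10, 97497) .leaf) (197142, 0, 13, 239390) (.node .leaf (197143, 0, 15, 5599) .leaf)) (197146, 0, 15, 78495) (.node (.node .leaf (197147, 0, 16, 224177) .leaf) (197148, 0, 17, 229380) (.node .leaf (197149, 0, 17, 221282) .leaf)))) (197152, 0, 18, 80781) (.node (.node (.node (.node .leaf (197153,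 0, 15, 3961) .leaf) (197158, 0, 16, 99865) (.node .leaf (197159, 0, 18, 193996) .leaf)) (197162, 0, 17, 145763) (.node (.node .leaf (197163, 0, 13, 24653) .leaf) (197164, 0, 19, 241164) (.node .leaf (197165, 0, 18, 128802) .leaf))) (197170, 0, 15, 247663) (.node (.node (.node .leaf (197171, 0, 17, 206601) .leaf) (197172, 0, 17, 175721) (.node .leaf (197173, 0, 17, 224072) .leaf)) (197176, 0, 16, 45778) (.node (.node .leaf (197177, 0, 14, 21172) .leaf) (197182, 0, 17, 121812) (.node .leaf (197183, 0, 17, 27046) .leaf))))) (197184, 0, 17, 7693) (.node (.node (.node (.node (.node .leaf (197185, 0, 16, 28170) .leaf) (197190, 0, 18, 124778) (.node .leaf (197191, 0, 17, 249932) .leaf)) (197194, 0, 16, 204003) (.node (.node .leaf (197195, 0, 14, 83405) .leaf) (197196, 0, 15, 166796) (.node .leaf (197197, 0, 17, 53922) .leaf))) (197202, 0, 15, 98441) (.node (.node (.node .leaf (197203, 0, 14, 214650) .leaf) (197204, 0, 14, 6118) (.node .leaf (197205, 0, 12, 143228) .leaf)) (197208, 0, 17, 164455) (.node (.node .leaf (197209, 0, 16,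 56137) .leaf) (197214, 0, 16, 113319) (.node .leaf (197215, 0, 16, 85030) .leaf)))) (197218, 0, 17, 166773) (.node (.node (.node (.node .leaf (197219, 0, 18, 53851) .leaf) (197220, 0, 17, 244922) (.node .leaf (197221, 0, 13, 83252) .leaf)) (197224, 0, 15, 106497) (.node (.node .leaf (197225, 0, 15, 82023) .leaf) (197230, 0, 17, 7924) (.node .leaf (197231, 0, 14, 149466) .leaf))) (197232, 0, 16, 202225) (.node (.node (.node .leaf (197233, 0, 17, 73130) .leaf) (197238, 0, 12, 38090) (.node .leaf (197239, 0, 18, 29868) .leaf)) (197242, 0, 14, 166001) (.node (.node .leaf (197243, 0, 16, 157719) .leaf) (197244, 0, 18, 254327) .leaf)))))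

/-- part of the orbit tree -/
def itp6_11 : Tree := (.node itp6_7 (196864, 0, 15, 27374) itp6_8)

/-- part of the orbit tree -/
def itp6_12 : Tree := (.node itp6_9 (197122, 0, 15, 177359) itp6_10)

/-- part of the orbit tree -/
def itp6_13 : Tree := (.node itp6_5 (196416, 0, 17, 48929) itp6_6)

/-- part of the orbit tree -/
def itp6_14 : Tree := (.node itp6_11 (196992, 0, 16, 201761) itp6_12)

/-- part of the orbit tree -/
def itp6_15 : Tree := (.node (.node (.node (.node (.node (.node .leaf (197250, 0, 17, 9157) .leaf) (197251, 0, 14, 50083) (.node .leaf (197252, 0, 18, 84675) .leaf)) (197253, 0, 17, 250077) (.node (.node .leaf (197256, 0, 15, 218744) .leaf) (197257, 0, 18, 243230) (.node .leaf (197262, 0, 13, 166685) .leaf))) (197263, 0, 17, 188184) (.node (.node (.node .leaf (197264, 0, 11, 199605) .leaf) (197265, 0, 15, 256979) (.node .leaf (197270, 0, 14, 156339) .leaf)) (197271, 0, 15, 151129) (.node (.node .leaf (197274, 0, 15, 32264) .leaf) (197275, 0, 14, 56280) (.node .leaf (197276, 0, 15, 71438) .leaf)))) (197277,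 0, 16, 85175) (.node (.node (.node (.node .leaf (197280, 0, 17, 166884) .leaf) (197281, 0, 17, 53962) (.node .leaf (197286, 0, 18, 203915) .leaf)) (197287, 0, 14, 258421) (.node (.node .leaf (197290, 0, 15, 100618) .leaf) (197291, 0, 17, 249892) (.node .leaf (197292, 0, 17, 7781) .leaf))) (197293, 0, 12, 33992) (.node (.node (.node .leaf (197298, 0, 16, 202080) .leaf) (197299, 0, 17, 110595) (.node .leaf (197300, 0, 14, 14691) .leaf)) (197301, 0, 10, 55557) (.node (.node .leaf (197304, 0, 16, 6030) .leaf) (197305, 0, 18, 151200) (.node .leaf (197310, 0, 14, 98529) .leaf))))) (197311, 0, 17, 240824) (.node (.node (.node (.node (.node .leaf (197312, 0, 18, 241252) .leaf) (197313, 0, 15, 194816) (.node .leaf (197318, 0, 14, 145675) .leaf)) (197319, 0, 16, 24613) (.node (.node .leaf (197322, 0, 16, 44170) .leaf) (197323, 0, 18, 193956) (.node .leaf (197324, 0, 16, 1501) .leaf))) (197325, 0, 19, 221899) (.node (.node (.node .leaf (197330, 0, 18, 78102) .leaf) (197331, 0, 16, 27086) (.node .leaf (197332, 0, 18, 239503) .leaf)) (197333,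 0, 18, 47222) (.node (.node .leaf (197336, 0, 16, 78350) .leaf) (197337, 0, 16, 224032) (.node .leaf (197342, 0, 16, 208301) .leaf)))) (197343, 0, 15, 249291) (.node (.node (.node (.node .leaf (197346, 0, 19, 17078) .leaf) (197347, 0, 18, 41680) (.node .leaf (197348, 0, 14, 44147) .leaf)) (197349, 0, 18, 117718) (.node (.node .leaf (197352, 0, 16, 210699) .leaf) (197353, 0, 14, 251757) (.node .leaf (197358, 0, 18, 155149) .leaf))) (197359, 0, 16, 179819) (.node (.node (.node .leaf (197360, 0, 12, 42392) .leaf) (197361, 0, 16, 232096) (.node .leaf (197366, 0, 16, 132032) .leaf)) (197367, 0, 18, 189350) (.node (.node .leaf (197370, 0, 17, 239478) .leaf) (197371, 0, 17, 65309) (.node .leaf (197372, 0, 18, 143385) .leaf))))))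

/-- part of the orbit tree -/
def itp6_16 : Tree := (.node (.node (.node (.node (.node (.node .leaf (197378, 0, 14, 71355) .leaf) (197379, 0, 17, 128733) (.node .leaf (197380, 0, 17, 32701) .leaf)) (197381, 0, 17, 40923) (.node (.node .leaf (197384, 0, 12, 19448) .leaf) (197385, 0, 15, 135894) (.node .leaf (197390, 0, 17, 199168) .leaf))) (197391, 0, 12, 256614) (.node (.node (.node .leaf (197392, 0, 14, 186258) .leaf) (197393, 0, 16, 188077) (.node .leaf (197398, 0, 15, 219085) .leaf)) (197399, 0, 15, 72147) (.node (.node .leaf (197402, 0, 18, 120188) .leaf) (197403, 0, 16, 109328) (.node .leaf (197404, 0, 16, 8816) .leaf)))) (197405, 0, 18, 49686) (.node (.node (.node (.node .leaf (197408, 0, 15, 121966) .leaf) (197409, 0, 17, 230720) (.node .leaf (197414, 0, 13, 140397) .leaf)) (197415, 0, 16, 135727) (.node (.node .leaf (197418, 0, 15, 188032) .leaf) (197419, 0, 18, 55472) (.node .leaf (197420, 0, 18, 215535) .leaf))) (197421, 0, 14, 69825) (.node (.node (.node .leaf (197426, 0, 15, 17130) .leaf) (197427, 0, 13, 34173)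 (.node .leaf (197428, 0, 18, 120197) .leaf)) (197429, 0, 17, 232619) (.node (.node .leaf (197432, 0, 17, 200870) .leaf) (197433, 0, 15, 71978) (.node .leaf (197438, 0, 18, 162208) .leaf))))) (197439, 0, 14, 170438) (.node (.node (.node (.node (.node .leaf (197440, 0, 17, 207896) .leaf) (197441, 0, 16, 172224) (.node .leaf (197446, 0, 16, 93825) .leaf)) (197447, 0, 13, 210863) (.node (.node .leaf (197450, 0, 17, 22949) .leaf) (197451, 0, 16, 107054) (.node .leaf (197452, 0, 18, 77987) .leaf))) (197453, 0, 14, 13633) (.node (.node (.node .leaf (197458, 0, 13, 92010) .leaf) (197459, 0, 16, 58382) (.node .leaf (197460, 0, 16, 93550) .leaf)) (197461, 0, 17, 101640) (.node (.node .leaf (197464, 0, 15, 157060) .leaf) (197465, 0, 15, 233907) (.node .leaf (197470, 0, 16, 258795) .leaf)))) (197471, 0, 16, 109509) (.node (.node (.node (.node .leaf (197474, 0, 17, 96200) .leaf) (197475, 0, 18, 104366) (.node .leaf (197476, 0, 18, 7886) .leaf)) (197477, 0, 14, 107223) (.node (.node .leaf (197480, 0, 17, 93816) .leaf) (197481, 0, 14, 210774)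 (.node .leaf (197486, 0, 15, 63767) .leaf))) (197487, 0, 18, 172089) (.node (.node (.node .leaf (197488, 0, 16, 258578) .leaf) (197489, 0, 18, 180190) (.node .leaf (197494, 0, 15, 157053) .leaf)) (197495, 0, 17, 15443) (.node (.node .leaf (197498, 0, 12, 76293) .leaf) (197499, 0, 13, 174546) (.node .leaf (197500, 0, 18, 17155) .leaf))))))

/-- part of the orbit tree -/
def itp6_17 : Tree := (.node (.node (.node (.node (.node (.node .leaf (197506, 0, 18, 229809) .leaf) (197507, 0, 14, 172113) (.node .leaf (197508, 0, 13, 93712) .leaf)) (197509, 0, 17, 210750) (.node (.node .leaf (197512, 0, 17, 261009) .leaf) (197513, 0, 14, 107199) (.node .leaf (197518, 0, 18, 158974) .leaf))) (197519, 0, 16, 13776) (.node (.node (.node .leaf (197520, 0, 16, 92155) .leaf) (197521, 0, 14, 212693) (.node .leaf (197526, 0, 16, 61588) .leaf)) (197527, 0, 16, 73889) (.node (.node .leaf (197530, 0, 11, 253052) .leaf) (197531, 0, 12, 15419) (.node .leaf (197532, 0, 15, 258682) .leaf)))) (197533, 0, 16, 109396) (.node (.node (.node (.node .leaf (197536,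 0, 17, 121441) .leaf) (197537, 0, 15, 13609) (.node .leaf (197542, 0, 17, 260968) .leaf)) (197543, 0, 16, 21249) (.node (.node .leaf (197546, 0, 18, 176092) .leaf) (197547, 0, 17, 210887) (.node .leaf (197548, 0, 16, 63878) .leaf))) (197549, 0, 13, 206524) (.node (.node (.node .leaf (197554, 0, 14, 193041) .leaf) (197555, 0, 15, 135799) (.node .leaf (197556, 0, 15, 236311) .leaf)) (197557, 0, 17, 15554) (.node (.node .leaf (197560, 0, 18, 100268) .leaf) (197561, 0, 14, 92106) (.node .leaf (197566, 0, 16, 91906) .leaf))))) (197567, 0, 15, 212524) (.node (.node (.node (.node (.node .leaf (197568, 0, 16, 215431) .leaf) (197569, 0, 16, 88948) (.node .leaf (197574, 0, 16, 53780) .leaf)) (197575, 0, 15, 34758) (.node (.node .leaf (197578, 0, 15, 183983) .leaf) (197579, 0, 15, 143049) (.node .leaf (197580, 0, 17, 239529) .leaf))) (197581, 0, 15, 214991) (.node (.node (.node .leaf (197586, 0, 16, 186115) .leaf) (197587, 0, 13, 36397) (.node .leaf (197588, 0, 17, 260708) .leaf)) (197589, 0, 16, 203266) (.node (.node .leaf (197592, 0,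 15, 120301) .leaf) (197593, 0, 17, 67257) (.node .leaf (197598, 0, 13, 36825) .leaf)))) (197599, 0, 16, 138156) (.node (.node (.node (.node .leaf (197602, 0, 15, 122111) .leaf) (197603, 0, 15, 196772) (.node .leaf (197604, 0, 14, 19344) .leaf)) (197605, 0, 15, 158114) (.node (.node .leaf (197608, 0, 17, 38271) .leaf) (197609, 0, 16, 34623) (.node .leaf (197614, 0, 16, 130169) .leaf))) (197615, 0, 16, 69712) (.node (.node (.node .leaf (197616, 0, 17, 51378) .leaf) (197617, 0, 14, 138069) (.node .leaf (197622, 0, 8, 120084) .leaf)) (197623, 0, 17, 232506) (.node (.node .leaf (197626, 0, 18, 213141) .leaf) (197627, 0, 18, 220521) (.node .leaf (197628, 0, 16, 185353) .leaf))))))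

/-- part of the orbit tree -/
def itp6_18 : Tree := (.node (.node (.node (.node (.node (.node .leaf (197633, 0, 17, 143956) .leaf) (197635, 0, 16, 196355) (.node .leaf (197636, 0, 16, 78146) .leaf)) (197638, 0, 18, 244532) (.node (.node .leaf (197640, 0, 17, 238787) .leaf) (197642, 0, 15, 108431) (.node .leaf (197645, 0, 18, 12015) .leaf))) (197647, 0, 17, 97994) (.node (.node (.node .leaf (197648, 0, 16, 43623) .leaf) (197650, 0, 15, 129602) (.node .leaf (197653, 0, 17, 29474) .leaf)) (197655, 0, 13, 194280) (.node (.node .leaf (197657, 0, 17, 159641) .leaf) (197659, 0, 11, 25449) (.node .leaf (197660, 0, 11, 177884) .leaf)))) (197662, 0, 16, 17754) (.node (.node (.node (.node .leaf (197664, 0, 16, 121287) .leaf) (197666, 0, 15, 121639) (.node .leaf (197669, 0, 16, 65666) .leaf)) (197671, 0, 14, 130324) (.node (.node .leaf (197673, 0, 16, 32999) .leaf) (197675, 0, 18, 223381) (.node .leaf (197676, 0, 17, 42708) .leaf))) (197678, 0, 16, 169305) (.node (.node (.node .leaf (197681, 0, 11, 138381) .leaf) (197683, 0, 18, 135633)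 (.node .leaf (197684, 0, 18, 235697) .leaf)) (197686, 0, 15, 182420) (.node (.node .leaf (197688, 0, 16, 44863) .leaf) (197690, 0, 16, 214861) (.node .leaf (197693, 0, 15, 89423) .leaf))))) (197695, 0, 17, 3434) (.node (.node (.node (.node (.node .leaf (197696, 0, 14, 112820) .leaf) (197698, 0, 14, 65191) (.node .leaf (197701, 0, 15, 209126) .leaf)) (197703, 0, 15, 12756) (.node (.node .leaf (197705, 0, 16, 228682) .leaf) (197707, 0, 15, 150805) (.node .leaf (197708, 0, 18, 238607) .leaf))) (197710, 0, 15, 193578) (.node (.node (.node .leaf (197713, 0, 14, 211213) .leaf) (197715, 0, 17, 53631) (.node .leaf (197716, 0, 16, 260546) .leaf)) (197718, 0, 15, 174567) (.node (.node .leaf (197720, 0, 17, 124281) .leaf) (197722, 0, 15, 156365) (.node .leaf (197725, 0, 16, 80956) .leaf)))) (197727, 0, 18, 27673) (.node (.node (.node (.node .leaf (197729, 0, 13, 152359) .leaf) (197731, 0, 12, 252547) (.node .leaf (197732, 0, 16, 5314) .leaf)) (197734, 0, 16, 252487) (.node (.node .leaf (197736, 0, 17, 164163) .leaf) (197738, 0, 17, 116476)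 (.node .leaf (197741, 0, 16, 173936) .leaf))) (197743, 0, 16, 85762) (.node (.node (.node .leaf (197744, 0, 19, 7465) .leaf) (197746, 0, 15, 105265) (.node .leaf (197749, 0, 11, 4689) .leaf)) (197751, 0, 18, 82548) (.node (.node .leaf (197753, 0, 17, 175771) .leaf) (197755, 0, 17, 220879) (.node .leaf (197756, 0, 18, 166056) .leaf))))))

/-- part of the orbit tree -/
def itp6_19 : Tree := (.node itp6_15 (197373, 0, 17, 26935) itp6_16)

/-- part of the orbit tree -/
def itp6_20 : Tree := (.node itp6_17 (197629, 0, 15, 36564) itp6_18)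

/-- part of the orbit tree -/
def itp6_21 : Tree := (.node (.node (.node (.node (.node (.node .leaf (197761, 0, 15, 173848) .leaf) (197763, 0, 16, 85866) (.node .leaf (197764, 0, 14, 31771) .leaf)) (197766, 0, 15, 92505) (.node (.node .leaf (197768, 0, 16, 155808) .leaf) (197770, 0, 15, 261336) (.node .leaf (197773, 0, 17, 12953) .leaf))) (197775, 0, 14, 256448) (.node (.node (.node .leaf (197776, 0, 14, 166080) .leaf) (197778, 0, 16, 90290) (.node .leaf (197781, 0, 15, 175859) .leaf)) (197783, 0, 16, 242701) (.node (.node .leaf (197785, 0, 13, 15218) .leaf) (197787, 0, 18, 250624) (.node .leaf (197788, 0, 17, 8662) .leaf)))) (197790, 0, 14, 94707) (.node (.node (.node (.node .leaf (197792, 0, 18, 216781) .leaf) (197794, 0, 17, 138984) (.node .leaf (197797, 0, 15, 107791) .leaf)) (197799, 0, 17, 150909) (.node (.node .leaf (197801, 0, 12, 101171) .leaf) (197803, 0, 16, 55548) (.node .leaf (197804, 0, 18, 202429) .leaf))) (197806, 0, 16, 65231) (.node (.node (.node .leaf (197809, 0, 16, 120574) .leaf) (197811, 0, 13, 34523)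 (.node .leaf (197812, 0, 14, 69563) .leaf)) (197814, 0, 16, 24478) (.node (.node .leaf (197816, 0, 16, 204630) .leaf) (197818, 0, 14, 148261) (.node .leaf (197821, 0, 15, 211301) .leaf))))) (197823, 0, 16, 53527) (.node (.node (.node (.node (.node .leaf (197824, 0, 16, 42684) .leaf) (197826, 0, 16, 216782) (.node .leaf (197829, 0, 17, 259835) .leaf)) (197831, 0, 15, 223485) (.node (.node .leaf (197833, 0, 12, 136462) .leaf) (197835, 0, 15, 47717) (.node .leaf (197836, 0, 18, 144189) .leaf))) (197838, 0, 16, 121679) (.node (.node (.node .leaf (197841, 0, 18, 112525) .leaf) (197843, 0, 13, 221462) (.node .leaf (197844, 0, 14, 44887) .leaf)) (197846, 0, 14, 16109) (.node (.node .leaf (197848, 0, 17, 146134) .leaf) (197850, 0, 14, 139862) (.node .leaf (197853, 0, 15, 138469) .leaf)))) (197855, 0, 16, 195347) (.node (.node (.node (.node .leaf (197857, 0, 17, 230040) .leaf) (197859, 0, 12, 103432) (.node .leaf (197860, 0, 18, 238763) .leaf)) (197862, 0, 16, 85325) (.node (.node .leaf (197864, 0, 16, 78122) .leaf) (197866, 0, 16,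 217590) (.node .leaf (197869, 0, 17, 71449) .leaf))) (197871, 0, 16, 196459) (.node (.node (.node .leaf (197872, 0, 16, 154654) .leaf) (197874, 0, 14, 17714) (.node .leaf (197877, 0, 18, 165211) .leaf)) (197879, 0, 17, 251262) (.node (.node .leaf (197881, 0, 17, 73458) .leaf) (197883, 0, 15, 117189) (.node .leaf (197884, 0, 15, 80065) .leaf))))))

/-- part of the orbit tree -/
def itp6_22 : Tree := (.node (.node (.node (.node (.node (.node .leaf (197889, 0, 14, 102432) .leaf) (197891, 0, 14, 49157) (.node .leaf (197892, 0, 18, 84325) .leaf)) (197894, 0, 15, 147155) (.node (.node .leaf (197896, 0, 17, 218590) .leaf) (197898, 0, 15, 43858) (.node .leaf (197901, 0, 14, 222483) .leaf))) (197903, 0, 17, 187582) (.node (.node (.node .leaf (197904, 0, 18, 122698) .leaf) (197906, 0, 14, 153654) (.node .leaf (197909, 0, 18, 250198) .leaf)) (197911, 0, 14, 164211) (.node (.node .leaf (197913, 0, 16, 118253) .leaf) (197915, 0, 16, 33930) (.node .leaf (197916, 0, 16, 215755) .leaf)))) (197918, 0, 17, 17549) (.node (.node (.node (.node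 .leaf (197920, 0, 17, 162739) .leaf) (197922, 0, 18, 81092) (.node .leaf (197925, 0, 16, 172790) .leaf)) (197927, 0, 18, 72439) (.node (.node .leaf (197929, 0, 17, 26372) .leaf) (197931, 0, 12, 126568) (.node .leaf (197932, 0, 17, 16695) .leaf))) (197934, 0, 17, 79661) (.node (.node (.node .leaf (197937, 0, 13, 58240) .leaf) (197939, 0, 15, 70428) (.node .leaf (197940, 0, 15, 187741) .leaf)) (197942, 0, 18, 79151) (.node (.node .leaf (197944, 0, 15, 18652) .leaf) (197946, 0, 16, 237742) (.node .leaf (197949, 0, 18, 196411) .leaf))))) (197951, 0, 18, 231069) (.node (.node (.node (.node (.node .leaf (197952, 0, 15, 258358) .leaf) (197954, 0, 16, 215781) (.node .leaf (197957, 0, 11, 251653) .leaf)) (197959, 0, 14, 16247) (.node (.node .leaf (197961, 0, 15, 57150) .leaf) (197963, 0, 11, 102171) (.node .leaf (197964, 0, 16, 1659) .leaf))) (197966, 0, 16, 167109) (.node (.node (.node .leaf (197969, 0, 18, 33523) .leaf) (197971, 0, 13, 13980) (.node .leaf (197972, 0, 14, 23478) .leaf)) (197974, 0, 15, 68499) (.node (.node .leaf (197976,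 0, 9, 93532) .leaf) (197978, 0, 17, 202536) (.node .leaf (197981, 0, 17, 171592) .leaf)))) (197983, 0, 10, 249453) (.node (.node (.node (.node .leaf (197985, 0, 17, 127315) .leaf) (197987, 0, 16, 41334) (.node .leaf (197988, 0, 18, 75798) .leaf)) (197990, 0, 16, 30771) (.node (.node .leaf (197992, 0, 13, 157344) .leaf) (197994, 0, 18, 102098) (.node .leaf (197997, 0, 16, 147603) .leaf))) (197999, 0, 13, 108769) (.node (.node (.node .leaf (198000, 0, 14, 223584) .leaf) (198002, 0, 14, 201400) (.node .leaf (198005, 0, 16, 56569) .leaf)) (198007, 0, 16, 210059) (.node (.node .leaf (198009, 0, 17, 109726) .leaf) (198011, 0, 18, 106762) (.node .leaf (198012, 0, 16, 159563) .leaf))))))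

/-- part of the orbit tree -/
def itp6_23 : Tree := (.node (.node (.node (.node (.node (.node .leaf (198017, 0, 16, 198442) .leaf) (198019, 0, 16, 153359) (.node .leaf (198020, 0, 17, 253551) .leaf)) (198022, 0, 14, 167498) (.node (.node .leaf (198024, 0, 13, 62281) .leaf) (198026, 0, 12, 203579) (.node .leaf (198029, 0, 14, 72593) .leaf))) (198031, 0, 16, 212232) (.node (.node (.node .leaf (198032, 0, 17, 159523) .leaf) (198034, 0, 11, 53052) (.node .leaf (198037, 0, 17, 83548) .leaf)) (198039, 0, 18, 106850) (.node (.node .leaf (198041, 0, 17, 56465) .leaf) (198043, 0, 16, 210147) (.node .leaf (198044, 0, 15, 64162) .leaf)))) (198046, 0, 18, 201424) (.node (.node (.node (.node .leaf (198048, 0, 17, 60601) .leaf) (198050, 0, 15, 113820) (.node .leaf (198053, 0, 16, 82668) .leaf)) (198055, 0, 11, 174750) (.node (.node .leaf (198057, 0, 14, 251757) .leaf) (198059, 0, 14, 227682) (.node .leaf (198060, 0, 14, 258398) .leaf))) (198062, 0, 15, 6444) (.node (.node (.node .leaf (198065, 0, 17, 160906) .leaf) (198067, 0, 18, 205999)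 (.node .leaf (198068, 0, 17, 93492) .leaf)) (198070, 0, 13, 261610) (.node (.node .leaf (198072, 0, 12, 260277) .leaf) (198074, 0, 18, 4295) (.node .leaf (198077, 0, 17, 253574) .leaf))))) (198079, 0, 14, 79892) (.node (.node (.node (.node (.node .leaf (198080, 0, 14, 36298) .leaf) (198082, 0, 17, 122351) (.node .leaf (198085, 0, 17, 26476) .leaf)) (198087, 0, 10, 66730) (.node (.node .leaf (198089, 0, 18, 149556) .leaf) (198091, 0, 16, 72351) (.node .leaf (198092, 0, 15, 185566) .leaf))) (198094, 0, 13, 81068) (.node (.node (.node .leaf (198097, 0, 17, 136697) .leaf) (198099, 0, 14, 231157) (.node .leaf (198100, 0, 17, 183484) .leaf)) (198102, 0, 15, 236697) (.node (.node .leaf (198104, 0, 16, 187701) .leaf) (198106, 0, 16, 79175) (.node .leaf (198109, 0, 14, 195334) .leaf)))) (198111, 0, 12, 88423) (.node (.node (.node (.node .leaf (198113, 0, 14, 222587) .leaf) (198115, 0, 14, 145020) (.node .leaf (198116, 0, 17, 245532) .leaf)) (198118, 0, 17, 192313) (.node (.node .leaf (198120, 0, 16, 107431) .leaf) (198122, 0, 16, 147131)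 (.node .leaf (198125, 0, 13, 96994) .leaf))) (198127, 0, 18, 10951) (.node (.node (.node .leaf (198128, 0, 13, 130666) .leaf) (198130, 0, 13, 44623) (.node .leaf (198133, 0, 16, 75567) .leaf)) (198135, 0, 17, 30474) (.node (.node .leaf (198137, 0, 16, 129297) .leaf) (198139, 0, 16, 135523) (.node .leaf (198140, 0, 17, 254673) .leaf))))))

/-- part of the orbit tree -/
def itp6_24 : Tree := (.node (.node (.node (.node (.node (.node .leaf (198144, 0, 15, 196162) .leaf) (198145, 0, 17, 70237) (.node .leaf (198146, 0, 16, 41729) .leaf)) (198147, 0, 16, 195119) (.node (.node .leaf (198156, 0, 17, 122610) .leaf) (198157, 0, 15, 671) (.node .leaf (198158, 0, 17, 145024) .leaf))) (198159, 0, 18, 86714) (.node (.node (.node .leaf (198164, 0, 18, 213656) .leaf) (198165, 0, 14, 72630) (.node .leaf (198166, 0, 15, 43754) .leaf)) (198167, 0, 17, 193476) (.node (.node .leaf (198168, 0, 15, 172943) .leaf) (198169, 0, 17, 148457) (.node .leaf (198170, 0, 13, 147307) .leaf)))) (198171, 0, 15, 201676) (.node (.node (.node (.node .leaf (198180,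 0, 13, 117908) .leaf) (198181, 0, 16, 135242) (.node .leaf (198182, 0, 18, 40113) .leaf)) (198183, 0, 17, 129080) (.node (.node .leaf (198184, 0, 17, 187621) .leaf) (198185, 0, 16, 34251) (.node .leaf (198186, 0, 16, 78999) .leaf))) (198187, 0, 17, 224697) (.node (.node (.node .leaf (198192, 0, 16, 16527) .leaf) (198193, 0, 18, 137633) (.node .leaf (198194, 0, 16, 187847) .leaf)) (198195, 0, 16, 146849) (.node (.node .leaf (198204, 0, 15, 102745) .leaf) (198205, 0, 15, 35872) (.node .leaf (198206, 0, 16, 49532) .leaf))))) (198207, 0, 18, 8474) (.node (.node (.node (.node (.node .leaf (198212, 0, 18, 93412) .leaf) (198213, 0, 18, 210378) (.node .leaf (198214, 0, 18, 165014) .leaf)) (198215, 0, 13, 56760) (.node (.node .leaf (198216, 0, 17, 260453) .leaf) (198217, 0, 15, 217402) (.node .leaf (198218, 0, 10, 4375) .leaf))) (198219, 0, 17, 149561) (.node (.node (.node .leaf (198224, 0, 15, 257169) .leaf) (198225, 0, 17, 199927) (.node .leaf (198226, 0, 17, 179380) .leaf)) (198227, 0, 15, 54355) (.node (.node .leaf (198236, 0, 13,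 258190) .leaf) (198237, 0, 18, 69708) (.node .leaf (198238, 0, 15, 40975) .leaf)))) (198239, 0, 11, 16489) (.node (.node (.node (.node .leaf (198240, 0, 14, 171825) .leaf) (198241, 0, 19, 163671) (.node .leaf (198242, 0, 16, 249620) .leaf)) (198243, 0, 18, 208754) (.node (.node .leaf (198252, 0, 17, 33674) .leaf) (198253, 0, 11, 172636) (.node .leaf (198254, 0, 17, 119727) .leaf))) (198255, 0, 12, 84526) (.node (.node (.node .leaf (198260, 0, 15, 56903) .leaf) (198261, 0, 16, 15926) (.node .leaf (198262, 0, 14, 102250) .leaf)) (198263, 0, 16, 93700) (.node (.node .leaf (198264, 0, 16, 180988) .leaf) (198265, 0, 16, 139930) .leaf)))))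

/-- part of the orbit tree -/
def itp6_25 : Tree := (.node itp6_21 (197886, 0, 17, 184499) itp6_22)

/-- part of the orbit tree -/
def itp6_26 : Tree := (.node itp6_23 (198142, 0, 17, 176884) itp6_24)

/-- part of the orbit tree -/
def itp6_27 : Tree := (.node itp6_19 (197501, 0, 15, 41829) itp6_20)

/-- part of the orbit tree -/
def itp6_28 : Tree := (.node itp6_25 (198014, 0, 18, 9726) itp6_26)

/-- part of the orbit tree -/
def itp6_29 : Tree := (.node itp6_13 (196736, 0, 18, 90000) itp6_14)

/-- part of the orbit tree -/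
def itp6_30 : Tree := (.node itp6_27 (197758, 0, 18, 90330) itp6_28)

/-- part of the orbit tree -/
def itp6_31 : Tree := (.node (.node (.node (.node (.node (.node .leaf (198267, 0, 16, 82885) .leaf) (198272, 0, 17, 64282) (.node .leaf (198273, 0, 17, 35118) .leaf)) (198274, 0, 18, 80237) (.node (.node .leaf (198275, 0, 16, 84550) .leaf) (198284, 0, 6, 159387) (.node .leaf (198285, 0, 17, 14261) .leaf))) (198286, 0, 15, 206294) (.node (.node (.node .leaf (198287, 0, 15, 253895) .leaf) (198292, 0, 17, 141374) (.node .leaf (198293, 0, 15, 182360) .leaf)) (198294, 0, 17, 227355) (.node (.node .leaf (198295, 0, 13, 235645) .leaf) (198296, 0, 17, 13445) (.node .leaf (198297, 0, 15, 54499) .leaf)))) (198298, 0, 18, 102146) (.node (.node (.node (.node .leaf (198299, 0, 16, 99526) .leaf) (198308, 0, 17, 220062) (.node .leaf (198309, 0, 17, 106531) .leaf)) (198310, 0, 16, 134075) (.node (.node .leaf (198311, 0, 15, 149585) .leaf) (198312, 0, 16, 93324) (.node .leaf (198313, 0, 16, 210338) .leaf))) (198314, 0, 16, 165118) (.node (.node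 (.node .leaf (198315, 0, 16, 63334) .leaf) (198320, 0, 18, 258278) (.node .leaf (198321, 0, 14, 129678) .leaf)) (198322, 0, 18, 19149) (.node (.node .leaf (198323, 0, 18, 43691) .leaf) (198332, 0, 16, 198227) (.node .leaf (198333, 0, 17, 212041) .leaf))))) (198334, 0, 18, 167189) (.node (.node (.node (.node (.node .leaf (198335, 0, 16, 177680) .leaf) (198340, 0, 15, 187533) (.node .leaf (198341, 0, 11, 34211) .leaf)) (198342, 0, 15, 158408) (.node (.node .leaf (198343, 0, 17, 166574) .leaf) (198344, 0, 18, 75350) (.node .leaf (198345, 0, 18, 135202) .leaf))) (198346, 0, 17, 30323) (.node (.node (.node .leaf (198347, 0, 17, 38421) .leaf) (198352, 0, 17, 185702) (.node .leaf (198353, 0, 17, 105469) .leaf)) (198354, 0, 13, 81172) (.node (.node .leaf (198355, 0, 13, 52184) .leaf) (198364, 0, 16, 16615) (.node .leaf (198365, 0, 17, 137673) .leaf)))) (198366, 0, 15, 145157) (.node (.node (.node (.node .leaf (198367, 0, 17, 186211) .leaf) (198368, 0, 17, 122522) (.node .leaf (198369, 0, 16, 231348) .leaf)) (198370, 0, 12, 145128)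 (.node (.node .leaf (198371, 0, 18, 28614) .leaf) (198380, 0, 15, 136320) (.node .leaf (198381, 0, 16, 70197) .leaf))) (198382, 0, 17, 214181) (.node (.node (.node .leaf (198383, 0, 17, 238787) .leaf) (198388, 0, 16, 120689) (.node .leaf (198389, 0, 15, 233055) .leaf)) (198390, 0, 15, 147203) (.node (.node .leaf (198391, 0, 14, 260366) .leaf) (198392, 0, 16, 213744) (.node .leaf (198393, 0, 12, 46480) .leaf))))))

/-- part of the orbit tree -/
def itp6_32 : Tree := (.node (.node (.node (.node (.node (.node .leaf (198395, 0, 16, 124341) .leaf) (198400, 0, 17, 240784) (.node .leaf (198401, 0, 17, 128446) .leaf)) (198402, 0, 14, 17634) (.node (.node .leaf (198403, 0, 16, 60533) .leaf) (198412, 0, 14, 80145) (.node .leaf (198413, 0, 12, 221247) .leaf))) (198414, 0, 12, 135336) (.node (.node (.node .leaf (198415, 0, 13, 192718) .leaf) (198420, 0, 11, 238971) (.node .leaf (198421, 0, 17, 261414) .leaf)) (198422, 0, 16, 19721) (.node (.node .leaf (198423, 0, 16, 136231) .leaf) (198424, 0, 18, 78074) (.node .leaf (198425, 0, 17, 223700)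 .leaf)))) (198426, 0, 17, 186504) (.node (.node (.node (.node .leaf (198427, 0, 17, 45496) .leaf) (198436, 0, 15, 44679) (.node .leaf (198437, 0, 9, 167558) .leaf)) (198438, 0, 17, 214773) (.node (.node .leaf (198439, 0, 17, 253603) .leaf) (198440, 0, 15, 29275) (.node .leaf (198441, 0, 13, 25128) .leaf))) (198442, 0, 15, 119668) (.node (.node (.node .leaf (198443, 0, 12, 115224) .leaf) (198448, 0, 12, 12182) (.node .leaf (198449, 0, 15, 53232) .leaf)) (198450, 0, 12, 216862) (.node (.node .leaf (198451, 0, 14, 106453) .leaf) (198460, 0, 15, 144173) (.node .leaf (198461, 0, 14, 27587) .leaf))))) (198462, 0, 18, 221960) (.node (.node (.node (.node (.node .leaf (198463, 0, 18, 230254) .leaf) (198468, 0, 14, 135059) (.node .leaf (198469, 0, 15, 250409) .leaf)) (198470, 0, 13, 156533) (.node (.node .leaf (198471, 0, 17, 245712) .leaf) (198472, 0, 13, 4904) (.node .leaf (198473, 0, 16, 62286) .leaf))) (198474, 0, 14, 82701) (.node (.node (.node .leaf (198475, 0, 14, 107371) .leaf) (198480, 0, 16, 99052) (.node .leaf (198481, 0,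 16, 44675) .leaf)) (198482, 0, 11, 73408) (.node (.node .leaf (198483, 0, 15, 130726) .leaf) (198492, 0, 13, 152158) (.node .leaf (198493, 0, 17, 85571) .leaf)))) (198494, 0, 15, 65311) (.node (.node (.node (.node .leaf (198495, 0, 16, 254493) .leaf) (198496, 0, 17, 81221) (.node .leaf (198497, 0, 5, 53310) .leaf)) (198498, 0, 15, 90466) (.node (.node .leaf (198499, 0, 17, 211020) .leaf) (198508, 0, 18, 7313) (.node .leaf (198509, 0, 16, 246168) .leaf))) (198510, 0, 17, 160219) (.node (.node (.node .leaf (198511, 0, 17, 168381) .leaf) (198516, 0, 17, 228403) (.node .leaf (198517, 0, 15, 55765) .leaf)) (198518, 0, 17, 92297) (.node (.node .leaf (198519, 0, 12, 209319) .leaf) (198520, 0, 14, 90248) (.node .leaf (198521, 0, 16, 150612) .leaf))))))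

/-- part of the orbit tree -/
def itp6_33 : Tree := (.node (.node (.node (.node (.node (.node .leaf (198523, 0, 16, 107558) .leaf) (198528, 0, 12, 248636) (.node .leaf (198529, 0, 17, 207706) .leaf)) (198530, 0, 15, 259211) (.node (.node .leaf (198531, 0, 17, 109989) .leaf) (198540, 0, 14, 166264) (.node .leaf (198541, 0, 18, 53334) .leaf))) (198542, 0, 15, 34722) (.node (.node (.node .leaf (198543, 0, 18, 26564) .leaf) (198548, 0, 16, 100938) (.node .leaf (198549, 0, 12, 92716) .leaf)) (198550, 0, 17, 55919) (.node (.node .leaf (198551, 0, 15, 107598) .leaf) (198552, 0, 16, 235249) (.node .leaf (198553, 0, 17, 226967) .leaf)))) (198554, 0, 17, 181972) (.node (.node (.node (.node .leaf (198555, 0, 18, 140978) .leaf) (198564, 0, 18, 63978) (.node .leaf (198565, 0, 17, 6540) .leaf)) (198566, 0, 17, 109007) (.node (.node .leaf (198567, 0, 17, 176050) .leaf) (198568, 0, 10, 101231) (.node .leaf (198569, 0, 16, 132407) .leaf))) (198570, 0, 19, 243060) (.node (.node (.node .leaf (198571, 0, 16, 14899) .leaf) (198576, 0, 16, 202501)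 (.node .leaf (198577, 0, 17, 85547) .leaf)) (198578, 0, 15, 65399) (.node (.node .leaf (198579, 0, 17, 198879) .leaf) (198588, 0, 16, 42023) (.node .leaf (198589, 0, 17, 17473) .leaf))))) (198590, 0, 18, 128002) (.node (.node (.node (.node (.node .leaf (198591, 0, 19, 70756) .leaf) (198596, 0, 17, 39065) (.node .leaf (198597, 0, 16, 25152) .leaf)) (198598, 0, 14, 116924) (.node (.node .leaf (198599, 0, 12, 75994) .leaf) (198600, 0, 15, 164898) (.node .leaf (198601, 0, 17, 156740) .leaf))) (198602, 0, 19, 214685) (.node (.node (.node .leaf (198603, 0, 14, 73651) .leaf) (198608, 0, 17, 186863) (.node .leaf (198609, 0, 17, 27563) .leaf)) (198610, 0, 15, 231882) (.node (.node .leaf (198611, 0, 16, 223660) .leaf) (198620, 0, 18, 50516) (.node .leaf (198621, 0, 17, 9522) .leaf)))) (198622, 0, 11, 216950) (.node (.node (.node (.node .leaf (198623, 0, 16, 71256) .leaf) (198624, 0, 18, 80249) (.node .leaf (198625, 0, 14, 221271) .leaf)) (198626, 0, 17, 184587) (.node (.node .leaf (198627, 0, 17, 34853) .leaf) (198636, 0, 17, 112372)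 (.node .leaf (198637, 0, 17, 87698) .leaf))) (198638, 0, 16, 59089) (.node (.node (.node .leaf (198639, 0, 18, 1719) .leaf) (198644, 0, 15, 125753) (.node .leaf (198645, 0, 18, 223676) .leaf)) (198646, 0, 17, 186592) (.node (.node .leaf (198647, 0, 17, 23418) .leaf) (198648, 0, 16, 238867) (.node .leaf (198649, 0, 16, 202724) .leaf))))))

/-- part of the orbit tree -/
def itp6_34 : Tree := (.node (.node (.node (.node (.node (.node .leaf (198651, 0, 12, 136271) .leaf) (198657, 0, 17, 87776) (.node .leaf (198658, 0, 14, 257766) .leaf)) (198661, 0, 17, 8359) (.node (.node .leaf (198662, 0, 15, 57216) .leaf) (198664, 0, 15, 234270) (.node .leaf (198667, 0, 17, 140125) .leaf))) (198668, 0, 16, 240189) (.node (.node (.node .leaf (198671, 0, 17, 137854) .leaf) (198672, 0, 16, 159842) (.node .leaf (198675, 0, 17, 163472) .leaf)) (198676, 0, 18, 260080) (.node (.node .leaf (198679, 0, 14, 114211) .leaf) (198681, 0, 19, 50128) (.node .leaf (198682, 0, 17, 47982) .leaf)))) (198685, 0, 16, 78350) (.node (.node (.node (.node .leaf (198686,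 0, 18, 33357) .leaf) (198688, 0, 16, 97182) (.node .leaf (198691, 0, 17, 199984) .leaf)) (198692, 0, 17, 197763) (.node (.node .leaf (198695, 0, 13, 177631) .leaf) (198697, 0, 15, 247852) (.node .leaf (198698, 0, 16, 116942) .leaf))) (198701, 0, 12, 16814) (.node (.node (.node .leaf (198702, 0, 14, 1645) .leaf) (198705, 0, 15, 87110) (.node .leaf (198706, 0, 17, 58650) .leaf)) (198709, 0, 18, 207707) (.node (.node .leaf (198710, 0, 17, 109600) .leaf) (198712, 0, 15, 188606) (.node .leaf (198715, 0, 15, 153256) .leaf))))) (198716, 0, 16, 104681) (.node (.node (.node (.node (.node .leaf (198719, 0, 17, 223710) .leaf) (198720, 0, 13, 24094) (.node .leaf (198723, 0, 14, 224323) .leaf)) (198724, 0, 18, 139523) (.node (.node .leaf (198727, 0, 17, 218464) .leaf) (198729, 0, 15, 191916) (.node .leaf (198730, 0, 17, 220400) .leaf))) (198733, 0, 16, 37553) (.node (.node (.node .leaf (198734, 0, 17, 102558) .leaf) (198737, 0, 16, 17459) (.node .leaf (198738, 0, 12, 114842) .leaf)) (198741, 0, 15, 32016) (.node (.node .leaf (198742, 0,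 17, 118099) .leaf) (198744, 0, 17, 164301) (.node .leaf (198747, 0, 4, 226088) .leaf)))) (198748, 0, 14, 48489) (.node (.node (.node (.node .leaf (198751, 0, 18, 198829) .leaf) (198753, 0, 11, 227898) (.node .leaf (198754, 0, 12, 34768) .leaf)) (198757, 0, 16, 69296) (.node (.node .leaf (198758, 0, 17, 46203) .leaf) (198760, 0, 10, 258669) (.node .leaf (198763, 0, 14, 148014) .leaf))) (198764, 0, 14, 243349) (.node (.node (.node .leaf (198767, 0, 16, 162573) .leaf) (198768, 0, 18, 218594) (.node .leaf (198771, 0, 15, 189630) .leaf)) (198772, 0, 16, 76543) (.node (.node .leaf (198775, 0, 18, 140992) .leaf) (198777, 0, 14, 92766) (.node .leaf (198778, 0, 17, 55837) .leaf))))))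

/-- part of the orbit tree -/
def itp6_35 : Tree := (.node itp6_31 (198394, 0, 9, 43650) itp6_32)

/-- part of the orbit tree -/
def itp6_36 : Tree := (.node itp6_33 (198650, 0, 16, 173991) itp6_34)

/-- part of the orbit tree -/
def itp6_37 : Tree := (.node (.node (.node (.node (.node (.node .leaf (198782, 0, 15, 141329) .leaf) (198785, 0, 13, 246250) (.node .leaf (198786, 0, 18, 160169) .leaf)) (198789, 0, 16, 260297) (.node (.node .leaf (198790, 0, 18, 139666) .leaf) (198792, 0, 17, 66580) (.node .leaf (198795, 0, 14, 191805) .leaf))) (198796, 0, 12, 81207) (.node (.node (.node .leaf (198799, 0, 16, 37408) .leaf) (198800, 0, 17, 114699) (.node .leaf (198803, 0, 12, 59802) .leaf)) (198804, 0, 18, 90362) (.node (.node .leaf (198807, 0, 12, 53433) .leaf) (198809, 0, 15, 236583) (.node .leaf (198810, 0, 17, 180965) .leaf)))) (198813, 0, 17, 238852) (.node (.node (.node (.node .leaf (198814, 0, 16, 136519) .leaf) (198816, 0, 16, 183287) (.node .leaf (198819, 0, 16, 105018) .leaf)) (198820, 0, 15, 4954) (.node (.node .leaf (198823,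 0, 17, 66998) .leaf) (198825, 0, 17, 192391) (.node .leaf (198826, 0, 15, 221124) .leaf))) (198829, 0, 17, 186020) (.node (.node (.node .leaf (198830, 0, 16, 243204) .leaf) (198833, 0, 16, 176714) (.node .leaf (198834, 0, 16, 197129) .leaf)) (198837, 0, 14, 39730) (.node (.node .leaf (198838, 0, 17, 211754) .leaf) (198840, 0, 16, 30644) (.node .leaf (198843, 0, 15, 124609) .leaf))))) (198844, 0, 15, 20119) (.node (.node (.node (.node (.node .leaf (198847, 0, 16, 235996) .leaf) (198848, 0, 15, 19210) (.node .leaf (198851, 0, 16, 129865) .leaf)) (198852, 0, 15, 102762) (.node (.node .leaf (198855, 0, 19, 8246) .leaf) (198857, 0, 12, 89541) (.node .leaf (198858, 0, 14, 60569) .leaf))) (198861, 0, 15, 205528) (.node (.node (.node .leaf (198862, 0, 15, 168836) .leaf) (198865, 0, 15, 246191) (.node .leaf (198866, 0, 16, 159987) .leaf)) (198869, 0, 15, 191002) (.node (.node .leaf (198870, 0, 17, 219737) .leaf) (198872, 0, 16, 5831) (.node .leaf (198875, 0, 15, 108164) .leaf)))) (198876, 0, 16, 199936) (.node (.node (.node (.node .leaf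 (198879, 0, 16, 106407) .leaf) (198881, 0, 19, 51795) (.node .leaf (198882, 0, 15, 135386) .leaf)) (198885, 0, 18, 177486) (.node (.node .leaf (198886, 0, 16, 197650) .leaf) (198888, 0, 16, 91495) (.node .leaf (198891, 0, 13, 54564) .leaf))) (198892, 0, 15, 1788) (.node (.node (.node .leaf (198895, 0, 17, 112544) .leaf) (198896, 0, 17, 58763) (.node .leaf (198899, 0, 16, 35049) .leaf)) (198900, 0, 15, 65929) (.node (.node .leaf (198903, 0, 14, 45514) .leaf) (198905, 0, 17, 261460) (.node .leaf (198906, 0, 15, 255845) .leaf))))))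

/-- part of the orbit tree -/
def itp6_38 : Tree := (.node (.node (.node (.node (.node (.node .leaf (198910, 0, 14, 160820) .leaf) (198913, 0, 12, 178265) (.node .leaf (198914, 0, 16, 198917) .leaf)) (198917, 0, 15, 183735) (.node (.node .leaf (198918, 0, 10, 228852) .leaf) (198920, 0, 19, 12650) (.node .leaf (198923, 0, 19, 113335) .leaf))) (198924, 0, 15, 2121) (.node (.node (.node .leaf (198927, 0, 17, 112650) .leaf) (198928, 0, 13, 169857) (.node .leaf (198931, 0, 11, 122084) .leaf)) (198932, 0, 17, 59548) (.node (.node .leaf (198935, 0, 18, 124359) .leaf) (198937, 0, 17, 174425) (.node .leaf (198938, 0, 17, 103791) .leaf)))) (198941, 0, 14, 154414) (.node (.node (.node (.node .leaf (198942, 0, 17, 204857) .leaf) (198944, 0, 17, 105597) (.node .leaf (198947, 0, 16, 44868) .leaf)) (198948, 0, 16, 75300) (.node (.node .leaf (198951, 0, 17, 152124) .leaf) (198953, 0, 11, 208847) (.node .leaf (198954, 0, 16, 158394) .leaf))) (198957, 0, 18, 86226) (.node (.node (.node .leaf (198958, 0, 16, 152473) .leaf) (198961, 0, 17, 231220)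 (.node .leaf (198962, 0, 17, 145271) .leaf)) (198965, 0, 15, 249016) (.node (.node .leaf (198966, 0, 16, 134740) .leaf) (198968, 0, 17, 82634) (.node .leaf (198971, 0, 14, 62089) .leaf))))) (198972, 0, 16, 97257) (.node (.node (.node (.node (.node .leaf (198975, 0, 12, 52138) .leaf) (198976, 0, 11, 47613) (.node .leaf (198979, 0, 14, 67745) .leaf)) (198980, 0, 18, 181984) (.node (.node .leaf (198983, 0, 18, 63252) .leaf) (198985, 0, 14, 133711) (.node .leaf (198986, 0, 17, 244499) .leaf))) (198989, 0, 15, 30034) (.node (.node (.node .leaf (198990, 0, 15, 115726) .leaf) (198993, 0, 17, 255559) (.node .leaf (198994, 0, 16, 153092) .leaf)) (198997, 0, 19, 253796) (.node (.node .leaf (198998, 0, 14, 219236) .leaf) (199000, 0, 18, 74681) (.node .leaf (199003, 0, 14, 37882) .leaf)))) (199004, 0, 12, 23178) (.node (.node (.node (.node .leaf (199007, 0, 14, 125910) .leaf) (199009, 0, 17, 169447) (.node .leaf (199010, 0, 18, 206244) .leaf)) (199013, 0, 15, 123588) (.node (.node .leaf (199014, 0, 17, 203911) .leaf) (199016, 0, 17, 77419)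 (.node .leaf (199019, 0, 18, 40759) .leaf))) (199020, 0, 15, 217462) (.node (.node (.node .leaf (199023, 0, 17, 188458) .leaf) (199024, 0, 12, 3540) (.node .leaf (199027, 0, 18, 114071) .leaf)) (199028, 0, 16, 13559) (.node (.node .leaf (199031, 0, 11, 99508) .leaf) (199033, 0, 18, 65971) (.node .leaf (199034, 0, 18, 45295) .leaf))))))

/-- part of the orbit tree -/
def itp6_39 : Tree := (.node (.node (.node (.node (.node (.node .leaf (199038, 0, 17, 184306) .leaf) (199041, 0, 16, 25502) (.node .leaf (199042, 0, 18, 47468) .leaf)) (199045, 0, 15, 23229) (.node (.node .leaf (199046, 0, 12, 125694) .leaf) (199048, 0, 16, 244610) (.node .leaf (199051, 0, 10, 133854) .leaf))) (199052, 0, 15, 171843) (.node (.node (.node .leaf (199055, 0, 19, 30147) .leaf) (199056, 0, 14, 195501) (.node .leaf (199059, 0, 15, 38580) .leaf)) (199060, 0, 18, 180878) (.node (.node .leaf (199063, 0, 16, 225997) .leaf) (199065, 0, 18, 15955) (.node .leaf (199066, 0, 13, 140550) .leaf)))) (199069, 0, 16, 1904) (.node (.node (.node (.node .leaf (199070,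 0, 15, 23067) .leaf) (199072, 0, 14, 142356) (.node .leaf (199075, 0, 17, 236872) .leaf)) (199076, 0, 15, 241966) (.node (.node .leaf (199079, 0, 15, 131437) .leaf) (199081, 0, 15, 85491) (.node .leaf (199082, 0, 17, 64944) .leaf))) (199085, 0, 18, 188603) (.node (.node (.node .leaf (199086, 0, 16, 50323) .leaf) (199089, 0, 18, 132044) (.node .leaf (199090, 0, 17, 242320) .leaf)) (199093, 0, 14, 76061) (.node (.node .leaf (199094, 0, 14, 118157) .leaf) (199096, 0, 17, 251328) (.node .leaf (199099, 0, 16, 157059) .leaf))))) (199100, 0, 16, 184163) (.node (.node (.node (.node (.node .leaf (199103, 0, 14, 154784) .leaf) (199104, 0, 16, 256382) (.node .leaf (199107, 0, 10, 153917) .leaf)) (199108, 0, 13, 249949) (.node (.node .leaf (199111, 0, 17, 51157) .leaf) (199113, 0, 18, 113190) (.node .leaf (199114, 0, 17, 40131) .leaf))) (199117, 0, 16, 71075) (.node (.node (.node .leaf (199118, 0, 12, 160871) .leaf) (199121, 0, 14, 94541) (.node .leaf (199122, 0, 17, 49422) .leaf)) (199125, 0, 15, 84078) (.node (.node .leaf (199126, 0,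 13, 63533) .leaf) (199128, 0, 17, 242867) (.node .leaf (199131, 0, 15, 132336) .leaf)))) (199132, 0, 14, 232848) (.node (.node (.node (.node .leaf (199135, 0, 13, 146899) .leaf) (199137, 0, 15, 11696) (.node .leaf (199138, 0, 15, 105708) .leaf)) (199141, 0, 14, 15310) (.node (.node .leaf (199142, 0, 15, 254961) .leaf) (199144, 0, 11, 171522) (.node .leaf (199147, 0, 14, 227152) .leaf))) (199148, 0, 15, 196144) (.node (.node (.node .leaf (199151, 0, 16, 216691) .leaf) (199152, 0, 16, 616) (.node .leaf (199155, 0, 16, 207517) .leaf)) (199156, 0, 17, 163189) (.node (.node .leaf (199159, 0, 16, 201662) .leaf) (199161, 0, 11, 176602) (.node .leaf (199162, 0, 16, 126819) .leaf))))))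

/-- part of the orbit tree -/
def itp6_40 : Tree := (.node (.node (.node (.node (.node (.node .leaf (199166, 0, 16, 120384) .leaf) (199168, 0, 16, 952) (.node .leaf (199169, 0, 16, 96912) .leaf)) (199172, 0, 17, 107477) (.node (.node .leaf (199173, 0, 19, 82867) .leaf) (199178, 0, 17, 196950) (.node .leaf (199179, 0, 14, 88184) .leaf))) (199182, 0, 15, 97867) (.node (.node (.node .leaf (199183, 0, 15, 144910) .leaf) (199186, 0, 16, 105788) (.node .leaf (199187, 0, 17, 152288) .leaf)) (199190, 0, 18, 254497) (.node (.node .leaf (199191, 0, 15, 113423) .leaf) (199192, 0, 14, 171986) (.node .leaf (199193, 0, 10, 50940) .leaf)))) (199196, 0, 17, 57551) (.node (.node (.node (.node .leaf (199197, 0, 16, 178657) .leaf) (199202, 0, 14, 246054) (.node .leaf (199203, 0, 16, 53230) .leaf)) (199206, 0, 17, 260101) (.node (.node .leaf (199207, 0, 15, 176371) .leaf) (199208, 0, 12, 46235) (.node .leaf (199209, 0, 17, 21757) .leaf))) (199212, 0, 15, 256819) (.node (.node (.node .leaf (199213, 0, 14, 28126) .leaf) (199216, 0, 16, 59734) (.node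 .leaf (199217, 0, 15, 2352) .leaf)) (199220, 0, 19, 53365) (.node (.node .leaf (199221, 0, 17, 208503) .leaf) (199226, 0, 16, 236779) (.node .leaf (199227, 0, 17, 152452) .leaf))))) (199230, 0, 16, 239048) (.node (.node (.node (.node (.node .leaf (199231, 0, 15, 214446) .leaf) (199234, 0, 16, 242496) (.node .leaf (199235, 0, 15, 213043) .leaf)) (199238, 0, 17, 235894) (.node (.node .leaf (199239, 0, 17, 234867) .leaf) (199240, 0, 16, 45486) (.node .leaf (199241, 0, 17, 190592) .leaf))) (199244, 0, 15, 60619) (.node (.node (.node .leaf (199245, 0, 18, 38813) .leaf) (199248, 0, 16, 142788) (.node .leaf (199249, 0, 18, 29930) .leaf)) (199252, 0, 16, 45318) (.node (.node .leaf (199253, 0, 15, 20832) .leaf) (199258, 0, 17, 261528) (.node .leaf (199259, 0, 15, 204286) .leaf)))) (199262, 0, 15, 217143) (.node (.node (.node (.node .leaf (199263, 0, 16, 206045) .leaf) (199264, 0, 17, 75320) (.node .leaf (199265, 0, 13, 229142) .leaf)) (199268, 0, 14, 219429) (.node (.node .leaf (199269, 0, 16, 65547) .leaf) (199274, 0, 16, 140502) (.node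 .leaf (199275, 0, 16, 159326) .leaf))) (199278, 0, 16, 177947) (.node (.node (.node .leaf (199279, 0, 15, 153469) .leaf) (199282, 0, 16, 185333) (.node .leaf (199283, 0, 17, 188818) .leaf)) (199286, 0, 16, 191190) (.node (.node .leaf (199287, 0, 16, 133808) .leaf) (199288, 0, 16, 244306) .leaf)))))

/-- part of the orbit tree -/
def itp6_41 : Tree := (.node itp6_37 (198909, 0, 18, 246903) itp6_38)

/-- part of the orbit tree -/
def itp6_42 : Tree := (.node itp6_39 (199165, 0, 17, 26115) itp6_40)

/-- part of the orbit tree -/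
def itp6_43 : Tree := (.node itp6_35 (198522, 0, 15, 261384) itp6_36)

/-- part of the orbit tree -/
def itp6_44 : Tree := (.node itp6_41 (199037, 0, 17, 229038) itp6_42)

/-- part of the orbit tree -/
def itp6_45 : Tree := (.node (.node (.node (.node (.node (.node .leaf (199292, 0, 15, 106347) .leaf) (199293, 0, 15, 236641) (.node .leaf (199296, 0, 18, 200188) .leaf)) (199297, 0, 16, 257434) (.node (.node .leaf (199300, 0, 15, 210143) .leaf) (199301, 0, 17, 251065) (.node .leaf (199306, 0, 17, 45375) .leaf))) (199307, 0, 15, 38951) (.node (.node (.node .leaf (199310, 0, 16, 16738) .leaf) (199311, 0, 10, 38668) (.node .leaf (199314, 0, 16, 142677) .leaf)) (199315, 0, 14, 50666) (.node (.node .leaf (199318, 0, 16, 21064) .leaf) (199319, 0, 19, 133990) (.node .leaf (199320, 0, 15, 77755) .leaf)))) (199321, 0, 17, 226965) (.node (.node (.node (.node .leaf (199324, 0, 17, 217254) .leaf) (199325, 0, 15, 67976) (.node .leaf (199330, 0, 16, 87596) .leaf)) (199331, 0, 18, 112202) (.node (.node .leaf (199334, 0, 15, 93967) .leaf) (199335,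 0, 18, 102249) (.node .leaf (199336, 0, 17, 140359) .leaf))) (199337, 0, 16, 181239) (.node (.node (.node .leaf (199340, 0, 16, 23386) .leaf) (199341, 0, 15, 195284) (.node .leaf (199344, 0, 15, 163420) .leaf)) (199345, 0, 15, 188675) (.node (.node .leaf (199348, 0, 14, 149375) .leaf) (199349, 0, 17, 173849) (.node .leaf (199354, 0, 18, 244419) .leaf))))) (199355, 0, 15, 125831) (.node (.node (.node (.node (.node .leaf (199358, 0, 10, 78530) .leaf) (199359, 0, 13, 236784) (.node .leaf (199362, 0, 16, 79711) .leaf)) (199363, 0, 13, 120633) (.node (.node .leaf (199366, 0, 17, 69244) .leaf) (199367, 0, 18, 126490) (.node .leaf (199368, 0, 17, 148194) .leaf))) (199369, 0, 17, 88297) (.node (.node (.node .leaf (199372, 0, 16, 98010) .leaf) (199373, 0, 17, 170919) (.node .leaf (199376, 0, 14, 139055) .leaf)) (199377, 0, 16, 246915) (.node (.node .leaf (199380, 0, 17, 254640) .leaf) (199381, 0, 10, 113566) (.node .leaf (199386, 0, 14, 92818) .leaf)))) (199387, 0, 16, 101108) (.node (.node (.node (.node .leaf (199390, 0, 15, 86961)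 .leaf) (199391, 0, 18, 111575) (.node .leaf (199392, 0, 14, 169553) .leaf)) (199393, 0, 16, 232681) (.node (.node .leaf (199396, 0, 17, 218540) .leaf) (199397, 0, 15, 243146) (.node .leaf (199402, 0, 16, 6450) .leaf))) (199403, 0, 18, 249233) (.node (.node (.node .leaf (199406, 0, 16, 8209) .leaf) (199407, 0, 19, 49271) (.node .leaf (199410, 0, 16, 17663) .leaf)) (199411, 0, 17, 86523) (.node (.node .leaf (199414, 0, 17, 96200) .leaf) (199415, 0, 16, 40378) (.node .leaf (199416, 0, 18, 2619) .leaf))))))

/-- part of the orbit tree -/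
def itp6_46 : Tree := (.node (.node (.node (.node (.node (.node .leaf (199420, 0, 12, 198753) .leaf) (199421, 0, 16, 11272) (.node .leaf (199424, 0, 15, 145538) .leaf)) (199425, 0, 14, 186596) (.node (.node .leaf (199428, 0, 18, 131489) .leaf) (199429, 0, 16, 188871) (.node .leaf (199434, 0, 16, 85311) .leaf))) (199435, 0, 16, 109913) (.node (.node (.node .leaf (199438, 0, 13, 95260) .leaf) (199439, 0, 17, 245894) (.node .leaf (199442, 0, 18, 69874) .leaf)) (199443, 0, 17, 127124) (.node (.node .leaf (199446, 0, 18, 76241) .leaf) (199447, 0, 14, 89324) (.node .leaf (199448, 0, 17, 161841) .leaf)))) (199449, 0, 18, 165161) (.node (.node (.node (.node .leaf (199452, 0, 17, 1836) .leaf) (199453, 0, 15, 155138) (.node .leaf (199458, 0, 17, 160035) .leaf)) (199459, 0, 15, 33588) (.node (.node .leaf (199462, 0, 14, 23153) .leaf) (199463, 0, 15, 47639) (.node .leaf (199464, 0, 18, 95181) .leaf))) (199465, 0, 14, 259721) (.node (.node (.node .leaf (199468, 0, 17, 208844) .leaf) (199469, 0, 17, 87550) (.node .leaf (199472, 0, 18, 215842)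 .leaf)) (199473, 0, 9, 240452) (.node (.node .leaf (199476, 0, 17, 102586) .leaf) (199477, 0, 18, 234087) (.node .leaf (199482, 0, 15, 16031) .leaf))))) (199483, 0, 17, 177255) (.node (.node (.node (.node (.node .leaf (199486, 0, 12, 168532) .leaf) (199487, 0, 18, 52090) (.node .leaf (199490, 0, 12, 218275) .leaf)) (199491, 0, 14, 69005) (.node (.node .leaf (199494, 0, 6, 76734) .leaf) (199495, 0, 14, 225936) (.node .leaf (199496, 0, 17, 227228) .leaf))) (199497, 0, 16, 235514) (.node (.node (.node .leaf (199500, 0, 15, 216767) .leaf) (199501, 0, 16, 28798) (.node .leaf (199504, 0, 18, 207441) .leaf)) (199505, 0, 17, 37641) (.node (.node .leaf (199508, 0, 12, 201586) .leaf) (199509, 0, 15, 191508) (.node .leaf (199514, 0, 17, 24556) .leaf)))) (199515, 0, 12, 233959) (.node (.node (.node (.node .leaf (199518, 0, 15, 26319) .leaf) (199519, 0, 16, 34473) (.node .leaf (199520, 0, 16, 115163) .leaf)) (199521, 0, 17, 235765) (.node (.node .leaf (199524, 0, 19, 245446) .leaf) (199525, 0, 18, 124904) (.node .leaf (199530, 0, 13, 76876)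 .leaf))) (199531, 0, 15, 39451) (.node (.node (.node .leaf (199534, 0, 17, 48168) .leaf) (199535, 0, 17, 189702) (.node .leaf (199538, 0, 15, 94593) .leaf)) (199539, 0, 16, 132721) (.node (.node .leaf (199542, 0, 15, 84130) .leaf) (199543, 0, 14, 108740) (.node .leaf (199544, 0, 19, 132156) .leaf))))))

/-- part of the orbit tree -/
def itp6_47 : Tree := (.node (.node (.node (.node (.node (.node .leaf (199548, 0, 17, 146719) .leaf) (199549, 0, 15, 187769) (.node .leaf (199552, 0, 17, 44936) .leaf)) (199553, 0, 17, 20462) (.node (.node .leaf (199556, 0, 14, 76591) .leaf) (199557, 0, 8, 30413) (.node .leaf (199562, 0, 14, 252469) .leaf))) (199563, 0, 15, 211539) (.node (.node (.node .leaf (199566, 0, 16, 254742) .leaf) (199567, 0, 17, 197488) (.node .leaf (199570, 0, 17, 231416) .leaf)) (199571, 0, 16, 223134) (.node (.node .leaf (199574, 0, 16, 245467) .leaf) (199575, 0, 15, 220861) (.node .leaf (199576, 0, 17, 62021) .leaf)))) (199577, 0, 15, 4643) (.node (.node (.node (.node .leaf (199580, 0, 17, 52070) .leaf) (199581, 0,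 17, 11008) (.node .leaf (199586, 0, 17, 193624) .leaf)) (199587, 0, 16, 136254) (.node (.node .leaf (199590, 0, 15, 183675) .leaf) (199591, 0, 18, 142621) (.node .leaf (199592, 0, 17, 98789) .leaf))) (199593, 0, 16, 39562) (.node (.node (.node .leaf (199596, 0, 17, 48313) .leaf) (199597, 0, 14, 189847) (.node .leaf (199600, 0, 14, 24526) .leaf)) (199601, 0, 15, 132832) (.node (.node .leaf (199604, 0, 13, 124171) .leaf) (199605, 0, 10, 31229) (.node .leaf (199610, 0, 15, 220448) .leaf))))) (199611, 0, 11, 66574) (.node (.node (.node (.node (.node .leaf (199614, 0, 17, 168118) .leaf) (199615, 0, 16, 159952) (.node .leaf (199618, 0, 14, 169259) .leaf)) (199619, 0, 14, 179684) (.node (.node .leaf (199622, 0, 17, 170967) .leaf) (199623, 0, 15, 49913) (.node .leaf (199624, 0, 17, 255524) .leaf))) (199625, 0, 18, 114442) (.node (.node (.node .leaf (199628, 0, 17, 104761) .leaf) (199629, 0, 16, 80339) (.node .leaf (199632, 0, 17, 114011) .leaf)) (199633, 0, 17, 89405) (.node (.node .leaf (199636, 0, 14, 197971) .leaf) (199637, 0, 16,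 89213) (.node .leaf (199642, 0, 17, 182502) .leaf)))) (199643, 0, 17, 8590) (.node (.node (.node (.node .leaf (199646, 0, 17, 192965) .leaf) (199647, 0, 15, 135587) (.node .leaf (199648, 0, 17, 160178) .leaf)) (199649, 0, 14, 11933) (.node (.node .leaf (199652, 0, 17, 63448) .leaf) (199653, 0, 16, 153473) (.node .leaf (199658, 0, 14, 95068) .leaf))) (199659, 0, 17, 219936) (.node (.node (.node .leaf (199662, 0, 17, 229989) .leaf) (199663, 0, 16, 221699) (.node .leaf (199666, 0, 14, 257846) .leaf)) (199667, 0, 17, 198381) (.node (.node .leaf (199670, 0, 16, 102443) .leaf) (199671, 0, 19, 212942) (.node .leaf (199672, 0, 12, 37686) .leaf))))))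

/-- part of the orbit tree -/
def itp6_48 : Tree := (.node (.node (.node (.node (.node (.node .leaf (199676, 0, 16, 168645) .leaf) (199677, 0, 18, 19059) (.node .leaf (199680, 0, 17, 199520) .leaf)) (199682, 0, 18, 58130) (.node (.node .leaf (199684, 0, 12, 95357) .leaf) (199686, 0, 18, 171023) (.node .leaf (199689, 0, 17, 112850) .leaf))) (199691, 0, 13, 151712) (.node (.node (.node .leaf (199693, 0, 18, 151795) .leaf) (199695, 0, 16, 12221) (.node .leaf (199697, 0, 16, 144413) .leaf)) (199699, 0, 14, 222264) (.node (.node .leaf (199701, 0, 15, 88997) .leaf) (199703, 0, 12, 177111) (.node .leaf (199704, 0, 15, 104202) .leaf)))) (199706, 0, 17, 163704) (.node (.node (.node (.node .leaf (199708, 0, 15, 51392) .leaf) (199710, 0, 16, 101) (.node .leaf (199713, 0, 15, 214973) .leaf)) (199715, 0, 12, 247606) (.node (.node .leaf (199717, 0, 13, 229022) .leaf) (199719, 0, 17, 143035) (.node .leaf (199720, 0, 16, 171254) .leaf))) (199722, 0, 17, 53862) (.node (.node (.node .leaf (199724, 0, 16, 113504) .leaf) (199726, 0, 16, 199577)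 (.node .leaf (199728, 0, 17, 122766) .leaf)) (199730, 0, 14, 256238) (.node (.node .leaf (199732, 0, 12, 163713) .leaf) (199734, 0, 13, 46728) (.node .leaf (199737, 0, 15, 176942) .leaf))))) (199739, 0, 15, 88924) (.node (.node (.node (.node (.node .leaf (199741, 0, 19, 205651) .leaf) (199743, 0, 17, 160630) (.node .leaf (199745, 0, 16, 68292) .leaf)) (199747, 0, 12, 161515) (.node (.node .leaf (199749, 0, 17, 204781) .leaf) (199751, 0, 15, 40363) (.node .leaf (199752, 0, 17, 123696) .leaf))) (199754, 0, 17, 45845) (.node (.node (.node .leaf (199756, 0, 17, 121363) .leaf) (199758, 0, 14, 142873) (.node .leaf (199760, 0, 16, 75036) .leaf)) (199762, 0, 16, 183662) (.node (.node .leaf (199764, 0, 15, 219649) .leaf) (199766, 0, 15, 45683) (.node .leaf (199769, 0, 18, 235182) .leaf)))) (199771, 0, 17, 32476) (.node (.node (.node (.node .leaf (199773, 0, 17, 125363) .leaf) (199775, 0, 15, 135685) (.node .leaf (199776, 0, 15, 52573) .leaf)) (199778, 0, 13, 105848) (.node (.node .leaf (199780, 0, 16, 62590) .leaf) (199782, 0, 16, 244111)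 (.node .leaf (199785, 0, 16, 40274) .leaf))) (199787, 0, 17, 226592) (.node (.node (.node .leaf (199789, 0, 15, 189007) .leaf) (199791, 0, 13, 68157) (.node .leaf (199793, 0, 16, 152942) .leaf)) (199795, 0, 12, 197963) (.node (.node .leaf (199797, 0, 18, 158797) .leaf) (199799, 0, 18, 235095) (.node .leaf (199800, 0, 17, 37008) .leaf))))))

/-- part of the orbit tree -/
def itp6_49 : Tree := (.node itp6_45 (199417, 0, 15, 250148) itp6_46)

/-- part of the orbit tree -/
def itp6_50 : Tree := (.node itp6_47 (199673, 0, 16, 29520) itp6_48)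

/-- part of the orbit tree -/
def itp6_51 : Tree := (.node (.node (.node (.node (.node (.node .leaf (199804, 0, 16, 43443) .leaf) (199806, 0, 15, 129430) (.node .leaf (199808, 0, 17, 146212) .leaf)) (199810, 0, 16, 217979) (.node (.node .leaf (199812, 0, 15, 131591) .leaf) (199814, 0, 17, 217634) (.node .leaf (199817, 0, 17, 133307) .leaf))) (199819, 0, 15, 110335) (.node (.node (.node .leaf (199821, 0, 16, 30630) .leaf) (199823, 0, 16, 237524) (.node .leaf (199825, 0, 14, 38097) .leaf)) (199827, 0, 16, 228515) (.node (.node .leaf (199829, 0, 17, 191436) .leaf) (199831, 0, 12, 66494) (.node .leaf (199832, 0, 15, 141155) .leaf)))) (199834, 0, 14, 210636) (.node (.node (.node (.node .leaf (199836, 0, 16, 155594) .leaf) (199838, 0, 17, 200687) (.node .leaf (199841, 0, 12, 237357) .leaf)) (199843, 0, 18, 30559) (.node (.node .leaf (199845, 0, 16, 125332) .leaf) (199847, 0, 14, 133186) (.node .leaf (199848, 0, 17, 202057) .leaf))) (199850, 0, 15, 181485) (.node (.node (.node .leaf (199852, 0, 19, 207978) .leaf) (199854, 0, 15,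 162895) (.node .leaf (199856, 0, 17, 215172) .leaf)) (199858, 0, 16, 22663) (.node (.node .leaf (199860, 0, 17, 118760) .leaf) (199862, 0, 18, 139650) (.node .leaf (199865, 0, 17, 66375) .leaf))))) (199867, 0, 16, 56671) (.node (.node (.node (.node (.node .leaf (199869, 0, 15, 111705) .leaf) (199871, 0, 16, 58492) (.node .leaf (199873, 0, 16, 111044) .leaf)) (199875, 0, 18, 86751) (.node (.node .leaf (199877, 0, 18, 50608) .leaf) (199879, 0, 14, 208322) (.node .leaf (199880, 0, 16, 2335) .leaf))) (199882, 0, 16, 254317) (.node (.node (.node .leaf (199884, 0, 17, 161282) .leaf) (199886, 0, 17, 106096) (.node .leaf (199888, 0, 18, 207351) .leaf)) (199890, 0, 15, 162258) (.node (.node .leaf (199892, 0, 17, 200916) .leaf) (199894, 0, 16, 197146) (.node .leaf (199897, 0, 16, 9927) .leaf)))) (199899, 0, 15, 48172) (.node (.node (.node (.node .leaf (199901, 0, 17, 120106) .leaf) (199903, 0, 16, 111016) (.node .leaf (199904, 0, 15, 106121) .leaf)) (199906, 0, 17, 199282) (.node (.node .leaf (199908, 0, 12, 156532) .leaf) (199910, 0,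 16, 2534) (.node .leaf (199913, 0, 17, 208187) .leaf))) (199915, 0, 17, 50505) (.node (.node (.node .leaf (199917, 0, 13, 42634) .leaf) (199919, 0, 18, 178772) (.node .leaf (199921, 0, 16, 49764) .leaf)) (199923, 0, 17, 102977) (.node (.node .leaf (199925, 0, 17, 64327) .leaf) (199927, 0, 16, 9790) (.node .leaf (199928, 0, 17, 133018) .leaf))))))

/-- part of the orbit tree -/
def itp6_52 : Tree := (.node (.node (.node (.node (.node (.node .leaf (199932, 0, 16, 147129) .leaf) (199934, 0, 14, 224924) (.node .leaf (199936, 0, 15, 200282) .leaf)) (199938, 0, 14, 155263) (.node (.node .leaf (199940, 0, 17, 210809) .leaf) (199942, 0, 16, 162796) (.node .leaf (199945, 0, 16, 117668) .leaf))) (199947, 0, 15, 177987) (.node (.node (.node .leaf (199949, 0, 16, 127623) .leaf) (199951, 0, 15, 41634) (.node .leaf (199953, 0, 17, 246619) .leaf)) (199955, 0, 18, 50764) (.node (.node .leaf (199957, 0, 17, 113734) .leaf) (199959, 0, 19, 152628) (.node .leaf (199960, 0, 14, 94441) .leaf)))) (199962, 0, 18, 132018) (.node (.node (.node (.node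 .leaf (199964, 0, 18, 223924) .leaf) (199966, 0, 16, 146065) (.node .leaf (199969, 0, 18, 58825) .leaf)) (199971, 0, 14, 205013) (.node (.node .leaf (199973, 0, 15, 56554) .leaf) (199975, 0, 19, 101583) (.node .leaf (199976, 0, 17, 139319) .leaf))) (199978, 0, 15, 225298) (.node (.node (.node .leaf (199980, 0, 18, 1032) .leaf) (199982, 0, 16, 215345) (.node .leaf (199984, 0, 16, 59263) .leaf)) (199986, 0, 16, 200461) (.node (.node .leaf (199988, 0, 14, 170082) .leaf) (199990, 0, 12, 94224) (.node .leaf (199993, 0, 17, 152781) .leaf))))) (199995, 0, 13, 124961) (.node (.node (.node (.node (.node .leaf (199997, 0, 11, 33063) .leaf) (199999, 0, 16, 246690) (.node .leaf (200001, 0, 14, 126247) .leaf)) (200003, 0, 15, 119967) (.node (.node .leaf (200005, 0, 17, 234042) .leaf) (200007, 0, 16, 31304) (.node .leaf (200008, 0, 12, 220821) .leaf))) (200010, 0, 16, 201057) (.node (.node (.node .leaf (200012, 0, 17, 161895) .leaf) (200014, 0, 18, 182778) (.node .leaf (200016, 0, 17, 138377) .leaf)) (200018, 0, 18, 141965) (.node (.node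 .leaf (200020, 0, 17, 140714) .leaf) (200022, 0, 16, 226703) (.node .leaf (200025, 0, 16, 55671) .leaf)))) (200027, 0, 17, 39231) (.node (.node (.node (.node .leaf (200029, 0, 17, 69200) .leaf) (200031, 0, 14, 189986) (.node .leaf (200032, 0, 14, 182531) .leaf)) (200034, 0, 16, 74097) (.node (.node .leaf (200036, 0, 15, 46622) .leaf) (200038, 0, 11, 132655) (.node .leaf (200041, 0, 17, 109271) .leaf))) (200043, 0, 16, 234179) (.node (.node (.node .leaf (200045, 0, 15, 103412) .leaf) (200047, 0, 16, 50129) (.node .leaf (200049, 0, 17, 190171) .leaf)) (200051, 0, 18, 42815) (.node (.node .leaf (200053, 0, 13, 118329) .leaf) (200055, 0, 17, 40476) (.node .leaf (200056, 0, 17, 209636) .leaf))))))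

/-- part of the orbit tree -/
def itp6_53 : Tree := (.node (.node (.node (.node (.node (.node .leaf (200060, 0, 16, 199623) .leaf) (200062, 0, 16, 115206) (.node .leaf (200064, 0, 13, 104784) .leaf)) (200066, 0, 14, 242840) (.node (.node .leaf (200068, 0, 15, 140279) .leaf) (200070, 0, 16, 61526) (.node .leaf (200073, 0, 15, 220334) .leaf))) (200075, 0, 17, 67370) (.node (.node (.node .leaf (200077, 0, 18, 222605) .leaf) (200079, 0, 17, 227383) (.node .leaf (200081, 0, 17, 29490) .leaf)) (200083, 0, 16, 236352) (.node (.node .leaf (200085, 0, 17, 134191) .leaf) (200087, 0, 16, 157797) (.node .leaf (200088, 0, 17, 115869) .leaf)))) (200090, 0, 17, 76018) (.node (.node (.node (.node .leaf (200092, 0, 14, 130494) .leaf) (200094, 0, 16, 219119) (.node .leaf (200097, 0, 18, 160451) .leaf)) (200099, 0, 16, 205542) (.node (.node .leaf (200101, 0, 14, 67539) .leaf) (200103, 0, 16, 192417) (.node .leaf (200104, 0, 17, 46909) .leaf))) (200106, 0, 12, 124696) (.node (.node (.node .leaf (200108, 0, 15, 36382) .leaf) (200110, 0, 15, 122427)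 (.node .leaf (200112, 0, 13, 60144) .leaf)) (200114, 0, 16, 48996) (.node (.node .leaf (200116, 0, 17, 75787) .leaf) (200118, 0, 15, 180345) (.node .leaf (200121, 0, 14, 143118) .leaf))))) (200123, 0, 17, 229163) (.node (.node (.node (.node (.node .leaf (200125, 0, 16, 236473) .leaf) (200127, 0, 13, 29643) (.node .leaf (200129, 0, 18, 136112) .leaf)) (200131, 0, 17, 111932) (.node (.node .leaf (200133, 0, 19, 141971) .leaf) (200135, 0, 13, 228022) (.node .leaf (200136, 0, 15, 61180) .leaf))) (200138, 0, 13, 99947) (.node (.node (.node .leaf (200140, 0, 17, 61293) .leaf) (200142, 0, 11, 114504) (.node .leaf (200144, 0, 12, 35715) .leaf)) (200146, 0, 15, 105188) (.node (.node .leaf (200148, 0, 18, 3467) .leaf) (200150, 0, 15, 255481) (.node .leaf (200153, 0, 16, 49444) .leaf)))) (200155, 0, 18, 204376) (.node (.node (.node (.node .leaf (200157, 0, 16, 179769) .leaf) (200159, 0, 18, 206715) (.node .leaf (200160, 0, 18, 129059) .leaf)) (200162, 0, 15, 168216) (.node (.node .leaf (200164, 0, 16, 114944) .leaf) (200166, 0, 18, 37157)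 (.node .leaf (200169, 0, 17, 248536) .leaf))) (200171, 0, 12, 159224) (.node (.node (.node .leaf (200173, 0, 18, 197886) .leaf) (200175, 0, 17, 155063) (.node .leaf (200177, 0, 17, 221200) .leaf)) (200179, 0, 16, 179904) (.node (.node .leaf (200181, 0, 16, 219443) .leaf) (200183, 0, 16, 133398) (.node .leaf (200184, 0, 18, 255232) .leaf))))))

/-- part of the orbit tree -/
def itp6_54 : Tree := (.node (.node (.node (.node (.node (.node .leaf (200188, 0, 17, 105677) .leaf) (200190, 0, 17, 160367) (.node .leaf (200200, 0, 17, 255184) .leaf)) (200201, 0, 15, 148896) (.node (.node .leaf (200202, 0, 17, 259555) .leaf) (200203, 0, 15, 202117) (.node .leaf (200204, 0, 18, 171237) .leaf))) (200205, 0, 18, 246499) (.node (.node (.node .leaf (200206, 0, 15, 160703) .leaf) (200207, 0, 16, 208038) (.node .leaf (200208, 0, 17, 96442) .leaf)) (200209, 0, 16, 205204) (.node (.node .leaf (200210, 0, 13, 168136) .leaf) (200211, 0, 16, 51686) (.node .leaf (200212, 0, 18, 198567) .leaf)))) (200213, 0, 15, 139598) (.node (.node (.node (.node .leaf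 (200214, 0, 16, 233741) .leaf) (200215, 0, 16, 177915) (.node .leaf (200224, 0, 15, 160582) .leaf)) (200225, 0, 15, 224205) (.node (.node .leaf (200226, 0, 12, 187278) .leaf) (200227, 0, 18, 246298) (.node .leaf (200228, 0, 11, 3163) .leaf))) (200229, 0, 16, 217838) (.node (.node (.node .leaf (200230, 0, 16, 189101) .leaf) (200231, 0, 17, 113927) (.node .leaf (200248, 0, 16, 61228) .leaf)) (200249, 0, 14, 210432) (.node (.node .leaf (200250, 0, 16, 198494) .leaf) (200251, 0, 16, 157221) (.node .leaf (200252, 0, 15, 257861) .leaf))))) (200253, 0, 17, 51487) (.node (.node (.node (.node (.node .leaf (200254, 0, 16, 180064) .leaf) (200255, 0, 17, 205165) (.node .leaf (200256, 0, 16, 256728) .leaf)) (200257, 0, 11, 199358) (.node (.node .leaf (200258, 0, 19, 178941) .leaf) (200259, 0, 16, 154267) (.node .leaf (200260, 0, 16, 250875) .leaf))) (200261, 0, 12, 225525) (.node (.node (.node .leaf (200262, 0, 15, 180649) .leaf) (200263, 0, 18, 156600) (.node .leaf (200280, 0, 14, 117420) .leaf)) (200281, 0, 17, 234370) (.node (.node .leaf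 (200282, 0, 14, 139998) .leaf) (200283, 0, 16, 31728) (.node .leaf (200284, 0, 16, 243121) .leaf)))) (200285, 0, 13, 126111) (.node (.node (.node (.node .leaf (200286, 0, 11, 24003) .leaf) (200287, 0, 15, 147061) (.node .leaf (200296, 0, 15, 181429) .leaf)) (200297, 0, 15, 39038) (.node (.node .leaf (200298, 0, 11, 234640) .leaf) (200299, 0, 18, 225292) (.node .leaf (200300, 0, 18, 48717) .leaf))) (200301, 0, 14, 190307) (.node (.node (.node .leaf (200302, 0, 14, 218687) .leaf) (200303, 0, 17, 69393) (.node .leaf (200304, 0, 14, 170360) .leaf)) (200305, 0, 14, 162078) (.node (.node .leaf (200306, 0, 17, 243016) .leaf) (200307, 0, 16, 207163) .leaf)))))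

/-- part of the orbit tree -/
def itp6_55 : Tree := (.node itp6_51 (199930, 0, 16, 219071) itp6_52)

/-- part of the orbit tree -/
def itp6_56 : Tree := (.node itp6_53 (200186, 0, 18, 62923) itp6_54)

/-- part of the orbit tree -/
def itp6_57 : Tree := (.node itp6_49 (199545, 0, 15, 189530) itp6_50)

/-- part of the orbit tree -/
def itp6_58 : Tree := (.node itp6_55 (200058, 0, 17, 245019) itp6_56)

/-- part of the orbit tree -/
def itp6_59 : Tree := (.node itp6_43 (198781, 0, 16, 235853) itp6_44)

/-- part of the orbit tree -/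
def itp6_60 : Tree := (.node itp6_57 (199802, 0, 17, 114869) itp6_58)

/-- part of the orbit tree -/
def itp6_61 : Tree := (.node itp6_29 (197245, 0, 17, 196881) itp6_30)

/-- part of the orbit tree -/
def itp6_62 : Tree := (.node itp6_59 (199289, 0, 13, 83502) itp6_60)

/-- part of the orbit tree -/
def itp6_63 : Tree := (.node (.node (.node (.node (.node (.node .leaf (200309, 0, 15, 147517) .leaf) (200310, 0, 15, 117333) (.node .leaf (200311, 0, 17, 200728) .leaf)) (200328, 0, 15, 13004) (.node (.node .leaf (200329, 0, 15, 134551) .leaf) (200330, 0, 16, 244939) (.node .leaf (200331, 0, 15, 124389) .leaf))) (200332, 0, 15, 3055) (.node (.node (.node .leaf (200333, 0, 18, 60297) .leaf) (200334, 0, 17, 89034) (.node .leaf (200335, 0, 17, 236280) .leaf)) (200336, 0, 13, 182483) (.node (.node .leaf (200337, 0, 17, 37373) .leaf) (200338, 0, 16, 73889) (.node .leaf (200339, 0, 15, 227727) .leaf)))) (200340, 0, 16, 22050) (.node (.node (.node (.node .leaf (200341, 0, 18, 46660) .leaf) (200342, 0, 15, 221116) (.node .leaf (200343,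 0, 14, 124513) .leaf)) (200352, 0, 17, 115503) (.node (.node .leaf (200353, 0, 14, 236033) .leaf) (200354, 0, 16, 19588) (.node .leaf (200355, 0, 17, 29299) .leaf))) (200356, 0, 13, 75138) (.node (.node (.node .leaf (200357, 0, 15, 116196) .leaf) (200358, 0, 17, 21568) (.node .leaf (200359, 0, 14, 38337) .leaf)) (200376, 0, 17, 220997) (.node (.node .leaf (200377, 0, 15, 67179) .leaf) (200378, 0, 16, 4425) (.node .leaf (200379, 0, 16, 192025) .leaf))))) (200380, 0, 16, 96335) (.node (.node (.node (.node (.node .leaf (200381, 0, 16, 104489) .leaf) (200382, 0, 17, 10346) (.node .leaf (200383, 0, 15, 37124) .leaf)) (200384, 0, 18, 97746) (.node (.node .leaf (200385, 0, 13, 105908) .leaf) (200386, 0, 13, 11767) (.node .leaf (200387, 0, 18, 88051) .leaf))) (200388, 0, 18, 170418) (.node (.node (.node .leaf (200389, 0, 14, 107671) .leaf) (200390, 0, 17, 94656) (.node .leaf (200391, 0, 16, 207086) .leaf)) (200408, 0, 16, 162501) (.node (.node .leaf (200409, 0, 15, 114809) .leaf) (200410, 0, 11, 28730) (.node .leaf (200411, 0, 16,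 36956) .leaf)))) (200412, 0, 17, 1496) (.node (.node (.node (.node .leaf (200413, 0, 16, 154870) .leaf) (200414, 0, 15, 257450) (.node .leaf (200415, 0, 15, 111748) .leaf)) (200424, 0, 15, 94521) (.node (.node .leaf (200425, 0, 17, 46041) .leaf) (200426, 0, 17, 66458) (.node .leaf (200427, 0, 14, 49253) .leaf))) (200428, 0, 12, 200228) (.node (.node (.node .leaf (200429, 0, 17, 87818) .leaf) (200430, 0, 15, 80569) (.node .leaf (200431, 0, 18, 121567) .leaf)) (200432, 0, 18, 3698) (.node (.node .leaf (200433, 0, 14, 111741) .leaf) (200434, 0, 18, 1313) (.node .leaf (200435, 0, 16, 114225) .leaf))))))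

/-- part of the orbit tree -/
def itp6_64 : Tree := (.node (.node (.node (.node (.node (.node .leaf (200437, 0, 15, 248672) .leaf) (200438, 0, 15, 162364) (.node .leaf (200439, 0, 14, 8978) .leaf)) (200456, 0, 14, 197427) (.node (.node .leaf (200457, 0, 17, 88605) .leaf) (200458, 0, 16, 22423) (.node .leaf (200459, 0, 19, 47089) .leaf))) (200460, 0, 17, 97326) (.node (.node (.node .leaf (200461, 0, 15, 122615) .leaf) (200462, 0, 17, 169052) (.node .leaf (200463, 0, 16, 36562) .leaf)) (200464, 0, 16, 106329) (.node (.node .leaf (200465, 0, 15, 247415) .leaf) (200466, 0, 16, 161579) (.node .leaf (200467, 0, 15, 59964) .leaf)))) (200468, 0, 16, 90972) (.node (.node (.node (.node .leaf (200469, 0, 14, 113002) .leaf) (200470, 0, 16, 2102) (.node .leaf (200471, 0, 17, 151832) .leaf)) (200480, 0, 15, 10719) (.node (.node .leaf (200481, 0, 16, 52619) .leaf) (200482, 0, 14, 97495) (.node .leaf (200483, 0, 17, 104860) .leaf))) (200484, 0, 16, 60344) (.node (.node (.node .leaf (200485, 0, 17, 61594) .leaf) (200486, 0, 14, 82137) (.node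 .leaf (200487, 0, 16, 106687) .leaf)) (200504, 0, 15, 29714) (.node (.node .leaf (200505, 0, 15, 38004) .leaf) (200506, 0, 17, 74807) (.node .leaf (200507, 0, 13, 115793) .leaf))))) (200508, 0, 16, 19761) (.node (.node (.node (.node (.node .leaf (200509, 0, 17, 44375) .leaf) (200510, 0, 16, 106400) (.node .leaf (200511, 0, 17, 130418) .leaf)) (200512, 0, 13, 241957) (.node (.node .leaf (200513, 0, 16, 124939) .leaf) (200514, 0, 12, 22871) (.node .leaf (200515, 0, 16, 129263) .leaf))) (200516, 0, 15, 118328) (.node (.node (.node .leaf (200517, 0, 16, 235286) .leaf) (200518, 0, 14, 140874) (.node .leaf (200519, 0, 10, 115148) .leaf)) (200536, 0, 12, 5473) (.node (.node .leaf (200537, 0, 17, 226401) .leaf) (200538, 0, 17, 181565) (.node .leaf (200539, 0, 17, 107810) .leaf)))) (200540, 0, 14, 217682) (.node (.node (.node (.node .leaf (200541, 0, 18, 52260) .leaf) (200542, 0, 15, 47648) (.node .leaf (200543, 0, 17, 105473) .leaf)) (200552, 0, 15, 91841) (.node (.node .leaf (200553, 0, 17, 100007) .leaf) (200554, 0, 16, 14052) (.node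 .leaf (200555, 0, 15, 54914) .leaf))) (200556, 0, 15, 22958) (.node (.node (.node .leaf (200557, 0, 19, 114564) .leaf) (200558, 0, 16, 4039) (.node .leaf (200559, 0, 14, 125170) .leaf)) (200560, 0, 18, 80652) (.node (.node .leaf (200561, 0, 17, 121706) .leaf) (200562, 0, 14, 27433) (.node .leaf (200563, 0, 17, 68485) .leaf))))))

/-- part of the orbit tree -/
def itp6_65 : Tree := (.node (.node (.node (.node (.node (.node .leaf (200565, 0, 16, 123465) .leaf) (200566, 0, 14, 21002) (.node .leaf (200567, 0, 18, 226456) .leaf)) (200584, 0, 15, 45914) (.node (.node .leaf (200585, 0, 16, 225502) .leaf) (200586, 0, 16, 180381) (.node .leaf (200587, 0, 16, 139515) .leaf))) (200588, 0, 17, 240027) (.node (.node (.node .leaf (200589, 0, 14, 38249) .leaf) (200590, 0, 16, 74805) (.node .leaf (200591, 0, 14, 137688) .leaf)) (200592, 0, 15, 249205) (.node (.node .leaf (200593, 0, 14, 30238) .leaf) (200594, 0, 17, 171344) (.node .leaf (200595, 0, 17, 237164) .leaf)))) (200596, 0, 15, 20525) (.node (.node (.node (.node .leaf (200597, 0, 14,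 133379) .leaf) (200598, 0, 15, 173171) (.node .leaf (200599, 0, 16, 148501) .leaf)) (200608, 0, 16, 74956) (.node (.node .leaf (200609, 0, 18, 155315) .leaf) (200610, 0, 16, 183486) (.node .leaf (200611, 0, 16, 200342) .leaf))) (200612, 0, 14, 220113) (.node (.node (.node .leaf (200613, 0, 16, 157584) .leaf) (200614, 0, 17, 251859) (.node .leaf (200615, 0, 16, 210869) .leaf)) (200632, 0, 14, 189208) (.node (.node .leaf (200633, 0, 13, 131966) .leaf) (200634, 0, 15, 242493) (.node .leaf (200635, 0, 18, 217947) .leaf))))) (200636, 0, 17, 186939) (.node (.node (.node (.node (.node .leaf (200637, 0, 12, 146013) .leaf) (200638, 0, 17, 231966) (.node .leaf (200639, 0, 16, 223864) .leaf)) (200640, 0, 14, 188326) (.node (.node .leaf (200641, 0, 18, 153698) .leaf) (200642, 0, 15, 256318) (.node .leaf (200643, 0, 16, 110608) .leaf))) (200644, 0, 12, 163409) (.node (.node (.node .leaf (200645, 0, 17, 10111) .leaf) (200646, 0, 16, 243360) (.node .leaf (200647, 0, 18, 218822) .leaf)) (200664, 0, 16, 171302) (.node (.node .leaf (200665,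 0, 16, 50184) .leaf) (200666, 0, 13, 95572) (.node .leaf (200667, 0, 15, 207994) .leaf)))) (200668, 0, 16, 57915) (.node (.node (.node (.node .leaf (200669, 0, 14, 154414) .leaf) (200670, 0, 16, 256877) (.node .leaf (200671, 0, 16, 86887) .leaf)) (200680, 0, 16, 104154) (.node (.node .leaf (200681, 0, 17, 249844) .leaf) (200682, 0, 15, 163496) (.node .leaf (200683, 0, 18, 10118) .leaf))) (200684, 0, 14, 248040) (.node (.node (.node .leaf (200685, 0, 14, 206990) .leaf) (200686, 0, 15, 170189) (.node .leaf (200687, 0, 16, 153755) .leaf)) (200688, 0, 15, 240646) (.node (.node .leaf (200689, 0, 18, 216160) .leaf) (200690, 0, 14, 58050) (.node .leaf (200691, 0, 17, 138309) .leaf))))))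

/-- part of the orbit tree -/
def itp6_66 : Tree := (.node (.node (.node (.node (.node (.node .leaf (200693, 0, 16, 226627) .leaf) (200694, 0, 15, 181504) (.node .leaf (200695, 0, 13, 50417) .leaf)) (200705, 0, 19, 146926) (.node (.node .leaf (200706, 0, 12, 232877) .leaf) (200708, 0, 15, 257731) (.node .leaf (200711, 0, 15, 155551) .leaf))) (200713, 0, 16, 205420) (.node (.node (.node .leaf (200714, 0, 15, 168752) .leaf) (200716, 0, 15, 49459) (.node .leaf (200719, 0, 18, 177411) .leaf)) (200720, 0, 12, 255784) (.node (.node .leaf (200723, 0, 17, 153204) .leaf) (200725, 0, 17, 246043) (.node .leaf (200726, 0, 12, 159815) .leaf)))) (200728, 0, 16, 163909) (.node (.node (.node (.node .leaf (200731, 0, 14, 179432) .leaf) (200733, 0, 18, 153856) (.node .leaf (200734, 0, 15, 256323) .leaf)) (200736, 0, 18, 60628) (.node (.node .leaf (200739, 0, 17, 26174) .leaf) (200741, 0, 15, 69432) (.node .leaf (200742, 0, 16, 97211) .leaf))) (200744, 0, 16, 259045) (.node (.node (.node .leaf (200747, 0, 15, 112404) .leaf) (200749, 0, 16, 8315)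 (.node .leaf (200750, 0, 18, 102695) .leaf)) (200753, 0, 14, 49932) (.node (.node .leaf (200754, 0, 14, 94800) .leaf) (200756, 0, 17, 58687) (.node .leaf (200759, 0, 17, 141128) .leaf))))) (200761, 0, 17, 93142) (.node (.node (.node (.node (.node .leaf (200762, 0, 16, 56213) .leaf) (200764, 0, 18, 111251) (.node .leaf (200767, 0, 17, 720) .leaf)) (200768, 0, 17, 112398) (.node (.node .leaf (200771, 0, 16, 30728) .leaf) (200773, 0, 16, 93771) (.node .leaf (200774, 0, 14, 24123) .leaf))) (200776, 0, 14, 234134) (.node (.node (.node .leaf (200779, 0, 13, 139989) .leaf) (200781, 0, 18, 67067) (.node .leaf (200782, 0, 15, 195472) .leaf)) (200785, 0, 16, 124556) (.node (.node .leaf (200786, 0, 16, 22480) .leaf) (200788, 0, 13, 114879) (.node .leaf (200791, 0, 18, 149051) .leaf)))) (200793, 0, 12, 68624) (.node (.node (.node (.node .leaf (200794, 0, 15, 47846) .leaf) (200796, 0, 17, 119776) (.node .leaf (200799, 0, 17, 25507) .leaf)) (200801, 0, 14, 154781) (.node (.node .leaf (200802, 0, 19, 220204) .leaf) (200804, 0, 13, 183107)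 (.node .leaf (200807, 0, 15, 227871) .leaf))) (200809, 0, 17, 133100) (.node (.node (.node .leaf (200810, 0, 16, 243376) .leaf) (200812, 0, 15, 41024) (.node .leaf (200815, 0, 16, 233603) .leaf)) (200816, 0, 14, 180904) (.node (.node .leaf (200819, 0, 17, 95469) .leaf) (200821, 0, 14, 7659) (.node .leaf (200822, 0, 13, 109992) .leaf))))))

/-- part of the orbit tree -/
def itp6_67 : Tree := (.node itp6_63 (200436, 0, 17, 14161) itp6_64)

/-- part of the orbit tree -/
def itp6_68 : Tree := (.node itp6_65 (200692, 0, 17, 234789) itp6_66)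

/-- part of the orbit tree -/
def itp6_69 : Tree := (.node (.node (.node (.node (.node (.node .leaf (200827, 0, 16, 235880) .leaf) (200829, 0, 14, 145523) (.node .leaf (200830, 0, 15, 231472) .leaf)) (200833, 0, 15, 30873) (.node (.node .leaf (200834, 0, 15, 117189) .leaf) (200836, 0, 17, 24234) (.node .leaf (200839, 0, 15, 115682) .leaf))) (200841, 0, 17, 167804) (.node (.node (.node .leaf (200842, 0, 13, 74585) .leaf) (200844, 0, 17, 153145) (.node .leaf (200847, 0, 12, 255610) .leaf)) (200848, 0, 17, 144087) (.node (.node .leaf (200851, 0, 18, 124445) .leaf) (200853, 0, 16, 29042) (.node .leaf (200854, 0, 14, 220113) .leaf)))) (200856, 0, 18, 48605) (.node (.node (.node (.node .leaf (200859, 0, 17, 108300) .leaf) (200861, 0, 17, 39918) (.node .leaf (200862, 0, 16, 76466) .leaf)) (200864, 0, 15, 220349) (.node (.node .leaf (200867, 0, 16, 191969) .leaf) (200869, 0, 14, 227982) (.node .leaf (200870, 0, 16, 183250) .leaf))) (200872, 0, 18, 243233) (.node (.node (.node .leaf (200875, 0, 15, 132989) .leaf) (200877, 0, 14, 114090)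 (.node .leaf (200878, 0, 15, 139598) .leaf)) (200881, 0, 18, 226149) (.node (.node .leaf (200882, 0, 15, 26887) .leaf) (200884, 0, 17, 218454) (.node .leaf (200887, 0, 17, 189450) .leaf))))) (200889, 0, 16, 236025) (.node (.node (.node (.node (.node .leaf (200890, 0, 18, 150687) .leaf) (200892, 0, 13, 245706) (.node .leaf (200895, 0, 18, 134806) .leaf)) (200896, 0, 15, 204804) (.node (.node .leaf (200899, 0, 17, 168007) .leaf) (200901, 0, 11, 155406) (.node .leaf (200902, 0, 16, 257618) .leaf))) (200904, 0, 13, 66972) (.node (.node (.node .leaf (200907, 0, 16, 46559) .leaf) (200909, 0, 16, 122073) (.node .leaf (200910, 0, 17, 197838) .leaf)) (200913, 0, 17, 112695) (.node (.node .leaf (200914, 0, 17, 2164) .leaf) (200916, 0, 16, 159958) (.node .leaf (200919, 0, 17, 246154) .leaf)))) (200921, 0, 18, 236975) (.node (.node (.node (.node .leaf (200922, 0, 16, 199973) .leaf) (200924, 0, 15, 170570) (.node .leaf (200927, 0, 13, 193705) .leaf)) (200929, 0, 17, 89369) (.node (.node .leaf (200930, 0, 18, 97236) .leaf) (200932, 0, 16,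 97066) (.node .leaf (200935, 0, 17, 51830) .leaf))) (200937, 0, 17, 192015) (.node (.node (.node .leaf (200938, 0, 17, 1753) .leaf) (200940, 0, 17, 102838) (.node .leaf (200943, 0, 16, 231177) .leaf)) (200944, 0, 16, 152484) (.node (.node .leaf (200947, 0, 16, 50077) .leaf) (200949, 0, 18, 87282) (.node .leaf (200950, 0, 17, 58798) .leaf))))))

/-- part of the orbit tree -/
def itp6_70 : Tree := (.node (.node (.node (.node (.node (.node .leaf (200955, 0, 14, 10497) .leaf) (200957, 0, 16, 114286) (.node .leaf (200958, 0, 17, 3890) .leaf)) (200961, 0, 16, 106394) (.node (.node .leaf (200962, 0, 12, 12249) .leaf) (200964, 0, 16, 83679) (.node .leaf (200967, 0, 17, 178300) .leaf))) (200969, 0, 17, 244226) (.node (.node (.node .leaf (200970, 0, 17, 160979) .leaf) (200972, 0, 14, 254908) (.node .leaf (200975, 0, 17, 152288) .leaf)) (200976, 0, 14, 196811) (.node (.node .leaf (200979, 0, 18, 178154) .leaf) (200981, 0, 14, 206584) (.node .leaf (200982, 0, 17, 169892) .leaf)))) (200984, 0, 18, 74289) (.node (.node (.node (.node .leaf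 (200987, 0, 17, 37490) .leaf) (200989, 0, 15, 248932) (.node .leaf (200990, 0, 18, 163128) .leaf)) (200992, 0, 15, 2871) (.node (.node .leaf (200995, 0, 16, 113259) .leaf) (200997, 0, 16, 175436) (.node .leaf (200998, 0, 17, 204047) .leaf))) (201000, 0, 18, 20881) (.node (.node (.node .leaf (201003, 0, 16, 86263) .leaf) (201005, 0, 18, 51096) (.node .leaf (201006, 0, 16, 95940) .leaf)) (201009, 0, 16, 60474) (.node (.node .leaf (201010, 0, 15, 103859) .leaf) (201012, 0, 13, 13695) (.node .leaf (201015, 0, 17, 99644) .leaf))))) (201017, 0, 17, 52851) (.node (.node (.node (.node (.node .leaf (201018, 0, 18, 98095) .leaf) (201020, 0, 12, 59456) (.node .leaf (201023, 0, 17, 237732) .leaf)) (201024, 0, 17, 136570) (.node (.node .leaf (201027, 0, 16, 238905) .leaf) (201029, 0, 17, 67716) (.node .leaf (201030, 0, 16, 228476) .leaf))) (201032, 0, 14, 12514) (.node (.node (.node .leaf (201035, 0, 11, 98465) .leaf) (201037, 0, 18, 123416) (.node .leaf (201038, 0, 12, 21316) .leaf)) (201041, 0, 15, 65903) (.node (.node .leaf (201042,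 0, 15, 81162) .leaf) (201044, 0, 15, 75612) (.node .leaf (201047, 0, 17, 123983) .leaf)))) (201049, 0, 17, 174289) (.node (.node (.node (.node .leaf (201050, 0, 18, 202898) .leaf) (201052, 0, 18, 160148) (.node .leaf (201055, 0, 18, 246231) .leaf)) (201057, 0, 15, 130793) (.node (.node .leaf (201058, 0, 17, 244687) .leaf) (201060, 0, 14, 75692) (.node .leaf (201063, 0, 16, 38895) .leaf))) (201065, 0, 15, 188431) (.node (.node (.node .leaf (201066, 0, 18, 217427) .leaf) (201068, 0, 16, 181820) (.node .leaf (201071, 0, 16, 227168) .leaf)) (201072, 0, 14, 140619) (.node (.node .leaf (201075, 0, 17, 186009) .leaf) (201077, 0, 17, 131960) (.node .leaf (201078, 0, 12, 242212) .leaf))))))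

/-- part of the orbit tree -/
def itp6_71 : Tree := (.node (.node (.node (.node (.node (.node .leaf (201083, 0, 16, 62209) .leaf) (201085, 0, 13, 190948) (.node .leaf (201086, 0, 17, 219320) .leaf)) (201089, 0, 17, 40826) (.node (.node .leaf (201090, 0, 17, 178387) .leaf) (201092, 0, 17, 47433) (.node .leaf (201095, 0, 16, 156054) .leaf))) (201097, 0, 15, 30182) (.node (.node (.node .leaf (201098, 0, 14, 115898) .leaf) (201100, 0, 17, 128077) (.node .leaf (201103, 0, 17, 123529) .leaf)) (201104, 0, 16, 45218) (.node (.node .leaf (201107, 0, 15, 8416) .leaf) (201109, 0, 16, 38545) (.node .leaf (201110, 0, 18, 75725) .leaf)))) (201112, 0, 17, 23102) (.node (.node (.node (.node .leaf (201115, 0, 15, 132472) .leaf) (201117, 0, 15, 31757) (.node .leaf (201118, 0, 17, 187453) .leaf)) (201120, 0, 17, 58115) (.node (.node .leaf (201123, 0, 16, 86848) .leaf) (201125, 0, 18, 14918) (.node .leaf (201126, 0, 17, 142385) .leaf))) (201128, 0, 16, 217538) (.node (.node (.node .leaf (201131, 0, 15, 188574) .leaf) (201133, 0, 17, 139230) (.node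 .leaf (201134, 0, 17, 181933) .leaf)) (201137, 0, 16, 162608) (.node (.node .leaf (201138, 0, 15, 140762) .leaf) (201140, 0, 16, 172661) (.node .leaf (201143, 0, 13, 201270) .leaf))))) (201145, 0, 17, 228890) (.node (.node (.node (.node (.node .leaf (201146, 0, 15, 126699) .leaf) (201148, 0, 18, 219177) (.node .leaf (201151, 0, 17, 79790) .leaf)) (201152, 0, 14, 171742) (.node (.node .leaf (201155, 0, 14, 78387) .leaf) (201157, 0, 16, 23349) (.node .leaf (201158, 0, 18, 125814) .leaf))) (201160, 0, 18, 160834) (.node (.node (.node .leaf (201163, 0, 14, 247070) .leaf) (201165, 0, 15, 163501) (.node .leaf (201166, 0, 17, 254765) .leaf)) (201169, 0, 18, 176390) (.node (.node .leaf (201170, 0, 14, 196698) .leaf) (201172, 0, 18, 169781) (.node .leaf (201175, 0, 15, 226117) .leaf)))) (201177, 0, 17, 154522) (.node (.node (.node (.node .leaf (201178, 0, 14, 102296) .leaf) (201180, 0, 13, 163241) (.node .leaf (201183, 0, 17, 249077) .leaf)) (201185, 0, 13, 113402) (.node (.node .leaf (201186, 0, 16, 2982) .leaf) (201188, 0, 13, 241830)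 (.node .leaf (201191, 0, 18, 11669) .leaf))) (201193, 0, 17, 85115) (.node (.node (.node .leaf (201194, 0, 18, 57658) .leaf) (201196, 0, 16, 103742) (.node .leaf (201199, 0, 17, 50953) .leaf)) (201200, 0, 11, 127440) (.node (.node .leaf (201203, 0, 17, 9342) .leaf) (201205, 0, 16, 111377) (.node .leaf (201206, 0, 9, 589) .leaf))))))

/-- part of the orbit tree -/
def itp6_72 : Tree := (.node (.node (.node (.node (.node (.node .leaf (201211, 0, 15, 52962) .leaf) (201213, 0, 15, 88461) (.node .leaf (201214, 0, 17, 59601) .leaf)) (201216, 0, 17, 193016) (.node (.node .leaf (201217, 0, 16, 135582) .leaf) (201222, 0, 16, 235774) (.node .leaf (201223, 0, 17, 227480) .leaf))) (201224, 0, 11, 97902) (.node (.node (.node .leaf (201225, 0, 15, 206656) .leaf) (201230, 0, 17, 114022) (.node .leaf (201231, 0, 16, 89344) .leaf)) (201234, 0, 19, 2678) (.node (.node .leaf (201235, 0, 15, 152408) .leaf) (201236, 0, 16, 105753) (.node .leaf (201237, 0, 16, 246839) .leaf)))) (201242, 0, 17, 261136) (.node (.node (.node (.node .leaf (201243, 0,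 17, 203894) .leaf) (201244, 0, 16, 96133) (.node .leaf (201245, 0, 18, 161136) .leaf)) (201250, 0, 18, 43560) (.node (.node .leaf (201251, 0, 16, 19022) .leaf) (201252, 0, 16, 169701) (.node .leaf (201253, 0, 15, 53195) .leaf))) (201258, 0, 14, 167856) (.node (.node (.node .leaf (201259, 0, 16, 159702) .leaf) (201260, 0, 10, 162937) (.node .leaf (201261, 0, 16, 9559) .leaf)) (201264, 0, 15, 171790) (.node (.node .leaf (201265, 0, 16, 50720) .leaf) (201270, 0, 12, 198753) (.node .leaf (201271, 0, 18, 86351) .leaf))))) (201272, 0, 16, 161170) (.node (.node (.node (.node (.node .leaf (201273, 0, 14, 83878) .leaf) (201278, 0, 18, 254717) (.node .leaf (201279, 0, 15, 11936) .leaf)) (201282, 0, 18, 140298) (.node (.node .leaf (201283, 0, 17, 11069) .leaf) (201284, 0, 16, 107101) (.node .leaf (201285, 0, 18, 82491) .leaf))) (201290, 0, 16, 192195) (.node (.node (.node .leaf (201291, 0, 15, 38840) .leaf) (201292, 0, 16, 231365) (.node .leaf (201293, 0, 16, 223139) .leaf)) (201296, 0, 15, 254763) (.node (.node .leaf (201297, 0, 15,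 197453) .leaf) (201302, 0, 18, 166445) (.node .leaf (201303, 0, 16, 29903) .leaf)))) (201304, 0, 16, 116403) (.node (.node (.node (.node .leaf (201305, 0, 13, 67900) .leaf) (201310, 0, 16, 44981) (.node .leaf (201311, 0, 18, 40531) .leaf)) (201312, 0, 14, 168075) (.node (.node .leaf (201313, 0, 16, 159981) .leaf) (201318, 0, 11, 260493) (.node .leaf (201319, 0, 17, 229171) .leaf))) (201320, 0, 15, 46355) (.node (.node (.node .leaf (201321, 0, 19, 131776) .leaf) (201326, 0, 17, 121877) (.node .leaf (201327, 0, 17, 81011) .leaf)) (201330, 0, 15, 77814) (.node (.node .leaf (201331, 0, 16, 227032) .leaf) (201332, 0, 16, 47257) .leaf)))))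

/-- part of the orbit tree -/
def itp6_73 : Tree := (.node itp6_69 (200952, 0, 16, 30268) itp6_70)

/-- part of the orbit tree -/
def itp6_74 : Tree := (.node itp6_71 (201208, 0, 16, 250952) itp6_72)

/-- part of the orbit tree -/
def itp6_75 : Tree := (.node itp6_67 (200564, 0, 13, 181700) itp6_68)

/-- part of the orbit tree -/
def itp6_76 : Tree := (.node itp6_73 (201080, 0, 17, 184279) itp6_74)

/-- part of the orbit tree -/
def itp6_77 : Tree := (.node (.node (.node (.node (.node (.node .leaf (201338, 0, 18, 116074) .leaf) (201339, 0, 17, 236612) (.node .leaf (201340, 0, 16, 20997) .leaf)) (201341, 0, 18, 136195) (.node (.node .leaf (201344, 0, 17, 26354) .leaf) (201345, 0, 17, 32181) (.node .leaf (201350, 0, 17, 242676) .leaf))) (201351, 0, 14, 126866) (.node (.node (.node .leaf (201352, 0, 17, 148330) .leaf) (201353, 0, 15, 172812) (.node .leaf (201358, 0, 15, 219496) .leaf)) (201359, 0, 13, 65606) (.node (.node .leaf (201362, 0, 12, 216706) .leaf) (201363, 0, 14, 241380) (.node .leaf (201364, 0, 17, 142704) .leaf))))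 (201365, 0, 16, 182242) (.node (.node (.node (.node .leaf (201370, 0, 17, 92954) .leaf) (201371, 0, 17, 101244) (.node .leaf (201372, 0, 18, 182252) .leaf)) (201373, 0, 15, 57978) (.node (.node .leaf (201378, 0, 16, 45539) .leaf) (201379, 0, 15, 190669) (.node .leaf (201380, 0, 15, 75404) .leaf))) (201381, 0, 13, 242754) (.node (.node (.node .leaf (201386, 0, 17, 23423) .leaf) (201387, 0, 15, 63708) (.node .leaf (201388, 0, 12, 94652) .leaf)) (201389, 0, 16, 234814) (.node (.node .leaf (201392, 0, 18, 70994) .leaf) (201393, 0, 16, 226889) (.node .leaf (201398, 0, 15, 47112) .leaf))))) (201399, 0, 14, 39986) (.node (.node (.node (.node (.node .leaf (201400, 0, 13, 209098) .leaf) (201401, 0, 15, 250028) (.node .leaf (201406, 0, 12, 21140) .leaf)) (201407, 0, 12, 134074) (.node (.node .leaf (201410, 0, 17, 103523) .leaf) (201411, 0, 14, 249165) (.node .leaf (201412, 0, 16, 210263) .leaf))) (201413, 0, 15, 251185) (.node (.node (.node .leaf (201418, 0, 16, 31177) .leaf) (201419, 0, 18, 206801) (.node .leaf (201420, 0, 16, 69839)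 .leaf)) (201421, 0, 17, 127145) (.node (.node .leaf (201424, 0, 17, 2791) .leaf) (201425, 0, 15, 152521) (.node .leaf (201430, 0, 16, 105864) .leaf)))) (201431, 0, 16, 246950) (.node (.node (.node (.node .leaf (201432, 0, 17, 217529) .leaf) (201433, 0, 16, 242143) (.node .leaf (201438, 0, 17, 145599) .leaf)) (201439, 0, 17, 186585) (.node (.node .leaf (201440, 0, 18, 1921) .leaf) (201441, 0, 17, 59367) (.node .leaf (201446, 0, 17, 93831) .leaf))) (201447, 0, 16, 53082) (.node (.node (.node .leaf (201448, 0, 15, 139801) .leaf) (201449, 0, 16, 180863) (.node .leaf (201454, 0, 14, 215839) .leaf)) (201455, 0, 17, 240505) (.node (.node .leaf (201458, 0, 17, 171935) .leaf) (201459, 0, 15, 50865) (.node .leaf (201460, 0, 16, 149239) .leaf))))))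

/-- part of the orbit tree -/
def itp6_78 : Tree := (.node (.node (.node (.node (.node (.node .leaf (201466, 0, 18, 161027) .leaf) (201467, 0, 15, 11309) (.node .leaf (201468, 0, 17, 25455) .leaf)) (201469, 0, 17, 113474) (.node (.node .leaf (201472, 0, 18, 94993) .leaf) (201473, 0, 17, 111594) (.node .leaf (201478, 0, 16, 58494) .leaf))) (201479, 0, 19, 179536) (.node (.node (.node .leaf (201480, 0, 18, 226836) .leaf) (201481, 0, 14, 245923) (.node .leaf (201486, 0, 16, 139026) .leaf)) (201487, 0, 16, 196468) (.node (.node .leaf (201490, 0, 17, 162812) .leaf) (201491, 0, 16, 170906) (.node .leaf (201492, 0, 17, 97018) .leaf)))) (201493, 0, 9, 205780) (.node (.node (.node (.node .leaf (201498, 0, 17, 24164) .leaf) (201499, 0, 14, 48642) (.node .leaf (201500, 0, 15, 102502) .leaf)) (201501, 0, 17, 120580) (.node (.node .leaf (201506, 0, 15, 198748) .leaf) (201507, 0, 18, 114503) (.node .leaf (201508, 0, 15, 160006) .leaf))) (201509, 0, 13, 10280) (.node (.node (.node .leaf (201514, 0, 15, 77252) .leaf) (201515, 0, 16, 87515)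 (.node .leaf (201516, 0, 16, 170906) .leaf)) (201517, 0, 13, 42148) (.node (.node .leaf (201520, 0, 17, 162029) .leaf) (201521, 0, 17, 49226) (.node .leaf (201526, 0, 17, 84266) .leaf))))) (201527, 0, 17, 112300) (.node (.node (.node (.node (.node .leaf (201528, 0, 15, 168561) .leaf) (201529, 0, 15, 189906) (.node .leaf (201534, 0, 17, 224434) .leaf)) (201535, 0, 16, 89136) (.node (.node .leaf (201538, 0, 17, 181225) .leaf) (201539, 0, 18, 39623) (.node .leaf (201540, 0, 18, 131113) .leaf))) (201541, 0, 15, 69032) (.node (.node (.node .leaf (201546, 0, 16, 85175) .leaf) (201547, 0, 16, 28763) (.node .leaf (201548, 0, 14, 9649) .leaf)) (201549, 0, 12, 124724) (.node (.node .leaf (201552, 0, 13, 220525) .leaf) (201553, 0, 15, 66627) (.node .leaf (201558, 0, 17, 182786) .leaf)))) (201559, 0, 18, 37676) (.node (.node (.node (.node .leaf (201560, 0, 18, 156871) .leaf) (201561, 0, 18, 165025) (.node .leaf (201566, 0, 13, 139422) .leaf)) (201567, 0, 14, 257447) (.node (.node .leaf (201568, 0, 16, 78591) .leaf) (201569, 0, 16, 135103)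 (.node .leaf (201574, 0, 17, 115198) .leaf))) (201575, 0, 17, 235728) (.node (.node (.node .leaf (201576, 0, 17, 48141) .leaf) (201577, 0, 16, 259841) (.node .leaf (201582, 0, 16, 76642) .leaf)) (201583, 0, 14, 225868) (.node (.node .leaf (201586, 0, 11, 116757) .leaf) (201587, 0, 17, 233787) (.node .leaf (201588, 0, 15, 226185) .leaf))))))

/-- part of the orbit tree -/
def itp6_79 : Tree := (.node (.node (.node (.node (.node (.node .leaf (201594, 0, 18, 16151) .leaf) (201595, 0, 14, 228263) (.node .leaf (201596, 0, 15, 87569) .leaf)) (201597, 0, 15, 112247) (.node (.node .leaf (201600, 0, 17, 181112) .leaf) (201601, 0, 12, 39510) (.node .leaf (201606, 0, 13, 218135) .leaf))) (201607, 0, 16, 68921) (.node (.node (.node .leaf (201608, 0, 16, 141796) .leaf) (201609, 0, 17, 65912) (.node .leaf (201614, 0, 19, 34840) .leaf)) (201615, 0, 16, 26750) (.node (.node .leaf (201618, 0, 16, 60662) .leaf) (201619, 0, 16, 66770) (.node .leaf (201620, 0, 15, 182931) .leaf)))) (201621, 0, 13, 37821) (.node (.node (.node (.node .leaf (201626,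 0, 17, 243552) .leaf) (201627, 0, 16, 141576) (.node .leaf (201628, 0, 16, 139279) .leaf)) (201629, 0, 15, 31009) (.node (.node .leaf (201634, 0, 16, 22016) .leaf) (201635, 0, 15, 134958) (.node .leaf (201636, 0, 13, 115055) .leaf))) (201637, 0, 17, 5686) (.node (.node (.node .leaf (201642, 0, 15, 244430) .leaf) (201643, 0, 15, 219816) (.node .leaf (201644, 0, 18, 76787) .leaf)) (201645, 0, 17, 226013) (.node (.node .leaf (201648, 0, 16, 116868) .leaf) (201649, 0, 18, 153408) (.node .leaf (201654, 0, 14, 24555) .leaf))))) (201655, 0, 16, 212550) (.node (.node (.node (.node (.node .leaf (201656, 0, 17, 74264) .leaf) (201657, 0, 16, 228150) (.node .leaf (201662, 0, 15, 46455) .leaf)) (201663, 0, 15, 191577) (.node (.node .leaf (201666, 0, 15, 95104) .leaf) (201667, 0, 14, 207534) (.node .leaf (201668, 0, 14, 38691) .leaf))) (201669, 0, 18, 179649) (.node (.node (.node .leaf (201674, 0, 12, 104732) .leaf) (201675, 0, 18, 245810) (.node .leaf (201676, 0, 14, 3699) .leaf)) (201677, 0, 17, 153437) (.node (.node .leaf (201680, 0,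 11, 60676) .leaf) (201681, 0, 13, 144947) (.node .leaf (201686, 0, 16, 245587) .leaf)))) (201687, 0, 13, 205637) (.node (.node (.node (.node .leaf (201688, 0, 15, 1944) .leaf) (201689, 0, 17, 155318) (.node .leaf (201694, 0, 15, 102647) .leaf)) (201695, 0, 8, 248281) (.node (.node .leaf (201696, 0, 16, 239093) .leaf) (201697, 0, 14, 114646) (.node .leaf (201702, 0, 15, 183539) .leaf))) (201703, 0, 17, 142485) (.node (.node (.node .leaf (201704, 0, 17, 199780) .leaf) (201705, 0, 15, 87370) (.node .leaf (201710, 0, 17, 59755) .leaf)) (201711, 0, 15, 2317) (.node (.node .leaf (201714, 0, 18, 36229) .leaf) (201715, 0, 16, 8530) (.node .leaf (201716, 0, 18, 124035) .leaf))))))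

/-- part of the orbit tree -/
def itp6_80 : Tree := (.node (.node (.node (.node (.node (.node .leaf (201722, 0, 15, 168672) .leaf) (201723, 0, 14, 52174) (.node .leaf (201724, 0, 17, 246043) .leaf)) (201725, 0, 18, 205181) (.node (.node .leaf (201728, 0, 14, 247584) .leaf) (201730, 0, 17, 169733) (.node .leaf (201733, 0, 17, 204389) .leaf))) (201735, 0, 17, 86635) (.node (.node (.node .leaf (201736, 0, 17, 123576) .leaf) (201738, 0, 16, 45725) (.node .leaf (201741, 0, 18, 80893) .leaf)) (201743, 0, 18, 112887) (.node (.node .leaf (201745, 0, 15, 177138) .leaf) (201747, 0, 14, 88960) (.node .leaf (201748, 0, 16, 99926) .leaf)))) (201750, 0, 14, 97715) (.node (.node (.node (.node .leaf (201753, 0, 15, 153966) .leaf) (201755, 0, 15, 110876) (.node .leaf (201756, 0, 10, 238542) .leaf)) (201758, 0, 16, 193515) (.node (.node .leaf (201761, 0, 15, 112654) .leaf) (201763, 0, 16, 151676) (.node .leaf (201764, 0, 16, 62966) .leaf))) (201766, 0, 17, 107987) (.node (.node (.node .leaf (201769, 0, 17, 86674) .leaf) (201771, 0, 17, 178912)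 (.node .leaf (201772, 0, 16, 184430) .leaf)) (201774, 0, 17, 171219) (.node (.node .leaf (201776, 0, 18, 104406) .leaf) (201778, 0, 15, 163748) (.node .leaf (201781, 0, 11, 159173) .leaf))))) (201783, 0, 16, 212448) (.node (.node (.node (.node (.node .leaf (201784, 0, 12, 97610) .leaf) (201786, 0, 17, 115005) (.node .leaf (201789, 0, 14, 88953) .leaf)) (201791, 0, 15, 176907) (.node (.node .leaf (201793, 0, 13, 19904) .leaf) (201795, 0, 15, 226812) (.node .leaf (201796, 0, 14, 48061) .leaf))) (201798, 0, 16, 115872) (.node (.node (.node .leaf (201801, 0, 10, 157784) .leaf) (201803, 0, 15, 237408) (.node .leaf (201804, 0, 16, 176413) .leaf)) (201806, 0, 16, 244051) (.node (.node .leaf (201808, 0, 15, 45654) .leaf) (201810, 0, 16, 230870) (.node .leaf (201813, 0, 16, 37989) .leaf)))) (201815, 0, 18, 220307) (.node (.node (.node (.node .leaf (201816, 0, 16, 61547) .leaf) (201818, 0, 18, 106574) (.node .leaf (201821, 0, 14, 10542) .leaf)) (201823, 0, 15, 96523) (.node (.node .leaf (201824, 0, 16, 244138) .leaf) (201826, 0, 16,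 194166) (.node .leaf (201829, 0, 13, 229142) .leaf))) (201831, 0, 16, 143155) (.node (.node (.node .leaf (201832, 0, 14, 99275) .leaf) (201834, 0, 15, 54254) (.node .leaf (201837, 0, 15, 88718) .leaf)) (201839, 0, 17, 2731) (.node (.node .leaf (201841, 0, 14, 81504) .leaf) (201843, 0, 16, 28229) (.node .leaf (201844, 0, 16, 124709) .leaf))))))

/-- part of the orbit tree -/
def itp6_81 : Tree := (.node itp6_77 (201461, 0, 18, 86494) itp6_78)

/-- part of the orbit tree -/
def itp6_82 : Tree := (.node itp6_79 (201717, 0, 13, 112189) itp6_80)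

/-- part of the orbit tree -/
def itp6_83 : Tree := (.node (.node (.node (.node (.node (.node .leaf (201849, 0, 15, 228590) .leaf) (201851, 0, 13, 150493) (.node .leaf (201852, 0, 13, 246461) .leaf)) (201854, 0, 14, 45743) (.node (.node .leaf (201856, 0, 18, 76867) .leaf) (201858, 0, 17, 15) (.node .leaf (201861, 0, 17, 100719) .leaf))) (201863, 0, 14, 188930) (.node (.node (.node .leaf (201864, 0, 15, 226738) .leaf) (201866, 0, 11, 143021) (.node .leaf (201869, 0, 17, 240887) .leaf)) (201871, 0, 12, 133278) (.node (.node .leaf (201873, 0, 10, 66459) .leaf) (201875, 0, 17, 170044) (.node .leaf (201876, 0, 15, 75176) .leaf)))) (201878, 0, 18, 183770) (.node (.node (.node (.node .leaf (201881, 0, 15, 125191) .leaf) (201883, 0, 17, 48548) (.node .leaf (201884, 0, 15, 118580) .leaf)) (201886, 0, 14, 25825) (.node (.node .leaf (201889, 0, 17, 179129) .leaf) (201891, 0, 13, 256924) (.node .leaf (201892, 0, 12, 156412) .leaf))) (201894, 0, 19, 116262) (.node (.node (.node .leaf (201897, 0, 19, 189179) .leaf) (201899, 0, 16, 118276)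 (.node .leaf (201900, 0, 16, 18276) .leaf)) (201902, 0, 15, 76986) (.node (.node .leaf (201904, 0, 17, 141247) .leaf) (201906, 0, 17, 118733) (.node .leaf (201909, 0, 17, 64207) .leaf))))) (201911, 0, 15, 109290) (.node (.node (.node (.node (.node .leaf (201912, 0, 15, 132626) .leaf) (201914, 0, 17, 218679) (.node .leaf (201917, 0, 17, 191248) .leaf)) (201919, 0, 16, 66402) (.node (.node .leaf (201921, 0, 16, 208359) .leaf) (201923, 0, 17, 232175) (.node .leaf (201924, 0, 15, 199636) .leaf))) (201926, 0, 17, 218026) (.node (.node (.node .leaf (201929, 0, 15, 65362) .leaf) (201931, 0, 16, 110455) (.node .leaf (201932, 0, 15, 9751) .leaf)) (201934, 0, 15, 2362) (.node (.node .leaf (201936, 0, 17, 17145) .leaf) (201938, 0, 11, 59981) (.node .leaf (201941, 0, 17, 39868) .leaf)))) (201943, 0, 18, 52350) (.node (.node (.node (.node .leaf (201944, 0, 17, 157537) .leaf) (201946, 0, 16, 210756) (.node .leaf (201949, 0, 19, 179748) .leaf)) (201951, 0, 18, 257537) (.node (.node .leaf (201952, 0, 17, 2499) .leaf) (201954, 0, 17, 24956)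 (.node .leaf (201957, 0, 17, 124956) .leaf))) (201959, 0, 16, 247682) (.node (.node (.node .leaf (201960, 0, 15, 58207) .leaf) (201962, 0, 18, 199469) (.node .leaf (201965, 0, 14, 50540) .leaf)) (201967, 0, 17, 208158) (.node (.node .leaf (201969, 0, 17, 9755) .leaf) (201971, 0, 16, 249449) (.node .leaf (201972, 0, 15, 225327) .leaf))))))

/-- part of the orbit tree -/
def itp6_84 : Tree := (.node (.node (.node (.node (.node (.node .leaf (201977, 0, 13, 101618) .leaf) (201979, 0, 16, 206069) (.node .leaf (201980, 0, 16, 60084) .leaf)) (201982, 0, 15, 197318) (.node (.node .leaf (201984, 0, 13, 162761) .leaf) (201986, 0, 18, 103355) (.node .leaf (201989, 0, 18, 48145) .leaf))) (201991, 0, 17, 126004) (.node (.node (.node .leaf (201992, 0, 18, 168277) .leaf) (201994, 0, 16, 96551) (.node .leaf (201997, 0, 16, 178022) .leaf)) (201999, 0, 12, 89876) (.node (.node .leaf (202001, 0, 15, 195943) .leaf) (202003, 0, 14, 240962) (.node .leaf (202004, 0, 18, 140322) .leaf)))) (202006, 0, 17, 226311) (.node (.node (.node (.node .leaf (202009,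 0, 17, 55551) .leaf) (202011, 0, 15, 100570) (.node .leaf (202012, 0, 15, 170174) .leaf)) (202014, 0, 14, 86431) (.node (.node .leaf (202017, 0, 14, 90093) .leaf) (202019, 0, 15, 188130) (.node .leaf (202020, 0, 15, 96734) .leaf))) (202022, 0, 18, 133031) (.node (.node (.node .leaf (202025, 0, 15, 109407) .leaf) (202027, 0, 16, 154883) (.node .leaf (202028, 0, 16, 103234) .leaf)) (202030, 0, 16, 162608) (.node (.node .leaf (202032, 0, 17, 94261) .leaf) (202034, 0, 15, 170055) (.node .leaf (202037, 0, 15, 87558) .leaf))))) (202039, 0, 16, 179828) (.node (.node (.node (.node (.node .leaf (202040, 0, 16, 209772) .leaf) (202042, 0, 17, 156489) (.node .leaf (202045, 0, 16, 113818) .leaf)) (202047, 0, 17, 178700) (.node (.node .leaf (202049, 0, 17, 257972) .leaf) (202051, 0, 16, 234015) (.node .leaf (202052, 0, 16, 210673) .leaf))) (202054, 0, 17, 242732) (.node (.node (.node .leaf (202057, 0, 16, 117292) .leaf) (202059, 0, 13, 39433) (.node .leaf (202060, 0, 16, 46786) .leaf)) (202062, 0, 15, 220848) (.node (.node .leaf (202064,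 0, 13, 96135) .leaf) (202066, 0, 17, 10146) (.node .leaf (202069, 0, 14, 29574) .leaf)))) (202071, 0, 17, 65255) (.node (.node (.node (.node .leaf (202072, 0, 16, 48937) .leaf) (202074, 0, 17, 218971) (.node .leaf (202077, 0, 14, 39194) .leaf)) (202079, 0, 15, 225640) (.node (.node .leaf (202080, 0, 15, 220745) .leaf) (202082, 0, 17, 87042) (.node .leaf (202085, 0, 18, 227450) .leaf))) (202087, 0, 18, 36872) (.node (.node (.node .leaf (202088, 0, 14, 242901) .leaf) (202090, 0, 16, 23719) (.node .leaf (202093, 0, 16, 194810) .leaf)) (202095, 0, 16, 31380) (.node (.node .leaf (202097, 0, 16, 225681) .leaf) (202099, 0, 11, 39395) (.node .leaf (202100, 0, 16, 219042) .leaf))))))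

/-- part of the orbit tree -/
def itp6_85 : Tree := (.node (.node (.node (.node (.node (.node .leaf (202105, 0, 17, 236301) .leaf) (202107, 0, 17, 29567) (.node .leaf (202108, 0, 16, 24777) .leaf)) (202110, 0, 14, 78060) (.node (.node .leaf (202112, 0, 16, 117664) .leaf) (202114, 0, 16, 140242) (.node .leaf (202117, 0, 14, 142107) .leaf))) (202119, 0, 17, 228158) (.node (.node (.node .leaf (202120, 0, 14, 74044) .leaf) (202122, 0, 17, 182606) (.node .leaf (202125, 0, 17, 67343) .leaf)) (202127, 0, 14, 89766) (.node (.node .leaf (202129, 0, 16, 27245) .leaf) (202131, 0, 16, 80456) (.node .leaf (202132, 0, 18, 45864) .leaf)))) (202134, 0, 15, 123661) (.node (.node (.node (.node .leaf (202137, 0, 17, 69348) .leaf) (202139, 0, 18, 190102) (.node .leaf (202140, 0, 17, 75991) .leaf)) (202142, 0, 16, 180389) (.node (.node .leaf (202145, 0, 16, 192388) .leaf) (202147, 0, 16, 67574) (.node .leaf (202148, 0, 16, 114824) .leaf))) (202150, 0, 17, 37037) (.node (.node (.node .leaf (202153, 0, 16, 132376) .leaf) (202155, 0, 18, 126314)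 (.node .leaf (202156, 0, 16, 140075) .leaf)) (202158, 0, 15, 117593) (.node (.node .leaf (202160, 0, 17, 229886) .leaf) (202162, 0, 15, 184795) (.node .leaf (202165, 0, 12, 219323) .leaf))))) (202167, 0, 12, 133278) (.node (.node (.node (.node (.node .leaf (202168, 0, 17, 107622) .leaf) (202170, 0, 16, 115378) (.node .leaf (202173, 0, 16, 97571) .leaf)) (202175, 0, 15, 124033) (.node (.node .leaf (202177, 0, 14, 96446) .leaf) (202179, 0, 15, 8822) (.node .leaf (202180, 0, 16, 257079) .leaf))) (202182, 0, 16, 61918) (.node (.node (.node .leaf (202185, 0, 18, 220454) .leaf) (202187, 0, 16, 51434) (.node .leaf (202188, 0, 17, 230499) .leaf)) (202190, 0, 17, 61145) (.node (.node .leaf (202192, 0, 17, 255452) .leaf) (202194, 0, 15, 3502) (.node .leaf (202197, 0, 16, 211400) .leaf)))) (202199, 0, 16, 158189) (.node (.node (.node (.node .leaf (202200, 0, 13, 115989) .leaf) (202202, 0, 14, 38192) (.node .leaf (202205, 0, 14, 72784) .leaf)) (202207, 0, 14, 49409) (.node (.node .leaf (202208, 0, 16, 168749) .leaf) (202210, 0, 18, 198226)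 (.node .leaf (202213, 0, 16, 51219) .leaf))) (202215, 0, 16, 203341) (.node (.node (.node .leaf (202216, 0, 15, 46773) .leaf) (202218, 0, 18, 124560) (.node .leaf (202221, 0, 13, 28656) .leaf)) (202223, 0, 14, 81877) (.node (.node .leaf (202225, 0, 15, 2846) .leaf) (202227, 0, 14, 88891) (.node .leaf (202228, 0, 16, 59339) .leaf))))))

/-- part of the orbit tree -/
def itp6_86 : Tree := (.node (.node (.node (.node (.node (.node .leaf (202233, 0, 15, 11108) .leaf) (202235, 0, 17, 246550) (.node .leaf (202236, 0, 16, 194499) .leaf)) (202238, 0, 8, 255269) (.node (.node .leaf (202244, 0, 16, 58907) .leaf) (202245, 0, 16, 180021) (.node .leaf (202246, 0, 16, 200297) .leaf))) (202247, 0, 15, 156208) (.node (.node (.node .leaf (202252, 0, 14, 129003) .leaf) (202253, 0, 16, 153001) (.node .leaf (202254, 0, 17, 255221) .leaf)) (202255, 0, 14, 18344) (.node (.node .leaf (202256, 0, 16, 61424) .leaf) (202257, 0, 17, 177886) (.node .leaf (202258, 0, 16, 198530) .leaf)))) (202259, 0, 13, 9030) (.node (.node (.node (.node .leaf (202264,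 0, 19, 1388) .leaf) (202265, 0, 17, 218875) (.node .leaf (202266, 0, 16, 190136) .leaf)) (202267, 0, 18, 111664) (.node (.node .leaf (202272, 0, 17, 254988) .leaf) (202273, 0, 17, 113954) (.node .leaf (202274, 0, 16, 3198) .leaf))) (202275, 0, 17, 86246) (.node (.node (.node .leaf (202280, 0, 14, 200336) .leaf) (202281, 0, 18, 140635) (.node .leaf (202282, 0, 16, 59106) .leaf)) (202283, 0, 14, 226686) (.node (.node .leaf (202292, 0, 17, 257511) .leaf) (202293, 0, 17, 111817) (.node .leaf (202294, 0, 16, 258550) .leaf))))) (202295, 0, 15, 154811) (.node (.node (.node (.node (.node .leaf (202300, 0, 17, 198523) .leaf) (202301, 0, 17, 25645) (.node .leaf (202302, 0, 16, 119918) .leaf)) (202303, 0, 15, 78856) (.node (.node .leaf (202304, 0, 15, 33238) .leaf) (202305, 0, 13, 25008) (.node .leaf (202306, 0, 16, 119283) .leaf))) (202307, 0, 18, 78229) (.node (.node (.node .leaf (202312, 0, 13, 173134) .leaf) (202313, 0, 15, 148520) (.node .leaf (202314, 0, 16, 259179) .leaf)) (202315, 0, 15, 236108) (.node (.node .leaf (202324, 0,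 16, 182375) .leaf) (202325, 0, 17, 37193) (.node .leaf (202326, 0, 16, 73749) .leaf)))) (202327, 0, 18, 227643) (.node (.node (.node (.node .leaf (202332, 0, 12, 140027) .leaf) (202333, 0, 17, 1374) (.node .leaf (202334, 0, 15, 111901) .leaf)) (202335, 0, 17, 234407) (.node (.node .leaf (202340, 0, 15, 242432) .leaf) (202341, 0, 11, 217958) (.node .leaf (202342, 0, 16, 189221) .leaf))) (202343, 0, 17, 29383) (.node (.node (.node .leaf (202348, 0, 15, 104088) .leaf) (202349, 0, 15, 95998) (.node .leaf (202350, 0, 15, 180597) .leaf)) (202351, 0, 17, 9947) (.node (.node .leaf (202352, 0, 15, 127606) .leaf) (202353, 0, 14, 70160) .leaf)))))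

/-- part of the orbit tree -/
def itp6_87 : Tree := (.node itp6_83 (201974, 0, 17, 139274) itp6_84)

/-- part of the orbit tree -/
def itp6_88 : Tree := (.node itp6_85 (202230, 0, 14, 200633) itp6_86)

/-- part of the orbit tree -/
def itp6_89 : Tree := (.node itp6_81 (201589, 0, 16, 132692) itp6_82)

/-- part of the orbit tree -/
def itp6_90 : Tree := (.node itp6_87 (202102, 0, 15, 49104) itp6_88)

/-- part of the orbit tree -/
def itp6_91 : Tree := (.node itp6_75 (200824, 0, 14, 188726) itp6_76)

/-- part of the orbit tree -/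
def itp6_92 : Tree := (.node itp6_89 (201846, 0, 16, 46848) itp6_90)

/-- part of the orbit tree -/
def itp6_93 : Tree := (.node (.node (.node (.node (.node (.node .leaf (202355, 0, 17, 31532) .leaf) (202360, 0, 14, 251886) (.node .leaf (202361, 0, 16, 210824) .leaf)) (202362, 0, 17, 182430) (.node (.node .leaf (202363, 0, 17, 37296) .leaf) (202372, 0, 16, 218738) (.node .leaf (202373, 0, 13, 69468) .leaf))) (202374, 0, 11, 48640) (.node (.node (.node .leaf (202375, 0, 16, 190254) .leaf) (202380, 0, 17, 244974) (.node .leaf (202381, 0, 16, 229511) .leaf)) (202382, 0, 17, 143556) (.node (.node .leaf (202383, 0, 16, 134578) .leaf) (202384, 0, 14, 221081) (.node .leaf (202385, 0, 14, 67255) .leaf)))) (202386, 0, 16, 47083) (.node (.node (.node (.node .leaf (202387, 0, 17, 177228) .leaf) (202392, 0, 17, 242949) (.node .leaf (202393, 0, 15, 115185) .leaf)) (202394, 0, 15, 23927) (.node (.node .leaf (202395, 0, 16, 132185) .leaf) (202400, 0, 18, 161711) (.node .leaf (202401, 0, 14, 134475) .leaf))) (202402, 0, 16, 206730) (.node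 (.node (.node .leaf (202403, 0, 17, 124217) .leaf) (202408, 0, 15, 48889) (.node .leaf (202409, 0, 15, 190423) .leaf)) (202410, 0, 19, 66066) (.node (.node .leaf (202411, 0, 14, 69541) .leaf) (202420, 0, 14, 14041) (.node .leaf (202421, 0, 12, 132256) .leaf))))) (202422, 0, 16, 243196) (.node (.node (.node (.node (.node .leaf (202423, 0, 17, 126162) .leaf) (202428, 0, 15, 46866) (.node .leaf (202429, 0, 17, 193319) .leaf)) (202430, 0, 12, 213860) (.node (.node .leaf (202431, 0, 17, 67150) .leaf) (202432, 0, 12, 94693) (.node .leaf (202433, 0, 14, 194234) .leaf))) (202434, 0, 15, 214777) (.node (.node (.node .leaf (202435, 0, 15, 49337) .leaf) (202440, 0, 16, 105337) (.node .leaf (202441, 0, 17, 54050) .leaf)) (202442, 0, 16, 90977) (.node (.node .leaf (202443, 0, 13, 10789) .leaf) (202452, 0, 12, 22442) (.node .leaf (202453, 0, 16, 47052) .leaf)))) (202454, 0, 17, 168060) (.node (.node (.node (.node .leaf (202455, 0, 16, 51538) .leaf) (202460, 0, 16, 160306) (.node .leaf (202461, 0, 12, 168532) .leaf)) (202462, 0, 11, 205335)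 (.node (.node .leaf (202463, 0, 13, 246385) .leaf) (202468, 0, 14, 160754) (.node .leaf (202469, 0, 16, 115820) .leaf))) (202470, 0, 16, 105344) (.node (.node (.node .leaf (202471, 0, 15, 37961) .leaf) (202476, 0, 18, 170350) (.node .leaf (202477, 0, 18, 254452) .leaf)) (202478, 0, 16, 151991) (.node (.node .leaf (202479, 0, 17, 176593) .leaf) (202480, 0, 17, 222588) (.node .leaf (202481, 0, 17, 9015) .leaf))))))

/-- part of the orbit tree -/
def itp6_94 : Tree := (.node (.node (.node (.node (.node (.node .leaf (202483, 0, 16, 248645) .leaf) (202488, 0, 17, 82148) (.node .leaf (202489, 0, 17, 51627) .leaf)) (202490, 0, 16, 4289) (.node (.node .leaf (202491, 0, 19, 205273) .leaf) (202500, 0, 16, 28679) (.node .leaf (202501, 0, 15, 36961) .leaf))) (202502, 0, 15, 256394) (.node (.node (.node .leaf (202503, 0, 17, 110756) .leaf) (202508, 0, 16, 60260) (.node .leaf (202509, 0, 16, 176714) .leaf)) (202510, 0, 16, 197398) (.node (.node .leaf (202511, 0, 16, 88632) .leaf) (202512, 0, 16, 143729) (.node .leaf (202513, 0, 16, 151869)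 .leaf)))) (202514, 0, 16, 254049) (.node (.node (.node (.node .leaf (202515, 0, 17, 229682) .leaf) (202520, 0, 15, 57999) (.node .leaf (202521, 0, 14, 62607) .leaf)) (202522, 0, 17, 199421) (.node (.node .leaf (202523, 0, 16, 107690) .leaf) (202528, 0, 17, 197615) (.node .leaf (202529, 0, 19, 238263) .leaf))) (202530, 0, 15, 135924) (.node (.node (.node .leaf (202531, 0, 19, 176819) .leaf) (202536, 0, 16, 256371) (.node .leaf (202537, 0, 14, 100143) .leaf)) (202538, 0, 14, 14188) (.node (.node .leaf (202539, 0, 15, 153647) .leaf) (202548, 0, 18, 199172) (.node .leaf (202549, 0, 16, 86826) .leaf))))) (202550, 0, 14, 57974) (.node (.node (.node (.node (.node .leaf (202551, 0, 17, 179032) .leaf) (202556, 0, 16, 206399) (.node .leaf (202557, 0, 16, 247385) .leaf)) (202558, 0, 14, 2282) (.node (.node .leaf (202559, 0, 13, 152004) .leaf) (202560, 0, 15, 140911) (.node .leaf (202561, 0, 13, 246724) .leaf))) (202562, 0, 17, 118301) (.node (.node (.node .leaf (202563, 0, 17, 235315) .leaf) (202568, 0, 14, 67130) (.node .leaf (202569,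 0, 16, 124508) .leaf)) (202570, 0, 15, 22047) (.node (.node .leaf (202571, 0, 15, 228783) .leaf) (202580, 0, 16, 143236) (.node .leaf (202581, 0, 15, 30378) .leaf)))) (202582, 0, 15, 13041) (.node (.node (.node (.node .leaf (202583, 0, 18, 237272) .leaf) (202588, 0, 16, 181528) (.node .leaf (202589, 0, 14, 239402) .leaf)) (202590, 0, 13, 77162) (.node (.node .leaf (202591, 0, 17, 194319) .leaf) (202596, 0, 17, 74872) (.node .leaf (202597, 0, 18, 228694) .leaf))) (202598, 0, 16, 82257) (.node (.node (.node .leaf (202599, 0, 18, 106807) .leaf) (202604, 0, 16, 144620) (.node .leaf (202605, 0, 15, 235466) .leaf)) (202606, 0, 17, 140950) (.node (.node .leaf (202607, 0, 14, 32696) .leaf) (202608, 0, 13, 77203) (.node .leaf (202609, 0, 13, 226493) .leaf))))))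

/-- part of the orbit tree -/
def itp6_95 : Tree := (.node (.node (.node (.node (.node (.node .leaf (202611, 0, 18, 254017) .leaf) (202616, 0, 18, 116495) (.node .leaf (202617, 0, 17, 237089) .leaf)) (202618, 0, 16, 75199) (.node (.node .leaf (202619, 0, 16, 116185) .leaf) (202628, 0, 16, 242065) (.node .leaf (202629, 0, 16, 132971) .leaf))) (202630, 0, 17, 23011) (.node (.node (.node .leaf (202631, 0, 16, 131277) .leaf) (202636, 0, 17, 219917) (.node .leaf (202637, 0, 17, 66083) .leaf)) (202638, 0, 18, 45951) (.node (.node .leaf (202639, 0, 15, 94934) .leaf) (202640, 0, 17, 42619) (.node .leaf (202641, 0, 18, 17949) .leaf)))) (202642, 0, 17, 20488) (.node (.node (.node (.node .leaf (202643, 0, 15, 71224) .leaf) (202648, 0, 15, 164835) (.node .leaf (202649, 0, 17, 156549) .leaf)) (202650, 0, 19, 47764) (.node (.node .leaf (202651, 0, 11, 209824) .leaf) (202656, 0, 16, 45958) (.node .leaf (202657, 0, 15, 79293) .leaf))) (202658, 0, 15, 34302) (.node (.node (.node .leaf (202659, 0, 18, 66266) .leaf) (202664, 0, 14, 258115) (.node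 .leaf (202665, 0, 16, 200741) .leaf)) (202666, 0, 17, 172134) (.node (.node .leaf (202667, 0, 17, 124998) .leaf) (202676, 0, 14, 47725) (.node .leaf (202677, 0, 15, 189251) .leaf))))) (202678, 0, 15, 181384) (.node (.node (.node (.node (.node .leaf (202679, 0, 12, 140526) .leaf) (202684, 0, 13, 110901) (.node .leaf (202685, 0, 14, 86355) .leaf)) (202686, 0, 15, 57616) (.node (.node .leaf (202687, 0, 11, 374) .leaf) (202688, 0, 17, 103942) (.node .leaf (202689, 0, 18, 87246) .leaf))) (202690, 0, 17, 58509) (.node (.node (.node .leaf (202691, 0, 17, 10074) .leaf) (202696, 0, 17, 97434) (.node .leaf (202697, 0, 17, 225622) .leaf)) (202698, 0, 17, 169192) (.node (.node .leaf (202699, 0, 12, 139635) .leaf) (202708, 0, 17, 106477) (.node .leaf (202709, 0, 15, 247491) .leaf)))) (202710, 0, 14, 173563) (.node (.node (.node (.node .leaf (202711, 0, 17, 148893) .leaf) (202716, 0, 14, 95601) (.node .leaf (202717, 0, 11, 207967) .leaf)) (202718, 0, 15, 32867) (.node (.node .leaf (202719, 0, 17, 24581) .leaf) (202724, 0, 15, 165502) (.node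 .leaf (202725, 0, 18, 52543) .leaf))) (202726, 0, 14, 251483) (.node (.node (.node .leaf (202727, 0, 16, 206157) .leaf) (202732, 0, 14, 41958) (.node .leaf (202733, 0, 10, 17280) .leaf)) (202734, 0, 18, 127939) (.node (.node .leaf (202735, 0, 15, 249809) .leaf) (202736, 0, 16, 171514) (.node .leaf (202737, 0, 17, 50388) .leaf))))))

/-- part of the orbit tree -/
def itp6_96 : Tree := (.node (.node (.node (.node (.node (.node .leaf (202739, 0, 16, 208038) .leaf) (202744, 0, 17, 161638) (.node .leaf (202745, 0, 14, 131830) .leaf)) (202746, 0, 16, 106260) (.node (.node .leaf (202747, 0, 16, 217811) .leaf) (202752, 0, 10, 120033) (.node .leaf (202755, 0, 14, 26045) .leaf))) (202756, 0, 16, 39607) (.node (.node (.node .leaf (202759, 0, 18, 76532) .leaf) (202760, 0, 15, 81533) (.node .leaf (202763, 0, 17, 36641) .leaf)) (202764, 0, 18, 213344) (.node (.node .leaf (202767, 0, 15, 192572) .leaf) (202769, 0, 15, 146343) (.node .leaf (202770, 0, 15, 232420) .leaf)))) (202773, 0, 15, 131716) (.node (.node (.node (.node .leaf (202774,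 0, 16, 144760) .leaf) (202777, 0, 14, 7743) (.node .leaf (202778, 0, 15, 41209) .leaf)) (202781, 0, 17, 224952) (.node (.node .leaf (202782, 0, 14, 188388) .leaf) (202785, 0, 19, 215047) (.node .leaf (202786, 0, 15, 213401) .leaf))) (202789, 0, 12, 225572) (.node (.node (.node .leaf (202790, 0, 18, 180583) .leaf) (202793, 0, 14, 137817) (.node .leaf (202794, 0, 13, 56796) .leaf)) (202797, 0, 17, 87228) (.node (.node .leaf (202798, 0, 14, 58623) .leaf) (202800, 0, 9, 188189) (.node .leaf (202803, 0, 15, 224833) .leaf))))) (202804, 0, 16, 125207) (.node (.node (.node (.node (.node .leaf (202807, 0, 18, 69980) .leaf) (202808, 0, 14, 259500) (.node .leaf (202811, 0, 16, 230621) .leaf)) (202812, 0, 18, 248975) (.node (.node .leaf (202815, 0, 15, 163020) .leaf) (202817, 0, 15, 207220) (.node .leaf (202818, 0, 16, 156697) .leaf))) (202821, 0, 18, 109144) (.node (.node (.node .leaf (202822, 0, 14, 6916) .leaf) (202825, 0, 9, 68844) (.node .leaf (202826, 0, 17, 48303) .leaf)) (202829, 0, 17, 82116) (.node (.node .leaf (202830, 0, 17,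 61848) .leaf) (202832, 0, 17, 260765) (.node .leaf (202835, 0, 17, 260) .leaf)))) (202836, 0, 15, 100452) (.node (.node (.node (.node .leaf (202839, 0, 18, 14375) .leaf) (202840, 0, 16, 234719) (.node .leaf (202843, 0, 17, 140444) .leaf)) (202844, 0, 15, 93980) (.node (.node .leaf (202847, 0, 17, 138687) .leaf) (202848, 0, 16, 61793) (.node .leaf (202851, 0, 18, 81981) .leaf))) (202852, 0, 18, 64452) (.node (.node (.node .leaf (202855, 0, 18, 84871) .leaf) (202856, 0, 17, 7165) (.node .leaf (202859, 0, 16, 109217) .leaf)) (202860, 0, 15, 156896) (.node (.node .leaf (202863, 0, 17, 251324) .leaf) (202865, 0, 13, 154324) (.node .leaf (202866, 0, 17, 94181) .leaf))))))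

/-- part of the orbit tree -/
def itp6_97 : Tree := (.node itp6_93 (202482, 0, 16, 144729) itp6_94)

/-- part of the orbit tree -/
def itp6_98 : Tree := (.node itp6_95 (202738, 0, 18, 104237) itp6_96)

/-- part of the orbit tree -/
def itp6_99 : Tree := (.node (.node (.node (.node (.node (.node .leaf (202870, 0, 17, 200952) .leaf) (202873, 0, 11, 32588) (.node .leaf (202874, 0, 17, 99705) .leaf)) (202877, 0, 15, 150328) (.node (.node .leaf (202878, 0, 14, 128556) .leaf) (202880, 0, 14, 144542) (.node .leaf (202883, 0, 16, 251348) .leaf))) (202884, 0, 9, 7061) (.node (.node (.node .leaf (202887, 0, 15, 109257) .leaf) (202888, 0, 17, 4358) (.node .leaf (202891, 0, 16, 106821) .leaf)) (202892, 0, 18, 61705) (.node (.node .leaf (202895, 0, 14, 82005) .leaf) (202897, 0, 14, 150352) (.node .leaf (202898, 0, 17, 72942) .leaf)))) (202901, 0, 16, 38286) (.node (.node (.node (.node .leaf (202902, 0, 18, 99601) .leaf) (202905, 0, 17, 166197) (.node .leaf (202906, 0, 16, 211318) .leaf)) (202909, 0, 15, 57041) (.node (.node .leaf (202910,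 0, 17, 196693) .leaf) (202913, 0, 16, 122637) (.node .leaf (202914, 0, 12, 28494) .leaf))) (202917, 0, 15, 212913) (.node (.node (.node .leaf (202918, 0, 16, 167661) .leaf) (202921, 0, 16, 260757) (.node .leaf (202922, 0, 17, 7020) .leaf)) (202925, 0, 15, 251181) (.node (.node .leaf (202926, 0, 14, 160757) .leaf) (202928, 0, 17, 214846) (.node .leaf (202931, 0, 15, 56872) .leaf))))) (202932, 0, 15, 228893) (.node (.node (.node (.node (.node .leaf (202935, 0, 14, 172341) .leaf) (202936, 0, 18, 99816) (.node .leaf (202939, 0, 13, 53989) .leaf)) (202940, 0, 18, 260853) (.node (.node .leaf (202943, 0, 16, 60358) .leaf) (202945, 0, 16, 114302) (.node .leaf (202946, 0, 17, 3645) .leaf))) (202949, 0, 13, 137777) (.node (.node (.node .leaf (202950, 0, 13, 14110) .leaf) (202953, 0, 16, 36784) (.node .leaf (202954, 0, 15, 142245) .leaf)) (202957, 0, 15, 192685) (.node (.node .leaf (202958, 0, 14, 135814) .leaf) (202960, 0, 17, 206413) (.node .leaf (202963, 0, 16, 129960) .leaf)))) (202964, 0, 15, 144873) (.node (.node (.node (.node .leaf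 (202967, 0, 14, 230581) .leaf) (202968, 0, 17, 41064) (.node .leaf (202971, 0, 15, 45974) .leaf)) (202972, 0, 16, 188277) (.node (.node .leaf (202975, 0, 11, 224809) .leaf) (202976, 0, 14, 153069) (.node .leaf (202979, 0, 17, 192596) .leaf))) (202980, 0, 16, 81429) (.node (.node (.node .leaf (202983, 0, 16, 36681) .leaf) (202984, 0, 16, 28789) (.node .leaf (202987, 0, 15, 114742) .leaf)) (202988, 0, 15, 119945) (.node (.node .leaf (202991, 0, 17, 129301) .leaf) (202993, 0, 13, 52702) (.node .leaf (202994, 0, 17, 97693) .leaf))))))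

/-- part of the orbit tree -/
def itp6_100 : Tree := (.node (.node (.node (.node (.node (.node .leaf (202998, 0, 17, 83134) .leaf) (203001, 0, 15, 190534) (.node .leaf (203002, 0, 16, 219141) .leaf)) (203005, 0, 16, 129873) (.node (.node .leaf (203006, 0, 17, 221478) .leaf) (203008, 0, 15, 197088) (.node .leaf (203011, 0, 17, 33374) .leaf))) (203012, 0, 15, 216095) (.node (.node (.node .leaf (203015, 0, 16, 166016) .leaf) (203016, 0, 17, 74872) (.node .leaf (203019, 0, 16, 37947) .leaf)) (203020, 0, 16, 239235) (.node (.node .leaf (203023, 0, 16, 137183) .leaf) (203025, 0, 16, 72922) (.node .leaf (203026, 0, 18, 44422) .leaf)))) (203029, 0, 15, 222151) (.node (.node (.node (.node .leaf (203030, 0, 13, 4275) .leaf) (203033, 0, 10, 244811) (.node .leaf (203034, 0, 16, 134152) .leaf)) (203037, 0, 14, 230760) (.node (.node .leaf (203038, 0, 16, 145415) .leaf) (203041, 0, 16, 60019) (.node .leaf (203042, 0, 14, 88624) .leaf))) (203045, 0, 17, 26683) (.node (.node (.node .leaf (203046, 0, 16, 121191) .leaf) (203049, 0, 16, 184299)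 (.node .leaf (203050, 0, 17, 216294) .leaf)) (203053, 0, 16, 194248) (.node (.node .leaf (203054, 0, 16, 214667) .leaf) (203056, 0, 14, 160320) (.node .leaf (203059, 0, 17, 246275) .leaf))))) (203060, 0, 16, 150371) (.node (.node (.node (.node (.node .leaf (203063, 0, 14, 128703) .leaf) (203064, 0, 15, 184930) (.node .leaf (203067, 0, 13, 222014) .leaf)) (203068, 0, 16, 28411) (.node (.node .leaf (203071, 0, 17, 122552) .leaf) (203073, 0, 17, 35584) (.node .leaf (203074, 0, 16, 80707) .leaf))) (203077, 0, 12, 85435) (.node (.node (.node .leaf (203078, 0, 17, 66144) .leaf) (203081, 0, 15, 251962) (.node .leaf (203082, 0, 17, 204507) .leaf)) (203085, 0, 11, 169915) (.node (.node .leaf (203086, 0, 6, 5755) .leaf) (203088, 0, 18, 135987) (.node .leaf (203091, 0, 17, 175138) .leaf)))) (203092, 0, 16, 141840) (.node (.node (.node (.node .leaf (203095, 0, 17, 236115) .leaf) (203096, 0, 16, 260066) (.node .leaf (203099, 0, 15, 149182) .leaf)) (203100, 0, 17, 100607) (.node (.node .leaf (203103, 0, 17, 114635) .leaf) (203104, 0, 17,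 221331) (.node .leaf (203107, 0, 14, 108510) .leaf))) (203108, 0, 15, 219568) (.node (.node (.node .leaf (203111, 0, 15, 252099) .leaf) (203112, 0, 16, 64542) (.node .leaf (203115, 0, 15, 62792) .leaf)) (203116, 0, 15, 164611) (.node (.node .leaf (203119, 0, 13, 52331) .leaf) (203121, 0, 9, 14682) (.node .leaf (203122, 0, 17, 100358) .leaf))))))

/-- part of the orbit tree -/
def itp6_101 : Tree := (.node (.node (.node (.node (.node (.node .leaf (203126, 0, 14, 29120) .leaf) (203129, 0, 16, 54214) (.node .leaf (203130, 0, 14, 159099) .leaf)) (203133, 0, 14, 255003) (.node (.node .leaf (203134, 0, 14, 204167) .leaf) (203136, 0, 15, 164715) (.node .leaf (203139, 0, 14, 209463) .leaf))) (203140, 0, 18, 110537) (.node (.node (.node .leaf (203143, 0, 13, 85290) .leaf) (203144, 0, 17, 158199) (.node .leaf (203147, 0, 16, 252075) .leaf)) (203148, 0, 15, 5866) (.node (.node .leaf (203151, 0, 13, 108470) .leaf) (203153, 0, 15, 175283) (.node .leaf (203154, 0, 16, 204271) .leaf)))) (203157, 0, 16, 54190) (.node (.node (.node (.node .leaf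 (203158, 0, 15, 90866) .leaf) (203161, 0, 18, 149039) (.node .leaf (203162, 0, 18, 259955) .leaf)) (203165, 0, 16, 14642) (.node (.node .leaf (203166, 0, 16, 100462) .leaf) (203169, 0, 17, 163193) (.node .leaf (203170, 0, 18, 5651) .leaf))) (203173, 0, 17, 251986) (.node (.node (.node .leaf (203174, 0, 16, 157966) .leaf) (203177, 0, 18, 85459) (.node .leaf (203178, 0, 12, 125090) .leaf)) (203181, 0, 17, 25026) (.node (.node .leaf (203182, 0, 18, 164754) .leaf) (203184, 0, 15, 58698) (.node .leaf (203187, 0, 17, 14795) .leaf))))) (203188, 0, 18, 56425) (.node (.node (.node (.node (.node .leaf (203191, 0, 8, 93226) .leaf) (203192, 0, 15, 90635) (.node .leaf (203195, 0, 18, 54103) .leaf)) (203196, 0, 17, 204054) (.node (.node .leaf (203199, 0, 16, 175178) .leaf) (203201, 0, 18, 33487) (.node .leaf (203202, 0, 17, 78739) .leaf))) (203205, 0, 14, 140585) (.node (.node (.node .leaf (203206, 0, 15, 216206) .leaf) (203209, 0, 16, 14738) (.node .leaf (203210, 0, 16, 100817) .leaf)) (203213, 0, 16, 177) (.node (.node .leaf (203214, 0,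 14, 239122) .leaf) (203216, 0, 18, 44311) (.node .leaf (203219, 0, 16, 78970) .leaf)))) (203220, 0, 10, 48410) (.node (.node (.node (.node .leaf (203223, 0, 18, 222038) .leaf) (203224, 0, 18, 18315) (.node .leaf (203227, 0, 13, 128727) .leaf)) (203228, 0, 17, 145558) (.node (.node .leaf (203231, 0, 14, 207041) .leaf) (203232, 0, 18, 239339) (.node .leaf (203235, 0, 18, 18394) .leaf))) (203236, 0, 14, 121334) (.node (.node (.node .leaf (203239, 0, 16, 32505) .leaf) (203240, 0, 16, 250369) (.node .leaf (203243, 0, 17, 156226) .leaf)) (203244, 0, 17, 256802) (.node (.node .leaf (203247, 0, 16, 33334) .leaf) (203249, 0, 17, 231731) (.node .leaf (203250, 0, 17, 145519) .leaf))))))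

/-- part of the orbit tree -/
def itp6_102 : Tree := (.node (.node (.node (.node (.node (.node .leaf (203254, 0, 15, 190154) .leaf) (203257, 0, 16, 84530) (.node .leaf (203258, 0, 13, 64113) .leaf)) (203261, 0, 15, 72882) (.node (.node .leaf (203262, 0, 17, 50002) .leaf) (203266, 0, 15, 122817) (.node .leaf (203267, 0, 19, 81831) .leaf))) (203270, 0, 16, 18082) (.node (.node (.node .leaf (203271, 0, 15, 139148) .leaf) (203274, 0, 16, 185123) (.node .leaf (203275, 0, 16, 203327) .leaf)) (203278, 0, 18, 246650) (.node (.node .leaf (203279, 0, 16, 205596) .leaf) (203280, 0, 16, 194481) (.node .leaf (203281, 0, 17, 130581) .leaf)))) (203284, 0, 18, 120870) (.node (.node (.node (.node .leaf (203285, 0, 15, 229640) .leaf) (203288, 0, 14, 216487) (.node .leaf (203289, 0, 17, 70793) .leaf)) (203292, 0, 17, 78522) (.node (.node .leaf (203293, 0, 16, 2924) .leaf) (203296, 0, 16, 44231) (.node .leaf (203297, 0, 14, 222327) .leaf))) (203300, 0, 14, 185306) (.node (.node (.node .leaf (203301, 0, 17, 220500) .leaf) (203304, 0, 16, 18011)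 (.node .leaf (203305, 0, 16, 139125) .leaf)) (203308, 0, 16, 145734) (.node (.node .leaf (203309, 0, 16, 96460) .leaf) (203314, 0, 18, 44129) (.node .leaf (203315, 0, 15, 224109) .leaf))))) (203318, 0, 16, 38210) (.node (.node (.node (.node (.node .leaf (203319, 0, 16, 70768) .leaf) (203322, 0, 14, 166393) (.node .leaf (203323, 0, 17, 229873) .leaf)) (203326, 0, 12, 239554) (.node (.node .leaf (203327, 0, 15, 151740) .leaf) (203328, 0, 17, 100679) (.node .leaf (203329, 0, 18, 249961) .leaf))) (203332, 0, 17, 259674) (.node (.node (.node .leaf (203333, 0, 16, 212007) .leaf) (203336, 0, 17, 114938) (.node .leaf (203337, 0, 16, 73884) .leaf)) (203340, 0, 16, 129497) (.node (.node .leaf (203341, 0, 15, 83432) .leaf) (203346, 0, 17, 6083) (.node .leaf (203347, 0, 16, 151277) .leaf)))) (203350, 0, 14, 62513) (.node (.node (.node (.node .leaf (203351, 0, 17, 5207) .leaf) (203354, 0, 15, 190602) (.node .leaf (203355, 0, 14, 133356) .leaf)) (203358, 0, 14, 164418) (.node (.node .leaf (203359, 0, 16, 143823) .leaf) (203362, 0, 11, 203839)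 (.node .leaf (203363, 0, 16, 83217) .leaf))) (203366, 0, 15, 100241) (.node (.node (.node .leaf (203367, 0, 16, 92151) .leaf) (203370, 0, 14, 259747) (.node .leaf (203371, 0, 18, 228172) .leaf)) (203374, 0, 17, 238089) (.node (.node .leaf (203375, 0, 15, 250000) .leaf) (203376, 0, 16, 164539) .leaf)))))

/-- part of the orbit tree -/
def itp6_103 : Tree := (.node itp6_99 (202997, 0, 14, 62717) itp6_100)

/-- part of the orbit tree -/
def itp6_104 : Tree := (.node itp6_101 (203253, 0, 18, 128558) itp6_102)

/-- part of the orbit tree -/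
def itp6_105 : Tree := (.node itp6_97 (202610, 0, 13, 181729) itp6_98)

/-- part of the orbit tree -/
def itp6_106 : Tree := (.node itp6_103 (203125, 0, 17, 149063) itp6_104)

/-- part of the orbit tree -/
def itp6_107 : Tree := (.node (.node (.node (.node (.node (.node .leaf (203380, 0, 15, 64934) .leaf) (203381, 0, 14, 151431) (.node .leaf (203384, 0, 14, 157735) .leaf)) (203385, 0, 18, 21308) (.node (.node .leaf (203388, 0, 16, 5946) .leaf) (203389, 0, 18, 151060) (.node .leaf (203394, 0, 14, 100822) .leaf))) (203395, 0, 17, 239789) (.node (.node (.node .leaf (203398, 0, 15, 225768) .leaf) (203399, 0, 16, 233870) (.node .leaf (203402, 0, 17, 90954) .leaf)) (203403, 0, 16, 101685) (.node (.node .leaf (203406, 0, 16, 87152) .leaf) (203407, 0, 17, 83321) (.node .leaf (203408, 0, 15, 24763) .leaf)))) (203409, 0, 17, 32989) (.node (.node (.node (.node .leaf (203412, 0, 17, 157775) .leaf) (203413, 0, 10, 12641) (.node .leaf (203416, 0, 17, 64974) .leaf)) (203417, 0, 16, 173381) (.node (.node .leaf (203420, 0, 15, 164563) .leaf)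 (203421, 0, 18, 171110) (.node .leaf (203424, 0, 14, 203950) .leaf))) (203425, 0, 14, 83328) (.node (.node (.node .leaf (203428, 0, 14, 91059) .leaf) (203429, 0, 14, 211613) (.node .leaf (203432, 0, 14, 210563) .leaf)) (203433, 0, 17, 251621) (.node (.node .leaf (203436, 0, 17, 200608) .leaf) (203437, 0, 15, 249857) (.node .leaf (203442, 0, 14, 164394) .leaf))))) (203443, 0, 15, 56068) (.node (.node (.node (.node (.node .leaf (203446, 0, 17, 131656) .leaf) (203447, 0, 17, 188974) (.node .leaf (203450, 0, 18, 157878) .leaf)) (203451, 0, 16, 12696) (.node (.node .leaf (203454, 0, 17, 6059) .leaf) (203455, 0, 18, 51126) (.node .leaf (203456, 0, 17, 145710) .leaf))) (203457, 0, 12, 102926) (.node (.node (.node .leaf (203460, 0, 17, 84811) .leaf) (203461, 0, 17, 139037) (.node .leaf (203464, 0, 15, 185266) .leaf)) (203465, 0, 16, 35484) (.node (.node .leaf (203468, 0, 18, 224979) .leaf) (203469, 0, 15, 233141) (.node .leaf (203474, 0, 13, 154136) .leaf)))) (203475, 0, 10, 130692) (.node (.node (.node (.node .leaf (203478, 0, 11,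 156475) .leaf) (203479, 0, 17, 229785) (.node .leaf (203482, 0, 17, 216374) .leaf)) (203483, 0, 18, 40934) (.node (.node .leaf (203486, 0, 17, 78379) .leaf) (203487, 0, 15, 42693) (.node .leaf (203490, 0, 13, 44118) .leaf))) (203491, 0, 12, 193912) (.node (.node (.node .leaf (203494, 0, 16, 185163) .leaf) (203495, 0, 17, 35429) (.node .leaf (203498, 0, 17, 68640) .leaf)) (203499, 0, 17, 126022) (.node (.node .leaf (203502, 0, 15, 79107) .leaf) (203503, 0, 18, 120165) (.node .leaf (203504, 0, 13, 78546) .leaf))))))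

/-- part of the orbit tree -/
def itp6_108 : Tree := (.node (.node (.node (.node (.node (.node .leaf (203508, 0, 17, 216527) .leaf) (203509, 0, 14, 70881) (.node .leaf (203512, 0, 18, 120910) .leaf)) (203513, 0, 10, 229728) (.node (.node .leaf (203516, 0, 13, 138611) .leaf) (203517, 0, 15, 130685) (.node .leaf (203522, 0, 15, 163253) .leaf))) (203523, 0, 16, 34674) (.node (.node (.node .leaf (203526, 0, 17, 41281) .leaf) (203527, 0, 16, 194671) (.node .leaf (203530, 0, 14, 22573) .leaf)) (203531, 0, 19, 47179) (.node (.node .leaf (203534, 0, 13, 19421) .leaf) (203535, 0, 17, 33128) (.node .leaf (203536, 0, 17, 87493) .leaf)))) (203537, 0, 17, 112035) (.node (.node (.node (.node .leaf (203540, 0, 18, 93414) .leaf) (203541, 0, 17, 222955) (.node .leaf (203544, 0, 13, 225373) .leaf)) (203545, 0, 15, 233531) (.node (.node .leaf (203548, 0, 16, 120153) .leaf) (203549, 0, 13, 232567) (.node .leaf (203552, 0, 16, 19236) .leaf))) (203553, 0, 14, 50691) (.node (.node (.node .leaf (203556, 0, 17, 8006) .leaf) (203557, 0, 14, 65312)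 (.node .leaf (203560, 0, 17, 132093) .leaf)) (203561, 0, 16, 189339) (.node (.node .leaf (203564, 0, 16, 146142) .leaf) (203565, 0, 15, 187064) (.node .leaf (203570, 0, 16, 200213) .leaf))))) (203571, 0, 18, 257651) (.node (.node (.node (.node (.node .leaf (203574, 0, 18, 240317) .leaf) (203575, 0, 13, 127891) (.node .leaf (203578, 0, 17, 76685) .leaf)) (203579, 0, 11, 222738) (.node (.node .leaf (203582, 0, 17, 213025) .leaf) (203583, 0, 16, 127688) (.node .leaf (203584, 0, 16, 18198) .leaf))) (203585, 0, 16, 210826) (.node (.node (.node .leaf (203588, 0, 16, 32309) .leaf) (203589, 0, 18, 40531) (.node .leaf (203592, 0, 17, 156302) .leaf)) (203593, 0, 16, 164584) (.node (.node .leaf (203596, 0, 12, 260901) .leaf) (203597, 0, 18, 179147) (.node .leaf (203602, 0, 15, 61472) .leaf)))) (203603, 0, 18, 233216) (.node (.node (.node (.node .leaf (203606, 0, 14, 218693) .leaf) (203607, 0, 12, 54803) (.node .leaf (203610, 0, 14, 6844) .leaf)) (203611, 0, 16, 109208) (.node (.node .leaf (203614, 0, 15, 95197) .leaf) (203615, 0, 17,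 15503) (.node .leaf (203618, 0, 18, 138438) .leaf))) (203619, 0, 17, 195744) (.node (.node (.node .leaf (203622, 0, 17, 140773) .leaf) (203623, 0, 17, 253423) (.node .leaf (203626, 0, 18, 201024) .leaf)) (203627, 0, 15, 84078) (.node (.node .leaf (203630, 0, 15, 93789) .leaf) (203631, 0, 15, 210803) (.node .leaf (203632, 0, 17, 157016) .leaf))))))

/-- part of the orbit tree -/
def itp6_109 : Tree := (.node (.node (.node (.node (.node (.node .leaf (203636, 0, 18, 6725) .leaf) (203637, 0, 18, 148331) (.node .leaf (203640, 0, 17, 201006) .leaf)) (203641, 0, 16, 55018) (.node (.node .leaf (203644, 0, 17, 206861) .leaf) (203645, 0, 14, 247915) (.node .leaf (203650, 0, 17, 60095) .leaf))) (203651, 0, 17, 210715) (.node (.node (.node .leaf (203654, 0, 17, 54172) .leaf) (203655, 0, 16, 13306) (.node .leaf (203658, 0, 17, 99497) .leaf)) (203659, 0, 19, 143169) (.node (.node .leaf (203662, 0, 14, 261044) .leaf) (203663, 0, 15, 107162) (.node .leaf (203664, 0, 16, 246479) .leaf)))) (203665, 0, 16, 205481) (.node (.node (.node (.node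 .leaf (203668, 0, 16, 167852) .leaf) (203669, 0, 15, 54914) (.node .leaf (203672, 0, 17, 124759) .leaf)) (203673, 0, 16, 67377) (.node (.node .leaf (203676, 0, 14, 122484) .leaf) (203677, 0, 17, 81426) (.node .leaf (203680, 0, 16, 260941) .leaf))) (203681, 0, 17, 107107) (.node (.node (.node .leaf (203684, 0, 15, 165964) .leaf) (203685, 0, 17, 157738) (.node .leaf (203688, 0, 18, 38135) .leaf)) (203689, 0, 13, 84223) (.node (.node .leaf (203692, 0, 17, 93900) .leaf) (203693, 0, 18, 19890) (.node .leaf (203698, 0, 16, 157129) .leaf))))) (203699, 0, 16, 15591) (.node (.node (.node (.node (.node .leaf (203702, 0, 14, 6868) .leaf) (203703, 0, 16, 82010) (.node .leaf (203706, 0, 16, 244871) .leaf)) (203707, 0, 16, 54907) (.node (.node .leaf (203710, 0, 18, 61512) .leaf) (203711, 0, 16, 174438) (.node .leaf (203712, 0, 13, 184348) .leaf))) (203713, 0, 16, 143482) (.node (.node (.node .leaf (203716, 0, 16, 41424) .leaf) (203717, 0, 16, 194814) (.node .leaf (203720, 0, 15, 62852) .leaf)) (203721, 0, 16, 28031) (.node (.node .leaf (203724,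 0, 16, 52391) .leaf) (203725, 0, 16, 11457) (.node .leaf (203730, 0, 12, 213065) .leaf)))) (203731, 0, 13, 72039) (.node (.node (.node (.node .leaf (203734, 0, 14, 81748) .leaf) (203735, 0, 17, 222842) (.node .leaf (203738, 0, 13, 240341) .leaf)) (203739, 0, 15, 212370) (.node (.node .leaf (203742, 0, 14, 120264) .leaf) (203743, 0, 17, 197809) (.node .leaf (203746, 0, 16, 19381) .leaf))) (203747, 0, 14, 27562) (.node (.node (.node .leaf (203750, 0, 18, 45807) .leaf) (203751, 0, 16, 28038) (.node .leaf (203754, 0, 11, 41257) .leaf)) (203755, 0, 16, 151090) (.node (.node .leaf (203758, 0, 17, 169847) .leaf) (203759, 0, 15, 34586) (.node .leaf (203760, 0, 17, 238524) .leaf))))))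

/-- part of the orbit tree -/
def itp6_110 : Tree := (.node (.node (.node (.node (.node (.node .leaf (203764, 0, 14, 240172) .leaf) (203765, 0, 17, 228089) (.node .leaf (203768, 0, 16, 81837) .leaf)) (203769, 0, 13, 91714) (.node (.node .leaf (203772, 0, 13, 213168) .leaf) (203773, 0, 16, 89953) (.node .leaf (203777, 0, 18, 32827) .leaf))) (203779, 0, 17, 223305) (.node (.node (.node .leaf (203781, 0, 16, 196390) .leaf) (203783, 0, 14, 71508) (.node .leaf (203785, 0, 18, 228546) .leaf)) (203787, 0, 17, 230101) (.node (.node .leaf (203789, 0, 18, 214497) .leaf) (203791, 0, 18, 130504) (.node .leaf (203792, 0, 16, 45027) .leaf)))) (203794, 0, 16, 168268) (.node (.node (.node (.node .leaf (203796, 0, 11, 184574) .leaf) (203798, 0, 17, 80012) (.node .leaf (203800, 0, 15, 17791) .leaf)) (203802, 0, 18, 46292) (.node (.node .leaf (203804, 0, 14, 146018) .leaf) (203806, 0, 18, 119312) (.node .leaf (203808, 0, 17, 176841) .leaf))) (203810, 0, 16, 19565) (.node (.node (.node .leaf (203812, 0, 15, 121602) .leaf) (203814, 0, 13, 252879)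 (.node .leaf (203816, 0, 16, 38737) .leaf)) (203818, 0, 12, 116596) (.node (.node .leaf (203820, 0, 19, 44658) .leaf) (203822, 0, 14, 186860) (.node .leaf (203825, 0, 16, 11002) .leaf))))) (203827, 0, 15, 25525) (.node (.node (.node (.node (.node .leaf (203829, 0, 16, 5081) .leaf) (203831, 0, 15, 82940) (.node .leaf (203833, 0, 16, 221531) .leaf)) (203835, 0, 14, 35113) (.node (.node .leaf (203837, 0, 16, 144961) .leaf) (203839, 0, 10, 222820) (.node .leaf (203840, 0, 17, 164255) .leaf))) (203842, 0, 15, 92653) (.node (.node (.node .leaf (203844, 0, 15, 65154) .leaf) (203846, 0, 18, 202480) (.node .leaf (203848, 0, 14, 63010) .leaf)) (203850, 0, 17, 99185) (.node (.node .leaf (203852, 0, 16, 5150) .leaf) (203854, 0, 16, 261228) (.node .leaf (203857, 0, 17, 175687) .leaf)))) (203859, 0, 16, 83509) (.node (.node (.node (.node .leaf (203861, 0, 18, 53594) .leaf) (203863, 0, 16, 211240) (.node .leaf (203865, 0, 16, 148699) .leaf)) (203867, 0, 15, 109737) (.node (.node .leaf (203869, 0, 17, 15302) .leaf) (203871, 0, 17, 250804)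 (.node .leaf (203873, 0, 18, 107963) .leaf))) (203875, 0, 18, 150985) (.node (.node (.node .leaf (203877, 0, 16, 65802) .leaf) (203879, 0, 16, 13012) (.node .leaf (203881, 0, 15, 85799) .leaf)) (203883, 0, 15, 150932) (.node (.node .leaf (203885, 0, 15, 208954) .leaf) (203887, 0, 15, 160951) (.node .leaf (203888, 0, 18, 237594) .leaf))))))

/-- part of the orbit tree -/
def itp6_111 : Tree := (.node itp6_107 (203505, 0, 16, 224252) itp6_108)

/-- part of the orbit tree -/
def itp6_112 : Tree := (.node itp6_109 (203761, 0, 15, 213978) itp6_110)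

/-- part of the orbit tree -/
def itp6_113 : Tree := (.node (.node (.node (.node (.node (.node .leaf (203892, 0, 16, 235833) .leaf) (203894, 0, 16, 182556) (.node .leaf (203896, 0, 16, 99714) .leaf)) (203898, 0, 14, 54695) (.node (.node .leaf (203900, 0, 13, 113825) .leaf) (203902, 0, 16, 60548) (.node .leaf (203905, 0, 15, 208978) .leaf))) (203907, 0, 17, 55328) (.node (.node (.node .leaf (203909, 0, 16, 85839) .leaf) (203911, 0, 16, 173910) (.node .leaf (203913, 0, 16, 125896) .leaf)) (203915, 0, 17, 48109) (.node (.node .leaf (203917, 0, 17, 107987) .leaf) (203919, 0, 11, 33486) (.node .leaf (203920, 0, 16, 204682) .leaf)))) (203922, 0, 15, 1606) (.node (.node (.node (.node .leaf (203924, 0, 16, 94016) .leaf) (203926, 0, 17, 16229) (.node .leaf (203928, 0, 10, 226299) .leaf)) (203930, 0, 16, 140254) (.node (.node .leaf (203932, 0, 14, 215768) .leaf) (203934, 0, 14, 137981) (.node .leaf (203936, 0, 12, 5238) .leaf))) (203938, 0, 17, 261124) (.node (.node (.node .leaf (203940, 0, 13, 7392) .leaf) (203942, 0, 17, 85189) (.node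 .leaf (203944, 0, 17, 65258) .leaf)) (203946, 0, 18, 217214) (.node (.node .leaf (203948, 0, 15, 164343) .leaf) (203950, 0, 13, 223581) (.node .leaf (203953, 0, 11, 15278) .leaf))))) (203955, 0, 18, 257493) (.node (.node (.node (.node (.node .leaf (203957, 0, 13, 165075) .leaf) (203959, 0, 14, 109761) (.node .leaf (203961, 0, 16, 39016) .leaf)) (203963, 0, 17, 211264) (.node (.node .leaf (203965, 0, 18, 41291) .leaf) (203967, 0, 16, 83549) (.node .leaf (203968, 0, 15, 17584) .leaf))) (203970, 0, 15, 186756) (.node (.node (.node .leaf (203972, 0, 17, 216811) .leaf) (203974, 0, 18, 42649) (.node .leaf (203976, 0, 17, 155944) .leaf)) (203978, 0, 10, 209165) (.node (.node .leaf (203980, 0, 17, 238711) .leaf) (203982, 0, 15, 198702) (.node .leaf (203985, 0, 12, 187523) .leaf)))) (203987, 0, 15, 232614) (.node (.node (.node (.node .leaf (203989, 0, 16, 221491) .leaf) (203991, 0, 17, 35137) (.node .leaf (203993, 0, 14, 128178) .leaf)) (203995, 0, 13, 138432) (.node (.node .leaf (203997, 0, 18, 232367) .leaf) (203999, 0, 15, 25565)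 (.node .leaf (204001, 0, 12, 136658) .leaf))) (204003, 0, 15, 196358) (.node (.node (.node .leaf (204005, 0, 15, 235008) .leaf) (204007, 0, 18, 230077) (.node .leaf (204009, 0, 13, 196430) .leaf)) (204011, 0, 16, 71484) (.node (.node .leaf (204013, 0, 15, 111512) .leaf) (204015, 0, 15, 58301) (.node .leaf (204016, 0, 14, 79632) .leaf))))))

/-- part of the orbit tree -/
def itp6_114 : Tree := (.node (.node (.node (.node (.node (.node .leaf (204020, 0, 9, 17687) .leaf) (204022, 0, 15, 24086) (.node .leaf (204024, 0, 18, 201352) .leaf)) (204026, 0, 19, 80100) (.node (.node .leaf (204028, 0, 17, 207787) .leaf) (204030, 0, 12, 215033) (.node .leaf (204033, 0, 16, 195374) .leaf))) (204035, 0, 15, 233386) (.node (.node (.node .leaf (204037, 0, 18, 137413) .leaf) (204039, 0, 12, 234024) (.node .leaf (204041, 0, 17, 57014) .leaf)) (204043, 0, 18, 222518) (.node (.node .leaf (204045, 0, 17, 59285) .leaf) (204047, 0, 16, 112560) (.node .leaf (204048, 0, 19, 18432) .leaf)))) (204050, 0, 17, 237682) (.node (.node (.node (.node .leaf (204052,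 0, 17, 23102) .leaf) (204054, 0, 16, 122735) (.node .leaf (204056, 0, 13, 149125) .leaf)) (204058, 0, 17, 215790) (.node (.node .leaf (204060, 0, 18, 187777) .leaf) (204062, 0, 17, 79347) (.node .leaf (204064, 0, 17, 69821) .leaf))) (204066, 0, 17, 43918) (.node (.node (.node .leaf (204068, 0, 13, 81121) .leaf) (204070, 0, 15, 185491) (.node .leaf (204072, 0, 18, 210213) .leaf)) (204074, 0, 15, 156928) (.node (.node .leaf (204076, 0, 19, 120445) .leaf) (204078, 0, 18, 146959) (.node .leaf (204081, 0, 17, 224292) .leaf))))) (204083, 0, 19, 33878) (.node (.node (.node (.node (.node .leaf (204085, 0, 17, 70457) .leaf) (204087, 0, 16, 195403) (.node .leaf (204089, 0, 16, 109846) .leaf)) (204091, 0, 17, 28362) (.node (.node .leaf (204093, 0, 14, 129445) .leaf) (204095, 0, 16, 50192) (.node .leaf (204096, 0, 13, 94670) .leaf))) (204098, 0, 16, 8683) (.node (.node (.node .leaf (204100, 0, 17, 84205) .leaf) (204102, 0, 18, 6344) (.node .leaf (204104, 0, 16, 218198) .leaf)) (204106, 0, 16, 91282) (.node (.node .leaf (204108, 0, 18,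 224629) .leaf) (204110, 0, 13, 146768) (.node .leaf (204113, 0, 18, 256509) .leaf)))) (204115, 0, 16, 106966) (.node (.node (.node (.node .leaf (204117, 0, 15, 14009) .leaf) (204119, 0, 18, 253643) (.node .leaf (204121, 0, 15, 172856) .leaf)) (204123, 0, 17, 84810) (.node (.node .leaf (204125, 0, 18, 128326) .leaf) (204127, 0, 17, 42339) (.node .leaf (204129, 0, 16, 82520) .leaf))) (204131, 0, 15, 248440) (.node (.node (.node .leaf (204133, 0, 16, 172926) .leaf) (204135, 0, 17, 258907) (.node .leaf (204137, 0, 14, 108740) .leaf)) (204139, 0, 17, 147638) (.node (.node .leaf (204141, 0, 16, 34534) .leaf) (204143, 0, 17, 16299) (.node .leaf (204144, 0, 15, 93568) .leaf))))))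

/-- part of the orbit tree -/
def itp6_115 : Tree := (.node (.node (.node (.node (.node (.node .leaf (204148, 0, 16, 201373) .leaf) (204150, 0, 19, 93032) (.node .leaf (204152, 0, 18, 141302) .leaf)) (204154, 0, 16, 159598) (.node (.node .leaf (204156, 0, 10, 260097) .leaf) (204158, 0, 17, 216816) (.node .leaf (204161, 0, 15, 27684) .leaf))) (204163, 0, 14, 16323) (.node (.node (.node .leaf (204165, 0, 13, 21767) .leaf) (204167, 0, 13, 66850) (.node .leaf (204169, 0, 16, 149948) .leaf)) (204171, 0, 17, 54623) (.node (.node .leaf (204173, 0, 15, 82480) .leaf) (204175, 0, 16, 174658) (.node .leaf (204176, 0, 14, 260201) .leaf)))) (204178, 0, 16, 4123) (.node (.node (.node (.node .leaf (204180, 0, 16, 183604) .leaf) (204182, 0, 14, 159494) (.node .leaf (204184, 0, 13, 53647) .leaf)) (204186, 0, 15, 98730) (.node (.node .leaf (204188, 0, 15, 93672) .leaf) (204190, 0, 17, 165274) (.node .leaf (204192, 0, 14, 62357) .leaf))) (204194, 0, 14, 186258) (.node (.node (.node .leaf (204196, 0, 16, 245396) .leaf) (204198, 0, 17, 91386)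 (.node .leaf (204200, 0, 15, 107055) .leaf)) (204202, 0, 16, 61962) (.node (.node .leaf (204204, 0, 14, 157204) .leaf) (204206, 0, 16, 52009) (.node .leaf (204209, 0, 15, 73604) .leaf))))) (204211, 0, 16, 20385) (.node (.node (.node (.node (.node .leaf (204213, 0, 17, 75431) .leaf) (204215, 0, 17, 84770) (.node .leaf (204217, 0, 15, 211484) .leaf)) (204219, 0, 17, 253603) (.node (.node .leaf (204221, 0, 15, 197439) .leaf) (204223, 0, 18, 152346) (.node .leaf (204224, 0, 9, 255684) .leaf))) (204226, 0, 15, 177889) (.node (.node (.node .leaf (204228, 0, 11, 239880) .leaf) (204230, 0, 14, 16762) (.node .leaf (204232, 0, 16, 81033) .leaf)) (204234, 0, 14, 185595) (.node (.node .leaf (204236, 0, 15, 213908) .leaf) (204238, 0, 17, 44006) (.node .leaf (204241, 0, 17, 98039) .leaf)))) (204243, 0, 15, 11986) (.node (.node (.node (.node .leaf (204245, 0, 16, 83924) .leaf) (204247, 0, 17, 6129) (.node .leaf (204249, 0, 17, 220015) .leaf)) (204251, 0, 17, 133962) (.node (.node .leaf (204253, 0, 17, 224332) .leaf) (204255, 0, 15, 143977)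 (.node .leaf (204257, 0, 18, 193073) .leaf))) (204259, 0, 18, 89458) (.node (.node (.node .leaf (204261, 0, 17, 13428) .leaf) (204263, 0, 16, 222558) (.node .leaf (204265, 0, 14, 137389) .leaf)) (204267, 0, 14, 127199) (.node (.node .leaf (204269, 0, 17, 26544) .leaf) (204271, 0, 15, 213449) (.node .leaf (204272, 0, 18, 169316) .leaf))))))

/-- part of the orbit tree -/
def itp6_116 : Tree := (.node (.node (.node (.node (.node (.node .leaf (204276, 0, 17, 41716) .leaf) (204278, 0, 15, 215686) (.node .leaf (204280, 0, 17, 145269) .leaf)) (204282, 0, 16, 123097) (.node (.node .leaf (204284, 0, 18, 18536) .leaf) (204286, 0, 14, 121338) (.node .leaf (204288, 0, 17, 103756) .leaf))) (204289, 0, 18, 95530) (.node (.node (.node .leaf (204290, 0, 18, 50537) .leaf) (204291, 0, 15, 224613) (.node .leaf (204292, 0, 18, 109679) .leaf)) (204293, 0, 17, 85001) (.node (.node .leaf (204294, 0, 16, 64586) .leaf) (204295, 0, 18, 70264) (.node .leaf (204296, 0, 16, 145061) .leaf)))) (204297, 0, 12, 28555) (.node (.node (.node (.node .leaf (204298,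 0, 16, 188657) .leaf) (204299, 0, 16, 231417) (.node .leaf (204300, 0, 15, 18872) .leaf)) (204301, 0, 17, 223633) (.node (.node .leaf (204302, 0, 18, 238026) .leaf) (204303, 0, 17, 145844) (.node .leaf (204336, 0, 18, 120773) .leaf))) (204337, 0, 16, 1674) (.node (.node (.node .leaf (204338, 0, 16, 112329) .leaf) (204339, 0, 17, 87727) (.node .leaf (204340, 0, 17, 57295) .leaf)) (204341, 0, 17, 16297) (.node (.node .leaf (204342, 0, 16, 102378) .leaf) (204343, 0, 17, 94092) (.node .leaf (204344, 0, 16, 81241) .leaf))))) (204345, 0, 14, 222327) (.node (.node (.node (.node (.node .leaf (204346, 0, 18, 234321) .leaf) (204347, 0, 18, 226103) (.node .leaf (204348, 0, 15, 213572) .leaf)) (204349, 0, 13, 137777) (.node (.node .leaf (204350, 0, 15, 43574) .leaf) (204351, 0, 10, 193304) (.node .leaf (204368, 0, 16, 34719) .leaf))) (204369, 0, 14, 26617) (.node (.node (.node .leaf (204370, 0, 10, 120762) .leaf) (204371, 0, 14, 79836) (.node .leaf (204372, 0, 14, 48828) .leaf)) (204373, 0, 14, 24282) (.node (.node .leaf (204374, 0, 15,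 91434) .leaf) (204375, 0, 15, 69375) (.node .leaf (204376, 0, 17, 172551) .leaf)))) (204377, 0, 15, 147959) (.node (.node (.node (.node .leaf (204378, 0, 18, 258594) .leaf) (204379, 0, 16, 108933) (.node .leaf (204380, 0, 16, 157636) .leaf)) (204381, 0, 17, 16106) (.node (.node .leaf (204382, 0, 16, 248577) .leaf) (204383, 0, 17, 251544) (.node .leaf (204384, 0, 18, 260537) .leaf))) (204385, 0, 17, 106647) (.node (.node (.node .leaf (204386, 0, 17, 42010) .leaf) (204387, 0, 17, 17532) (.node .leaf (204388, 0, 17, 118044) .leaf)) (204389, 0, 16, 77178) (.node (.node .leaf (204390, 0, 17, 40249) .leaf) (204391, 0, 16, 14328) .leaf)))))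

/-- part of the orbit tree -/
def itp6_117 : Tree := (.node itp6_113 (204018, 0, 14, 26421) itp6_114)

/-- part of the orbit tree -/
def itp6_118 : Tree := (.node itp6_115 (204274, 0, 16, 79259) itp6_116)

/-- part of the orbit tree -/
def itp6_119 : Tree := (.node itp6_111 (203633, 0, 13, 15478) itp6_112)

/-- part of the orbit tree -/
def itp6_120 : Tree := (.node itp6_117 (204146, 0, 17, 165362) itp6_118)

/-- part of the orbit tree -/
def itp6_121 : Tree := (.node itp6_105 (202869, 0, 17, 156663) itp6_106)

/-- part of the orbit tree -/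
def itp6_122 : Tree := (.node itp6_119 (203890, 0, 16, 156177) itp6_120)

/-- part of the orbit tree -/
def itp6_123 : Tree := (.node itp6_91 (201333, 0, 16, 188855) itp6_92)

/-- part of the orbit tree -/
def itp6_124 : Tree := (.node itp6_121 (203377, 0, 16, 56213) itp6_122)

/-- part of the orbit tree -/
def itp6_125 : Tree := (.node itp6_61 (198266, 0, 17, 234201) itp6_62)

/-- part of the orbit tree -/
def itp6_126 : Tree := (.node itp6_123 (202354, 0, 17, 139778) itp6_124)

/-- part of the orbit tree -/
def itp6_127 : Tree := (.node (.node (.node (.node (.node (.node .leaf (204393, 0, 13, 209345) .leaf) (204394, 0, 14, 164226) (.node .leaf (204395, 0, 14, 172665) .leaf)) (204396, 0, 17, 256132) (.node (.node .leaf (204397, 0, 13, 210198) .leaf) (204398, 0, 18, 178337) (.node .leaf (204399, 0, 15, 56676) .leaf))) (204416, 0, 17, 93264) (.node (.node (.node .leaf (204417, 0, 16, 210302) .leaf) (204418, 0, 15, 164898) (.node .leaf (204419, 0, 14, 176645) .leaf)) (204420, 0, 13, 201549) (.node (.node .leaf (204421, 0, 17,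 84579) .leaf) (204422, 0, 16, 64319) (.node .leaf (204423, 0, 14, 172561) .leaf)))) (204424, 0, 14, 75742) (.node (.node (.node (.node .leaf (204425, 0, 18, 253922) .leaf) (204426, 0, 16, 159422) (.node .leaf (204427, 0, 18, 38813) .leaf)) (204428, 0, 16, 73469) (.node (.node .leaf (204429, 0, 16, 130715) .leaf) (204430, 0, 18, 20184) (.node .leaf (204431, 0, 14, 149645) .leaf))) (204464, 0, 10, 160230) (.node (.node (.node .leaf (204465, 0, 15, 168320) .leaf) (204466, 0, 14, 102366) (.node .leaf (204467, 0, 17, 251632) .leaf)) (204468, 0, 16, 149701) (.node (.node .leaf (204469, 0, 19, 174243) .leaf) (204470, 0, 15, 202976) (.node .leaf (204471, 0, 18, 260230) .leaf))))) (204472, 0, 16, 21630) (.node (.node (.node (.node (.node .leaf (204473, 0, 16, 54302) .leaf) (204474, 0, 13, 66651) (.node .leaf (204475, 0, 6, 212076) .leaf)) (204476, 0, 16, 61997) (.node (.node .leaf (204477, 0, 14, 174851) .leaf) (204478, 0, 17, 203359) (.node .leaf (204479, 0, 16, 122142) .leaf))) (204496, 0, 18, 213548) (.node (.node (.node .leaf (204497,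 0, 15, 192755) .leaf) (204498, 0, 13, 213168) (.node .leaf (204499, 0, 15, 193392) .leaf)) (204500, 0, 13, 141750) (.node (.node .leaf (204501, 0, 18, 182736) .leaf) (204502, 0, 16, 227731) (.node .leaf (204503, 0, 16, 35949) .leaf)))) (204504, 0, 15, 13581) (.node (.node (.node (.node .leaf (204505, 0, 14, 54635) .leaf) (204506, 0, 7, 91432) (.node .leaf (204507, 0, 16, 99662) .leaf)) (204508, 0, 13, 3118) (.node (.node .leaf (204509, 0, 16, 60488) .leaf) (204510, 0, 14, 89099) (.node .leaf (204511, 0, 17, 113773) .leaf))) (204512, 0, 15, 18896) (.node (.node (.node .leaf (204513, 0, 17, 135422) .leaf) (204514, 0, 13, 144144) (.node .leaf (204515, 0, 16, 129164) .leaf)) (204516, 0, 16, 219670) (.node (.node .leaf (204517, 0, 15, 28643) .leaf) (204518, 0, 14, 122559) (.node .leaf (204519, 0, 17, 231313) .leaf))))))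

/-- part of the orbit tree -/
def itp6_128 : Tree := (.node (.node (.node (.node (.node (.node .leaf (204521, 0, 17, 108235) .leaf) (204522, 0, 17, 5768) (.node .leaf (204523, 0, 11, 63214) .leaf)) (204524, 0, 14, 98190) (.node (.node .leaf (204525, 0, 15, 34175) .leaf) (204526, 0, 18, 78883) (.node .leaf (204527, 0, 18, 224525) .leaf))) (204544, 0, 13, 146394) (.node (.node (.node .leaf (204545, 0, 17, 186206) .leaf) (204546, 0, 17, 223005) (.node .leaf (204547, 0, 16, 231291) .leaf)) (204548, 0, 16, 17607) (.node (.node .leaf (204549, 0, 16, 138729) .leaf) (204550, 0, 16, 220734) (.node .leaf (204551, 0, 17, 128411) .leaf)))) (204552, 0, 15, 184646) (.node (.node (.node (.node .leaf (204553, 0, 16, 34920) .leaf) (204554, 0, 17, 82565) (.node .leaf (204555, 0, 17, 221210) .leaf)) (204556, 0, 17, 44635) (.node (.node .leaf (204557, 0, 16, 194421) .leaf) (204558, 0, 12, 214569) (.node .leaf (204559, 0, 17, 105408) .leaf))) (204592, 0, 18, 214168) (.node (.node (.node .leaf (204593, 0, 15, 238846) .leaf) (204594, 0, 18, 136381)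 (.node .leaf (204595, 0, 17, 33146) .leaf)) (204596, 0, 18, 228795) (.node (.node .leaf (204597, 0, 16, 71189) .leaf) (204598, 0, 17, 42825) (.node .leaf (204599, 0, 15, 183800) .leaf))))) (204600, 0, 15, 121530) (.node (.node (.node (.node (.node .leaf (204601, 0, 15, 230292) .leaf) (204602, 0, 12, 12581) (.node .leaf (204603, 0, 17, 53571) .leaf)) (204604, 0, 16, 239015) (.node (.node .leaf (204605, 0, 17, 112709) .leaf) (204606, 0, 19, 2054) (.node .leaf (204607, 0, 15, 136443) .leaf))) (204624, 0, 18, 206315) (.node (.node (.node .leaf (204625, 0, 16, 247181) .leaf) (204626, 0, 16, 161230) (.node .leaf (204627, 0, 18, 169384) .leaf)) (204628, 0, 16, 158395) (.node (.node .leaf (204629, 0, 13, 13205) .leaf) (204630, 0, 15, 150765) (.node .leaf (204631, 0, 15, 252903) .leaf)))) (204632, 0, 16, 65651) (.node (.node (.node (.node .leaf (204633, 0, 13, 173588) .leaf) (204634, 0, 15, 202568) (.node .leaf (204635, 0, 15, 85606) .leaf)) (204636, 0, 18, 80208) (.node (.node .leaf (204637, 0, 17, 121142) .leaf) (204638, 0, 17, 26997)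 (.node .leaf (204639, 0, 14, 35091) .leaf))) (204640, 0, 17, 153163) (.node (.node (.node .leaf (204641, 0, 16, 177709) .leaf) (204642, 0, 18, 198254) (.node .leaf (204643, 0, 18, 255496) .leaf)) (204644, 0, 16, 90439) (.node (.node .leaf (204645, 0, 13, 167694) .leaf) (204646, 0, 17, 166197) (.node .leaf (204647, 0, 17, 53275) .leaf))))))

/-- part of the orbit tree -/
def itp6_129 : Tree := (.node (.node (.node (.node (.node (.node .leaf (204649, 0, 17, 37813) .leaf) (204650, 0, 16, 7348) (.node .leaf (204651, 0, 17, 148890) .leaf)) (204652, 0, 16, 19184) (.node (.node .leaf (204653, 0, 17, 43670) .leaf) (204654, 0, 17, 156585) (.node .leaf (204655, 0, 16, 129715) .leaf))) (204672, 0, 11, 41010) (.node (.node (.node .leaf (204673, 0, 15, 250525) .leaf) (204674, 0, 17, 156609) (.node .leaf (204675, 0, 15, 15087) .leaf)) (204676, 0, 17, 259246) (.node (.node .leaf (204677, 0, 16, 31095) .leaf) (204678, 0, 17, 7388) (.node .leaf (204679, 0, 15, 148978) .leaf)))) (204680, 0, 17, 165290) (.node (.node (.node (.node .leaf (204681,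 0, 16, 157132) .leaf) (204682, 0, 15, 251279) (.node .leaf (204683, 0, 16, 53363) .leaf)) (204684, 0, 17, 204338) (.node (.node .leaf (204685, 0, 13, 154863) .leaf) (204686, 0, 17, 257196) (.node .leaf (204687, 0, 14, 175982) .leaf))) (204720, 0, 14, 163919) (.node (.node (.node .leaf (204721, 0, 14, 55649) .leaf) (204722, 0, 16, 92221) (.node .leaf (204723, 0, 15, 209171) .leaf)) (204724, 0, 15, 65362) (.node (.node .leaf (204725, 0, 15, 173692) .leaf) (204726, 0, 18, 202528) (.node .leaf (204727, 0, 15, 23282) .leaf))))) (204728, 0, 16, 158419) (.node (.node (.node (.node (.node .leaf (204729, 0, 16, 202348) .leaf) (204730, 0, 16, 173615) (.node .leaf (204731, 0, 13, 149065) .leaf)) (204732, 0, 11, 5582) (.node (.node .leaf (204733, 0, 18, 208719) .leaf) (204734, 0, 17, 261564) (.node .leaf (204735, 0, 16, 107666) .leaf))) (204752, 0, 17, 239055) (.node (.node (.node .leaf (204753, 0, 15, 130273) .leaf) (204754, 0, 15, 58052) (.node .leaf (204755, 0, 13, 674) .leaf)) (204756, 0, 15, 101314) (.node (.node .leaf (204757, 0,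 18, 230396) .leaf) (204758, 0, 17, 56295) (.node .leaf (204759, 0, 17, 27534) .leaf)))) (204760, 0, 16, 216915) (.node (.node (.node (.node .leaf (204761, 0, 16, 227103) .leaf) (204762, 0, 14, 182108) (.node .leaf (204763, 0, 16, 141114) .leaf)) (204764, 0, 14, 241242) (.node (.node .leaf (204765, 0, 14, 223584) .leaf) (204766, 0, 18, 196223) (.node .leaf (204767, 0, 15, 138777) .leaf))) (204768, 0, 16, 49473) (.node (.node (.node .leaf (204769, 0, 16, 8487) .leaf) (204770, 0, 15, 214593) (.node .leaf (204771, 0, 17, 73583) .leaf)) (204772, 0, 18, 63586) (.node (.node .leaf (204773, 0, 15, 6148) .leaf) (204774, 0, 15, 80220) (.node .leaf (204775, 0, 17, 84001) .leaf))))))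

/-- part of the orbit tree -/
def itp6_130 : Tree := (.node (.node (.node (.node (.node (.node .leaf (204777, 0, 15, 132287) .leaf) (204778, 0, 17, 242940) (.node .leaf (204779, 0, 14, 218266) .leaf)) (204780, 0, 18, 146354) (.node (.node .leaf (204781, 0, 16, 146844) .leaf) (204782, 0, 18, 119744) (.node .leaf (204783, 0, 17, 224697) .leaf))) (204801, 0, 15, 98750) (.node (.node (.node .leaf (204802, 0, 14, 12514) .leaf) (204804, 0, 14, 74373) (.node .leaf (204807, 0, 15, 37574) .leaf)) (204808, 0, 11, 212542) (.node (.node .leaf (204811, 0, 17, 164688) .leaf) (204813, 0, 15, 255867) (.node .leaf (204814, 0, 16, 173411) .leaf)))) (204817, 0, 16, 259912) (.node (.node (.node (.node .leaf (204818, 0, 14, 149012) .leaf) (204820, 0, 16, 250235) (.node .leaf (204823, 0, 15, 155687) .leaf)) (204824, 0, 14, 83563) (.node (.node .leaf (204827, 0, 15, 62886) .leaf) (204829, 0, 15, 90825) (.node .leaf (204830, 0, 17, 12141) .leaf))) (204832, 0, 17, 135251) (.node (.node (.node .leaf (204835, 0, 17, 237584) .leaf) (204837, 0, 17, 182550)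 (.node .leaf (204838, 0, 14, 227669) .leaf)) (204841, 0, 19, 54701) (.node (.node .leaf (204842, 0, 16, 108404) .leaf) (204844, 0, 16, 12315) (.node .leaf (204847, 0, 15, 113835) .leaf))))) (204848, 0, 13, 26630) (.node (.node (.node (.node (.node .leaf (204851, 0, 17, 120901) .leaf) (204853, 0, 16, 45379) (.node .leaf (204854, 0, 12, 82947) .leaf)) (204857, 0, 16, 175608) (.node (.node .leaf (204858, 0, 16, 250242) .leaf) (204860, 0, 18, 149229) (.node .leaf (204863, 0, 15, 247038) .leaf))) (204864, 0, 11, 160032) (.node (.node (.node .leaf (204867, 0, 16, 143686) .leaf) (204869, 0, 17, 174181) (.node .leaf (204870, 0, 15, 137077) .leaf)) (204873, 0, 15, 78760) (.node (.node .leaf (204874, 0, 17, 66717) .leaf) (204876, 0, 19, 28059) (.node .leaf (204879, 0, 15, 122328) .leaf)))) (204880, 0, 17, 128748) (.node (.node (.node (.node .leaf (204883, 0, 17, 112950) .leaf) (204885, 0, 17, 119007) (.node .leaf (204886, 0, 18, 90227) .leaf)) (204889, 0, 15, 214366) (.node (.node .leaf (204890, 0, 17, 193538) .leaf) (204892, 0, 18,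 222061) (.node .leaf (204895, 0, 17, 184881) .leaf))) (204897, 0, 16, 105139) (.node (.node (.node .leaf (204898, 0, 16, 10992) .leaf) (204900, 0, 18, 33293) (.node .leaf (204903, 0, 18, 78673) .leaf)) (204904, 0, 16, 137100) (.node (.node .leaf (204907, 0, 17, 192270) .leaf) (204909, 0, 17, 143807) (.node .leaf (204910, 0, 16, 144971) .leaf))))))

/-- part of the orbit tree -/
def itp6_131 : Tree := (.node itp6_127 (204520, 0, 15, 83629) itp6_128)

/-- part of the orbit tree -/
def itp6_132 : Tree := (.node itp6_129 (204776, 0, 16, 189657) itp6_130)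

/-- part of the orbit tree -/
def itp6_133 : Tree := (.node (.node (.node (.node (.node (.node .leaf (204914, 0, 16, 222100) .leaf) (204916, 0, 18, 193787) (.node .leaf (204919, 0, 15, 166880) .leaf)) (204920, 0, 18, 24954) (.node (.node .leaf (204923, 0, 15, 38747) .leaf) (204925, 0, 17, 18249) (.node .leaf (204926, 0, 14, 128533) .leaf))) (204929, 0, 8, 143831) (.node (.node (.node .leaf (204930, 0, 17, 229515) .leaf) (204932, 0, 14, 137188) (.node .leaf (204935, 0, 14, 132556) .leaf)) (204936, 0, 12, 108852) (.node (.node .leaf (204939, 0, 16, 6519) .leaf) (204941, 0, 18, 42070) (.node .leaf (204942, 0, 16, 49202) .leaf)))) (204945, 0, 14, 70815) (.node (.node (.node (.node .leaf (204946, 0, 16, 42204) .leaf) (204948, 0, 17, 118234) (.node .leaf (204951, 0, 14, 118862) .leaf)) (204952, 0, 18, 250209) (.node (.node .leaf (204955, 0, 17, 214479) .leaf) (204957, 0, 18, 198692) (.node .leaf (204958, 0, 15, 222204) .leaf))) (204960, 0, 14, 71155) (.node (.node (.node .leaf (204963, 0, 17, 42159) .leaf) (204965, 0, 15, 78784)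 (.node .leaf (204966, 0, 17, 126559) .leaf)) (204969, 0, 15, 239169) (.node (.node .leaf (204970, 0, 15, 136989) .leaf) (204972, 0, 16, 170978) (.node .leaf (204975, 0, 12, 207777) .leaf))))) (204976, 0, 16, 221957) (.node (.node (.node (.node (.node .leaf (204979, 0, 16, 184921) .leaf) (204981, 0, 13, 140873) (.node .leaf (204982, 0, 15, 193642) .leaf)) (204985, 0, 16, 118967) (.node (.node .leaf (204986, 0, 16, 25067) .leaf) (204988, 0, 17, 128644) (.node .leaf (204991, 0, 16, 18392) .leaf))) (204992, 0, 17, 58922) (.node (.node (.node .leaf (204995, 0, 16, 98607) .leaf) (204997, 0, 13, 16239) (.node .leaf (204998, 0, 15, 102188) .leaf)) (205001, 0, 14, 140244) (.node (.node .leaf (205002, 0, 17, 209565) .leaf) (205004, 0, 15, 173554) (.node .leaf (205007, 0, 16, 215762) .leaf)))) (205008, 0, 13, 149125) (.node (.node (.node (.node .leaf (205011, 0, 17, 260057) .leaf) (205013, 0, 13, 155830) (.node .leaf (205014, 0, 17, 259961) .leaf)) (205017, 0, 17, 62775) (.node (.node .leaf (205018, 0, 17, 83051) .leaf) (205020, 0, 18,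 33476) (.node .leaf (205023, 0, 16, 90712) .leaf))) (205025, 0, 15, 200121) (.node (.node (.node .leaf (205026, 0, 14, 173323) .leaf) (205028, 0, 17, 209508) (.node .leaf (205031, 0, 17, 164664) .leaf)) (205032, 0, 16, 108517) (.node (.node .leaf (205035, 0, 13, 5817) .leaf) (205037, 0, 19, 98774) (.node .leaf (205038, 0, 15, 12426) .leaf))))))

/-- part of the orbit tree -/
def itp6_134 : Tree := (.node (.node (.node (.node (.node (.node .leaf (205042, 0, 17, 50607) .leaf) (205044, 0, 15, 109737) (.node .leaf (205047, 0, 16, 7402) .leaf)) (205048, 0, 15, 250131) (.node (.node .leaf (205051, 0, 17, 131153) .leaf) (205053, 0, 13, 259872) (.node .leaf (205054, 0, 17, 149116) .leaf))) (205057, 0, 15, 154036) (.node (.node (.node .leaf (205058, 0, 19, 55041) .leaf) (205060, 0, 16, 82030) (.node .leaf (205063, 0, 16, 209074) .leaf)) (205064, 0, 17, 40010) (.node (.node .leaf (205067, 0, 17, 156851) .leaf) (205069, 0, 14, 259036) (.node .leaf (205070, 0, 13, 128332) .leaf)))) (205073, 0, 16, 200875) (.node (.node (.node (.node .leaf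 (205074, 0, 15, 172535) .leaf) (205076, 0, 12, 210584) (.node .leaf (205079, 0, 17, 84199) .leaf)) (205080, 0, 15, 189471) (.node (.node .leaf (205083, 0, 18, 4677) .leaf) (205085, 0, 15, 146778) (.node .leaf (205086, 0, 16, 232729) .leaf))) (205088, 0, 16, 111143) (.node (.node (.node .leaf (205091, 0, 13, 258853) .leaf) (205093, 0, 14, 93026) (.node .leaf (205094, 0, 17, 251158) .leaf)) (205097, 0, 15, 61899) (.node (.node .leaf (205098, 0, 16, 82071) .leaf) (205100, 0, 12, 241308) (.node .leaf (205103, 0, 17, 91812) .leaf))))) (205104, 0, 17, 248434) (.node (.node (.node (.node (.node .leaf (205107, 0, 17, 99795) .leaf) (205109, 0, 18, 201527) (.node .leaf (205110, 0, 15, 172916) .leaf)) (205113, 0, 17, 69516) (.node (.node .leaf (205114, 0, 15, 49103) .leaf) (205116, 0, 17, 172302) (.node .leaf (205119, 0, 15, 26250) .leaf))) (205120, 0, 15, 119636) (.node (.node (.node .leaf (205123, 0, 16, 25367) .leaf) (205125, 0, 16, 68113) (.node .leaf (205126, 0, 11, 192662) .leaf)) (205129, 0, 18, 119883) (.node (.node .leaf (205130,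 0, 13, 25879) .leaf) (205132, 0, 17, 249839) (.node .leaf (205135, 0, 17, 163756) .leaf)))) (205136, 0, 16, 240385) (.node (.node (.node (.node .leaf (205139, 0, 14, 138050) .leaf) (205141, 0, 17, 225860) (.node .leaf (205142, 0, 17, 34400) .leaf)) (205145, 0, 16, 93951) (.node (.node .leaf (205146, 0, 17, 136161) .leaf) (205148, 0, 18, 230542) (.node .leaf (205151, 0, 15, 2041) .leaf))) (205153, 0, 15, 17373) (.node (.node (.node .leaf (205154, 0, 14, 231556) .leaf) (205156, 0, 18, 188802) (.node .leaf (205159, 0, 13, 119986) .leaf)) (205160, 0, 15, 192623) (.node (.node .leaf (205163, 0, 15, 213299) .leaf) (205165, 0, 16, 185948) (.node .leaf (205166, 0, 17, 222976) .leaf))))))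

/-- part of the orbit tree -/
def itp6_135 : Tree := (.node (.node (.node (.node (.node (.node .leaf (205170, 0, 14, 127185) .leaf) (205172, 0, 16, 39383) (.node .leaf (205175, 0, 15, 238148) .leaf)) (205176, 0, 17, 165228) (.node (.node .leaf (205179, 0, 17, 79813) .leaf) (205181, 0, 17, 154665) (.node .leaf (205182, 0, 16, 70134) .leaf))) (205185, 0, 17, 52926) (.node (.node (.node .leaf (205186, 0, 14, 223080) .leaf) (205188, 0, 18, 6139) (.node .leaf (205191, 0, 16, 108472) .leaf)) (205192, 0, 12, 25990) (.node (.node .leaf (205195, 0, 15, 120026) .leaf) (205197, 0, 14, 184837) (.node .leaf (205198, 0, 14, 221766) .leaf)))) (205201, 0, 16, 41154) (.node (.node (.node (.node .leaf (205202, 0, 17, 70046) .leaf) (205204, 0, 15, 159662) (.node .leaf (205207, 0, 18, 79789) .leaf)) (205208, 0, 16, 29461) (.node (.node .leaf (205211, 0, 16, 238124) .leaf) (205213, 0, 15, 144707) (.node .leaf (205214, 0, 15, 72211) .leaf))) (205216, 0, 18, 127504) (.node (.node (.node .leaf (205219, 0, 18, 17228) .leaf) (205221, 0, 17, 261224)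 (.node .leaf (205222, 0, 15, 25983) .leaf)) (205225, 0, 14, 213410) (.node (.node .leaf (205226, 0, 18, 20624) .leaf) (205228, 0, 14, 80278) (.node .leaf (205231, 0, 15, 35285) .leaf))))) (205232, 0, 13, 230630) (.node (.node (.node (.node (.node .leaf (205235, 0, 18, 144826) .leaf) (205237, 0, 11, 238293) (.node .leaf (205238, 0, 14, 13438) .leaf)) (205241, 0, 15, 79700) (.node (.node .leaf (205242, 0, 19, 34312) .leaf) (205244, 0, 12, 213443) (.node .leaf (205247, 0, 17, 192896) .leaf))) (205248, 0, 17, 214110) (.node (.node (.node .leaf (205251, 0, 16, 91852) .leaf) (205253, 0, 17, 236827) (.node .leaf (205254, 0, 19, 82175) .leaf)) (205257, 0, 16, 98720) (.node (.node .leaf (205258, 0, 17, 251262) .leaf) (205260, 0, 14, 147985) (.node .leaf (205263, 0, 16, 59558) .leaf)))) (205264, 0, 18, 80907) (.node (.node (.node (.node .leaf (205267, 0, 17, 200762) .leaf) (205269, 0, 16, 124238) (.node .leaf (205270, 0, 18, 21773) .leaf)) (205273, 0, 18, 4820) (.node (.node .leaf (205274, 0, 14, 107400) .leaf) (205276, 0, 15, 13543)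 (.node .leaf (205279, 0, 16, 99771) .leaf))) (205281, 0, 15, 258996) (.node (.node (.node .leaf (205282, 0, 16, 73614) .leaf) (205284, 0, 16, 30344) (.node .leaf (205287, 0, 16, 116427) .leaf)) (205288, 0, 16, 158259) (.node (.node .leaf (205291, 0, 15, 61786) .leaf) (205293, 0, 16, 91701) (.node .leaf (205294, 0, 11, 55145) .leaf))))))

/-- part of the orbit tree -/
def itp6_136 : Tree := (.node (.node (.node (.node (.node (.node .leaf (205298, 0, 16, 13342) .leaf) (205300, 0, 14, 107377) (.node .leaf (205303, 0, 17, 245406) .leaf)) (205304, 0, 18, 210672) (.node (.node .leaf (205307, 0, 14, 165804) .leaf) (205309, 0, 16, 52003) (.node .leaf (205310, 0, 17, 172447) .leaf))) (205312, 0, 15, 79830) (.node (.node (.node .leaf (205313, 0, 15, 99474) .leaf) (205318, 0, 15, 150227) (.node .leaf (205319, 0, 17, 48822) .leaf)) (205322, 0, 13, 148075) (.node (.node .leaf (205323, 0, 16, 172557) .leaf) (205324, 0, 12, 84029) (.node .leaf (205325, 0, 15, 248587) .leaf)))) (205328, 0, 15, 109386) (.node (.node (.node (.node .leaf (205329,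 0, 17, 258660) .leaf) (205334, 0, 17, 140933) (.node .leaf (205335, 0, 10, 156939) .leaf)) (205338, 0, 17, 14910) (.node (.node .leaf (205339, 0, 14, 61578) .leaf) (205340, 0, 18, 86840) (.node .leaf (205341, 0, 17, 111454) .leaf))) (205346, 0, 14, 84164) (.node (.node (.node .leaf (205347, 0, 19, 232544) .leaf) (205348, 0, 17, 132352) (.node .leaf (205349, 0, 17, 165509) .leaf)) (205352, 0, 19, 150058) (.node (.node .leaf (205353, 0, 17, 4868) .leaf) (205358, 0, 16, 253253) (.node .leaf (205359, 0, 16, 102619) .leaf))))) (205362, 0, 18, 212530) (.node (.node (.node (.node (.node .leaf (205363, 0, 16, 91932) .leaf) (205364, 0, 14, 174429) (.node .leaf (205365, 0, 15, 40243) .leaf)) (205368, 0, 17, 15580) (.node (.node .leaf (205369, 0, 15, 157170) .leaf) (205374, 0, 17, 198888) (.node .leaf (205375, 0, 11, 258717) .leaf))) (205378, 0, 14, 200053) (.node (.node (.node .leaf (205379, 0, 15, 144490) .leaf) (205380, 0, 16, 156787) (.node .leaf (205381, 0, 17, 164885) .leaf)) (205384, 0, 16, 30920) (.node (.node .leaf (205385, 0,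 17, 79492) .leaf) (205390, 0, 19, 194757) (.node .leaf (205391, 0, 9, 41451) .leaf)))) (205394, 0, 18, 138162) (.node (.node (.node (.node .leaf (205395, 0, 17, 103750) .leaf) (205396, 0, 16, 232669) (.node .leaf (205397, 0, 17, 64576) .leaf)) (205400, 0, 14, 72028) (.node (.node .leaf (205401, 0, 15, 188667) .leaf) (205406, 0, 15, 223643) (.node .leaf (205407, 0, 15, 231933) .leaf))) (205408, 0, 16, 87717) (.node (.node (.node .leaf (205409, 0, 18, 41234) .leaf) (205414, 0, 14, 225107) (.node .leaf (205415, 0, 14, 57285) .leaf)) (205418, 0, 18, 129746) (.node (.node .leaf (205419, 0, 14, 238588) .leaf) (205420, 0, 15, 215582) .leaf)))))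

/-- part of the orbit tree -/
def itp6_137 : Tree := (.node itp6_133 (205041, 0, 10, 90785) itp6_134)

/-- part of the orbit tree -/
def itp6_138 : Tree := (.node itp6_135 (205297, 0, 13, 186264) itp6_136)

/-- part of the orbit tree -/
def itp6_139 : Tree := (.node itp6_131 (204648, 0, 17, 259270) itp6_132)

/-- part of the orbit tree -/
def itp6_140 : Tree := (.node itp6_137 (205169, 0, 15, 16530) itp6_138)

/-- part of the orbit tree -/
def itp6_141 : Tree := (.node (.node (.node (.node (.node (.node .leaf (205424, 0, 17, 208624) .leaf) (205425, 0, 14, 249494) (.node .leaf (205430, 0, 17, 72101) .leaf)) (205431, 0, 16, 213131) (.node (.node .leaf (205434, 0, 15, 232484) .leaf) (205435, 0, 14, 120074) (.node .leaf (205436, 0, 16, 78411) .leaf))) (205437, 0, 14, 119341) (.node (.node (.node .leaf (205440, 0, 16, 237788) .leaf) (205441, 0, 15, 213178) (.node .leaf (205446, 0, 15, 182746) .leaf)) (205447, 0, 16, 238484) (.node (.node .leaf (205450, 0, 17, 54625) .leaf) (205451, 0, 16, 13575) (.node .leaf (205452, 0, 16, 113767)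 .leaf)))) (205453, 0, 16, 89089) (.node (.node (.node (.node .leaf (205456, 0, 16, 120969) .leaf) (205457, 0, 13, 16909) (.node .leaf (205462, 0, 14, 232524) .leaf)) (205463, 0, 12, 120162) (.node (.node .leaf (205466, 0, 14, 175412) .leaf) (205467, 0, 14, 213219) (.node .leaf (205468, 0, 16, 36514) .leaf))) (205469, 0, 15, 186252) (.node (.node (.node .leaf (205474, 0, 17, 129804) .leaf) (205475, 0, 15, 41347) (.node .leaf (205476, 0, 15, 225218) .leaf)) (205477, 0, 17, 79596) (.node (.node .leaf (205480, 0, 16, 129603) .leaf) (205481, 0, 15, 238445) (.node .leaf (205486, 0, 18, 27948) .leaf))))) (205487, 0, 15, 144386) (.node (.node (.node (.node (.node .leaf (205490, 0, 18, 36443) .leaf) (205491, 0, 14, 222015) (.node .leaf (205492, 0, 11, 71988) .leaf)) (205493, 0, 18, 213018) (.node (.node .leaf (205496, 0, 15, 232629) .leaf) (205497, 0, 17, 5762) (.node .leaf (205502, 0, 17, 138202) .leaf))) (205503, 0, 15, 98180) (.node (.node (.node .leaf (205506, 0, 17, 253229) .leaf) (205507, 0, 16, 96793) (.node .leaf (205508, 0,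 17, 150082) .leaf)) (205509, 0, 17, 4972) (.node (.node .leaf (205512, 0, 16, 57283) .leaf) (205513, 0, 17, 135076) (.node .leaf (205518, 0, 17, 84140) .leaf)))) (205519, 0, 18, 222882) (.node (.node (.node (.node .leaf (205522, 0, 17, 109531) .leaf) (205523, 0, 16, 197196) (.node .leaf (205524, 0, 19, 166700) .leaf)) (205525, 0, 18, 158538) (.node (.node .leaf (205528, 0, 14, 38807) .leaf) (205529, 0, 15, 61467) (.node .leaf (205534, 0, 15, 130705) .leaf))) (205535, 0, 17, 73463) (.node (.node (.node .leaf (205536, 0, 15, 246191) .leaf) (205537, 0, 17, 201083) (.node .leaf (205542, 0, 15, 174249) .leaf)) (205543, 0, 17, 149711) (.node (.node .leaf (205546, 0, 17, 150203) .leaf) (205547, 0, 17, 5013) (.node .leaf (205548, 0, 16, 253396) .leaf))))))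

/-- part of the orbit tree -/
def itp6_142 : Tree := (.node (.node (.node (.node (.node (.node .leaf (205552, 0, 16, 212643) .leaf) (205553, 0, 16, 92045) (.node .leaf (205558, 0, 17, 174540) .leaf)) (205559, 0, 16, 61666) (.node (.node .leaf (205562, 0, 16, 15437) .leaf) (205563, 0, 16, 142369) (.node .leaf (205564, 0, 17, 109346) .leaf))) (205565, 0, 19, 258572) (.node (.node (.node .leaf (205568, 0, 18, 169378) .leaf) (205569, 0, 16, 161220) (.node .leaf (205574, 0, 11, 175408) .leaf)) (205575, 0, 16, 203970) (.node (.node .leaf (205578, 0, 14, 14513) .leaf) (205579, 0, 18, 65657) (.node .leaf (205580, 0, 16, 35097) .leaf)))) (205581, 0, 17, 27007) (.node (.node (.node (.node .leaf (205584, 0, 14, 85161) .leaf) (205585, 0, 9, 3473) (.node .leaf (205590, 0, 16, 56262) .leaf)) (205591, 0, 16, 164584) (.node (.node .leaf (205594, 0, 16, 235594) .leaf) (205595, 0, 15, 227372) (.node .leaf (205596, 0, 15, 252200) .leaf))) (205597, 0, 14, 135466) (.node (.node (.node .leaf (205602, 0, 17, 110375) .leaf) (205603, 0, 17, 11796)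 (.node .leaf (205604, 0, 16, 108404) .leaf)) (205605, 0, 16, 156006) (.node (.node .leaf (205608, 0, 17, 244687) .leaf) (205609, 0, 15, 220073) (.node .leaf (205614, 0, 16, 211622) .leaf))))) (205615, 0, 15, 144047) (.node (.node (.node (.node (.node .leaf (205618, 0, 17, 177703) .leaf) (205619, 0, 18, 98559) (.node .leaf (205620, 0, 16, 253729) .leaf)) (205621, 0, 14, 212807) (.node (.node .leaf (205624, 0, 18, 56127) .leaf) (205625, 0, 14, 74748) (.node .leaf (205630, 0, 17, 43676) .leaf))) (205631, 0, 11, 19194) (.node (.node (.node .leaf (205634, 0, 18, 44801) .leaf) (205635, 0, 16, 20327) (.node .leaf (205636, 0, 17, 73160) .leaf)) (205637, 0, 12, 214246) (.node (.node .leaf (205640, 0, 17, 252604) .leaf) (205641, 0, 15, 119143) (.node .leaf (205646, 0, 11, 139046) .leaf)))) (205647, 0, 17, 152540) (.node (.node (.node (.node .leaf (205650, 0, 11, 195665) .leaf) (205651, 0, 18, 145202) (.node .leaf (205652, 0, 17, 224062) .leaf)) (205653, 0, 18, 78352) (.node (.node .leaf (205656, 0, 15, 130751) .leaf) (205657, 0, 15,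 82575) (.node .leaf (205662, 0, 14, 52207) .leaf))) (205663, 0, 15, 11145) (.node (.node (.node .leaf (205664, 0, 16, 139231) .leaf) (205665, 0, 17, 18161) (.node .leaf (205670, 0, 17, 231600) .leaf)) (205671, 0, 15, 119198) (.node (.node .leaf (205674, 0, 17, 98668) .leaf) (205675, 0, 11, 214047) (.node .leaf (205676, 0, 12, 59498) .leaf))))))

/-- part of the orbit tree -/
def itp6_143 : Tree := (.node (.node (.node (.node (.node (.node .leaf (205680, 0, 14, 35972) .leaf) (205681, 0, 17, 27874) (.node .leaf (205686, 0, 18, 124290) .leaf)) (205687, 0, 13, 239464) (.node (.node .leaf (205690, 0, 15, 224199) .leaf) (205691, 0, 18, 203103) (.node .leaf (205692, 0, 14, 167999) .leaf))) (205693, 0, 16, 159833) (.node (.node (.node .leaf (205696, 0, 18, 35382) .leaf) (205697, 0, 16, 58062) (.node .leaf (205702, 0, 14, 93102) .leaf)) (205703, 0, 18, 101320) (.node (.node .leaf (205706, 0, 16, 231640) .leaf) (205707, 0, 11, 235379) (.node .leaf (205708, 0, 16, 139191) .leaf)))) (205709, 0, 15, 196213) (.node (.node (.node (.node .leaf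 (205712, 0, 13, 195776) .leaf) (205713, 0, 18, 42478) (.node .leaf (205718, 0, 15, 201723) .leaf)) (205719, 0, 17, 78465) (.node (.node .leaf (205722, 0, 15, 130606) .leaf) (205723, 0, 13, 126758) (.node .leaf (205724, 0, 15, 26182) .leaf))) (205725, 0, 16, 143471) (.node (.node (.node .leaf (205730, 0, 18, 153976) .leaf) (205731, 0, 17, 178462) (.node .leaf (205732, 0, 14, 231457) .leaf)) (205733, 0, 14, 249880) (.node (.node .leaf (205736, 0, 17, 76997) .leaf) (205737, 0, 16, 117923) (.node .leaf (205742, 0, 18, 35535) .leaf))))) (205743, 0, 16, 185313) (.node (.node (.node (.node (.node .leaf (205746, 0, 17, 27064) .leaf) (205747, 0, 13, 49483) (.node .leaf (205748, 0, 14, 130775) .leaf)) (205749, 0, 15, 108621) (.node (.node .leaf (205752, 0, 17, 224086) .leaf) (205753, 0, 11, 78456) (.node .leaf (205758, 0, 16, 195641) .leaf))) (205759, 0, 16, 42263) (.node (.node (.node .leaf (205762, 0, 15, 211662) .leaf) (205763, 0, 17, 91104) (.node .leaf (205764, 0, 16, 175521) .leaf)) (205765, 0, 14, 62607) (.node (.node .leaf (205768,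 0, 14, 14368) .leaf) (205769, 0, 17, 155918) (.node .leaf (205774, 0, 18, 110415) .leaf)))) (205775, 0, 16, 50390) (.node (.node (.node (.node .leaf (205778, 0, 16, 16478) .leaf) (205779, 0, 18, 202006) (.node .leaf (205780, 0, 8, 76120) .leaf)) (205781, 0, 16, 164473) (.node (.node .leaf (205784, 0, 14, 210403) .leaf) (205785, 0, 17, 251269) (.node .leaf (205790, 0, 17, 252345) .leaf))) (205791, 0, 11, 179331) (.node (.node (.node .leaf (205792, 0, 14, 25563) .leaf) (205793, 0, 17, 259736) (.node .leaf (205798, 0, 16, 14553) .leaf)) (205799, 0, 17, 156151) (.node (.node .leaf (205802, 0, 15, 175448) .leaf) (205803, 0, 15, 62582) (.node .leaf (205804, 0, 15, 163680) .leaf))))))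

/-- part of the orbit tree -/
def itp6_144 : Tree := (.node (.node (.node (.node (.node (.node .leaf (205808, 0, 17, 138126) .leaf) (205809, 0, 16, 98414) (.node .leaf (205814, 0, 15, 225928) .leaf)) (205815, 0, 18, 234222) (.node (.node .leaf (205818, 0, 14, 56238) .leaf) (205819, 0, 18, 164480) (.node .leaf (205820, 0, 13, 1845) .leaf))) (205821, 0, 15, 202223) (.node (.node (.node .leaf (205824, 0, 16, 54628) .leaf) (205826, 0, 14, 212246) (.node .leaf (205829, 0, 15, 62295) .leaf)) (205831, 0, 15, 203557) (.node (.node .leaf (205833, 0, 17, 157398) .leaf) (205835, 0, 17, 102052) (.node .leaf (205836, 0, 17, 138677) .leaf)))) (205838, 0, 13, 108695) (.node (.node (.node (.node .leaf (205840, 0, 18, 162139) .leaf) (205842, 0, 14, 84960) (.node .leaf (205845, 0, 18, 172062) .leaf)) (205847, 0, 18, 258107) (.node (.node .leaf (205849, 0, 14, 4128) .leaf) (205851, 0, 15, 126080) (.node .leaf (205852, 0, 15, 26080) .leaf))) (205854, 0, 19, 253537) (.node (.node (.node .leaf (205857, 0, 17, 256669) .leaf) (205859, 0, 16, 6450)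 (.node .leaf (205860, 0, 16, 209880) .leaf)) (205862, 0, 18, 156669) (.node (.node .leaf (205864, 0, 16, 77667) .leaf) (205866, 0, 18, 174720) (.node .leaf (205869, 0, 18, 91329) .leaf))))) (205871, 0, 18, 42499) (.node (.node (.node (.node (.node .leaf (205873, 0, 15, 100278) .leaf) (205875, 0, 16, 159684) (.node .leaf (205876, 0, 15, 106885) .leaf)) (205878, 0, 18, 7080) (.node (.node .leaf (205880, 0, 17, 218934) .leaf) (205882, 0, 16, 56438) (.node .leaf (205885, 0, 17, 233075) .leaf))) (205887, 0, 17, 187990) (.node (.node (.node .leaf (205889, 0, 16, 232430) .leaf) (205891, 0, 16, 187339) (.node .leaf (205892, 0, 18, 217771) .leaf)) (205894, 0, 17, 72321) (.node (.node .leaf (205896, 0, 18, 26482) .leaf) (205898, 0, 16, 7733) (.node .leaf (205901, 0, 16, 104277) .leaf)))) (205903, 0, 13, 51056) (.node (.node (.node (.node .leaf (205905, 0, 17, 41526) .leaf) (205907, 0, 12, 215620) (.node .leaf (205908, 0, 16, 76542) .leaf)) (205910, 0, 18, 31451) (.node (.node .leaf (205912, 0, 17, 210501) .leaf) (205914, 0, 17, 157280)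 (.node .leaf (205917, 0, 10, 145335) .leaf))) (205919, 0, 10, 122821) (.node (.node (.node .leaf (205920, 0, 16, 24701) .leaf) (205922, 0, 16, 77912) (.node .leaf (205925, 0, 17, 120535) .leaf)) (205927, 0, 10, 147109) (.node (.node .leaf (205929, 0, 15, 213846) .leaf) (205931, 0, 15, 259494) (.node .leaf (205932, 0, 18, 163014) .leaf))))))

/-- part of the orbit tree -/
def itp6_145 : Tree := (.node itp6_141 (205549, 0, 13, 81266) itp6_142)

/-- part of the orbit tree -/
def itp6_146 : Tree := (.node itp6_143 (205805, 0, 17, 90905) itp6_144)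

/-- part of the orbit tree -/
def itp6_147 : Tree := (.node (.node (.node (.node (.node (.node .leaf (205936, 0, 14, 137256) .leaf) (205938, 0, 17, 215053) (.node .leaf (205941, 0, 13, 237601) .leaf)) (205943, 0, 14, 233800) (.node (.node .leaf (205945, 0, 18, 79264) .leaf) (205947, 0, 11, 187858) (.node .leaf (205948, 0, 19, 70547) .leaf))) (205950, 0, 17, 195553) (.node (.node (.node .leaf (205952, 0, 18, 169476) .leaf) (205954, 0, 16, 36223) (.node .leaf (205957, 0, 18, 213822) .leaf)) (205959, 0, 16, 43852) (.node (.node .leaf (205961, 0, 17, 120511) .leaf) (205963, 0, 16, 66527) (.node .leaf (205964, 0, 17, 35519) .leaf)))) (205966, 0, 16, 121498) (.node (.node (.node (.node .leaf (205968, 0, 17, 70651) .leaf) (205970, 0, 18, 114292) (.node .leaf (205973, 0, 18, 79304) .leaf)) (205975, 0, 17, 187834) (.node (.node .leaf (205977, 0, 15, 237641) .leaf) (205979, 0, 13, 228234) (.node .leaf (205980, 0, 15, 193258) .leaf))) (205982, 0, 16, 238287) (.node (.node (.node .leaf (205985, 0, 15, 97687) .leaf) (205987, 0, 16, 239963)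 (.node .leaf (205988, 0, 17, 26394) .leaf)) (205990, 0, 17, 62711) (.node (.node .leaf (205992, 0, 18, 243817) .leaf) (205994, 0, 14, 190540) (.node .leaf (205997, 0, 17, 185512) .leaf))))) (205999, 0, 17, 143625) (.node (.node (.node (.node (.node .leaf (206001, 0, 15, 145375) .leaf) (206003, 0, 18, 122797) (.node .leaf (206004, 0, 17, 135660) .leaf)) (206006, 0, 16, 129438) (.node (.node .leaf (206008, 0, 17, 33901) .leaf) (206010, 0, 15, 36889) (.node .leaf (206013, 0, 17, 72057) .leaf))) (206015, 0, 16, 18780) (.node (.node (.node .leaf (206017, 0, 13, 91305) .leaf) (206019, 0, 15, 19649) (.node .leaf (206020, 0, 15, 82586) .leaf)) (206022, 0, 15, 38276) (.node (.node .leaf (206024, 0, 16, 251675) .leaf) (206026, 0, 10, 16233) (.node .leaf (206029, 0, 13, 196703) .leaf)))) (206031, 0, 15, 151674) (.node (.node (.node (.node .leaf (206033, 0, 17, 222385) .leaf) (206035, 0, 17, 144532) (.node .leaf (206036, 0, 16, 245236) .leaf)) (206038, 0, 16, 56350) (.node (.node .leaf (206040, 0, 18, 106989) .leaf) (206042, 0, 14, 61802)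 (.node .leaf (206045, 0, 15, 100318) .leaf))) (206047, 0, 12, 159660) (.node (.node (.node .leaf (206048, 0, 16, 147597) .leaf) (206050, 0, 16, 239442) (.node .leaf (206053, 0, 11, 157374) .leaf)) (206055, 0, 15, 102092) (.node (.node .leaf (206057, 0, 12, 62271) .leaf) (206059, 0, 18, 90796) (.node .leaf (206060, 0, 18, 60364) .leaf))))))

/-- part of the orbit tree -/
def itp6_148 : Tree := (.node (.node (.node (.node (.node (.node .leaf (206064, 0, 17, 36642) .leaf) (206066, 0, 17, 253449) (.node .leaf (206069, 0, 15, 22119) .leaf)) (206071, 0, 17, 260154) (.node (.node .leaf (206073, 0, 15, 165321) .leaf) (206075, 0, 11, 203513) (.node .leaf (206076, 0, 15, 168857) .leaf))) (206078, 0, 16, 246716) (.node (.node (.node .leaf (206080, 0, 18, 12935) .leaf) (206082, 0, 18, 193375) (.node .leaf (206085, 0, 10, 227903) .leaf)) (206087, 0, 15, 261318) (.node (.node .leaf (206089, 0, 17, 164149) .leaf) (206091, 0, 16, 92487) (.node .leaf (206092, 0, 14, 173830) .leaf)))) (206094, 0, 13, 61412) (.node (.node (.node (.node .leaf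 (206096, 0, 16, 148593) .leaf) (206098, 0, 18, 109571) (.node .leaf (206101, 0, 14, 66154) .leaf)) (206103, 0, 16, 100912) (.node (.node .leaf (206105, 0, 16, 204497) .leaf) (206107, 0, 15, 151284) (.node .leaf (206108, 0, 13, 53744) .leaf))) (206110, 0, 15, 211330) (.node (.node (.node .leaf (206113, 0, 18, 202403) .leaf) (206115, 0, 16, 71884) (.node .leaf (206116, 0, 17, 37292) .leaf)) (206118, 0, 16, 115081) (.node (.node .leaf (206120, 0, 16, 167191) .leaf) (206122, 0, 16, 253234) (.node .leaf (206125, 0, 19, 99106) .leaf))))) (206127, 0, 12, 158544) (.node (.node (.node (.node (.node .leaf (206129, 0, 14, 90197) .leaf) (206131, 0, 18, 221337) (.node .leaf (206132, 0, 14, 190969) .leaf)) (206134, 0, 17, 175636) (.node (.node .leaf (206136, 0, 17, 250855) .leaf) (206138, 0, 15, 15253) (.node .leaf (206141, 0, 17, 11271) .leaf))) (206143, 0, 10, 97314) (.node (.node (.node .leaf (206145, 0, 16, 10650) .leaf) (206147, 0, 15, 96703) (.node .leaf (206148, 0, 17, 61663) .leaf)) (206150, 0, 17, 106746) (.node (.node .leaf (206152,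 0, 17, 32913) .leaf) (206154, 0, 17, 244801) (.node .leaf (206157, 0, 15, 144673) .leaf)))) (206159, 0, 18, 216784) (.node (.node (.node (.node .leaf (206161, 0, 15, 152015) .leaf) (206163, 0, 14, 197098) (.node .leaf (206164, 0, 16, 25574) .leaf)) (206166, 0, 18, 232340) (.node (.node .leaf (206168, 0, 17, 194151) .leaf) (206170, 0, 15, 115732) (.node .leaf (206173, 0, 15, 184404) .leaf))) (206175, 0, 18, 79910) (.node (.node (.node .leaf (206176, 0, 14, 71431) .leaf) (206178, 0, 17, 196469) (.node .leaf (206181, 0, 13, 203596) .leaf)) (206183, 0, 17, 150377) (.node (.node .leaf (206185, 0, 16, 238773) .leaf) (206187, 0, 14, 19655) (.node .leaf (206188, 0, 16, 122546) .leaf))))))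

/-- part of the orbit tree -/
def itp6_149 : Tree := (.node (.node (.node (.node (.node (.node .leaf (206192, 0, 14, 221681) .leaf) (206194, 0, 17, 35203) (.node .leaf (206197, 0, 17, 90905) .leaf)) (206199, 0, 16, 13116) (.node (.node .leaf (206201, 0, 12, 119363) .leaf) (206203, 0, 17, 143239) (.node .leaf (206204, 0, 10, 239335) .leaf))) (206206, 0, 16, 194242) (.node (.node (.node .leaf (206208, 0, 17, 230126) .leaf) (206210, 0, 15, 27292) (.node .leaf (206213, 0, 18, 238813) .leaf)) (206215, 0, 12, 19631) (.node (.node .leaf (206217, 0, 16, 78172) .leaf) (206219, 0, 17, 186670) (.node .leaf (206220, 0, 16, 207051) .leaf)))) (206222, 0, 17, 196381) (.node (.node (.node (.node .leaf (206224, 0, 16, 216101) .leaf) (206226, 0, 17, 138346) (.node .leaf (206229, 0, 15, 119339) .leaf)) (206231, 0, 16, 146009) (.node (.node .leaf (206233, 0, 16, 100827) .leaf) (206235, 0, 18, 45016) (.node .leaf (206236, 0, 17, 221593) .leaf))) (206238, 0, 16, 187) (.node (.node (.node .leaf (206241, 0, 18, 42698) .leaf) (206243, 0, 17, 233414)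 (.node .leaf (206244, 0, 17, 33017) .leaf)) (206246, 0, 14, 223371) (.node (.node .leaf (206248, 0, 15, 136568) .leaf) (206250, 0, 14, 130314) (.node .leaf (206253, 0, 18, 144203) .leaf))))) (206255, 0, 17, 103293) (.node (.node (.node (.node (.node .leaf (206257, 0, 19, 184380) .leaf) (206259, 0, 15, 79950) (.node .leaf (206260, 0, 17, 194063) .leaf)) (206262, 0, 12, 73341) (.node (.node .leaf (206264, 0, 12, 156232) .leaf) (206266, 0, 16, 209517) (.node .leaf (206269, 0, 15, 17853) .leaf))) (206271, 0, 16, 241103) (.node (.node (.node .leaf (206273, 0, 17, 99146) .leaf) (206275, 0, 15, 257717) (.node .leaf (206276, 0, 15, 107897) .leaf)) (206278, 0, 13, 150795) (.node (.node .leaf (206280, 0, 15, 209144) .leaf) (206282, 0, 17, 55434) (.node .leaf (206285, 0, 14, 202443) .leaf)))) (206287, 0, 16, 127502) (.node (.node (.node (.node .leaf (206289, 0, 15, 50885) .leaf) (206291, 0, 17, 104160) (.node .leaf (206292, 0, 13, 250767) .leaf)) (206294, 0, 14, 85925) (.node (.node .leaf (206296, 0, 18, 131899) .leaf) (206298, 0, 17,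 175740) (.node .leaf (206301, 0, 16, 90173) .leaf))) (206303, 0, 17, 165967) (.node (.node (.node .leaf (206304, 0, 13, 173934) .leaf) (206306, 0, 17, 85788) (.node .leaf (206309, 0, 16, 164189) .leaf)) (206311, 0, 17, 56419) (.node (.node .leaf (206313, 0, 16, 5340) .leaf) (206315, 0, 17, 261294) (.node .leaf (206316, 0, 17, 13039) .leaf))))))

/-- part of the orbit tree -/
def itp6_150 : Tree := (.node (.node (.node (.node (.node (.node .leaf (206320, 0, 16, 208214) .leaf) (206322, 0, 16, 163187) (.node .leaf (206325, 0, 13, 63403) .leaf)) (206327, 0, 17, 204761) (.node (.node .leaf (206329, 0, 16, 156202) .leaf) (206331, 0, 16, 47245) (.node .leaf (206332, 0, 18, 78317) .leaf))) (206334, 0, 16, 109675) (.node (.node (.node .leaf (206340, 0, 17, 5213) .leaf) (206341, 0, 18, 62523) (.node .leaf (206342, 0, 13, 83064) .leaf)) (206343, 0, 13, 204297) (.node (.node .leaf (206344, 0, 18, 15060) .leaf) (206345, 0, 17, 190592) (.node .leaf (206346, 0, 12, 250534) .leaf)))) (206347, 0, 17, 243877) (.node (.node (.node (.node .leaf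 (206356, 0, 16, 158728) .leaf) (206357, 0, 17, 163981) (.node .leaf (206358, 0, 16, 212013) .leaf)) (206359, 0, 15, 253003) (.node (.node .leaf (206360, 0, 13, 28851) .leaf) (206361, 0, 15, 5388) (.node .leaf (206362, 0, 15, 107600) .leaf))) (206363, 0, 15, 261502) (.node (.node (.node .leaf (206368, 0, 15, 109890) .leaf) (206369, 0, 16, 259180) (.node .leaf (206370, 0, 17, 148784) .leaf)) (206371, 0, 14, 169672) (.node (.node .leaf (206380, 0, 16, 211139) .leaf) (206381, 0, 15, 121430) (.node .leaf (206382, 0, 15, 53425) .leaf))))) (206383, 0, 16, 35443) (.node (.node (.node (.node (.node .leaf (206384, 0, 18, 89822) .leaf) (206385, 0, 14, 98970) (.node .leaf (206386, 0, 12, 3835) .leaf)) (206387, 0, 17, 158440) (.node (.node .leaf (206396, 0, 12, 213605) .leaf) (206397, 0, 14, 238083) (.node .leaf (206398, 0, 14, 173639) .leaf))) (206399, 0, 15, 65385) (.node (.node (.node .leaf (206400, 0, 17, 215032) .leaf) (206401, 0, 14, 239518) (.node .leaf (206402, 0, 18, 137181) .leaf)) (206403, 0, 15, 80286) (.node (.node .leaf (206412,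 0, 17, 88899) .leaf) (206413, 0, 16, 17517) (.node .leaf (206414, 0, 12, 2918) .leaf)))) (206415, 0, 16, 240671) (.node (.node (.node (.node .leaf (206416, 0, 16, 81837) .leaf) (206417, 0, 18, 42778) (.node .leaf (206418, 0, 18, 28552) .leaf)) (206419, 0, 16, 36846) (.node (.node .leaf (206428, 0, 15, 27573) .leaf) (206429, 0, 12, 144027) (.node .leaf (206430, 0, 13, 230343) .leaf))) (206431, 0, 18, 121577) (.node (.node (.node .leaf (206436, 0, 11, 232149) .leaf) (206437, 0, 16, 119803) (.node .leaf (206438, 0, 17, 75019) .leaf)) (206439, 0, 17, 116077) (.node (.node .leaf (206440, 0, 16, 73556) .leaf) (206441, 0, 14, 214650) .leaf)))))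

/-- part of the orbit tree -/
def itp6_151 : Tree := (.node itp6_147 (206062, 0, 16, 113641) itp6_148)

/-- part of the orbit tree -/
def itp6_152 : Tree := (.node itp6_149 (206318, 0, 12, 252573) itp6_150)

/-- part of the orbit tree -/
def itp6_153 : Tree := (.node itp6_145 (205677, 0, 17, 185200) itp6_146)

/-- part of the orbit tree -/
def itp6_154 : Tree := (.node itp6_151 (206190, 0, 16, 27380) itp6_152)

/-- part of the orbit tree -/
def itp6_155 : Tree := (.node itp6_139 (204913, 0, 18, 254694) itp6_140)

/-- part of the orbit tree -/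
def itp6_156 : Tree := (.node itp6_153 (205934, 0, 14, 36119) itp6_154)

/-- part of the orbit tree -/
def itp6_157 : Tree := (.node (.node (.node (.node (.node (.node .leaf (206443, 0, 18, 44552) .leaf) (206452, 0, 17, 130083) (.node .leaf (206453, 0, 13, 191773) .leaf)) (206454, 0, 15, 220510) (.node (.node .leaf (206455, 0, 15, 245048) .leaf) (206456, 0, 17, 223650) (.node .leaf (206457, 0, 15, 77964) .leaf))) (206458, 0, 19, 82405) (.node (.node (.node .leaf (206459, 0, 17, 186622) .leaf) (206468, 0, 17, 164695) (.node .leaf (206469, 0, 15, 214546) .leaf)) (206470, 0, 15, 250738) (.node (.node .leaf (206471, 0, 16, 209684) .leaf) (206472, 0, 17, 40940) (.node .leaf (206473, 0, 17, 119699) .leaf)))) (206474, 0, 15, 118729) (.node (.node (.node (.node .leaf (206475, 0, 18, 146401) .leaf) (206484, 0, 15, 223690) (.node .leaf (206485, 0, 17, 78052) .leaf)) (206486, 0, 18, 109351) (.node (.node .leaf (206487, 0, 17, 186518) .leaf) (206488, 0, 15, 130123) (.node .leaf (206489, 0, 15, 133087) .leaf))) (206490, 0, 16, 243612) (.node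 (.node (.node .leaf (206491, 0, 16, 219130) .leaf) (206496, 0, 13, 110977) (.node .leaf (206497, 0, 16, 86503) .leaf)) (206498, 0, 15, 57764) (.node (.node .leaf (206499, 0, 16, 450) .leaf) (206508, 0, 15, 240954) (.node .leaf (206509, 0, 14, 184708) .leaf))))) (206510, 0, 16, 221400) (.node (.node (.node (.node (.node .leaf (206511, 0, 16, 138617) .leaf) (206512, 0, 18, 27613) (.node .leaf (206513, 0, 17, 207282) .leaf)) (206514, 0, 16, 170481) (.node (.node .leaf (206515, 0, 16, 121473) .leaf) (206524, 0, 12, 120175) (.node .leaf (206525, 0, 17, 79113) .leaf))) (206526, 0, 15, 71214) (.node (.node (.node .leaf (206527, 0, 18, 25900) .leaf) (206528, 0, 16, 211115) (.node .leaf (206529, 0, 14, 77972) .leaf)) (206530, 0, 18, 53465) (.node (.node .leaf (206531, 0, 18, 166391) .leaf) (206540, 0, 19, 109866) (.node .leaf (206541, 0, 14, 207919) .leaf)))) (206542, 0, 15, 148824) (.node (.node (.node (.node .leaf (206543, 0, 13, 7286) .leaf) (206544, 0, 15, 85597) (.node .leaf (206545, 0, 14, 215233) .leaf)) (206546, 0, 16, 173615)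 (.node (.node .leaf (206547, 0, 19, 65281) .leaf) (206556, 0, 18, 252892) (.node .leaf (206557, 0, 18, 87162) .leaf))) (206558, 0, 18, 58425) (.node (.node (.node .leaf (206559, 0, 14, 1119) .leaf) (206564, 0, 16, 188964) (.node .leaf (206565, 0, 15, 131650) .leaf)) (206566, 0, 15, 250574) (.node (.node .leaf (206567, 0, 15, 217703) .leaf) (206568, 0, 17, 65183) (.node .leaf (206569, 0, 18, 62995) .leaf))))))

/-- part of the orbit tree -/
def itp6_158 : Tree := (.node (.node (.node (.node (.node (.node .leaf (206571, 0, 18, 204385) .leaf) (206580, 0, 16, 150602) (.node .leaf (206581, 0, 15, 5476) .leaf)) (206582, 0, 18, 107576) (.node (.node .leaf (206583, 0, 17, 76338) .leaf) (206584, 0, 13, 55755) (.node .leaf (206585, 0, 15, 164069) .leaf))) (206586, 0, 15, 209337) (.node (.node (.node .leaf (206587, 0, 16, 210569) .leaf) (206596, 0, 16, 243241) (.node .leaf (206597, 0, 13, 4504) .leaf)) (206598, 0, 15, 106692) (.node (.node .leaf (206599, 0, 17, 132714) .leaf) (206600, 0, 18, 109202) (.node .leaf (206601, 0, 16, 164889)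 .leaf)))) (206602, 0, 15, 64183) (.node (.node (.node (.node .leaf (206603, 0, 14, 6865) .leaf) (206612, 0, 16, 118396) (.node .leaf (206613, 0, 17, 77338) .leaf)) (206614, 0, 16, 251442) (.node (.node .leaf (206615, 0, 15, 102172) .leaf) (206616, 0, 16, 250567) (.node .leaf (206617, 0, 10, 209569) .leaf))) (206618, 0, 17, 164578) (.node (.node (.node .leaf (206619, 0, 18, 156292) .leaf) (206624, 0, 13, 34047) (.node .leaf (206625, 0, 15, 25753) .leaf)) (206626, 0, 15, 120026) (.node (.node .leaf (206627, 0, 12, 79036) .leaf) (206636, 0, 18, 253728) (.node .leaf (206637, 0, 16, 161826) .leaf))))) (206638, 0, 17, 14162) (.node (.node (.node (.node (.node .leaf (206639, 0, 17, 159356) .leaf) (206640, 0, 16, 212055) (.node .leaf (206641, 0, 14, 91513) .leaf)) (206642, 0, 15, 54309) (.node (.node .leaf (206643, 0, 16, 167179) .leaf) (206652, 0, 17, 109014) (.node .leaf (206653, 0, 16, 119) .leaf))) (206654, 0, 14, 147876) (.node (.node (.node .leaf (206655, 0, 13, 6282) .leaf) (206656, 0, 14, 58764) (.node .leaf (206657, 0, 17,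 144911) .leaf)) (206658, 0, 15, 231251) (.node (.node .leaf (206659, 0, 16, 87503) .leaf) (206668, 0, 16, 194871) (.node .leaf (206669, 0, 18, 41870) .leaf)))) (206670, 0, 18, 239890) (.node (.node (.node (.node .leaf (206671, 0, 15, 216060) .leaf) (206672, 0, 13, 171481) (.node .leaf (206673, 0, 16, 163263) .leaf)) (206674, 0, 15, 127397) (.node (.node .leaf (206675, 0, 16, 208282) .leaf) (206684, 0, 15, 33122) (.node .leaf (206685, 0, 17, 185720) .leaf))) (206686, 0, 17, 119111) (.node (.node (.node .leaf (206687, 0, 15, 81162) .leaf) (206692, 0, 13, 224566) (.node .leaf (206693, 0, 16, 210748) .leaf)) (206694, 0, 18, 34116) (.node (.node .leaf (206695, 0, 17, 157465) .leaf) (206696, 0, 17, 129207) (.node .leaf (206697, 0, 14, 237977) .leaf))))))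

/-- part of the orbit tree -/
def itp6_159 : Tree := (.node (.node (.node (.node (.node (.node .leaf (206699, 0, 17, 31650) .leaf) (206708, 0, 16, 72640) (.node .leaf (206709, 0, 18, 85865) .leaf)) (206710, 0, 12, 193458) (.node (.node .leaf (206711, 0, 17, 43676) .leaf) (206712, 0, 17, 242612) (.node .leaf (206713, 0, 14, 218066) .leaf))) (206714, 0, 17, 26163) (.node (.node (.node .leaf (206715, 0, 17, 147229) .leaf) (206724, 0, 18, 74019) (.node .leaf (206725, 0, 16, 238065) .leaf)) (206726, 0, 16, 28934) (.node (.node .leaf (206727, 0, 14, 37216) .leaf) (206728, 0, 14, 224606) (.node .leaf (206729, 0, 15, 253438) .leaf)))) (206730, 0, 15, 159165) (.node (.node (.node (.node .leaf (206731, 0, 15, 187394) .leaf) (206740, 0, 18, 219510) (.node .leaf (206741, 0, 14, 243984) .leaf)) (206742, 0, 15, 26203) (.node (.node .leaf (206743, 0, 15, 190773) .leaf) (206744, 0, 14, 83405) (.node .leaf (206745, 0, 16, 107947) .leaf))) (206746, 0, 19, 5608) (.node (.node (.node .leaf (206747, 0, 19, 62862) .leaf) (206752, 0, 18, 136181)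 (.node .leaf (206753, 0, 14, 41958) .leaf)) (206754, 0, 18, 70330) (.node (.node .leaf (206755, 0, 18, 238518) .leaf) (206764, 0, 19, 28489) (.node .leaf (206765, 0, 16, 144999) .leaf))))) (206766, 0, 18, 231227) (.node (.node (.node (.node (.node .leaf (206767, 0, 15, 122389) .leaf) (206768, 0, 17, 35902) (.node .leaf (206769, 0, 15, 185616) .leaf)) (206770, 0, 16, 80773) (.node (.node .leaf (206771, 0, 16, 81250) .leaf) (206780, 0, 16, 137663) (.node .leaf (206781, 0, 14, 169853) .leaf))) (206782, 0, 15, 206654) (.node (.node (.node .leaf (206783, 0, 16, 239843) .leaf) (206784, 0, 12, 160390) (.node .leaf (206785, 0, 15, 168672) .leaf)) (206786, 0, 16, 14138) (.node (.node .leaf (206787, 0, 15, 159252) .leaf) (206796, 0, 15, 84681) (.node .leaf (206797, 0, 18, 201703) .leaf)))) (206798, 0, 18, 172731) (.node (.node (.node (.node .leaf (206799, 0, 16, 122494) .leaf) (206800, 0, 14, 2771) (.node .leaf (206801, 0, 17, 258192) .leaf)) (206802, 0, 16, 88822) (.node (.node .leaf (206803, 0, 19, 6370) .leaf) (206812, 0, 18, 136808)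 (.node .leaf (206813, 0, 13, 194062) .leaf))) (206814, 0, 17, 54349) (.node (.node (.node .leaf (206815, 0, 12, 239147) .leaf) (206820, 0, 16, 56671) (.node .leaf (206821, 0, 18, 164977) .leaf)) (206822, 0, 17, 210221) (.node (.node .leaf (206823, 0, 17, 93187) .leaf) (206824, 0, 14, 220395) (.node .leaf (206825, 0, 15, 4592) .leaf))))))

/-- part of the orbit tree -/
def itp6_160 : Tree := (.node (.node (.node (.node (.node (.node .leaf (206827, 0, 16, 191656) .leaf) (206836, 0, 17, 210949) (.node .leaf (206837, 0, 14, 252003) .leaf)) (206838, 0, 18, 82907) (.node (.node .leaf (206839, 0, 15, 203509) .leaf) (206840, 0, 17, 15912) (.node .leaf (206841, 0, 16, 157446) .leaf))) (206842, 0, 12, 251482) (.node (.node (.node .leaf (206843, 0, 16, 38141) .leaf) (206848, 0, 16, 222650) (.node .leaf (206851, 0, 17, 185849) .leaf)) (206852, 0, 15, 123570) (.node (.node .leaf (206855, 0, 18, 191706) .leaf) (206857, 0, 11, 106564) (.node .leaf (206858, 0, 16, 40769) .leaf)))) (206861, 0, 16, 104807) (.node (.node (.node (.node .leaf (206862,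 0, 17, 188508) .leaf) (206864, 0, 17, 125785) (.node .leaf (206867, 0, 15, 23045) .leaf)) (206868, 0, 16, 74956) (.node (.node .leaf (206871, 0, 19, 140568) .leaf) (206873, 0, 14, 219371) (.node .leaf (206874, 0, 13, 190903) .leaf))) (206877, 0, 17, 254258) (.node (.node (.node .leaf (206878, 0, 16, 151921) .leaf) (206881, 0, 18, 47499) (.node .leaf (206882, 0, 15, 81514) .leaf)) (206885, 0, 18, 181910) (.node (.node .leaf (206886, 0, 17, 67401) .leaf) (206888, 0, 16, 150487) (.node .leaf (206891, 0, 17, 244581) .leaf))))) (206892, 0, 17, 29988) (.node (.node (.node (.node (.node .leaf (206895, 0, 13, 246455) .leaf) (206897, 0, 15, 194172) (.node .leaf (206898, 0, 19, 228897) .leaf)) (206901, 0, 18, 184159) (.node (.node .leaf (206902, 0, 15, 65852) .leaf) (206904, 0, 15, 31951) (.node .leaf (206907, 0, 15, 118163) .leaf))) (206908, 0, 14, 132050) (.node (.node (.node .leaf (206911, 0, 16, 242318) .leaf) (206913, 0, 16, 61274) (.node .leaf (206914, 0, 18, 11607) .leaf)) (206917, 0, 16, 254742) (.node (.node .leaf (206918, 0,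 18, 91706) .leaf) (206920, 0, 17, 208825) (.node .leaf (206923, 0, 12, 236263) .leaf)))) (206924, 0, 15, 86180) (.node (.node (.node (.node .leaf (206927, 0, 15, 57848) .leaf) (206929, 0, 16, 256765) (.node .leaf (206930, 0, 17, 154529) .leaf)) (206933, 0, 16, 175660) (.node (.node .leaf (206934, 0, 16, 204399) .leaf) (206936, 0, 16, 88399) (.node .leaf (206939, 0, 15, 123570) .leaf))) (206940, 0, 17, 27602) (.node (.node (.node .leaf (206943, 0, 16, 121745) .leaf) (206944, 0, 13, 197833) (.node .leaf (206947, 0, 12, 177290) .leaf)) (206948, 0, 18, 50994) (.node (.node .leaf (206951, 0, 14, 167337) .leaf) (206953, 0, 18, 2973) (.node .leaf (206954, 0, 16, 113345) .leaf))))))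

/-- part of the orbit tree -/
def itp6_161 : Tree := (.node itp6_157 (206570, 0, 18, 83791) itp6_158)

/-- part of the orbit tree -/
def itp6_162 : Tree := (.node itp6_159 (206826, 0, 16, 106668) itp6_160)

/-- part of the orbit tree -/
def itp6_163 : Tree := (.node (.node (.node (.node (.node (.node .leaf (206958, 0, 17, 18519) .leaf) (206960, 0, 12, 52953) (.node .leaf (206963, 0, 17, 52447) .leaf)) (206964, 0, 15, 176580) (.node (.node .leaf (206967, 0, 14, 62972) .leaf) (206969, 0, 14, 244066) (.node .leaf (206970, 0, 14, 248887) .leaf))) (206973, 0, 18, 630) (.node (.node (.node .leaf (206974, 0, 16, 143362) .leaf) (206976, 0, 16, 127664) (.node .leaf (206979, 0, 15, 17139) .leaf)) (206980, 0, 16, 152283) (.node (.node .leaf (206983, 0, 19, 31696) .leaf) (206985, 0, 18, 210766) (.node .leaf (206986, 0, 16, 165645) .leaf)))) (206989, 0, 15, 200301) (.node (.node (.node (.node .leaf (206990, 0, 13, 179758) .leaf) (206992, 0, 16, 154416) (.node .leaf (206995, 0, 18, 256620) .leaf)) (206996, 0, 14, 9261) (.node (.node .leaf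 (206999, 0, 17, 103793) .leaf) (207001, 0, 16, 59522) (.node .leaf (207002, 0, 17, 88542) .leaf))) (207005, 0, 16, 95800) (.node (.node (.node .leaf (207006, 0, 16, 50811) .leaf) (207009, 0, 16, 199138) (.node .leaf (207010, 0, 18, 239968) .leaf)) (207013, 0, 14, 95999) (.node (.node .leaf (207014, 0, 16, 51107) .leaf) (207016, 0, 12, 56541) (.node .leaf (207019, 0, 14, 2828) .leaf))))) (207020, 0, 19, 58878) (.node (.node (.node (.node (.node .leaf (207023, 0, 13, 160785) .leaf) (207025, 0, 16, 98068) (.node .leaf (207026, 0, 17, 119093) .leaf)) (207029, 0, 8, 196617) (.node (.node .leaf (207030, 0, 16, 176469) .leaf) (207032, 0, 14, 248998) (.node .leaf (207035, 0, 17, 201931) .leaf))) (207036, 0, 13, 111547) (.node (.node (.node .leaf (207039, 0, 17, 208360) .leaf) (207041, 0, 13, 142434) (.node .leaf (207042, 0, 16, 236862) .leaf)) (207045, 0, 18, 147827) (.node (.node .leaf (207046, 0, 17, 258352) .leaf) (207048, 0, 15, 48558) (.node .leaf (207051, 0, 15, 69101) .leaf)))) (207052, 0, 17, 188621) (.node (.node (.node (.node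 .leaf (207055, 0, 17, 217489) .leaf) (207057, 0, 16, 23188) (.node .leaf (207058, 0, 16, 125896) .leaf)) (207061, 0, 18, 140681) (.node (.node .leaf (207062, 0, 17, 100709) .leaf) (207064, 0, 18, 190758) (.node .leaf (207067, 0, 14, 219258) .leaf))) (207068, 0, 14, 38459) (.node (.node (.node .leaf (207071, 0, 18, 216219) .leaf) (207072, 0, 17, 103363) (.node .leaf (207075, 0, 16, 47386) .leaf)) (207076, 0, 17, 109280) (.node (.node .leaf (207079, 0, 15, 181767) .leaf) (207081, 0, 16, 244724) (.node .leaf (207082, 0, 17, 133800) .leaf))))))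

/-- part of the orbit tree -/
def itp6_164 : Tree := (.node (.node (.node (.node (.node (.node .leaf (207086, 0, 15, 188253) .leaf) (207088, 0, 17, 256918) (.node .leaf (207091, 0, 16, 184300) .leaf)) (207092, 0, 17, 250549) (.node (.node .leaf (207095, 0, 12, 156406) .leaf) (207097, 0, 16, 77416) (.node .leaf (207098, 0, 16, 31838) .leaf))) (207101, 0, 16, 71499) (.node (.node (.node .leaf (207102, 0, 14, 42760) .leaf) (207104, 0, 14, 51150) (.node .leaf (207107, 0, 14, 96141) .leaf)) (207108, 0, 16, 66897) (.node (.node .leaf (207111, 0, 15, 85678) .leaf) (207113, 0, 14, 117246) (.node .leaf (207114, 0, 16, 30882) .leaf)))) (207117, 0, 13, 146195) (.node (.node (.node (.node .leaf (207118, 0, 17, 133055) .leaf) (207120, 0, 15, 68794) (.node .leaf (207123, 0, 17, 200664) .leaf)) (207124, 0, 16, 226215) (.node (.node .leaf (207127, 0, 18, 210683) .leaf) (207129, 0, 17, 245512) (.node .leaf (207130, 0, 16, 134740) .leaf))) (207133, 0, 15, 17222) (.node (.node (.node .leaf (207134, 0, 17, 29001) .leaf) (207137, 0, 16, 24168)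 (.node .leaf (207138, 0, 18, 126772) .leaf)) (207141, 0, 15, 202110) (.node (.node .leaf (207142, 0, 18, 233513) .leaf) (207144, 0, 16, 191962) (.node .leaf (207147, 0, 18, 23008) .leaf))))) (207148, 0, 14, 37575) (.node (.node (.node (.node (.node .leaf (207151, 0, 13, 24771) .leaf) (207153, 0, 16, 141470) (.node .leaf (207154, 0, 17, 58443) .leaf)) (207157, 0, 16, 22403) (.node (.node .leaf (207158, 0, 14, 56680) .leaf) (207160, 0, 18, 233974) (.node .leaf (207163, 0, 15, 139701) .leaf))) (207164, 0, 16, 189489) (.node (.node (.node .leaf (207167, 0, 16, 137366) .leaf) (207169, 0, 14, 216366) (.node .leaf (207170, 0, 16, 51892) .leaf)) (207173, 0, 17, 226317) (.node (.node .leaf (207174, 0, 16, 181326) .leaf) (207176, 0, 18, 247898) (.node .leaf (207179, 0, 13, 14483) .leaf)))) (207180, 0, 14, 111091) (.node (.node (.node (.node .leaf (207183, 0, 18, 1563) .leaf) (207185, 0, 16, 79227) (.node .leaf (207186, 0, 15, 179266) .leaf)) (207189, 0, 13, 94723) (.node (.node .leaf (207190, 0, 17, 50015) .leaf) (207192, 0, 14, 258181)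 (.node .leaf (207195, 0, 17, 147654) .leaf))) (207196, 0, 15, 246193) (.node (.node (.node .leaf (207199, 0, 16, 159981) .leaf) (207200, 0, 16, 155596) (.node .leaf (207203, 0, 16, 71422) .leaf)) (207204, 0, 15, 40862) (.node (.node .leaf (207207, 0, 17, 77789) .leaf) (207209, 0, 16, 60542) (.node .leaf (207210, 0, 17, 89378) .leaf))))))

/-- part of the orbit tree -/
def itp6_165 : Tree := (.node (.node (.node (.node (.node (.node .leaf (207214, 0, 12, 205375) .leaf) (207216, 0, 17, 10554) (.node .leaf (207219, 0, 15, 224939) .leaf)) (207220, 0, 14, 190411) (.node (.node .leaf (207223, 0, 15, 219016) .leaf) (207225, 0, 16, 170632) (.node .leaf (207226, 0, 18, 109397) .leaf))) (207229, 0, 16, 58773) (.node (.node (.node .leaf (207230, 0, 17, 87241) .leaf) (207232, 0, 15, 151748) (.node .leaf (207235, 0, 15, 254087) .leaf)) (207236, 0, 17, 158183) (.node (.node .leaf (207239, 0, 16, 252324) .leaf) (207241, 0, 17, 38202) (.node .leaf (207242, 0, 17, 248011) .leaf)))) (207245, 0, 16, 1674) (.node (.node (.node (.node .leaf (207246,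 0, 17, 72794) .leaf) (207248, 0, 17, 179411) (.node .leaf (207251, 0, 17, 104658) .leaf)) (207252, 0, 17, 50126) (.node (.node .leaf (207255, 0, 16, 106993) .leaf) (207257, 0, 18, 191855) (.node .leaf (207258, 0, 17, 114237) .leaf))) (207261, 0, 13, 185420) (.node (.node (.node .leaf (207262, 0, 16, 222223) .leaf) (207265, 0, 16, 113495) (.node .leaf (207266, 0, 16, 2836) .leaf)) (207269, 0, 18, 102684) (.node (.node .leaf (207270, 0, 16, 12855) .leaf) (207272, 0, 17, 89523) (.node .leaf (207275, 0, 16, 60655) .leaf))))) (207276, 0, 16, 214922) (.node (.node (.node (.node (.node .leaf (207279, 0, 15, 194505) .leaf) (207281, 0, 18, 246530) (.node .leaf (207282, 0, 16, 160577) .leaf)) (207285, 0, 17, 260641) (.node (.node .leaf (207286, 0, 16, 150114) .leaf) (207288, 0, 15, 207685) (.node .leaf (207291, 0, 18, 170521) .leaf))) (207292, 0, 15, 87128) (.node (.node (.node .leaf (207295, 0, 14, 58628) .leaf) (207297, 0, 17, 183169) (.node .leaf (207298, 0, 15, 27239) .leaf)) (207301, 0, 15, 46236) (.node (.node .leaf (207302, 0,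 12, 21316) .leaf) (207304, 0, 15, 204762) (.node .leaf (207307, 0, 16, 176025) .leaf)))) (207308, 0, 16, 206585) (.node (.node (.node (.node .leaf (207311, 0, 18, 243314) .leaf) (207313, 0, 18, 48503) (.node .leaf (207314, 0, 13, 68651) .leaf)) (207317, 0, 16, 236370) (.node (.node .leaf (207318, 0, 11, 226102) .leaf) (207320, 0, 18, 134853) (.node .leaf (207323, 0, 16, 245657) .leaf))) (207324, 0, 15, 29144) (.node (.node (.node .leaf (207327, 0, 14, 61167) .leaf) (207328, 0, 17, 143799) (.node .leaf (207331, 0, 9, 24313) .leaf)) (207332, 0, 17, 133268) (.node (.node .leaf (207335, 0, 16, 139748) .leaf) (207337, 0, 16, 220183) (.node .leaf (207338, 0, 14, 191819) .leaf))))))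

/-- part of the orbit tree -/
def itp6_166 : Tree := (.node (.node (.node (.node (.node (.node .leaf (207342, 0, 16, 37462) .leaf) (207344, 0, 9, 235859) (.node .leaf (207347, 0, 14, 141327) .leaf)) (207348, 0, 18, 28865) (.node (.node .leaf (207351, 0, 17, 114818) .leaf) (207353, 0, 17, 76513) (.node .leaf (207354, 0, 16, 212063) .leaf))) (207357, 0, 15, 177471) (.node (.node (.node .leaf (207358, 0, 17, 198012) .leaf) (207362, 0, 16, 28913) (.node .leaf (207363, 0, 16, 194953) .leaf)) (207366, 0, 18, 139468) (.node (.node .leaf (207367, 0, 18, 22210) .leaf) (207368, 0, 18, 225823) (.node .leaf (207369, 0, 18, 101428) .leaf)))) (207372, 0, 18, 68866) (.node (.node (.node (.node .leaf (207373, 0, 17, 218156) .leaf) (207378, 0, 18, 25018) (.node .leaf (207379, 0, 14, 24361) .leaf)) (207382, 0, 15, 22681) (.node (.node .leaf (207383, 0, 17, 139316) .leaf) (207384, 0, 18, 201735) (.node .leaf (207385, 0, 17, 220615) .leaf))) (207388, 0, 18, 208164) (.node (.node (.node .leaf (207389, 0, 17, 74458) .leaf) (207392, 0, 16, 189833)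 (.node .leaf (207393, 0, 16, 41561) .leaf)) (207396, 0, 14, 31516) (.node (.node .leaf (207397, 0, 17, 181178) .leaf) (207402, 0, 17, 210818) (.node .leaf (207403, 0, 19, 251876) .leaf))))) (207406, 0, 15, 200353) (.node (.node (.node (.node (.node .leaf (207407, 0, 15, 115028) .leaf) (207408, 0, 18, 146026) (.node .leaf (207409, 0, 15, 182865) .leaf)) (207412, 0, 14, 191586) (.node (.node .leaf (207413, 0, 14, 46412) .leaf) (207418, 0, 15, 233873) (.node .leaf (207419, 0, 16, 116927) .leaf))) (207422, 0, 13, 126604) (.node (.node (.node .leaf (207423, 0, 17, 104082) .leaf) (207424, 0, 17, 245769) (.node .leaf (207425, 0, 11, 104743) .leaf)) (207428, 0, 15, 6767) (.node (.node .leaf (207429, 0, 18, 64009) .leaf) (207434, 0, 13, 218865) (.node .leaf (207435, 0, 16, 170953) .leaf)))) (207438, 0, 18, 225234) (.node (.node (.node (.node .leaf (207439, 0, 16, 233396) .leaf) (207440, 0, 17, 154393) (.node .leaf (207441, 0, 17, 258001) .leaf)) (207444, 0, 18, 156218) (.node (.node .leaf (207445, 0, 15, 164444) .leaf) (207450, 0, 15,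 177169) (.node .leaf (207451, 0, 16, 118466) .leaf))) (207454, 0, 13, 71559) (.node (.node (.node .leaf (207455, 0, 17, 168482) .leaf) (207458, 0, 15, 161948) (.node .leaf (207459, 0, 15, 170234) .leaf)) (207462, 0, 13, 147903) (.node (.node .leaf (207463, 0, 12, 95042) .leaf) (207464, 0, 15, 153503) .leaf)))))

/-- part of the orbit tree -/
def itp6_167 : Tree := (.node itp6_163 (207085, 0, 15, 225054) itp6_164)

/-- part of the orbit tree -/
def itp6_168 : Tree := (.node itp6_165 (207341, 0, 16, 74506) itp6_166)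

/-- part of the orbit tree -/
def itp6_169 : Tree := (.node itp6_161 (206698, 0, 16, 135365) itp6_162)

/-- part of the orbit tree -/
def itp6_170 : Tree := (.node itp6_167 (207213, 0, 17, 168803) itp6_168)

/-- part of the orbit tree -/
def itp6_171 : Tree := (.node (.node (.node (.node (.node (.node .leaf (207468, 0, 18, 78850) .leaf) (207469, 0, 16, 160172) (.node .leaf (207474, 0, 16, 201) .leaf)) (207475, 0, 11, 57519) (.node (.node .leaf (207478, 0, 14, 14826) .leaf) (207479, 0, 14, 55692) (.node .leaf (207480, 0, 16, 8553) .leaf))) (207481, 0, 16, 161863) (.node (.node (.node .leaf (207484, 0, 16, 216151) .leaf) (207485, 0, 16, 240689) (.node .leaf (207490, 0, 13, 36581) .leaf)) (207491, 0, 17, 104886) (.node (.node .leaf (207494, 0, 16, 47046) .leaf) (207495, 0, 15, 255659) (.node .leaf (207496, 0, 16, 49782) .leaf)))) (207497, 0, 17, 170840) (.node (.node (.node (.node .leaf (207500, 0, 12, 246395) .leaf) (207501, 0, 18, 58437) (.node .leaf (207506, 0, 18, 112238) .leaf)) (207507, 0, 15, 136918) (.node (.node .leaf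 (207510, 0, 16, 184211) .leaf) (207511, 0, 16, 143349) (.node .leaf (207512, 0, 17, 99085) .leaf))) (207513, 0, 13, 90987) (.node (.node (.node .leaf (207516, 0, 9, 52125) .leaf) (207517, 0, 15, 168627) (.node .leaf (207520, 0, 16, 185653) .leaf)) (207521, 0, 16, 144723) (.node (.node .leaf (207524, 0, 17, 207613) .leaf) (207525, 0, 15, 95187) (.node .leaf (207530, 0, 14, 153358) .leaf))))) (207531, 0, 16, 3616) (.node (.node (.node (.node (.node .leaf (207534, 0, 13, 104875) .leaf) (207535, 0, 12, 160061) (.node .leaf (207536, 0, 13, 44384) .leaf)) (207537, 0, 18, 96824) (.node (.node .leaf (207540, 0, 14, 89099) .leaf) (207541, 0, 14, 29733) (.node .leaf (207546, 0, 18, 8696) .leaf))) (207547, 0, 18, 162006) (.node (.node (.node .leaf (207550, 0, 15, 254462) .leaf) (207551, 0, 16, 197016) (.node .leaf (207552, 0, 8, 28768) .leaf)) (207553, 0, 15, 141646) (.node (.node .leaf (207556, 0, 17, 135037) .leaf) (207557, 0, 16, 158979) (.node .leaf (207562, 0, 16, 225934) .leaf)))) (207563, 0, 15, 74141) (.node (.node (.node (.node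 .leaf (207566, 0, 16, 129240) .leaf) (207567, 0, 17, 218301) (.node .leaf (207568, 0, 17, 132758) .leaf)) (207569, 0, 18, 24504) (.node (.node .leaf (207572, 0, 15, 62768) .leaf) (207573, 0, 15, 5462) (.node .leaf (207578, 0, 17, 244142) .leaf))) (207579, 0, 17, 220502) (.node (.node (.node .leaf (207582, 0, 16, 228197) .leaf) (207583, 0, 16, 74315) (.node .leaf (207586, 0, 14, 61334) .leaf)) (207587, 0, 17, 4080) (.node (.node .leaf (207590, 0, 12, 54965) .leaf) (207591, 0, 15, 14035) (.node .leaf (207592, 0, 13, 124918) .leaf))))))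

/-- part of the orbit tree -/
def itp6_172 : Tree := (.node (.node (.node (.node (.node (.node .leaf (207596, 0, 16, 235755) .leaf) (207597, 0, 14, 213870) (.node .leaf (207602, 0, 16, 169923) .leaf)) (207603, 0, 18, 161701) (.node (.node .leaf (207606, 0, 12, 175840) .leaf) (207607, 0, 16, 151174) (.node .leaf (207608, 0, 11, 233728) .leaf))) (207609, 0, 18, 66072) (.node (.node (.node .leaf (207612, 0, 14, 121693) .leaf) (207613, 0, 16, 80699) (.node .leaf (207618, 0, 14, 38674) .leaf)) (207619, 0, 11, 183868) (.node (.node .leaf (207622, 0, 14, 190479) .leaf) (207623, 0, 17, 45345) (.node .leaf (207624, 0, 15, 235004) .leaf)))) (207625, 0, 15, 117970) (.node (.node (.node (.node .leaf (207628, 0, 16, 194309) .leaf) (207629, 0, 16, 137059) (.node .leaf (207634, 0, 18, 188900) .leaf)) (207635, 0, 15, 47306) (.node (.node .leaf (207638, 0, 14, 260845) .leaf) (207639, 0, 17, 203403) (.node .leaf (207640, 0, 17, 46707) .leaf))) (207641, 0, 16, 244260) (.node (.node (.node .leaf (207644, 0, 16, 236567) .leaf) (207645, 0, 16,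 116025) (.node .leaf (207648, 0, 17, 131690) .leaf)) (207649, 0, 17, 196653) (.node (.node .leaf (207652, 0, 14, 32119) .leaf) (207653, 0, 16, 140377) (.node .leaf (207658, 0, 17, 38390) .leaf))))) (207659, 0, 17, 30096) (.node (.node (.node (.node (.node .leaf (207662, 0, 17, 44245) .leaf) (207663, 0, 16, 19635) (.node .leaf (207664, 0, 14, 29852) .leaf)) (207665, 0, 18, 142770) (.node (.node .leaf (207668, 0, 17, 134017) .leaf) (207669, 0, 17, 21167) (.node .leaf (207674, 0, 18, 226930) .leaf))) (207675, 0, 18, 77660) (.node (.node (.node .leaf (207678, 0, 15, 67951) .leaf) (207679, 0, 14, 217153) (.node .leaf (207680, 0, 14, 229688) .leaf)) (207681, 0, 16, 221534) (.node (.node .leaf (207684, 0, 17, 88311) .leaf) (207685, 0, 14, 219261) (.node .leaf (207690, 0, 16, 62597) .leaf)))) (207691, 0, 12, 162858) (.node (.node (.node (.node .leaf (207694, 0, 14, 52646) .leaf) (207695, 0, 17, 823) (.node .leaf (207696, 0, 19, 86300) .leaf)) (207697, 0, 18, 198706) (.node (.node .leaf (207700, 0, 13, 208385) .leaf) (207701, 0, 13,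 96047) (.node .leaf (207706, 0, 16, 167120) .leaf))) (207707, 0, 17, 158902) (.node (.node (.node .leaf (207710, 0, 16, 11503) .leaf) (207711, 0, 15, 161217) (.node .leaf (207714, 0, 17, 121576) .leaf)) (207715, 0, 18, 256956) (.node (.node .leaf (207718, 0, 13, 249231) .leaf) (207719, 0, 17, 66477) (.node .leaf (207720, 0, 14, 176252) .leaf))))))

/-- part of the orbit tree -/
def itp6_173 : Tree := (.node (.node (.node (.node (.node (.node .leaf (207724, 0, 16, 169590) .leaf) (207725, 0, 16, 169551) (.node .leaf (207730, 0, 14, 246884) .leaf)) (207731, 0, 17, 105802) (.node (.node .leaf (207734, 0, 14, 236446) .leaf) (207735, 0, 14, 254551) (.node .leaf (207736, 0, 16, 55040) .leaf))) (207737, 0, 15, 14182) (.node (.node (.node .leaf (207740, 0, 17, 178583) .leaf) (207741, 0, 16, 3653) (.node .leaf (207746, 0, 17, 208017) .leaf)) (207747, 0, 14, 97877) (.node (.node .leaf (207750, 0, 16, 202162) .leaf) (207751, 0, 18, 259540) (.node .leaf (207752, 0, 11, 9621) .leaf)))) (207753, 0, 19, 163003) (.node (.node (.node (.node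 .leaf (207756, 0, 18, 154248) .leaf) (207757, 0, 16, 934) (.node .leaf (207762, 0, 15, 86413) .leaf)) (207763, 0, 15, 111778) (.node (.node .leaf (207766, 0, 18, 208528) .leaf) (207767, 0, 17, 96190) (.node .leaf (207768, 0, 17, 152419) .leaf))) (207769, 0, 10, 180511) (.node (.node (.node .leaf (207772, 0, 16, 137306) .leaf) (207773, 0, 15, 161104) (.node .leaf (207776, 0, 13, 111107) .leaf)) (207777, 0, 11, 256813) (.node (.node .leaf (207780, 0, 16, 85602) .leaf) (207781, 0, 17, 110084) (.node .leaf (207786, 0, 13, 176365) .leaf))))) (207787, 0, 16, 59843) (.node (.node (.node (.node (.node .leaf (207790, 0, 15, 53232) .leaf) (207791, 0, 14, 169694) (.node .leaf (207792, 0, 17, 200468) .leaf)) (207793, 0, 18, 105947) (.node (.node .leaf (207796, 0, 16, 113640) .leaf) (207797, 0, 18, 254662) (.node .leaf (207802, 0, 17, 31401) .leaf))) (207803, 0, 17, 39631) (.node (.node (.node .leaf (207806, 0, 18, 17290) .leaf) (207807, 0, 16, 57384) (.node .leaf (207808, 0, 19, 38787) .leaf)) (207809, 0, 16, 183981) (.node (.node .leaf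 (207812, 0, 17, 190622) .leaf) (207813, 0, 15, 45488) (.node .leaf (207818, 0, 14, 156559) .leaf)))) (207819, 0, 16, 164841) (.node (.node (.node (.node .leaf (207822, 0, 15, 154284) .leaf) (207823, 0, 16, 178890) (.node .leaf (207824, 0, 16, 188789) .leaf)) (207825, 0, 16, 47195) (.node (.node .leaf (207828, 0, 17, 40552) .leaf) (207829, 0, 16, 182086) (.node .leaf (207834, 0, 17, 7130) .leaf))) (207835, 0, 17, 244405) (.node (.node (.node .leaf (207838, 0, 16, 236678) .leaf) (207839, 0, 13, 49823) (.node .leaf (207842, 0, 17, 216546) .leaf)) (207843, 0, 17, 23509) (.node (.node .leaf (207846, 0, 14, 226497) .leaf) (207847, 0, 16, 140488) (.node .leaf (207848, 0, 15, 65557) .leaf))))))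

/-- part of the orbit tree -/
def itp6_174 : Tree := (.node (.node (.node (.node (.node (.node .leaf (207852, 0, 14, 229128) .leaf) (207853, 0, 13, 57626) (.node .leaf (207858, 0, 16, 29709) .leaf)) (207859, 0, 14, 142627) (.node (.node .leaf (207862, 0, 16, 68756) .leaf) (207863, 0, 16, 21054) (.node .leaf (207864, 0, 18, 227043) .leaf))) (207865, 0, 17, 77773) (.node (.node (.node .leaf (207868, 0, 16, 68094) .leaf) (207869, 0, 16, 170319) (.node .leaf (207873, 0, 15, 182645) .leaf)) (207875, 0, 18, 249681) (.node (.node .leaf (207877, 0, 17, 173655) .leaf) (207879, 0, 15, 259698) (.node .leaf (207880, 0, 12, 23178) .leaf)))) (207882, 0, 16, 234165) (.node (.node (.node (.node .leaf (207884, 0, 17, 132570) .leaf) (207886, 0, 16, 126376) (.node .leaf (207889, 0, 14, 49027) .leaf)) (207891, 0, 16, 112388) (.node (.node .leaf (207893, 0, 17, 180382) .leaf) (207895, 0, 17, 101927) (.node .leaf (207896, 0, 16, 139999) .leaf))) (207898, 0, 17, 226042) (.node (.node (.node .leaf (207900, 0, 14, 138236) .leaf) (207902, 0, 16, 216025)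 (.node .leaf (207904, 0, 16, 126289) .leaf)) (207906, 0, 16, 9410) (.node (.node .leaf (207908, 0, 18, 234060) .leaf) (207910, 0, 15, 7649) (.node .leaf (207913, 0, 16, 220899) .leaf))))) (207915, 0, 16, 188732) (.node (.node (.node (.node (.node .leaf (207917, 0, 15, 74238) .leaf) (207919, 0, 13, 182668) (.node .leaf (207920, 0, 17, 199858) .leaf)) (207922, 0, 13, 29653) (.node (.node .leaf (207924, 0, 17, 124090) .leaf) (207926, 0, 11, 134344) (.node .leaf (207929, 0, 17, 75797) .leaf))) (207931, 0, 16, 180327) (.node (.node (.node .leaf (207933, 0, 17, 127087) .leaf) (207935, 0, 12, 49018) (.node .leaf (207936, 0, 17, 71060) .leaf)) (207938, 0, 18, 204963) (.node (.node .leaf (207940, 0, 16, 76983) .leaf) (207942, 0, 17, 31890) (.node .leaf (207945, 0, 12, 249962) .leaf)))) (207947, 0, 14, 163919) (.node (.node (.node (.node .leaf (207949, 0, 16, 1150) .leaf) (207951, 0, 17, 178540) (.node .leaf (207952, 0, 16, 224705) .leaf)) (207954, 0, 14, 146916) (.node (.node .leaf (207956, 0, 15, 218338) .leaf) (207958, 0, 17, 132295)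 (.node .leaf (207961, 0, 18, 3477) .leaf))) (207963, 0, 15, 63514) (.node (.node (.node .leaf (207965, 0, 17, 160392) .leaf) (207967, 0, 10, 105210) (.node .leaf (207969, 0, 17, 257269) .leaf)) (207971, 0, 17, 241186) (.node (.node .leaf (207973, 0, 15, 103400) .leaf) (207975, 0, 17, 162714) (.node .leaf (207976, 0, 14, 15353) .leaf))))))

/-- part of the orbit tree -/
def itp6_175 : Tree := (.node itp6_171 (207593, 0, 16, 227917) itp6_172)

/-- part of the orbit tree -/
def itp6_176 : Tree := (.node itp6_173 (207849, 0, 13, 219451) itp6_174)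

/-- part of the orbit tree -/
def itp6_177 : Tree := (.node (.node (.node (.node (.node (.node .leaf (207980, 0, 14, 730) .leaf) (207982, 0, 14, 86783) (.node .leaf (207985, 0, 18, 34386) .leaf)) (207987, 0, 16, 160369) (.node (.node .leaf (207989, 0, 16, 49009) .leaf) (207991, 0, 15, 126804) (.node .leaf (207992, 0, 17, 148396) .leaf))) (207994, 0, 14, 49603) (.node (.node (.node .leaf (207996, 0, 17, 87724) .leaf) (207998, 0, 15, 207530) (.node .leaf (208001, 0, 16, 96540) .leaf)) (208003, 0, 16, 168302) (.node (.node .leaf (208005, 0, 14, 12637) .leaf) (208007, 0, 16, 90488) (.node .leaf (208008, 0, 13, 248494) .leaf)))) (208010, 0, 16, 236965) (.node (.node (.node (.node .leaf (208012, 0, 15, 112051) .leaf) (208014, 0, 15, 155073) (.node .leaf (208017, 0, 16, 200682) .leaf)) (208019, 0, 16, 59288) (.node (.node .leaf (208021, 0, 13, 94455) .leaf) (208023, 0, 17, 203053) (.node .leaf (208024, 0, 18, 113752) .leaf))) (208026, 0, 17, 124400) (.node (.node (.node .leaf (208028, 0, 16, 36086) .leaf) (208030, 0, 15, 11063) (.node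 .leaf (208032, 0, 16, 254957) .leaf)) (208034, 0, 18, 177096) (.node (.node .leaf (208036, 0, 15, 8741) .leaf) (208038, 0, 15, 166635) (.node .leaf (208041, 0, 16, 61066) .leaf))))) (208043, 0, 17, 198392) (.node (.node (.node (.node (.node .leaf (208045, 0, 16, 168343) .leaf) (208047, 0, 19, 96741) (.node .leaf (208048, 0, 18, 11214) .leaf)) (208050, 0, 9, 52125) (.node (.node .leaf (208052, 0, 14, 107163) .leaf) (208054, 0, 13, 113825) (.node .leaf (208057, 0, 15, 220742) .leaf))) (208059, 0, 17, 134755) (.node (.node (.node .leaf (208061, 0, 16, 59233) .leaf) (208063, 0, 16, 145216) (.node .leaf (208064, 0, 14, 230046) .leaf)) (208066, 0, 16, 37066) (.node (.node .leaf (208068, 0, 15, 67493) .leaf) (208070, 0, 13, 192471) (.node .leaf (208073, 0, 17, 83808) .leaf)))) (208075, 0, 16, 5957) (.node (.node (.node (.node .leaf (208077, 0, 17, 97859) .leaf) (208079, 0, 17, 11878) (.node .leaf (208080, 0, 16, 69198) .leaf)) (208082, 0, 18, 190012) (.node (.node .leaf (208084, 0, 14, 225619) .leaf) (208086, 0, 17, 37837) (.node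 .leaf (208089, 0, 17, 212789) .leaf))) (208091, 0, 10, 159504) (.node (.node (.node .leaf (208093, 0, 15, 115425) .leaf) (208095, 0, 16, 153139) (.node .leaf (208097, 0, 16, 23708) .leaf)) (208099, 0, 14, 242926) (.node (.node .leaf (208101, 0, 16, 20526) .leaf) (208103, 0, 16, 65547) (.node .leaf (208104, 0, 17, 175347) .leaf))))))

/-- part of the orbit tree -/
def itp6_178 : Tree := (.node (.node (.node (.node (.node (.node .leaf (208108, 0, 17, 169424) .leaf) (208110, 0, 14, 247285) (.node .leaf (208113, 0, 16, 135512) .leaf)) (208115, 0, 12, 115224) (.node (.node .leaf (208117, 0, 13, 141435) .leaf) (208119, 0, 14, 244997) (.node .leaf (208120, 0, 18, 54438) .leaf))) (208122, 0, 16, 99459) (.node (.node (.node .leaf (208124, 0, 16, 60805) .leaf) (208126, 0, 16, 114080) (.node .leaf (208129, 0, 16, 142998) .leaf)) (208131, 0, 15, 27941) (.node (.node .leaf (208133, 0, 13, 66595) .leaf) (208135, 0, 17, 21510) (.node .leaf (208136, 0, 16, 40228) .leaf)))) (208138, 0, 17, 174299) (.node (.node (.node (.node .leaf (208140,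 0, 17, 188985) .leaf) (208142, 0, 13, 168440) (.node .leaf (208145, 0, 16, 214357) .leaf)) (208147, 0, 16, 136560) (.node (.node .leaf (208149, 0, 13, 141181) .leaf) (208151, 0, 14, 142419) (.node .leaf (208152, 0, 17, 191442) .leaf))) (208154, 0, 14, 66464) (.node (.node (.node .leaf (208156, 0, 19, 38095) .leaf) (208158, 0, 16, 228541) (.node .leaf (208160, 0, 19, 186003) .leaf)) (208162, 0, 17, 189120) (.node (.node .leaf (208164, 0, 17, 226735) .leaf) (208166, 0, 18, 245653) (.node .leaf (208169, 0, 15, 243968) .leaf))))) (208171, 0, 15, 82760) (.node (.node (.node (.node (.node .leaf (208173, 0, 18, 10830) .leaf) (208175, 0, 16, 96875) (.node .leaf (208176, 0, 18, 228420) .leaf)) (208178, 0, 14, 37942) (.node (.node .leaf (208180, 0, 16, 66393) .leaf) (208182, 0, 11, 191275) (.node .leaf (208185, 0, 18, 158520) .leaf))) (208187, 0, 16, 211741) (.node (.node (.node .leaf (208189, 0, 17, 241899) .leaf) (208191, 0, 15, 22681) (.node .leaf (208192, 0, 16, 12082) .leaf)) (208194, 0, 12, 255941) (.node (.node .leaf (208196,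 0, 15, 151599) .leaf) (208198, 0, 16, 253670) (.node .leaf (208201, 0, 14, 171136) .leaf)))) (208203, 0, 18, 74299) (.node (.node (.node (.node .leaf (208205, 0, 17, 58269) .leaf) (208207, 0, 17, 199663) (.node .leaf (208208, 0, 13, 154052) .leaf)) (208210, 0, 18, 106384) (.node (.node .leaf (208212, 0, 16, 9945) .leaf) (208214, 0, 15, 249515) (.node .leaf (208217, 0, 16, 133707) .leaf))) (208219, 0, 16, 197124) (.node (.node (.node .leaf (208221, 0, 14, 144232) .leaf) (208223, 0, 16, 97561) (.node .leaf (208225, 0, 15, 89203) .leaf)) (208227, 0, 18, 58212) (.node (.node .leaf (208229, 0, 18, 95243) .leaf) (208231, 0, 14, 13685) (.node .leaf (208232, 0, 18, 112804) .leaf))))))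

/-- part of the orbit tree -/
def itp6_179 : Tree := (.node (.node (.node (.node (.node (.node .leaf (208236, 0, 16, 247737) .leaf) (208238, 0, 17, 12235) (.node .leaf (208241, 0, 18, 97760) .leaf)) (208243, 0, 17, 169362) (.node (.node .leaf (208245, 0, 18, 197373) .leaf) (208247, 0, 18, 60047) (.node .leaf (208248, 0, 17, 249426) .leaf))) (208250, 0, 17, 9760) (.node (.node (.node .leaf (208252, 0, 12, 121083) .leaf) (208254, 0, 10, 153917) (.node .leaf (208257, 0, 18, 106239) .leaf)) (208259, 0, 16, 161421) (.node (.node .leaf (208261, 0, 17, 234281) .leaf) (208263, 0, 17, 2448) (.node .leaf (208264, 0, 17, 94196) .leaf)))) (208266, 0, 17, 50495) (.node (.node (.node (.node .leaf (208268, 0, 17, 87767) .leaf) (208270, 0, 18, 1778) (.node .leaf (208273, 0, 12, 256009) .leaf)) (208275, 0, 15, 123) (.node (.node .leaf (208277, 0, 17, 104212) .leaf) (208279, 0, 11, 163686) (.node .leaf (208280, 0, 16, 202657) .leaf))) (208282, 0, 15, 149380) (.node (.node (.node .leaf (208284, 0, 17, 208514) .leaf) (208286, 0, 16, 163495) (.node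 .leaf (208288, 0, 16, 178907) .leaf)) (208290, 0, 17, 70076) (.node (.node .leaf (208292, 0, 18, 30906) .leaf) (208294, 0, 12, 75935) (.node .leaf (208297, 0, 13, 164967) .leaf))))) (208299, 0, 9, 254235) (.node (.node (.node (.node (.node .leaf (208301, 0, 15, 161396) .leaf) (208303, 0, 16, 257377) (.node .leaf (208304, 0, 15, 145868) .leaf)) (208306, 0, 11, 205919) (.node (.node .leaf (208308, 0, 15, 176944) .leaf) (208310, 0, 16, 88898) (.node .leaf (208313, 0, 16, 163743) .leaf))) (208315, 0, 18, 104429) (.node (.node (.node .leaf (208317, 0, 14, 130) .leaf) (208319, 0, 18, 103732) (.node .leaf (208320, 0, 17, 237403) .leaf)) (208322, 0, 13, 94415) (.node (.node .leaf (208324, 0, 11, 122950) .leaf) (208326, 0, 17, 133172) (.node .leaf (208329, 0, 16, 189716) .leaf)))) (208331, 0, 13, 242993) (.node (.node (.node (.node .leaf (208333, 0, 17, 218100) .leaf) (208335, 0, 18, 232466) (.node .leaf (208336, 0, 17, 153791) .leaf)) (208338, 0, 17, 131551) (.node (.node .leaf (208340, 0, 14, 156060) .leaf) (208342, 0, 15, 209337)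 (.node .leaf (208345, 0, 14, 40257) .leaf))) (208347, 0, 15, 118116) (.node (.node (.node .leaf (208349, 0, 14, 75010) .leaf) (208351, 0, 15, 128071) (.node .leaf (208353, 0, 13, 47999) .leaf)) (208355, 0, 15, 217869) (.node (.node .leaf (208357, 0, 14, 181346) .leaf) (208359, 0, 15, 76816) (.node .leaf (208360, 0, 16, 69255) .leaf))))))

/-- part of the orbit tree -/
def itp6_180 : Tree := (.node (.node (.node (.node (.node (.node .leaf (208364, 0, 15, 79780) .leaf) (208366, 0, 12, 237474) (.node .leaf (208369, 0, 16, 111404) .leaf)) (208371, 0, 18, 75259) (.node (.node .leaf (208373, 0, 16, 100879) .leaf) (208375, 0, 14, 219878) (.node .leaf (208376, 0, 17, 227026) .leaf))) (208378, 0, 15, 141047) (.node (.node (.node .leaf (208380, 0, 18, 131366) .leaf) (208382, 0, 17, 125268) (.node .leaf (208384, 0, 16, 38263) .leaf)) (208385, 0, 12, 176900) (.node (.node .leaf (208386, 0, 14, 197447) .leaf) (208387, 0, 11, 254753) (.node .leaf (208388, 0, 18, 191082) .leaf)))) (208389, 0, 15, 45892) (.node (.node (.node (.node .leaf (208390,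 0, 18, 66072) .leaf) (208391, 0, 16, 219958) (.node .leaf (208400, 0, 15, 11063) .leaf)) (208401, 0, 17, 52049) (.node (.node .leaf (208402, 0, 14, 97042) .leaf) (208403, 0, 15, 105332) (.node .leaf (208404, 0, 17, 4628) .leaf))) (208405, 0, 15, 181682) (.node (.node (.node .leaf (208406, 0, 18, 226542) .leaf) (208407, 0, 14, 77248) (.node .leaf (208424, 0, 16, 228623) .leaf)) (208425, 0, 17, 236905) (.node (.node .leaf (208426, 0, 18, 191123) .leaf) (208427, 0, 16, 46013) (.node .leaf (208428, 0, 16, 214060) .leaf))))) (208429, 0, 17, 238666) (.node (.node (.node (.node (.node .leaf (208430, 0, 15, 136201) .leaf) (208431, 0, 10, 193647) (.node .leaf (208440, 0, 17, 66906) .leaf)) (208441, 0, 17, 77113) (.node (.node .leaf (208442, 0, 18, 40037) .leaf) (208443, 0, 15, 181579) (.node .leaf (208444, 0, 18, 81017) .leaf))) (208445, 0, 16, 121887) (.node (.node (.node .leaf (208446, 0, 17, 27740) .leaf) (208447, 0, 15, 35898) (.node .leaf (208456, 0, 14, 203900) .leaf)) (208457, 0, 17, 163407) (.node (.node .leaf (208458, 0, 18,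 150617) .leaf) (208459, 0, 13, 175167) (.node .leaf (208460, 0, 18, 153724) .leaf)))) (208461, 0, 12, 247097) (.node (.node (.node (.node .leaf (208462, 0, 17, 110606) .leaf) (208463, 0, 17, 256288) (.node .leaf (208472, 0, 18, 151959) .leaf)) (208473, 0, 18, 2233) (.node (.node .leaf (208474, 0, 15, 113125) .leaf) (208475, 0, 15, 54378) (.node .leaf (208476, 0, 18, 89354) .leaf))) (208477, 0, 17, 161700) (.node (.node (.node .leaf (208478, 0, 15, 3375) .leaf) (208479, 0, 15, 106454) (.node .leaf (208480, 0, 18, 143889) .leaf)) (208481, 0, 17, 184951) (.node (.node .leaf (208482, 0, 16, 221748) .leaf) (208483, 0, 18, 229970) .leaf)))))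

/-- part of the orbit tree -/
def itp6_181 : Tree := (.node itp6_177 (208106, 0, 14, 67420) itp6_178)

/-- part of the orbit tree -/
def itp6_182 : Tree := (.node itp6_179 (208362, 0, 18, 123071) itp6_180)

/-- part of the orbit tree -/
def itp6_183 : Tree := (.node itp6_175 (207721, 0, 17, 151347) itp6_176)

/-- part of the orbit tree -/
def itp6_184 : Tree := (.node itp6_181 (208234, 0, 16, 151766) itp6_182)

/-- part of the orbit tree -/
def itp6_185 : Tree := (.node itp6_169 (206957, 0, 14, 160896) itp6_170)

/-- part of the orbit tree -/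
def itp6_186 : Tree := (.node itp6_183 (207978, 0, 18, 93148) itp6_184)

/-- part of the orbit tree -/
def itp6_187 : Tree := (.node itp6_155 (205421, 0, 16, 240248) itp6_156)

/-- part of the orbit tree -/
def itp6_188 : Tree := (.node itp6_185 (207465, 0, 17, 126279) itp6_186)

/-- part of the orbit tree -/
def itp6_189 : Tree := (.node (.node (.node (.node (.node (.node .leaf (208485, 0, 14, 104132) .leaf) (208486, 0, 14, 10136) (.node .leaf (208487, 0, 19, 244593) .leaf)) (208496, 0, 15, 247297) (.node (.node .leaf (208497, 0, 15, 106287) .leaf) (208498, 0, 15, 11891) (.node .leaf (208499, 0, 16, 129543) .leaf))) (208500, 0, 13, 112924) (.node (.node (.node .leaf (208501, 0, 16, 37633) .leaf) (208502, 0, 16, 151918) (.node .leaf (208503, 0, 16, 115492) .leaf)) (208512, 0, 16, 206110) (.node (.node .leaf (208513, 0, 16, 9230) .leaf) (208514, 0, 16, 52588) (.node .leaf (208515, 0, 15, 169026) .leaf)))) (208516, 0, 16, 88579) (.node (.node (.node (.node .leaf (208517, 0, 15, 197421) .leaf) (208518, 0, 17, 176753) (.node .leaf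 (208519, 0, 18, 60255) .leaf)) (208528, 0, 17, 179261) (.node (.node .leaf (208529, 0, 18, 199366) .leaf) (208530, 0, 16, 257048) (.node .leaf (208531, 0, 16, 58036) .leaf))) (208532, 0, 14, 208117) (.node (.node (.node .leaf (208533, 0, 16, 157048) .leaf) (208534, 0, 15, 251195) (.node .leaf (208535, 0, 17, 210269) .leaf)) (208552, 0, 14, 176776) (.node (.node .leaf (208553, 0, 17, 60326) .leaf) (208554, 0, 15, 47648) (.node .leaf (208555, 0, 18, 197588) .leaf))))) (208556, 0, 13, 52629) (.node (.node (.node (.node (.node .leaf (208557, 0, 15, 78656) .leaf) (208558, 0, 18, 206311) (.node .leaf (208559, 0, 15, 97481) .leaf)) (208568, 0, 17, 234064) (.node (.node .leaf (208569, 0, 16, 225846) .leaf) (208570, 0, 17, 180853) (.node .leaf (208571, 0, 14, 95522) .leaf))) (208572, 0, 13, 240499) (.node (.node (.node .leaf (208573, 0, 16, 57933) .leaf) (208574, 0, 14, 86801) (.node .leaf (208575, 0, 16, 199231) .leaf)) (208584, 0, 17, 101238) (.node (.node .leaf (208585, 0, 18, 92944) .leaf) (208586, 0, 18, 32634) (.node .leaf (208587,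 0, 15, 140884) .leaf)))) (208588, 0, 16, 124949) (.node (.node (.node (.node .leaf (208589, 0, 15, 241979) .leaf) (208590, 0, 15, 131175) (.node .leaf (208591, 0, 18, 534) .leaf)) (208600, 0, 14, 123390) (.node (.node .leaf (208601, 0, 16, 201541) .leaf) (208602, 0, 14, 172806) (.node .leaf (208603, 0, 16, 148320) .leaf))) (208604, 0, 16, 237283) (.node (.node (.node .leaf (208605, 0, 14, 207462) .leaf) (208606, 0, 15, 170533) (.node .leaf (208607, 0, 12, 162371) .leaf)) (208608, 0, 16, 42267) (.node (.node .leaf (208609, 0, 17, 22960) .leaf) (208610, 0, 15, 125164) (.node .leaf (208611, 0, 15, 71000) .leaf))))))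

/-- part of the orbit tree -/
def itp6_190 : Tree := (.node (.node (.node (.node (.node (.node .leaf (208613, 0, 16, 31838) .leaf) (208614, 0, 16, 117789) (.node .leaf (208615, 0, 14, 118495) .leaf)) (208624, 0, 16, 30312) (.node (.node .leaf (208625, 0, 18, 143174) .leaf) (208626, 0, 18, 237082) (.node .leaf (208627, 0, 18, 116532) .leaf))) (208628, 0, 18, 133493) (.node (.node (.node .leaf (208629, 0, 16, 20571) .leaf) (208630, 0, 15, 242760) (.node .leaf (208631, 0, 13, 218158) .leaf)) (208640, 0, 18, 127254) (.node (.node .leaf (208641, 0, 17, 70000) .leaf) (208642, 0, 17, 236262) (.node .leaf (208643, 0, 11, 115656) .leaf)))) (208644, 0, 16, 116789) (.node (.node (.node (.node .leaf (208645, 0, 14, 21671) .leaf) (208646, 0, 17, 38928) (.node .leaf (208647, 0, 18, 30838) .leaf)) (208656, 0, 16, 132194) (.node (.node .leaf (208657, 0, 15, 23884) .leaf) (208658, 0, 17, 186726) (.node .leaf (208659, 0, 17, 145664) .leaf))) (208660, 0, 18, 241760) (.node (.node (.node .leaf (208661, 0, 18, 217094) .leaf) (208662, 0, 12, 234253)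 (.node .leaf (208663, 0, 17, 117283) .leaf)) (208680, 0, 18, 124162) (.node (.node .leaf (208681, 0, 14, 244780) .leaf) (208682, 0, 18, 102238) (.node .leaf (208683, 0, 18, 21598) .leaf))))) (208684, 0, 7, 236063) (.node (.node (.node (.node (.node .leaf (208685, 0, 17, 1598) .leaf) (208686, 0, 17, 112253) (.node .leaf (208687, 0, 9, 87579) .leaf)) (208696, 0, 17, 173870) (.node (.node .leaf (208697, 0, 15, 117466) .leaf) (208698, 0, 13, 259851) (.node .leaf (208699, 0, 16, 202605) .leaf))) (208700, 0, 15, 126185) (.node (.node (.node .leaf (208701, 0, 18, 163435) .leaf) (208702, 0, 18, 132251) (.node .leaf (208703, 0, 16, 23989) .leaf)) (208712, 0, 16, 49282) (.node (.node .leaf (208713, 0, 16, 170412) .leaf) (208714, 0, 18, 207088) (.node .leaf (208715, 0, 16, 69195) .leaf)))) (208716, 0, 17, 180127) (.node (.node (.node (.node .leaf (208717, 0, 17, 26445) .leaf) (208718, 0, 17, 88045) (.node .leaf (208719, 0, 17, 79720) .leaf)) (208728, 0, 17, 181853) (.node (.node .leaf (208729, 0, 16, 61274) .leaf) (208730, 0, 14, 89606)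 (.node .leaf (208731, 0, 16, 198440) .leaf))) (208732, 0, 17, 196478) (.node (.node (.node .leaf (208733, 0, 14, 139032) .leaf) (208734, 0, 18, 241499) (.node .leaf (208735, 0, 16, 216893) .leaf)) (208736, 0, 15, 102501) (.node (.node .leaf (208737, 0, 16, 94211) .leaf) (208738, 0, 18, 180070) (.node .leaf (208739, 0, 15, 8230) .leaf))))))

/-- part of the orbit tree -/
def itp6_191 : Tree := (.node (.node (.node (.node (.node (.node .leaf (208741, 0, 11, 84256) .leaf) (208742, 0, 13, 49275) (.node .leaf (208743, 0, 16, 6405) .leaf)) (208752, 0, 16, 256048) (.node (.node .leaf (208753, 0, 16, 96460) .leaf) (208754, 0, 17, 178197) (.node .leaf (208755, 0, 16, 168126) .leaf))) (208756, 0, 15, 250131) (.node (.node (.node .leaf (208757, 0, 11, 209269) .leaf) (208758, 0, 15, 164150) (.node .leaf (208759, 0, 15, 155984) .leaf)) (208768, 0, 15, 246525) (.node (.node .leaf (208769, 0, 16, 105427) .leaf) (208770, 0, 19, 10895) (.node .leaf (208771, 0, 18, 160673) .leaf)))) (208772, 0, 16, 220991) (.node (.node (.node (.node .leaf (208773,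 0, 12, 245593) .leaf) (208774, 0, 16, 152978) (.node .leaf (208775, 0, 15, 3260) .leaf)) (208784, 0, 15, 73289) (.node (.node .leaf (208785, 0, 17, 130607) .leaf) (208786, 0, 16, 154745) (.node .leaf (208787, 0, 17, 1367) .leaf))) (208788, 0, 13, 75626) (.node (.node (.node .leaf (208789, 0, 14, 116492) .leaf) (208790, 0, 10, 30543) (.node .leaf (208791, 0, 16, 162378) .leaf)) (208808, 0, 11, 152939) (.node (.node .leaf (208809, 0, 19, 3141) .leaf) (208810, 0, 16, 202836) (.node .leaf (208811, 0, 16, 260146) .leaf))))) (208812, 0, 15, 160082) (.node (.node (.node (.node (.node .leaf (208813, 0, 19, 168244) .leaf) (208814, 0, 16, 205175) (.node .leaf (208815, 0, 19, 105258) .leaf)) (208824, 0, 17, 12324) (.node (.node .leaf (208825, 0, 16, 53314) .leaf) (208826, 0, 18, 90113) (.node .leaf (208827, 0, 15, 98407) .leaf))) (208828, 0, 14, 154752) (.node (.node (.node .leaf (208829, 0, 16, 59745) .leaf) (208830, 0, 16, 111858) (.node .leaf (208831, 0, 14, 257500) .leaf)) (208840, 0, 13, 225515) (.node (.node .leaf (208841, 0, 18,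 182628) .leaf) (208842, 0, 15, 227623) (.node .leaf (208843, 0, 15, 180663) .leaf)))) (208844, 0, 16, 69622) (.node (.node (.node (.node .leaf (208845, 0, 14, 192583) .leaf) (208846, 0, 17, 190340) (.node .leaf (208847, 0, 10, 48810) .leaf)) (208856, 0, 16, 20823) (.node (.node .leaf (208857, 0, 17, 220979) .leaf) (208858, 0, 14, 65906) (.node .leaf (208859, 0, 14, 46913) .leaf))) (208860, 0, 17, 26740) (.node (.node (.node .leaf (208861, 0, 15, 34834) .leaf) (208862, 0, 17, 79953) (.node .leaf (208863, 0, 14, 182364) .leaf)) (208864, 0, 18, 190333) (.node (.node .leaf (208865, 0, 11, 255753) .leaf) (208866, 0, 18, 69391) (.node .leaf (208867, 0, 17, 177964) .leaf))))))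

/-- part of the orbit tree -/
def itp6_192 : Tree := (.node (.node (.node (.node (.node (.node .leaf (208869, 0, 17, 180558) .leaf) (208870, 0, 15, 225298) (.node .leaf (208871, 0, 16, 76092) .leaf)) (208880, 0, 16, 37259) (.node (.node .leaf (208881, 0, 16, 182437) .leaf) (208882, 0, 16, 12063) (.node .leaf (208883, 0, 16, 73943) .leaf))) (208884, 0, 16, 83481) (.node (.node (.node .leaf (208885, 0, 16, 108159) .leaf) (208886, 0, 19, 67300) (.node .leaf (208887, 0, 14, 221130) .leaf)) (208896, 0, 17, 133861) (.node (.node .leaf (208899, 0, 15, 244665) .leaf) (208901, 0, 16, 142550) (.node .leaf (208902, 0, 18, 236938) .leaf)))) (208904, 0, 14, 188537) (.node (.node (.node (.node .leaf (208907, 0, 18, 236399) .leaf) (208909, 0, 16, 193129) (.node .leaf (208910, 0, 16, 213546) .leaf)) (208912, 0, 14, 31763) (.node (.node .leaf (208915, 0, 13, 247458) .leaf) (208917, 0, 15, 176036) (.node .leaf (208918, 0, 18, 204775) .leaf))) (208920, 0, 18, 38543) (.node (.node (.node .leaf (208923, 0, 17, 123706) .leaf) (208925, 0, 9, 35388)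 (.node .leaf (208926, 0, 15, 66016) .leaf)) (208929, 0, 15, 77505) (.node (.node .leaf (208930, 0, 18, 152932) .leaf) (208932, 0, 16, 67826) (.node .leaf (208935, 0, 18, 47534) .leaf))))) (208937, 0, 13, 114879) (.node (.node (.node (.node (.node .leaf (208938, 0, 17, 29953) .leaf) (208940, 0, 15, 123502) (.node .leaf (208943, 0, 15, 43449) .leaf)) (208945, 0, 17, 105842) (.node (.node .leaf (208946, 0, 16, 11569) .leaf) (208948, 0, 18, 228868) (.node .leaf (208951, 0, 17, 184152) .leaf))) (208953, 0, 15, 242347) (.node (.node (.node .leaf (208954, 0, 14, 133289) .leaf) (208956, 0, 16, 221615) (.node .leaf (208959, 0, 16, 140740) .leaf)) (208961, 0, 15, 230484) (.node (.node .leaf (208962, 0, 18, 144407) .leaf) (208964, 0, 17, 220433) (.node .leaf (208967, 0, 15, 191826) .leaf)))) (208969, 0, 17, 106956) (.node (.node (.node (.node .leaf (208970, 0, 15, 86145) .leaf) (208972, 0, 14, 96393) (.node .leaf (208975, 0, 16, 51402) .leaf)) (208977, 0, 17, 130049) (.node (.node .leaf (208978, 0, 14, 249067) .leaf) (208980, 0, 15, 75076)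 (.node .leaf (208983, 0, 16, 256728) .leaf))) (208985, 0, 15, 252313) (.node (.node (.node .leaf (208986, 0, 16, 206455) .leaf) (208988, 0, 14, 196828) (.node .leaf (208991, 0, 18, 196676) .leaf)) (208992, 0, 12, 208741) (.node (.node .leaf (208995, 0, 18, 122756) .leaf) (208997, 0, 15, 198998) (.node .leaf (208998, 0, 14, 67265) .leaf))))))

/-- part of the orbit tree -/
def itp6_193 : Tree := (.node itp6_189 (208612, 0, 17, 39992) itp6_190)

/-- part of the orbit tree -/
def itp6_194 : Tree := (.node itp6_191 (208868, 0, 18, 39008) itp6_192)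

/-- part of the orbit tree -/
def itp6_195 : Tree := (.node (.node (.node (.node (.node (.node .leaf (209003, 0, 14, 260636) .leaf) (209005, 0, 13, 254922) (.node .leaf (209006, 0, 16, 205657) .leaf)) (209008, 0, 16, 137106) (.node (.node .leaf (209011, 0, 17, 239569) .leaf) (209013, 0, 16, 184023) (.node .leaf (209014, 0, 16, 52988) .leaf))) (209016, 0, 19, 111375) (.node (.node (.node .leaf (209019, 0, 15, 98889) .leaf) (209021, 0, 16, 60239) (.node .leaf (209022, 0, 15, 9312) .leaf)) (209024, 0, 14, 170430) (.node (.node .leaf (209027, 0, 16, 3024) .leaf) (209029, 0, 16, 147707) (.node .leaf (209030, 0, 18, 11747) .leaf)))) (209032, 0, 18, 48166) (.node (.node (.node (.node .leaf (209035, 0, 17, 57676) .leaf) (209037, 0, 15, 95779) (.node .leaf (209038, 0, 16, 51071) .leaf)) (209040, 0, 16, 248954) (.node (.node .leaf (209043, 0, 17, 86440) .leaf) (209045, 0, 16, 14510) (.node .leaf (209046, 0, 16, 100589) .leaf))) (209048, 0, 16, 206566) (.node (.node (.node .leaf (209051, 0, 17, 169914) .leaf) (209053, 0, 16, 138550)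 (.node .leaf (209054, 0, 15, 241013) .leaf)) (209057, 0, 16, 94765) (.node (.node .leaf (209058, 0, 16, 49774) .leaf) (209060, 0, 11, 109416) (.node .leaf (209063, 0, 18, 199111) .leaf))))) (209065, 0, 14, 160820) (.node (.node (.node (.node (.node .leaf (209066, 0, 16, 190454) .leaf) (209068, 0, 16, 233200) (.node .leaf (209071, 0, 15, 254811) .leaf)) (209073, 0, 17, 59486) (.node (.node .leaf (209074, 0, 15, 88322) .leaf) (209076, 0, 18, 52845) (.node .leaf (209079, 0, 16, 156542) .leaf))) (209081, 0, 14, 706) (.node (.node (.node .leaf (209082, 0, 18, 40867) .leaf) (209084, 0, 15, 128677) (.node .leaf (209087, 0, 17, 18150) .leaf)) (209089, 0, 16, 244520) (.node (.node .leaf (209090, 0, 17, 41757) .leaf) (209092, 0, 17, 117275) (.node .leaf (209095, 0, 17, 142407) .leaf)))) (209097, 0, 18, 210630) (.node (.node (.node (.node .leaf (209098, 0, 12, 188648) .leaf) (209100, 0, 17, 257923) (.node .leaf (209103, 0, 16, 181979) .leaf)) (209105, 0, 18, 118238) (.node (.node .leaf (209106, 0, 17, 31874) .leaf) (209108, 0, 17, 242254)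 (.node .leaf (209111, 0, 16, 23217) .leaf))) (209113, 0, 18, 85651) (.node (.node (.node .leaf (209114, 0, 14, 65232) .leaf) (209116, 0, 16, 65905) (.node .leaf (209119, 0, 14, 10133) .leaf)) (209120, 0, 15, 40716) (.node (.node .leaf (209123, 0, 17, 215182) .leaf) (209125, 0, 17, 139656) (.node .leaf (209126, 0, 14, 67683) .leaf))))))

/-- part of the orbit tree -/
def itp6_196 : Tree := (.node (.node (.node (.node (.node (.node .leaf (209131, 0, 15, 115916) .leaf) (209133, 0, 15, 1040) (.node .leaf (209134, 0, 15, 111699) .leaf)) (209136, 0, 11, 32920) (.node (.node .leaf (209139, 0, 19, 219302) .leaf) (209141, 0, 18, 23005) (.node .leaf (209142, 0, 14, 229013) .leaf))) (209144, 0, 14, 173312) (.node (.node (.node .leaf (209147, 0, 17, 202051) .leaf) (209149, 0, 15, 140629) (.node .leaf (209150, 0, 16, 234505) .leaf)) (209152, 0, 16, 191750) (.node (.node .leaf (209155, 0, 17, 138371) .leaf) (209157, 0, 17, 226693) (.node .leaf (209158, 0, 19, 227945) .leaf)))) (209160, 0, 17, 100696) (.node (.node (.node (.node .leaf (209163,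 0, 17, 14619) .leaf) (209165, 0, 9, 139689) (.node .leaf (209166, 0, 17, 233717) .leaf)) (209168, 0, 14, 119957) (.node (.node .leaf (209171, 0, 14, 25814) .leaf) (209173, 0, 17, 48579) (.node .leaf (209174, 0, 15, 68767) .leaf))) (209176, 0, 15, 29036) (.node (.node (.node .leaf (209179, 0, 18, 147790) .leaf) (209181, 0, 17, 22367) (.node .leaf (209182, 0, 17, 124419) .leaf)) (209185, 0, 17, 18259) (.node (.node .leaf (209186, 0, 17, 128784) .leaf) (209188, 0, 16, 40470) (.node .leaf (209191, 0, 17, 77397) .leaf))))) (209193, 0, 16, 156363) (.node (.node (.node (.node (.node .leaf (209194, 0, 18, 250504) .leaf) (209196, 0, 15, 179086) (.node .leaf (209199, 0, 17, 199629) .leaf)) (209201, 0, 17, 245716) (.node (.node .leaf (209202, 0, 18, 134792) .leaf) (209204, 0, 19, 190019) (.node .leaf (209207, 0, 12, 218624) .leaf))) (209209, 0, 15, 218440) (.node (.node (.node .leaf (209210, 0, 17, 109277) .leaf) (209212, 0, 17, 226171) (.node .leaf (209215, 0, 17, 95128) .leaf)) (209217, 0, 16, 60578) (.node (.node .leaf (209218, 0,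 18, 104035) .leaf) (209220, 0, 10, 65381) (.node .leaf (209223, 0, 18, 97229) .leaf)))) (209225, 0, 17, 1598) (.node (.node (.node (.node .leaf (209226, 0, 16, 112482) .leaf) (209228, 0, 15, 8205) (.node .leaf (209231, 0, 14, 223934) .leaf)) (209233, 0, 16, 170580) (.node (.node .leaf (209234, 0, 16, 257590) .leaf) (209236, 0, 17, 179303) (.node .leaf (209239, 0, 14, 199995) .leaf))) (209241, 0, 15, 31725) (.node (.node (.node .leaf (209242, 0, 15, 117678) .leaf) (209244, 0, 17, 41640) (.node .leaf (209247, 0, 13, 255911) .leaf)) (209248, 0, 16, 249267) (.node (.node .leaf (209251, 0, 16, 163312) .leaf) (209253, 0, 15, 257717) (.node .leaf (209254, 0, 5, 155625) .leaf))))))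

/-- part of the orbit tree -/
def itp6_197 : Tree := (.node (.node (.node (.node (.node (.node .leaf (209259, 0, 16, 22632) .leaf) (209261, 0, 17, 197673) (.node .leaf (209262, 0, 18, 33069) .leaf)) (209264, 0, 17, 114288) (.node (.node .leaf (209267, 0, 16, 1445) .leaf) (209269, 0, 10, 104515) (.node .leaf (209270, 0, 18, 10527) .leaf))) (209272, 0, 14, 233598) (.node (.node (.node .leaf (209275, 0, 15, 58800) .leaf) (209277, 0, 15, 215355) (.node .leaf (209278, 0, 18, 194936) .leaf)) (209280, 0, 15, 89455) (.node (.node .leaf (209283, 0, 14, 60467) .leaf) (209285, 0, 16, 97116) (.node .leaf (209286, 0, 12, 51712) .leaf)))) (209288, 0, 11, 204370) (.node (.node (.node (.node .leaf (209291, 0, 15, 1711) .leaf) (209293, 0, 15, 247575) (.node .leaf (209294, 0, 12, 8348) .leaf)) (209296, 0, 11, 207769) (.node (.node .leaf (209299, 0, 13, 170693) .leaf) (209301, 0, 13, 200106) (.node .leaf (209302, 0, 13, 179446) .leaf))) (209304, 0, 12, 91655) (.node (.node (.node .leaf (209307, 0, 16, 54852) .leaf) (209309, 0, 9, 255798) (.node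 .leaf (209310, 0, 14, 3841) .leaf)) (209313, 0, 17, 162123) (.node (.node .leaf (209314, 0, 17, 221210) .leaf) (209316, 0, 18, 133404) (.node .leaf (209319, 0, 11, 244063) .leaf))))) (209321, 0, 14, 168919) (.node (.node (.node (.node (.node .leaf (209322, 0, 16, 83330) .leaf) (209324, 0, 17, 11396) (.node .leaf (209327, 0, 17, 105671) .leaf)) (209329, 0, 17, 43020) (.node (.node .leaf (209330, 0, 15, 114401) .leaf) (209332, 0, 17, 10638) (.node .leaf (209335, 0, 17, 104658) .leaf))) (209337, 0, 14, 58657) (.node (.node (.node .leaf (209338, 0, 15, 87165) .leaf) (209340, 0, 16, 152785) (.node .leaf (209343, 0, 17, 94798) .leaf)) (209345, 0, 12, 176426) (.node (.node .leaf (209346, 0, 12, 191895) .leaf) (209348, 0, 16, 228088) (.node .leaf (209351, 0, 18, 183204) .leaf)))) (209353, 0, 15, 38066) (.node (.node (.node (.node .leaf (209354, 0, 19, 74993) .leaf) (209356, 0, 18, 233572) (.node .leaf (209359, 0, 19, 130484) .leaf)) (209361, 0, 17, 76349) (.node (.node .leaf (209362, 0, 8, 96572) .leaf) (209364, 0, 15, 4154) (.node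 .leaf (209367, 0, 16, 48466) .leaf))) (209369, 0, 16, 191719) (.node (.node (.node .leaf (209370, 0, 18, 220324) .leaf) (209372, 0, 18, 124562) (.node .leaf (209375, 0, 13, 230881) .leaf)) (209376, 0, 17, 30959) (.node (.node .leaf (209379, 0, 17, 60154) .leaf) (209381, 0, 16, 24284) (.node .leaf (209382, 0, 17, 126848) .leaf))))))

/-- part of the orbit tree -/
def itp6_198 : Tree := (.node (.node (.node (.node (.node (.node .leaf (209387, 0, 17, 184162) .leaf) (209389, 0, 15, 46144) (.node .leaf (209390, 0, 13, 66844) .leaf)) (209392, 0, 17, 134681) (.node (.node .leaf (209395, 0, 17, 245573) .leaf) (209397, 0, 12, 141354) (.node .leaf (209398, 0, 17, 235894) .leaf))) (209400, 0, 14, 189573) (.node (.node (.node .leaf (209403, 0, 19, 46903) .leaf) (209405, 0, 17, 180918) (.node .leaf (209406, 0, 17, 226282) .leaf)) (209410, 0, 15, 94945) (.node (.node .leaf (209411, 0, 19, 103047) .leaf) (209412, 0, 17, 28884) (.node .leaf (209413, 0, 15, 64385) .leaf)))) (209418, 0, 17, 68903) (.node (.node (.node (.node .leaf (209419, 0,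 18, 218121) .leaf) (209420, 0, 15, 147071) (.node .leaf (209421, 0, 15, 181094) .leaf)) (209426, 0, 13, 233805) (.node (.node .leaf (209427, 0, 14, 116835) .leaf) (209428, 0, 15, 132642) (.node .leaf (209429, 0, 16, 24332) .leaf))) (209434, 0, 11, 228305) (.node (.node (.node .leaf (209435, 0, 17, 74495) .leaf) (209436, 0, 16, 17962) (.node .leaf (209437, 0, 12, 46480) .leaf)) (209440, 0, 17, 207153) (.node (.node .leaf (209441, 0, 18, 248151) .leaf) (209446, 0, 17, 147511) (.node .leaf (209447, 0, 14, 172113) .leaf))))) (209448, 0, 15, 235615) (.node (.node (.node (.node (.node .leaf (209449, 0, 14, 126159) .leaf) (209454, 0, 18, 26031) (.node .leaf (209455, 0, 15, 34249) .leaf)) (209456, 0, 17, 66613) (.node (.node .leaf (209457, 0, 18, 110850) .leaf) (209462, 0, 13, 37722) (.node .leaf (209463, 0, 13, 182900) .leaf))) (209464, 0, 16, 126633) (.node (.node (.node .leaf (209465, 0, 16, 243591) .leaf) (209470, 0, 16, 31174) (.node .leaf (209471, 0, 17, 139496) .leaf)) (209472, 0, 17, 153411) (.node (.node .leaf (209473, 0,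 18, 3693) .leaf) (209478, 0, 13, 245804) (.node .leaf (209479, 0, 16, 104706) .leaf)))) (209480, 0, 15, 93658) (.node (.node (.node (.node .leaf (209481, 0, 17, 101820) .leaf) (209486, 0, 14, 207536) (.node .leaf (209487, 0, 15, 58554) .leaf)) (209488, 0, 16, 8629) (.node (.node .leaf (209489, 0, 17, 118897) .leaf) (209494, 0, 12, 22801) (.node .leaf (209495, 0, 16, 47479) .leaf))) (209496, 0, 15, 202127) (.node (.node (.node .leaf (209497, 0, 17, 168455) .leaf) (209502, 0, 17, 162953) (.node .leaf (209503, 0, 14, 197992) .leaf)) (209506, 0, 17, 70546) (.node (.node .leaf (209507, 0, 16, 170773) .leaf) (209508, 0, 16, 31380) .leaf)))))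

/-- part of the orbit tree -/
def itp6_199 : Tree := (.node itp6_195 (209128, 0, 14, 56661) itp6_196)

/-- part of the orbit tree -/
def itp6_200 : Tree := (.node itp6_197 (209384, 0, 14, 229153) itp6_198)

/-- part of the orbit tree -/
def itp6_201 : Tree := (.node itp6_193 (208740, 0, 12, 206857) itp6_194)

/-- part of the orbit tree -/
def itp6_202 : Tree := (.node itp6_199 (209256, 0, 18, 205338) itp6_200)

/-- part of the orbit tree -/
def itp6_203 : Tree := (.node (.node (.node (.node (.node (.node .leaf (209514, 0, 17, 210442) .leaf) (209515, 0, 16, 160137) (.node .leaf (209516, 0, 18, 155404) .leaf)) (209517, 0, 15, 255718) (.node (.node .leaf (209522, 0, 15, 224199) .leaf) (209523, 0, 16, 232353) (.node .leaf (209524, 0, 13, 131777) .leaf))) (209525, 0, 17, 189095) (.node (.node (.node .leaf (209530, 0, 14, 155217) .leaf) (209531, 0, 16, 1919) (.node .leaf (209532, 0, 14, 10073) .leaf)) (209533, 0, 15, 51007) (.node (.node .leaf (209538, 0, 17, 153554) .leaf) (209539, 0, 15, 198029) (.node .leaf (209540, 0, 15, 167149)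 .leaf)))) (209541, 0, 16, 104851) (.node (.node (.node (.node .leaf (209546, 0, 17, 179534) .leaf) (209547, 0, 16, 73749) (.node .leaf (209548, 0, 15, 43381) .leaf)) (209549, 0, 13, 18707) (.node (.node .leaf (209554, 0, 15, 105918) .leaf) (209555, 0, 15, 97752) (.node .leaf (209556, 0, 15, 112203) .leaf))) (209557, 0, 14, 257893) (.node (.node (.node .leaf (209562, 0, 15, 52152) .leaf) (209563, 0, 17, 168598) (.node .leaf (209564, 0, 15, 89303) .leaf)) (209565, 0, 16, 143686) (.node (.node .leaf (209568, 0, 15, 114235) .leaf) (209569, 0, 9, 170884) (.node .leaf (209574, 0, 17, 87493) .leaf))))) (209575, 0, 13, 14171) (.node (.node (.node (.node (.node .leaf (209576, 0, 13, 236451) .leaf) (209577, 0, 15, 160024) (.node .leaf (209582, 0, 10, 193189) .leaf)) (209583, 0, 16, 135875) (.node (.node .leaf (209584, 0, 18, 247406) .leaf) (209585, 0, 16, 60786) (.node .leaf (209590, 0, 18, 175976) .leaf))) (209591, 0, 14, 151310) (.node (.node (.node .leaf (209592, 0, 17, 155328) .leaf) (209593, 0, 15, 2030) (.node .leaf (209598, 0,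 17, 248239) .leaf)) (209599, 0, 15, 102529) (.node (.node .leaf (209600, 0, 17, 124714) .leaf) (209601, 0, 18, 245252) (.node .leaf (209606, 0, 16, 28741) .leaf)))) (209607, 0, 19, 141675) (.node (.node (.node (.node .leaf (209608, 0, 9, 69046) .leaf) (209609, 0, 15, 218264) (.node .leaf (209614, 0, 17, 168918) .leaf)) (209615, 0, 15, 160688) (.node (.node .leaf (209616, 0, 18, 233948) .leaf) (209617, 0, 15, 214907) (.node .leaf (209622, 0, 15, 183835) .leaf))) (209623, 0, 16, 24477) (.node (.node (.node .leaf (209624, 0, 16, 98949) .leaf) (209625, 0, 18, 90851) (.node .leaf (209630, 0, 16, 191535) .leaf)) (209631, 0, 18, 46337) (.node (.node .leaf (209634, 0, 17, 230552) .leaf) (209635, 0, 17, 222462) (.node .leaf (209636, 0, 16, 191902) .leaf))))))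

/-- part of the orbit tree -/
def itp6_204 : Tree := (.node (.node (.node (.node (.node (.node .leaf (209642, 0, 18, 235726) .leaf) (209643, 0, 16, 115168) (.node .leaf (209644, 0, 16, 51206) .leaf)) (209645, 0, 15, 10336) (.node (.node .leaf (209650, 0, 17, 130253) .leaf) (209651, 0, 17, 220554) (.node .leaf (209652, 0, 16, 37835) .leaf))) (209653, 0, 16, 183013) (.node (.node (.node .leaf (209658, 0, 16, 126520) .leaf) (209659, 0, 17, 211251) (.node .leaf (209660, 0, 17, 176211) .leaf)) (209661, 0, 18, 151605) (.node (.node .leaf (209666, 0, 17, 184469) .leaf) (209667, 0, 18, 219510) (.node .leaf (209668, 0, 15, 244115) .leaf)))) (209669, 0, 16, 219637) (.node (.node (.node (.node .leaf (209674, 0, 7, 62733) .leaf) (209675, 0, 13, 5483) (.node .leaf (209676, 0, 17, 105483) .leaf)) (209677, 0, 18, 140421) (.node (.node .leaf (209682, 0, 15, 43200) .leaf) (209683, 0, 16, 18598) (.node .leaf (209684, 0, 15, 115142) .leaf))) (209685, 0, 15, 47343) (.node (.node (.node .leaf (209690, 0, 16, 167256) .leaf) (209691, 0, 16, 159038)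 (.node .leaf (209692, 0, 17, 255070) .leaf)) (209693, 0, 14, 21107) (.node (.node .leaf (209696, 0, 17, 35653) .leaf) (209697, 0, 14, 117774) (.node .leaf (209702, 0, 17, 131663) .leaf))))) (209703, 0, 15, 66085) (.node (.node (.node (.node (.node .leaf (209704, 0, 16, 229308) .leaf) (209705, 0, 16, 75410) (.node .leaf (209710, 0, 17, 190675) .leaf)) (209711, 0, 15, 206781) (.node (.node .leaf (209712, 0, 16, 123862) .leaf) (209713, 0, 17, 136054) (.node .leaf (209718, 0, 15, 29881) .leaf))) (209719, 0, 15, 227952) (.node (.node (.node .leaf (209720, 0, 17, 67914) .leaf) (209721, 0, 15, 217188) (.node .leaf (209726, 0, 19, 40485) .leaf)) (209727, 0, 17, 90088) (.node (.node .leaf (209728, 0, 14, 176288) .leaf) (209729, 0, 17, 2640) (.node .leaf (209734, 0, 17, 206799) .leaf)))) (209735, 0, 16, 90966) (.node (.node (.node (.node .leaf (209736, 0, 17, 184238) .leaf) (209737, 0, 11, 143304) (.node .leaf (209742, 0, 17, 239272) .leaf)) (209743, 0, 16, 103549) (.node (.node .leaf (209744, 0, 16, 168547) .leaf) (209745, 0, 16, 160261)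 (.node .leaf (209750, 0, 15, 260965) .leaf))) (209751, 0, 15, 198679) (.node (.node (.node .leaf (209752, 0, 17, 47099) .leaf) (209753, 0, 17, 22429) (.node .leaf (209758, 0, 16, 113573) .leaf)) (209759, 0, 16, 254603) (.node (.node .leaf (209762, 0, 18, 9688) .leaf) (209763, 0, 13, 151936) (.node .leaf (209764, 0, 17, 252128) .leaf))))))

/-- part of the orbit tree -/
def itp6_205 : Tree := (.node (.node (.node (.node (.node (.node .leaf (209770, 0, 14, 53060) .leaf) (209771, 0, 14, 169578) (.node .leaf (209772, 0, 15, 130424) .leaf)) (209773, 0, 15, 72990) (.node (.node .leaf (209778, 0, 16, 152366) .leaf) (209779, 0, 15, 10709) (.node .leaf (209780, 0, 13, 106677) .leaf))) (209781, 0, 16, 82131) (.node (.node (.node .leaf (209786, 0, 16, 191531) .leaf) (209787, 0, 16, 57500) (.node .leaf (209788, 0, 15, 208605) .leaf)) (209789, 0, 17, 222539) (.node (.node .leaf (209794, 0, 17, 176177) .leaf) (209795, 0, 15, 59679) (.node .leaf (209796, 0, 15, 77465) .leaf)))) (209797, 0, 18, 118527) (.node (.node (.node (.node .leaf (209802,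 0, 17, 156167) .leaf) (209803, 0, 14, 164449) (.node .leaf (209804, 0, 15, 199425) .leaf)) (209805, 0, 17, 256871) (.node (.node .leaf (209810, 0, 15, 147402) .leaf) (209811, 0, 14, 172009) (.node .leaf (209812, 0, 17, 86440) .leaf))) (209813, 0, 18, 243370) (.node (.node (.node .leaf (209818, 0, 15, 6738) .leaf) (209819, 0, 17, 64052) (.node .leaf (209820, 0, 10, 113460) .leaf)) (209821, 0, 15, 254490) (.node (.node .leaf (209824, 0, 10, 9545) .leaf) (209825, 0, 12, 195625) (.node .leaf (209830, 0, 16, 111142) .leaf))))) (209831, 0, 17, 256776) (.node (.node (.node (.node (.node .leaf (209832, 0, 15, 14807) .leaf) (209833, 0, 17, 55729) (.node .leaf (209838, 0, 14, 88250) .leaf)) (209839, 0, 16, 197012) (.node (.node .leaf (209840, 0, 17, 25626) .leaf) (209841, 0, 15, 33916) (.node .leaf (209846, 0, 16, 246992) .leaf))) (209847, 0, 16, 105982) (.node (.node (.node .leaf (209848, 0, 17, 147842) .leaf) (209849, 0, 18, 57357) (.node .leaf (209854, 0, 17, 206980) .leaf)) (209855, 0, 14, 96098) (.node (.node .leaf (209856, 0, 14,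 65737) .leaf) (209857, 0, 18, 219623) (.node .leaf (209862, 0, 17, 38822) .leaf)))) (209863, 0, 11, 183944) (.node (.node (.node (.node .leaf (209864, 0, 17, 22692) .leaf) (209865, 0, 17, 242555) (.node .leaf (209870, 0, 18, 32058) .leaf)) (209871, 0, 16, 140308) (.node (.node .leaf (209872, 0, 16, 226879) .leaf) (209873, 0, 18, 77585) (.node .leaf (209878, 0, 14, 188752) .leaf))) (209879, 0, 16, 101385) (.node (.node (.node .leaf (209880, 0, 15, 139505) .leaf) (209881, 0, 16, 116109) (.node .leaf (209886, 0, 15, 134092) .leaf)) (209887, 0, 14, 21218) (.node (.node .leaf (209890, 0, 11, 234929) .leaf) (209891, 0, 16, 117919) (.node .leaf (209892, 0, 18, 85994) .leaf))))))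

/-- part of the orbit tree -/
def itp6_206 : Tree := (.node (.node (.node (.node (.node (.node .leaf (209898, 0, 14, 229165) .leaf) (209899, 0, 12, 189202) (.node .leaf (209900, 0, 18, 223858) .leaf)) (209901, 0, 15, 231956) (.node (.node .leaf (209906, 0, 17, 123719) .leaf) (209907, 0, 17, 244329) (.node .leaf (209908, 0, 11, 210879) .leaf))) (209909, 0, 17, 142598) (.node (.node (.node .leaf (209914, 0, 14, 31521) .leaf) (209915, 0, 16, 39751) (.node .leaf (209916, 0, 17, 70183) .leaf)) (209917, 0, 17, 127553) (.node (.node .leaf (209921, 0, 10, 128122) .leaf) (209923, 0, 17, 42079) (.node .leaf (209924, 0, 18, 227340) .leaf)))) (209926, 0, 6, 36990) (.node (.node (.node (.node .leaf (209929, 0, 17, 250338) .leaf) (209931, 0, 19, 23761) (.node .leaf (209932, 0, 17, 234128) .leaf)) (209934, 0, 17, 31458) (.node (.node .leaf (209937, 0, 18, 232495) .leaf) (209939, 0, 17, 180411) (.node .leaf (209940, 0, 16, 218474) .leaf))) (209942, 0, 18, 190088) (.node (.node (.node .leaf (209945, 0, 14, 108983) .leaf) (209947, 0, 17, 141863)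 (.node .leaf (209948, 0, 15, 124006) .leaf)) (209950, 0, 15, 8407) (.node (.node .leaf (209952, 0, 16, 31259) .leaf) (209954, 0, 17, 217036) (.node .leaf (209957, 0, 15, 23592) .leaf))))) (209959, 0, 16, 242778) (.node (.node (.node (.node (.node .leaf (209960, 0, 16, 36999) .leaf) (209962, 0, 15, 227573) (.node .leaf (209965, 0, 16, 58164) .leaf)) (209967, 0, 16, 111377) (.node (.node .leaf (209968, 0, 17, 26556) .leaf) (209970, 0, 13, 124063) (.node .leaf (209973, 0, 15, 48889) .leaf))) (209975, 0, 16, 126684) (.node (.node (.node .leaf (209976, 0, 13, 148004) .leaf) (209978, 0, 17, 201217) (.node .leaf (209981, 0, 16, 170849) .leaf)) (209983, 0, 16, 75824) (.node (.node .leaf (209984, 0, 16, 163482) .leaf) (209986, 0, 15, 178153) (.node .leaf (209989, 0, 17, 96680) .leaf)))) (209991, 0, 17, 168410) (.node (.node (.node (.node .leaf (209992, 0, 12, 23298) .leaf) (209994, 0, 17, 68391) (.node .leaf (209997, 0, 15, 33351) .leaf)) (209999, 0, 17, 119394) (.node (.node .leaf (210000, 0, 18, 1743) .leaf) (210002, 0, 15, 49439)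 (.node .leaf (210005, 0, 16, 200542) .leaf))) (210007, 0, 17, 102319) (.node (.node (.node .leaf (210008, 0, 18, 246769) .leaf) (210010, 0, 15, 226162) (.node .leaf (210013, 0, 19, 255426) .leaf)) (210015, 0, 16, 240183) (.node (.node .leaf (210017, 0, 16, 162751) .leaf) (210019, 0, 16, 103373) (.node .leaf (210020, 0, 13, 85068) .leaf))))))

/-- part of the orbit tree -/
def itp6_207 : Tree := (.node itp6_203 (209637, 0, 17, 48147) itp6_204)

/-- part of the orbit tree -/
def itp6_208 : Tree := (.node itp6_205 (209893, 0, 15, 23536) itp6_206)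

/-- part of the orbit tree -/
def itp6_209 : Tree := (.node (.node (.node (.node (.node (.node .leaf (210025, 0, 13, 241809) .leaf) (210027, 0, 18, 96593) (.node .leaf (210028, 0, 16, 177936) .leaf)) (210030, 0, 14, 89954) (.node (.node .leaf (210033, 0, 17, 3401) .leaf) (210035, 0, 12, 179577) (.node .leaf (210036, 0, 15, 209945) .leaf))) (210038, 0, 17, 156732) (.node (.node (.node .leaf (210041, 0, 17, 59349) .leaf) (210043, 0, 16, 39137) (.node .leaf (210044, 0, 13, 70017) .leaf)) (210046, 0, 18, 207252) (.node (.node .leaf (210049, 0, 11, 222064) .leaf) (210051, 0, 14, 198180) (.node .leaf (210052, 0, 17, 244277) .leaf)))) (210054, 0, 16, 204823) (.node (.node (.node (.node .leaf (210057, 0, 17, 1226) .leaf) (210059, 0, 15, 257208) (.node .leaf (210060, 0, 17, 106413) .leaf)) (210062, 0, 13, 248459) (.node (.node .leaf (210065, 0, 12, 170144) .leaf) (210067, 0, 18, 19200) (.node .leaf (210068, 0, 16, 179859) .leaf))) (210070, 0, 16, 37445) (.node (.node (.node .leaf (210073, 0, 17, 160316) .leaf) (210075, 0, 17, 159384)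 (.node .leaf (210076, 0, 18, 152591) .leaf)) (210078, 0, 16, 113789) (.node (.node .leaf (210080, 0, 17, 248434) .leaf) (210082, 0, 14, 8704) (.node .leaf (210085, 0, 14, 20902) .leaf))))) (210087, 0, 16, 65923) (.node (.node (.node (.node (.node .leaf (210088, 0, 16, 205038) .leaf) (210090, 0, 16, 261470) (.node .leaf (210093, 0, 18, 198365) .leaf)) (210095, 0, 16, 205851) (.node (.node .leaf (210096, 0, 16, 192694) .leaf) (210098, 0, 15, 237715) (.node .leaf (210101, 0, 15, 141811) .leaf))) (210103, 0, 18, 160453) (.node (.node (.node .leaf (210104, 0, 15, 54574) .leaf) (210106, 0, 16, 179818) (.node .leaf (210109, 0, 14, 94251) .leaf)) (210111, 0, 17, 89166) (.node (.node .leaf (210112, 0, 17, 59792) .leaf) (210114, 0, 16, 67456) (.node .leaf (210117, 0, 14, 12501) .leaf)))) (210119, 0, 17, 74163) (.node (.node (.node (.node .leaf (210120, 0, 13, 132462) .leaf) (210122, 0, 16, 126236) (.node .leaf (210125, 0, 17, 140125) .leaf)) (210127, 0, 18, 214376) (.node (.node .leaf (210128, 0, 16, 39172) .leaf) (210130, 0, 14, 225654)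 (.node .leaf (210133, 0, 18, 48951) .leaf))) (210135, 0, 16, 202917) (.node (.node (.node .leaf (210136, 0, 18, 29592) .leaf) (210138, 0, 16, 236522) (.node .leaf (210141, 0, 16, 21931) .leaf)) (210143, 0, 14, 245209) (.node (.node .leaf (210145, 0, 17, 197123) .leaf) (210147, 0, 15, 152102) (.node .leaf (210148, 0, 15, 126437) .leaf))))))

/-- part of the orbit tree -/
def itp6_210 : Tree := (.node (.node (.node (.node (.node (.node .leaf (210153, 0, 16, 75675) .leaf) (210155, 0, 15, 182584) (.node .leaf (210156, 0, 15, 67449) .leaf)) (210158, 0, 16, 44795) (.node (.node .leaf (210161, 0, 15, 96854) .leaf) (210163, 0, 17, 10867) (.node .leaf (210164, 0, 16, 236307) .leaf))) (210166, 0, 17, 62262) (.node (.node (.node .leaf (210169, 0, 15, 221134) .leaf) (210171, 0, 16, 49102) (.node .leaf (210172, 0, 13, 225679) .leaf)) (210174, 0, 18, 39421) (.node (.node .leaf (210177, 0, 17, 153102) .leaf) (210179, 0, 18, 20910) (.node .leaf (210180, 0, 15, 167755) .leaf)))) (210182, 0, 16, 253806) (.node (.node (.node (.node .leaf (210185,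 0, 15, 217920) .leaf) (210187, 0, 15, 47922) (.node .leaf (210188, 0, 15, 43731) .leaf)) (210190, 0, 17, 129782) (.node (.node .leaf (210193, 0, 16, 11867) .leaf) (210195, 0, 15, 97918) (.node .leaf (210196, 0, 15, 63262) .leaf))) (210198, 0, 12, 131435) (.node (.node (.node .leaf (210201, 0, 15, 75190) .leaf) (210203, 0, 17, 220134) (.node .leaf (210204, 0, 12, 66437) .leaf)) (210206, 0, 18, 230051) (.node (.node .leaf (210208, 0, 15, 40440) .leaf) (210210, 0, 15, 60856) (.node .leaf (210213, 0, 17, 48075) .leaf))))) (210215, 0, 17, 218041) (.node (.node (.node (.node (.node .leaf (210216, 0, 16, 30564) .leaf) (210218, 0, 16, 182304) (.node .leaf (210221, 0, 16, 20823) .leaf)) (210223, 0, 17, 244005) (.node (.node .leaf (210224, 0, 18, 247240) .leaf) (210226, 0, 18, 66428) (.node .leaf (210229, 0, 17, 183613) .leaf))) (210231, 0, 17, 150696) (.node (.node (.node .leaf (210232, 0, 17, 131474) .leaf) (210234, 0, 17, 125408) (.node .leaf (210237, 0, 16, 80149) .leaf)) (210239, 0, 16, 118739) (.node (.node .leaf (210240, 0, 17,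 122094) .leaf) (210242, 0, 17, 151562) (.node .leaf (210245, 0, 17, 106059) .leaf)))) (210247, 0, 16, 21902) (.node (.node (.node (.node .leaf (210248, 0, 14, 260470) .leaf) (210250, 0, 17, 174419) (.node .leaf (210253, 0, 16, 95447) .leaf)) (210255, 0, 14, 171173) (.node (.node .leaf (210256, 0, 16, 238779) .leaf) (210258, 0, 17, 193694) (.node .leaf (210261, 0, 13, 228862) .leaf))) (210263, 0, 15, 142811) (.node (.node (.node .leaf (210264, 0, 15, 205842) .leaf) (210266, 0, 16, 52320) (.node .leaf (210269, 0, 16, 197153) .leaf)) (210271, 0, 15, 59987) (.node (.node .leaf (210273, 0, 17, 145277) .leaf) (210275, 0, 18, 223064) (.node .leaf (210276, 0, 16, 192056) .leaf))))))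

/-- part of the orbit tree -/
def itp6_211 : Tree := (.node (.node (.node (.node (.node (.node .leaf (210281, 0, 17, 4837) .leaf) (210283, 0, 16, 106162) (.node .leaf (210284, 0, 17, 52128) .leaf)) (210286, 0, 16, 105349) (.node (.node .leaf (210289, 0, 15, 60074) .leaf) (210291, 0, 17, 73485) (.node .leaf (210292, 0, 14, 52377) .leaf))) (210294, 0, 18, 116296) (.node (.node (.node .leaf (210297, 0, 14, 158384) .leaf) (210299, 0, 17, 211605) (.node .leaf (210300, 0, 12, 9733) .leaf)) (210302, 0, 15, 254928) (.node (.node .leaf (210305, 0, 15, 2485) .leaf) (210307, 0, 16, 102689) (.node .leaf (210308, 0, 17, 12166) .leaf)))) (210310, 0, 15, 84068) (.node (.node (.node (.node .leaf (210313, 0, 18, 189596) .leaf) (210315, 0, 13, 199515) (.node .leaf (210316, 0, 15, 50458) .leaf)) (210318, 0, 17, 224764) (.node (.node .leaf (210321, 0, 18, 178513) .leaf) (210323, 0, 14, 256372) (.node .leaf (210324, 0, 13, 155668) .leaf))) (210326, 0, 18, 208945) (.node (.node (.node .leaf (210329, 0, 14, 169439) .leaf) (210331, 0, 18, 117996)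 (.node .leaf (210332, 0, 16, 17804) .leaf)) (210334, 0, 17, 88990) (.node (.node .leaf (210336, 0, 13, 208273) .leaf) (210338, 0, 15, 162482) (.node .leaf (210341, 0, 18, 259026) .leaf))))) (210343, 0, 16, 173047) (.node (.node (.node (.node (.node .leaf (210344, 0, 14, 247565) .leaf) (210346, 0, 15, 24362) (.node .leaf (210349, 0, 14, 120394) .leaf)) (210351, 0, 15, 34415) (.node (.node .leaf (210352, 0, 16, 86722) .leaf) (210354, 0, 17, 176917) (.node .leaf (210357, 0, 15, 97620) .leaf))) (210359, 0, 18, 56226) (.node (.node (.node .leaf (210360, 0, 16, 227162) .leaf) (210362, 0, 14, 141183) (.node .leaf (210365, 0, 13, 104392) .leaf)) (210367, 0, 12, 196154) (.node (.node .leaf (210368, 0, 16, 133137) .leaf) (210370, 0, 15, 122979) (.node .leaf (210373, 0, 16, 142882) .leaf)))) (210375, 0, 14, 116304) (.node (.node (.node (.node .leaf (210376, 0, 16, 189069) .leaf) (210378, 0, 17, 15961) (.node .leaf (210381, 0, 17, 112441) .leaf)) (210383, 0, 15, 59164) (.node (.node .leaf (210384, 0, 12, 32487) .leaf) (210386, 0, 17, 25492)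 (.node .leaf (210389, 0, 17, 125684) .leaf))) (210391, 0, 13, 241830) (.node (.node (.node .leaf (210392, 0, 18, 38011) .leaf) (210394, 0, 16, 149004) (.node .leaf (210397, 0, 13, 45640) .leaf)) (210399, 0, 16, 219706) (.node (.node .leaf (210401, 0, 15, 41079) .leaf) (210403, 0, 13, 181319) (.node .leaf (210404, 0, 18, 31026) .leaf))))))

/-- part of the orbit tree -/
def itp6_212 : Tree := (.node (.node (.node (.node (.node (.node .leaf (210409, 0, 16, 116393) .leaf) (210411, 0, 17, 251338) (.node .leaf (210412, 0, 16, 154794) .leaf)) (210414, 0, 16, 133352) (.node (.node .leaf (210417, 0, 18, 186402) .leaf) (210419, 0, 15, 45745) (.node .leaf (210420, 0, 16, 228592) .leaf))) (210422, 0, 18, 217410) (.node (.node (.node .leaf (210425, 0, 17, 64954) .leaf) (210427, 0, 14, 22573) (.node .leaf (210428, 0, 17, 235116) .leaf)) (210430, 0, 18, 95450) (.node (.node .leaf (210432, 0, 13, 79980) .leaf) (210433, 0, 17, 120842) (.node .leaf (210434, 0, 15, 191055) .leaf)))) (210435, 0, 16, 45921) (.node (.node (.node (.node .leaf (210440,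 0, 16, 125089) .leaf) (210441, 0, 18, 261522) (.node .leaf (210442, 0, 16, 131283) .leaf)) (210443, 0, 16, 175543) (.node (.node .leaf (210448, 0, 16, 226507) .leaf) (210449, 0, 16, 237663) (.node .leaf (210450, 0, 17, 40121) .leaf))) (210451, 0, 17, 192634) (.node (.node (.node .leaf (210456, 0, 14, 237143) .leaf) (210457, 0, 15, 99783) (.node .leaf (210458, 0, 16, 30245) .leaf)) (210459, 0, 16, 143115) (.node (.node .leaf (210468, 0, 16, 131114) .leaf) (210469, 0, 17, 22788) (.node .leaf (210470, 0, 14, 125016) .leaf))))) (210471, 0, 19, 242038) (.node (.node (.node (.node (.node .leaf (210476, 0, 15, 12066) .leaf) (210477, 0, 12, 45976) (.node .leaf (210478, 0, 17, 66244) .leaf)) (210479, 0, 16, 106337) (.node (.node .leaf (210484, 0, 16, 29423) .leaf) (210485, 0, 14, 37513) (.node .leaf (210486, 0, 15, 237230) .leaf))) (210487, 0, 17, 115372) (.node (.node (.node .leaf (210492, 0, 15, 153463) .leaf) (210493, 0, 19, 181614) (.node .leaf (210494, 0, 12, 198482) .leaf)) (210495, 0, 15, 255796) (.node (.node .leaf (210500,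 0, 15, 206250) .leaf) (210501, 0, 16, 97412) (.node .leaf (210502, 0, 14, 52696) .leaf)))) (210503, 0, 13, 169206) (.node (.node (.node (.node .leaf (210508, 0, 15, 249654) .leaf) (210509, 0, 17, 44599) (.node .leaf (210510, 0, 13, 10052) .leaf)) (210511, 0, 19, 163434) (.node (.node .leaf (210516, 0, 17, 86876) .leaf) (210517, 0, 16, 62458) (.node .leaf (210518, 0, 16, 82873) .leaf))) (210519, 0, 17, 107487) (.node (.node (.node .leaf (210524, 0, 16, 113088) .leaf) (210525, 0, 17, 254190) (.node .leaf (210526, 0, 16, 151986) .leaf)) (210527, 0, 17, 2204) (.node (.node .leaf (210528, 0, 15, 88351) .leaf) (210529, 0, 17, 113017) .leaf)))))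

/-- part of the orbit tree -/
def itp6_213 : Tree := (.node itp6_209 (210150, 0, 17, 166755) itp6_210)

/-- part of the orbit tree -/
def itp6_214 : Tree := (.node itp6_211 (210406, 0, 18, 76055) itp6_212)

/-- part of the orbit tree -/
def itp6_215 : Tree := (.node itp6_207 (209765, 0, 15, 256921) itp6_208)

/-- part of the orbit tree -/
def itp6_216 : Tree := (.node itp6_213 (210278, 0, 13, 86557) itp6_214)

/-- part of the orbit tree -/
def itp6_217 : Tree := (.node itp6_201 (209000, 0, 16, 150111) itp6_202)

/-- part of the orbit tree -/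
def itp6_218 : Tree := (.node itp6_215 (210022, 0, 15, 7273) itp6_216)

/-- part of the orbit tree -/
def itp6_219 : Tree := (.node (.node (.node (.node (.node (.node .leaf (210531, 0, 18, 104161) .leaf) (210536, 0, 17, 228487) (.node .leaf (210537, 0, 15, 236769) .leaf)) (210538, 0, 15, 206163) (.node (.node .leaf (210539, 0, 13, 183492) .leaf) (210544, 0, 14, 205130) (.node .leaf (210545, 0, 12, 2149) .leaf))) (210546, 0, 17, 112953) (.node (.node (.node .leaf (210547, 0, 15, 168201) .leaf) (210552, 0, 16, 66770) (.node .leaf (210553, 0, 18, 124084) .leaf)) (210554, 0, 16, 86949) (.node (.node .leaf (210555, 0, 16, 199307) .leaf) (210560, 0, 16, 176724) (.node .leaf (210561, 0, 17, 60282) .leaf)))) (210562, 0, 15, 88614) (.node (.node (.node (.node .leaf (210563, 0, 13, 197384) .leaf) (210568, 0, 8, 153800) (.node .leaf (210569, 0, 15, 92824) .leaf)) (210570, 0, 17, 110778) (.node (.node .leaf (210571, 0, 17, 15037) .leaf) (210576, 0, 15, 120627) (.node .leaf (210577, 0, 17, 79701) .leaf))) (210578, 0, 17, 34582) (.node (.node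 (.node .leaf (210579, 0, 16, 95742) .leaf) (210584, 0, 11, 11838) (.node .leaf (210585, 0, 18, 161552) .leaf)) (210586, 0, 15, 247372) (.node (.node .leaf (210587, 0, 15, 106338) .leaf) (210596, 0, 15, 40368) (.node .leaf (210597, 0, 18, 256365) .leaf))))) (210598, 0, 15, 153649) (.node (.node (.node (.node (.node .leaf (210599, 0, 17, 287) .leaf) (210604, 0, 16, 178216) (.node .leaf (210605, 0, 15, 197617) .leaf)) (210606, 0, 17, 256013) (.node (.node .leaf (210607, 0, 15, 198763) .leaf) (210612, 0, 15, 189925) (.node .leaf (210613, 0, 18, 132483) .leaf))) (210614, 0, 17, 243136) (.node (.node (.node .leaf (210615, 0, 19, 161769) .leaf) (210620, 0, 17, 207913) (.node .leaf (210621, 0, 17, 8219) .leaf)) (210622, 0, 17, 50267) (.node (.node .leaf (210623, 0, 13, 94270) .leaf) (210628, 0, 17, 38339) (.node .leaf (210629, 0, 17, 183533) .leaf)))) (210630, 0, 17, 228785) (.node (.node (.node (.node .leaf (210631, 0, 18, 85120) .leaf) (210636, 0, 13, 32607) (.node .leaf (210637, 0, 17, 145725) .leaf)) (210638, 0, 18, 235309) (.node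 (.node .leaf (210639, 0, 13, 118275) .leaf) (210644, 0, 17, 189237) (.node .leaf (210645, 0, 14, 156912) .leaf))) (210646, 0, 17, 251059) (.node (.node (.node .leaf (210647, 0, 19, 210133) .leaf) (210652, 0, 16, 133545) (.node .leaf (210653, 0, 18, 16744) .leaf)) (210654, 0, 17, 123355) (.node (.node .leaf (210655, 0, 13, 243957) .leaf) (210656, 0, 17, 235476) (.node .leaf (210657, 0, 17, 118522) .leaf))))))

/-- part of the orbit tree -/
def itp6_220 : Tree := (.node (.node (.node (.node (.node (.node .leaf (210659, 0, 14, 140936) .leaf) (210664, 0, 17, 125837) (.node .leaf (210665, 0, 15, 68587) .leaf)) (210666, 0, 17, 38202) (.node (.node .leaf (210667, 0, 16, 23502) .leaf) (210672, 0, 17, 123170) (.node .leaf (210673, 0, 15, 243724) .leaf))) (210674, 0, 16, 58981) (.node (.node (.node .leaf (210675, 0, 15, 20606) .leaf) (210680, 0, 15, 68542) (.node .leaf (210681, 0, 17, 226238) .leaf)) (210682, 0, 17, 189388) (.node (.node .leaf (210683, 0, 17, 47842) .leaf) (210688, 0, 9, 170520) (.node .leaf (210689, 0, 17, 244976) .leaf))))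 (210690, 0, 16, 248381) (.node (.node (.node (.node .leaf (210691, 0, 17, 207451) .leaf) (210696, 0, 15, 49024) (.node .leaf (210697, 0, 17, 24550) .leaf)) (210698, 0, 17, 190256) (.node (.node .leaf (210699, 0, 15, 69571) .leaf) (210704, 0, 8, 234280) (.node .leaf (210705, 0, 16, 117254) .leaf))) (210706, 0, 9, 111208) (.node (.node (.node .leaf (210707, 0, 16, 139892) .leaf) (210712, 0, 18, 227764) (.node .leaf (210713, 0, 17, 73882) .leaf)) (210714, 0, 17, 235504) (.node (.node .leaf (210715, 0, 16, 227222) .leaf) (210724, 0, 17, 190409) (.node .leaf (210725, 0, 15, 48871) .leaf))))) (210726, 0, 14, 69563) (.node (.node (.node (.node (.node .leaf (210727, 0, 17, 6285) .leaf) (210732, 0, 16, 232790) (.node .leaf (210733, 0, 18, 21627) .leaf)) (210734, 0, 18, 124199) (.node (.node .leaf (210735, 0, 17, 146709) .leaf) (210740, 0, 16, 37183) (.node .leaf (210741, 0, 16, 209149) .leaf))) (210742, 0, 18, 227661) (.node (.node (.node .leaf (210743, 0, 16, 73827) .leaf) (210748, 0, 15, 31651) (.node .leaf (210749, 0, 17, 71013)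 .leaf)) (210750, 0, 16, 42278) (.node (.node .leaf (210751, 0, 15, 117503) .leaf) (210756, 0, 15, 117181) (.node .leaf (210757, 0, 16, 76251) .leaf)))) (210758, 0, 16, 39320) (.node (.node (.node (.node .leaf (210759, 0, 14, 160533) .leaf) (210764, 0, 17, 257061) (.node .leaf (210765, 0, 13, 199747) .leaf)) (210766, 0, 17, 49319) (.node (.node .leaf (210767, 0, 17, 170377) .leaf) (210772, 0, 16, 242152) (.node .leaf (210773, 0, 17, 257425) .leaf))) (210774, 0, 13, 188877) (.node (.node (.node .leaf (210775, 0, 17, 131499) .leaf) (210780, 0, 15, 103536) (.node .leaf (210781, 0, 13, 198413) .leaf)) (210782, 0, 12, 177745) (.node (.node .leaf (210783, 0, 17, 9267) .leaf) (210784, 0, 16, 49246) (.node .leaf (210785, 0, 16, 137997) .leaf))))))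

/-- part of the orbit tree -/
def itp6_221 : Tree := (.node (.node (.node (.node (.node (.node .leaf (210787, 0, 16, 215848) .leaf) (210792, 0, 16, 57075) (.node .leaf (210793, 0, 16, 160748) .leaf)) (210794, 0, 15, 246448) (.node (.node .leaf (210795, 0, 17, 105374) .leaf) (210800, 0, 17, 33598) (.node .leaf (210801, 0, 14, 25432) .leaf))) (210802, 0, 14, 89818) (.node (.node (.node .leaf (210803, 0, 14, 78717) .leaf) (210808, 0, 16, 154676) (.node .leaf (210809, 0, 16, 149184) .leaf)) (210810, 0, 15, 111686) (.node (.node .leaf (210811, 0, 17, 202469) .leaf) (210816, 0, 17, 153015) (.node .leaf (210817, 0, 16, 3225) .leaf)))) (210818, 0, 16, 114117) (.node (.node (.node (.node .leaf (210819, 0, 17, 114001) .leaf) (210824, 0, 15, 180011) (.node .leaf (210825, 0, 11, 58885) .leaf)) (210826, 0, 15, 227503) (.node (.node .leaf (210827, 0, 18, 200311) .leaf) (210832, 0, 16, 9025) (.node .leaf (210833, 0, 14, 169249) .leaf))) (210834, 0, 10, 248627) (.node (.node (.node .leaf (210835, 0, 15, 102941) .leaf) (210840, 0, 2, 20703)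 (.node .leaf (210841, 0, 17, 168179) .leaf)) (210842, 0, 12, 65786) (.node (.node .leaf (210843, 0, 17, 123036) .leaf) (210852, 0, 17, 87968) (.node .leaf (210853, 0, 18, 200334) .leaf))))) (210854, 0, 17, 180178) (.node (.node (.node (.node (.node .leaf (210855, 0, 16, 59132) .leaf) (210860, 0, 12, 113980) (.node .leaf (210861, 0, 17, 129594) .leaf)) (210862, 0, 15, 19065) (.node (.node .leaf (210863, 0, 12, 3168) .leaf) (210868, 0, 14, 83857) (.node .leaf (210869, 0, 15, 108535) .leaf))) (210870, 0, 16, 6068) (.node (.node (.node .leaf (210871, 0, 17, 63442) .leaf) (210876, 0, 19, 221705) (.node .leaf (210877, 0, 15, 103140) .leaf)) (210878, 0, 14, 143916) (.node (.node .leaf (210879, 0, 10, 162454) .leaf) (210884, 0, 18, 29216) (.node .leaf (210885, 0, 17, 142094) .leaf)))) (210886, 0, 15, 236114) (.node (.node (.node (.node .leaf (210887, 0, 16, 192244) .leaf) (210892, 0, 15, 39100) (.node .leaf (210893, 0, 18, 180626) .leaf)) (210894, 0, 16, 225486) (.node (.node .leaf (210895, 0, 17, 52076) .leaf) (210900, 0, 18, 75490)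 (.node .leaf (210901, 0, 16, 116356) .leaf))) (210902, 0, 16, 30407) (.node (.node (.node .leaf (210903, 0, 17, 243082) .leaf) (210908, 0, 13, 197498) (.node .leaf (210909, 0, 19, 46948) .leaf)) (210910, 0, 15, 67128) (.node (.node .leaf (210911, 0, 16, 176953) .leaf) (210912, 0, 10, 225335) (.node .leaf (210913, 0, 16, 76057) .leaf))))))

/-- part of the orbit tree -/
def itp6_222 : Tree := (.node (.node (.node (.node (.node (.node .leaf (210915, 0, 16, 121890) .leaf) (210920, 0, 14, 236203) (.node .leaf (210921, 0, 18, 174495) .leaf)) (210922, 0, 18, 203228) (.node (.node .leaf (210923, 0, 14, 260538) .leaf) (210928, 0, 14, 67265) (.node .leaf (210929, 0, 16, 193618) .leaf))) (210930, 0, 17, 214033) (.node (.node (.node .leaf (210931, 0, 14, 47005) .leaf) (210936, 0, 15, 126045) (.node .leaf (210937, 0, 16, 243059) .leaf)) (210938, 0, 16, 90505) (.node (.node .leaf (210939, 0, 11, 98799) .leaf) (210945, 0, 15, 168142) (.node .leaf (210946, 0, 15, 108456) .leaf)))) (210949, 0, 16, 174573) (.node (.node (.node (.node .leaf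 (210950, 0, 18, 252085) .leaf) (210953, 0, 16, 46422) (.node .leaf (210954, 0, 17, 66837) .leaf)) (210957, 0, 16, 164725) (.node (.node .leaf (210958, 0, 15, 209449) .leaf) (210961, 0, 18, 59547) (.node .leaf (210962, 0, 15, 88280) .leaf))) (210965, 0, 16, 53688) (.node (.node (.node .leaf (210966, 0, 18, 90619) .leaf) (210969, 0, 12, 183555) (.node .leaf (210970, 0, 16, 228672) .leaf)) (210973, 0, 16, 62851) (.node (.node .leaf (210974, 0, 17, 83167) .leaf) (210976, 0, 17, 97117) (.node .leaf (210979, 0, 17, 51998) .leaf))))) (210980, 0, 17, 85453) (.node (.node (.node (.node (.node .leaf (210983, 0, 18, 62013) .leaf) (210984, 0, 17, 251980) (.node .leaf (210987, 0, 16, 157968) .leaf)) (210988, 0, 10, 108369) (.node (.node .leaf (210991, 0, 16, 186277) .leaf) (210992, 0, 12, 82982) (.node .leaf (210995, 0, 14, 62842) .leaf))) (210996, 0, 14, 211499) (.node (.node (.node .leaf (210999, 0, 14, 166503) .leaf) (211000, 0, 16, 75408) (.node .leaf (211003, 0, 18, 38611) .leaf)) (211004, 0, 14, 73651) (.node (.node .leaf (211007,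 0, 17, 45040) .leaf) (211008, 0, 19, 72238) (.node .leaf (211011, 0, 16, 239116) .leaf)))) (211012, 0, 16, 26701) (.node (.node (.node (.node .leaf (211015, 0, 15, 37710) .leaf) (211016, 0, 16, 196044) (.node .leaf (211019, 0, 15, 216208) .leaf)) (211020, 0, 16, 198293) (.node (.node .leaf (211023, 0, 17, 177878) .leaf) (211024, 0, 15, 221819) (.node .leaf (211027, 0, 9, 119034) .leaf))) (211028, 0, 18, 219992) (.node (.node (.node .leaf (211031, 0, 17, 241639) .leaf) (211032, 0, 15, 83939) (.node .leaf (211035, 0, 16, 80486) .leaf)) (211036, 0, 16, 97984) (.node (.node .leaf (211039, 0, 16, 52867) .leaf) (211041, 0, 16, 78708) (.node .leaf (211042, 0, 15, 33320) .leaf))))))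

/-- part of the orbit tree -/
def itp6_223 : Tree := (.node itp6_219 (210658, 0, 17, 32678) itp6_220)

/-- part of the orbit tree -/
def itp6_224 : Tree := (.node itp6_221 (210914, 0, 19, 38981) itp6_222)

/-- part of the orbit tree -/
def itp6_225 : Tree := (.node (.node (.node (.node (.node (.node .leaf (211046, 0, 16, 195893) .leaf) (211049, 0, 15, 54309) (.node .leaf (211050, 0, 15, 91238) .leaf)) (211053, 0, 17, 239349) (.node (.node .leaf (211054, 0, 18, 89413) .leaf) (211057, 0, 17, 35304) (.node .leaf (211058, 0, 18, 80299) .leaf))) (211061, 0, 15, 45259) (.node (.node (.node .leaf (211062, 0, 15, 35779) .leaf) (211065, 0, 16, 175216) (.node .leaf (211066, 0, 13, 138818) .leaf)) (211069, 0, 18, 118787) (.node (.node .leaf (211070, 0, 17, 206096) .leaf) (211073, 0, 17, 239261) (.node .leaf (211074, 0, 16, 137153) .leaf)))) (211077, 0, 17, 121216) (.node (.node (.node (.node .leaf (211078, 0, 17, 102052) .leaf) (211081, 0, 15, 216065) (.node .leaf (211082, 0, 16, 234015) .leaf)) (211085, 0, 18, 138111) (.node (.node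 .leaf (211086, 0, 8, 33344) .leaf) (211089, 0, 16, 163729) (.node .leaf (211090, 0, 15, 24887) .leaf))) (211093, 0, 16, 149170) (.node (.node (.node .leaf (211094, 0, 16, 138794) .leaf) (211097, 0, 13, 80631) (.node .leaf (211098, 0, 16, 35755) .leaf)) (211101, 0, 17, 214506) (.node (.node .leaf (211102, 0, 15, 119657) .leaf) (211104, 0, 17, 33465) (.node .leaf (211107, 0, 17, 154644) .leaf))))) (211108, 0, 16, 196004) (.node (.node (.node (.node (.node .leaf (211111, 0, 15, 156983) .leaf) (211112, 0, 17, 117199) (.node .leaf (211115, 0, 15, 31116) .leaf)) (211116, 0, 17, 137016) (.node (.node .leaf (211119, 0, 16, 16559) .leaf) (211120, 0, 16, 193615) (.node .leaf (211123, 0, 16, 9281) .leaf))) (211124, 0, 14, 35666) (.node (.node (.node .leaf (211127, 0, 16, 7522) .leaf) (211128, 0, 13, 242074) (.node .leaf (211131, 0, 18, 131545) .leaf)) (211132, 0, 15, 231609) (.node (.node .leaf (211135, 0, 17, 145658) .leaf) (211136, 0, 16, 232740) (.node .leaf (211139, 0, 15, 5733) .leaf)))) (211140, 0, 17, 251940) (.node (.node (.node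 (.node .leaf (211143, 0, 16, 158072) .leaf) (211144, 0, 16, 85413) (.node .leaf (211147, 0, 17, 6399) .leaf)) (211148, 0, 18, 209592) (.node (.node .leaf (211151, 0, 17, 164836) .leaf) (211152, 0, 15, 250319) (.node .leaf (211155, 0, 14, 17714) .leaf))) (211156, 0, 9, 110290) (.node (.node (.node .leaf (211159, 0, 13, 31761) .leaf) (211160, 0, 17, 211795) (.node .leaf (211163, 0, 18, 155818) .leaf)) (211164, 0, 17, 83022) (.node (.node .leaf (211167, 0, 15, 62738) .leaf) (211169, 0, 16, 164637) (.node .leaf (211170, 0, 18, 120564) .leaf))))))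

/-- part of the orbit tree -/
def itp6_226 : Tree := (.node (.node (.node (.node (.node (.node .leaf (211174, 0, 16, 126935) .leaf) (211177, 0, 16, 148271) (.node .leaf (211178, 0, 15, 258924) .leaf)) (211181, 0, 17, 162316) (.node (.node .leaf (211182, 0, 18, 248399) .leaf) (211185, 0, 17, 62955) (.node .leaf (211186, 0, 15, 83127) .leaf))) (211189, 0, 16, 141249) (.node (.node (.node .leaf (211190, 0, 16, 235394) .leaf) (211193, 0, 17, 8055) (.node .leaf (211194, 0, 17, 101177) .leaf)) (211197, 0, 18, 601) (.node (.node .leaf (211198, 0, 16, 250166) .leaf) (211201, 0, 15, 61719) (.node .leaf (211202, 0, 18, 81995) .leaf)))) (211205, 0, 16, 68505) (.node (.node (.node (.node .leaf (211206, 0, 16, 212822) .leaf) (211209, 0, 16, 202530) (.node .leaf (211210, 0, 17, 109271) .leaf)) (211213, 0, 13, 208385) (.node (.node .leaf (211214, 0, 17, 251338) .leaf) (211217, 0, 12, 215791) (.node .leaf (211218, 0, 15, 195244) .leaf))) (211221, 0, 17, 226252) (.node (.node (.node .leaf (211222, 0, 17, 181135) .leaf) (211225, 0, 14, 94071)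 (.node .leaf (211226, 0, 14, 252961) .leaf)) (211229, 0, 15, 87636) (.node (.node .leaf (211230, 0, 16, 107324) .leaf) (211232, 0, 15, 251187) (.node .leaf (211235, 0, 18, 223594) .leaf))))) (211236, 0, 13, 188426) (.node (.node (.node (.node (.node .leaf (211239, 0, 16, 217161) .leaf) (211240, 0, 15, 64689) (.node .leaf (211243, 0, 14, 167667) .leaf)) (211244, 0, 16, 50578) (.node (.node .leaf (211247, 0, 16, 95697) .leaf) (211248, 0, 17, 41340) (.node .leaf (211251, 0, 16, 4761) .leaf))) (211252, 0, 18, 39007) (.node (.node (.node .leaf (211255, 0, 16, 159108) .leaf) (211256, 0, 16, 84313) (.node .leaf (211259, 0, 17, 63493) .leaf)) (211260, 0, 13, 179655) (.node (.node .leaf (211263, 0, 14, 165656) .leaf) (211264, 0, 16, 192691) (.node .leaf (211267, 0, 18, 213487) .leaf)))) (211268, 0, 16, 36782) (.node (.node (.node (.node .leaf (211271, 0, 18, 81650) .leaf) (211272, 0, 16, 40386) (.node .leaf (211275, 0, 13, 240499) .leaf)) (211276, 0, 15, 25906) (.node (.node .leaf (211279, 0, 16, 119918) .leaf) (211280, 0, 17, 34373)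 (.node .leaf (211283, 0, 15, 79641) .leaf))) (211284, 0, 17, 63788) (.node (.node (.node .leaf (211287, 0, 7, 215044) .leaf) (211288, 0, 14, 189847) (.node .leaf (211291, 0, 17, 218580) .leaf)) (211292, 0, 17, 187572) (.node (.node .leaf (211295, 0, 16, 224503) .leaf) (211297, 0, 15, 119959) (.node .leaf (211298, 0, 17, 26059) .leaf))))))

/-- part of the orbit tree -/
def itp6_227 : Tree := (.node (.node (.node (.node (.node (.node .leaf (211302, 0, 14, 55977) .leaf) (211305, 0, 17, 226897) (.node .leaf (211306, 0, 16, 36695) .leaf)) (211309, 0, 18, 216946) (.node (.node .leaf (211310, 0, 16, 192586) .leaf) (211313, 0, 17, 238177) (.node .leaf (211314, 0, 18, 135997) .leaf))) (211317, 0, 13, 201407) (.node (.node (.node .leaf (211318, 0, 15, 27680) .leaf) (211321, 0, 15, 69124) (.node .leaf (211322, 0, 18, 194977) .leaf)) (211325, 0, 17, 79655) (.node (.node .leaf (211326, 0, 17, 34492) .leaf) (211329, 0, 15, 213374) (.node .leaf (211330, 0, 14, 192546) .leaf)))) (211333, 0, 15, 236691) (.node (.node (.node (.node .leaf (211334,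 0, 17, 142544) .leaf) (211337, 0, 17, 98344) (.node .leaf (211338, 0, 17, 12395) .leaf)) (211341, 0, 17, 112907) (.node (.node .leaf (211342, 0, 16, 2376) .leaf) (211345, 0, 15, 79752) (.node .leaf (211346, 0, 17, 28070) .leaf))) (211349, 0, 10, 215189) (.node (.node (.node .leaf (211350, 0, 17, 21637) .leaf) (211353, 0, 15, 260221) (.node .leaf (211354, 0, 14, 27720) .leaf)) (211357, 0, 17, 246110) (.node (.node .leaf (211358, 0, 16, 160029) .leaf) (211360, 0, 15, 25946) (.node .leaf (211363, 0, 16, 119814) .leaf))))) (211364, 0, 16, 137799) (.node (.node (.node (.node (.node .leaf (211367, 0, 16, 116547) .leaf) (211368, 0, 17, 158651) (.node .leaf (211371, 0, 13, 81562) .leaf)) (211372, 0, 18, 192731) (.node (.node .leaf (211375, 0, 17, 213383) .leaf) (211376, 0, 15, 145014) (.node .leaf (211379, 0, 17, 238320) .leaf))) (211380, 0, 10, 27825) (.node (.node (.node .leaf (211383, 0, 16, 122349) .leaf) (211384, 0, 15, 5102) (.node .leaf (211387, 0, 17, 215148) .leaf)) (211388, 0, 16, 34349) (.node (.node .leaf (211391, 0, 13,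 105102) .leaf) (211392, 0, 17, 12112) (.node .leaf (211395, 0, 15, 61830) .leaf)))) (211396, 0, 18, 212935) (.node (.node (.node (.node .leaf (211399, 0, 15, 167579) .leaf) (211400, 0, 15, 109126) (.node .leaf (211403, 0, 16, 6938) .leaf)) (211404, 0, 17, 251227) (.node (.node .leaf (211407, 0, 16, 230312) .leaf) (211408, 0, 16, 210476) (.node .leaf (211411, 0, 16, 165744) .leaf))) (211412, 0, 16, 159270) (.node (.node (.node .leaf (211415, 0, 11, 63597) .leaf) (211416, 0, 16, 253104) (.node .leaf (211419, 0, 16, 159212) .leaf)) (211420, 0, 16, 19390) (.node (.node .leaf (211423, 0, 17, 4849) .leaf) (211425, 0, 18, 246979) (.node .leaf (211426, 0, 14, 160896) .leaf))))))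

/-- part of the orbit tree -/
def itp6_228 : Tree := (.node (.node (.node (.node (.node (.node .leaf (211430, 0, 13, 150947) .leaf) (211433, 0, 16, 123227) (.node .leaf (211434, 0, 16, 20760) .leaf)) (211437, 0, 15, 120952) (.node (.node .leaf (211438, 0, 17, 81955) .leaf) (211441, 0, 18, 113814) (.node .leaf (211442, 0, 14, 3285) .leaf))) (211445, 0, 18, 158997) (.node (.node (.node .leaf (211446, 0, 16, 13814) .leaf) (211449, 0, 15, 63636) (.node .leaf (211450, 0, 17, 84424) .leaf)) (211453, 0, 17, 165769) (.node (.node .leaf (211454, 0, 15, 210645) .leaf) (211456, 0, 17, 154840) (.node .leaf (211457, 0, 16, 179390) .leaf)))) (211460, 0, 14, 13803) (.node (.node (.node (.node .leaf (211461, 0, 19, 158917) .leaf) (211464, 0, 17, 31040) (.node .leaf (211465, 0, 16, 39206) .leaf)) (211468, 0, 16, 16483) (.node (.node .leaf (211469, 0, 15, 165465) .leaf) (211472, 0, 16, 15360) (.node .leaf (211473, 0, 12, 50411) .leaf))) (211476, 0, 15, 148253) (.node (.node (.node .leaf (211477, 0, 12, 64968) .leaf) (211480, 0, 17, 131349)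 (.node .leaf (211481, 0, 15, 167858) .leaf)) (211484, 0, 14, 145462) (.node (.node .leaf (211485, 0, 16, 61615) .leaf) (211490, 0, 13, 1800) (.node .leaf (211491, 0, 17, 59246) .leaf))))) (211494, 0, 17, 15915) (.node (.node (.node (.node (.node .leaf (211495, 0, 16, 56909) .leaf) (211498, 0, 16, 139920) (.node .leaf (211499, 0, 13, 180982) .leaf)) (211502, 0, 16, 150031) (.node (.node .leaf (211503, 0, 17, 195541) .leaf) (211506, 0, 14, 163677) (.node .leaf (211507, 0, 15, 171835) .leaf))) (211510, 0, 16, 54885) (.node (.node (.node .leaf (211511, 0, 15, 167755) .leaf) (211514, 0, 16, 23237) (.node .leaf (211515, 0, 16, 47779) .leaf)) (211518, 0, 16, 25574) (.node (.node .leaf (211519, 0, 17, 157143) .leaf) (211522, 0, 16, 129550) (.node .leaf (211523, 0, 17, 238368) .leaf)))) (211526, 0, 12, 24408) (.node (.node (.node (.node .leaf (211527, 0, 16, 121917) .leaf) (211530, 0, 14, 69778) (.node .leaf (211531, 0, 13, 215484) .leaf)) (211534, 0, 15, 162496) (.node (.node .leaf (211535, 0, 16, 170662) .leaf) (211538, 0, 14, 232696)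 (.node .leaf (211539, 0, 14, 120278) .leaf))) (211542, 0, 13, 127973) (.node (.node (.node .leaf (211543, 0, 18, 240331) .leaf) (211546, 0, 10, 222820) (.node .leaf (211547, 0, 19, 56272) .leaf)) (211550, 0, 17, 72057) (.node (.node .leaf (211551, 0, 18, 58099) .leaf) (211552, 0, 15, 146859) .leaf)))))

/-- part of the orbit tree -/
def itp6_229 : Tree := (.node itp6_225 (211173, 0, 13, 24468) itp6_226)

/-- part of the orbit tree -/
def itp6_230 : Tree := (.node itp6_227 (211429, 0, 18, 7139) itp6_228)

/-- part of the orbit tree -/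
def itp6_231 : Tree := (.node itp6_223 (210786, 0, 18, 206892) itp6_224)

/-- part of the orbit tree -/
def itp6_232 : Tree := (.node itp6_229 (211301, 0, 14, 92906) itp6_230)

/-- part of the orbit tree -/
def itp6_233 : Tree := (.node (.node (.node (.node (.node (.node .leaf (211556, 0, 17, 69739) .leaf) (211557, 0, 16, 215365) (.node .leaf (211560, 0, 15, 230890) .leaf)) (211561, 0, 18, 122052) (.node (.node .leaf (211564, 0, 11, 8464) .leaf) (211565, 0, 13, 49526) (.node .leaf (211568, 0, 12, 72064) .leaf))) (211569, 0, 12, 42392) (.node (.node (.node .leaf (211572, 0, 17, 31965) .leaf) (211573, 0, 15, 81843) (.node .leaf (211576, 0, 16, 155750) .leaf)) (211577, 0, 17, 240178) (.node (.node .leaf (211580, 0, 17, 153925) .leaf) (211581, 0, 17, 178467) (.node .leaf (211584, 0, 19, 52178) .leaf)))) (211585, 0, 15, 238513) (.node (.node (.node (.node .leaf (211588, 0, 15, 230786) .leaf) (211589, 0, 14, 4759) (.node .leaf (211592, 0, 16, 192074) .leaf)) (211593, 0, 18, 215341) (.node (.node .leaf (211596, 0, 15, 225054) .leaf)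 (211597, 0, 10, 145167) (.node .leaf (211600, 0, 14, 232553) .leaf))) (211601, 0, 17, 120135) (.node (.node (.node .leaf (211604, 0, 16, 166564) .leaf) (211605, 0, 16, 158402) (.node .leaf (211608, 0, 16, 222965) .leaf)) (211609, 0, 14, 30329) (.node (.node .leaf (211612, 0, 16, 72168) .leaf) (211613, 0, 13, 213190) (.node .leaf (211618, 0, 17, 167938) .leaf))))) (211619, 0, 13, 79561) (.node (.node (.node (.node (.node .leaf (211622, 0, 15, 69882) .leaf) (211623, 0, 16, 215508) (.node .leaf (211626, 0, 16, 230779) .leaf)) (211627, 0, 18, 121941) (.node (.node .leaf (211630, 0, 18, 36025) .leaf) (211631, 0, 13, 27871) (.node .leaf (211634, 0, 16, 59479) .leaf))) (211635, 0, 17, 213055) (.node (.node (.node .leaf (211638, 0, 17, 222732) .leaf) (211639, 0, 15, 12562) (.node .leaf (211642, 0, 17, 127885) .leaf)) (211643, 0, 16, 142761) (.node (.node .leaf (211646, 0, 14, 232592) .leaf) (211647, 0, 18, 120254) (.node .leaf (211650, 0, 15, 192881) .leaf)))) (211651, 0, 16, 135447) (.node (.node (.node (.node .leaf (211654, 0, 13,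 182354) .leaf) (211655, 0, 17, 158804) (.node .leaf (211658, 0, 15, 54505) .leaf)) (211659, 0, 16, 63957) (.node (.node .leaf (211662, 0, 14, 60874) .leaf) (211663, 0, 15, 165576) (.node .leaf (211666, 0, 17, 35108) .leaf))) (211667, 0, 16, 26946) (.node (.node (.node .leaf (211670, 0, 17, 148364) .leaf) (211671, 0, 14, 20577) (.node .leaf (211674, 0, 15, 54797) .leaf)) (211675, 0, 17, 167715) (.node (.node .leaf (211678, 0, 13, 174352) .leaf) (211679, 0, 18, 161273) (.node .leaf (211680, 0, 17, 43681) .leaf))))))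

/-- part of the orbit tree -/
def itp6_234 : Tree := (.node (.node (.node (.node (.node (.node .leaf (211684, 0, 15, 37762) .leaf) (211685, 0, 16, 29668) (.node .leaf (211688, 0, 14, 167737) .leaf)) (211689, 0, 19, 158893) (.node (.node .leaf (211692, 0, 12, 150174) .leaf) (211693, 0, 15, 5040) (.node .leaf (211696, 0, 15, 174569) .leaf))) (211697, 0, 16, 144018) (.node (.node (.node .leaf (211700, 0, 17, 55028) .leaf) (211701, 0, 17, 167898) (.node .leaf (211704, 0, 16, 148341) .leaf)) (211705, 0, 17, 6747) (.node (.node .leaf (211708, 0, 14, 15464) .leaf) (211709, 0, 16, 156998) (.node .leaf (211712, 0, 16, 175381) .leaf)))) (211713, 0, 18, 73418) (.node (.node (.node (.node .leaf (211716, 0, 15, 116623) .leaf) (211717, 0, 16, 75753) (.node .leaf (211720, 0, 14, 252724) .leaf)) (211721, 0, 16, 7847) (.node (.node .leaf (211724, 0, 18, 254487) .leaf) (211725, 0, 18, 197233) (.node .leaf (211728, 0, 14, 56291) .leaf))) (211729, 0, 15, 164557) (.node (.node (.node .leaf (211732, 0, 18, 245722) .leaf) (211733, 0, 15, 221116)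 (.node .leaf (211736, 0, 16, 107361) .leaf)) (211737, 0, 15, 157777) (.node (.node .leaf (211740, 0, 17, 151138) .leaf) (211741, 0, 15, 96804) (.node .leaf (211746, 0, 13, 238972) .leaf))))) (211747, 0, 17, 214298) (.node (.node (.node (.node (.node .leaf (211750, 0, 18, 236639) .leaf) (211751, 0, 17, 7774) (.node .leaf (211754, 0, 16, 98532) .leaf)) (211755, 0, 15, 166879) (.node (.node .leaf (211758, 0, 16, 113095) .leaf) (211759, 0, 16, 88481) (.node .leaf (211762, 0, 14, 122153) .leaf))) (211763, 0, 15, 81231) (.node (.node (.node .leaf (211766, 0, 17, 12678) .leaf) (211767, 0, 14, 157864) (.node .leaf (211770, 0, 16, 173063) .leaf)) (211771, 0, 15, 202967) (.node (.node .leaf (211774, 0, 17, 246162) .leaf) (211775, 0, 15, 205300) (.node .leaf (211778, 0, 15, 246799) .leaf)))) (211779, 0, 13, 214211) (.node (.node (.node (.node .leaf (211782, 0, 16, 221936) .leaf) (211783, 0, 14, 80862) (.node .leaf (211786, 0, 17, 123287) .leaf)) (211787, 0, 15, 241247) (.node (.node .leaf (211790, 0, 14, 231532) .leaf) (211791, 0, 15,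 119106) (.node .leaf (211794, 0, 16, 113754) .leaf))) (211795, 0, 16, 78389) (.node (.node (.node .leaf (211798, 0, 14, 70662) .leaf) (211799, 0, 15, 91423) (.node .leaf (211802, 0, 18, 235970) .leaf)) (211803, 0, 16, 227748) (.node (.node .leaf (211806, 0, 12, 130714) .leaf) (211807, 0, 16, 213127) (.node .leaf (211808, 0, 16, 231573) .leaf))))))

/-- part of the orbit tree -/
def itp6_235 : Tree := (.node (.node (.node (.node (.node (.node .leaf (211812, 0, 16, 108284) .leaf) (211813, 0, 16, 83610) (.node .leaf (211816, 0, 17, 244295) .leaf)) (211817, 0, 16, 80679) (.node (.node .leaf (211820, 0, 16, 230244) .leaf) (211821, 0, 16, 221954) (.node .leaf (211824, 0, 18, 255882) .leaf))) (211825, 0, 14, 239437) (.node (.node (.node .leaf (211828, 0, 16, 253609) .leaf) (211829, 0, 17, 212687) (.node .leaf (211832, 0, 14, 70911) .leaf)) (211833, 0, 14, 74356) (.node (.node .leaf (211836, 0, 12, 224226) .leaf) (211837, 0, 17, 78540) (.node .leaf (211840, 0, 17, 223654) .leaf)))) (211841, 0, 15, 214098) (.node (.node (.node (.node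 .leaf (211844, 0, 15, 217221) .leaf) (211845, 0, 16, 80719) (.node .leaf (211848, 0, 17, 128992) .leaf)) (211849, 0, 18, 241358) (.node (.node .leaf (211852, 0, 13, 95517) .leaf) (211853, 0, 18, 119251) (.node .leaf (211856, 0, 17, 224138) .leaf))) (211857, 0, 18, 78500) (.node (.node (.node .leaf (211860, 0, 16, 75984) .leaf) (211861, 0, 7, 116918) (.node .leaf (211864, 0, 18, 229654) .leaf)) (211865, 0, 14, 250893) (.node (.node .leaf (211868, 0, 13, 200008) .leaf) (211869, 0, 17, 239397) (.node .leaf (211874, 0, 15, 78454) .leaf))))) (211875, 0, 17, 119082) (.node (.node (.node (.node (.node .leaf (211878, 0, 15, 128793) .leaf) (211879, 0, 15, 241207) (.node .leaf (211882, 0, 18, 221848) .leaf)) (211883, 0, 13, 259976) (.node (.node .leaf (211886, 0, 16, 208589) .leaf) (211887, 0, 10, 214187) (.node .leaf (211890, 0, 18, 130802) .leaf))) (211891, 0, 15, 239580) (.node (.node (.node .leaf (211894, 0, 17, 226048) .leaf) (211895, 0, 18, 234342) (.node .leaf (211898, 0, 16, 70766) .leaf)) (211899, 0, 17, 216384) (.node (.node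 .leaf (211902, 0, 15, 87704) .leaf) (211903, 0, 17, 78429) (.node .leaf (211906, 0, 16, 175492) .leaf)))) (211907, 0, 14, 62634) (.node (.node (.node (.node .leaf (211910, 0, 15, 92710) .leaf) (211911, 0, 17, 166839) (.node .leaf (211914, 0, 17, 149272) .leaf)) (211915, 0, 15, 7734) (.node (.node .leaf (211918, 0, 17, 217022) .leaf) (211919, 0, 16, 155947) (.node .leaf (211922, 0, 18, 56178) .leaf))) (211923, 0, 15, 164444) (.node (.node (.node .leaf (211926, 0, 14, 173167) .leaf) (211927, 0, 16, 258581) (.node .leaf (211930, 0, 16, 12782) .leaf)) (211931, 0, 19, 126638) (.node (.node .leaf (211934, 0, 15, 79851) .leaf) (211935, 0, 14, 6109) (.node .leaf (211936, 0, 16, 198869) .leaf))))))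

/-- part of the orbit tree -/
def itp6_236 : Tree := (.node (.node (.node (.node (.node (.node .leaf (211940, 0, 17, 149473) .leaf) (211941, 0, 15, 7887) (.node .leaf (211944, 0, 17, 77133) .leaf)) (211945, 0, 19, 118059) (.node (.node .leaf (211948, 0, 15, 175485) .leaf) (211949, 0, 18, 62547) (.node .leaf (211952, 0, 18, 94336) .leaf))) (211953, 0, 18, 102630) (.node (.node (.node .leaf (211956, 0, 14, 84387) .leaf) (211957, 0, 15, 108997) (.node .leaf (211960, 0, 15, 173206) .leaf)) (211961, 0, 14, 64952) (.node (.node .leaf (211964, 0, 14, 224315) .leaf) (211965, 0, 15, 164517) (.node .leaf (211968, 0, 17, 223744) .leaf)))) (211970, 0, 15, 145957) (.node (.node (.node (.node .leaf (211972, 0, 16, 217891) .leaf) (211974, 0, 16, 54593) (.node .leaf (211976, 0, 17, 85912) .leaf)) (211978, 0, 17, 147648) (.node (.node .leaf (211980, 0, 14, 95931) .leaf) (211982, 0, 17, 16349) (.node .leaf (211984, 0, 18, 70229) .leaf))) (211986, 0, 16, 17008) (.node (.node (.node .leaf (211988, 0, 15, 84933) .leaf) (211990, 0, 17, 31571) (.node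 .leaf (211992, 0, 18, 253508) .leaf)) (211994, 0, 15, 157672) (.node (.node .leaf (211996, 0, 16, 200430) .leaf) (211998, 0, 10, 149803) (.node .leaf (212001, 0, 17, 157194) .leaf))))) (212003, 0, 16, 119222) (.node (.node (.node (.node (.node .leaf (212005, 0, 18, 47280) .leaf) (212007, 0, 15, 258405) (.node .leaf (212009, 0, 15, 173067) .leaf)) (212011, 0, 15, 259118) (.node (.node .leaf (212013, 0, 15, 171304) .leaf) (212015, 0, 14, 203769) (.node .leaf (212017, 0, 15, 195014) .leaf))) (212019, 0, 15, 240099) (.node (.node (.node .leaf (212021, 0, 17, 180453) .leaf) (212023, 0, 15, 233664) (.node .leaf (212025, 0, 15, 64096) .leaf)) (212027, 0, 14, 101499) (.node (.node .leaf (212029, 0, 15, 58749) .leaf) (212031, 0, 18, 111960) (.node .leaf (212033, 0, 17, 213898) .leaf)))) (212035, 0, 17, 110789) (.node (.node (.node (.node .leaf (212037, 0, 15, 55747) .leaf) (212039, 0, 11, 185573) (.node .leaf (212041, 0, 16, 181624) .leaf)) (212043, 0, 15, 234845) (.node (.node .leaf (212045, 0, 17, 195675) .leaf) (212047, 0, 15, 240766)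 (.node .leaf (212049, 0, 16, 79228) .leaf))) (212051, 0, 13, 247952) (.node (.node (.node .leaf (212053, 0, 18, 172438) .leaf) (212055, 0, 15, 41491) (.node .leaf (212057, 0, 18, 122848) .leaf)) (212059, 0, 16, 126216) (.node (.node .leaf (212061, 0, 17, 33806) .leaf) (212063, 0, 15, 119851) (.node .leaf (212064, 0, 16, 26542) .leaf))))))

/-- part of the orbit tree -/
def itp6_237 : Tree := (.node itp6_233 (211681, 0, 18, 19143) itp6_234)

/-- part of the orbit tree -/
def itp6_238 : Tree := (.node itp6_235 (211937, 0, 18, 256179) itp6_236)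

/-- part of the orbit tree -/
def itp6_239 : Tree := (.node (.node (.node (.node (.node (.node .leaf (212068, 0, 17, 209488) .leaf) (212070, 0, 19, 127169) (.node .leaf (212072, 0, 18, 77547) .leaf)) (212074, 0, 16, 32462) (.node (.node .leaf (212076, 0, 5, 193071) .leaf) (212078, 0, 17, 72285) (.node .leaf (212080, 0, 16, 135512) .leaf))) (212082, 0, 15, 129322) (.node (.node (.node .leaf (212084, 0, 16, 28229) .leaf) (212086, 0, 16, 6688) (.node .leaf (212088, 0, 18, 218814) .leaf)) (212090, 0, 16, 70582) (.node (.node .leaf (212092, 0, 13, 34009) .leaf) (212094, 0, 16, 224427) (.node .leaf (212096, 0, 14, 130314) .leaf)))) (212098, 0, 18, 44335) (.node (.node (.node (.node .leaf (212100, 0, 15, 115753) .leaf) (212102, 0, 11, 222504) (.node .leaf (212104, 0, 14, 137435) .leaf)) (212106, 0, 14, 166071) (.node (.node .leaf (212108, 0, 14, 26566) .leaf) (212110, 0, 16, 233396) (.node .leaf (212112, 0, 15, 33969) .leaf))) (212114, 0, 19, 185722) (.node (.node (.node .leaf (212116, 0, 15, 195500) .leaf) (212118, 0, 15, 191577)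 (.node .leaf (212120, 0, 17, 106695) .leaf)) (212122, 0, 16, 61666) (.node (.node .leaf (212124, 0, 18, 104932) .leaf) (212126, 0, 16, 51649) (.node .leaf (212129, 0, 10, 136857) .leaf))))) (212131, 0, 16, 146961) (.node (.node (.node (.node (.node .leaf (212133, 0, 16, 143290) .leaf) (212135, 0, 16, 16652) (.node .leaf (212137, 0, 17, 13057) .leaf)) (212139, 0, 9, 185485) (.node (.node .leaf (212141, 0, 18, 2594) .leaf) (212143, 0, 18, 43920) (.node .leaf (212145, 0, 17, 28364) .leaf))) (212147, 0, 17, 18663) (.node (.node (.node .leaf (212149, 0, 19, 122760) .leaf) (212151, 0, 15, 67530) (.node .leaf (212153, 0, 16, 150356) .leaf)) (212155, 0, 14, 41595) (.node (.node .leaf (212157, 0, 17, 79124) .leaf) (212159, 0, 19, 187750) (.node .leaf (212161, 0, 16, 62435) .leaf)))) (212163, 0, 17, 203665) (.node (.node (.node (.node .leaf (212165, 0, 17, 167166) .leaf) (212167, 0, 14, 91276) (.node .leaf (212169, 0, 17, 21106) .leaf)) (212171, 0, 15, 66135) (.node (.node .leaf (212173, 0, 17, 157282) .leaf) (212175, 0, 17, 80756) (.node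 .leaf (212177, 0, 16, 165141) .leaf))) (212179, 0, 18, 90010) (.node (.node (.node .leaf (212181, 0, 13, 13980) .leaf) (212183, 0, 19, 91833) (.node .leaf (212185, 0, 13, 159625) .leaf)) (212187, 0, 16, 227842) (.node (.node .leaf (212189, 0, 17, 4244) .leaf) (212191, 0, 15, 260326) (.node .leaf (212192, 0, 16, 105593) .leaf))))))

/-- part of the orbit tree -/
def itp6_240 : Tree := (.node (.node (.node (.node (.node (.node .leaf (212196, 0, 16, 107866) .leaf) (212198, 0, 16, 62847) (.node .leaf (212200, 0, 17, 212315) .leaf)) (212202, 0, 15, 190916) (.node (.node .leaf (212204, 0, 19, 82502) .leaf) (212206, 0, 14, 174644) (.node .leaf (212208, 0, 18, 255020) .leaf))) (212210, 0, 18, 149827) (.node (.node (.node .leaf (212212, 0, 17, 253199) .leaf) (212214, 0, 16, 13918) (.node .leaf (212216, 0, 13, 115124) .leaf)) (212218, 0, 17, 37265) (.node (.node .leaf (212220, 0, 5, 129175) .leaf) (212222, 0, 14, 56514) (.node .leaf (212224, 0, 18, 107981) .leaf)))) (212226, 0, 10, 104529) (.node (.node (.node (.node .leaf (212228, 0,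 15, 61783) .leaf) (212230, 0, 18, 106866) (.node .leaf (212232, 0, 15, 85841) .leaf)) (212234, 0, 17, 173859) (.node (.node .leaf (212236, 0, 15, 208972) .leaf) (212238, 0, 13, 230634) (.node .leaf (212240, 0, 17, 176161) .leaf))) (212242, 0, 17, 253956) (.node (.node (.node .leaf (212244, 0, 16, 109606) .leaf) (212246, 0, 13, 252199) (.node .leaf (212248, 0, 17, 211367) .leaf)) (212250, 0, 12, 53717) (.node (.node .leaf (212252, 0, 15, 44186) .leaf) (212254, 0, 18, 175816) (.node .leaf (212257, 0, 17, 164329) .leaf))))) (212259, 0, 18, 160706) (.node (.node (.node (.node (.node .leaf (212261, 0, 17, 65268) .leaf) (212263, 0, 12, 202374) (.node .leaf (212265, 0, 14, 158581) .leaf)) (212267, 0, 15, 22106) (.node (.node .leaf (212269, 0, 16, 81756) .leaf) (212271, 0, 16, 28537) (.node .leaf (212273, 0, 16, 89010) .leaf))) (212275, 0, 17, 2967) (.node (.node (.node .leaf (212277, 0, 17, 90769) .leaf) (212279, 0, 16, 12980) (.node .leaf (212281, 0, 13, 7555) .leaf)) (212283, 0, 18, 259569) (.node (.node .leaf (212285, 0, 15, 156318)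 .leaf) (212287, 0, 13, 101100) (.node .leaf (212289, 0, 18, 238697) .leaf)))) (212291, 0, 17, 19483) (.node (.node (.node (.node .leaf (212293, 0, 15, 121716) .leaf) (212295, 0, 12, 144134) (.node .leaf (212297, 0, 16, 216821) .leaf)) (212299, 0, 18, 42631) (.node (.node .leaf (212301, 0, 13, 78312) .leaf) (212303, 0, 14, 186778) (.node .leaf (212305, 0, 18, 80577) .leaf))) (212307, 0, 18, 146157) (.node (.node (.node .leaf (212309, 0, 16, 66530) .leaf) (212311, 0, 16, 17904) (.node .leaf (212313, 0, 14, 204633) .leaf)) (212315, 0, 16, 184433) (.node (.node .leaf (212317, 0, 17, 214814) .leaf) (212319, 0, 16, 161375) (.node .leaf (212320, 0, 17, 43271) .leaf))))))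

/-- part of the orbit tree -/
def itp6_241 : Tree := (.node (.node (.node (.node (.node (.node .leaf (212324, 0, 19, 36900) .leaf) (212326, 0, 14, 71458) (.node .leaf (212328, 0, 15, 167071) .leaf)) (212330, 0, 18, 230051) (.node (.node .leaf (212332, 0, 17, 136652) .leaf) (212334, 0, 14, 130494) (.node .leaf (212336, 0, 17, 184658) .leaf))) (212338, 0, 18, 229751) (.node (.node (.node .leaf (212340, 0, 17, 35238) .leaf) (212342, 0, 15, 243796) (.node .leaf (212344, 0, 14, 138279) .leaf)) (212346, 0, 18, 128085) (.node (.node .leaf (212348, 0, 15, 25402) .leaf) (212350, 0, 18, 105932) (.node .leaf (212352, 0, 14, 155518) .leaf)))) (212354, 0, 18, 200539) (.node (.node (.node (.node .leaf (212356, 0, 18, 27321) .leaf) (212358, 0, 15, 230091) (.node .leaf (212360, 0, 13, 31462) .leaf)) (212362, 0, 17, 71498) (.node (.node .leaf (212364, 0, 14, 32805) .leaf) (212366, 0, 16, 70624) (.node .leaf (212368, 0, 18, 25426) .leaf))) (212370, 0, 14, 96014) (.node (.node (.node .leaf (212372, 0, 16, 7688) .leaf) (212374, 0, 17, 128061)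 (.node .leaf (212376, 0, 18, 131763) .leaf)) (212378, 0, 16, 217750) (.node (.node .leaf (212380, 0, 12, 146320) .leaf) (212382, 0, 17, 73377) (.node .leaf (212385, 0, 13, 111853) .leaf))))) (212387, 0, 18, 58568) (.node (.node (.node (.node (.node .leaf (212389, 0, 19, 101838) .leaf) (212391, 0, 15, 42735) (.node .leaf (212393, 0, 15, 233845) .leaf)) (212395, 0, 15, 144238) (.node (.node .leaf (212397, 0, 17, 238593) .leaf) (212399, 0, 10, 194675) (.node .leaf (212401, 0, 15, 249016) .leaf))) (212403, 0, 18, 171165) (.node (.node (.node .leaf (212405, 0, 13, 79979) .leaf) (212407, 0, 16, 184345) (.node .leaf (212409, 0, 16, 241130) .leaf)) (212411, 0, 17, 47365) (.node (.node .leaf (212413, 0, 17, 119543) .leaf) (212415, 0, 15, 32806) (.node .leaf (212417, 0, 15, 120222) .leaf)))) (212419, 0, 17, 34235) (.node (.node (.node (.node .leaf (212421, 0, 17, 158493) .leaf) (212423, 0, 17, 48280) (.node .leaf (212425, 0, 16, 258054) .leaf)) (212427, 0, 16, 172067) (.node (.node .leaf (212429, 0, 16, 164225) .leaf) (212431, 0, 15,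 92659) (.node .leaf (212433, 0, 12, 156406) .leaf))) (212435, 0, 16, 100996) (.node (.node (.node .leaf (212437, 0, 14, 7659) .leaf) (212439, 0, 14, 181453) (.node .leaf (212441, 0, 16, 165994) .leaf)) (212443, 0, 18, 90136) (.node (.node .leaf (212445, 0, 17, 110960) .leaf) (212447, 0, 16, 57685) (.node .leaf (212448, 0, 15, 146957) .leaf))))))

/-- part of the orbit tree -/
def itp6_242 : Tree := (.node (.node (.node (.node (.node (.node .leaf (212452, 0, 17, 85817) .leaf) (212454, 0, 19, 173899) (.node .leaf (212456, 0, 9, 7061) .leaf)) (212458, 0, 18, 13002) (.node (.node .leaf (212460, 0, 17, 8886) .leaf) (212462, 0, 15, 150999) (.node .leaf (212464, 0, 15, 83666) .leaf))) (212466, 0, 17, 71293) (.node (.node (.node .leaf (212468, 0, 17, 211407) .leaf) (212470, 0, 15, 53693) (.node .leaf (212472, 0, 16, 156608) .leaf)) (212474, 0, 16, 209893) (.node (.node .leaf (212476, 0, 17, 250707) .leaf) (212478, 0, 17, 15137) (.node .leaf (212512, 0, 15, 14856) .leaf)))) (212513, 0, 14, 44515) (.node (.node (.node (.node .leaf (212514,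 0, 18, 250490) .leaf) (212515, 0, 13, 130502) (.node .leaf (212516, 0, 16, 148757) .leaf)) (212517, 0, 13, 7227) (.node (.node .leaf (212518, 0, 15, 74883) .leaf) (212519, 0, 14, 259145) (.node .leaf (212520, 0, 16, 53396) .leaf))) (212521, 0, 17, 166011) (.node (.node (.node .leaf (212522, 0, 17, 211174) .leaf) (212523, 0, 12, 90568) (.node .leaf (212524, 0, 14, 151870) .leaf)) (212525, 0, 14, 63143) (.node (.node .leaf (212526, 0, 17, 83963) .leaf) (212527, 0, 14, 254333) (.node .leaf (212528, 0, 17, 150782) .leaf))))) (212529, 0, 19, 185782) (.node (.node (.node (.node (.node .leaf (212530, 0, 17, 107660) .leaf) (212531, 0, 14, 261538) (.node .leaf (212532, 0, 16, 13283) .leaf)) (212533, 0, 16, 158413) (.node (.node .leaf (212534, 0, 14, 220374) .leaf) (212535, 0, 18, 244912) (.node .leaf (212536, 0, 16, 173666) .leaf))) (212537, 0, 16, 65356) (.node (.node (.node .leaf (212538, 0, 16, 82029) .leaf) (212539, 0, 15, 202558) (.node .leaf (212540, 0, 14, 10603) .leaf)) (212541, 0, 16, 163921) (.node (.node .leaf (212542, 0,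 10, 209165) .leaf) (212543, 0, 14, 104744) (.node .leaf (212544, 0, 17, 73608) .leaf)))) (212545, 0, 16, 52368) (.node (.node (.node (.node .leaf (212546, 0, 7, 194554) .leaf) (212547, 0, 15, 105653) (.node .leaf (212548, 0, 16, 5589) .leaf)) (212549, 0, 17, 62899) (.node (.node .leaf (212550, 0, 15, 83440) .leaf) (212551, 0, 16, 184777) (.node .leaf (212552, 0, 17, 128276) .leaf))) (212553, 0, 11, 190728) (.node (.node (.node .leaf (212554, 0, 17, 219467) .leaf) (212555, 0, 18, 244013) (.node .leaf (212556, 0, 17, 143437) .leaf)) (212557, 0, 17, 184363) (.node (.node .leaf (212558, 0, 14, 221288) .leaf) (212559, 0, 16, 229390) .leaf)))))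

/-- part of the orbit tree -/
def itp6_243 : Tree := (.node itp6_239 (212194, 0, 14, 16309) itp6_240)

/-- part of the orbit tree -/
def itp6_244 : Tree := (.node itp6_241 (212450, 0, 15, 224808) itp6_242)

/-- part of the orbit tree -/
def itp6_245 : Tree := (.node itp6_237 (211809, 0, 16, 119227) itp6_238)

/-- part of the orbit tree -/
def itp6_246 : Tree := (.node itp6_243 (212322, 0, 16, 129314) itp6_244)

/-- part of the orbit tree -/
def itp6_247 : Tree := (.node itp6_231 (211045, 0, 16, 216169) itp6_232)

/-- part of the orbit tree -/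
def itp6_248 : Tree := (.node itp6_245 (212066, 0, 17, 154454) itp6_246)

/-- part of the orbit tree -/
def itp6_249 : Tree := (.node itp6_217 (209509, 0, 16, 39666) itp6_218)

/-- part of the orbit tree -/
def itp6_250 : Tree := (.node itp6_247 (211553, 0, 16, 79448) itp6_248)

/-- part of the orbit tree -/
def itp6_251 : Tree := (.node itp6_187 (206442, 0, 16, 211376) itp6_188)

/-- part of the orbit tree -/
def itp6_252 : Tree := (.node itp6_249 (210530, 0, 15, 2362) itp6_250)

/-- part of the orbit tree -/
def itp6_253 : Tree := (.node itp6_125 (200308, 0, 16, 172123) itp6_126)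

/-- part of the orbit tree -/
def itp6_254 : Tree := (.node itp6_251 (208484, 0, 17, 133938) itp6_252)

/-- part of the orbit tree -/
def itp6_255 : Tree := (.node (.node (.node (.node (.node (.node .leaf (212561, 0, 14, 177349) .leaf) (212562, 0, 16, 197766) (.node .leaf (212563, 0, 17, 255200) .leaf)) (212564, 0, 17, 71267) (.node (.node .leaf (212565, 0, 15, 216909) .leaf) (212566, 0, 11, 196113) (.node .leaf (212567, 0, 18, 42815) .leaf))) (212568, 0, 16, 28987) (.node (.node (.node .leaf (212569, 0, 17, 37213) .leaf) (212570, 0, 18, 74014) (.node .leaf (212571, 0, 15, 115064) .leaf)) (212572, 0, 15, 18456) (.node (.node .leaf (212573, 0, 13, 43134) .leaf) (212574, 0, 16, 136333) (.node .leaf (212575, 0, 14, 129115) .leaf)))) (212640, 0, 16, 232033) (.node (.node (.node (.node .leaf (212641, 0, 16, 146153) .leaf) (212642, 0, 14, 25107) (.node .leaf (212643, 0, 15, 146237) .leaf)) (212644, 0, 15, 189356) (.node (.node .leaf (212645, 0, 18, 240722) .leaf) (212646, 0, 16, 242569) (.node .leaf (212647, 0, 15, 218095) .leaf)))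 (212648, 0, 16, 221437) (.node (.node (.node .leaf (212649, 0, 14, 8049) .leaf) (212650, 0, 14, 34959) (.node .leaf (212651, 0, 14, 85844) .leaf)) (212652, 0, 17, 50740) (.node (.node .leaf (212653, 0, 16, 9810) .leaf) (212654, 0, 14, 194450) (.node .leaf (212655, 0, 14, 44732) .leaf))))) (212656, 0, 18, 41690) (.node (.node (.node (.node (.node .leaf (212657, 0, 15, 239033) .leaf) (212658, 0, 15, 127743) (.node .leaf (212659, 0, 13, 70297) .leaf)) (212660, 0, 17, 230282) (.node (.node .leaf (212661, 0, 17, 121508) .leaf) (212662, 0, 15, 117724) (.node .leaf (212663, 0, 14, 144086) .leaf))) (212664, 0, 16, 165698) (.node (.node (.node .leaf (212665, 0, 15, 157476) .leaf) (212666, 0, 17, 251751) (.node .leaf (212667, 0, 16, 42839) .leaf)) (212668, 0, 18, 179809) (.node (.node .leaf (212669, 0, 18, 155143) .leaf) (212670, 0, 17, 257604) (.node .leaf (212671, 0, 13, 200226) .leaf)))) (212672, 0, 16, 176097) (.node (.node (.node (.node .leaf (212673, 0, 17, 154522) .leaf) (212674, 0, 15, 256985) (.node .leaf (212675, 0, 15, 204477)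 .leaf)) (212676, 0, 16, 164575) (.node (.node .leaf (212677, 0, 17, 156345) .leaf) (212678, 0, 9, 211086) (.node .leaf (212679, 0, 16, 209564) .leaf))) (212680, 0, 15, 148861) (.node (.node (.node .leaf (212681, 0, 18, 7251) .leaf) (212682, 0, 14, 109839) (.node .leaf (212683, 0, 17, 77351) .leaf)) (212684, 0, 17, 14944) (.node (.node .leaf (212685, 0, 17, 18209) .leaf) (212686, 0, 18, 128866) (.node .leaf (212687, 0, 16, 71428) .leaf))))))

/-- part of the orbit tree -/
def itp6_256 : Tree := (.node (.node (.node (.node (.node (.node .leaf (212689, 0, 16, 9167) .leaf) (212690, 0, 16, 209253) (.node .leaf (212691, 0, 12, 95210) .leaf)) (212692, 0, 18, 173578) (.node (.node .leaf (212693, 0, 13, 6892) .leaf) (212694, 0, 16, 109231) (.node .leaf (212695, 0, 15, 84681) .leaf))) (212696, 0, 18, 190001) (.node (.node (.node .leaf (212697, 0, 17, 158373) .leaf) (212698, 0, 16, 243220) (.node .leaf (212699, 0, 16, 218738) .leaf)) (212700, 0, 17, 188178) (.node (.node .leaf (212701, 0, 15, 147316) .leaf) (212702, 0, 15, 233271) (.node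 .leaf (212703, 0, 17, 225105) .leaf)))) (212768, 0, 17, 258033) (.node (.node (.node (.node .leaf (212769, 0, 17, 200599) .leaf) (212770, 0, 15, 210329) (.node .leaf (212771, 0, 15, 93367) .leaf)) (212772, 0, 16, 251602) (.node (.node .leaf (212773, 0, 16, 210612) .leaf) (212774, 0, 19, 165623) (.node .leaf (212775, 0, 14, 157329) .leaf))) (212776, 0, 14, 117353) (.node (.node (.node .leaf (212777, 0, 19, 76303) .leaf) (212778, 0, 16, 39500) (.node .leaf (212779, 0, 14, 99883) .leaf)) (212780, 0, 18, 127818) (.node (.node .leaf (212781, 0, 14, 4420) .leaf) (212782, 0, 16, 41839) (.node .leaf (212783, 0, 16, 17161) .leaf))))) (212784, 0, 16, 174877) (.node (.node (.node (.node (.node .leaf (212785, 0, 12, 62003) .leaf) (212786, 0, 15, 51073) (.node .leaf (212787, 0, 16, 10215) .leaf)) (212788, 0, 18, 110215) (.node (.node .leaf (212789, 0, 16, 85729) .leaf) (212790, 0, 16, 212082) (.node .leaf (212791, 0, 15, 91484) .leaf))) (212792, 0, 16, 242236) (.node (.node (.node .leaf (212793, 0, 17, 6319) .leaf) (212794, 0, 16, 188953)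 (.node .leaf (212795, 0, 9, 131711) .leaf)) (212796, 0, 16, 232223) (.node (.node .leaf (212797, 0, 16, 157618) .leaf) (212798, 0, 17, 187194) (.node .leaf (212799, 0, 12, 146268) .leaf)))) (212800, 0, 18, 233090) (.node (.node (.node (.node .leaf (212801, 0, 16, 224996) .leaf) (212802, 0, 17, 188071) (.node .leaf (212803, 0, 13, 18743) .leaf)) (212804, 0, 11, 243617) (.node (.node .leaf (212805, 0, 17, 122456) .leaf) (212806, 0, 14, 28420) (.node .leaf (212807, 0, 13, 133090) .leaf))) (212808, 0, 17, 109338) (.node (.node (.node .leaf (212809, 0, 16, 216025) .leaf) (212810, 0, 16, 64319) (.node .leaf (212811, 0, 16, 7001) .leaf)) (212812, 0, 18, 224746) (.node (.node .leaf (212813, 0, 17, 79044) .leaf) (212814, 0, 13, 34200) (.node .leaf (212815, 0, 8, 8826) .leaf))))))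

/-- part of the orbit tree -/
def itp6_257 : Tree := (.node (.node (.node (.node (.node (.node .leaf (212817, 0, 16, 120755) .leaf) (212818, 0, 19, 26351) (.node .leaf (212819, 0, 16, 18068) .leaf)) (212820, 0, 17, 118772) (.node (.node .leaf (212821, 0, 18, 77714) .leaf) (212822, 0, 15, 40913) (.node .leaf (212823, 0, 18, 16604) .leaf))) (212824, 0, 14, 222209) (.node (.node (.node .leaf (212825, 0, 17, 209705) .leaf) (212826, 0, 16, 35955) (.node .leaf (212827, 0, 15, 185693) .leaf)) (212828, 0, 17, 72476) (.node (.node .leaf (212829, 0, 18, 199178) .leaf) (212830, 0, 16, 178761) (.node .leaf (212831, 0, 16, 43584) .leaf)))) (212896, 0, 15, 96507) (.node (.node (.node (.node .leaf (212897, 0, 16, 79020) .leaf) (212898, 0, 16, 34288) (.node .leaf (212899, 0, 15, 51384) .leaf)) (212900, 0, 15, 70303) (.node (.node .leaf (212901, 0, 16, 215985) .leaf) (212902, 0, 15, 195309) (.node .leaf (212903, 0, 15, 41923) .leaf))) (212904, 0, 15, 220515) (.node (.node (.node .leaf (212905, 0, 14, 244997) .leaf) (212906, 0, 18, 134470)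 (.node .leaf (212907, 0, 17, 144962) .leaf)) (212908, 0, 14, 129027) (.node (.node .leaf (212909, 0, 16, 230438) .leaf) (212910, 0, 16, 135281) (.node .leaf (212911, 0, 17, 18783) .leaf))))) (212912, 0, 15, 196782) (.node (.node (.node (.node (.node .leaf (212913, 0, 14, 254152) .leaf) (212914, 0, 14, 193286) (.node .leaf (212915, 0, 13, 176365) .leaf)) (212916, 0, 16, 222313) (.node (.node .leaf (212917, 0, 16, 252395) .leaf) (212918, 0, 16, 158120) (.node .leaf (212919, 0, 16, 185653) .leaf))) (212920, 0, 18, 127464) (.node (.node (.node .leaf (212921, 0, 17, 239814) .leaf) (212922, 0, 16, 29971) (.node .leaf (212923, 0, 16, 38261) .leaf)) (212924, 0, 15, 72725) (.node (.node .leaf (212925, 0, 16, 130163) .leaf) (212926, 0, 18, 26247) (.node .leaf (212927, 0, 13, 44118) .leaf)))) (212928, 0, 15, 72072) (.node (.node (.node (.node .leaf (212929, 0, 17, 129518) .leaf) (212930, 0, 16, 18861) (.node .leaf (212931, 0, 16, 43467) .leaf)) (212932, 0, 18, 73899) (.node (.node .leaf (212933, 0, 15, 159281) .leaf) (212934, 0, 10, 253805)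 (.node .leaf (212935, 0, 17, 37096) .leaf))) (212936, 0, 16, 172702) (.node (.node (.node .leaf (212937, 0, 16, 64432) .leaf) (212938, 0, 16, 158773) (.node .leaf (212939, 0, 16, 201666) .leaf)) (212940, 0, 13, 56707) (.node (.node .leaf (212941, 0, 17, 255317) .leaf) (212942, 0, 18, 152854) (.node .leaf (212943, 0, 17, 93407) .leaf))))))

/-- part of the orbit tree -/
def itp6_258 : Tree := (.node (.node (.node (.node (.node (.node .leaf (212945, 0, 13, 229819) .leaf) (212946, 0, 18, 143864) (.node .leaf (212947, 0, 17, 102312) .leaf)) (212948, 0, 16, 219390) (.node (.node .leaf (212949, 0, 17, 243864) .leaf) (212950, 0, 15, 133339) (.node .leaf (212951, 0, 16, 190653) .leaf))) (212952, 0, 16, 54376) (.node (.node (.node .leaf (212953, 0, 18, 167238) .leaf) (212954, 0, 15, 5216) (.node .leaf (212955, 0, 17, 91444) .leaf)) (212956, 0, 15, 174965) (.node (.node .leaf (212957, 0, 18, 105728) .leaf) (212958, 0, 16, 82695) (.node .leaf (212959, 0, 17, 52517) .leaf)))) (212993, 0, 14, 248185) (.node (.node (.node (.node .leaf (212994,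 0, 19, 50023) .leaf) (212996, 0, 19, 200764) (.node .leaf (212999, 0, 16, 58708) .leaf)) (213000, 0, 14, 68743) (.node (.node .leaf (213003, 0, 16, 159957) .leaf) (213005, 0, 14, 120258) (.node .leaf (213006, 0, 17, 153318) .leaf))) (213008, 0, 15, 86346) (.node (.node (.node .leaf (213011, 0, 17, 57609) .leaf) (213013, 0, 17, 100367) (.node .leaf (213014, 0, 13, 51852) .leaf)) (213017, 0, 15, 257617) (.node (.node .leaf (213018, 0, 17, 155405) .leaf) (213020, 0, 15, 247906) (.node .leaf (213023, 0, 17, 162110) .leaf))))) (213025, 0, 16, 3889) (.node (.node (.node (.node (.node .leaf (213026, 0, 14, 94927) .leaf) (213028, 0, 17, 10498) (.node .leaf (213031, 0, 17, 109450) .leaf)) (213032, 0, 11, 179331) (.node (.node .leaf (213035, 0, 15, 243505) .leaf) (213037, 0, 15, 170672) (.node .leaf (213038, 0, 15, 207852) .leaf))) (213040, 0, 17, 154303) (.node (.node (.node .leaf (213043, 0, 14, 256764) .leaf) (213045, 0, 18, 1754) (.node .leaf (213046, 0, 19, 209849) .leaf)) (213049, 0, 16, 40769) (.node (.node .leaf (213050, 0, 18,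 205319) .leaf) (213052, 0, 11, 17924) (.node .leaf (213055, 0, 16, 128583) .leaf)))) (213056, 0, 16, 17305) (.node (.node (.node (.node .leaf (213059, 0, 16, 127962) .leaf) (213061, 0, 17, 218540) (.node .leaf (213062, 0, 12, 76447) .leaf)) (213065, 0, 11, 165479) (.node (.node .leaf (213066, 0, 16, 29041) .leaf) (213068, 0, 15, 155426) (.node .leaf (213071, 0, 16, 257889) .leaf))) (213073, 0, 17, 220231) (.node (.node (.node .leaf (213074, 0, 15, 191771) .leaf) (213076, 0, 14, 131823) (.node .leaf (213079, 0, 17, 183080) .leaf)) (213080, 0, 14, 126965) (.node (.node .leaf (213083, 0, 18, 110103) .leaf) (213085, 0, 16, 50961) (.node .leaf (213086, 0, 14, 30874) .leaf))))))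

/-- part of the orbit tree -/
def itp6_259 : Tree := (.node itp6_255 (212688, 0, 15, 55575) itp6_256)

/-- part of the orbit tree -/
def itp6_260 : Tree := (.node itp6_257 (212944, 0, 15, 16116) itp6_258)

/-- part of the orbit tree -/
def itp6_261 : Tree := (.node (.node (.node (.node (.node (.node .leaf (213091, 0, 15, 245705) .leaf) (213093, 0, 15, 141478) (.node .leaf (213094, 0, 17, 236026) .leaf)) (213097, 0, 18, 48423) (.node (.node .leaf (213098, 0, 17, 68731) .leaf) (213100, 0, 16, 39700) (.node .leaf (213103, 0, 14, 58516) .leaf))) (213105, 0, 17, 118879) (.node (.node (.node .leaf (213106, 0, 19, 233489) .leaf) (213108, 0, 14, 132990) (.node .leaf (213111, 0, 14, 47449) .leaf)) (213112, 0, 17, 202145) (.node (.node .leaf (213115, 0, 16, 74659) .leaf) (213117, 0, 17, 249060) (.node .leaf (213118, 0, 17, 162983) .leaf)))) (213121, 0, 14, 89715) (.node (.node (.node (.node .leaf (213122, 0, 16, 60976) .leaf) (213124, 0, 12, 189537) (.node .leaf (213127, 0, 15, 14197) .leaf)) (213128, 0, 17, 236429) (.node (.node .leaf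 (213131, 0, 15, 114876) .leaf) (213133, 0, 17, 213704) (.node .leaf (213134, 0, 17, 124559) .leaf))) (213136, 0, 18, 247360) (.node (.node (.node .leaf (213139, 0, 14, 220374) .leaf) (213141, 0, 17, 204549) (.node .leaf (213142, 0, 16, 228069) .leaf)) (213145, 0, 12, 66494) (.node (.node .leaf (213146, 0, 19, 126820) .leaf) (213148, 0, 17, 30731) (.node .leaf (213151, 0, 14, 117079) .leaf))))) (213153, 0, 16, 152966) (.node (.node (.node (.node (.node .leaf (213154, 0, 18, 255429) .leaf) (213156, 0, 16, 167107) (.node .leaf (213159, 0, 15, 141367) .leaf)) (213160, 0, 18, 68842) (.node (.node .leaf (213163, 0, 14, 48566) .leaf) (213165, 0, 18, 76505) (.node .leaf (213166, 0, 17, 129406) .leaf))) (213168, 0, 12, 233600) (.node (.node (.node .leaf (213171, 0, 17, 139740) .leaf) (213173, 0, 13, 243379) (.node .leaf (213174, 0, 13, 107699) .leaf)) (213177, 0, 17, 133195) (.node (.node .leaf (213178, 0, 14, 37486) .leaf) (213180, 0, 17, 184590) (.node .leaf (213183, 0, 15, 221517) .leaf)))) (213184, 0, 15, 185491) (.node (.node (.node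 (.node .leaf (213187, 0, 10, 222416) .leaf) (213189, 0, 17, 58821) (.node .leaf (213190, 0, 12, 87193) .leaf)) (213193, 0, 14, 4461) (.node (.node .leaf (213194, 0, 12, 246040) .leaf) (213196, 0, 17, 51240) (.node .leaf (213199, 0, 18, 255787) .leaf))) (213201, 0, 16, 19616) (.node (.node (.node .leaf (213202, 0, 18, 130275) .leaf) (213204, 0, 14, 38373) (.node .leaf (213207, 0, 16, 97089) .leaf)) (213208, 0, 18, 155548) (.node (.node .leaf (213211, 0, 16, 211229) .leaf) (213213, 0, 16, 151579) (.node .leaf (213214, 0, 17, 248051) .leaf))))))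

/-- part of the orbit tree -/
def itp6_262 : Tree := (.node (.node (.node (.node (.node (.node .leaf (213219, 0, 13, 28453) .leaf) (213221, 0, 17, 104655) (.node .leaf (213222, 0, 15, 46688) .leaf)) (213225, 0, 18, 203416) (.node (.node .leaf (213226, 0, 14, 179218) .leaf) (213228, 0, 17, 207741) (.node .leaf (213231, 0, 16, 170529) .leaf))) (213233, 0, 17, 214869) (.node (.node (.node .leaf (213234, 0, 17, 8312) .leaf) (213236, 0, 17, 237072) (.node .leaf (213239, 0, 16, 1611) .leaf)) (213240, 0, 15, 205462) (.node (.node .leaf (213243, 0, 15, 13032) .leaf) (213245, 0, 16, 197797) (.node .leaf (213246, 0, 15, 60333) .leaf)))) (213249, 0, 18, 27405) (.node (.node (.node (.node .leaf (213250, 0, 17, 9348) .leaf) (213252, 0, 13, 45640) (.node .leaf (213255, 0, 16, 695) .leaf)) (213256, 0, 15, 175859) (.node (.node .leaf (213259, 0, 11, 204464) .leaf) (213261, 0, 15, 161718) (.node .leaf (213262, 0, 16, 247797) .leaf))) (213264, 0, 17, 193342) (.node (.node (.node .leaf (213267, 0, 16, 2908) .leaf) (213269, 0, 15, 105523) (.node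 .leaf (213270, 0, 18, 11631) .leaf)) (213273, 0, 18, 199090) (.node (.node .leaf (213274, 0, 17, 99971) .leaf) (213276, 0, 16, 61317) (.node .leaf (213279, 0, 16, 90054) .leaf))))) (213281, 0, 16, 221432) (.node (.node (.node (.node (.node .leaf (213282, 0, 16, 184507) .leaf) (213284, 0, 18, 52961) (.node .leaf (213287, 0, 17, 133630) .leaf)) (213288, 0, 16, 107782) (.node (.node .leaf (213291, 0, 16, 256572) .leaf) (213293, 0, 17, 97347) (.node .leaf (213294, 0, 13, 248847) .leaf))) (213296, 0, 18, 50954) (.node (.node (.node .leaf (213299, 0, 14, 95830) .leaf) (213301, 0, 17, 74126) (.node .leaf (213302, 0, 17, 37325) .leaf)) (213305, 0, 18, 212277) (.node (.node .leaf (213306, 0, 16, 247268) .leaf) (213308, 0, 13, 152203) (.node .leaf (213311, 0, 11, 254935) .leaf)))) (213312, 0, 18, 254445) (.node (.node (.node (.node .leaf (213315, 0, 18, 151982) .leaf) (213317, 0, 17, 242255) (.node .leaf (213318, 0, 17, 166123) .leaf)) (213321, 0, 13, 74771) (.node (.node .leaf (213322, 0, 19, 38546) .leaf) (213324, 0, 17, 130390) (.node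 .leaf (213327, 0, 16, 45217) .leaf))) (213329, 0, 15, 244644) (.node (.node (.node .leaf (213330, 0, 16, 133880) .leaf) (213332, 0, 13, 106651) (.node .leaf (213335, 0, 17, 142539) .leaf)) (213336, 0, 16, 244768) (.node (.node .leaf (213339, 0, 19, 134243) .leaf) (213341, 0, 16, 77349) (.node .leaf (213342, 0, 18, 185638) .leaf))))))

/-- part of the orbit tree -/
def itp6_263 : Tree := (.node (.node (.node (.node (.node (.node .leaf (213347, 0, 15, 219178) .leaf) (213349, 0, 16, 184133) (.node .leaf (213350, 0, 16, 228889) .leaf)) (213353, 0, 11, 23236) (.node (.node .leaf (213354, 0, 15, 125848) .leaf) (213356, 0, 17, 194211) (.node .leaf (213359, 0, 14, 214752) .leaf))) (213361, 0, 14, 181934) (.node (.node (.node .leaf (213362, 0, 15, 227314) .leaf) (213364, 0, 15, 188573) (.node .leaf (213367, 0, 16, 203565) .leaf)) (213368, 0, 16, 29980) (.node (.node .leaf (213371, 0, 15, 115776) .leaf) (213373, 0, 15, 21295) (.node .leaf (213374, 0, 14, 122579) .leaf)))) (213377, 0, 17, 195591) (.node (.node (.node (.node .leaf (213378,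 0, 13, 234733) .leaf) (213380, 0, 17, 131970) (.node .leaf (213383, 0, 16, 234753) .leaf)) (213384, 0, 15, 38403) (.node (.node .leaf (213387, 0, 17, 75615) .leaf) (213389, 0, 17, 57532) (.node .leaf (213390, 0, 14, 65900) .leaf))) (213392, 0, 18, 133737) (.node (.node (.node .leaf (213395, 0, 16, 244533) .leaf) (213397, 0, 15, 142426) (.node .leaf (213398, 0, 16, 236806) .leaf)) (213401, 0, 14, 47579) (.node (.node .leaf (213402, 0, 16, 201097) .leaf) (213404, 0, 6, 40936) (.node .leaf (213407, 0, 16, 248012) .leaf))))) (213409, 0, 12, 219323) (.node (.node (.node (.node (.node .leaf (213410, 0, 13, 18353) .leaf) (213412, 0, 17, 229000) (.node .leaf (213415, 0, 14, 40692) .leaf)) (213416, 0, 16, 209420) (.node (.node .leaf (213419, 0, 15, 23125) .leaf) (213421, 0, 14, 256841) (.node .leaf (213422, 0, 16, 31846) .leaf))) (213424, 0, 16, 227171) (.node (.node (.node .leaf (213427, 0, 18, 188290) .leaf) (213429, 0, 16, 243332) (.node .leaf (213430, 0, 16, 188428) .leaf)) (213433, 0, 15, 115921) (.node (.node .leaf (213434, 0,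 19, 6780) .leaf) (213436, 0, 10, 95098) (.node .leaf (213439, 0, 17, 21438) .leaf)))) (213440, 0, 14, 95975) (.node (.node (.node (.node .leaf (213443, 0, 11, 50852) .leaf) (213445, 0, 8, 550) (.node .leaf (213446, 0, 15, 8161) .leaf)) (213449, 0, 14, 242457) (.node (.node .leaf (213450, 0, 17, 206587) .leaf) (213452, 0, 17, 176532) (.node .leaf (213455, 0, 17, 186911) .leaf))) (213457, 0, 17, 257748) (.node (.node (.node .leaf (213458, 0, 16, 155287) .leaf) (213460, 0, 15, 210833) (.node .leaf (213463, 0, 16, 165842) .leaf)) (213464, 0, 16, 76586) (.node (.node .leaf (213467, 0, 17, 198947) .leaf) (213469, 0, 16, 127599) (.node .leaf (213470, 0, 17, 208656) .leaf))))))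

/-- part of the orbit tree -/
def itp6_264 : Tree := (.node (.node (.node (.node (.node (.node .leaf (213475, 0, 15, 59459) .leaf) (213477, 0, 17, 173143) (.node .leaf (213478, 0, 16, 52848) .leaf)) (213481, 0, 15, 256685) (.node (.node .leaf (213482, 0, 14, 154609) .leaf) (213484, 0, 13, 248990) (.node .leaf (213487, 0, 17, 163266) .leaf))) (213489, 0, 14, 58657) (.node (.node (.node .leaf (213490, 0, 13, 51099) .leaf) (213492, 0, 17, 15460) (.node .leaf (213495, 0, 15, 101415) .leaf)) (213496, 0, 17, 139487) (.node (.node .leaf (213499, 0, 11, 160809) .leaf) (213501, 0, 18, 194970) (.node .leaf (213502, 0, 17, 215513) .leaf)))) (213504, 0, 14, 197999) (.node (.node (.node (.node .leaf (213505, 0, 16, 96023) .leaf) (213510, 0, 17, 158825) (.node .leaf (213511, 0, 16, 57464) .leaf)) (213514, 0, 16, 11479) (.node (.node .leaf (213515, 0, 18, 37044) .leaf) (213516, 0, 17, 113592) (.node .leaf (213517, 0, 13, 254614) .leaf))) (213522, 0, 16, 176317) (.node (.node (.node .leaf (213523, 0, 15, 59795) .leaf) (213524, 0, 14, 82969)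 (.node .leaf (213525, 0, 18, 98044) .leaf)) (213528, 0, 14, 111187) (.node (.node .leaf (213529, 0, 16, 256893) .leaf) (213534, 0, 17, 9532) (.node .leaf (213535, 0, 14, 184770) .leaf))))) (213536, 0, 17, 152371) (.node (.node (.node (.node (.node .leaf (213537, 0, 15, 61180) .leaf) (213542, 0, 17, 246876) (.node .leaf (213543, 0, 14, 100346) .leaf)) (213546, 0, 15, 228135) (.node (.node .leaf (213547, 0, 17, 198899) .leaf) (213548, 0, 17, 50866) (.node .leaf (213549, 0, 17, 171932) .leaf))) (213554, 0, 17, 249271) (.node (.node (.node .leaf (213555, 0, 14, 247436) .leaf) (213556, 0, 18, 151532) (.node .leaf (213557, 0, 11, 1014) .leaf)) (213560, 0, 17, 21335) (.node (.node .leaf (213561, 0, 17, 169591) .leaf) (213566, 0, 17, 80465) (.node .leaf (213567, 0, 15, 196888) .leaf)))) (213570, 0, 14, 81868) (.node (.node (.node (.node .leaf (213571, 0, 17, 122794) .leaf) (213572, 0, 14, 68014) (.node .leaf (213573, 0, 17, 217216) .leaf)) (213576, 0, 15, 150129) (.node (.node .leaf (213577, 0, 17, 174615) .leaf) (213582, 0, 14, 205687)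 (.node .leaf (213583, 0, 17, 246545) .leaf))) (213584, 0, 15, 137148) (.node (.node (.node .leaf (213585, 0, 17, 219499) .leaf) (213590, 0, 11, 38698) (.node .leaf (213591, 0, 16, 183812) .leaf)) (213594, 0, 18, 131755) (.node (.node .leaf (213595, 0, 18, 23429) .leaf) (213596, 0, 17, 234948) .leaf)))))

/-- part of the orbit tree -/
def itp6_265 : Tree := (.node itp6_261 (213216, 0, 15, 122726) itp6_262)

/-- part of the orbit tree -/
def itp6_266 : Tree := (.node itp6_263 (213472, 0, 15, 88351) itp6_264)

/-- part of the orbit tree -/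
def itp6_267 : Tree := (.node itp6_259 (212816, 0, 13, 128727) itp6_260)

/-- part of the orbit tree -/
def itp6_268 : Tree := (.node itp6_265 (213344, 0, 17, 59928) itp6_266)

/-- part of the orbit tree -/
def itp6_269 : Tree := (.node (.node (.node (.node (.node (.node .leaf (213602, 0, 18, 123851) .leaf) (213603, 0, 18, 244453) (.node .leaf (213604, 0, 12, 220479) .leaf)) (213605, 0, 11, 142730) (.node (.node .leaf (213608, 0, 17, 188709) .leaf) (213609, 0, 14, 106978) (.node .leaf (213614, 0, 14, 226890) .leaf))) (213615, 0, 17, 77668) (.node (.node (.node .leaf (213616, 0, 18, 72777) .leaf) (213617, 0, 15, 130095) (.node .leaf (213622, 0, 15, 125472) .leaf)) (213623, 0, 8, 38185) (.node (.node .leaf (213626, 0, 16, 158196) .leaf) (213627, 0, 15, 75407) (.node .leaf (213628, 0, 16, 190670) .leaf)))) (213629, 0, 17, 254100) (.node (.node (.node (.node .leaf (213632, 0, 18, 103013) .leaf) (213633, 0, 13, 94723) (.node .leaf (213638, 0, 16, 64355) .leaf)) (213639, 0, 17, 6917) (.node (.node .leaf (213642, 0, 13, 236734) .leaf)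 (213643, 0, 16, 116112) (.node .leaf (213644, 0, 16, 134097) .leaf))) (213645, 0, 17, 224952) (.node (.node (.node .leaf (213650, 0, 16, 65748) .leaf) (213651, 0, 15, 219642) (.node .leaf (213652, 0, 17, 250643) .leaf)) (213653, 0, 17, 183957) (.node (.node .leaf (213656, 0, 17, 118696) .leaf) (213657, 0, 16, 23316) (.node .leaf (213662, 0, 18, 234837) .leaf))))) (213663, 0, 17, 18120) (.node (.node (.node (.node (.node .leaf (213664, 0, 12, 123738) .leaf) (213665, 0, 17, 162294) (.node .leaf (213670, 0, 17, 29749) .leaf)) (213671, 0, 17, 200944) (.node (.node .leaf (213674, 0, 16, 188852) .leaf) (213675, 0, 14, 68683) (.node .leaf (213676, 0, 15, 34091) .leaf))) (213677, 0, 17, 77813) (.node (.node (.node .leaf (213682, 0, 17, 111072) .leaf) (213683, 0, 17, 86406) (.node .leaf (213684, 0, 15, 55526) .leaf)) (213685, 0, 17, 242591) (.node (.node .leaf (213688, 0, 17, 181341) .leaf) (213689, 0, 14, 140347) (.node .leaf (213694, 0, 17, 240987) .leaf)))) (213695, 0, 15, 216381) (.node (.node (.node (.node .leaf (213698, 0, 15,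 208552) .leaf) (213699, 0, 15, 96134) (.node .leaf (213700, 0, 16, 178631) .leaf)) (213701, 0, 17, 139686) (.node (.node .leaf (213704, 0, 16, 11334) .leaf) (213705, 0, 19, 161128) (.node .leaf (213710, 0, 14, 111741) .leaf))) (213711, 0, 15, 87067) (.node (.node (.node .leaf (213712, 0, 14, 176172) .leaf) (213713, 0, 16, 59650) (.node .leaf (213718, 0, 16, 125360) .leaf)) (213719, 0, 16, 68054) (.node (.node .leaf (213722, 0, 10, 259339) .leaf) (213723, 0, 17, 202093) (.node .leaf (213724, 0, 16, 9645) .leaf))))))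

/-- part of the orbit tree -/
def itp6_270 : Tree := (.node (.node (.node (.node (.node (.node .leaf (213730, 0, 17, 41779) .leaf) (213731, 0, 17, 17237) (.node .leaf (213732, 0, 17, 246989) .leaf)) (213733, 0, 16, 76371) (.node (.node .leaf (213736, 0, 14, 86348) .leaf) (213737, 0, 13, 198754) (.node .leaf (213742, 0, 17, 50723) .leaf))) (213743, 0, 14, 155630) (.node (.node (.node .leaf (213744, 0, 15, 249126) .leaf) (213745, 0, 12, 103432) (.node .leaf (213750, 0, 15, 154185) .leaf)) (213751, 0, 17, 871) (.node (.node .leaf (213754, 0, 13, 65278) .leaf) (213755, 0, 16, 169702) (.node .leaf (213756, 0, 17, 104440) .leaf)))) (213757, 0, 16, 197001) (.node (.node (.node (.node .leaf (213760, 0, 17, 248282) .leaf) (213761, 0, 17, 18301) (.node .leaf (213766, 0, 17, 118301) .leaf)) (213767, 0, 17, 77435) (.node (.node .leaf (213770, 0, 12, 250534) .leaf) (213771, 0, 16, 168474) (.node .leaf (213772, 0, 18, 89179) .leaf))) (213773, 0, 17, 198005) (.node (.node (.node .leaf (213778, 0, 15, 153438) .leaf) (213779, 0, 17, 225037)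 (.node .leaf (213780, 0, 18, 190061) .leaf)) (213781, 0, 17, 104735) (.node (.node .leaf (213784, 0, 16, 64214) .leaf) (213785, 0, 15, 6832) (.node .leaf (213790, 0, 16, 103376) .leaf))))) (213791, 0, 12, 95158) (.node (.node (.node (.node (.node .leaf (213792, 0, 18, 240878) .leaf) (213793, 0, 16, 216200) (.node .leaf (213798, 0, 17, 205759) .leaf)) (213799, 0, 16, 140686) (.node (.node .leaf (213802, 0, 17, 55635) .leaf) (213803, 0, 15, 257808) (.node .leaf (213804, 0, 12, 110677) .leaf))) (213805, 0, 16, 161919) (.node (.node (.node .leaf (213810, 0, 14, 33950) .leaf) (213811, 0, 10, 95098) (.node .leaf (213812, 0, 13, 179515) .leaf)) (213813, 0, 18, 58389) (.node (.node .leaf (213816, 0, 18, 258339) .leaf) (213817, 0, 18, 160148) (.node .leaf (213822, 0, 17, 170021) .leaf)))) (213823, 0, 15, 255739) (.node (.node (.node (.node .leaf (213826, 0, 18, 31010) .leaf) (213827, 0, 16, 139276) (.node .leaf (213828, 0, 16, 259262) .leaf)) (213829, 0, 18, 243555) (.node (.node .leaf (213832, 0, 17, 228300) .leaf) (213833, 0, 14,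 67683) (.node .leaf (213838, 0, 16, 33027) .leaf))) (213839, 0, 15, 46477) (.node (.node (.node .leaf (213840, 0, 14, 124838) .leaf) (213841, 0, 14, 87470) (.node .leaf (213846, 0, 14, 28873) .leaf)) (213847, 0, 15, 141799) (.node (.node .leaf (213850, 0, 16, 189768) .leaf) (213851, 0, 16, 48230) (.node .leaf (213852, 0, 16, 225831) .leaf))))))

/-- part of the orbit tree -/
def itp6_271 : Tree := (.node (.node (.node (.node (.node (.node .leaf (213858, 0, 18, 104013) .leaf) (213859, 0, 13, 220422) (.node .leaf (213860, 0, 11, 65355) .leaf)) (213861, 0, 5, 182889) (.node (.node .leaf (213864, 0, 12, 132806) .leaf) (213865, 0, 16, 24552) (.node .leaf (213870, 0, 13, 232182) .leaf))) (213871, 0, 15, 223888) (.node (.node (.node .leaf (213872, 0, 15, 39596) .leaf) (213873, 0, 18, 181122) (.node .leaf (213878, 0, 17, 69059) .leaf)) (213879, 0, 14, 210781) (.node (.node .leaf (213882, 0, 16, 117632) .leaf) (213883, 0, 13, 115052) (.node .leaf (213884, 0, 16, 41606) .leaf)))) (213885, 0, 17, 22019) (.node (.node (.node (.node .leaf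 (213888, 0, 15, 143377) .leaf) (213889, 0, 16, 139421) (.node .leaf (213894, 0, 12, 219415) .leaf)) (213895, 0, 18, 243698) (.node (.node .leaf (213898, 0, 16, 83372) .leaf) (213899, 0, 13, 74355) (.node .leaf (213900, 0, 18, 191538) .leaf))) (213901, 0, 16, 46364) (.node (.node (.node .leaf (213906, 0, 14, 124727) .leaf) (213907, 0, 17, 129031) (.node .leaf (213908, 0, 14, 29031) .leaf)) (213909, 0, 16, 141686) (.node (.node .leaf (213912, 0, 16, 189913) .leaf) (213913, 0, 16, 48375) (.node .leaf (213918, 0, 15, 197850) .leaf))))) (213919, 0, 16, 255164) (.node (.node (.node (.node (.node .leaf (213920, 0, 17, 66745) .leaf) (213921, 0, 11, 220567) (.node .leaf (213926, 0, 14, 21218) .leaf)) (213927, 0, 17, 45700) (.node (.node .leaf (213930, 0, 15, 151129) .leaf) (213931, 0, 14, 175679) (.node .leaf (213932, 0, 16, 206687) .leaf))) (213933, 0, 12, 247609) (.node (.node (.node .leaf (213938, 0, 12, 136084) .leaf) (213939, 0, 18, 181011) (.node .leaf (213940, 0, 18, 227986) .leaf)) (213941, 0, 14, 236276) (.node (.node .leaf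 (213944, 0, 17, 91689) .leaf) (213945, 0, 13, 115197) (.node .leaf (213950, 0, 17, 3887) .leaf)))) (213951, 0, 15, 22162) (.node (.node (.node (.node .leaf (213954, 0, 18, 248139) .leaf) (213955, 0, 15, 102501) (.node .leaf (213956, 0, 15, 91060) .leaf)) (213957, 0, 16, 99282) (.node (.node .leaf (213960, 0, 18, 52133) .leaf) (213961, 0, 16, 168587) (.node .leaf (213966, 0, 16, 136713) .leaf))) (213967, 0, 16, 194159) (.node (.node (.node .leaf (213968, 0, 17, 153551) .leaf) (213969, 0, 18, 3809) (.node .leaf (213974, 0, 17, 150468) .leaf)) (213975, 0, 13, 175010) (.node (.node .leaf (213978, 0, 14, 22399) .leaf) (213979, 0, 14, 46873) (.node .leaf (213980, 0, 13, 81529) .leaf))))))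

/-- part of the orbit tree -/
def itp6_272 : Tree := (.node (.node (.node (.node (.node (.node .leaf (213986, 0, 17, 196935) .leaf) (213987, 0, 16, 254241) (.node .leaf (213988, 0, 11, 157761) .leaf)) (213989, 0, 17, 96768) (.node (.node .leaf (213992, 0, 18, 29946) .leaf) (213993, 0, 17, 38044) (.node .leaf (213998, 0, 15, 8640) .leaf))) (213999, 0, 17, 162030) (.node (.node (.node .leaf (214000, 0, 12, 10551) .leaf) (214001, 0, 16, 51537) (.node .leaf (214006, 0, 16, 81969) .leaf)) (214007, 0, 17, 106583) (.node (.node .leaf (214010, 0, 16, 10283) .leaf) (214011, 0, 17, 160005) (.node .leaf (214012, 0, 18, 114500) .leaf)))) (214013, 0, 16, 255594) (.node (.node (.node (.node .leaf (214016, 0, 14, 144311) .leaf) (214018, 0, 14, 222098) (.node .leaf (214021, 0, 17, 191218) .leaf)) (214023, 0, 16, 244439) (.node (.node .leaf (214025, 0, 16, 63049) .leaf) (214027, 0, 18, 97569) (.node .leaf (214028, 0, 17, 176992) .leaf))) (214030, 0, 16, 88850) (.node (.node (.node .leaf (214033, 0, 16, 43908) .leaf) (214035, 0, 16, 254283)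 (.node .leaf (214036, 0, 16, 12042) .leaf)) (214038, 0, 12, 247672) (.node (.node .leaf (214040, 0, 17, 159354) .leaf) (214042, 0, 15, 212575) (.node .leaf (214045, 0, 17, 177983) .leaf))))) (214047, 0, 10, 95434) (.node (.node (.node (.node (.node .leaf (214048, 0, 16, 89067) .leaf) (214050, 0, 17, 26727) (.node .leaf (214053, 0, 15, 97752) .leaf)) (214055, 0, 13, 45346) (.node (.node .leaf (214057, 0, 17, 261564) .leaf) (214059, 0, 18, 43) (.node .leaf (214060, 0, 15, 249450) .leaf))) (214062, 0, 17, 160988) (.node (.node (.node .leaf (214065, 0, 17, 237681) .leaf) (214067, 0, 17, 192596) (.node .leaf (214068, 0, 13, 227636) .leaf)) (214070, 0, 15, 178802) (.node (.node .leaf (214072, 0, 16, 247681) .leaf) (214074, 0, 17, 13738) (.node .leaf (214077, 0, 16, 113866) .leaf)))) (214079, 0, 16, 2496) (.node (.node (.node (.node .leaf (214081, 0, 17, 112983) .leaf) (214083, 0, 16, 118583) (.node .leaf (214084, 0, 16, 90130) .leaf)) (214086, 0, 16, 125188) (.node (.node .leaf (214088, 0, 18, 38135) .leaf) (214090, 0, 13, 142476)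 (.node .leaf (214093, 0, 11, 239084) .leaf))) (214095, 0, 16, 219830) (.node (.node (.node .leaf (214096, 0, 18, 133277) .leaf) (214098, 0, 14, 160065) (.node .leaf (214101, 0, 17, 260129) .leaf)) (214103, 0, 15, 116444) (.node (.node .leaf (214105, 0, 12, 124058) .leaf) (214107, 0, 17, 217949) (.node .leaf (214108, 0, 17, 40220) .leaf))))))

/-- part of the orbit tree -/
def itp6_273 : Tree := (.node itp6_269 (213725, 0, 17, 162923) itp6_270)

/-- part of the orbit tree -/
def itp6_274 : Tree := (.node itp6_271 (213981, 0, 16, 170848) itp6_272)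

/-- part of the orbit tree -/
def itp6_275 : Tree := (.node (.node (.node (.node (.node (.node .leaf (214113, 0, 16, 176802) .leaf) (214115, 0, 17, 45629) (.node .leaf (214116, 0, 16, 228476) .leaf)) (214118, 0, 17, 211906) (.node (.node .leaf (214120, 0, 17, 30556) .leaf) (214122, 0, 19, 75641) (.node .leaf (214125, 0, 15, 118734) .leaf))) (214127, 0, 18, 141244) (.node (.node (.node .leaf (214128, 0, 10, 226711) .leaf) (214130, 0, 15, 40421) (.node .leaf (214133, 0, 15, 62420) .leaf)) (214135, 0, 17, 48086) (.node (.node .leaf (214137, 0, 16, 192367) .leaf) (214139, 0, 15, 245578) (.node .leaf (214140, 0, 15, 122902) .leaf)))) (214142, 0, 16, 222735) (.node (.node (.node (.node .leaf (214144, 0, 15, 42173) .leaf) (214146, 0, 19, 32506) (.node .leaf (214149, 0, 16, 241851) .leaf)) (214151, 0, 16, 77277) (.node (.node .leaf (214153, 0, 15, 75066) .leaf) (214155, 0, 6, 209254) (.node .leaf (214156, 0, 16, 66313) .leaf))) (214158, 0, 16, 191355) (.node (.node (.node .leaf (214161, 0, 15, 244048) .leaf) (214163, 0, 16, 224427)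 (.node .leaf (214164, 0, 18, 189899) .leaf)) (214166, 0, 14, 243182) (.node (.node .leaf (214168, 0, 17, 68322) .leaf) (214170, 0, 16, 108885) (.node .leaf (214173, 0, 17, 8245) .leaf))))) (214175, 0, 12, 94224) (.node (.node (.node (.node (.node .leaf (214176, 0, 18, 191362) .leaf) (214178, 0, 14, 66544) (.node .leaf (214181, 0, 16, 226829) .leaf)) (214183, 0, 15, 75203) (.node (.node .leaf (214185, 0, 19, 92854) .leaf) (214187, 0, 9, 241730) (.node .leaf (214188, 0, 14, 32259) .leaf))) (214190, 0, 16, 58326) (.node (.node (.node .leaf (214193, 0, 14, 181338) .leaf) (214195, 0, 16, 26462) (.node .leaf (214196, 0, 14, 126526) .leaf)) (214198, 0, 19, 48667) (.node (.node .leaf (214200, 0, 15, 258693) .leaf) (214202, 0, 16, 172704) (.node .leaf (214205, 0, 16, 20955) .leaf)))) (214207, 0, 16, 244137) (.node (.node (.node (.node .leaf (214209, 0, 16, 104236) .leaf) (214211, 0, 12, 163448) (.node .leaf (214212, 0, 18, 110879) .leaf)) (214214, 0, 17, 173885) (.node (.node .leaf (214216, 0, 14, 125859) .leaf) (214218, 0, 19, 48006)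 (.node .leaf (214221, 0, 13, 197293) .leaf))) (214223, 0, 17, 60127) (.node (.node (.node .leaf (214224, 0, 18, 112238) .leaf) (214226, 0, 15, 58955) (.node .leaf (214229, 0, 17, 106183) .leaf)) (214231, 0, 16, 16142) (.node (.node .leaf (214233, 0, 7, 199494) .leaf) (214235, 0, 16, 58164) (.node .leaf (214236, 0, 13, 240341) .leaf))))))

/-- part of the orbit tree -/
def itp6_276 : Tree := (.node (.node (.node (.node (.node (.node .leaf (214241, 0, 19, 59942) .leaf) (214243, 0, 15, 197204) (.node .leaf (214244, 0, 16, 52245) .leaf)) (214246, 0, 11, 205927) (.node (.node .leaf (214248, 0, 18, 188502) .leaf) (214250, 0, 14, 241779) (.node .leaf (214253, 0, 11, 163751) .leaf))) (214255, 0, 14, 223542) (.node (.node (.node .leaf (214256, 0, 17, 50686) .leaf) (214258, 0, 17, 257470) (.node .leaf (214261, 0, 15, 58317) .leaf)) (214263, 0, 17, 199615) (.node (.node .leaf (214265, 0, 17, 30821) .leaf) (214267, 0, 13, 75840) (.node .leaf (214268, 0, 17, 151679) .leaf)))) (214270, 0, 15, 112653) (.node (.node (.node (.node .leaf (214272,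 0, 14, 102851) .leaf) (214274, 0, 17, 49638) (.node .leaf (214277, 0, 17, 84102) .leaf)) (214279, 0, 17, 200515) (.node (.node .leaf (214281, 0, 11, 160432) .leaf) (214283, 0, 17, 105154) (.node .leaf (214284, 0, 13, 152707) .leaf))) (214286, 0, 14, 113905) (.node (.node (.node .leaf (214289, 0, 17, 199152) .leaf) (214291, 0, 17, 198312) (.node .leaf (214292, 0, 16, 250037) .leaf)) (214294, 0, 10, 163984) (.node (.node .leaf (214296, 0, 14, 117774) .leaf) (214298, 0, 16, 39979) (.node .leaf (214301, 0, 13, 162651) .leaf))))) (214303, 0, 13, 103209) (.node (.node (.node (.node (.node .leaf (214304, 0, 15, 113672) .leaf) (214306, 0, 16, 152698) (.node .leaf (214309, 0, 15, 148339) .leaf)) (214311, 0, 18, 201558) (.node (.node .leaf (214313, 0, 16, 200634) .leaf) (214315, 0, 16, 59336) (.node .leaf (214316, 0, 17, 34445) .leaf))) (214318, 0, 16, 120488) (.node (.node (.node .leaf (214321, 0, 16, 103376) .leaf) (214323, 0, 17, 162722) (.node .leaf (214324, 0, 16, 112099) .leaf)) (214326, 0, 15, 155025) (.node (.node .leaf (214328,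 0, 17, 204898) .leaf) (214330, 0, 18, 51216) (.node .leaf (214333, 0, 18, 138942) .leaf)))) (214335, 0, 18, 60963) (.node (.node (.node (.node .leaf (214337, 0, 17, 180390) .leaf) (214339, 0, 17, 75988) (.node .leaf (214340, 0, 16, 190101) .leaf)) (214342, 0, 18, 69351) (.node (.node .leaf (214344, 0, 18, 29460) .leaf) (214346, 0, 17, 102136) (.node .leaf (214349, 0, 15, 1944) .leaf))) (214351, 0, 17, 87997) (.node (.node (.node .leaf (214352, 0, 18, 192382) .leaf) (214354, 0, 15, 119605) (.node .leaf (214357, 0, 15, 182605) .leaf)) (214359, 0, 18, 68208) (.node (.node .leaf (214361, 0, 18, 23756) .leaf) (214363, 0, 14, 202443) (.node .leaf (214364, 0, 17, 171947) .leaf))))))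

/-- part of the orbit tree -/
def itp6_277 : Tree := (.node (.node (.node (.node (.node (.node .leaf (214369, 0, 14, 69846) .leaf) (214371, 0, 13, 16627) (.node .leaf (214372, 0, 18, 117139) .leaf)) (214374, 0, 12, 39350) (.node (.node .leaf (214376, 0, 17, 69150) .leaf) (214378, 0, 17, 165133) (.node .leaf (214381, 0, 16, 199789) .leaf))) (214383, 0, 17, 154696) (.node (.node (.node .leaf (214384, 0, 15, 231653) .leaf) (214386, 0, 15, 186560) (.node .leaf (214389, 0, 13, 242759) .leaf)) (214391, 0, 14, 131461) (.node (.node .leaf (214393, 0, 19, 74182) .leaf) (214395, 0, 16, 182708) (.node .leaf (214396, 0, 13, 103518) .leaf)))) (214398, 0, 17, 50299) (.node (.node (.node (.node .leaf (214400, 0, 18, 225643) .leaf) (214402, 0, 19, 153324) (.node .leaf (214405, 0, 16, 253836) .leaf)) (214407, 0, 14, 167849) (.node (.node .leaf (214409, 0, 14, 115417) .leaf) (214411, 0, 15, 37650) (.node .leaf (214412, 0, 15, 72306) .leaf))) (214414, 0, 9, 19031) (.node (.node (.node .leaf (214417, 0, 16, 106234) .leaf) (214419, 0, 16, 46785)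 (.node .leaf (214420, 0, 15, 227456) .leaf)) (214422, 0, 17, 37106) (.node (.node .leaf (214424, 0, 16, 126209) .leaf) (214426, 0, 16, 132467) (.node .leaf (214429, 0, 18, 117554) .leaf))))) (214431, 0, 16, 184932) (.node (.node (.node (.node (.node .leaf (214432, 0, 16, 3388) .leaf) (214434, 0, 17, 123923) (.node .leaf (214437, 0, 17, 54393) .leaf)) (214439, 0, 16, 115232) (.node (.node .leaf (214441, 0, 13, 49107) .leaf) (214443, 0, 16, 235751) (.node .leaf (214444, 0, 16, 135559) .leaf))) (214446, 0, 14, 213410) (.node (.node (.node .leaf (214449, 0, 17, 169231) .leaf) (214451, 0, 13, 117707) (.node .leaf (214452, 0, 16, 150602) .leaf)) (214454, 0, 16, 203887) (.node (.node .leaf (214456, 0, 16, 36875) .leaf) (214458, 0, 16, 65748) (.node .leaf (214461, 0, 17, 35252) .leaf)))) (214463, 0, 15, 121233) (.node (.node (.node (.node .leaf (214465, 0, 13, 94415) .leaf) (214467, 0, 19, 170173) (.node .leaf (214468, 0, 19, 87804) .leaf)) (214470, 0, 13, 179854) (.node (.node .leaf (214472, 0, 16, 246653) .leaf) (214474, 0, 18, 11023)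 (.node .leaf (214477, 0, 16, 168082) .leaf))) (214479, 0, 16, 3388) (.node (.node (.node .leaf (214480, 0, 16, 136218) .leaf) (214482, 0, 17, 214079) (.node .leaf (214485, 0, 17, 183647) .leaf)) (214487, 0, 14, 168278) (.node (.node .leaf (214489, 0, 17, 53732) .leaf) (214491, 0, 18, 98753) (.node .leaf (214492, 0, 16, 248470) .leaf))))))

/-- part of the orbit tree -/
def itp6_278 : Tree := (.node (.node (.node (.node (.node (.node .leaf (214497, 0, 17, 3525) .leaf) (214499, 0, 16, 255415) (.node .leaf (214500, 0, 18, 11254) .leaf)) (214502, 0, 17, 246660) (.node (.node .leaf (214504, 0, 18, 179831) .leaf) (214506, 0, 16, 87557) (.node .leaf (214509, 0, 17, 105319) .leaf))) (214511, 0, 14, 94262) (.node (.node (.node .leaf (214512, 0, 16, 8733) .leaf) (214514, 0, 15, 248431) (.node .leaf (214517, 0, 17, 116394) .leaf)) (214519, 0, 17, 257116) (.node (.node .leaf (214521, 0, 17, 252433) .leaf) (214523, 0, 17, 96733) (.node .leaf (214524, 0, 17, 178076) .leaf)))) (214526, 0, 14, 152433) (.node (.node (.node (.node .leaf (214532,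 0, 16, 154832) .leaf) (214533, 0, 14, 1534) (.node .leaf (214534, 0, 15, 111778) .leaf)) (214535, 0, 17, 257420) (.node (.node .leaf (214536, 0, 16, 51537) .leaf) (214537, 0, 18, 55865) (.node .leaf (214538, 0, 9, 92794) .leaf))) (214539, 0, 16, 100892) (.node (.node (.node .leaf (214544, 0, 15, 26514) .leaf) (214545, 0, 16, 3093) (.node .leaf (214546, 0, 14, 79799) .leaf)) (214547, 0, 18, 120785) (.node (.node .leaf (214556, 0, 16, 162601) .leaf) (214557, 0, 17, 170388) (.node .leaf (214558, 0, 16, 207048) .leaf))))) (214559, 0, 19, 248682) (.node (.node (.node (.node (.node .leaf (214564, 0, 15, 205274) .leaf) (214565, 0, 15, 118135) (.node .leaf (214566, 0, 14, 32052) .leaf)) (214567, 0, 16, 40274) (.node (.node .leaf (214568, 0, 17, 111707) .leaf) (214569, 0, 11, 250316) (.node .leaf (214570, 0, 17, 154665) .leaf))) (214571, 0, 17, 164329) (.node (.node (.node .leaf (214576, 0, 16, 206897) .leaf) (214577, 0, 17, 232449) (.node .leaf (214578, 0, 17, 49219) .leaf)) (214579, 0, 15, 187428) (.node (.node .leaf (214588, 0, 15,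 94428) .leaf) (214589, 0, 17, 102586) (.node .leaf (214590, 0, 15, 153026) .leaf)))) (214591, 0, 18, 49311) (.node (.node (.node (.node .leaf (214592, 0, 16, 31559) .leaf) (214593, 0, 14, 139881) (.node .leaf (214594, 0, 15, 234293) .leaf)) (214595, 0, 16, 50434) (.node (.node .leaf (214604, 0, 16, 223738) .leaf) (214605, 0, 18, 47080) (.node .leaf (214606, 0, 16, 145887) .leaf))) (214607, 0, 17, 186809) (.node (.node (.node .leaf (214612, 0, 12, 29356) .leaf) (214613, 0, 14, 142210) (.node .leaf (214614, 0, 14, 156690) .leaf)) (214615, 0, 14, 164980) (.node (.node .leaf (214616, 0, 12, 190253) .leaf) (214617, 0, 17, 48643) .leaf)))))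

/-- part of the orbit tree -/
def itp6_279 : Tree := (.node itp6_275 (214238, 0, 19, 50439) itp6_276)

/-- part of the orbit tree -/
def itp6_280 : Tree := (.node itp6_277 (214494, 0, 13, 88196) itp6_278)

/-- part of the orbit tree -/
def itp6_281 : Tree := (.node itp6_273 (213853, 0, 17, 76553) itp6_274)

/-- part of the orbit tree -/
def itp6_282 : Tree := (.node itp6_279 (214366, 0, 14, 249742) itp6_280)

/-- part of the orbit tree -/
def itp6_283 : Tree := (.node itp6_267 (213088, 0, 15, 134805) itp6_268)

/-- part of the orbit tree -/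
def itp6_284 : Tree := (.node itp6_281 (214110, 0, 16, 28154) itp6_282)

/-- part of the orbit tree -/
def itp6_285 : Tree := (.node (.node (.node (.node (.node (.node .leaf (214619, 0, 15, 39119) .leaf) (214624, 0, 16, 67149) (.node .leaf (214625, 0, 16, 171730) .leaf)) (214626, 0, 18, 192063) (.node (.node .leaf (214627, 0, 16, 249591) .leaf) (214636, 0, 17, 25103) (.node .leaf (214637, 0, 17, 117474) .leaf))) (214638, 0, 15, 78378) (.node (.node (.node .leaf (214639, 0, 16, 139920) .leaf) (214644, 0, 18, 16322) (.node .leaf (214645, 0, 13, 218760) .leaf)) (214646, 0, 17, 94183) (.node (.node .leaf (214647, 0, 16, 102273) .leaf) (214648, 0, 18, 140153) (.node .leaf (214649, 0, 14, 181023) .leaf)))) (214650, 0, 13, 226140) (.node (.node (.node (.node .leaf (214651, 0, 13, 234298) .leaf) (214660, 0, 17, 126137) (.node .leaf (214661, 0, 14, 243095) .leaf)) (214662, 0, 17, 123339) (.node (.node .leaf (214663, 0, 17, 65965) .leaf) (214664, 0, 12, 227640) (.node .leaf (214665, 0, 16, 73750) .leaf))) (214666, 0, 17, 261488) (.node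 (.node (.node .leaf (214667, 0, 15, 182372) .leaf) (214672, 0, 16, 192664) (.node .leaf (214673, 0, 17, 135422) .leaf)) (214674, 0, 16, 237757) (.node (.node .leaf (214675, 0, 17, 213211) .leaf) (214684, 0, 14, 225491) (.node .leaf (214685, 0, 18, 76285) .leaf))))) (214686, 0, 16, 39073) (.node (.node (.node (.node (.node .leaf (214687, 0, 16, 180623) .leaf) (214692, 0, 13, 37299) (.node .leaf (214693, 0, 15, 182429) .leaf)) (214694, 0, 18, 191038) (.node (.node .leaf (214695, 0, 16, 73967) .leaf) (214696, 0, 16, 108192) (.node .leaf (214697, 0, 16, 83654) .leaf))) (214698, 0, 14, 63109) (.node (.node (.node .leaf (214699, 0, 18, 5859) .leaf) (214704, 0, 16, 39000) (.node .leaf (214705, 0, 11, 180598) .leaf)) (214706, 0, 17, 225322) (.node (.node .leaf (214707, 0, 13, 19246) .leaf) (214716, 0, 17, 255958) (.node .leaf (214717, 0, 17, 198576) .leaf)))) (214718, 0, 15, 124331) (.node (.node (.node (.node .leaf (214719, 0, 18, 244869) .leaf) (214720, 0, 16, 248622) (.node .leaf (214721, 0, 13, 102912) .leaf)) (214722, 0, 15, 176750)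 (.node (.node .leaf (214723, 0, 14, 152072) .leaf) (214732, 0, 17, 89775) (.node .leaf (214733, 0, 14, 73366) .leaf))) (214734, 0, 18, 44757) (.node (.node (.node .leaf (214735, 0, 18, 61427) .leaf) (214740, 0, 17, 246469) (.node .leaf (214741, 0, 13, 82779) .leaf)) (214742, 0, 15, 62232) (.node (.node .leaf (214743, 0, 12, 4990) .leaf) (214744, 0, 17, 87876) (.node .leaf (214745, 0, 12, 200298) .leaf))))))

/-- part of the orbit tree -/
def itp6_286 : Tree := (.node (.node (.node (.node (.node (.node .leaf (214747, 0, 17, 58904) .leaf) (214752, 0, 13, 59838) (.node .leaf (214753, 0, 17, 61194) .leaf)) (214754, 0, 16, 89686) (.node (.node .leaf (214755, 0, 15, 198520) .leaf) (214764, 0, 14, 9125) (.node .leaf (214765, 0, 15, 136547) .leaf))) (214766, 0, 15, 248791) (.node (.node (.node .leaf (214767, 0, 17, 103161) .leaf) (214772, 0, 13, 180175) (.node .leaf (214773, 0, 16, 149678) .leaf)) (214774, 0, 14, 260333) (.node (.node .leaf (214775, 0, 16, 200339) .leaf) (214776, 0, 18, 10830) (.node .leaf (214777, 0, 14, 160608) .leaf))))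 (214778, 0, 14, 123990) (.node (.node (.node (.node .leaf (214779, 0, 14, 66608) .leaf) (214788, 0, 15, 99472) (.node .leaf (214789, 0, 15, 57885) .leaf)) (214790, 0, 18, 86849) (.node (.node .leaf (214791, 0, 16, 199279) .leaf) (214792, 0, 14, 235563) (.node .leaf (214793, 0, 15, 161692) .leaf))) (214794, 0, 16, 182286) (.node (.node (.node .leaf (214795, 0, 15, 141416) .leaf) (214800, 0, 13, 176856) (.node .leaf (214801, 0, 15, 60406) .leaf)) (214802, 0, 18, 169411) (.node (.node .leaf (214803, 0, 13, 161189) .leaf) (214812, 0, 14, 10073) (.node .leaf (214813, 0, 14, 163447) .leaf))))) (214814, 0, 16, 249643) (.node (.node (.node (.node (.node .leaf (214815, 0, 14, 103941) .leaf) (214820, 0, 14, 247353) (.node .leaf (214821, 0, 17, 106263) .leaf)) (214822, 0, 17, 11851) (.node (.node .leaf (214823, 0, 16, 161637) .leaf) (214824, 0, 15, 37854) (.node .leaf (214825, 0, 13, 29624) .leaf))) (214826, 0, 15, 179146) (.node (.node (.node .leaf (214827, 0, 18, 58084) .leaf) (214832, 0, 15, 249810) (.node .leaf (214833, 0, 17, 11893)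 .leaf)) (214834, 0, 14, 10144) (.node (.node .leaf (214835, 0, 16, 163470) .leaf) (214844, 0, 16, 185000) (.node .leaf (214845, 0, 16, 197501) .leaf)))) (214846, 0, 16, 230029) (.node (.node (.node (.node .leaf (214847, 0, 18, 60175) .leaf) (214848, 0, 16, 186165) (.node .leaf (214849, 0, 17, 181642) .leaf)) (214850, 0, 17, 231184) (.node (.node .leaf (214851, 0, 15, 77304) .leaf) (214860, 0, 16, 133413) (.node .leaf (214861, 0, 15, 20491) .leaf))) (214862, 0, 15, 123223) (.node (.node (.node .leaf (214863, 0, 18, 97229) .leaf) (214868, 0, 18, 38223) (.node .leaf (214869, 0, 16, 30245) .leaf)) (214870, 0, 13, 228669) (.node (.node .leaf (214871, 0, 13, 74771) .leaf) (214872, 0, 16, 131278) (.node .leaf (214873, 0, 18, 23008) .leaf))))))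

/-- part of the orbit tree -/
def itp6_287 : Tree := (.node (.node (.node (.node (.node (.node .leaf (214875, 0, 17, 242066) .leaf) (214880, 0, 13, 122048) (.node .leaf (214881, 0, 16, 243840) .leaf)) (214882, 0, 17, 133596) (.node (.node .leaf (214883, 0, 16, 20722) .leaf) (214892, 0, 16, 226351) (.node .leaf (214893, 0, 16, 204829) .leaf))) (214894, 0, 15, 40029) (.node (.node (.node .leaf (214895, 0, 18, 159800) .leaf) (214900, 0, 17, 124997) (.node .leaf (214901, 0, 12, 228816) .leaf)) (214902, 0, 15, 183699) (.node (.node .leaf (214903, 0, 15, 22809) .leaf) (214904, 0, 13, 98573) (.node .leaf (214905, 0, 13, 74986) .leaf)))) (214906, 0, 15, 38326) (.node (.node (.node (.node .leaf (214907, 0, 14, 183448) .leaf) (214916, 0, 16, 68442) (.node .leaf (214917, 0, 19, 217716) .leaf)) (214918, 0, 18, 189224) (.node (.node .leaf (214919, 0, 16, 47622) .leaf) (214920, 0, 13, 237275) (.node .leaf (214921, 0, 15, 126791) .leaf))) (214922, 0, 15, 24324) (.node (.node (.node .leaf (214923, 0, 14, 48994) .leaf) (214928, 0, 16, 66225)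 (.node .leaf (214929, 0, 16, 220063) .leaf)) (214930, 0, 17, 713) (.node (.node .leaf (214931, 0, 17, 46061) .leaf) (214940, 0, 17, 216663) (.node .leaf (214941, 0, 17, 118302) .leaf))))) (214942, 0, 16, 32578) (.node (.node (.node (.node (.node .leaf (214943, 0, 19, 196116) .leaf) (214948, 0, 16, 6255) (.node .leaf (214949, 0, 16, 143230) .leaf)) (214950, 0, 16, 84042) (.node (.node .leaf (214951, 0, 14, 116492) .leaf) (214952, 0, 18, 189393) (.node .leaf (214953, 0, 17, 189618) .leaf))) (214954, 0, 16, 68515) (.node (.node (.node .leaf (214955, 0, 18, 217741) .leaf) (214960, 0, 13, 32699) (.node .leaf (214961, 0, 13, 178559) .leaf)) (214962, 0, 15, 235465) (.node (.node .leaf (214963, 0, 17, 118503) .leaf) (214972, 0, 17, 17826) (.node .leaf (214973, 0, 14, 42436) .leaf)))) (214974, 0, 16, 71047) (.node (.node (.node (.node .leaf (214975, 0, 13, 128481) .leaf) (214976, 0, 18, 208077) (.node .leaf (214977, 0, 15, 41049) .leaf)) (214978, 0, 17, 69658) (.node (.node .leaf (214979, 0, 15, 171409) .leaf) (214988, 0, 14, 154756)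 (.node .leaf (214989, 0, 14, 179426) .leaf))) (214990, 0, 13, 199841) (.node (.node (.node .leaf (214991, 0, 14, 257223) .leaf) (214996, 0, 17, 131401) (.node .leaf (214997, 0, 15, 188719) .leaf)) (214998, 0, 15, 52564) (.node (.node .leaf (214999, 0, 13, 169082) .leaf) (215000, 0, 16, 7666) (.node .leaf (215001, 0, 17, 64916) .leaf))))))

/-- part of the orbit tree -/
def itp6_288 : Tree := (.node (.node (.node (.node (.node (.node .leaf (215003, 0, 16, 507) .leaf) (215008, 0, 19, 216010) (.node .leaf (215009, 0, 17, 2281) .leaf)) (215010, 0, 17, 113077) (.node (.node .leaf (215011, 0, 18, 254107) .leaf) (215020, 0, 17, 87921) (.node .leaf (215021, 0, 17, 171368) .leaf))) (215022, 0, 18, 207924) (.node (.node (.node .leaf (215023, 0, 17, 59186) .leaf) (215028, 0, 16, 153644) (.node .leaf (215029, 0, 16, 258) .leaf)) (215030, 0, 17, 110686) (.node (.node .leaf (215031, 0, 17, 256368) .leaf) (215032, 0, 16, 202247) (.node .leaf (215033, 0, 11, 169091) .leaf)))) (215034, 0, 12, 149026) (.node (.node (.node (.node .leaf (215035,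 0, 16, 97521) .leaf) (215040, 0, 18, 87811) (.node .leaf (215043, 0, 18, 59200) .leaf)) (215044, 0, 6, 69943) (.node (.node .leaf (215047, 0, 18, 41067) .leaf) (215049, 0, 13, 122264) (.node .leaf (215050, 0, 17, 139966) .leaf))) (215053, 0, 16, 238213) (.node (.node (.node .leaf (215054, 0, 18, 136153) .leaf) (215057, 0, 14, 213490) (.node .leaf (215058, 0, 15, 192686) .leaf)) (215061, 0, 16, 81647) (.node (.node .leaf (215062, 0, 16, 149072) .leaf) (215064, 0, 14, 68302) (.node .leaf (215067, 0, 16, 47757) .leaf))))) (215068, 0, 18, 232797) (.node (.node (.node (.node (.node .leaf (215071, 0, 16, 33710) .leaf) (215072, 0, 16, 154870) (.node .leaf (215075, 0, 18, 257205) .leaf)) (215076, 0, 15, 27709) (.node (.node .leaf (215079, 0, 13, 122209) .leaf) (215081, 0, 17, 41106) (.node .leaf (215082, 0, 17, 76107) .leaf))) (215085, 0, 13, 41003) (.node (.node (.node .leaf (215086, 0, 13, 69736) .leaf) (215089, 0, 16, 146680) (.node .leaf (215090, 0, 18, 95366) .leaf)) (215093, 0, 19, 17381) (.node (.node .leaf (215094, 0, 16, 85413)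 .leaf) (215096, 0, 14, 131387) (.node .leaf (215099, 0, 16, 81430) .leaf)))) (215100, 0, 17, 145432) (.node (.node (.node (.node .leaf (215103, 0, 12, 213259) .leaf) (215105, 0, 15, 94094) (.node .leaf (215106, 0, 17, 224672) .leaf)) (215109, 0, 17, 189632) (.node (.node .leaf (215110, 0, 17, 172495) .leaf) (215112, 0, 16, 252988) (.node .leaf (215115, 0, 17, 108638) .leaf))) (215116, 0, 18, 8510) (.node (.node (.node .leaf (215119, 0, 18, 102781) .leaf) (215120, 0, 15, 17872) (.node .leaf (215123, 0, 15, 128403) .leaf)) (215124, 0, 16, 31987) (.node (.node .leaf (215127, 0, 16, 117936) .leaf) (215129, 0, 16, 259044) (.node .leaf (215130, 0, 14, 209005) .leaf))))))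

/-- part of the orbit tree -/
def itp6_289 : Tree := (.node itp6_285 (214746, 0, 17, 192419) itp6_286)

/-- part of the orbit tree -/
def itp6_290 : Tree := (.node itp6_287 (215002, 0, 16, 153813) itp6_288)

/-- part of the orbit tree -/
def itp6_291 : Tree := (.node (.node (.node (.node (.node (.node .leaf (215134, 0, 14, 15781) .leaf) (215137, 0, 17, 120342) (.node .leaf (215138, 0, 17, 26197) .leaf)) (215141, 0, 15, 126773) (.node (.node .leaf (215142, 0, 16, 253125) .leaf) (215144, 0, 18, 172342) (.node .leaf (215147, 0, 17, 172971) .leaf))) (215148, 0, 16, 56875) (.node (.node (.node .leaf (215151, 0, 14, 94071) .leaf) (215152, 0, 16, 216613) (.node .leaf (215155, 0, 14, 196198) .leaf)) (215156, 0, 18, 148033) (.node (.node .leaf (215159, 0, 17, 182085) .leaf) (215161, 0, 18, 167662) (.node .leaf (215162, 0, 14, 15256) .leaf)))) (215165, 0, 16, 61939) (.node (.node (.node (.node .leaf (215166, 0, 18, 699) .leaf) (215168, 0, 17, 245769) (.node .leaf (215171, 0, 18, 93983) .leaf)) (215172, 0, 16, 260394) (.node (.node .leaf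 (215175, 0, 13, 200706) .leaf) (215177, 0, 16, 159217) (.node .leaf (215178, 0, 17, 46516) .leaf))) (215181, 0, 13, 4844) (.node (.node (.node .leaf (215182, 0, 16, 35991) .leaf) (215185, 0, 15, 61851) (.node .leaf (215186, 0, 15, 82119) .leaf)) (215189, 0, 9, 167558) (.node (.node .leaf (215190, 0, 16, 212954) .leaf) (215192, 0, 18, 236996) (.node .leaf (215195, 0, 17, 142727) .leaf))))) (215196, 0, 18, 238823) (.node (.node (.node (.node (.node .leaf (215199, 0, 17, 136356) .leaf) (215200, 0, 15, 52220) (.node .leaf (215203, 0, 17, 97215) .leaf)) (215204, 0, 15, 253012) (.node (.node .leaf (215207, 0, 17, 158984) .leaf) (215209, 0, 15, 200955) (.node .leaf (215210, 0, 15, 172455) .leaf))) (215213, 0, 16, 145185) (.node (.node (.node .leaf (215214, 0, 13, 231266) .leaf) (215217, 0, 19, 152527) (.node .leaf (215218, 0, 17, 15821) .leaf)) (215221, 0, 17, 258956) (.node (.node .leaf (215222, 0, 17, 252591) .leaf) (215224, 0, 16, 212771) (.node .leaf (215227, 0, 15, 167551) .leaf)))) (215228, 0, 15, 81982) (.node (.node (.node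 (.node .leaf (215231, 0, 16, 73553) .leaf) (215233, 0, 13, 188391) (.node .leaf (215234, 0, 15, 129706) .leaf)) (215237, 0, 17, 29642) (.node (.node .leaf (215238, 0, 14, 115593) .leaf) (215240, 0, 14, 27733) (.node .leaf (215243, 0, 17, 122121) .leaf))) (215244, 0, 19, 177716) (.node (.node (.node .leaf (215247, 0, 17, 198263) .leaf) (215248, 0, 15, 185050) (.node .leaf (215251, 0, 16, 213347) .leaf)) (215252, 0, 17, 191481) (.node (.node .leaf (215255, 0, 14, 220090) .leaf) (215257, 0, 15, 17293) (.node .leaf (215258, 0, 17, 108391) .leaf))))))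

/-- part of the orbit tree -/
def itp6_292 : Tree := (.node (.node (.node (.node (.node (.node .leaf (215262, 0, 15, 106052) .leaf) (215265, 0, 15, 238317) (.node .leaf (215266, 0, 15, 136113) .leaf)) (215269, 0, 14, 122352) (.node (.node .leaf (215270, 0, 16, 27820) .leaf) (215272, 0, 17, 69983) (.node .leaf (215275, 0, 14, 13473) .leaf))) (215276, 0, 16, 224834) (.node (.node (.node .leaf (215279, 0, 15, 188190) .leaf) (215280, 0, 14, 232757) (.node .leaf (215283, 0, 13, 146537) .leaf)) (215284, 0, 15, 127528) (.node (.node .leaf (215287, 0, 15, 17268) .leaf) (215289, 0, 11, 81543) (.node .leaf (215290, 0, 15, 36827) .leaf)))) (215293, 0, 17, 206322) (.node (.node (.node (.node .leaf (215294, 0, 15, 192710) .leaf) (215296, 0, 16, 231881) (.node .leaf (215299, 0, 17, 145557) .leaf)) (215300, 0, 18, 183380) (.node (.node .leaf (215303, 0, 16, 18312) .leaf) (215305, 0, 18, 12425) (.node .leaf (215306, 0, 17, 98506) .leaf))) (215309, 0, 13, 214374) (.node (.node (.node .leaf (215310, 0, 17, 193594) .leaf) (215313, 0, 17, 239121)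 (.node .leaf (215314, 0, 13, 137037) .leaf)) (215317, 0, 18, 21607) (.node (.node .leaf (215318, 0, 15, 26704) .leaf) (215320, 0, 16, 71075) (.node .leaf (215323, 0, 16, 203001) .leaf))))) (215324, 0, 14, 223934) (.node (.node (.node (.node (.node .leaf (215327, 0, 15, 205274) .leaf) (215328, 0, 16, 193731) (.node .leaf (215331, 0, 16, 20161) .leaf)) (215332, 0, 13, 116641) (.node (.node .leaf (215335, 0, 17, 80514) .leaf) (215337, 0, 13, 211836) (.node .leaf (215338, 0, 14, 166719) .leaf))) (215341, 0, 17, 197215) (.node (.node (.node .leaf (215342, 0, 15, 176668) .leaf) (215345, 0, 15, 222897) (.node .leaf (215346, 0, 12, 186098) .leaf)) (215349, 0, 15, 41990) (.node (.node .leaf (215350, 0, 14, 192465) .leaf) (215352, 0, 15, 26793) (.node .leaf (215355, 0, 14, 4876) .leaf)))) (215356, 0, 16, 137140) (.node (.node (.node (.node .leaf (215359, 0, 16, 10799) .leaf) (215361, 0, 17, 98199) (.node .leaf (215362, 0, 13, 53204) .leaf)) (215365, 0, 15, 83636) (.node (.node .leaf (215366, 0, 18, 63223) .leaf) (215368, 0, 15, 211935)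 (.node .leaf (215371, 0, 16, 133674) .leaf))) (215372, 0, 16, 230218) (.node (.node (.node .leaf (215375, 0, 15, 62878) .leaf) (215376, 0, 17, 108469) (.node .leaf (215379, 0, 18, 153575) .leaf)) (215380, 0, 12, 253575) (.node (.node .leaf (215383, 0, 16, 159428) .leaf) (215385, 0, 18, 201735) (.node .leaf (215386, 0, 16, 173403) .leaf))))))

/-- part of the orbit tree -/
def itp6_293 : Tree := (.node (.node (.node (.node (.node (.node .leaf (215390, 0, 18, 55878) .leaf) (215393, 0, 16, 62823) (.node .leaf (215394, 0, 16, 83003) .leaf)) (215397, 0, 18, 166522) (.node (.node .leaf (215398, 0, 17, 261378) .leaf) (215400, 0, 15, 45468) (.node .leaf (215403, 0, 14, 259977) .leaf))) (215404, 0, 14, 35007) (.node (.node (.node .leaf (215407, 0, 16, 80124) .leaf) (215408, 0, 15, 55999) (.node .leaf (215411, 0, 16, 89106) .leaf)) (215412, 0, 17, 54642) (.node (.node .leaf (215415, 0, 16, 201982) .leaf) (215417, 0, 16, 141743) (.node .leaf (215418, 0, 10, 236012) .leaf)))) (215421, 0, 15, 135308) (.node (.node (.node (.node .leaf (215422,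 0, 18, 237775) .leaf) (215424, 0, 17, 25213) (.node .leaf (215427, 0, 18, 119358) .leaf)) (215428, 0, 16, 23390) (.node (.node .leaf (215431, 0, 15, 125725) .leaf) (215433, 0, 17, 173955) (.node .leaf (215434, 0, 15, 211790) .leaf))) (215437, 0, 17, 171680) (.node (.node (.node .leaf (215438, 0, 16, 208611) .leaf) (215441, 0, 12, 5752) (.node .leaf (215442, 0, 15, 108324) .leaf)) (215445, 0, 15, 181101) (.node (.node .leaf (215446, 0, 15, 226094) .leaf) (215448, 0, 17, 173514) (.node .leaf (215451, 0, 16, 102387) .leaf))))) (215452, 0, 16, 1683) (.node (.node (.node (.node (.node .leaf (215455, 0, 16, 93067) .leaf) (215456, 0, 16, 83114) (.node .leaf (215459, 0, 16, 62966) .leaf)) (215460, 0, 16, 217259) (.node (.node .leaf (215463, 0, 12, 188648) .leaf) (215465, 0, 18, 259864) (.node .leaf (215466, 0, 15, 149060) .leaf))) (215469, 0, 15, 103765) (.node (.node (.node .leaf (215470, 0, 18, 9494) .leaf) (215473, 0, 18, 93042) (.node .leaf (215474, 0, 16, 55854) .leaf)) (215477, 0, 18, 116888) (.node (.node .leaf (215478, 0, 17,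 173363) .leaf) (215480, 0, 18, 209989) (.node .leaf (215483, 0, 16, 158108) .leaf)))) (215484, 0, 12, 200038) (.node (.node (.node (.node .leaf (215487, 0, 16, 5761) .leaf) (215489, 0, 13, 256157) (.node .leaf (215490, 0, 14, 153822) .leaf)) (215493, 0, 17, 18201) (.node (.node .leaf (215494, 0, 18, 128581) .leaf) (215496, 0, 15, 35766) (.node .leaf (215499, 0, 17, 40224) .leaf))) (215500, 0, 17, 193707) (.node (.node (.node .leaf (215503, 0, 18, 214519) .leaf) (215504, 0, 17, 94382) (.node .leaf (215507, 0, 15, 49389) .leaf)) (215508, 0, 15, 26817) (.node (.node .leaf (215511, 0, 17, 63950) .leaf) (215513, 0, 16, 243024) (.node .leaf (215514, 0, 13, 132371) .leaf))))))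

/-- part of the orbit tree -/
def itp6_294 : Tree := (.node (.node (.node (.node (.node (.node .leaf (215518, 0, 14, 223791) .leaf) (215521, 0, 15, 214286) (.node .leaf (215522, 0, 16, 193618) .leaf)) (215525, 0, 17, 55883) (.node (.node .leaf (215526, 0, 18, 35663) .leaf) (215528, 0, 17, 140950) (.node .leaf (215531, 0, 18, 18400) .leaf))) (215532, 0, 17, 231841) (.node (.node (.node .leaf (215535, 0, 17, 241654) .leaf) (215536, 0, 13, 223958) (.node .leaf (215539, 0, 17, 248600) .leaf)) (215540, 0, 16, 71115) (.node (.node .leaf (215543, 0, 14, 42135) .leaf) (215545, 0, 15, 121188) (.node .leaf (215546, 0, 17, 69350) .leaf)))) (215549, 0, 18, 239225) (.node (.node (.node (.node .leaf (215550, 0, 12, 136997) .leaf) (215554, 0, 16, 11094) (.node .leaf (215555, 0, 18, 52016) .leaf)) (215558, 0, 18, 195689) (.node (.node .leaf (215559, 0, 18, 42311) .leaf) (215560, 0, 16, 229786) (.node .leaf (215561, 0, 17, 245389) .leaf))) (215564, 0, 13, 130695) (.node (.node (.node .leaf (215565, 0, 16, 231342) .leaf) (215568, 0, 14, 197414)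 (.node .leaf (215569, 0, 18, 254784) .leaf)) (215572, 0, 16, 221933) (.node (.node .leaf (215573, 0, 19, 252515) .leaf) (215578, 0, 14, 30363) (.node .leaf (215579, 0, 15, 17968) .leaf))))) (215582, 0, 14, 20408) (.node (.node (.node (.node (.node .leaf (215583, 0, 16, 45022) .leaf) (215586, 0, 17, 130686) (.node .leaf (215587, 0, 18, 245957) .leaf)) (215590, 0, 12, 229731) (.node (.node .leaf (215591, 0, 15, 120909) .leaf) (215592, 0, 12, 195728) (.node .leaf (215593, 0, 18, 46456) .leaf))) (215596, 0, 15, 27709) (.node (.node (.node .leaf (215597, 0, 12, 35931) .leaf) (215600, 0, 16, 2259) (.node .leaf (215601, 0, 16, 145876) .leaf)) (215604, 0, 15, 139239) (.node (.node .leaf (215605, 0, 16, 18121) .leaf) (215610, 0, 13, 228718) (.node .leaf (215611, 0, 11, 80698) .leaf)))) (215614, 0, 12, 214093) (.node (.node (.node (.node .leaf (215615, 0, 14, 214055) .leaf) (215616, 0, 16, 209804) (.node .leaf (215617, 0, 14, 192915) .leaf)) (215620, 0, 11, 141526) (.node (.node .leaf (215621, 0, 16, 182448) .leaf) (215626, 0, 16, 12642)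 (.node .leaf (215627, 0, 14, 99374) .leaf))) (215630, 0, 13, 151167) (.node (.node (.node .leaf (215631, 0, 15, 5969) .leaf) (215634, 0, 16, 80261) (.node .leaf (215635, 0, 15, 62502) .leaf)) (215638, 0, 16, 53781) (.node (.node .leaf (215639, 0, 16, 123072) .leaf) (215640, 0, 14, 110566) .leaf)))))

/-- part of the orbit tree -/
def itp6_295 : Tree := (.node itp6_291 (215261, 0, 17, 11783) itp6_292)

/-- part of the orbit tree -/
def itp6_296 : Tree := (.node itp6_293 (215517, 0, 17, 232563) itp6_294)

/-- part of the orbit tree -/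
def itp6_297 : Tree := (.node itp6_289 (214874, 0, 17, 252637) itp6_290)

/-- part of the orbit tree -/
def itp6_298 : Tree := (.node itp6_295 (215389, 0, 17, 92954) itp6_296)

/-- part of the orbit tree -/
def itp6_299 : Tree := (.node (.node (.node (.node (.node (.node .leaf (215644, 0, 17, 161051) .leaf) (215645, 0, 18, 169341) (.node .leaf (215648, 0, 16, 72192) .leaf)) (215649, 0, 17, 6056) (.node (.node .leaf (215652, 0, 16, 12699) .leaf) (215653, 0, 16, 115525) (.node .leaf (215658, 0, 17, 85096) .leaf))) (215659, 0, 18, 202054) (.node (.node (.node .leaf (215662, 0, 16, 153246) .leaf) (215663, 0, 14, 92763) (.node .leaf (215666, 0, 15, 143984) .leaf)) (215667, 0, 17, 100652) (.node (.node .leaf (215670, 0, 11, 133971) .leaf) (215671, 0, 15, 259633) (.node .leaf (215672, 0, 17, 83917) .leaf)))) (215673, 0, 16, 166850) (.node (.node (.node (.node .leaf (215676, 0, 18, 175601) .leaf) (215677, 0, 14, 106120) (.node .leaf (215682, 0, 15, 209693) .leaf)) (215683, 0, 16, 154682) (.node (.node .leaf (215686, 0, 14, 84992) .leaf)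 (215687, 0, 17, 156953) (.node .leaf (215688, 0, 17, 12787) .leaf))) (215689, 0, 18, 157917) (.node (.node (.node .leaf (215692, 0, 16, 151278) .leaf) (215693, 0, 15, 6080) (.node .leaf (215696, 0, 16, 103468) .leaf)) (215697, 0, 14, 95306) (.node (.node .leaf (215700, 0, 14, 109839) .leaf) (215701, 0, 17, 166826) (.node .leaf (215706, 0, 16, 110455) .leaf))))) (215707, 0, 17, 131575) (.node (.node (.node (.node (.node .leaf (215710, 0, 12, 249962) .leaf) (215711, 0, 15, 145620) (.node .leaf (215714, 0, 15, 151063) .leaf)) (215715, 0, 13, 5945) (.node (.node .leaf (215718, 0, 17, 102026) .leaf) (215719, 0, 13, 157732) (.node .leaf (215720, 0, 17, 85241) .leaf))) (215721, 0, 15, 139890) (.node (.node (.node .leaf (215724, 0, 19, 209892) .leaf) (215725, 0, 17, 138065) (.node .leaf (215728, 0, 17, 250003) .leaf)) (215729, 0, 17, 163775) (.node (.node .leaf (215732, 0, 17, 173818) .leaf) (215733, 0, 17, 149148) (.node .leaf (215738, 0, 16, 125540) .leaf)))) (215739, 0, 16, 166739) (.node (.node (.node (.node .leaf (215742, 0, 15,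 175456) .leaf) (215743, 0, 16, 78625) (.node .leaf (215744, 0, 16, 33765) .leaf)) (215745, 0, 13, 187083) (.node (.node .leaf (215748, 0, 15, 195832) .leaf) (215749, 0, 16, 24506) (.node .leaf (215754, 0, 18, 258882) .leaf))) (215755, 0, 15, 120869) (.node (.node (.node .leaf (215758, 0, 16, 248417) .leaf) (215759, 0, 14, 239416) (.node .leaf (215762, 0, 15, 241295) .leaf)) (215763, 0, 16, 216809) (.node (.node .leaf (215766, 0, 17, 221820) .leaf) (215767, 0, 16, 80722) (.node .leaf (215768, 0, 13, 56114) .leaf))))))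

/-- part of the orbit tree -/
def itp6_300 : Tree := (.node (.node (.node (.node (.node (.node .leaf (215772, 0, 17, 24722) .leaf) (215773, 0, 17, 145852) (.node .leaf (215776, 0, 17, 232714) .leaf)) (215777, 0, 16, 224620) (.node (.node .leaf (215780, 0, 18, 242729) .leaf) (215781, 0, 15, 121052) (.node .leaf (215786, 0, 17, 63671) .leaf))) (215787, 0, 18, 6353) (.node (.node (.node .leaf (215790, 0, 16, 49556) .leaf) (215791, 0, 11, 8690) (.node .leaf (215794, 0, 16, 24683) .leaf)) (215795, 0, 19, 145733) (.node (.node .leaf (215798, 0, 15, 139126) .leaf) (215799, 0, 16, 18008) (.node .leaf (215800, 0, 17, 221829) .leaf)))) (215801, 0, 16, 80811) (.node (.node (.node (.node .leaf (215804, 0, 15, 73112) .leaf) (215805, 0, 19, 199042) (.node .leaf (215810, 0, 15, 231714) .leaf)) (215811, 0, 17, 146873) (.node (.node .leaf (215814, 0, 18, 138122) .leaf) (215815, 0, 16, 217191) (.node .leaf (215816, 0, 15, 222841) .leaf))) (215817, 0, 15, 7417) (.node (.node (.node .leaf (215820, 0, 15, 50620) .leaf) (215821, 0, 17, 213066)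 (.node .leaf (215824, 0, 19, 129555) .leaf)) (215825, 0, 16, 238397) (.node (.node .leaf (215828, 0, 17, 39025) .leaf) (215829, 0, 16, 121888) (.node .leaf (215834, 0, 15, 194813) .leaf))))) (215835, 0, 15, 41427) (.node (.node (.node (.node (.node .leaf (215838, 0, 13, 34784) .leaf) (215839, 0, 13, 200106) (.node .leaf (215842, 0, 17, 33495) .leaf)) (215843, 0, 17, 25265) (.node (.node .leaf (215846, 0, 15, 222848) .leaf) (215847, 0, 14, 23442) (.node .leaf (215848, 0, 15, 259946) .leaf))) (215849, 0, 17, 202508) (.node (.node (.node .leaf (215852, 0, 13, 249417) .leaf) (215853, 0, 11, 208431) (.node .leaf (215856, 0, 14, 34585) .leaf)) (215857, 0, 14, 215745) (.node (.node .leaf (215860, 0, 15, 194564) .leaf) (215861, 0, 14, 41258) (.node .leaf (215866, 0, 17, 230903) .leaf)))) (215867, 0, 15, 16252) (.node (.node (.node (.node .leaf (215870, 0, 16, 129770) .leaf) (215871, 0, 17, 1631) (.node .leaf (215872, 0, 14, 111489) .leaf)) (215873, 0, 13, 101697) (.node (.node .leaf (215876, 0, 17, 109426) .leaf) (215877, 0, 17, 92868)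 (.node .leaf (215882, 0, 16, 181820) .leaf))) (215883, 0, 16, 167855) (.node (.node (.node .leaf (215886, 0, 16, 196383) .leaf) (215887, 0, 17, 61618) (.node .leaf (215890, 0, 16, 170993) .leaf)) (215891, 0, 15, 162711) (.node (.node .leaf (215894, 0, 16, 13814) .leaf) (215895, 0, 18, 148148) (.node .leaf (215896, 0, 18, 126540) .leaf))))))

/-- part of the orbit tree -/
def itp6_301 : Tree := (.node (.node (.node (.node (.node (.node .leaf (215900, 0, 18, 120687) .leaf) (215901, 0, 16, 79625) (.node .leaf (215904, 0, 15, 174437) .leaf)) (215905, 0, 14, 153618) (.node (.node .leaf (215908, 0, 14, 54904) .leaf) (215909, 0, 17, 167766) (.node .leaf (215914, 0, 12, 118217) .leaf))) (215915, 0, 12, 77231) (.node (.node (.node .leaf (215918, 0, 17, 251030) .leaf) (215919, 0, 14, 101816) (.node .leaf (215922, 0, 17, 210913) .leaf)) (215923, 0, 17, 94306) (.node (.node .leaf (215926, 0, 16, 108839) .leaf) (215927, 0, 15, 201170) (.node .leaf (215928, 0, 14, 13583) .leaf)))) (215929, 0, 16, 158753) (.node (.node (.node (.node .leaf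 (215932, 0, 16, 187546) .leaf) (215933, 0, 15, 146684) (.node .leaf (215938, 0, 15, 73256) .leaf)) (215939, 0, 14, 101840) (.node (.node .leaf (215942, 0, 15, 75531) .leaf) (215943, 0, 18, 116589) (.node .leaf (215944, 0, 18, 54800) .leaf))) (215945, 0, 11, 166899) (.node (.node (.node .leaf (215948, 0, 13, 174349) .leaf) (215949, 0, 16, 176848) (.node .leaf (215952, 0, 17, 144984) .leaf)) (215953, 0, 16, 185918) (.node (.node .leaf (215956, 0, 17, 13671) .leaf) (215957, 0, 16, 158793) (.node .leaf (215962, 0, 16, 82917) .leaf))))) (215963, 0, 16, 107395) (.node (.node (.node (.node (.node .leaf (215966, 0, 12, 210825) .leaf) (215967, 0, 17, 93863) (.node .leaf (215970, 0, 14, 174580) .leaf)) (215971, 0, 17, 61658) (.node (.node .leaf (215974, 0, 16, 55017) .leaf) (215975, 0, 14, 183448) (.node .leaf (215976, 0, 17, 109338) .leaf))) (215977, 0, 17, 258612) (.node (.node (.node .leaf (215980, 0, 18, 88387) .leaf) (215981, 0, 13, 112933) (.node .leaf (215984, 0, 14, 81325) .leaf)) (215985, 0, 15, 122315) (.node (.node .leaf (215988,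 0, 18, 66702) .leaf) (215989, 0, 17, 124136) (.node .leaf (215994, 0, 16, 149520) .leaf)))) (215995, 0, 16, 158896) (.node (.node (.node (.node .leaf (215998, 0, 16, 160051) .leaf) (215999, 0, 18, 168277) (.node .leaf (216000, 0, 17, 205963) .leaf)) (216001, 0, 14, 247021) (.node (.node .leaf (216004, 0, 15, 138011) .leaf) (216005, 0, 18, 16949) (.node .leaf (216010, 0, 18, 20790) .leaf))) (216011, 0, 14, 45392) (.node (.node (.node .leaf (216014, 0, 15, 72181) .leaf) (216015, 0, 14, 34931) (.node .leaf (216018, 0, 16, 129666) .leaf)) (216019, 0, 17, 60573) (.node (.node .leaf (216022, 0, 13, 230815) .leaf) (216023, 0, 17, 122033) (.node .leaf (216024, 0, 15, 194668) .leaf))))))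

/-- part of the orbit tree -/
def itp6_302 : Tree := (.node (.node (.node (.node (.node (.node .leaf (216028, 0, 16, 213093) .leaf) (216029, 0, 15, 237571) (.node .leaf (216032, 0, 15, 71948) .leaf)) (216033, 0, 15, 213026) (.node (.node .leaf (216036, 0, 18, 5725) .leaf) (216037, 0, 12, 63035) (.node .leaf (216042, 0, 16, 138210) .leaf))) (216043, 0, 17, 244389) (.node (.node (.node .leaf (216046, 0, 15, 25855) .leaf) (216047, 0, 16, 230278) (.node .leaf (216050, 0, 13, 198414) .leaf)) (216051, 0, 16, 188070) (.node (.node .leaf (216054, 0, 15, 212525) .leaf) (216055, 0, 18, 253515) (.node .leaf (216056, 0, 17, 29363) .leaf)))) (216057, 0, 16, 121928) (.node (.node (.node (.node .leaf (216060, 0, 14, 19344) .leaf) (216061, 0, 16, 238421) (.node .leaf (216065, 0, 14, 44493) .leaf)) (216067, 0, 17, 119426) (.node (.node .leaf (216069, 0, 13, 38126) .leaf) (216071, 0, 12, 115915) (.node .leaf (216072, 0, 12, 157747) .leaf))) (216074, 0, 15, 221488) (.node (.node (.node .leaf (216076, 0, 14, 151824) .leaf) (216078, 0, 17, 73261)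 (.node .leaf (216080, 0, 16, 136488) .leaf)) (216082, 0, 15, 222683) (.node (.node .leaf (216084, 0, 16, 27189) .leaf) (216086, 0, 15, 220408) (.node .leaf (216089, 0, 12, 61440) .leaf))))) (216091, 0, 15, 216808) (.node (.node (.node (.node (.node .leaf (216093, 0, 17, 51491) .leaf) (216095, 0, 14, 104710) (.node .leaf (216097, 0, 13, 215034) .leaf)) (216099, 0, 15, 194077) (.node (.node .leaf (216101, 0, 15, 237339) .leaf) (216103, 0, 17, 184469) (.node .leaf (216104, 0, 17, 91078) .leaf))) (216106, 0, 16, 13283) (.node (.node (.node .leaf (216108, 0, 18, 232277) .leaf) (216110, 0, 16, 2752) (.node .leaf (216112, 0, 19, 223266) .leaf)) (216114, 0, 18, 32848) (.node (.node .leaf (216116, 0, 16, 71487) .leaf) (216118, 0, 17, 22285) (.node .leaf (216121, 0, 16, 121744) .leaf)))) (216123, 0, 18, 144354) (.node (.node (.node (.node .leaf (216125, 0, 16, 246486) .leaf) (216127, 0, 17, 19711) (.node .leaf (216128, 0, 16, 15188) .leaf)) (216130, 0, 12, 161544) (.node (.node .leaf (216132, 0, 17, 148553) .leaf) (216134, 0, 14, 109627)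 (.node .leaf (216137, 0, 15, 166118) .leaf))) (216139, 0, 16, 90260) (.node (.node (.node .leaf (216141, 0, 18, 121840) .leaf) (216143, 0, 17, 204681) (.node .leaf (216145, 0, 17, 5260) .leaf)) (216147, 0, 11, 261374) (.node (.node .leaf (216149, 0, 16, 99901) .leaf) (216151, 0, 15, 99299) (.node .leaf (216152, 0, 12, 228064) .leaf))))))

/-- part of the orbit tree -/
def itp6_303 : Tree := (.node itp6_299 (215769, 0, 16, 15188) itp6_300)

/-- part of the orbit tree -/
def itp6_304 : Tree := (.node itp6_301 (216025, 0, 15, 41282) itp6_302)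

/-- part of the orbit tree -/
def itp6_305 : Tree := (.node (.node (.node (.node (.node (.node .leaf (216156, 0, 14, 55331) .leaf) (216158, 0, 16, 136166) (.node .leaf (216160, 0, 17, 83550) .leaf)) (216162, 0, 16, 175660) (.node (.node .leaf (216164, 0, 18, 5627) .leaf) (216166, 0, 17, 83422) (.node .leaf (216169, 0, 15, 259564) .leaf))) (216171, 0, 15, 7582) (.node (.node (.node .leaf (216173, 0, 18, 184325) .leaf) (216175, 0, 16, 229408) (.node .leaf (216177, 0, 17, 92550) .leaf)) (216179, 0, 14, 255182) (.node (.node .leaf (216181, 0, 17, 202395) .leaf) (216183, 0, 16, 65257) (.node .leaf (216184, 0, 17, 252468) .leaf)))) (216186, 0, 16, 74032) (.node (.node (.node (.node .leaf (216188, 0, 16, 18486) .leaf) (216190, 0, 14, 150875) (.node .leaf (216193, 0, 14, 146119) .leaf)) (216195, 0, 14, 156395) (.node (.node .leaf (216197, 0, 15, 259460) .leaf) (216199, 0, 17, 218049) (.node .leaf (216200, 0, 15, 211243) .leaf))) (216202, 0, 18, 53593) (.node (.node (.node .leaf (216204, 0, 17, 83510) .leaf) (216206, 0, 14, 175684)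 (.node .leaf (216208, 0, 14, 107841) .leaf)) (216210, 0, 17, 150835) (.node (.node .leaf (216212, 0, 17, 252508) .leaf) (216214, 0, 18, 117746) (.node .leaf (216217, 0, 11, 157450) .leaf))))) (216219, 0, 17, 65153) (.node (.node (.node (.node (.node .leaf (216221, 0, 15, 155177) .leaf) (216223, 0, 17, 164252) (.node .leaf (216225, 0, 16, 63379) .leaf)) (216227, 0, 17, 204769) (.node (.node .leaf (216229, 0, 14, 67601) .leaf) (216231, 0, 15, 90364) (.node .leaf (216232, 0, 15, 259276) .leaf))) (216234, 0, 16, 173289) (.node (.node (.node .leaf (216236, 0, 18, 15164) .leaf) (216238, 0, 15, 250702) (.node .leaf (216240, 0, 13, 239873) .leaf)) (216242, 0, 16, 208953) (.node (.node .leaf (216244, 0, 16, 173910) .leaf) (216246, 0, 17, 180231) (.node .leaf (216249, 0, 15, 93439) .leaf)))) (216251, 0, 16, 99211) (.node (.node (.node (.node .leaf (216253, 0, 16, 87516) .leaf) (216255, 0, 16, 1529) (.node .leaf (216256, 0, 18, 110631) .leaf)) (216258, 0, 16, 25423) (.node (.node .leaf (216260, 0, 17, 100612) .leaf) (216262, 0, 16, 55585)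 (.node .leaf (216265, 0, 15, 80015) .leaf))) (216267, 0, 16, 184573) (.node (.node (.node .leaf (216269, 0, 18, 214930) .leaf) (216271, 0, 15, 45024) (.node .leaf (216273, 0, 17, 206868) .leaf)) (216275, 0, 17, 161841) (.node (.node .leaf (216277, 0, 18, 201015) .leaf) (216279, 0, 17, 144266) (.node .leaf (216280, 0, 16, 71511) .leaf))))))

/-- part of the orbit tree -/
def itp6_306 : Tree := (.node (.node (.node (.node (.node (.node .leaf (216284, 0, 16, 223306) .leaf) (216286, 0, 17, 34028) (.node .leaf (216288, 0, 17, 179154) .leaf)) (216290, 0, 16, 73285) (.node (.node .leaf (216292, 0, 12, 164593) .leaf) (216294, 0, 16, 221528) (.node .leaf (216297, 0, 15, 32300) .leaf))) (216299, 0, 16, 241143) (.node (.node (.node .leaf (216301, 0, 17, 18191) .leaf) (216303, 0, 16, 71466) (.node .leaf (216305, 0, 16, 9185) .leaf)) (216307, 0, 17, 95172) (.node (.node .leaf (216309, 0, 19, 6850) .leaf) (216311, 0, 16, 84711) (.node .leaf (216312, 0, 15, 27229) .leaf)))) (216314, 0, 17, 243258) (.node (.node (.node (.node .leaf (216316,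 0, 18, 188220) .leaf) (216318, 0, 16, 130354) (.node .leaf (216321, 0, 14, 200633) .leaf)) (216323, 0, 18, 79201) (.node (.node .leaf (216325, 0, 15, 41486) .leaf) (216327, 0, 17, 157375) (.node .leaf (216328, 0, 14, 117319) .leaf))) (216330, 0, 17, 39522) (.node (.node (.node .leaf (216332, 0, 14, 127844) .leaf) (216334, 0, 19, 129486) (.node .leaf (216336, 0, 16, 193227) .leaf)) (216338, 0, 19, 72377) (.node (.node .leaf (216340, 0, 17, 110249) .leaf) (216342, 0, 16, 65164) (.node .leaf (216345, 0, 18, 16761) .leaf))))) (216347, 0, 18, 239883) (.node (.node (.node (.node (.node .leaf (216349, 0, 17, 147044) .leaf) (216351, 0, 17, 146290) (.node .leaf (216353, 0, 16, 237593) .leaf)) (216355, 0, 18, 18539) (.node (.node .leaf (216357, 0, 14, 122628) .leaf) (216359, 0, 16, 145270) (.node .leaf (216360, 0, 17, 70571) .leaf))) (216362, 0, 17, 233879) (.node (.node (.node .leaf (216364, 0, 15, 224438) .leaf) (216366, 0, 13, 239796) (.node .leaf (216368, 0, 17, 171135) .leaf)) (216370, 0, 15, 248922) (.node (.node .leaf (216372,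 0, 14, 173404) .leaf) (216374, 0, 16, 259449) (.node .leaf (216377, 0, 16, 22913) .leaf)))) (216379, 0, 18, 68004) (.node (.node (.node (.node .leaf (216381, 0, 14, 213870) .leaf) (216383, 0, 16, 77959) (.node .leaf (216384, 0, 16, 34137) .leaf)) (216386, 0, 15, 210117) (.node (.node .leaf (216388, 0, 17, 48250) .leaf) (216390, 0, 17, 84952) (.node .leaf (216393, 0, 16, 147623) .leaf))) (216395, 0, 16, 200834) (.node (.node (.node .leaf (216397, 0, 18, 4120) .leaf) (216399, 0, 17, 207265) (.node .leaf (216401, 0, 15, 138602) .leaf)) (216403, 0, 14, 203549) (.node (.node .leaf (216405, 0, 16, 140361) .leaf) (216407, 0, 17, 226412) (.node .leaf (216408, 0, 17, 147677) .leaf))))))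

/-- part of the orbit tree -/
def itp6_307 : Tree := (.node (.node (.node (.node (.node (.node .leaf (216412, 0, 18, 57783) .leaf) (216414, 0, 15, 110994) (.node .leaf (216416, 0, 16, 233132) .leaf)) (216418, 0, 16, 149967) (.node (.node .leaf (216420, 0, 14, 253600) .leaf) (216422, 0, 16, 14034) (.node .leaf (216425, 0, 16, 84818) .leaf))) (216427, 0, 15, 64125) (.node (.node (.node .leaf (216429, 0, 17, 93458) .leaf) (216431, 0, 16, 165216) (.node .leaf (216433, 0, 16, 101989) .leaf)) (216435, 0, 17, 18106) (.node (.node .leaf (216437, 0, 16, 77756) .leaf) (216439, 0, 16, 6410) (.node .leaf (216440, 0, 15, 212439) .leaf)))) (216442, 0, 16, 54693) (.node (.node (.node (.node .leaf (216444, 0, 17, 256578) .leaf) (216446, 0, 17, 174776) (.node .leaf (216449, 0, 14, 104627) .leaf)) (216451, 0, 12, 51350) (.node (.node .leaf (216453, 0, 17, 106896) .leaf) (216455, 0, 15, 64021) (.node .leaf (216456, 0, 13, 253640) .leaf))) (216458, 0, 13, 14010) (.node (.node (.node .leaf (216460, 0, 15, 222318) .leaf) (216462, 0, 17, 149927)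 (.node .leaf (216464, 0, 14, 82594) .leaf)) (216466, 0, 16, 151717) (.node (.node .leaf (216468, 0, 16, 212415) .leaf) (216470, 0, 17, 158086) (.node .leaf (216473, 0, 15, 258320) .leaf))))) (216475, 0, 18, 6498) (.node (.node (.node (.node (.node .leaf (216477, 0, 16, 101901) .leaf) (216479, 0, 16, 157311) (.node .leaf (216481, 0, 14, 4208) .leaf)) (216483, 0, 15, 246627) (.node (.node .leaf (216485, 0, 16, 159597) .leaf) (216487, 0, 13, 260672) (.node .leaf (216488, 0, 15, 172994) .leaf))) (216490, 0, 18, 67229) (.node (.node (.node .leaf (216492, 0, 16, 56543) .leaf) (216494, 0, 15, 81854) (.node .leaf (216496, 0, 17, 2933) .leaf)) (216498, 0, 14, 251866) (.node (.node .leaf (216500, 0, 15, 12886) .leaf) (216502, 0, 16, 108743) (.node .leaf (216505, 0, 15, 183947) .leaf)))) (216507, 0, 15, 237230) (.node (.node (.node (.node .leaf (216509, 0, 17, 62215) .leaf) (216511, 0, 19, 203637) (.node .leaf (216512, 0, 17, 224478) .leaf)) (216514, 0, 16, 213622) (.node (.node .leaf (216516, 0, 14, 142192) .leaf) (216518, 0, 16, 195505)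 (.node .leaf (216521, 0, 12, 122732) .leaf))) (216523, 0, 18, 145182) (.node (.node (.node .leaf (216525, 0, 17, 237681) .leaf) (216527, 0, 16, 18435) (.node .leaf (216529, 0, 16, 35424) .leaf)) (216531, 0, 16, 121413) (.node (.node .leaf (216533, 0, 18, 80923) .leaf) (216535, 0, 14, 185449) (.node .leaf (216536, 0, 13, 151454) .leaf))))))

/-- part of the orbit tree -/
def itp6_308 : Tree := (.node (.node (.node (.node (.node (.node .leaf (216540, 0, 16, 161469) .leaf) (216542, 0, 14, 26587) (.node .leaf (216544, 0, 18, 72102) .leaf)) (216546, 0, 16, 129446) (.node (.node .leaf (216548, 0, 14, 28361) .leaf) (216550, 0, 17, 28832) (.node .leaf (216553, 0, 17, 41574) .leaf))) (216555, 0, 17, 215572) (.node (.node (.node .leaf (216557, 0, 15, 255355) .leaf) (216559, 0, 17, 79113) (.node .leaf (216561, 0, 18, 229781) .leaf)) (216563, 0, 15, 184752) (.node (.node .leaf (216565, 0, 16, 16657) .leaf) (216567, 0, 18, 190611) (.node .leaf (216568, 0, 17, 83051) .leaf)))) (216570, 0, 17, 222668) (.node (.node (.node (.node .leaf (216572,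 0, 16, 193187) .leaf) (216574, 0, 17, 11629) (.node .leaf (216576, 0, 16, 25051) .leaf)) (216577, 0, 17, 33213) (.node (.node .leaf (216578, 0, 14, 233088) .leaf) (216579, 0, 16, 119192) (.node .leaf (216580, 0, 13, 22776) .leaf))) (216581, 0, 14, 16577) (.node (.node (.node .leaf (216582, 0, 18, 67805) .leaf) (216583, 0, 16, 239795) (.node .leaf (216600, 0, 18, 15382) .leaf)) (216601, 0, 16, 41910) (.node (.node .leaf (216602, 0, 16, 70378) .leaf) (216603, 0, 16, 216004) (.node .leaf (216604, 0, 16, 1333) .leaf))))) (216605, 0, 16, 58707) (.node (.node (.node (.node (.node .leaf (216606, 0, 17, 87312) .leaf) (216607, 0, 16, 111990) (.node .leaf (216608, 0, 17, 223790) .leaf)) (216609, 0, 17, 213718) (.node (.node .leaf (216610, 0, 18, 145931) .leaf) (216611, 0, 18, 186989) (.node .leaf (216612, 0, 15, 217869) .leaf))) (216613, 0, 15, 81355) (.node (.node (.node .leaf (216614, 0, 16, 35991) .leaf) (216615, 0, 14, 185785) (.node .leaf (216632, 0, 17, 210915) .leaf)) (216633, 0, 17, 122556) (.node (.node .leaf (216634, 0, 18,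 157638) .leaf) (216635, 0, 16, 165792) (.node .leaf (216636, 0, 15, 129167) .leaf)))) (216637, 0, 13, 257702) (.node (.node (.node (.node .leaf (216638, 0, 18, 135421) .leaf) (216639, 0, 14, 179843) (.node .leaf (216648, 0, 16, 77509) .leaf)) (216649, 0, 15, 118435) (.node (.node .leaf (216650, 0, 16, 212118) .leaf) (216651, 0, 15, 91576) (.node .leaf (216652, 0, 16, 175097) .leaf))) (216653, 0, 14, 62167) (.node (.node (.node .leaf (216654, 0, 17, 18371) .leaf) (216655, 0, 15, 203429) (.node .leaf (216656, 0, 13, 149646) .leaf)) (216657, 0, 12, 4512) (.node (.node .leaf (216658, 0, 16, 9005) .leaf) (216659, 0, 18, 49995) .leaf)))))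

/-- part of the orbit tree -/
def itp6_309 : Tree := (.node itp6_305 (216282, 0, 17, 48591) itp6_306)

/-- part of the orbit tree -/
def itp6_310 : Tree := (.node itp6_307 (216538, 0, 14, 204731) itp6_308)

/-- part of the orbit tree -/
def itp6_311 : Tree := (.node itp6_303 (215897, 0, 15, 69162) itp6_304)

/-- part of the orbit tree -/
def itp6_312 : Tree := (.node itp6_309 (216410, 0, 18, 100529) itp6_310)

/-- part of the orbit tree -/
def itp6_313 : Tree := (.node itp6_297 (215133, 0, 12, 101625) itp6_298)

/-- part of the orbit tree -/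
def itp6_314 : Tree := (.node itp6_311 (216154, 0, 15, 142021) itp6_312)

/-- part of the orbit tree -/
def itp6_315 : Tree := (.node itp6_283 (213597, 0, 15, 117994) itp6_284)

/-- part of the orbit tree -/
def itp6_316 : Tree := (.node itp6_313 (215641, 0, 18, 259784) itp6_314)

/-- part of the orbit tree -/
def itp6_317 : Tree := (.node (.node (.node (.node (.node (.node .leaf (216661, 0, 16, 159421) .leaf) (216662, 0, 8, 6670) (.node .leaf (216663, 0, 16, 64104) .leaf)) (216680, 0, 16, 109038) (.node (.node .leaf (216681, 0, 17, 181590) .leaf) (216682, 0, 17, 226581) (.node .leaf (216683, 0, 16, 6322) .leaf))) (216684, 0, 12, 251635) (.node (.node (.node .leaf (216685, 0, 18, 195701) .leaf) (216686, 0, 15, 16001) (.node .leaf (216687, 0, 17, 240720) .leaf)) (216688, 0, 17, 162045) (.node (.node .leaf (216689, 0, 14, 93354) .leaf) (216690, 0, 17, 56822) (.node .leaf (216691, 0, 15, 247998) .leaf)))) (216692, 0, 16, 147934) (.node (.node (.node (.node .leaf (216693, 0, 17, 201655) .leaf) (216694, 0, 16, 201211) (.node .leaf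 (216695, 0, 15, 64453) .leaf)) (216704, 0, 15, 251547) (.node (.node .leaf (216705, 0, 16, 102325) .leaf) (216706, 0, 11, 239348) (.node .leaf (216707, 0, 16, 157639) .leaf))) (216708, 0, 17, 184306) (.node (.node (.node .leaf (216709, 0, 15, 258216) .leaf) (216710, 0, 17, 147956) (.node .leaf (216711, 0, 11, 6362) .leaf)) (216728, 0, 18, 84721) (.node (.node .leaf (216729, 0, 9, 201695) .leaf) (216730, 0, 17, 260921) (.node .leaf (216731, 0, 18, 203615) .leaf))))) (216732, 0, 17, 210412) (.node (.node (.node (.node (.node .leaf (216733, 0, 18, 160345) .leaf) (216734, 0, 18, 246298) (.node .leaf (216735, 0, 17, 205436) .leaf)) (216736, 0, 16, 130340) (.node (.node .leaf (216737, 0, 16, 73026) .leaf) (216738, 0, 15, 82915) (.node .leaf (216739, 0, 15, 19815) .leaf))) (216740, 0, 15, 115719) (.node (.node (.node .leaf (216741, 0, 18, 74849) .leaf) (216742, 0, 15, 212222) (.node .leaf (216743, 0, 13, 29764) .leaf)) (216760, 0, 19, 14331) (.node (.node .leaf (216761, 0, 14, 159445) .leaf) (216762, 0, 16, 61644) (.node .leaf (216763,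 0, 16, 4266) .leaf)))) (216764, 0, 15, 149734) (.node (.node (.node (.node .leaf (216765, 0, 16, 4552) .leaf) (216766, 0, 14, 51695) (.node .leaf (216767, 0, 14, 260538) .leaf)) (216776, 0, 15, 222349) (.node (.node .leaf (216777, 0, 17, 81315) .leaf) (216778, 0, 14, 36095) (.node .leaf (216779, 0, 16, 133516) .leaf))) (216780, 0, 16, 72592) (.node (.node (.node .leaf (216781, 0, 17, 221322) .leaf) (216782, 0, 15, 193506) (.node .leaf (216783, 0, 13, 43724) .leaf)) (216784, 0, 17, 254978) (.node (.node .leaf (216785, 0, 17, 197732) .leaf) (216786, 0, 17, 177191) (.node .leaf (216787, 0, 14, 18875) .leaf))))))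

/-- part of the orbit tree -/
def itp6_318 : Tree := (.node (.node (.node (.node (.node (.node .leaf (216789, 0, 13, 122580) .leaf) (216790, 0, 13, 167172) (.node .leaf (216791, 0, 16, 145062) .leaf)) (216808, 0, 14, 45626) (.node (.node .leaf (216809, 0, 15, 16553) .leaf) (216810, 0, 18, 127477) (.node .leaf (216811, 0, 16, 239835) .leaf))) (216812, 0, 16, 26266) (.node (.node (.node .leaf (216813, 0, 16, 147380) .leaf) (216814, 0, 15, 121660) (.node .leaf (216815, 0, 17, 80730) .leaf)) (216816, 0, 16, 61431) (.node (.node .leaf (216817, 0, 15, 3985) .leaf) (216818, 0, 16, 224671) (.node .leaf (216819, 0, 15, 79025) .leaf)))) (216820, 0, 17, 54996) (.node (.node (.node (.node .leaf (216821, 0, 15, 14002) .leaf) (216822, 0, 16, 100081) (.node .leaf (216823, 0, 13, 91799) .leaf)) (216832, 0, 18, 33041) (.node (.node .leaf (216833, 0, 17, 186431) .leaf) (216834, 0, 16, 223587) (.node .leaf (216835, 0, 16, 77901) .leaf))) (216836, 0, 15, 260748) (.node (.node (.node .leaf (216837, 0, 17, 42786) .leaf) (216838, 0, 17, 174761)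 (.node .leaf (216839, 0, 18, 216912) .leaf)) (216856, 0, 16, 237154) (.node (.node .leaf (216857, 0, 17, 17493) .leaf) (216858, 0, 18, 128265) (.node .leaf (216859, 0, 18, 142881) .leaf))))) (216860, 0, 11, 239425) (.node (.node (.node (.node (.node .leaf (216861, 0, 17, 214823) .leaf) (216862, 0, 11, 194404) (.node .leaf (216863, 0, 17, 136962) .leaf)) (216864, 0, 16, 130075) (.node (.node .leaf (216865, 0, 16, 238901) .leaf) (216866, 0, 17, 136297) (.node .leaf (216867, 0, 17, 19783) .leaf))) (216868, 0, 15, 230150) (.node (.node (.node .leaf (216869, 0, 16, 4383) .leaf) (216870, 0, 17, 106844) (.node .leaf (216871, 0, 15, 82234) .leaf)) (216888, 0, 15, 38295) (.node (.node .leaf (216889, 0, 14, 30193) .leaf) (216890, 0, 15, 116146) (.node .leaf (216891, 0, 18, 75220) .leaf)))) (216892, 0, 16, 44212) (.node (.node (.node (.node .leaf (216893, 0, 15, 19666) .leaf) (216894, 0, 18, 194334) (.node .leaf (216895, 0, 16, 72951) .leaf)) (216904, 0, 10, 13063) (.node (.node .leaf (216905, 0, 16, 158249) .leaf) (216906, 0, 15, 252789)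 (.node .leaf (216907, 0, 19, 212210) .leaf))) (216908, 0, 16, 177554) (.node (.node (.node .leaf (216909, 0, 14, 153076) .leaf) (216910, 0, 13, 107624) (.node .leaf (216911, 0, 16, 261446) .leaf)) (216912, 0, 17, 175981) (.node (.node .leaf (216913, 0, 16, 63043) .leaf) (216914, 0, 17, 229721) (.node .leaf (216915, 0, 15, 221503) .leaf))))))

/-- part of the orbit tree -/
def itp6_319 : Tree := (.node (.node (.node (.node (.node (.node .leaf (216917, 0, 18, 133177) .leaf) (216918, 0, 16, 210946) (.node .leaf (216919, 0, 16, 219164) .leaf)) (216936, 0, 18, 85517) (.node (.node .leaf (216937, 0, 16, 91938) .leaf) (216938, 0, 16, 173695) (.node .leaf (216939, 0, 15, 65361) .leaf))) (216940, 0, 15, 209168) (.node (.node (.node .leaf (216941, 0, 16, 89601) .leaf) (216942, 0, 14, 60994) (.node .leaf (216943, 0, 15, 163916) .leaf)) (216944, 0, 16, 250471) (.node (.node .leaf (216945, 0, 15, 80623) .leaf) (216946, 0, 17, 35500) (.node .leaf (216947, 0, 11, 156475) .leaf)))) (216948, 0, 16, 109946) (.node (.node (.node (.node .leaf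 (216949, 0, 15, 259156) .leaf) (216950, 0, 10, 148744) (.node .leaf (216951, 0, 15, 21481) .leaf)) (216960, 0, 15, 209272) (.node (.node .leaf (216961, 0, 14, 92246) .leaf) (216962, 0, 14, 55562) (.node .leaf (216963, 0, 15, 58598) .leaf))) (216964, 0, 16, 85605) (.node (.node (.node .leaf (216965, 0, 16, 202571) .leaf) (216966, 0, 16, 15779) (.node .leaf (216967, 0, 17, 56773) .leaf)) (216984, 0, 12, 109842) (.node (.node .leaf (216985, 0, 18, 125198) .leaf) (216986, 0, 16, 148832) (.node .leaf (216987, 0, 14, 47403) .leaf))))) (216988, 0, 17, 77899) (.node (.node (.node (.node (.node .leaf (216989, 0, 18, 101153) .leaf) (216990, 0, 17, 24686) (.node .leaf (216991, 0, 17, 156499) .leaf)) (216992, 0, 17, 155472) (.node (.node .leaf (216993, 0, 18, 5468) .leaf) (216994, 0, 14, 107520) (.node .leaf (216995, 0, 16, 261422) .leaf))) (216996, 0, 15, 13167) (.node (.node (.node .leaf (216997, 0, 17, 165397) .leaf) (216998, 0, 17, 210518) (.node .leaf (216999, 0, 15, 251440) .leaf)) (217016, 0, 15, 131741) (.node (.node .leaf (217017,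 0, 16, 166198) .leaf) (217018, 0, 16, 211050) (.node .leaf (217019, 0, 16, 242398) .leaf)))) (217020, 0, 16, 175877) (.node (.node (.node (.node .leaf (217021, 0, 18, 63019) .leaf) (217022, 0, 16, 83831) (.node .leaf (217023, 0, 14, 232445) .leaf)) (217032, 0, 18, 230254) (.node (.node .leaf (217033, 0, 18, 64477) .leaf) (217034, 0, 16, 27420) (.node .leaf (217035, 0, 14, 143922) .leaf))) (217036, 0, 16, 130163) (.node (.node (.node .leaf (217037, 0, 19, 49918) .leaf) (217038, 0, 16, 136193) (.node .leaf (217039, 0, 16, 103131) .leaf)) (217040, 0, 13, 73476) (.node (.node .leaf (217041, 0, 16, 42512) .leaf) (217042, 0, 18, 194422) (.node .leaf (217043, 0, 13, 44632) .leaf))))))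

/-- part of the orbit tree -/
def itp6_320 : Tree := (.node (.node (.node (.node (.node (.node .leaf (217045, 0, 15, 80183) .leaf) (217046, 0, 18, 77680) (.node .leaf (217047, 0, 17, 184645) .leaf)) (217064, 0, 15, 196196) (.node (.node .leaf (217065, 0, 13, 42826) .leaf) (217066, 0, 15, 147563) (.node .leaf (217067, 0, 13, 172045) .leaf))) (217068, 0, 15, 33145) (.node (.node (.node .leaf (217069, 0, 19, 248075) .leaf) (217070, 0, 18, 223499) (.node .leaf (217071, 0, 17, 77861) .leaf)) (217072, 0, 13, 216451) (.node (.node .leaf (217073, 0, 17, 241125) .leaf) (217074, 0, 17, 138662) (.node .leaf (217075, 0, 12, 119634) .leaf)))) (217076, 0, 18, 226464) (.node (.node (.node (.node .leaf (217077, 0, 18, 17469) .leaf) (217078, 0, 11, 128353) (.node .leaf (217079, 0, 17, 240719) .leaf)) (217088, 0, 18, 146445) (.node (.node .leaf (217091, 0, 17, 232526) .leaf) (217093, 0, 16, 189768) (.node .leaf (217094, 0, 17, 218379) .leaf))) (217096, 0, 12, 6549) (.node (.node (.node .leaf (217099, 0, 17, 109014) .leaf) (217101, 0, 17, 144847)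 (.node .leaf (217102, 0, 17, 230547) .leaf)) (217105, 0, 18, 186040) (.node (.node .leaf (217106, 0, 18, 223204) .leaf) (217108, 0, 17, 32123) (.node .leaf (217111, 0, 16, 118072) .leaf))))) (217113, 0, 17, 146468) (.node (.node (.node (.node (.node .leaf (217114, 0, 14, 232824) .leaf) (217116, 0, 17, 153827) (.node .leaf (217119, 0, 18, 256160) .leaf)) (217120, 0, 16, 230506) (.node (.node .leaf (217123, 0, 16, 144694) .leaf) (217125, 0, 17, 238169) (.node .leaf (217126, 0, 17, 24318) .leaf))) (217128, 0, 13, 225014) (.node (.node (.node .leaf (217131, 0, 17, 172579) .leaf) (217133, 0, 17, 248613) (.node .leaf (217134, 0, 14, 194969) .leaf)) (217137, 0, 17, 241611) (.node (.node .leaf (217138, 0, 17, 137966) .leaf) (217140, 0, 14, 226958) (.node .leaf (217143, 0, 14, 181965) .leaf)))) (217145, 0, 14, 213294) (.node (.node (.node (.node .leaf (217146, 0, 17, 14864) .leaf) (217148, 0, 17, 223005) (.node .leaf (217151, 0, 17, 58197) .leaf)) (217153, 0, 13, 63684) (.node (.node .leaf (217154, 0, 18, 84376) .leaf) (217156, 0, 16,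 57079) (.node .leaf (217159, 0, 18, 57323) .leaf))) (217161, 0, 15, 4696) (.node (.node (.node .leaf (217162, 0, 17, 107268) .leaf) (217164, 0, 17, 215600) (.node .leaf (217167, 0, 15, 99639) .leaf)) (217168, 0, 15, 55068) (.node (.node .leaf (217171, 0, 19, 171677) .leaf) (217173, 0, 18, 61743) (.node .leaf (217174, 0, 17, 82035) .leaf))))))

/-- part of the orbit tree -/
def itp6_321 : Tree := (.node itp6_317 (216788, 0, 13, 231418) itp6_318)

/-- part of the orbit tree -/
def itp6_322 : Tree := (.node itp6_319 (217044, 0, 14, 221209) itp6_320)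

/-- part of the orbit tree -/
def itp6_323 : Tree := (.node (.node (.node (.node (.node (.node .leaf (217179, 0, 16, 47877) .leaf) (217181, 0, 9, 119299) (.node .leaf (217182, 0, 13, 109295) .leaf)) (217185, 0, 16, 99790) (.node (.node .leaf (217186, 0, 16, 13458) .leaf) (217188, 0, 14, 107517) (.node .leaf (217191, 0, 15, 4769) .leaf))) (217193, 0, 17, 39040) (.node (.node (.node .leaf (217194, 0, 15, 75971) .leaf) (217196, 0, 16, 84321) (.node .leaf (217199, 0, 16, 63549) .leaf)) (217200, 0, 18, 9515) (.node (.node .leaf (217203, 0, 16, 103784) .leaf) (217205, 0, 16, 101413) (.node .leaf (217206, 0, 16, 85037) .leaf)))) (217208, 0, 17, 82058) (.node (.node (.node (.node .leaf (217211, 0, 13, 241904) .leaf) (217213, 0, 16, 186870) (.node .leaf (217214, 0, 17, 223669) .leaf)) (217216, 0, 16, 84233) (.node (.node .leaf (217219, 0, 20, 63573) .leaf) (217221, 0, 14, 29250) (.node .leaf (217222, 0, 16, 115201) .leaf))) (217224, 0, 14, 167583) (.node (.node (.node .leaf (217227, 0, 15, 4809) .leaf) (217229, 0, 12, 99750) (.node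 .leaf (217230, 0, 13, 255897) .leaf)) (217233, 0, 16, 91857) (.node (.node .leaf (217234, 0, 16, 55181) .leaf) (217236, 0, 16, 82146) (.node .leaf (217239, 0, 15, 61886) .leaf))))) (217241, 0, 17, 101453) (.node (.node (.node (.node (.node .leaf (217242, 0, 16, 108271) .leaf) (217244, 0, 17, 53225) (.node .leaf (217247, 0, 18, 98218) .leaf)) (217248, 0, 17, 237810) (.node (.node .leaf (217251, 0, 16, 135345) .leaf) (217253, 0, 11, 227767) (.node .leaf (217254, 0, 16, 107372) .leaf))) (217256, 0, 17, 56991) (.node (.node (.node .leaf (217259, 0, 15, 13609) .leaf) (217261, 0, 16, 63660) (.node .leaf (217262, 0, 12, 84464) .leaf)) (217265, 0, 15, 80065) (.node (.node .leaf (217266, 0, 17, 109191) .leaf) (217268, 0, 15, 15848) (.node .leaf (217271, 0, 17, 20935) .leaf)))) (217273, 0, 11, 61767) (.node (.node (.node (.node .leaf (217274, 0, 16, 81947) .leaf) (217276, 0, 17, 55156) (.node .leaf (217279, 0, 14, 160863) .leaf)) (217281, 0, 17, 205287) (.node (.node .leaf (217282, 0, 14, 168356) .leaf) (217284, 0, 17, 260258) (.node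 .leaf (217287, 0, 16, 149729) .leaf))) (217289, 0, 14, 238129) (.node (.node (.node .leaf (217290, 0, 17, 136045) .leaf) (217292, 0, 17, 230402) (.node .leaf (217295, 0, 14, 28025) .leaf)) (217296, 0, 16, 113108) (.node (.node .leaf (217299, 0, 15, 2455) .leaf) (217301, 0, 18, 213318) (.node .leaf (217302, 0, 17, 53458) .leaf))))))

/-- part of the orbit tree -/
def itp6_324 : Tree := (.node (.node (.node (.node (.node (.node .leaf (217307, 0, 15, 146613) .leaf) (217309, 0, 12, 214281) (.node .leaf (217310, 0, 18, 193866) .leaf)) (217313, 0, 15, 10770) (.node (.node .leaf (217314, 0, 16, 230651) .leaf) (217316, 0, 12, 136084) (.node .leaf (217319, 0, 15, 238280) .leaf))) (217321, 0, 15, 135050) (.node (.node (.node .leaf (217322, 0, 15, 245705) .leaf) (217324, 0, 14, 186063) (.node .leaf (217327, 0, 17, 222860) .leaf)) (217328, 0, 15, 137855) (.node (.node .leaf (217331, 0, 16, 240419) .leaf) (217333, 0, 16, 158564) (.node .leaf (217334, 0, 17, 252711) .leaf)))) (217336, 0, 17, 38841) (.node (.node (.node (.node .leaf (217339,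 0, 17, 75770) .leaf) (217341, 0, 17, 186064) (.node .leaf (217342, 0, 15, 130751) .leaf)) (217344, 0, 17, 106105) (.node (.node .leaf (217347, 0, 14, 11834) .leaf) (217349, 0, 15, 145584) (.node .leaf (217350, 0, 15, 231916) .leaf))) (217352, 0, 19, 244705) (.node (.node (.node .leaf (217355, 0, 18, 214339) .leaf) (217357, 0, 17, 184876) (.node .leaf (217358, 0, 11, 222064) .leaf)) (217361, 0, 11, 198218) (.node (.node .leaf (217362, 0, 15, 229383) .leaf) (217364, 0, 9, 253711) (.node .leaf (217367, 0, 15, 239156) .leaf))))) (217369, 0, 17, 187335) (.node (.node (.node (.node (.node .leaf (217370, 0, 16, 37777) .leaf) (217372, 0, 11, 196084) (.node .leaf (217375, 0, 16, 216232) .leaf)) (217376, 0, 18, 169356) (.node (.node .leaf (217379, 0, 17, 206287) .leaf) (217381, 0, 17, 214458) (.node .leaf (217382, 0, 14, 261258) .leaf))) (217384, 0, 16, 231701) (.node (.node (.node .leaf (217387, 0, 19, 145481) .leaf) (217389, 0, 17, 241446) (.node .leaf (217390, 0, 12, 138874) .leaf)) (217393, 0, 13, 3519) (.node (.node .leaf (217394,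 0, 16, 114172) .leaf) (217396, 0, 15, 54522) (.node .leaf (217399, 0, 17, 187198) .leaf)))) (217401, 0, 17, 239309) (.node (.node (.node (.node .leaf (217402, 0, 14, 137105) .leaf) (217404, 0, 14, 229630) (.node .leaf (217407, 0, 15, 143778) .leaf)) (217409, 0, 16, 7975) (.node (.node .leaf (217410, 0, 17, 238810) .leaf) (217412, 0, 15, 14612) (.node .leaf (217415, 0, 16, 100424) .leaf))) (217417, 0, 16, 62907) (.node (.node (.node .leaf (217418, 0, 14, 83175) .leaf) (217420, 0, 17, 59460) (.node .leaf (217423, 0, 17, 88071) .leaf)) (217424, 0, 17, 12543) (.node (.node .leaf (217427, 0, 17, 98723) .leaf) (217429, 0, 16, 21999) (.node .leaf (217430, 0, 16, 108432) .leaf))))))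

/-- part of the orbit tree -/
def itp6_325 : Tree := (.node (.node (.node (.node (.node (.node .leaf (217435, 0, 10, 203121) .leaf) (217437, 0, 16, 159863) (.node .leaf (217438, 0, 14, 85260) .leaf)) (217441, 0, 16, 90669) (.node (.node .leaf (217442, 0, 17, 54129) .leaf) (217444, 0, 18, 116265) (.node .leaf (217447, 0, 14, 30314) .leaf))) (217449, 0, 18, 211700) (.node (.node (.node .leaf (217450, 0, 17, 14829) .leaf) (217452, 0, 15, 110210) (.node .leaf (217455, 0, 18, 152562) .leaf)) (217456, 0, 14, 231263) (.node (.node .leaf (217459, 0, 17, 145180) .leaf) (217461, 0, 16, 220698) (.node .leaf (217462, 0, 14, 55962) .leaf)))) (217464, 0, 16, 108393) (.node (.node (.node (.node .leaf (217467, 0, 17, 4740) .leaf) (217469, 0, 14, 98650) (.node .leaf (217470, 0, 18, 52161) .leaf)) (217472, 0, 14, 110314) (.node (.node .leaf (217475, 0, 17, 178480) .leaf) (217477, 0, 15, 100569) (.node .leaf (217478, 0, 17, 155765) .leaf))) (217480, 0, 11, 77035) (.node (.node (.node .leaf (217483, 0, 17, 62762) .leaf) (217485, 0, 17, 90693)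 (.node .leaf (217486, 0, 17, 17901) .leaf)) (217489, 0, 16, 102720) (.node (.node .leaf (217490, 0, 15, 12398) .leaf) (217492, 0, 15, 108289) (.node .leaf (217495, 0, 14, 63558) .leaf))))) (217497, 0, 14, 93102) (.node (.node (.node (.node (.node .leaf (217498, 0, 18, 132251) .leaf) (217500, 0, 18, 85405) (.node .leaf (217503, 0, 18, 187870) .leaf)) (217504, 0, 13, 646) (.node (.node .leaf (217507, 0, 17, 111301) .leaf) (217509, 0, 15, 56259) (.node .leaf (217510, 0, 16, 93056) .leaf))) (217512, 0, 16, 141086) (.node (.node (.node .leaf (217515, 0, 15, 100384) .leaf) (217517, 0, 16, 8015) (.node .leaf (217518, 0, 19, 216600) .leaf)) (217521, 0, 16, 170677) (.node (.node .leaf (217522, 0, 13, 207606) .leaf) (217524, 0, 19, 148464) (.node .leaf (217527, 0, 18, 93015) .leaf)))) (217529, 0, 16, 48941) (.node (.node (.node (.node .leaf (217530, 0, 14, 69486) .leaf) (217532, 0, 18, 26216) (.node .leaf (217535, 0, 16, 98763) .leaf)) (217537, 0, 17, 33683) (.node (.node .leaf (217538, 0, 15, 138770) .leaf) (217540, 0, 16, 231805) (.node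 .leaf (217543, 0, 15, 125589) .leaf))) (217545, 0, 17, 173579) (.node (.node (.node .leaf (217546, 0, 14, 202312) .leaf) (217548, 0, 13, 163662) (.node .leaf (217551, 0, 18, 185021) .leaf)) (217552, 0, 11, 138144) (.node (.node .leaf (217555, 0, 16, 143818) .leaf) (217557, 0, 17, 180965) (.node .leaf (217558, 0, 16, 137209) .leaf))))))

/-- part of the orbit tree -/
def itp6_326 : Tree := (.node (.node (.node (.node (.node (.node .leaf (217563, 0, 18, 102011) .leaf) (217565, 0, 15, 59261) (.node .leaf (217566, 0, 14, 195941) .leaf)) (217569, 0, 17, 184900) (.node (.node .leaf (217570, 0, 16, 221976) .leaf) (217572, 0, 18, 217379) (.node .leaf (217575, 0, 15, 188768) .leaf))) (217577, 0, 17, 145624) (.node (.node (.node .leaf (217578, 0, 16, 7613) .leaf) (217580, 0, 14, 95419) (.node .leaf (217583, 0, 16, 50424) .leaf)) (217584, 0, 16, 69717) (.node (.node .leaf (217587, 0, 17, 40982) .leaf) (217589, 0, 17, 187311) (.node .leaf (217590, 0, 15, 223987) .leaf)))) (217592, 0, 16, 136960) (.node (.node (.node (.node .leaf (217595,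 0, 14, 239196) .leaf) (217597, 0, 19, 257160) (.node .leaf (217598, 0, 13, 229487) .leaf)) (217602, 0, 15, 213080) (.node (.node .leaf (217603, 0, 15, 237630) .leaf) (217604, 0, 15, 33617) (.node .leaf (217605, 0, 15, 182584) .leaf))) (217610, 0, 9, 91584) (.node (.node (.node .leaf (217611, 0, 12, 99750) .leaf) (217612, 0, 15, 3270) (.node .leaf (217613, 0, 16, 143587) .leaf)) (217616, 0, 15, 35514) (.node (.node .leaf (217617, 0, 17, 185236) .leaf) (217622, 0, 15, 65838) (.node .leaf (217623, 0, 14, 214267) .leaf))))) (217624, 0, 16, 150960) (.node (.node (.node (.node (.node .leaf (217625, 0, 16, 175574) .leaf) (217630, 0, 15, 128841) (.node .leaf (217631, 0, 16, 246992) .leaf)) (217634, 0, 16, 26932) (.node (.node .leaf (217635, 0, 14, 143386) .leaf) (217636, 0, 16, 74411) (.node .leaf (217637, 0, 16, 239477) .leaf))) (217642, 0, 16, 33704) (.node (.node (.node .leaf (217643, 0, 18, 167507) .leaf) (217644, 0, 15, 198451) (.node .leaf (217645, 0, 16, 255829) .leaf)) (217648, 0, 16, 222173) (.node (.node .leaf (217649, 0,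 17, 241310) .leaf) (217654, 0, 11, 133851) (.node .leaf (217655, 0, 15, 145905) .leaf)))) (217656, 0, 14, 73004) (.node (.node (.node (.node .leaf (217657, 0, 15, 214018) .leaf) (217662, 0, 17, 12099) (.node .leaf (217663, 0, 16, 185197) .leaf)) (217664, 0, 17, 173254) (.node (.node .leaf (217665, 0, 14, 105117) .leaf) (217670, 0, 18, 209833) (.node .leaf (217671, 0, 18, 62363) .leaf))) (217672, 0, 14, 151130) (.node (.node (.node .leaf (217673, 0, 17, 6004) .leaf) (217678, 0, 17, 144997) (.node .leaf (217679, 0, 11, 185859) .leaf)) (217682, 0, 13, 152203) (.node (.node .leaf (217683, 0, 16, 176877) .leaf) (217684, 0, 17, 175405) .leaf)))))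

/-- part of the orbit tree -/
def itp6_327 : Tree := (.node itp6_323 (217304, 0, 15, 236620) itp6_324)

/-- part of the orbit tree -/
def itp6_328 : Tree := (.node itp6_325 (217560, 0, 11, 15928) itp6_326)

/-- part of the orbit tree -/
def itp6_329 : Tree := (.node itp6_321 (216916, 0, 14, 53360) itp6_322)

/-- part of the orbit tree -/
def itp6_330 : Tree := (.node itp6_327 (217432, 0, 14, 174386) itp6_328)

/-- part of the orbit tree -/
def itp6_331 : Tree := (.node (.node (.node (.node (.node (.node .leaf (217690, 0, 17, 30483) .leaf) (217691, 0, 15, 100848) (.node .leaf (217692, 0, 15, 149425) .leaf)) (217693, 0, 17, 7839) (.node (.node .leaf (217696, 0, 17, 252364) .leaf) (217697, 0, 15, 98530) (.node .leaf (217702, 0, 16, 202760) .leaf))) (217703, 0, 14, 6029) (.node (.node (.node .leaf (217704, 0, 13, 21654) .leaf) (217705, 0, 18, 92798) (.node .leaf (217710, 0, 18, 173119) .leaf)) (217711, 0, 16, 64785) (.node (.node .leaf (217714, 0, 13, 88446) .leaf) (217715, 0, 15, 112920) (.node .leaf (217716, 0, 18, 12408) .leaf))))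 (217717, 0, 17, 100617) (.node (.node (.node (.node .leaf (217722, 0, 17, 175572) .leaf) (217723, 0, 17, 62714) (.node .leaf (217724, 0, 17, 136672) .leaf)) (217725, 0, 19, 91029) (.node (.node .leaf (217730, 0, 15, 120658) .leaf) (217731, 0, 16, 64889) (.node .leaf (217732, 0, 16, 48724) .leaf))) (217733, 0, 18, 24114) (.node (.node (.node .leaf (217738, 0, 15, 258762) .leaf) (217739, 0, 13, 201388) (.node .leaf (217740, 0, 16, 252324) .leaf)) (217741, 0, 17, 98442) (.node (.node .leaf (217744, 0, 17, 211667) .leaf) (217745, 0, 14, 139076) (.node .leaf (217750, 0, 15, 175548) .leaf))))) (217751, 0, 16, 226882) (.node (.node (.node (.node (.node .leaf (217752, 0, 17, 55994) .leaf) (217753, 0, 18, 100705) (.node .leaf (217758, 0, 16, 149280) .leaf)) (217759, 0, 17, 87002) (.node (.node .leaf (217762, 0, 16, 187559) .leaf) (217763, 0, 9, 98419) (.node .leaf (217764, 0, 14, 243105) .leaf))) (217765, 0, 14, 218567) (.node (.node (.node .leaf (217770, 0, 18, 63807) .leaf) (217771, 0, 17, 6489) (.node .leaf (217772, 0, 17, 173230)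 .leaf)) (217773, 0, 18, 94303) (.node (.node .leaf (217776, 0, 17, 128215) .leaf) (217777, 0, 17, 7927) (.node .leaf (217782, 0, 16, 250038) .leaf)))) (217783, 0, 16, 100760) (.node (.node (.node (.node .leaf (217784, 0, 16, 250191) .leaf) (217785, 0, 15, 62571) (.node .leaf (217790, 0, 17, 211498) .leaf)) (217791, 0, 15, 153647) (.node (.node .leaf (217792, 0, 14, 257521) .leaf) (217793, 0, 15, 216449) (.node .leaf (217798, 0, 18, 165111) .leaf))) (217799, 0, 18, 156817) (.node (.node (.node .leaf (217800, 0, 16, 116841) .leaf) (217801, 0, 19, 239389) (.node .leaf (217806, 0, 16, 41327) .leaf)) (217807, 0, 17, 16649) (.node (.node .leaf (217810, 0, 17, 35371) .leaf) (217811, 0, 15, 9703) (.node .leaf (217812, 0, 17, 109703) .leaf))))))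

/-- part of the orbit tree -/
def itp6_332 : Tree := (.node (.node (.node (.node (.node (.node .leaf (217818, 0, 15, 188441) .leaf) (217819, 0, 15, 131199) (.node .leaf (217820, 0, 17, 128984) .leaf)) (217821, 0, 18, 241398) (.node (.node .leaf (217824, 0, 16, 58884) .leaf) (217825, 0, 18, 1634) (.node .leaf (217830, 0, 16, 130762) .leaf))) (217831, 0, 15, 94052) (.node (.node (.node .leaf (217832, 0, 15, 33593) .leaf) (217833, 0, 10, 140282) (.node .leaf (217838, 0, 15, 240282) .leaf)) (217839, 0, 16, 215804) (.node (.node .leaf (217842, 0, 17, 128801) .leaf) (217843, 0, 15, 208402) (.node .leaf (217844, 0, 7, 173938) .leaf)))) (217845, 0, 16, 145760) (.node (.node (.node (.node .leaf (217850, 0, 15, 73149) .leaf) (217851, 0, 15, 68490) (.node .leaf (217852, 0, 17, 35538) .leaf)) (217853, 0, 13, 25228) (.node (.node .leaf (217858, 0, 17, 127965) .leaf) (217859, 0, 16, 240371) (.node .leaf (217860, 0, 17, 101162) .leaf))) (217861, 0, 16, 146844) (.node (.node (.node .leaf (217866, 0, 16, 182196) .leaf) (217867, 0, 15, 213103)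 (.node .leaf (217868, 0, 15, 241330) .leaf)) (217869, 0, 14, 216788) (.node (.node .leaf (217872, 0, 18, 27993) .leaf) (217873, 0, 16, 207418) (.node .leaf (217878, 0, 15, 172890) .leaf))))) (217879, 0, 16, 238360) (.node (.node (.node (.node (.node .leaf (217880, 0, 16, 126916) .leaf) (217881, 0, 14, 69538) (.node .leaf (217886, 0, 16, 69802) .leaf)) (217887, 0, 16, 26276) (.node (.node .leaf (217890, 0, 16, 36567) .leaf) (217891, 0, 15, 199103) (.node .leaf (217892, 0, 17, 72120) .leaf))) (217893, 0, 17, 213142) (.node (.node (.node .leaf (217898, 0, 17, 117825) .leaf) (217899, 0, 17, 146789) (.node .leaf (217900, 0, 18, 42311) .leaf)) (217901, 0, 17, 17697) (.node (.node .leaf (217904, 0, 14, 49577) .leaf) (217905, 0, 16, 215421) (.node .leaf (217910, 0, 18, 34620) .leaf)))) (217911, 0, 15, 187922) (.node (.node (.node (.node .leaf (217912, 0, 15, 129743) .leaf) (217913, 0, 16, 238561) (.node .leaf (217918, 0, 13, 232759) .leaf)) (217919, 0, 15, 224593) (.node (.node .leaf (217920, 0, 14, 148261) .leaf) (217921, 0, 17, 145641)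 (.node .leaf (217926, 0, 16, 250954) .leaf))) (217927, 0, 17, 217583) (.node (.node (.node .leaf (217928, 0, 13, 64791) .leaf) (217929, 0, 18, 61591) (.node .leaf (217934, 0, 17, 212694) .leaf)) (217935, 0, 17, 95351) (.node (.node .leaf (217938, 0, 17, 127231) .leaf) (217939, 0, 17, 99471) (.node .leaf (217940, 0, 16, 150222) .leaf))))))

/-- part of the orbit tree -/
def itp6_333 : Tree := (.node (.node (.node (.node (.node (.node .leaf (217946, 0, 16, 251239) .leaf) (217947, 0, 17, 93715) (.node .leaf (217948, 0, 19, 179297) .leaf)) (217949, 0, 16, 63868) (.node (.node .leaf (217952, 0, 15, 119674) .leaf) (217953, 0, 17, 91905) (.node .leaf (217958, 0, 10, 174400) .leaf))) (217959, 0, 13, 61550) (.node (.node (.node .leaf (217960, 0, 17, 251059) .leaf) (217961, 0, 17, 202372) (.node .leaf (217966, 0, 16, 148444) .leaf)) (217967, 0, 17, 6898) (.node (.node .leaf (217970, 0, 16, 172203) .leaf) (217971, 0, 14, 138092) (.node .leaf (217972, 0, 18, 233996) .leaf)))) (217973, 0, 16, 225898) (.node (.node (.node (.node .leaf (217978,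 0, 15, 150071) .leaf) (217979, 0, 15, 4889) (.node .leaf (217980, 0, 17, 112532) .leaf)) (217981, 0, 17, 88050) (.node (.node .leaf (217986, 0, 18, 161062) .leaf) (217987, 0, 18, 169280) (.node .leaf (217988, 0, 14, 251099) .leaf))) (217989, 0, 16, 261190) (.node (.node (.node .leaf (217994, 0, 18, 174376) .leaf) (217995, 0, 9, 61446) (.node .leaf (217996, 0, 17, 212551) .leaf)) (217997, 0, 16, 92009) (.node (.node .leaf (218000, 0, 16, 89430) .leaf) (218001, 0, 14, 99358) (.node .leaf (218006, 0, 16, 13392) .leaf))))) (218007, 0, 18, 54326) (.node (.node (.node (.node (.node .leaf (218008, 0, 13, 210860) .leaf) (218009, 0, 15, 93826) (.node .leaf (218014, 0, 14, 172227) .leaf)) (218015, 0, 17, 192942) (.node (.node .leaf (218018, 0, 18, 212670) .leaf) (218019, 0, 15, 92048) (.node .leaf (218020, 0, 15, 6101) .leaf))) (218021, 0, 17, 63411) (.node (.node (.node .leaf (218026, 0, 16, 219979) .leaf) (218027, 0, 16, 244525) (.node .leaf (218028, 0, 12, 148301) .leaf)) (218029, 0, 18, 6755) (.node (.node .leaf (218032, 0, 16, 172090)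 .leaf) (218033, 0, 16, 63764) (.node .leaf (218038, 0, 17, 212901) .leaf)))) (218039, 0, 15, 93819) (.node (.node (.node (.node .leaf (218040, 0, 17, 29499) .leaf) (218041, 0, 16, 5000) (.node .leaf (218046, 0, 15, 72253) .leaf)) (218047, 0, 15, 99559) (.node (.node .leaf (218048, 0, 18, 127820) .leaf) (218049, 0, 16, 45027) (.node .leaf (218054, 0, 16, 25635) .leaf))) (218055, 0, 18, 146701) (.node (.node (.node .leaf (218056, 0, 17, 158237) .leaf) (218057, 0, 16, 213246) (.node .leaf (218062, 0, 17, 36543) .leaf)) (218063, 0, 16, 254845) (.node (.node .leaf (218066, 0, 13, 28104) .leaf) (218067, 0, 16, 144614) (.node .leaf (218068, 0, 14, 134899) .leaf))))))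

/-- part of the orbit tree -/
def itp6_334 : Tree := (.node (.node (.node (.node (.node (.node .leaf (218074, 0, 17, 82541) .leaf) (218075, 0, 15, 188026) (.node .leaf (218076, 0, 18, 11115) .leaf)) (218077, 0, 16, 51981) (.node (.node .leaf (218080, 0, 11, 214128) .leaf) (218081, 0, 16, 238614) (.node .leaf (218086, 0, 12, 71977) .leaf))) (218087, 0, 16, 183568) (.node (.node (.node .leaf (218088, 0, 17, 25818) .leaf) (218089, 0, 16, 98702) (.node .leaf (218094, 0, 16, 127925) .leaf)) (218095, 0, 14, 59528) (.node (.node .leaf (218098, 0, 16, 27648) .leaf) (218099, 0, 18, 215532) (.node .leaf (218100, 0, 16, 66822) .leaf)))) (218101, 0, 18, 124256) (.node (.node (.node (.node .leaf (218106, 0, 17, 129630) .leaf) (218107, 0, 18, 238448) (.node .leaf (218108, 0, 16, 204958) .leaf)) (218109, 0, 18, 144415) (.node (.node .leaf (218113, 0, 15, 247491) .leaf) (218115, 0, 15, 17864) (.node .leaf (218116, 0, 18, 232329) .leaf))) (218118, 0, 17, 151459) (.node (.node (.node .leaf (218121, 0, 17, 123739) .leaf) (218123, 0, 17, 45950)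 (.node .leaf (218124, 0, 8, 80414) .leaf)) (218126, 0, 13, 35175) (.node (.node .leaf (218128, 0, 17, 229986) .leaf) (218130, 0, 14, 27152) (.node .leaf (218133, 0, 15, 238673) .leaf))))) (218135, 0, 12, 19491) (.node (.node (.node (.node (.node .leaf (218136, 0, 15, 223486) .leaf) (218138, 0, 16, 32908) (.node .leaf (218141, 0, 18, 238125) .leaf)) (218143, 0, 15, 193032) (.node (.node .leaf (218145, 0, 16, 52534) .leaf) (218147, 0, 18, 105747) (.node .leaf (218148, 0, 18, 5235) .leaf))) (218150, 0, 14, 83030) (.node (.node (.node .leaf (218153, 0, 15, 145964) .leaf) (218155, 0, 17, 243851) (.node .leaf (218156, 0, 16, 143851) .leaf)) (218158, 0, 12, 221646) (.node (.node .leaf (218160, 0, 15, 152837) .leaf) (218162, 0, 18, 197920) (.node .leaf (218165, 0, 16, 186715) .leaf)))) (218167, 0, 17, 253029) (.node (.node (.node (.node .leaf (218168, 0, 17, 136692) .leaf) (218170, 0, 18, 130438) (.node .leaf (218173, 0, 16, 144327) .leaf)) (218175, 0, 18, 121781) (.node (.node .leaf (218176, 0, 12, 19491) .leaf) (218178, 0, 15, 72710)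 (.node .leaf (218181, 0, 17, 38246) .leaf))) (218183, 0, 8, 116035) (.node (.node (.node .leaf (218184, 0, 19, 158139) .leaf) (218186, 0, 17, 211358) (.node .leaf (218189, 0, 16, 90289) .leaf)) (218191, 0, 16, 254171) (.node (.node .leaf (218193, 0, 16, 99270) .leaf) (218195, 0, 16, 230453) (.node .leaf (218196, 0, 16, 134485) .leaf))))))

/-- part of the orbit tree -/
def itp6_335 : Tree := (.node itp6_331 (217813, 0, 18, 85217) itp6_332)

/-- part of the orbit tree -/
def itp6_336 : Tree := (.node itp6_333 (218069, 0, 16, 192149) itp6_334)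

/-- part of the orbit tree -/
def itp6_337 : Tree := (.node (.node (.node (.node (.node (.node .leaf (218201, 0, 18, 61832) .leaf) (218203, 0, 14, 164136) (.node .leaf (218204, 0, 18, 85865) .leaf)) (218206, 0, 16, 96488) (.node (.node .leaf (218208, 0, 16, 214998) .leaf) (218210, 0, 15, 211302) (.node .leaf (218213, 0, 18, 63271) .leaf))) (218215, 0, 14, 204629) (.node (.node (.node .leaf (218216, 0, 15, 90702) .leaf) (218218, 0, 16, 250874) (.node .leaf (218221, 0, 12, 7611) .leaf)) (218223, 0, 15, 259529) (.node (.node .leaf (218225, 0, 15, 122853) .leaf) (218227, 0, 13, 202430) (.node .leaf (218228, 0, 17, 55551) .leaf)))) (218230, 0, 16, 209037) (.node (.node (.node (.node .leaf (218233, 0, 16, 5200) .leaf) (218235, 0, 14, 174680) (.node .leaf (218236, 0, 18, 12899) .leaf)) (218238, 0, 16, 160541) (.node (.node .leaf (218241, 0, 18, 86473) .leaf) (218243, 0, 16, 492) (.node .leaf (218244, 0, 17, 15328) .leaf))) (218246, 0, 17, 55465) (.node (.node (.node .leaf (218249, 0, 14, 226385) .leaf) (218251, 0, 15, 140404) (.node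 .leaf (218252, 0, 16, 240916) .leaf)) (218254, 0, 13, 195889) (.node (.node .leaf (218256, 0, 17, 12811) .leaf) (218258, 0, 15, 252537) (.node .leaf (218261, 0, 16, 5176) .leaf))))) (218263, 0, 14, 147610) (.node (.node (.node (.node (.node .leaf (218264, 0, 14, 126050) .leaf) (218266, 0, 13, 48199) (.node .leaf (218269, 0, 18, 65188) .leaf)) (218271, 0, 14, 25858) (.node (.node .leaf (218273, 0, 17, 154172) .leaf) (218275, 0, 11, 199193) (.node .leaf (218276, 0, 17, 164729) .leaf))) (218278, 0, 16, 175768) (.node (.node (.node .leaf (218281, 0, 14, 32676) .leaf) (218283, 0, 14, 156215) (.node .leaf (218284, 0, 14, 42721) .leaf)) (218286, 0, 16, 148484) (.node (.node .leaf (218288, 0, 18, 85761) .leaf) (218290, 0, 18, 173939) (.node .leaf (218293, 0, 18, 92466) .leaf)))) (218295, 0, 19, 164160) (.node (.node (.node (.node .leaf (218296, 0, 18, 107933) .leaf) (218298, 0, 15, 243634) (.node .leaf (218301, 0, 16, 147154) .leaf)) (218303, 0, 16, 225015) (.node (.node .leaf (218304, 0, 13, 187177) .leaf) (218306, 0, 16, 128005)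 (.node .leaf (218309, 0, 14, 131692) .leaf))) (218311, 0, 15, 119350) (.node (.node (.node .leaf (218312, 0, 16, 65201) .leaf) (218314, 0, 17, 110228) (.node .leaf (218317, 0, 16, 10228) .leaf)) (218319, 0, 16, 96209) (.node (.node .leaf (218321, 0, 14, 17178) .leaf) (218323, 0, 16, 121821) (.node .leaf (218324, 0, 17, 39519) .leaf))))))

/-- part of the orbit tree -/
def itp6_338 : Tree := (.node (.node (.node (.node (.node (.node .leaf (218329, 0, 18, 157314) .leaf) (218331, 0, 16, 78145) (.node .leaf (218332, 0, 13, 196352) .leaf)) (218334, 0, 16, 71538) (.node (.node .leaf (218336, 0, 17, 119004) .leaf) (218338, 0, 14, 35087) (.node .leaf (218341, 0, 16, 214862) .leaf))) (218343, 0, 16, 22972) (.node (.node (.node .leaf (218344, 0, 16, 259396) .leaf) (218346, 0, 13, 25491) (.node .leaf (218349, 0, 16, 207873) .leaf)) (218351, 0, 13, 162852) (.node (.node .leaf (218353, 0, 16, 215279) .leaf) (218355, 0, 17, 137418) (.node .leaf (218356, 0, 18, 223382) .leaf)))) (218358, 0, 16, 180623) (.node (.node (.node (.node .leaf (218361,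 0, 15, 93559) .leaf) (218363, 0, 16, 15698) (.node .leaf (218364, 0, 18, 111666) .leaf)) (218366, 0, 17, 27256) (.node (.node .leaf (218369, 0, 17, 25783) .leaf) (218371, 0, 16, 78994) (.node .leaf (218372, 0, 18, 48626) .leaf))) (218374, 0, 15, 33816) (.node (.node (.node .leaf (218377, 0, 9, 147759) .leaf) (218379, 0, 16, 18615) (.node .leaf (218380, 0, 19, 170090) .leaf)) (218382, 0, 18, 28292) (.node (.node .leaf (218384, 0, 16, 195716) .leaf) (218386, 0, 16, 36339) (.node .leaf (218389, 0, 13, 213938) .leaf))))) (218391, 0, 9, 43968) (.node (.node (.node (.node (.node .leaf (218392, 0, 17, 233245) .leaf) (218394, 0, 13, 26479) (.node .leaf (218397, 0, 17, 89) .leaf)) (218399, 0, 17, 86140) (.node (.node .leaf (218401, 0, 17, 225090) .leaf) (218403, 0, 17, 122657) (.node .leaf (218404, 0, 17, 135520) .leaf))) (218406, 0, 14, 189986) (.node (.node (.node .leaf (218409, 0, 16, 187855) .leaf) (218411, 0, 15, 79293) (.node .leaf (218412, 0, 17, 103327) .leaf)) (218414, 0, 17, 70542) (.node (.node .leaf (218416, 0, 17, 137355)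 .leaf) (218418, 0, 13, 42836) (.node .leaf (218421, 0, 17, 147128) .leaf)))) (218423, 0, 14, 32273) (.node (.node (.node (.node .leaf (218424, 0, 17, 250601) .leaf) (218426, 0, 17, 164556) (.node .leaf (218429, 0, 17, 185380) .leaf)) (218431, 0, 18, 154505) (.node (.node .leaf (218432, 0, 13, 257623) .leaf) (218434, 0, 13, 179826) (.node .leaf (218437, 0, 10, 210706) .leaf))) (218439, 0, 15, 165308) (.node (.node (.node .leaf (218440, 0, 14, 117711) .leaf) (218442, 0, 19, 149779) (.node .leaf (218445, 0, 17, 100178) .leaf)) (218447, 0, 11, 159520) (.node (.node .leaf (218449, 0, 17, 91173) .leaf) (218451, 0, 15, 9793) (.node .leaf (218452, 0, 16, 110369) .leaf))))))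

/-- part of the orbit tree -/
def itp6_339 : Tree := (.node (.node (.node (.node (.node (.node .leaf (218457, 0, 17, 218108) .leaf) (218459, 0, 15, 157387) (.node .leaf (218460, 0, 17, 232121) .leaf)) (218462, 0, 16, 147704) (.node (.node .leaf (218464, 0, 16, 58786) .leaf) (218466, 0, 16, 112007) (.node .leaf (218469, 0, 16, 4292) .leaf))) (218471, 0, 17, 260278) (.node (.node (.node .leaf (218472, 0, 18, 180282) .leaf) (218474, 0, 15, 209945) (.node .leaf (218477, 0, 17, 137599) .leaf)) (218479, 0, 15, 201258) (.node (.node .leaf (218481, 0, 18, 6447) .leaf) (218483, 0, 16, 208308) (.node .leaf (218484, 0, 16, 16156) .leaf)))) (218486, 0, 17, 259313) (.node (.node (.node (.node .leaf (218489, 0, 16, 62387) .leaf) (218491, 0, 17, 67628) (.node .leaf (218492, 0, 17, 54656) .leaf)) (218494, 0, 16, 119145) (.node (.node .leaf (218497, 0, 18, 193469) .leaf) (218499, 0, 16, 238488) (.node .leaf (218500, 0, 16, 56323) .leaf))) (218502, 0, 18, 210033) (.node (.node (.node .leaf (218505, 0, 17, 54821) .leaf) (218507, 0, 16, 99840)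 (.node .leaf (218508, 0, 16, 3936) .leaf)) (218510, 0, 16, 253677) (.node (.node .leaf (218512, 0, 17, 27534) .leaf) (218514, 0, 16, 80811) (.node .leaf (218517, 0, 17, 62427) .leaf))))) (218519, 0, 14, 203689) (.node (.node (.node (.node (.node .leaf (218520, 0, 17, 16244) .leaf) (218522, 0, 15, 251654) (.node .leaf (218525, 0, 17, 6471) .leaf)) (218527, 0, 16, 258357) (.node (.node .leaf (218529, 0, 15, 129096) .leaf) (218531, 0, 16, 159560) (.node .leaf (218532, 0, 16, 106761) .leaf))) (218534, 0, 18, 28968) (.node (.node (.node .leaf (218537, 0, 16, 253392) .leaf) (218539, 0, 9, 165332) (.node .leaf (218540, 0, 16, 197781) .leaf)) (218542, 0, 14, 173031) (.node (.node .leaf (218544, 0, 14, 221307) .leaf) (218546, 0, 14, 143454) (.node .leaf (218549, 0, 14, 244030) .leaf)))) (218551, 0, 15, 157347) (.node (.node (.node (.node .leaf (218552, 0, 15, 83427) .leaf) (218554, 0, 18, 5574) (.node .leaf (218557, 0, 16, 105638) .leaf)) (218559, 0, 14, 166975) (.node (.node .leaf (218560, 0, 11, 195476) .leaf) (218562, 0, 16, 70630)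 (.node .leaf (218565, 0, 16, 106520) .leaf))) (218567, 0, 13, 79317) (.node (.node (.node .leaf (218568, 0, 15, 220357) .leaf) (218570, 0, 13, 134368) (.node .leaf (218573, 0, 16, 145211) .leaf)) (218575, 0, 17, 185765) (.node (.node .leaf (218577, 0, 13, 185420) .leaf) (218579, 0, 16, 80958) (.node .leaf (218580, 0, 16, 193151) .leaf))))))

/-- part of the orbit tree -/
def itp6_340 : Tree := (.node (.node (.node (.node (.node (.node .leaf (218585, 0, 19, 115958) .leaf) (218587, 0, 18, 38099) (.node .leaf (218588, 0, 17, 73139) .leaf)) (218590, 0, 16, 127121) (.node (.node .leaf (218592, 0, 16, 231070) .leaf) (218594, 0, 17, 205453) (.node .leaf (218597, 0, 17, 237741) .leaf))) (218599, 0, 14, 18655) (.node (.node (.node .leaf (218600, 0, 16, 224258) .leaf) (218602, 0, 17, 67349) (.node .leaf (218605, 0, 17, 215601) .leaf)) (218607, 0, 14, 122448) (.node (.node .leaf (218609, 0, 18, 60059) .leaf) (218611, 0, 16, 16692) (.node .leaf (218612, 0, 18, 233333) .leaf)))) (218614, 0, 16, 91131) (.node (.node (.node (.node .leaf (218617,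 0, 15, 213978) .leaf) (218619, 0, 18, 43944) (.node .leaf (218620, 0, 17, 222697) .leaf)) (218622, 0, 17, 214627) (.node (.node .leaf (218624, 0, 11, 199381) .leaf) (218625, 0, 17, 256691) (.node .leaf (218626, 0, 17, 137674) .leaf))) (218627, 0, 17, 178838) (.node (.node (.node .leaf (218632, 0, 14, 77645) .leaf) (218633, 0, 13, 118571) (.node .leaf (218634, 0, 16, 32616) .leaf)) (218635, 0, 18, 43640) (.node (.node .leaf (218644, 0, 14, 84899) .leaf) (218645, 0, 16, 109509) (.node .leaf (218646, 0, 18, 135201) .leaf))))) (218647, 0, 17, 64480) (.node (.node (.node (.node (.node .leaf (218652, 0, 16, 70351) .leaf) (218653, 0, 16, 216033) (.node .leaf (218654, 0, 14, 195261) .leaf)) (218655, 0, 15, 41875) (.node (.node .leaf (218656, 0, 15, 36018) .leaf) (218657, 0, 17, 185756) (.node .leaf (218658, 0, 17, 222400) .leaf))) (218659, 0, 16, 110947) (.node (.node (.node .leaf (218664, 0, 14, 26158) .leaf) (218665, 0, 17, 181470) (.node .leaf (218666, 0, 17, 226461) .leaf)) (218667, 0, 17, 120690) (.node (.node .leaf (218676, 0,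 16, 34137) .leaf) (218677, 0, 17, 172080) (.node .leaf (218678, 0, 15, 224555) .leaf)))) (218679, 0, 16, 78853) (.node (.node (.node (.node .leaf (218684, 0, 17, 28613) .leaf) (218685, 0, 15, 145131) (.node .leaf (218686, 0, 17, 231351) .leaf)) (218687, 0, 13, 120205) (.node (.node .leaf (218692, 0, 14, 22896) .leaf) (218693, 0, 13, 102145) (.node .leaf (218694, 0, 13, 15965) .leaf))) (218695, 0, 17, 157555) (.node (.node (.node .leaf (218700, 0, 18, 163048) .leaf) (218701, 0, 17, 171150) (.node .leaf (218702, 0, 16, 54465) .leaf)) (218703, 0, 15, 167407) (.node (.node .leaf (218704, 0, 16, 253892) .leaf) (218705, 0, 15, 100074) .leaf)))))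

/-- part of the orbit tree -/
def itp6_341 : Tree := (.node itp6_337 (218326, 0, 16, 130542) itp6_338)

/-- part of the orbit tree -/
def itp6_342 : Tree := (.node itp6_339 (218582, 0, 16, 157710) itp6_340)

/-- part of the orbit tree -/
def itp6_343 : Tree := (.node itp6_335 (217941, 0, 17, 31135) itp6_336)

/-- part of the orbit tree -/
def itp6_344 : Tree := (.node itp6_341 (218454, 0, 16, 65284) itp6_342)

/-- part of the orbit tree -/
def itp6_345 : Tree := (.node itp6_329 (217176, 0, 15, 68422) itp6_330)

/-- part of the orbit tree -/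
def itp6_346 : Tree := (.node itp6_343 (218198, 0, 15, 150919) itp6_344)

/-- part of the orbit tree -/
def itp6_347 : Tree := (.node (.node (.node (.node (.node (.node .leaf (218707, 0, 17, 239685) .leaf) (218712, 0, 16, 210264) (.node .leaf (218713, 0, 18, 93302) .leaf)) (218714, 0, 15, 56618) (.node (.node .leaf (218715, 0, 17, 164868) .leaf) (218724, 0, 15, 174885) (.node .leaf (218725, 0, 12, 242403) .leaf))) (218726, 0, 14, 131744) (.node (.node (.node .leaf (218727, 0, 12, 189126) .leaf) (218732, 0, 17, 96029) (.node .leaf (218733, 0, 17, 6295) .leaf)) (218734, 0, 17, 109003) (.node (.node .leaf (218735, 0, 16, 258277) .leaf) (218736, 0, 14, 70643) (.node .leaf (218737, 0, 17, 64480) .leaf)))) (218738, 0, 15, 17366) (.node (.node (.node (.node .leaf (218739, 0, 16, 41904) .leaf) (218744, 0, 14, 210539) (.node .leaf (218745, 0, 17, 251405) .leaf)) (218746, 0, 17, 157262) (.node (.node .leaf (218747, 0, 14, 260366) .leaf) (218752, 0, 17, 147921) (.node .leaf (218753, 0, 17, 97721) .leaf))) (218754, 0, 14, 52730) (.node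 (.node (.node .leaf (218755, 0, 18, 11676) .leaf) (218760, 0, 12, 174925) (.node .leaf (218761, 0, 17, 219169) .leaf)) (218762, 0, 17, 82751) (.node (.node .leaf (218763, 0, 18, 203281) .leaf) (218772, 0, 14, 149562) (.node .leaf (218773, 0, 18, 4372) .leaf))))) (218774, 0, 12, 167052) (.node (.node (.node (.node (.node .leaf (218775, 0, 16, 158954) .leaf) (218780, 0, 16, 172710) (.node .leaf (218781, 0, 17, 72023) .leaf)) (218782, 0, 18, 43284) (.node (.node .leaf (218783, 0, 16, 201722) .leaf) (218784, 0, 17, 212187) (.node .leaf (218785, 0, 17, 161356) .leaf))) (218786, 0, 14, 54441) (.node (.node (.node .leaf (218787, 0, 15, 206441) .leaf) (218792, 0, 17, 251463) (.node .leaf (218793, 0, 16, 21460) .leaf)) (218794, 0, 15, 123799) (.node (.node .leaf (218795, 0, 16, 157467) .leaf) (218804, 0, 19, 55132) (.node .leaf (218805, 0, 14, 93214) .leaf)))) (218806, 0, 15, 56642) (.node (.node (.node (.node .leaf (218807, 0, 18, 91935) .leaf) (218812, 0, 17, 253868) (.node .leaf (218813, 0, 18, 99970) .leaf)) (218814, 0, 17, 14302)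 (.node (.node .leaf (218815, 0, 17, 159472) .leaf) (218820, 0, 10, 183930) (.node .leaf (218821, 0, 15, 142876) .leaf))) (218822, 0, 17, 237151) (.node (.node (.node .leaf (218823, 0, 18, 120602) .leaf) (218828, 0, 19, 36058) (.node .leaf (218829, 0, 14, 2948) .leaf)) (218830, 0, 15, 113607) (.node (.node .leaf (218831, 0, 16, 81286) .leaf) (218832, 0, 17, 36620) (.node .leaf (218833, 0, 17, 28522) .leaf))))))

/-- part of the orbit tree -/
def itp6_348 : Tree := (.node (.node (.node (.node (.node (.node .leaf (218835, 0, 16, 81743) .leaf) (218840, 0, 18, 174740) (.node .leaf (218841, 0, 16, 150258) .leaf)) (218842, 0, 16, 260785) (.node (.node .leaf (218843, 0, 18, 203479) .leaf) (218852, 0, 17, 116111) (.node .leaf (218853, 0, 18, 75241) .leaf))) (218854, 0, 16, 38314) (.node (.node (.node .leaf (218855, 0, 15, 43536) .leaf) (218860, 0, 11, 127440) (.node .leaf (218861, 0, 17, 239870) .leaf)) (218862, 0, 16, 137634) (.node (.node .leaf (218863, 0, 16, 16524) .leaf) (218864, 0, 14, 230649) (.node .leaf (218865, 0, 12, 215945)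 .leaf)))) (218866, 0, 15, 185564) (.node (.node (.node (.node .leaf (218867, 0, 17, 41979) .leaf) (218872, 0, 15, 106849) (.node .leaf (218873, 0, 14, 82183) .leaf)) (218874, 0, 17, 61764) (.node (.node .leaf (218875, 0, 16, 18791) .leaf) (218880, 0, 17, 43169) (.node .leaf (218881, 0, 16, 216949) .leaf))) (218882, 0, 17, 129156) (.node (.node (.node .leaf (218883, 0, 17, 71906) .leaf) (218888, 0, 18, 130247) (.node .leaf (218889, 0, 16, 159071) .leaf)) (218890, 0, 18, 253212) (.node (.node .leaf (218891, 0, 19, 212346) .leaf) (218900, 0, 16, 73648) (.node .leaf (218901, 0, 15, 133553) .leaf))))) (218902, 0, 17, 244210) (.node (.node (.node (.node (.node .leaf (218903, 0, 17, 219540) .leaf) (218908, 0, 17, 128300) (.node .leaf (218909, 0, 15, 240642) .leaf)) (218910, 0, 13, 138590) (.node (.node .leaf (218911, 0, 17, 17520) .leaf) (218912, 0, 14, 238420) (.node .leaf (218913, 0, 15, 213810) .leaf))) (218914, 0, 14, 230179) (.node (.node (.node .leaf (218915, 0, 15, 135959) .leaf) (218920, 0, 17, 100044) (.node .leaf (218921,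 0, 16, 91818) .leaf)) (218922, 0, 16, 55017) (.node (.node .leaf (218923, 0, 18, 77969) .leaf) (218932, 0, 16, 123426) (.node .leaf (218933, 0, 14, 146324) .leaf)))) (218934, 0, 16, 45575) (.node (.node (.node (.node .leaf (218935, 0, 18, 119782) .leaf) (218940, 0, 17, 247738) (.node .leaf (218941, 0, 18, 184584) .leaf)) (218942, 0, 16, 169887) (.node (.node .leaf (218943, 0, 19, 161785) .leaf) (218948, 0, 18, 260868) (.node .leaf (218949, 0, 18, 92386) .leaf))) (218950, 0, 17, 174881) (.node (.node (.node .leaf (218951, 0, 10, 163984) .leaf) (218956, 0, 8, 252752) (.node .leaf (218957, 0, 15, 81658) .leaf)) (218958, 0, 17, 13090) (.node (.node .leaf (218959, 0, 11, 28383) .leaf) (218960, 0, 18, 113266) (.node .leaf (218961, 0, 18, 88596) .leaf))))))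

/-- part of the orbit tree -/
def itp6_349 : Tree := (.node (.node (.node (.node (.node (.node .leaf (218963, 0, 16, 2609) .leaf) (218968, 0, 17, 237546) (.node .leaf (218969, 0, 16, 229260) .leaf)) (218970, 0, 17, 15049) (.node (.node .leaf (218971, 0, 16, 156647) .leaf) (218980, 0, 16, 150726) (.node .leaf (218981, 0, 15, 4247) .leaf))) (218982, 0, 13, 106708) (.node (.node (.node .leaf (218983, 0, 18, 82098) .leaf) (218988, 0, 15, 185705) (.node .leaf (218989, 0, 13, 65396) .leaf)) (218990, 0, 18, 230732) (.node (.node .leaf (218991, 0, 16, 202502) .leaf) (218992, 0, 16, 176519) (.node .leaf (218993, 0, 19, 152033) .leaf)))) (218994, 0, 16, 109919) (.node (.node (.node (.node .leaf (218995, 0, 17, 259185) .leaf) (219000, 0, 11, 176049) (.node .leaf (219001, 0, 18, 29817) .leaf)) (219002, 0, 18, 83907) (.node (.node .leaf (219003, 0, 16, 204525) .leaf) (219008, 0, 17, 147371) (.node .leaf (219009, 0, 16, 188365) .leaf))) (219010, 0, 17, 85568) (.node (.node (.node .leaf (219011, 0, 18, 202606) .leaf) (219016, 0, 14, 6707)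 (.node .leaf (219017, 0, 17, 64085) .leaf)) (219018, 0, 16, 84502) (.node (.node .leaf (219019, 0, 18, 261618) .leaf) (219028, 0, 18, 32477) (.node .leaf (219029, 0, 18, 40635) .leaf))))) (219030, 0, 15, 83883) (.node (.node (.node (.node (.node .leaf (219031, 0, 16, 118430) .leaf) (219036, 0, 15, 148805) (.node .leaf (219037, 0, 15, 178979) .leaf)) (219038, 0, 17, 109879) (.node (.node .leaf (219039, 0, 17, 259097) .leaf) (219040, 0, 14, 252728) (.node .leaf (219041, 0, 17, 119864) .leaf))) (219042, 0, 15, 25723) (.node (.node (.node .leaf (219043, 0, 16, 33821) .leaf) (219048, 0, 19, 201158) (.node .leaf (219049, 0, 14, 92298) .leaf)) (219050, 0, 15, 55766) (.node (.node .leaf (219051, 0, 16, 172421) .leaf) (219060, 0, 16, 226600) (.node .leaf (219061, 0, 17, 101373) .leaf)))) (219062, 0, 14, 140557) (.node (.node (.node (.node .leaf (219063, 0, 14, 156559) .leaf) (219068, 0, 16, 86192) (.node .leaf (219069, 0, 18, 110806) .leaf)) (219070, 0, 18, 53309) (.node (.node .leaf (219071, 0, 15, 57587) .leaf) (219076, 0, 15, 93198)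 (.node .leaf (219077, 0, 17, 101480) .leaf))) (219078, 0, 13, 223703) (.node (.node (.node .leaf (219079, 0, 18, 56397) .leaf) (219084, 0, 16, 215446) (.node .leaf (219085, 0, 14, 240112) .leaf)) (219086, 0, 16, 230219) (.node (.node .leaf (219087, 0, 18, 121445) .leaf) (219088, 0, 18, 208248) (.node .leaf (219089, 0, 16, 184672) .leaf))))))

/-- part of the orbit tree -/
def itp6_350 : Tree := (.node (.node (.node (.node (.node (.node .leaf (219091, 0, 18, 80146) .leaf) (219096, 0, 13, 67808) (.node .leaf (219097, 0, 17, 146428) .leaf)) (219098, 0, 16, 232096) (.node (.node .leaf (219099, 0, 15, 47267) .leaf) (219108, 0, 17, 130223) (.node .leaf (219109, 0, 12, 165789) .leaf))) (219110, 0, 15, 136413) (.node (.node (.node .leaf (219111, 0, 16, 19955) .leaf) (219116, 0, 15, 16995) (.node .leaf (219117, 0, 18, 216861) .leaf)) (219118, 0, 14, 70214) (.node (.node .leaf (219119, 0, 15, 127520) .leaf) (219120, 0, 18, 9869) (.node .leaf (219121, 0, 15, 50923) .leaf)))) (219122, 0, 16, 138550) (.node (.node (.node (.node .leaf (219123,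 0, 10, 17432) .leaf) (219128, 0, 16, 73688) (.node .leaf (219129, 0, 15, 214774) .leaf)) (219130, 0, 15, 217904) (.node (.node .leaf (219131, 0, 17, 242518) .leaf) (219137, 0, 16, 58737) (.node .leaf (219138, 0, 15, 87085) .leaf))) (219141, 0, 15, 170604) (.node (.node (.node .leaf (219142, 0, 12, 76567) .leaf) (219145, 0, 15, 4077) (.node .leaf (219146, 0, 13, 210860) .leaf)) (219149, 0, 15, 179916) (.node (.node .leaf (219150, 0, 18, 246188) .leaf) (219152, 0, 17, 51881) (.node .leaf (219155, 0, 15, 97269) .leaf))))) (219156, 0, 15, 177588) (.node (.node (.node (.node (.node .leaf (219159, 0, 14, 242468) .leaf) (219160, 0, 16, 8156) (.node .leaf (219163, 0, 16, 102761) .leaf)) (219164, 0, 15, 155432) (.node (.node .leaf (219167, 0, 17, 257652) .leaf) (219169, 0, 16, 104571) (.node .leaf (219170, 0, 15, 137665) .leaf))) (219173, 0, 17, 233633) (.node (.node (.node .leaf (219174, 0, 16, 153146) .leaf) (219177, 0, 17, 94951) (.node .leaf (219178, 0, 14, 15449) .leaf)) (219181, 0, 16, 111929) (.node (.node .leaf (219182, 0, 17,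 179366) .leaf) (219184, 0, 17, 112547) (.node .leaf (219187, 0, 18, 1791) .leaf)))) (219188, 0, 15, 247998) (.node (.node (.node (.node .leaf (219191, 0, 17, 47313) .leaf) (219192, 0, 18, 201769) (.node .leaf (219195, 0, 15, 173162) .leaf)) (219196, 0, 15, 205346) (.node (.node .leaf (219199, 0, 16, 171337) .leaf) (219200, 0, 18, 189653) (.node .leaf (219203, 0, 18, 218505) .leaf))) (219204, 0, 16, 39880) (.node (.node (.node .leaf (219207, 0, 15, 172535) .leaf) (219208, 0, 17, 68879) (.node .leaf (219211, 0, 18, 245525) .leaf)) (219212, 0, 15, 29012) (.node (.node .leaf (219215, 0, 15, 114696) .leaf) (219217, 0, 14, 183053) (.node .leaf (219218, 0, 17, 227921) .leaf))))))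

/-- part of the orbit tree -/
def itp6_351 : Tree := (.node itp6_347 (218834, 0, 16, 122665) itp6_348)

/-- part of the orbit tree -/
def itp6_352 : Tree := (.node itp6_349 (219090, 0, 16, 163165) itp6_350)

/-- part of the orbit tree -/
def itp6_353 : Tree := (.node (.node (.node (.node (.node (.node .leaf (219222, 0, 17, 14788) .leaf) (219225, 0, 18, 139665) (.node .leaf (219226, 0, 14, 233677) .leaf)) (219229, 0, 14, 24204) (.node (.node .leaf (219230, 0, 17, 138332) .leaf) (219232, 0, 17, 9058) (.node .leaf (219235, 0, 17, 141443) .leaf))) (219236, 0, 13, 6721) (.node (.node (.node .leaf (219239, 0, 11, 109058) .leaf) (219240, 0, 17, 226115) (.node .leaf (219243, 0, 17, 243385) .leaf)) (219244, 0, 15, 68702) (.node (.node .leaf (219247, 0, 17, 48386) .leaf) (219249, 0, 17, 243207) (.node .leaf (219250, 0, 15, 132955) .leaf)))) (219253, 0, 15, 117018) (.node (.node (.node (.node .leaf (219254, 0, 15, 30790) .leaf) (219257, 0, 12, 40649) (.node .leaf (219258, 0, 13, 191943) .leaf)) (219261, 0, 13, 74630) (.node (.node .leaf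 (219262, 0, 17, 71593) .leaf) (219265, 0, 18, 218392) (.node .leaf (219266, 0, 14, 230718) .leaf))) (219269, 0, 12, 76293) (.node (.node (.node .leaf (219270, 0, 17, 244765) .leaf) (219273, 0, 16, 245636) (.node .leaf (219274, 0, 16, 134872) .leaf)) (219277, 0, 15, 10694) (.node (.node .leaf (219278, 0, 17, 104837) .leaf) (219280, 0, 15, 228032) (.node .leaf (219283, 0, 14, 183196) .leaf))))) (219284, 0, 16, 37997) (.node (.node (.node (.node (.node .leaf (219287, 0, 17, 46209) .leaf) (219288, 0, 16, 166102) (.node .leaf (219291, 0, 17, 211093) .leaf)) (219292, 0, 18, 176629) (.node (.node .leaf (219295, 0, 16, 24093) .leaf) (219297, 0, 19, 141330) (.node .leaf (219298, 0, 17, 235854) .leaf))) (219301, 0, 18, 22287) (.node (.node (.node .leaf (219302, 0, 18, 47080) .leaf) (219305, 0, 18, 203536) (.node .leaf (219306, 0, 17, 174931) .leaf)) (219309, 0, 17, 205363) (.node (.node .leaf (219310, 0, 11, 68815) .leaf) (219312, 0, 10, 133066) (.node .leaf (219315, 0, 16, 243350) .leaf)))) (219316, 0, 16, 237464) (.node (.node (.node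 (.node .leaf (219319, 0, 13, 143323) .leaf) (219320, 0, 16, 99107) (.node .leaf (219323, 0, 11, 220170) .leaf)) (219324, 0, 16, 37451) (.node (.node .leaf (219327, 0, 15, 74519) .leaf) (219328, 0, 17, 87228) (.node .leaf (219331, 0, 17, 4062) .leaf))) (219332, 0, 12, 207777) (.node (.node (.node .leaf (219335, 0, 16, 170749) .leaf) (219336, 0, 15, 236037) (.node .leaf (219339, 0, 16, 3964) .leaf)) (219340, 0, 17, 246077) (.node (.node .leaf (219343, 0, 17, 136037) .leaf) (219345, 0, 17, 97124) (.node .leaf (219346, 0, 18, 51768) .leaf))))))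

/-- part of the orbit tree -/
def itp6_354 : Tree := (.node (.node (.node (.node (.node (.node .leaf (219350, 0, 14, 177445) .leaf) (219353, 0, 16, 102904) (.node .leaf (219354, 0, 15, 45685) .leaf)) (219357, 0, 17, 257765) (.node (.node .leaf (219358, 0, 16, 35670) .leaf) (219360, 0, 15, 10678) (.node .leaf (219363, 0, 17, 104682) .leaf))) (219364, 0, 17, 167243) (.node (.node (.node .leaf (219367, 0, 16, 212232) .leaf) (219368, 0, 18, 49962) (.node .leaf (219371, 0, 13, 94838) .leaf)) (219372, 0, 16, 43219) (.node (.node .leaf (219375, 0, 17, 200043) .leaf) (219377, 0, 15, 1646) (.node .leaf (219378, 0, 15, 105496) .leaf)))) (219381, 0, 17, 5496) (.node (.node (.node (.node .leaf (219382, 0, 16, 107835) .leaf) (219385, 0, 15, 60658) (.node .leaf (219386, 0, 18, 89518) .leaf)) (219389, 0, 17, 168943) (.node (.node .leaf (219390, 0, 15, 205491) .leaf) (219393, 0, 14, 196611) (.node .leaf (219394, 0, 17, 176192) .leaf))) (219397, 0, 16, 211232) (.node (.node (.node .leaf (219398, 0, 15, 166243) .leaf) (219401, 0, 18, 59406)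 (.node .leaf (219402, 0, 15, 88402) .leaf)) (219405, 0, 16, 72888) (.node (.node .leaf (219406, 0, 17, 44283) .leaf) (219408, 0, 18, 11594) (.node .leaf (219411, 0, 17, 10355) .leaf))))) (219412, 0, 13, 106771) (.node (.node (.node (.node (.node .leaf (219415, 0, 11, 4432) .leaf) (219416, 0, 15, 245160) (.node .leaf (219419, 0, 17, 134635) .leaf)) (219420, 0, 16, 230539) (.node (.node .leaf (219423, 0, 15, 144584) .leaf) (219425, 0, 10, 98200) (.node .leaf (219426, 0, 14, 113589) .leaf))) (219429, 0, 13, 196741) (.node (.node (.node .leaf (219430, 0, 15, 176601) .leaf) (219433, 0, 17, 103684) (.node .leaf (219434, 0, 17, 9304) .leaf)) (219437, 0, 13, 137037) (.node (.node .leaf (219438, 0, 15, 239374) .leaf) (219440, 0, 13, 86080) (.node .leaf (219443, 0, 15, 205702) .leaf)))) (219444, 0, 13, 174822) (.node (.node (.node (.node .leaf (219447, 0, 15, 171521) .leaf) (219448, 0, 14, 113372) (.node .leaf (219451, 0, 12, 2944) .leaf)) (219452, 0, 14, 36734) (.node (.node .leaf (219455, 0, 16, 81725) .leaf) (219456, 0, 16, 35555)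 (.node .leaf (219459, 0, 16, 80544) .leaf))) (219460, 0, 16, 31787) (.node (.node (.node .leaf (219463, 0, 15, 118135) .leaf) (219464, 0, 12, 190890) (.node .leaf (219467, 0, 16, 204600) .leaf)) (219468, 0, 17, 169560) (.node (.node .leaf (219471, 0, 16, 206363) .leaf) (219473, 0, 17, 142574) (.node .leaf (219474, 0, 14, 238227) .leaf))))))

/-- part of the orbit tree -/
def itp6_355 : Tree := (.node (.node (.node (.node (.node (.node .leaf (219478, 0, 16, 123567) .leaf) (219481, 0, 15, 14152) (.node .leaf (219482, 0, 17, 227118) .leaf)) (219485, 0, 18, 47471) (.node (.node .leaf (219486, 0, 18, 114216) .leaf) (219488, 0, 16, 228924) (.node .leaf (219491, 0, 15, 143701) .leaf))) (219492, 0, 17, 65825) (.node (.node (.node .leaf (219495, 0, 19, 133238) .leaf) (219496, 0, 14, 234656) (.node .leaf (219499, 0, 16, 5325) .leaf)) (219500, 0, 17, 105901) (.node (.node .leaf (219503, 0, 11, 23265) .leaf) (219505, 0, 18, 71973) (.node .leaf (219506, 0, 16, 188600) .leaf)))) (219509, 0, 18, 77561) (.node (.node (.node (.node .leaf (219510,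 0, 17, 40869) .leaf) (219513, 0, 17, 244600) (.node .leaf (219514, 0, 15, 133668) .leaf)) (219517, 0, 15, 115813) (.node (.node .leaf (219518, 0, 17, 30009) .leaf) (219521, 0, 14, 242427) (.node .leaf (219522, 0, 14, 132007) .leaf))) (219525, 0, 14, 118246) (.node (.node (.node .leaf (219526, 0, 15, 7785) .leaf) (219529, 0, 12, 219239) (.node .leaf (219530, 0, 16, 131794) .leaf)) (219533, 0, 16, 232370) (.node (.node .leaf (219534, 0, 16, 38438) .leaf) (219536, 0, 14, 236835) (.node .leaf (219539, 0, 16, 180089) .leaf))))) (219540, 0, 16, 210457) (.node (.node (.node (.node (.node .leaf (219543, 0, 18, 21346) .leaf) (219544, 0, 17, 227263) (.node .leaf (219547, 0, 18, 181987) .leaf)) (219548, 0, 13, 70529) (.node (.node .leaf (219551, 0, 14, 47614) .leaf) (219553, 0, 13, 171260) (.node .leaf (219554, 0, 13, 229037) .leaf))) (219557, 0, 17, 173535) (.node (.node (.node .leaf (219558, 0, 18, 65968) .leaf) (219561, 0, 17, 47460) (.node .leaf (219562, 0, 18, 67879) .leaf)) (219565, 0, 17, 32839) (.node (.node .leaf (219566, 0,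 18, 77828) .leaf) (219568, 0, 14, 188457) (.node .leaf (219571, 0, 17, 217461) .leaf)))) (219572, 0, 16, 40756) (.node (.node (.node (.node .leaf (219575, 0, 16, 77416) .leaf) (219576, 0, 18, 133813) (.node .leaf (219579, 0, 16, 244713) .leaf)) (219580, 0, 17, 137332) (.node (.node .leaf (219583, 0, 13, 115956) .leaf) (219584, 0, 15, 111455) (.node .leaf (219587, 0, 16, 241066) .leaf))) (219588, 0, 15, 248898) (.node (.node (.node .leaf (219591, 0, 16, 234633) .leaf) (219592, 0, 17, 14449) (.node .leaf (219595, 0, 10, 100402) .leaf)) (219596, 0, 18, 338) (.node (.node .leaf (219599, 0, 17, 169858) .leaf) (219601, 0, 13, 34266) (.node .leaf (219602, 0, 18, 79257) .leaf))))))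

/-- part of the orbit tree -/
def itp6_356 : Tree := (.node (.node (.node (.node (.node (.node .leaf (219606, 0, 14, 152262) .leaf) (219609, 0, 17, 95771) (.node .leaf (219610, 0, 18, 51015) .leaf)) (219613, 0, 11, 198918) (.node (.node .leaf (219614, 0, 17, 178266) .leaf) (219616, 0, 16, 52821) (.node .leaf (219619, 0, 18, 42591) .leaf))) (219620, 0, 15, 176456) (.node (.node (.node .leaf (219623, 0, 17, 40828) .leaf) (219624, 0, 16, 209796) (.node .leaf (219627, 0, 16, 103829) .leaf)) (219628, 0, 16, 154580) (.node (.node .leaf (219631, 0, 15, 256648) .leaf) (219633, 0, 16, 233007) (.node .leaf (219634, 0, 14, 86225) .leaf)))) (219637, 0, 15, 243468) (.node (.node (.node (.node .leaf (219638, 0, 17, 208844) .leaf) (219641, 0, 18, 109495) (.node .leaf (219642, 0, 14, 113229) .leaf)) (219645, 0, 14, 160780) (.node (.node .leaf (219646, 0, 13, 8919) .leaf) (219648, 0, 16, 178547) (.node .leaf (219649, 0, 14, 36359) .leaf))) (219652, 0, 18, 50798) (.node (.node (.node .leaf (219653, 0, 15, 171840) .leaf) (219656, 0, 15, 152559)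 (.node .leaf (219657, 0, 16, 175007) .leaf)) (219660, 0, 17, 11506) (.node (.node .leaf (219661, 0, 16, 161244) .leaf) (219666, 0, 16, 206839) (.node .leaf (219667, 0, 16, 98009) .leaf))))) (219670, 0, 15, 229170) (.node (.node (.node (.node (.node .leaf (219671, 0, 17, 237396) .leaf) (219674, 0, 17, 249195) (.node .leaf (219675, 0, 17, 99311) .leaf)) (219678, 0, 18, 111222) (.node (.node .leaf (219679, 0, 17, 113356) .leaf) (219680, 0, 19, 246905) (.node .leaf (219681, 0, 17, 105815) .leaf))) (219684, 0, 17, 113508) (.node (.node (.node .leaf (219685, 0, 17, 254538) .leaf) (219688, 0, 17, 208613) (.node .leaf (219689, 0, 18, 106602) .leaf)) (219692, 0, 15, 96559) (.node (.node .leaf (219693, 0, 18, 198870) .leaf) (219698, 0, 17, 19940) (.node .leaf (219699, 0, 11, 979) .leaf)))) (219702, 0, 18, 9696) (.node (.node (.node (.node .leaf (219703, 0, 18, 163022) .leaf) (219706, 0, 15, 176225) (.node .leaf (219707, 0, 17, 165914) .leaf)) (219710, 0, 15, 53116) (.node (.node .leaf (219711, 0, 13, 169554) .leaf) (219714, 0, 17, 67979)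 (.node .leaf (219715, 0, 12, 217253) .leaf))) (219718, 0, 14, 159201) (.node (.node (.node .leaf (219719, 0, 17, 167303) .leaf) (219722, 0, 15, 123671) (.node .leaf (219723, 0, 15, 37180) .leaf)) (219726, 0, 15, 18553) (.node (.node .leaf (219727, 0, 18, 43039) .leaf) (219728, 0, 16, 97458) .leaf)))))

/-- part of the orbit tree -/
def itp6_357 : Tree := (.node itp6_353 (219349, 0, 17, 204429) itp6_354)

/-- part of the orbit tree -/
def itp6_358 : Tree := (.node itp6_355 (219605, 0, 18, 254874) itp6_356)

/-- part of the orbit tree -/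
def itp6_359 : Tree := (.node itp6_351 (218962, 0, 10, 59991) itp6_352)

/-- part of the orbit tree -/
def itp6_360 : Tree := (.node itp6_357 (219477, 0, 17, 142323) itp6_358)

/-- part of the orbit tree -/
def itp6_361 : Tree := (.node (.node (.node (.node (.node (.node .leaf (219732, 0, 15, 83345) .leaf) (219733, 0, 18, 45372) (.node .leaf (219736, 0, 18, 219434) .leaf)) (219737, 0, 16, 244044) (.node (.node .leaf (219740, 0, 17, 221193) .leaf) (219741, 0, 13, 229487) (.node .leaf (219746, 0, 17, 29825) .leaf))) (219747, 0, 15, 142767) (.node (.node (.node .leaf (219750, 0, 12, 91668) .leaf) (219751, 0, 17, 21170) (.node .leaf (219754, 0, 15, 40477) .leaf)) (219755, 0, 16, 236233) (.node (.node .leaf (219758, 0, 19, 188672) .leaf) (219759, 0, 14, 238570) (.node .leaf (219760, 0, 17, 161607) .leaf)))) (219761, 0, 17, 169761) (.node (.node (.node (.node .leaf (219764, 0, 17, 234776) .leaf) (219765, 0, 14, 117814) (.node .leaf (219768, 0, 16, 21215) .leaf)) (219769, 0, 17, 219575) (.node (.node .leaf (219772, 0, 14, 229252)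 .leaf) (219773, 0, 17, 75434) (.node .leaf (219776, 0, 16, 194923) .leaf))) (219777, 0, 15, 217140) (.node (.node (.node .leaf (219780, 0, 16, 226823) .leaf) (219781, 0, 14, 139310) (.node .leaf (219784, 0, 18, 123782) .leaf)) (219785, 0, 16, 244392) (.node (.node .leaf (219788, 0, 17, 58832) .leaf) (219789, 0, 16, 1462) (.node .leaf (219794, 0, 16, 119067) .leaf))))) (219795, 0, 16, 78205) (.node (.node (.node (.node (.node .leaf (219798, 0, 17, 190595) .leaf) (219799, 0, 17, 67678) (.node .leaf (219802, 0, 17, 259203) .leaf)) (219803, 0, 14, 140332) (.node (.node .leaf (219806, 0, 16, 249248) .leaf) (219807, 0, 15, 23345) (.node .leaf (219808, 0, 15, 29712) .leaf))) (219809, 0, 16, 142654) (.node (.node (.node .leaf (219812, 0, 15, 133901) .leaf) (219813, 0, 16, 21027) (.node .leaf (219816, 0, 14, 40588) .leaf)) (219817, 0, 16, 182178) (.node (.node .leaf (219820, 0, 18, 188817) .leaf) (219821, 0, 17, 200259) (.node .leaf (219826, 0, 15, 125588) .leaf)))) (219827, 0, 16, 242618) (.node (.node (.node (.node .leaf (219830,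 0, 15, 234889) .leaf) (219831, 0, 12, 117927) (.node .leaf (219834, 0, 17, 65544) .leaf)) (219835, 0, 16, 7952) (.node (.node .leaf (219838, 0, 16, 229141) .leaf) (219839, 0, 15, 9779) (.node .leaf (219842, 0, 7, 178658) .leaf))) (219843, 0, 18, 57548) (.node (.node (.node .leaf (219846, 0, 17, 64235) .leaf) (219847, 0, 13, 171985) (.node .leaf (219850, 0, 17, 152446) .leaf)) (219851, 0, 16, 132662) (.node (.node .leaf (219854, 0, 17, 188275) .leaf) (219855, 0, 17, 147221) (.node .leaf (219856, 0, 16, 256952) .leaf))))))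

/-- part of the orbit tree -/
def itp6_362 : Tree := (.node (.node (.node (.node (.node (.node .leaf (219860, 0, 17, 250523) .leaf) (219861, 0, 13, 196949) (.node .leaf (219864, 0, 17, 118304) .leaf)) (219865, 0, 15, 103636) (.node (.node .leaf (219868, 0, 18, 111335) .leaf) (219869, 0, 17, 71525) (.node .leaf (219874, 0, 17, 247869) .leaf))) (219875, 0, 16, 206939) (.node (.node (.node .leaf (219878, 0, 13, 113653) .leaf) (219879, 0, 17, 254683) (.node .leaf (219882, 0, 14, 208500) .leaf)) (219883, 0, 16, 96090) (.node (.node .leaf (219886, 0, 16, 86377) .leaf) (219887, 0, 13, 79072) (.node .leaf (219888, 0, 14, 154220) .leaf)))) (219889, 0, 17, 834) (.node (.node (.node (.node .leaf (219892, 0, 15, 55662) .leaf) (219893, 0, 15, 162911) (.node .leaf (219896, 0, 18, 181717) .leaf)) (219897, 0, 15, 140723) (.node (.node .leaf (219900, 0, 18, 53229) .leaf) (219901, 0, 14, 169667) (.node .leaf (219904, 0, 16, 155280) .leaf))) (219905, 0, 15, 1982) (.node (.node (.node .leaf (219908, 0, 16, 259382) .leaf) (219909, 0, 14, 202064)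 (.node .leaf (219912, 0, 15, 177164) .leaf)) (219913, 0, 17, 68075) (.node (.node .leaf (219916, 0, 16, 118958) .leaf) (219917, 0, 16, 78024) (.node .leaf (219922, 0, 16, 58469) .leaf))))) (219923, 0, 17, 104762) (.node (.node (.node (.node (.node .leaf (219926, 0, 18, 114441) .leaf) (219927, 0, 17, 15648) (.node .leaf (219930, 0, 14, 180733) .leaf)) (219931, 0, 17, 139675) (.node (.node .leaf (219934, 0, 16, 87445) .leaf) (219935, 0, 17, 137400) (.node .leaf (219936, 0, 16, 205722) .leaf))) (219937, 0, 16, 96948) (.node (.node (.node .leaf (219940, 0, 16, 65219) .leaf) (219941, 0, 15, 198057) (.node .leaf (219944, 0, 17, 248070) .leaf)) (219945, 0, 15, 102440) (.node (.node .leaf (219948, 0, 12, 112155) .leaf) (219949, 0, 15, 146237) (.node .leaf (219954, 0, 15, 257936) .leaf)))) (219955, 0, 14, 58416) (.node (.node (.node (.node .leaf (219958, 0, 15, 251571) .leaf) (219959, 0, 15, 210645) (.node .leaf (219962, 0, 17, 153474) .leaf)) (219963, 0, 19, 3756) (.node (.node .leaf (219966, 0, 17, 127787) .leaf) (219967, 0, 15, 160177)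 (.node .leaf (219970, 0, 12, 126568) .leaf))) (219971, 0, 17, 243526) (.node (.node (.node .leaf (219974, 0, 15, 233845) .leaf) (219975, 0, 12, 116827) (.node .leaf (219978, 0, 15, 66804) .leaf)) (219979, 0, 15, 220634) (.node (.node .leaf (219982, 0, 14, 228329) .leaf) (219983, 0, 16, 74439) (.node .leaf (219984, 0, 17, 188102) .leaf))))))

/-- part of the orbit tree -/
def itp6_363 : Tree := (.node (.node (.node (.node (.node (.node .leaf (219988, 0, 14, 190437) .leaf) (219989, 0, 15, 132995) (.node .leaf (219992, 0, 17, 39536) .leaf)) (219993, 0, 14, 6968) (.node (.node .leaf (219996, 0, 12, 189805) .leaf) (219997, 0, 18, 48195) (.node .leaf (220002, 0, 16, 37730) .leaf))) (220003, 0, 17, 138533) (.node (.node (.node .leaf (220006, 0, 14, 191615) .leaf) (220007, 0, 16, 46417) (.node .leaf (220010, 0, 15, 31230) .leaf)) (220011, 0, 17, 14525) (.node (.node .leaf (220014, 0, 15, 57848) .leaf) (220015, 0, 16, 24525) (.node .leaf (220016, 0, 16, 69094) .leaf)))) (220017, 0, 13, 79189) (.node (.node (.node (.node .leaf (220020,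 0, 17, 226043) .leaf) (220021, 0, 14, 76757) (.node .leaf (220024, 0, 17, 124794) .leaf)) (220025, 0, 17, 200909) (.node (.node .leaf (220028, 0, 10, 235623) .leaf) (220029, 0, 17, 207342) (.node .leaf (220032, 0, 17, 88863) .leaf))) (220033, 0, 15, 113529) (.node (.node (.node .leaf (220036, 0, 17, 233956) .leaf) (220037, 0, 12, 98906) (.node .leaf (220040, 0, 13, 228999) .leaf)) (220041, 0, 17, 237281) (.node (.node .leaf (220044, 0, 17, 214948) .leaf) (220045, 0, 12, 239554) (.node .leaf (220050, 0, 18, 28797) .leaf))))) (220051, 0, 17, 168713) (.node (.node (.node (.node (.node .leaf (220054, 0, 14, 135008) .leaf) (220055, 0, 17, 174634) (.node .leaf (220058, 0, 17, 22263) .leaf)) (220059, 0, 15, 181199) (.node (.node .leaf (220062, 0, 16, 28628) .leaf) (220063, 0, 15, 48338) (.node .leaf (220064, 0, 14, 151786) .leaf))) (220065, 0, 14, 176268) (.node (.node (.node .leaf (220068, 0, 15, 158153) .leaf) (220069, 0, 17, 46528) (.node .leaf (220072, 0, 17, 31087) .leaf)) (220073, 0, 14, 38164) (.node (.node .leaf (220076, 0,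 16, 132722) .leaf) (220077, 0, 18, 44087) (.node .leaf (220082, 0, 16, 96410) .leaf)))) (220083, 0, 18, 104700) (.node (.node (.node (.node .leaf (220086, 0, 16, 225898) .leaf) (220087, 0, 15, 106975) (.node .leaf (220090, 0, 13, 124907) .leaf)) (220091, 0, 15, 245092) (.node (.node .leaf (220094, 0, 19, 222241) .leaf) (220095, 0, 17, 230471) (.node .leaf (220098, 0, 17, 221628) .leaf))) (220099, 0, 16, 229850) (.node (.node (.node .leaf (220102, 0, 16, 8476) .leaf) (220103, 0, 16, 243961) (.node .leaf (220106, 0, 14, 177309) .leaf)) (220107, 0, 18, 60851) (.node (.node .leaf (220110, 0, 18, 97543) .leaf) (220111, 0, 16, 168622) (.node .leaf (220112, 0, 16, 245893) .leaf))))))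

/-- part of the orbit tree -/
def itp6_364 : Tree := (.node (.node (.node (.node (.node (.node .leaf (220116, 0, 16, 114584) .leaf) (220117, 0, 19, 255670) (.node .leaf (220120, 0, 17, 158804) .leaf)) (220121, 0, 16, 95031) (.node (.node .leaf (220124, 0, 15, 152951) .leaf) (220125, 0, 15, 177425) (.node .leaf (220130, 0, 18, 27209) .leaf))) (220131, 0, 17, 96805) (.node (.node (.node .leaf (220134, 0, 16, 89110) .leaf) (220135, 0, 15, 45836) (.node .leaf (220138, 0, 16, 151505) .leaf)) (220139, 0, 15, 102585) (.node (.node .leaf (220142, 0, 15, 112266) .leaf) (220143, 0, 19, 257956) (.node .leaf (220144, 0, 18, 213561) .leaf)))) (220145, 0, 18, 238175) (.node (.node (.node (.node .leaf (220148, 0, 16, 228122) .leaf) (220149, 0, 16, 236412) (.node .leaf (220152, 0, 13, 92065) .leaf)) (220153, 0, 13, 100295) (.node (.node .leaf (220156, 0, 17, 10254) .leaf) (220157, 0, 11, 160032) (.node .leaf (220160, 0, 17, 111019) .leaf))) (220162, 0, 17, 2204) (.node (.node (.node .leaf (220164, 0, 16, 249526) .leaf) (220166, 0, 15, 9924)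 (.node .leaf (220168, 0, 15, 88887) .leaf)) (220170, 0, 10, 176965) (.node (.node .leaf (220172, 0, 15, 214018) .leaf) (220174, 0, 16, 136231) (.node .leaf (220177, 0, 18, 245898) .leaf))))) (220179, 0, 18, 161281) (.node (.node (.node (.node (.node .leaf (220181, 0, 17, 260521) .leaf) (220183, 0, 15, 174476) (.node .leaf (220185, 0, 17, 124178) .leaf)) (220187, 0, 18, 171165) (.node (.node .leaf (220189, 0, 15, 199666) .leaf) (220191, 0, 10, 35860) (.node .leaf (220192, 0, 16, 52385) .leaf))) (220194, 0, 15, 197481) (.node (.node (.node .leaf (220196, 0, 9, 177084) .leaf) (220198, 0, 15, 211530) (.node .leaf (220200, 0, 19, 9789) .leaf)) (220202, 0, 17, 249423) (.node (.node .leaf (220204, 0, 18, 153888) .leaf) (220206, 0, 17, 73682) (.node .leaf (220209, 0, 13, 52095) .leaf)))) (220211, 0, 17, 199435) (.node (.node (.node (.node .leaf (220213, 0, 13, 171108) .leaf) (220215, 0, 16, 107129) (.node .leaf (220217, 0, 16, 2533) .leaf)) (220219, 0, 16, 245442) (.node (.node .leaf (220221, 0, 15, 161528) .leaf) (220223, 0, 17, 231393)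 (.node .leaf (220225, 0, 16, 184921) .leaf))) (220227, 0, 17, 22653) (.node (.node (.node .leaf (220229, 0, 16, 191354) .leaf) (220231, 0, 16, 141152) (.node .leaf (220233, 0, 17, 63425) .leaf)) (220235, 0, 15, 108516) (.node (.node .leaf (220237, 0, 15, 52962) .leaf) (220239, 0, 17, 106183) (.node .leaf (220240, 0, 16, 19050) .leaf))))))

/-- part of the orbit tree -/
def itp6_365 : Tree := (.node itp6_361 (219857, 0, 15, 97864) itp6_362)

/-- part of the orbit tree -/
def itp6_366 : Tree := (.node itp6_363 (220113, 0, 13, 104875) itp6_364)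

/-- part of the orbit tree -/
def itp6_367 : Tree := (.node (.node (.node (.node (.node (.node .leaf (220244, 0, 15, 123082) .leaf) (220246, 0, 12, 74604) (.node .leaf (220248, 0, 16, 159730) .leaf)) (220250, 0, 17, 40249) (.node (.node .leaf (220252, 0, 16, 68182) .leaf) (220254, 0, 16, 188964) (.node .leaf (220257, 0, 19, 121260) .leaf))) (220259, 0, 16, 75127) (.node (.node (.node .leaf (220261, 0, 16, 45592) .leaf) (220263, 0, 16, 219754) (.node .leaf (220265, 0, 17, 261172) .leaf)) (220267, 0, 15, 118763) (.node (.node .leaf (220269, 0, 16, 22660) .leaf) (220271, 0, 15, 241910) (.node .leaf (220272, 0, 17, 213407) .leaf)))) (220274, 0, 17, 68271) (.node (.node (.node (.node .leaf (220276, 0, 13, 40384) .leaf) (220278, 0, 15, 226738) (.node .leaf (220280, 0, 12, 91143) .leaf)) (220282, 0, 16, 122931) (.node (.node .leaf (220284, 0, 17, 30556) .leaf) (220286, 0, 15, 237358) (.node .leaf (220288, 0, 18, 131522) .leaf))) (220290, 0, 16, 125360) (.node (.node (.node .leaf (220292, 0, 16, 259728) .leaf) (220294, 0, 17, 235181)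 (.node .leaf (220296, 0, 14, 191326) .leaf)) (220298, 0, 16, 47630) (.node (.node .leaf (220300, 0, 18, 37955) .leaf) (220302, 0, 15, 228401) (.node .leaf (220305, 0, 17, 87936) .leaf))))) (220307, 0, 17, 116328) (.node (.node (.node (.node (.node .leaf (220309, 0, 16, 93859) .leaf) (220311, 0, 17, 16006) (.node .leaf (220313, 0, 15, 225816) .leaf)) (220315, 0, 17, 77044) (.node (.node .leaf (220317, 0, 16, 215867) .leaf) (220319, 0, 16, 138014) (.node .leaf (220320, 0, 18, 50246) .leaf))) (220322, 0, 15, 38074) (.node (.node (.node .leaf (220324, 0, 17, 64869) .leaf) (220326, 0, 14, 191399) (.node .leaf (220328, 0, 17, 235092) .leaf)) (220330, 0, 16, 32294) (.node (.node .leaf (220332, 0, 17, 186621) .leaf) (220334, 0, 14, 131387) (.node .leaf (220337, 0, 18, 154741) .leaf)))) (220339, 0, 15, 47970) (.node (.node (.node (.node .leaf (220341, 0, 17, 157014) .leaf) (220343, 0, 16, 181375) (.node .leaf (220345, 0, 15, 244108) .leaf)) (220347, 0, 14, 20990) (.node (.node .leaf (220349, 0, 14, 16590) .leaf) (220351, 0, 16, 69867)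 (.node .leaf (220353, 0, 15, 17747) .leaf))) (220355, 0, 16, 71030) (.node (.node (.node .leaf (220357, 0, 14, 163707) .leaf) (220359, 0, 14, 76885) (.node .leaf (220361, 0, 15, 155851) .leaf)) (220363, 0, 16, 197256) (.node (.node .leaf (220365, 0, 17, 169447) .leaf) (220367, 0, 17, 199117) (.node .leaf (220368, 0, 18, 12222) .leaf))))))

/-- part of the orbit tree -/
def itp6_368 : Tree := (.node (.node (.node (.node (.node (.node .leaf (220372, 0, 15, 151715) .leaf) (220374, 0, 13, 112849) (.node .leaf (220376, 0, 13, 50466) .leaf)) (220378, 0, 14, 208208) (.node (.node .leaf (220380, 0, 16, 178751) .leaf) (220382, 0, 16, 86605) (.node .leaf (220385, 0, 16, 216742) .leaf))) (220387, 0, 17, 169246) (.node (.node (.node .leaf (220389, 0, 17, 227205) .leaf) (220391, 0, 15, 59907) (.node .leaf (220393, 0, 17, 104432) .leaf)) (220395, 0, 13, 15131) (.node (.node .leaf (220397, 0, 13, 86557) .leaf) (220399, 0, 18, 568) (.node .leaf (220400, 0, 16, 86708) .leaf)))) (220402, 0, 15, 178886) (.node (.node (.node (.node .leaf (220404,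 0, 14, 208297) .leaf) (220406, 0, 12, 50651) (.node .leaf (220408, 0, 14, 112680) .leaf)) (220410, 0, 17, 151642) (.node (.node .leaf (220412, 0, 17, 247605) .leaf) (220414, 0, 16, 12103) (.node .leaf (220416, 0, 15, 87624) .leaf))) (220418, 0, 13, 179770) (.node (.node (.node .leaf (220420, 0, 14, 207189) .leaf) (220422, 0, 12, 49447) (.node .leaf (220424, 0, 18, 57173) .leaf)) (220426, 0, 17, 102256) (.node (.node .leaf (220428, 0, 16, 58998) .leaf) (220430, 0, 16, 112211) (.node .leaf (220433, 0, 16, 96656) .leaf))))) (220435, 0, 16, 168418) (.node (.node (.node (.node (.node .leaf (220437, 0, 16, 23517) .leaf) (220439, 0, 17, 68600) (.node .leaf (220441, 0, 15, 149350) .leaf)) (220443, 0, 17, 162686) (.node (.node .leaf (220445, 0, 16, 163397) .leaf) (220447, 0, 17, 1123) (.node .leaf (220448, 0, 14, 11074) .leaf))) (220450, 0, 16, 41245) (.node (.node (.node .leaf (220452, 0, 15, 116763) .leaf) (220454, 0, 17, 113709) (.node .leaf (220456, 0, 17, 49630) .leaf)) (220458, 0, 17, 164997) (.node (.node .leaf (220460, 0, 17,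 257411) .leaf) (220462, 0, 14, 179622) (.node .leaf (220465, 0, 18, 223499) .leaf)))) (220467, 0, 15, 257256) (.node (.node (.node (.node .leaf (220469, 0, 14, 217128) .leaf) (220471, 0, 15, 103413) (.node .leaf (220473, 0, 16, 85139) .leaf)) (220475, 0, 16, 198260) (.node (.node .leaf (220477, 0, 16, 168219) .leaf) (220479, 0, 11, 9621) (.node .leaf (220481, 0, 16, 219116) .leaf))) (220483, 0, 18, 49054) (.node (.node (.node .leaf (220485, 0, 14, 84238) .leaf) (220487, 0, 18, 180355) (.node .leaf (220489, 0, 15, 218549) .leaf)) (220491, 0, 16, 21762) (.node (.node .leaf (220493, 0, 16, 224406) .leaf) (220495, 0, 16, 141855) (.node .leaf (220496, 0, 15, 256030) .leaf))))))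

/-- part of the orbit tree -/
def itp6_369 : Tree := (.node (.node (.node (.node (.node (.node .leaf (220500, 0, 16, 250173) .leaf) (220502, 0, 16, 192347) (.node .leaf (220504, 0, 16, 118150) .leaf)) (220506, 0, 16, 40355) (.node (.node .leaf (220508, 0, 16, 128165) .leaf) (220510, 0, 14, 132551) (.node .leaf (220513, 0, 14, 142054) .leaf))) (220515, 0, 14, 115348) (.node (.node (.node .leaf (220517, 0, 17, 148219) .leaf) (220519, 0, 17, 245129) (.node .leaf (220521, 0, 17, 24128) .leaf)) (220523, 0, 18, 69221) (.node (.node .leaf (220525, 0, 12, 48999) .leaf) (220527, 0, 16, 218901) (.node .leaf (220528, 0, 17, 58347) .leaf)))) (220530, 0, 17, 111566) (.node (.node (.node (.node .leaf (220532, 0, 15, 56008) .leaf) (220534, 0, 18, 234065) (.node .leaf (220536, 0, 16, 192418) .leaf)) (220538, 0, 15, 235094) (.node (.node .leaf (220540, 0, 18, 37055) .leaf) (220542, 0, 15, 241525) (.node .leaf (220544, 0, 16, 28103) .leaf))) (220546, 0, 16, 69203) (.node (.node (.node .leaf (220548, 0, 17, 39228) .leaf) (220550, 0, 16, 66753)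 (.node .leaf (220552, 0, 16, 149599) .leaf)) (220554, 0, 16, 124111) (.node (.node .leaf (220556, 0, 14, 160124) .leaf) (220558, 0, 17, 236498) (.node .leaf (220561, 0, 15, 194036) .leaf))))) (220563, 0, 14, 74123) (.node (.node (.node (.node (.node .leaf (220565, 0, 16, 46820) .leaf) (220567, 0, 10, 220822) (.node .leaf (220569, 0, 18, 53356) .leaf)) (220571, 0, 16, 117527) (.node (.node .leaf (220573, 0, 12, 23672) .leaf) (220575, 0, 14, 113002) (.node .leaf (220576, 0, 16, 236331) .leaf))) (220578, 0, 14, 29529) (.node (.node (.node .leaf (220580, 0, 18, 123958) .leaf) (220582, 0, 13, 134212) (.node .leaf (220584, 0, 14, 225719) .leaf)) (220586, 0, 17, 5007) (.node (.node .leaf (220588, 0, 16, 96905) .leaf) (220590, 0, 18, 190168) (.node .leaf (220593, 0, 18, 242931) .leaf)))) (220595, 0, 18, 44580) (.node (.node (.node (.node .leaf (220597, 0, 18, 117742) .leaf) (220599, 0, 18, 38663) (.node .leaf (220601, 0, 16, 252825) .leaf)) (220603, 0, 18, 46621) (.node (.node .leaf (220605, 0, 12, 254650) .leaf) (220607, 0, 17, 176799)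 (.node .leaf (220609, 0, 19, 59269) .leaf))) (220611, 0, 14, 200695) (.node (.node (.node .leaf (220613, 0, 18, 253444) .leaf) (220615, 0, 16, 167457) (.node .leaf (220617, 0, 14, 3353) .leaf)) (220619, 0, 18, 37530) (.node (.node .leaf (220621, 0, 17, 160260) .leaf) (220623, 0, 16, 105078) (.node .leaf (220624, 0, 15, 51293) .leaf))))))

/-- part of the orbit tree -/
def itp6_370 : Tree := (.node (.node (.node (.node (.node (.node .leaf (220628, 0, 18, 83511) .leaf) (220630, 0, 17, 5650) (.node .leaf (220632, 0, 13, 8897) .leaf)) (220634, 0, 14, 248499) (.node (.node .leaf (220636, 0, 18, 222127) .leaf) (220638, 0, 17, 144266) (.node .leaf (220641, 0, 17, 105103) .leaf))) (220643, 0, 17, 113911) (.node (.node (.node .leaf (220645, 0, 14, 255378) .leaf) (220647, 0, 15, 99796) (.node .leaf (220649, 0, 16, 94227) .leaf)) (220651, 0, 16, 170081) (.node (.node .leaf (220653, 0, 17, 192617) .leaf) (220655, 0, 12, 237644) (.node .leaf (220656, 0, 12, 111959) .leaf)))) (220658, 0, 16, 206020) (.node (.node (.node (.node .leaf (220660,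 0, 17, 248394) .leaf) (220662, 0, 17, 8760) (.node .leaf (220664, 0, 14, 20857) .leaf)) (220666, 0, 12, 178105) (.node (.node .leaf (220668, 0, 17, 26714) .leaf) (220670, 0, 15, 79999) (.node .leaf (220688, 0, 13, 246385) .leaf))) (220689, 0, 13, 105311) (.node (.node (.node .leaf (220690, 0, 17, 154809) .leaf) (220691, 0, 12, 160557) (.node .leaf (220692, 0, 13, 210367) .leaf)) (220693, 0, 11, 255042) (.node (.node .leaf (220694, 0, 18, 152862) .leaf) (220695, 0, 17, 165372) (.node .leaf (220696, 0, 16, 207085) .leaf))))) (220697, 0, 16, 94659) (.node (.node (.node (.node (.node .leaf (220698, 0, 15, 31009) .leaf) (220699, 0, 17, 170417) (.node .leaf (220700, 0, 17, 69671) .leaf)) (220701, 0, 16, 200414) (.node (.node .leaf (220702, 0, 18, 16386) .leaf) (220703, 0, 15, 59052) (.node .leaf (220720, 0, 13, 1897) .leaf))) (220721, 0, 12, 58965) (.node (.node (.node .leaf (220722, 0, 15, 87817) .leaf) (220723, 0, 17, 112426) (.node .leaf (220724, 0, 17, 15946) .leaf)) (220725, 0, 11, 56876) (.node (.node .leaf (220726, 0, 15,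 93807) .leaf) (220727, 0, 15, 94522) (.node .leaf (220728, 0, 18, 140017) .leaf)))) (220729, 0, 13, 180887) (.node (.node (.node (.node .leaf (220730, 0, 18, 114069) .leaf) (220731, 0, 13, 234162) (.node .leaf (220732, 0, 16, 11002) .leaf)) (220733, 0, 19, 195508) (.node (.node .leaf (220734, 0, 15, 246408) .leaf) (220735, 0, 19, 240529) (.node .leaf (220736, 0, 15, 125965) .leaf))) (220737, 0, 15, 242979) (.node (.node (.node .leaf (220738, 0, 17, 132223) .leaf) (220739, 0, 17, 23889) (.node .leaf (220740, 0, 16, 141164) .leaf)) (220741, 0, 17, 117310) (.node (.node .leaf (220742, 0, 14, 227145) .leaf) (220743, 0, 16, 139852) .leaf)))))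

/-- part of the orbit tree -/
def itp6_371 : Tree := (.node itp6_367 (220370, 0, 16, 247756) itp6_368)

/-- part of the orbit tree -/
def itp6_372 : Tree := (.node itp6_369 (220626, 0, 16, 204847) itp6_370)

/-- part of the orbit tree -/
def itp6_373 : Tree := (.node itp6_365 (219985, 0, 14, 141762) itp6_366)

/-- part of the orbit tree -/
def itp6_374 : Tree := (.node itp6_371 (220498, 0, 17, 178235) itp6_372)

/-- part of the orbit tree -/
def itp6_375 : Tree := (.node itp6_359 (219221, 0, 16, 46096) itp6_360)

/-- part of the orbit tree -/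
def itp6_376 : Tree := (.node itp6_373 (220242, 0, 16, 72271) itp6_374)

/-- part of the orbit tree -/
def itp6_377 : Tree := (.node itp6_345 (217685, 0, 15, 252907) itp6_346)

/-- part of the orbit tree -/
def itp6_378 : Tree := (.node itp6_375 (219729, 0, 17, 105684) itp6_376)

/-- part of the orbit tree -/
def itp6_379 : Tree := (.node itp6_315 (214618, 0, 18, 69471) itp6_316)

/-- part of the orbit tree -/
def itp6_380 : Tree := (.node itp6_377 (218706, 0, 12, 14262) itp6_378)

/-- part of the orbit tree -/
def itp6_381 : Tree := (.node (.node (.node (.node (.node (.node .leaf (220745, 0, 14, 56241) .leaf) (220746, 0, 17, 93170) (.node .leaf (220747, 0, 16, 101268) .leaf)) (220748, 0, 17, 227724) (.node (.node .leaf (220749, 0, 18, 73890) .leaf) (220750, 0, 16, 86737) (.node .leaf (220751, 0, 18, 111287) .leaf))) (220768, 0, 16, 37127) (.node (.node (.node .leaf (220769, 0, 15, 128476) .leaf) (220770, 0, 18, 17823) (.node .leaf (220771, 0, 15, 73819) .leaf)) (220772, 0, 17, 76953) (.node (.node .leaf (220773, 0, 15, 46900)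 .leaf) (220774, 0, 15, 31932) (.node .leaf (220775, 0, 16, 40154) .leaf)))) (220776, 0, 17, 31643) (.node (.node (.node (.node .leaf (220777, 0, 13, 139957) .leaf) (220778, 0, 14, 234473) (.node .leaf (220779, 0, 16, 163937) .leaf)) (220780, 0, 13, 198913) (.node (.node .leaf (220781, 0, 17, 256359) .leaf) (220782, 0, 18, 153892) (.node .leaf (220783, 0, 18, 243162) .leaf))) (220816, 0, 18, 105366) (.node (.node (.node .leaf (220817, 0, 18, 142134) .leaf) (220818, 0, 16, 52147) (.node .leaf (220819, 0, 15, 11221) .leaf)) (220820, 0, 14, 107189) (.node (.node .leaf (220821, 0, 11, 82643) .leaf) (220822, 0, 9, 124279) (.node .leaf (220823, 0, 18, 244825) .leaf))))) (220824, 0, 18, 39044) (.node (.node (.node (.node (.node .leaf (220825, 0, 18, 220776) .leaf) (220826, 0, 16, 192043) (.node .leaf (220827, 0, 14, 76248) .leaf)) (220828, 0, 15, 190361) (.node (.node .leaf (220829, 0, 12, 223051) .leaf) (220830, 0, 18, 69611) (.node .leaf (220831, 0, 16, 218821) .leaf))) (220848, 0, 14, 168035) (.node (.node (.node .leaf (220849,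 0, 15, 159749) .leaf) (220850, 0, 13, 245830) (.node .leaf (220851, 0, 17, 48718) .leaf)) (220852, 0, 10, 174400) (.node (.node .leaf (220853, 0, 17, 149798) .leaf) (220854, 0, 17, 260453) (.node .leaf (220855, 0, 18, 203011) .leaf)))) (220856, 0, 16, 124302) (.node (.node (.node (.node .leaf (220857, 0, 12, 244896) .leaf) (220858, 0, 16, 124382) (.node .leaf (220859, 0, 14, 21714) .leaf)) (220860, 0, 17, 36056) (.node (.node .leaf (220861, 0, 14, 115645) .leaf) (220862, 0, 16, 29409) (.node .leaf (220863, 0, 15, 81051) .leaf))) (220864, 0, 17, 154724) (.node (.node (.node .leaf (220865, 0, 17, 1354) .leaf) (220866, 0, 17, 121184) (.node .leaf (220867, 0, 13, 257336) .leaf)) (220868, 0, 16, 45158) (.node (.node .leaf (220869, 0, 18, 20480) .leaf) (220870, 0, 15, 248587) (.node .leaf (220871, 0, 14, 65573) .leaf))))))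

/-- part of the orbit tree -/
def itp6_382 : Tree := (.node (.node (.node (.node (.node (.node .leaf (220873, 0, 14, 150715) .leaf) (220874, 0, 18, 261368) (.node .leaf (220875, 0, 15, 203934) .leaf)) (220876, 0, 16, 169470) (.node (.node .leaf (220877, 0, 14, 161176) .leaf) (220878, 0, 17, 247259) (.node .leaf (220879, 0, 16, 206269) .leaf))) (220896, 0, 18, 205166) (.node (.node (.node .leaf (220897, 0, 17, 221910) .leaf) (220898, 0, 16, 184981) (.node .leaf (220899, 0, 15, 167986) .leaf)) (220900, 0, 14, 89715) (.node (.node .leaf (220901, 0, 17, 220149) .leaf) (220902, 0, 12, 191414) (.node .leaf (220903, 0, 14, 61231) .leaf)))) (220904, 0, 17, 108328) (.node (.node (.node (.node .leaf (220905, 0, 14, 83790) .leaf) (220906, 0, 16, 9088) (.node .leaf (220907, 0, 16, 5995) .leaf)) (220908, 0, 14, 105995) (.node (.node .leaf (220909, 0, 18, 97901) .leaf) (220910, 0, 14, 154781) (.node .leaf (220911, 0, 16, 11848) .leaf))) (220944, 0, 15, 44776) (.node (.node (.node .leaf (220945, 0, 17, 97468) .leaf) (220946, 0, 16, 52704)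 (.node .leaf (220947, 0, 15, 73387) .leaf)) (220948, 0, 14, 88719) (.node (.node .leaf (220949, 0, 16, 197537) .leaf) (220950, 0, 16, 116718) (.node .leaf (220951, 0, 15, 60371) .leaf))))) (220952, 0, 13, 249614) (.node (.node (.node (.node (.node .leaf (220953, 0, 18, 103968) .leaf) (220954, 0, 14, 10108) (.node .leaf (220955, 0, 16, 211763) .leaf)) (220956, 0, 14, 176723) (.node (.node .leaf (220957, 0, 18, 152117) .leaf) (220958, 0, 14, 153697) (.node .leaf (220959, 0, 17, 197136) .leaf))) (220976, 0, 16, 238877) (.node (.node (.node .leaf (220977, 0, 17, 438) .leaf) (220978, 0, 17, 193848) (.node .leaf (220979, 0, 16, 256452) .leaf)) (220980, 0, 16, 236606) (.node (.node .leaf (220981, 0, 16, 163499) .leaf) (220982, 0, 18, 249847) (.node .leaf (220983, 0, 16, 104153) .leaf)))) (220984, 0, 15, 98437) (.node (.node (.node (.node .leaf (220985, 0, 16, 60202) .leaf) (220986, 0, 16, 53408) (.node .leaf (220987, 0, 16, 12486) .leaf)) (220988, 0, 14, 52505) (.node (.node .leaf (220989, 0, 14, 169015) .leaf) (220990, 0, 15, 206187)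 (.node .leaf (220991, 0, 15, 97349) .leaf))) (220992, 0, 18, 68590) (.node (.node (.node .leaf (220993, 0, 15, 217792) .leaf) (220994, 0, 17, 60446) (.node .leaf (220995, 0, 15, 3192) .leaf)) (220996, 0, 14, 99608) (.node (.node .leaf (220997, 0, 16, 91518) .leaf) (220998, 0, 16, 40065) (.node .leaf (220999, 0, 14, 13659) .leaf))))))

/-- part of the orbit tree -/
def itp6_383 : Tree := (.node (.node (.node (.node (.node (.node .leaf (221001, 0, 16, 243804) .leaf) (221002, 0, 17, 133376) (.node .leaf (221003, 0, 16, 20526) .leaf)) (221004, 0, 17, 237167) (.node (.node .leaf (221005, 0, 15, 116545) .leaf) (221006, 0, 16, 30237) (.node .leaf (221007, 0, 16, 143155) .leaf))) (221024, 0, 18, 30436) (.node (.node (.node .leaf (221025, 0, 16, 153512) .leaf) (221026, 0, 17, 255979) (.node .leaf (221027, 0, 18, 116664) .leaf)) (221028, 0, 16, 133625) (.node (.node .leaf (221029, 0, 17, 20695) .leaf) (221030, 0, 13, 253640) (.node .leaf (221031, 0, 15, 212654) .leaf)))) (221032, 0, 16, 37462) (.node (.node (.node (.node .leaf (221033,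 0, 17, 181590) .leaf) (221034, 0, 13, 115315) (.node .leaf (221035, 0, 17, 74261) .leaf)) (221036, 0, 18, 43893) (.node (.node .leaf (221037, 0, 17, 47691) .leaf) (221038, 0, 19, 68375) (.node .leaf (221039, 0, 16, 217657) .leaf))) (221072, 0, 16, 38395) (.node (.node (.node .leaf (221073, 0, 15, 186756) .leaf) (221074, 0, 17, 223687) (.node .leaf (221075, 0, 17, 231841) .leaf)) (221076, 0, 18, 191206) (.node (.node .leaf (221077, 0, 14, 188583) .leaf) (221078, 0, 13, 217316) (.node .leaf (221079, 0, 14, 220090) .leaf))))) (221080, 0, 16, 7290) (.node (.node (.node (.node (.node .leaf (221081, 0, 13, 140873) .leaf) (221082, 0, 17, 235285) (.node .leaf (221083, 0, 15, 109625) .leaf)) (221084, 0, 13, 131194) (.node (.node .leaf (221085, 0, 17, 50495) .leaf) (221086, 0, 17, 124936) (.node .leaf (221087, 0, 18, 103706) .leaf))) (221104, 0, 14, 78359) (.node (.node (.node .leaf (221105, 0, 16, 119409) .leaf) (221106, 0, 14, 25138) (.node .leaf (221107, 0, 14, 22957) .leaf)) (221108, 0, 11, 235500) (.node (.node .leaf (221109, 0,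 14, 125778) .leaf) (221110, 0, 16, 32670) (.node .leaf (221111, 0, 17, 140976) .leaf)))) (221112, 0, 16, 202639) (.node (.node (.node (.node .leaf (221113, 0, 14, 260073) .leaf) (221114, 0, 15, 149418) (.node .leaf (221115, 0, 14, 174028) .leaf)) (221116, 0, 14, 208556) (.node (.node .leaf (221117, 0, 16, 74846) .leaf) (221118, 0, 14, 38146) (.node .leaf (221119, 0, 16, 183340) .leaf))) (221120, 0, 16, 179079) (.node (.node (.node .leaf (221121, 0, 16, 58025) .leaf) (221122, 0, 18, 162580) (.node .leaf (221123, 0, 15, 170866) .leaf)) (221124, 0, 14, 50330) (.node (.node .leaf (221125, 0, 13, 171444) .leaf) (221126, 0, 18, 148023) (.node .leaf (221127, 0, 15, 172625) .leaf))))))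

/-- part of the orbit tree -/
def itp6_384 : Tree := (.node (.node (.node (.node (.node (.node .leaf (221129, 0, 16, 126671) .leaf) (221130, 0, 13, 113001) (.node .leaf (221131, 0, 17, 254023) .leaf)) (221132, 0, 16, 79754) (.node (.node .leaf (221133, 0, 16, 120812) .leaf) (221134, 0, 14, 247412) (.node .leaf (221135, 0, 16, 106330) .leaf))) (221152, 0, 15, 247437) (.node (.node (.node .leaf (221153, 0, 12, 106403) .leaf) (221154, 0, 17, 94433) (.node .leaf (221155, 0, 17, 161745) .leaf)) (221156, 0, 18, 6631) (.node (.node .leaf (221157, 0, 17, 63873) .leaf) (221158, 0, 14, 152034) (.node .leaf (221159, 0, 16, 108964) .leaf)))) (221160, 0, 15, 132444) (.node (.node (.node (.node .leaf (221161, 0, 15, 189754) .leaf) (221162, 0, 16, 50275) (.node .leaf (221163, 0, 16, 171341) .leaf)) (221164, 0, 15, 146559) (.node (.node .leaf (221165, 0, 15, 199202) .leaf) (221166, 0, 16, 179070) (.node .leaf (221167, 0, 17, 57936) .leaf))) (221184, 0, 16, 45102) (.node (.node (.node .leaf (221187, 0, 14, 65906) .leaf) (221189, 0, 17, 74598)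 (.node .leaf (221190, 0, 15, 75585) .leaf)) (221193, 0, 16, 131996) (.node (.node .leaf (221194, 0, 16, 167838) .leaf) (221196, 0, 15, 255640) (.node .leaf (221199, 0, 13, 153307) .leaf))))) (221200, 0, 16, 230006) (.node (.node (.node (.node (.node .leaf (221203, 0, 14, 227204) .leaf) (221205, 0, 15, 219955) (.node .leaf (221206, 0, 18, 191344) .leaf)) (221209, 0, 13, 83848) (.node (.node .leaf (221210, 0, 16, 63435) .leaf) (221212, 0, 18, 106189) (.node .leaf (221215, 0, 15, 11918) .leaf))) (221216, 0, 17, 118052) (.node (.node (.node .leaf (221219, 0, 16, 213397) .leaf) (221221, 0, 14, 141459) (.node .leaf (221222, 0, 16, 23115) .leaf)) (221225, 0, 13, 229014) (.node (.node .leaf (221226, 0, 16, 184266) .leaf) (221228, 0, 17, 60781) (.node .leaf (221231, 0, 14, 190969) .leaf)))) (221232, 0, 16, 244690) (.node (.node (.node (.node .leaf (221235, 0, 15, 80320) .leaf) (221237, 0, 16, 237025) (.node .leaf (221238, 0, 17, 142525) .leaf)) (221241, 0, 17, 150653) (.node (.node .leaf (221242, 0, 17, 261182) .leaf) (221244, 0, 17,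 77395) (.node .leaf (221247, 0, 11, 40719) .leaf))) (221249, 0, 17, 159939) (.node (.node (.node .leaf (221250, 0, 16, 196822) .leaf) (221252, 0, 16, 169913) (.node .leaf (221255, 0, 15, 203205) .leaf)) (221256, 0, 18, 568) (.node (.node .leaf (221259, 0, 16, 111460) .leaf) (221261, 0, 16, 9227) (.node .leaf (221262, 0, 17, 103767) .leaf))))))

/-- part of the orbit tree -/
def itp6_385 : Tree := (.node itp6_381 (220872, 0, 18, 177912) itp6_382)

/-- part of the orbit tree -/
def itp6_386 : Tree := (.node itp6_383 (221128, 0, 18, 151835) itp6_384)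

/-- part of the orbit tree -/
def itp6_387 : Tree := (.node (.node (.node (.node (.node (.node .leaf (221266, 0, 17, 95776) .leaf) (221268, 0, 17, 53715) (.node .leaf (221271, 0, 13, 90512) .leaf)) (221272, 0, 16, 160974) (.node (.node .leaf (221275, 0, 15, 247186) .leaf) (221277, 0, 16, 136237) (.node .leaf (221278, 0, 15, 238702) .leaf))) (221281, 0, 17, 248960) (.node (.node (.node .leaf (221282, 0, 16, 163292) .leaf) (221284, 0, 17, 256691) (.node .leaf (221287, 0, 17, 4656) .leaf)) (221288, 0, 13, 98098) (.node (.node .leaf (221291, 0, 18, 52846) .leaf) (221293, 0, 11, 223117) (.node .leaf (221294, 0, 17, 186318) .leaf)))) (221297, 0, 18, 113270) (.node (.node (.node (.node .leaf (221298, 0, 18, 176928) .leaf) (221300, 0, 14, 252454) (.node .leaf (221303, 0, 16, 158309) .leaf)) (221304, 0, 14, 199108) (.node (.node .leaf (221307, 0, 13, 30430) .leaf) (221309, 0, 15, 208887) (.node .leaf (221310, 0, 17, 171691) .leaf))) (221312, 0, 17, 224553) (.node (.node (.node .leaf (221315, 0, 15, 176411) .leaf) (221317, 0, 16, 242796)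 (.node .leaf (221318, 0, 19, 169768) .leaf)) (221321, 0, 15, 108759) (.node (.node .leaf (221322, 0, 16, 681) .leaf) (221324, 0, 18, 103878) (.node .leaf (221327, 0, 15, 49617) .leaf))))) (221328, 0, 16, 71036) (.node (.node (.node (.node (.node .leaf (221331, 0, 16, 51181) .leaf) (221333, 0, 16, 86146) (.node .leaf (221334, 0, 15, 31866) .leaf)) (221337, 0, 17, 249986) (.node (.node .leaf (221338, 0, 14, 160863) .leaf) (221340, 0, 18, 254768) (.node .leaf (221343, 0, 17, 152172) .leaf))) (221344, 0, 14, 163149) (.node (.node (.node .leaf (221347, 0, 17, 248849) .leaf) (221349, 0, 17, 49049) (.node .leaf (221350, 0, 18, 69594) .leaf)) (221353, 0, 15, 172834) (.node (.node .leaf (221354, 0, 17, 201569) .leaf) (221356, 0, 15, 59596) (.node .leaf (221359, 0, 16, 248356) .leaf)))) (221360, 0, 18, 138889) (.node (.node (.node (.node .leaf (221363, 0, 17, 241354) .leaf) (221365, 0, 14, 11656) (.node .leaf (221366, 0, 16, 227215) .leaf)) (221369, 0, 16, 56183) (.node (.node .leaf (221370, 0, 18, 92980) .leaf) (221372, 0, 15, 562)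 (.node .leaf (221375, 0, 14, 208742) .leaf))) (221377, 0, 13, 66019) (.node (.node (.node .leaf (221378, 0, 17, 45247) .leaf) (221380, 0, 18, 16012) (.node .leaf (221383, 0, 16, 102095) .leaf)) (221384, 0, 16, 139831) (.node (.node .leaf (221387, 0, 16, 234100) .leaf) (221389, 0, 12, 195442) (.node .leaf (221390, 0, 15, 215857) .leaf))))))

/-- part of the orbit tree -/
def itp6_388 : Tree := (.node (.node (.node (.node (.node (.node .leaf (221394, 0, 15, 208863) .leaf) (221396, 0, 15, 217382) (.node .leaf (221399, 0, 12, 259738) .leaf)) (221400, 0, 15, 23138) (.node (.node .leaf (221403, 0, 16, 30203) .leaf) (221405, 0, 17, 33575) (.node .leaf (221406, 0, 9, 78692) .leaf))) (221409, 0, 16, 257084) (.node (.node (.node .leaf (221410, 0, 17, 118197) .leaf) (221412, 0, 15, 210297) (.node .leaf (221415, 0, 18, 165178) .leaf)) (221416, 0, 15, 184155) (.node (.node .leaf (221419, 0, 15, 228871) .leaf) (221421, 0, 19, 190824) (.node .leaf (221422, 0, 16, 219188) .leaf)))) (221425, 0, 15, 133663) (.node (.node (.node (.node .leaf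 (221426, 0, 16, 244547) .leaf) (221428, 0, 16, 142380) (.node .leaf (221431, 0, 14, 236912) .leaf)) (221432, 0, 15, 217495) (.node (.node .leaf (221435, 0, 16, 67825) .leaf) (221437, 0, 15, 40862) (.node .leaf (221438, 0, 15, 77506) .leaf))) (221440, 0, 14, 22477) (.node (.node (.node .leaf (221443, 0, 17, 124561) .leaf) (221445, 0, 18, 29182) (.node .leaf (221446, 0, 17, 209233) .leaf)) (221449, 0, 16, 40361) (.node (.node .leaf (221450, 0, 13, 77290) .leaf) (221452, 0, 17, 17644) (.node .leaf (221455, 0, 16, 226064) .leaf))))) (221456, 0, 15, 139579) (.node (.node (.node (.node (.node .leaf (221459, 0, 14, 233575) .leaf) (221461, 0, 12, 63815) (.node .leaf (221462, 0, 12, 243284) .leaf)) (221465, 0, 14, 37513) (.node (.node .leaf (221466, 0, 15, 218559) .leaf) (221468, 0, 17, 46266) (.node .leaf (221471, 0, 14, 67046) .leaf))) (221472, 0, 14, 76487) (.node (.node (.node .leaf (221475, 0, 18, 58337) .leaf) (221477, 0, 15, 101095) (.node .leaf (221478, 0, 16, 15012) .leaf)) (221481, 0, 16, 235100) (.node (.node .leaf (221482,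 0, 16, 140831) .leaf) (221484, 0, 17, 245574) (.node .leaf (221487, 0, 18, 134682) .leaf)))) (221488, 0, 14, 220209) (.node (.node (.node (.node .leaf (221491, 0, 15, 170932) .leaf) (221493, 0, 15, 258738) (.node .leaf (221494, 0, 12, 183134) .leaf)) (221497, 0, 18, 126851) (.node (.node .leaf (221498, 0, 16, 24287) .leaf) (221500, 0, 14, 117168) (.node .leaf (221503, 0, 14, 34575) .leaf))) (221505, 0, 14, 119479) (.node (.node (.node .leaf (221506, 0, 12, 255797) .leaf) (221508, 0, 15, 159834) (.node .leaf (221511, 0, 8, 246022) .leaf)) (221512, 0, 15, 58843) (.node (.node .leaf (221515, 0, 17, 173834) .leaf) (221517, 0, 14, 249356) (.node .leaf (221518, 0, 17, 163407) .leaf))))))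

/-- part of the orbit tree -/
def itp6_389 : Tree := (.node (.node (.node (.node (.node (.node .leaf (221522, 0, 14, 102851) .leaf) (221524, 0, 16, 1708) (.node .leaf (221527, 0, 14, 181220) .leaf)) (221528, 0, 15, 93980) (.node (.node .leaf (221531, 0, 15, 205425) .leaf) (221533, 0, 17, 112217) (.node .leaf (221534, 0, 15, 197698) .leaf))) (221537, 0, 17, 186690) (.node (.node (.node .leaf (221538, 0, 16, 170559) .leaf) (221540, 0, 16, 131079) (.node .leaf (221543, 0, 14, 241732) .leaf)) (221544, 0, 16, 104657) (.node (.node .leaf (221547, 0, 18, 109823) .leaf) (221549, 0, 15, 114402) (.node .leaf (221550, 0, 16, 4030) .leaf)))) (221553, 0, 17, 41239) (.node (.node (.node (.node .leaf (221554, 0, 15, 60617) .leaf) (221556, 0, 15, 30802) (.node .leaf (221559, 0, 16, 51962) .leaf)) (221560, 0, 15, 156905) (.node (.node .leaf (221563, 0, 15, 155515) .leaf) (221565, 0, 16, 179628) (.node .leaf (221566, 0, 18, 200175) .leaf))) (221568, 0, 17, 53085) (.node (.node (.node .leaf (221571, 0, 18, 153336) .leaf) (221573, 0, 15, 5656)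 (.node .leaf (221574, 0, 14, 159947) .leaf)) (221577, 0, 15, 87062) (.node (.node .leaf (221578, 0, 15, 58698) .leaf) (221580, 0, 17, 185318) (.node .leaf (221583, 0, 11, 222117) .leaf))))) (221584, 0, 17, 177928) (.node (.node (.node (.node (.node .leaf (221587, 0, 15, 198475) .leaf) (221589, 0, 14, 112481) (.node .leaf (221590, 0, 19, 253454) .leaf)) (221593, 0, 16, 29430) (.node (.node .leaf (221594, 0, 14, 115381) .leaf) (221596, 0, 14, 197843) (.node .leaf (221599, 0, 17, 72688) .leaf))) (221600, 0, 9, 170670) (.node (.node (.node .leaf (221603, 0, 14, 161003) .leaf) (221605, 0, 13, 179357) (.node .leaf (221606, 0, 17, 175534) .leaf)) (221609, 0, 16, 65878) (.node (.node .leaf (221610, 0, 17, 45333) .leaf) (221612, 0, 17, 3887) (.node .leaf (221615, 0, 15, 26704) .leaf)))) (221616, 0, 17, 60504) (.node (.node (.node (.node .leaf (221619, 0, 16, 89348) .leaf) (221621, 0, 15, 91576) (.node .leaf (221622, 0, 17, 97079) .leaf)) (221625, 0, 14, 227587) (.node (.node .leaf (221626, 0, 17, 257718) .leaf) (221628, 0, 16, 237638)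 (.node .leaf (221631, 0, 17, 247941) .leaf))) (221633, 0, 18, 214461) (.node (.node (.node .leaf (221634, 0, 18, 22364) .leaf) (221636, 0, 14, 114739) (.node .leaf (221639, 0, 17, 29039) .leaf)) (221640, 0, 15, 218546) (.node (.node .leaf (221643, 0, 16, 189678) .leaf) (221645, 0, 17, 88326) (.node .leaf (221646, 0, 11, 180957) .leaf))))))

/-- part of the orbit tree -/
def itp6_390 : Tree := (.node (.node (.node (.node (.node (.node .leaf (221650, 0, 16, 36267) .leaf) (221652, 0, 14, 124077) (.node .leaf (221655, 0, 16, 133017) .leaf)) (221656, 0, 16, 74564) (.node (.node .leaf (221659, 0, 18, 37400) .leaf) (221661, 0, 15, 205139) (.node .leaf (221662, 0, 14, 46123) .leaf))) (221665, 0, 16, 39690) (.node (.node (.node .leaf (221666, 0, 15, 130571) .leaf) (221668, 0, 13, 38669) (.node .leaf (221671, 0, 18, 68709) .leaf)) (221672, 0, 17, 141496) (.node (.node .leaf (221675, 0, 15, 236004) .leaf) (221677, 0, 17, 152307) (.node .leaf (221678, 0, 17, 254640) .leaf)))) (221681, 0, 13, 191996) (.node (.node (.node (.node .leaf (221682,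 0, 15, 231006) .leaf) (221684, 0, 16, 183247) (.node .leaf (221687, 0, 16, 227987) .leaf)) (221688, 0, 16, 62435) (.node (.node .leaf (221691, 0, 15, 82848) .leaf) (221693, 0, 16, 10918) (.node .leaf (221694, 0, 15, 105189) .leaf))) (221698, 0, 18, 220528) (.node (.node (.node .leaf (221699, 0, 15, 66654) .leaf) (221700, 0, 15, 126832) (.node .leaf (221701, 0, 8, 37681) .leaf)) (221704, 0, 16, 24478) (.node (.node .leaf (221705, 0, 18, 201645) .leaf) (221710, 0, 16, 170701) (.node .leaf (221711, 0, 16, 162475) .leaf))))) (221714, 0, 17, 76678) (.node (.node (.node (.node (.node .leaf (221715, 0, 19, 225960) .leaf) (221716, 0, 15, 235301) (.node .leaf (221717, 0, 13, 227139) .leaf)) (221720, 0, 15, 101278) (.node (.node .leaf (221721, 0, 15, 93176) .leaf) (221726, 0, 17, 58008) (.node .leaf (221727, 0, 17, 766) .leaf))) (221730, 0, 15, 139386) (.node (.node (.node .leaf (221731, 0, 10, 224741) .leaf) (221732, 0, 14, 189573) (.node .leaf (221733, 0, 15, 126523) .leaf)) (221736, 0, 13, 74388) (.node (.node .leaf (221737, 0, 13,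 228282) .leaf) (221742, 0, 17, 46587) (.node .leaf (221743, 0, 15, 94558) .leaf)))) (221746, 0, 17, 128470) (.node (.node (.node (.node .leaf (221747, 0, 17, 135074) .leaf) (221748, 0, 15, 115171) (.node .leaf (221749, 0, 15, 31926) .leaf)) (221752, 0, 16, 218210) (.node (.node .leaf (221753, 0, 15, 155661) .leaf) (221758, 0, 18, 256365) (.node .leaf (221759, 0, 17, 39459) .leaf))) (221760, 0, 16, 60808) (.node (.node (.node .leaf (221761, 0, 17, 154803) .leaf) (221766, 0, 13, 96999) (.node .leaf (221767, 0, 16, 210357) .leaf)) (221770, 0, 16, 117096) (.node (.node .leaf (221771, 0, 16, 112200) .leaf) (221772, 0, 18, 41070) .leaf)))))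

/-- part of the orbit tree -/
def itp6_391 : Tree := (.node itp6_387 (221393, 0, 17, 171932) itp6_388)

/-- part of the orbit tree -/
def itp6_392 : Tree := (.node itp6_389 (221649, 0, 16, 81384) itp6_390)

/-- part of the orbit tree -/
def itp6_393 : Tree := (.node itp6_385 (221000, 0, 18, 235939) itp6_386)

/-- part of the orbit tree -/
def itp6_394 : Tree := (.node itp6_391 (221521, 0, 12, 8351) itp6_392)

/-- part of the orbit tree -/
def itp6_395 : Tree := (.node (.node (.node (.node (.node (.node .leaf (221776, 0, 17, 50304) .leaf) (221777, 0, 15, 9446) (.node .leaf (221782, 0, 17, 199697) .leaf)) (221783, 0, 18, 87359) (.node (.node .leaf (221786, 0, 14, 104848) .leaf) (221787, 0, 11, 217435) (.node .leaf (221788, 0, 15, 3839) .leaf))) (221789, 0, 18, 153553) (.node (.node (.node .leaf (221792, 0, 14, 112416) .leaf) (221793, 0, 15, 248236) (.node .leaf (221798, 0, 16, 2029) .leaf)) (221799, 0, 15, 155331) (.node (.node .leaf (221802, 0, 17, 180893) .leaf) (221803, 0, 12, 140027) (.node .leaf (221804, 0, 15, 197891)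 .leaf)))) (221805, 0, 17, 216061) (.node (.node (.node (.node .leaf (221808, 0, 16, 255604) .leaf) (221809, 0, 18, 208659) (.node .leaf (221814, 0, 18, 173683) .leaf)) (221815, 0, 17, 10293) (.node (.node .leaf (221818, 0, 16, 58522) .leaf) (221819, 0, 14, 179636) (.node .leaf (221820, 0, 16, 119758) .leaf))) (221821, 0, 15, 78760) (.node (.node (.node .leaf (221826, 0, 14, 60697) .leaf) (221827, 0, 15, 192794) (.node .leaf (221828, 0, 18, 227450) .leaf)) (221829, 0, 16, 205656) (.node (.node .leaf (221832, 0, 16, 258039) .leaf) (221833, 0, 18, 112345) (.node .leaf (221838, 0, 16, 3527) .leaf))))) (221839, 0, 17, 8630) (.node (.node (.node (.node (.node .leaf (221842, 0, 17, 26921) .leaf) (221843, 0, 17, 35151) (.node .leaf (221844, 0, 14, 65583) .leaf)) (221845, 0, 14, 87470) (.node (.node .leaf (221848, 0, 17, 104705) .leaf) (221849, 0, 17, 261362) (.node .leaf (221854, 0, 16, 161170) .leaf))) (221855, 0, 17, 169460) (.node (.node (.node .leaf (221858, 0, 13, 102419) .leaf) (221859, 0, 18, 129775) (.node .leaf (221860, 0,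 16, 29583) .leaf)) (221861, 0, 17, 155218) (.node (.node .leaf (221864, 0, 16, 159540) .leaf) (221865, 0, 17, 52179) (.node .leaf (221870, 0, 12, 198034) .leaf)))) (221871, 0, 14, 89276) (.node (.node (.node (.node .leaf (221874, 0, 17, 221916) .leaf) (221875, 0, 17, 114635) (.node .leaf (221876, 0, 18, 134106) .leaf)) (221877, 0, 14, 191420) (.node (.node .leaf (221880, 0, 13, 5985) .leaf) (221881, 0, 17, 179493) (.node .leaf (221886, 0, 14, 95076) .leaf))) (221887, 0, 14, 207434) (.node (.node (.node .leaf (221888, 0, 17, 11231) .leaf) (221889, 0, 18, 52153) (.node .leaf (221894, 0, 18, 182926) .leaf)) (221895, 0, 14, 107199) (.node (.node .leaf (221898, 0, 17, 24335) .leaf) (221899, 0, 18, 132641) (.node .leaf (221900, 0, 17, 145252) .leaf))))))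

/-- part of the orbit tree -/
def itp6_396 : Tree := (.node (.node (.node (.node (.node (.node .leaf (221904, 0, 12, 76567) .leaf) (221905, 0, 16, 225849) (.node .leaf (221910, 0, 16, 211596) .leaf)) (221911, 0, 17, 189782) (.node (.node .leaf (221914, 0, 13, 75319) .leaf) (221915, 0, 13, 116305) (.node .leaf (221916, 0, 16, 20273) .leaf))) (221917, 0, 14, 44887) (.node (.node (.node .leaf (221920, 0, 16, 139499) .leaf) (221921, 0, 15, 31173) (.node .leaf (221926, 0, 17, 149804) .leaf)) (221927, 0, 18, 126634) (.node (.node .leaf (221930, 0, 12, 74245) .leaf) (221931, 0, 18, 46577) (.node .leaf (221932, 0, 17, 81041) .leaf)))) (221933, 0, 15, 122103) (.node (.node (.node (.node .leaf (221936, 0, 15, 22045) .leaf) (221937, 0, 16, 134963) (.node .leaf (221942, 0, 16, 12665) .leaf)) (221943, 0, 17, 53535) (.node (.node .leaf (221946, 0, 14, 142786) .leaf) (221947, 0, 14, 183716) (.node .leaf (221948, 0, 19, 214212) .leaf))) (221949, 0, 13, 39602) (.node (.node (.node .leaf (221954, 0, 15, 205826) .leaf) (221955, 0, 14, 246884)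 (.node .leaf (221956, 0, 17, 142844) .leaf)) (221957, 0, 15, 175458) (.node (.node .leaf (221960, 0, 17, 20927) .leaf) (221961, 0, 16, 45529) (.node .leaf (221966, 0, 12, 77586) .leaf))))) (221967, 0, 13, 226876) (.node (.node (.node (.node (.node .leaf (221970, 0, 16, 117861) .leaf) (221971, 0, 13, 234827) (.node .leaf (221972, 0, 16, 13649) .leaf)) (221973, 0, 18, 131620) (.node (.node .leaf (221976, 0, 15, 183947) .leaf) (221977, 0, 13, 182668) (.node .leaf (221982, 0, 16, 219620) .leaf))) (221983, 0, 17, 65738) (.node (.node (.node .leaf (221986, 0, 17, 182169) .leaf) (221987, 0, 16, 53137) (.node .leaf (221988, 0, 17, 83697) .leaf)) (221989, 0, 16, 108183) (.node (.node .leaf (221992, 0, 15, 116087) .leaf) (221993, 0, 16, 236633) (.node .leaf (221998, 0, 16, 144204) .leaf)))) (221999, 0, 17, 133942) (.node (.node (.node (.node .leaf (222002, 0, 17, 45423) .leaf) (222003, 0, 17, 190529) (.node .leaf (222004, 0, 16, 212644) .leaf)) (222005, 0, 16, 253634) (.node (.node .leaf (222008, 0, 14, 74271) .leaf) (222009, 0, 16,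 125615) (.node .leaf (222014, 0, 12, 140526) .leaf))) (222015, 0, 13, 43903) (.node (.node (.node .leaf (222016, 0, 16, 2667) .leaf) (222017, 0, 15, 130759) (.node .leaf (222022, 0, 17, 30631) .leaf)) (222023, 0, 17, 246826) (.node (.node .leaf (222026, 0, 17, 198789) .leaf) (222027, 0, 13, 86443) (.node .leaf (222028, 0, 16, 197146) .leaf))))))

/-- part of the orbit tree -/
def itp6_397 : Tree := (.node (.node (.node (.node (.node (.node .leaf (222032, 0, 14, 162973) .leaf) (222033, 0, 16, 9651) (.node .leaf (222038, 0, 17, 257010) .leaf)) (222039, 0, 14, 192404) (.node (.node .leaf (222042, 0, 16, 4937) .leaf) (222043, 0, 18, 206685) (.node .leaf (222044, 0, 17, 96847) .leaf))) (222045, 0, 13, 105001) (.node (.node (.node .leaf (222048, 0, 17, 96097) .leaf) (222049, 0, 15, 193842) (.node .leaf (222054, 0, 18, 228434) .leaf)) (222055, 0, 15, 178464) (.node (.node .leaf (222058, 0, 16, 90345) .leaf) (222059, 0, 16, 11425) (.node .leaf (222060, 0, 15, 2543) .leaf)))) (222061, 0, 17, 113614) (.node (.node (.node (.node .leaf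 (222064, 0, 10, 197015) .leaf) (222065, 0, 16, 36199) (.node .leaf (222070, 0, 17, 169720) .leaf)) (222071, 0, 16, 53206) (.node (.node .leaf (222074, 0, 19, 889) .leaf) (222075, 0, 16, 260314) (.node .leaf (222076, 0, 14, 103446) .leaf))) (222077, 0, 15, 249144) (.node (.node (.node .leaf (222082, 0, 16, 2810) .leaf) (222083, 0, 13, 152532) (.node .leaf (222084, 0, 17, 55822) .leaf)) (222085, 0, 14, 14952) (.node (.node .leaf (222088, 0, 15, 181941) .leaf) (222089, 0, 17, 86330) (.node .leaf (222094, 0, 17, 241587) .leaf))))) (222095, 0, 16, 217045) (.node (.node (.node (.node (.node .leaf (222098, 0, 13, 248669) .leaf) (222099, 0, 15, 9506) (.node .leaf (222100, 0, 15, 256867) .leaf)) (222101, 0, 18, 111181) (.node (.node .leaf (222104, 0, 17, 98018) .leaf) (222105, 0, 16, 206796) (.node .leaf (222110, 0, 16, 120806) .leaf))) (222111, 0, 16, 79744) (.node (.node (.node .leaf (222114, 0, 13, 178429) .leaf) (222115, 0, 16, 153755) (.node .leaf (222116, 0, 16, 57503) .leaf)) (222117, 0, 10, 209309) (.node (.node .leaf (222120,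 0, 16, 161054) .leaf) (222121, 0, 13, 11312) (.node .leaf (222126, 0, 13, 254577) .leaf)))) (222127, 0, 17, 113503) (.node (.node (.node (.node .leaf (222130, 0, 17, 49320) .leaf) (222131, 0, 15, 8398) (.node .leaf (222132, 0, 17, 108974) .leaf)) (222133, 0, 17, 84424) (.node (.node .leaf (222136, 0, 16, 242965) .leaf) (222137, 0, 17, 218483) (.node .leaf (222142, 0, 13, 187411) .leaf))) (222143, 0, 16, 146549) (.node (.node (.node .leaf (222144, 0, 15, 231851) .leaf) (222145, 0, 17, 123692) (.node .leaf (222150, 0, 17, 188589) .leaf)) (222151, 0, 14, 131275) (.node (.node .leaf (222154, 0, 17, 64534) .leaf) (222155, 0, 16, 7280) (.node .leaf (222156, 0, 14, 77699) .leaf))))))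

/-- part of the orbit tree -/
def itp6_398 : Tree := (.node (.node (.node (.node (.node (.node .leaf (222160, 0, 15, 118004) .leaf) (222161, 0, 17, 70040) (.node .leaf (222166, 0, 14, 39160) .leaf)) (222167, 0, 17, 131765) (.node (.node .leaf (222170, 0, 16, 183834) .leaf) (222171, 0, 17, 38708) (.node .leaf (222172, 0, 18, 257349) .leaf))) (222173, 0, 15, 65627) (.node (.node (.node .leaf (222176, 0, 17, 33374) .leaf) (222177, 0, 18, 40486) (.node .leaf (222182, 0, 16, 217191) .leaf)) (222183, 0, 16, 67913) (.node (.node .leaf (222186, 0, 16, 116198) .leaf) (222187, 0, 15, 236744) (.node .leaf (222188, 0, 17, 21129) .leaf)))) (222189, 0, 17, 163459) (.node (.node (.node (.node .leaf (222192, 0, 15, 45566) .leaf) (222193, 0, 15, 137837) (.node .leaf (222198, 0, 12, 234253) .leaf)) (222199, 0, 15, 229311) (.node (.node .leaf (222202, 0, 17, 102326) .leaf) (222203, 0, 13, 94160) (.node .leaf (222204, 0, 14, 140415) .leaf))) (222205, 0, 14, 32081) (.node (.node (.node .leaf (222209, 0, 13, 237) .leaf) (222211, 0, 17, 134278)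 (.node .leaf (222212, 0, 14, 115399) .leaf)) (222214, 0, 17, 142005) (.node (.node .leaf (222216, 0, 18, 218950) .leaf) (222218, 0, 18, 48948) (.node .leaf (222221, 0, 17, 225653) .leaf))))) (222223, 0, 15, 216179) (.node (.node (.node (.node (.node .leaf (222225, 0, 14, 161976) .leaf) (222227, 0, 17, 207005) (.node .leaf (222228, 0, 15, 172541) .leaf)) (222230, 0, 16, 23619) (.node (.node .leaf (222232, 0, 16, 48454) .leaf) (222234, 0, 12, 126307) (.node .leaf (222237, 0, 16, 67459) .leaf))) (222239, 0, 18, 78886) (.node (.node (.node .leaf (222241, 0, 18, 199448) .leaf) (222243, 0, 16, 154429) (.node .leaf (222244, 0, 17, 250461) .leaf)) (222246, 0, 16, 219071) (.node (.node .leaf (222248, 0, 16, 141900) .leaf) (222250, 0, 15, 115262) (.node .leaf (222253, 0, 15, 134271) .leaf)))) (222255, 0, 17, 18310) (.node (.node (.node (.node .leaf (222257, 0, 18, 192264) .leaf) (222259, 0, 13, 9064) (.node .leaf (222260, 0, 16, 182587) .leaf)) (222262, 0, 12, 74057) (.node (.node .leaf (222264, 0, 13, 243379) .leaf) (222266, 0, 15,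 242888) (.node .leaf (222269, 0, 17, 31369) .leaf))) (222271, 0, 15, 147411) (.node (.node (.node .leaf (222272, 0, 15, 255312) .leaf) (222274, 0, 17, 186920) (.node .leaf (222277, 0, 14, 217928) .leaf)) (222279, 0, 18, 11025) (.node (.node .leaf (222281, 0, 18, 87778) .leaf) (222283, 0, 17, 8150) (.node .leaf (222284, 0, 18, 94417) .leaf))))))

/-- part of the orbit tree -/
def itp6_399 : Tree := (.node itp6_395 (221901, 0, 16, 233806) itp6_396)

/-- part of the orbit tree -/
def itp6_400 : Tree := (.node itp6_397 (222157, 0, 17, 226989) itp6_398)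

/-- part of the orbit tree -/
def itp6_401 : Tree := (.node (.node (.node (.node (.node (.node .leaf (222288, 0, 15, 127576) .leaf) (222290, 0, 18, 41597) (.node .leaf (222293, 0, 17, 76573) .leaf)) (222295, 0, 17, 31544) (.node (.node .leaf (222297, 0, 17, 204820) .leaf) (222299, 0, 17, 51302) (.node .leaf (222300, 0, 17, 257763) .leaf))) (222302, 0, 14, 179910) (.node (.node (.node .leaf (222304, 0, 17, 33272) .leaf) (222306, 0, 16, 94248) (.node .leaf (222309, 0, 17, 179817) .leaf)) (222311, 0, 9, 87579) (.node (.node .leaf (222313, 0, 15, 11240) .leaf) (222315, 0, 16, 246682) (.node .leaf (222316, 0, 13, 171331) .leaf)))) (222318, 0, 14, 255401) (.node (.node (.node (.node .leaf (222320, 0, 12, 61100) .leaf) (222322, 0, 16, 198366) (.node .leaf (222325, 0, 17, 139496) .leaf)) (222327, 0, 13, 225485) (.node (.node .leaf (222329, 0, 17, 15443) .leaf) (222331, 0, 14, 111980) (.node .leaf (222332, 0, 16, 162605) .leaf))) (222334, 0, 17, 111923) (.node (.node (.node .leaf (222337, 0, 13, 169959) .leaf) (222339, 0, 17, 113903)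 (.node .leaf (222340, 0, 15, 160430) .leaf)) (222342, 0, 15, 204423) (.node (.node .leaf (222344, 0, 14, 21017) .leaf) (222346, 0, 17, 66108) (.node .leaf (222349, 0, 14, 35676) .leaf))))) (222351, 0, 13, 207214) (.node (.node (.node (.node (.node .leaf (222353, 0, 14, 61362) .leaf) (222355, 0, 15, 114583) (.node .leaf (222356, 0, 16, 14071) .leaf)) (222358, 0, 12, 91858) (.node (.node .leaf (222360, 0, 16, 141900) .leaf) (222362, 0, 17, 96683) (.node .leaf (222365, 0, 18, 178154) .leaf))) (222367, 0, 16, 90008) (.node (.node (.node .leaf (222369, 0, 15, 105490) .leaf) (222371, 0, 17, 49637) (.node .leaf (222372, 0, 15, 200612) .leaf)) (222374, 0, 17, 5490) (.node (.node .leaf (222376, 0, 17, 219628) .leaf) (222378, 0, 16, 133577) (.node .leaf (222381, 0, 15, 229545) .leaf)))) (222383, 0, 12, 152676) (.node (.node (.node (.node .leaf (222385, 0, 16, 89953) .leaf) (222387, 0, 16, 177250) (.node .leaf (222388, 0, 11, 212226) .leaf)) (222390, 0, 11, 168224) (.node (.node .leaf (222392, 0, 18, 257235) .leaf) (222394, 0, 16, 29084)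 (.node .leaf (222397, 0, 16, 248544) .leaf))) (222399, 0, 16, 43225) (.node (.node (.node .leaf (222400, 0, 16, 21817) .leaf) (222402, 0, 17, 245067) (.node .leaf (222405, 0, 15, 115778) .leaf)) (222407, 0, 13, 37991) (.node (.node .leaf (222409, 0, 17, 190091) .leaf) (222411, 0, 17, 166108) (.node .leaf (222412, 0, 10, 197052) .leaf))))))

/-- part of the orbit tree -/
def itp6_402 : Tree := (.node (.node (.node (.node (.node (.node .leaf (222416, 0, 9, 222546) .leaf) (222418, 0, 15, 144759) (.node .leaf (222421, 0, 16, 132604) .leaf)) (222423, 0, 17, 126350) (.node (.node .leaf (222425, 0, 14, 36989) .leaf) (222427, 0, 16, 61577) (.node .leaf (222428, 0, 16, 46670) .leaf))) (222430, 0, 16, 10700) (.node (.node (.node .leaf (222432, 0, 17, 75827) .leaf) (222434, 0, 13, 180289) (.node .leaf (222437, 0, 19, 69120) .leaf)) (222439, 0, 15, 190066) (.node (.node .leaf (222441, 0, 18, 236417) .leaf) (222443, 0, 17, 29683) (.node .leaf (222444, 0, 18, 2633) .leaf)))) (222446, 0, 15, 88684) (.node (.node (.node (.node .leaf (222448,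 0, 16, 28327) .leaf) (222450, 0, 18, 81538) (.node .leaf (222453, 0, 12, 227574) .leaf)) (222455, 0, 16, 124871) (.node (.node .leaf (222457, 0, 17, 174937) .leaf) (222459, 0, 16, 132357) (.node .leaf (222460, 0, 14, 117572) .leaf))) (222462, 0, 16, 205369) (.node (.node (.node .leaf (222465, 0, 17, 66327) .leaf) (222467, 0, 14, 193212) (.node .leaf (222468, 0, 17, 228316) .leaf)) (222470, 0, 14, 183638) (.node (.node .leaf (222472, 0, 19, 92007) .leaf) (222474, 0, 17, 14146) (.node .leaf (222477, 0, 17, 114210) .leaf))))) (222479, 0, 15, 32484) (.node (.node (.node (.node (.node .leaf (222481, 0, 14, 226785) .leaf) (222483, 0, 13, 35561) (.node .leaf (222484, 0, 14, 218066) .leaf)) (222486, 0, 16, 21420) (.node (.node .leaf (222488, 0, 18, 116307) .leaf) (222490, 0, 17, 151319) (.node .leaf (222493, 0, 15, 247415) .leaf))) (222495, 0, 13, 169554) (.node (.node (.node .leaf (222497, 0, 16, 32285) .leaf) (222499, 0, 14, 129353) (.node .leaf (222500, 0, 17, 22574) .leaf)) (222502, 0, 17, 241756) (.node (.node .leaf (222504, 0,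 10, 183727) .leaf) (222506, 0, 16, 212151) (.node .leaf (222509, 0, 15, 177623) .leaf)))) (222511, 0, 16, 66542) (.node (.node (.node (.node .leaf (222513, 0, 14, 184633) .leaf) (222515, 0, 17, 229660) (.node .leaf (222516, 0, 16, 133244) .leaf)) (222518, 0, 17, 116394) (.node (.node .leaf (222520, 0, 17, 5319) .leaf) (222522, 0, 16, 83170) (.node .leaf (222525, 0, 16, 52610) .leaf))) (222527, 0, 16, 105895) (.node (.node (.node .leaf (222528, 0, 18, 197299) .leaf) (222530, 0, 17, 96348) (.node .leaf (222533, 0, 16, 61756) .leaf)) (222535, 0, 17, 52466) (.node (.node .leaf (222537, 0, 16, 110849) .leaf) (222539, 0, 16, 245154) (.node .leaf (222540, 0, 17, 144578) .leaf))))))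

/-- part of the orbit tree -/
def itp6_403 : Tree := (.node (.node (.node (.node (.node (.node .leaf (222544, 0, 14, 95301) .leaf) (222546, 0, 8, 196617) (.node .leaf (222549, 0, 18, 166249) .leaf)) (222551, 0, 15, 178692) (.node (.node .leaf (222553, 0, 15, 247799) .leaf) (222555, 0, 10, 12165) (.node .leaf (222556, 0, 15, 254404) .leaf))) (222558, 0, 15, 72882) (.node (.node (.node .leaf (222560, 0, 16, 163769) .leaf) (222562, 0, 14, 160681) (.node .leaf (222565, 0, 17, 153994) .leaf)) (222567, 0, 12, 174828) (.node (.node .leaf (222569, 0, 15, 52235) .leaf) (222571, 0, 17, 46679) (.node .leaf (222572, 0, 14, 81719) .leaf)))) (222574, 0, 15, 28434) (.node (.node (.node (.node .leaf (222576, 0, 18, 89049) .leaf) (222578, 0, 18, 254269) (.node .leaf (222581, 0, 18, 98972) .leaf)) (222583, 0, 16, 53945) (.node (.node .leaf (222585, 0, 17, 237095) .leaf) (222587, 0, 13, 183810) (.node .leaf (222588, 0, 16, 171214) .leaf))) (222590, 0, 17, 95420) (.node (.node (.node .leaf (222593, 0, 17, 177022) .leaf) (222595, 0, 16, 88844)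 (.node .leaf (222596, 0, 18, 169293) .leaf)) (222598, 0, 18, 97599) (.node (.node .leaf (222600, 0, 15, 204) .leaf) (222602, 0, 16, 172104) (.node .leaf (222605, 0, 17, 207144) .leaf))))) (222607, 0, 17, 162061) (.node (.node (.node (.node (.node .leaf (222609, 0, 16, 50568) .leaf) (222611, 0, 16, 138723) (.node .leaf (222612, 0, 18, 234627) .leaf)) (222614, 0, 18, 181414) (.node (.node .leaf (222616, 0, 18, 161338) .leaf) (222618, 0, 14, 55325) (.node .leaf (222621, 0, 15, 86397) .leaf))) (222623, 0, 15, 344) (.node (.node (.node .leaf (222625, 0, 17, 147046) .leaf) (222627, 0, 15, 9734) (.node .leaf (222628, 0, 15, 190243) .leaf)) (222630, 0, 15, 243462) (.node (.node .leaf (222632, 0, 16, 97734) .leaf) (222634, 0, 16, 109501) (.node .leaf (222637, 0, 16, 8925) .leaf)))) (222639, 0, 15, 177031) (.node (.node (.node (.node .leaf (222641, 0, 14, 112770) .leaf) (222643, 0, 17, 151792) (.node .leaf (222644, 0, 15, 106161) .leaf)) (222646, 0, 14, 161475) (.node (.node .leaf (222648, 0, 14, 164813) .leaf) (222650, 0, 15, 250856)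 (.node .leaf (222653, 0, 16, 208131) .leaf))) (222655, 0, 16, 50545) (.node (.node (.node .leaf (222656, 0, 16, 45786) .leaf) (222658, 0, 15, 219816) (.node .leaf (222661, 0, 16, 157238) .leaf)) (222663, 0, 17, 228507) (.node (.node .leaf (222665, 0, 14, 131432) .leaf) (222667, 0, 15, 76456) (.node .leaf (222668, 0, 16, 41928) .leaf))))))

/-- part of the orbit tree -/
def itp6_404 : Tree := (.node (.node (.node (.node (.node (.node .leaf (222672, 0, 12, 181292) .leaf) (222674, 0, 19, 76894) (.node .leaf (222677, 0, 15, 7779) .leaf)) (222679, 0, 16, 68205) (.node (.node .leaf (222681, 0, 19, 131800) .leaf) (222683, 0, 14, 217853) (.node .leaf (222684, 0, 16, 187293) .leaf))) (222686, 0, 18, 232376) (.node (.node (.node .leaf (222688, 0, 15, 111750) .leaf) (222690, 0, 15, 58531) (.node .leaf (222693, 0, 18, 93635) .leaf)) (222695, 0, 15, 15846) (.node (.node .leaf (222697, 0, 16, 225656) .leaf) (222699, 0, 16, 139613) (.node .leaf (222700, 0, 17, 239677) .leaf)))) (222702, 0, 14, 194584) (.node (.node (.node (.node .leaf (222704,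 0, 16, 244006) .leaf) (222706, 0, 14, 20820) (.node .leaf (222709, 0, 16, 202134) .leaf)) (222711, 0, 16, 30567) (.node (.node .leaf (222713, 0, 14, 67885) .leaf) (222715, 0, 17, 189158) (.node .leaf (222716, 0, 13, 118888) .leaf))) (222718, 0, 17, 32845) (.node (.node (.node .leaf (222720, 0, 15, 52475) .leaf) (222721, 0, 18, 11421) (.node .leaf (222722, 0, 15, 105694) .leaf)) (222723, 0, 11, 97464) (.node (.node .leaf (222732, 0, 16, 77175) .leaf) (222733, 0, 15, 143398) (.node .leaf (222734, 0, 15, 181509) .leaf))))) (222735, 0, 15, 221187) (.node (.node (.node (.node (.node .leaf (222736, 0, 17, 118272) .leaf) (222737, 0, 19, 152776) (.node .leaf (222738, 0, 10, 140914) .leaf)) (222739, 0, 17, 32604) (.node (.node .leaf (222748, 0, 16, 220033) .leaf) (222749, 0, 17, 66223) (.node .leaf (222750, 0, 13, 46067) .leaf))) (222751, 0, 15, 191197) (.node (.node (.node .leaf (222752, 0, 17, 181756) .leaf) (222753, 0, 17, 40146) (.node .leaf (222754, 0, 18, 77198) .leaf)) (222755, 0, 18, 161613) (.node (.node .leaf (222764, 0, 10,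 20605) .leaf) (222765, 0, 16, 80851) (.node .leaf (222766, 0, 18, 35728) .leaf)))) (222767, 0, 16, 27638) (.node (.node (.node (.node .leaf (222768, 0, 16, 45834) .leaf) (222769, 0, 16, 191012) (.node .leaf (222770, 0, 18, 220024) .leaf)) (222771, 0, 17, 3864) (.node (.node .leaf (222780, 0, 17, 238560) .leaf) (222781, 0, 13, 213894) (.node .leaf (222782, 0, 13, 118521) .leaf))) (222783, 0, 15, 136099) (.node (.node (.node .leaf (222788, 0, 16, 106337) .leaf) (222789, 0, 17, 229176) (.node .leaf (222790, 0, 17, 184187) .leaf)) (222791, 0, 18, 11837) (.node (.node .leaf (222792, 0, 15, 99301) .leaf) (222793, 0, 17, 91011) .leaf)))))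

/-- part of the orbit tree -/
def itp6_405 : Tree := (.node itp6_401 (222414, 0, 15, 75978) itp6_402)

/-- part of the orbit tree -/
def itp6_406 : Tree := (.node itp6_403 (222670, 0, 16, 127981) itp6_404)

/-- part of the orbit tree -/
def itp6_407 : Tree := (.node itp6_399 (222029, 0, 17, 254588) itp6_400)

/-- part of the orbit tree -/
def itp6_408 : Tree := (.node itp6_405 (222542, 0, 16, 222439) itp6_406)

/-- part of the orbit tree -/
def itp6_409 : Tree := (.node itp6_393 (221265, 0, 17, 2198) itp6_394)

/-- part of the orbit tree -/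
def itp6_410 : Tree := (.node itp6_407 (222286, 0, 18, 170147) itp6_408)

/-- part of the orbit tree -/
def itp6_411 : Tree := (.node (.node (.node (.node (.node (.node .leaf (222795, 0, 16, 179132) .leaf) (222804, 0, 13, 256407) (.node .leaf (222805, 0, 17, 67437) .leaf)) (222806, 0, 16, 485) (.node (.node .leaf (222807, 0, 14, 153803) .leaf) (222808, 0, 17, 97302) (.node .leaf (222809, 0, 15, 203734) .leaf))) (222810, 0, 16, 169060) (.node (.node (.node .leaf (222811, 0, 17, 52554) .leaf) (222820, 0, 9, 57963) (.node .leaf (222821, 0, 15, 179013) .leaf)) (222822, 0, 11, 199193) (.node (.node .leaf (222823, 0, 12, 86839) .leaf) (222824, 0, 17, 165904) (.node .leaf (222825, 0, 17, 157814) .leaf)))) (222826, 0, 18, 251957) (.node (.node (.node (.node .leaf (222827, 0, 10, 211027) .leaf) (222836, 0, 14, 191742) (.node .leaf (222837, 0, 13, 52659) .leaf)) (222838, 0, 11, 244955) (.node (.node .leaf (222839, 0, 15, 220349) .leaf) (222840, 0, 16, 284) (.node .leaf (222841, 0, 14, 153650) .leaf))) (222842, 0, 16, 106592) (.node (.node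 (.node .leaf (222843, 0, 13, 110656) .leaf) (222848, 0, 14, 154609) (.node .leaf (222849, 0, 15, 179095) .leaf)) (222850, 0, 15, 199636) (.node (.node .leaf (222851, 0, 14, 113091) .leaf) (222860, 0, 16, 18250) (.node .leaf (222861, 0, 17, 50224) .leaf))))) (222862, 0, 18, 95596) (.node (.node (.node (.node (.node .leaf (222863, 0, 15, 128777) .leaf) (222864, 0, 15, 9124) (.node .leaf (222865, 0, 19, 10055) .leaf)) (222866, 0, 9, 95105) (.node (.node .leaf (222867, 0, 16, 103399) .leaf) (222876, 0, 15, 147231) (.node .leaf (222877, 0, 18, 188281) .leaf))) (222878, 0, 12, 197530) (.node (.node (.node .leaf (222879, 0, 18, 88756) .leaf) (222880, 0, 18, 86020) (.node .leaf (222881, 0, 13, 110690) .leaf)) (222882, 0, 17, 171495) (.node (.node .leaf (222883, 0, 17, 57415) .leaf) (222892, 0, 17, 216255) (.node .leaf (222893, 0, 15, 240857) .leaf)))) (222894, 0, 16, 138394) (.node (.node (.node (.node .leaf (222895, 0, 15, 151880) .leaf) (222896, 0, 17, 206929) (.node .leaf (222897, 0, 14, 88653) .leaf)) (222898, 0, 14, 60177) (.node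 (.node .leaf (222899, 0, 18, 170002) .leaf) (222908, 0, 16, 104162) (.node .leaf (222909, 0, 17, 249804) .leaf))) (222910, 0, 17, 25807) (.node (.node (.node .leaf (222911, 0, 16, 10174) .leaf) (222916, 0, 16, 143112) (.node .leaf (222917, 0, 12, 30246) .leaf)) (222918, 0, 15, 22641) (.node (.node .leaf (222919, 0, 11, 237140) .leaf) (222920, 0, 18, 47753) (.node .leaf (222921, 0, 15, 189351) .leaf))))))

/-- part of the orbit tree -/
def itp6_412 : Tree := (.node (.node (.node (.node (.node (.node .leaf (222923, 0, 18, 68565) .leaf) (222932, 0, 13, 225281) (.node .leaf (222933, 0, 14, 233575) .leaf)) (222934, 0, 12, 139300) (.node (.node .leaf (222935, 0, 12, 125090) .leaf) (222936, 0, 17, 93370) (.node .leaf (222937, 0, 18, 38225) .leaf))) (222938, 0, 16, 15519) (.node (.node (.node .leaf (222939, 0, 16, 56569) .leaf) (222948, 0, 14, 132001) (.node .leaf (222949, 0, 15, 189383) .leaf)) (222950, 0, 15, 217988) (.node (.node .leaf (222951, 0, 16, 242658) .leaf) (222952, 0, 18, 7962) (.node .leaf (222953, 0, 15, 237229) .leaf))))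 (222954, 0, 15, 143345) (.node (.node (.node (.node .leaf (222955, 0, 16, 30431) .leaf) (222964, 0, 16, 74996) (.node .leaf (222965, 0, 15, 228826) .leaf)) (222966, 0, 14, 183430) (.node (.node .leaf (222967, 0, 16, 38312) .leaf) (222968, 0, 16, 242037) (.node .leaf (222969, 0, 15, 165673) .leaf))) (222970, 0, 16, 210794) (.node (.node (.node .leaf (222971, 0, 15, 251660) .leaf) (222976, 0, 16, 224911) (.node .leaf (222977, 0, 17, 67131) .leaf)) (222978, 0, 13, 147114) (.node (.node .leaf (222979, 0, 16, 188108) .leaf) (222988, 0, 16, 117396) (.node .leaf (222989, 0, 16, 234426) .leaf))))) (222990, 0, 16, 140006) (.node (.node (.node (.node (.node .leaf (222991, 0, 14, 31688) .leaf) (222992, 0, 17, 71386) (.node .leaf (222993, 0, 13, 225485) .leaf)) (222994, 0, 10, 18175) (.node (.node .leaf (222995, 0, 17, 39103) .leaf) (223004, 0, 14, 199265) (.node .leaf (223005, 0, 16, 124236) .leaf))) (223006, 0, 15, 21520) (.node (.node (.node .leaf (223007, 0, 17, 134462) .leaf) (223008, 0, 18, 25978) (.node .leaf (223009, 0, 16, 31537)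 .leaf)) (223010, 0, 16, 79199) (.node (.node .leaf (223011, 0, 14, 120121) .leaf) (223020, 0, 14, 162241) (.node .leaf (223021, 0, 15, 192176) .leaf)))) (223022, 0, 16, 221164) (.node (.node (.node (.node .leaf (223023, 0, 16, 248194) .leaf) (223024, 0, 14, 21737) (.node .leaf (223025, 0, 17, 134599) .leaf)) (223026, 0, 18, 244891) (.node (.node .leaf (223027, 0, 14, 241004) .leaf) (223036, 0, 14, 180584) (.node .leaf (223037, 0, 14, 57842) .leaf))) (223038, 0, 13, 86449) (.node (.node (.node .leaf (223039, 0, 18, 111063) .leaf) (223044, 0, 14, 15658) (.node .leaf (223045, 0, 15, 205228) .leaf)) (223046, 0, 16, 168176) (.node (.node .leaf (223047, 0, 7, 51678) .leaf) (223048, 0, 17, 257283) (.node .leaf (223049, 0, 14, 111661) .leaf))))))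

/-- part of the orbit tree -/
def itp6_413 : Tree := (.node (.node (.node (.node (.node (.node .leaf (223051, 0, 11, 154719) .leaf) (223060, 0, 17, 148863) (.node .leaf (223061, 0, 15, 87898) .leaf)) (223062, 0, 18, 202074) (.node (.node .leaf (223063, 0, 17, 259388) .leaf) (223064, 0, 17, 22980) (.node .leaf (223065, 0, 10, 47522) .leaf))) (223066, 0, 18, 68065) (.node (.node (.node .leaf (223067, 0, 12, 10921) .leaf) (223076, 0, 14, 210655) (.node .leaf (223077, 0, 18, 251577) .leaf)) (223078, 0, 16, 257530) (.node (.node .leaf (223079, 0, 14, 165532) .leaf) (223080, 0, 13, 167945) (.node .leaf (223081, 0, 16, 117250) .leaf)))) (223082, 0, 14, 96379) (.node (.node (.node (.node .leaf (223083, 0, 15, 39463) .leaf) (223092, 0, 12, 85642) (.node .leaf (223093, 0, 18, 110316) .leaf)) (223094, 0, 17, 7855) (.node (.node .leaf (223095, 0, 16, 246306) .leaf) (223096, 0, 18, 59135) (.node .leaf (223097, 0, 16, 180177) .leaf))) (223098, 0, 16, 131604) (.node (.node (.node .leaf (223099, 0, 14, 189042) .leaf) (223104, 0, 17, 129413)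 (.node .leaf (223105, 0, 15, 72163) .leaf)) (223106, 0, 13, 198414) (.node (.node .leaf (223107, 0, 16, 89632) .leaf) (223116, 0, 17, 255294) (.node .leaf (223117, 0, 10, 197976) .leaf))))) (223118, 0, 16, 103055) (.node (.node (.node (.node (.node .leaf (223119, 0, 15, 248737) .leaf) (223120, 0, 16, 229840) (.node .leaf (223121, 0, 14, 49316) .leaf)) (223122, 0, 13, 184821) (.node (.node .leaf (223123, 0, 12, 143763) .leaf) (223132, 0, 14, 105835) (.node .leaf (223133, 0, 16, 97549) .leaf))) (223134, 0, 15, 255097) (.node (.node (.node .leaf (223135, 0, 17, 114007) .leaf) (223136, 0, 18, 103030) (.node .leaf (223137, 0, 18, 135702) .leaf)) (223138, 0, 18, 162308) (.node (.node .leaf (223139, 0, 15, 213555) .leaf) (223148, 0, 17, 61131) (.node .leaf (223149, 0, 15, 3757) .leaf)))) (223150, 0, 16, 61317) (.node (.node (.node (.node .leaf (223151, 0, 16, 89736) .leaf) (223152, 0, 15, 35365) (.node .leaf (223153, 0, 15, 114094) .leaf)) (223154, 0, 18, 3314) (.node (.node .leaf (223155, 0, 16, 80486) .leaf) (223164, 0, 15, 169630)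 (.node .leaf (223165, 0, 14, 206895) .leaf))) (223166, 0, 17, 170355) (.node (.node (.node .leaf (223167, 0, 15, 49245) .leaf) (223172, 0, 16, 174624) (.node .leaf (223173, 0, 15, 150086) .leaf)) (223174, 0, 17, 73881) (.node (.node .leaf (223175, 0, 11, 227767) .leaf) (223176, 0, 15, 23914) (.node .leaf (223177, 0, 18, 132164) .leaf))))))

/-- part of the orbit tree -/
def itp6_414 : Tree := (.node (.node (.node (.node (.node (.node .leaf (223179, 0, 16, 67288) .leaf) (223188, 0, 17, 48669) (.node .leaf (223189, 0, 14, 190259) .leaf)) (223190, 0, 17, 218735) (.node (.node .leaf (223191, 0, 16, 90678) .leaf) (223192, 0, 13, 184014) (.node .leaf (223193, 0, 15, 29362) .leaf))) (223194, 0, 17, 237291) (.node (.node (.node .leaf (223195, 0, 16, 236224) .leaf) (223204, 0, 17, 243169) (.node .leaf (223205, 0, 14, 126159) .leaf)) (223206, 0, 18, 61936) (.node (.node .leaf (223207, 0, 16, 132285) .leaf) (223208, 0, 17, 73824) (.node .leaf (223209, 0, 19, 220424) .leaf)))) (223210, 0, 14, 191819) (.node (.node (.node (.node .leaf (223211,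 0, 15, 37180) .leaf) (223220, 0, 17, 115479) (.node .leaf (223221, 0, 14, 211430) .leaf)) (223222, 0, 13, 142181) (.node (.node .leaf (223223, 0, 17, 29259) .leaf) (223224, 0, 13, 218774) (.node .leaf (223225, 0, 17, 69560) .leaf))) (223226, 0, 13, 48868) (.node (.node (.node .leaf (223227, 0, 16, 30072) .leaf) (223233, 0, 13, 175167) (.node .leaf (223234, 0, 16, 204131) .leaf)) (223237, 0, 16, 220538) (.node (.node .leaf (223238, 0, 15, 90750) .leaf) (223240, 0, 14, 8077) (.node .leaf (223243, 0, 17, 4580) .leaf))))) (223244, 0, 16, 155792) (.node (.node (.node (.node (.node .leaf (223247, 0, 11, 250316) .leaf) (223249, 0, 14, 72716) (.node .leaf (223250, 0, 15, 93077) .leaf)) (223253, 0, 15, 173524) (.node (.node .leaf (223254, 0, 16, 38252) .leaf) (223256, 0, 14, 252402) (.node .leaf (223259, 0, 15, 251943) .leaf))) (223260, 0, 16, 254161) (.node (.node (.node .leaf (223263, 0, 16, 151698) .leaf) (223265, 0, 18, 28588) (.node .leaf (223266, 0, 18, 155753) .leaf)) (223269, 0, 15, 110120) (.node (.node .leaf (223270, 0, 16,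 8052) .leaf) (223272, 0, 12, 174674) (.node .leaf (223275, 0, 17, 54235) .leaf)))) (223276, 0, 16, 204186) (.node (.node (.node (.node .leaf (223279, 0, 11, 175302) .leaf) (223281, 0, 16, 137209) (.node .leaf (223282, 0, 13, 5791) .leaf)) (223285, 0, 15, 252126) (.node (.node .leaf (223286, 0, 16, 237209) .leaf) (223288, 0, 15, 201841) (.node .leaf (223291, 0, 17, 90692) .leaf))) (223292, 0, 16, 93036) (.node (.node (.node .leaf (223295, 0, 15, 55856) .leaf) (223296, 0, 14, 61113) (.node .leaf (223299, 0, 17, 89850) .leaf)) (223300, 0, 12, 184966) (.node (.node .leaf (223303, 0, 15, 92121) .leaf) (223305, 0, 16, 138793) (.node .leaf (223306, 0, 15, 241525) .leaf))))))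

/-- part of the orbit tree -/
def itp6_415 : Tree := (.node itp6_411 (222922, 0, 15, 148682) itp6_412)

/-- part of the orbit tree -/
def itp6_416 : Tree := (.node itp6_413 (223178, 0, 18, 124606) itp6_414)

/-- part of the orbit tree -/
def itp6_417 : Tree := (.node (.node (.node (.node (.node (.node .leaf (223310, 0, 13, 118888) .leaf) (223312, 0, 13, 169708) (.node .leaf (223315, 0, 17, 206511) .leaf)) (223316, 0, 13, 42096) (.node (.node .leaf (223319, 0, 18, 204684) .leaf) (223321, 0, 14, 26847) (.node .leaf (223322, 0, 17, 123729) .leaf))) (223325, 0, 15, 137154) (.node (.node (.node .leaf (223326, 0, 17, 121458) .leaf) (223328, 0, 14, 255308) (.node .leaf (223331, 0, 14, 25037) .leaf)) (223332, 0, 16, 241548) (.node (.node .leaf (223335, 0, 17, 158764) .leaf) (223337, 0, 14, 73906) (.node .leaf (223338, 0, 16, 37105) .leaf)))) (223341, 0, 15, 72081) (.node (.node (.node (.node .leaf (223342, 0, 17, 43474) .leaf) (223344, 0, 16, 239207) (.node .leaf (223347, 0, 15, 137019) .leaf)) (223348, 0, 16, 121210) (.node (.node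 .leaf (223351, 0, 16, 26662) .leaf) (223353, 0, 17, 71125) (.node .leaf (223354, 0, 16, 42121) .leaf))) (223357, 0, 15, 223944) (.node (.node (.node .leaf (223358, 0, 16, 187284) .leaf) (223361, 0, 16, 72790) (.node .leaf (223362, 0, 16, 44298) .leaf)) (223365, 0, 14, 222027) (.node (.node .leaf (223366, 0, 15, 184855) .leaf) (223368, 0, 16, 210605) (.node .leaf (223371, 0, 13, 165614) .leaf))))) (223372, 0, 16, 119033) (.node (.node (.node (.node (.node .leaf (223375, 0, 18, 180173) .leaf) (223377, 0, 16, 223904) (.node .leaf (223378, 0, 18, 146245) .leaf)) (223381, 0, 17, 242213) (.node (.node .leaf (223382, 0, 17, 131686) .leaf) (223384, 0, 16, 85752) (.node .leaf (223387, 0, 15, 65211) .leaf))) (223388, 0, 12, 96219) (.node (.node (.node .leaf (223391, 0, 15, 137043) .leaf) (223393, 0, 14, 194726) (.node .leaf (223394, 0, 15, 215269) .leaf)) (223397, 0, 18, 138817) (.node (.node .leaf (223398, 0, 17, 241437) .leaf) (223400, 0, 17, 15704) (.node .leaf (223403, 0, 18, 101659) .leaf)))) (223404, 0, 17, 44531) (.node (.node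 (.node (.node .leaf (223407, 0, 17, 111672) .leaf) (223409, 0, 14, 137130) (.node .leaf (223410, 0, 17, 239350) .leaf)) (223413, 0, 12, 47568) (.node (.node .leaf (223414, 0, 17, 67987) .leaf) (223416, 0, 14, 148749) (.node .leaf (223419, 0, 18, 70980) .leaf))) (223420, 0, 18, 187141) (.node (.node (.node .leaf (223423, 0, 16, 248941) .leaf) (223424, 0, 15, 162227) (.node .leaf (223427, 0, 16, 175278) .leaf)) (223428, 0, 15, 90863) (.node (.node .leaf (223431, 0, 17, 258259) .leaf) (223433, 0, 15, 48205) (.node .leaf (223434, 0, 17, 68622) .leaf))))))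

/-- part of the orbit tree -/
def itp6_418 : Tree := (.node (.node (.node (.node (.node (.node .leaf (223438, 0, 13, 79149) .leaf) (223440, 0, 16, 92932) (.node .leaf (223443, 0, 14, 111013) .leaf)) (223444, 0, 16, 201753) (.node (.node .leaf (223447, 0, 16, 173381) .leaf) (223449, 0, 16, 252086) (.node .leaf (223450, 0, 16, 226395) .leaf))) (223453, 0, 17, 195899) (.node (.node (.node .leaf (223454, 0, 16, 5879) .leaf) (223456, 0, 17, 94790) (.node .leaf (223459, 0, 17, 250276) .leaf)) (223460, 0, 17, 84837) (.node (.node .leaf (223463, 0, 18, 110265) .leaf) (223465, 0, 17, 243640) (.node .leaf (223466, 0, 13, 90646) .leaf)))) (223469, 0, 17, 233115) (.node (.node (.node (.node .leaf (223470, 0, 17, 147160) .leaf) (223472, 0, 17, 5646) (.node .leaf (223475, 0, 14, 178768) .leaf)) (223476, 0, 15, 157971) (.node (.node .leaf (223479, 0, 10, 251983) .leaf) (223481, 0, 17, 173500) (.node .leaf (223482, 0, 15, 32686) .leaf))) (223485, 0, 14, 55969) (.node (.node (.node .leaf (223486, 0, 14, 18061) .leaf) (223489, 0, 18, 150492)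 (.node .leaf (223490, 0, 17, 95854) .leaf)) (223493, 0, 16, 13505) (.node (.node .leaf (223494, 0, 17, 99741) .leaf) (223496, 0, 16, 63598) (.node .leaf (223499, 0, 17, 242576) .leaf))))) (223500, 0, 17, 146160) (.node (.node (.node (.node (.node .leaf (223503, 0, 17, 210479) .leaf) (223505, 0, 14, 15658) (.node .leaf (223506, 0, 17, 200251) .leaf)) (223509, 0, 18, 165723) (.node (.node .leaf (223510, 0, 17, 258923) .leaf) (223512, 0, 16, 31622) (.node .leaf (223515, 0, 18, 117701) .leaf))) (223516, 0, 16, 61829) (.node (.node (.node .leaf (223519, 0, 14, 82137) .leaf) (223521, 0, 17, 249304) (.node .leaf (223522, 0, 16, 165770) .leaf)) (223525, 0, 16, 259323) (.node (.node .leaf (223526, 0, 17, 63639) .leaf) (223528, 0, 18, 67622) (.node .leaf (223531, 0, 17, 47205) .leaf)))) (223532, 0, 12, 78085) (.node (.node (.node (.node .leaf (223535, 0, 16, 33094) .leaf) (223537, 0, 16, 112013) (.node .leaf (223538, 0, 17, 61820) .leaf)) (223541, 0, 17, 212797) (.node (.node .leaf (223542, 0, 13, 167521) .leaf) (223544, 0, 13, 258962)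 (.node .leaf (223547, 0, 18, 148174) .leaf))) (223548, 0, 18, 101519) (.node (.node (.node .leaf (223551, 0, 18, 194835) .leaf) (223552, 0, 19, 216269) (.node .leaf (223555, 0, 17, 129828) .leaf)) (223556, 0, 18, 226798) (.node (.node .leaf (223559, 0, 17, 230457) .leaf) (223561, 0, 15, 195018) (.node .leaf (223562, 0, 14, 14704) .leaf))))))

/-- part of the orbit tree -/
def itp6_419 : Tree := (.node (.node (.node (.node (.node (.node .leaf (223566, 0, 12, 79755) .leaf) (223568, 0, 18, 146574) (.node .leaf (223571, 0, 16, 34011) .leaf)) (223572, 0, 17, 69051) (.node (.node .leaf (223575, 0, 15, 127695) .leaf) (223577, 0, 17, 258406) (.node .leaf (223578, 0, 14, 81504) .leaf))) (223581, 0, 12, 192545) (.node (.node (.node .leaf (223582, 0, 16, 213373) .leaf) (223584, 0, 13, 79730) (.node .leaf (223587, 0, 15, 128891) .leaf)) (223588, 0, 15, 215151) (.node (.node .leaf (223591, 0, 16, 194867) .leaf) (223593, 0, 13, 164550) (.node .leaf (223594, 0, 17, 209541) .leaf)))) (223597, 0, 17, 179173) (.node (.node (.node (.node .leaf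 (223598, 0, 15, 19073) .leaf) (223600, 0, 17, 147309) (.node .leaf (223603, 0, 18, 192728) .leaf)) (223604, 0, 16, 81561) (.node (.node .leaf (223607, 0, 18, 36805) .leaf) (223609, 0, 17, 127542) (.node .leaf (223610, 0, 17, 17258) .leaf))) (223613, 0, 14, 232747) (.node (.node (.node .leaf (223614, 0, 12, 95219) .leaf) (223617, 0, 13, 151847) (.node .leaf (223618, 0, 14, 19177) .leaf)) (223621, 0, 17, 230568) (.node (.node .leaf (223622, 0, 17, 144884) .leaf) (223624, 0, 18, 38105) (.node .leaf (223627, 0, 17, 194907) .leaf))))) (223628, 0, 11, 44538) (.node (.node (.node (.node (.node .leaf (223631, 0, 16, 34374) .leaf) (223633, 0, 16, 10610) (.node .leaf (223634, 0, 17, 146463) .leaf)) (223637, 0, 18, 127582) (.node (.node .leaf (223638, 0, 17, 106514) .leaf) (223640, 0, 11, 81649) (.node .leaf (223643, 0, 14, 36781) .leaf))) (223644, 0, 13, 185775) (.node (.node (.node .leaf (223647, 0, 15, 192688) .leaf) (223649, 0, 17, 88786) (.node .leaf (223650, 0, 16, 79843) .leaf)) (223653, 0, 16, 91121) (.node (.node .leaf (223654,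 0, 16, 215294) .leaf) (223656, 0, 15, 144653) (.node .leaf (223659, 0, 14, 143215) .leaf)))) (223660, 0, 15, 18960) (.node (.node (.node (.node .leaf (223663, 0, 15, 136780) .leaf) (223665, 0, 16, 192585) (.node .leaf (223666, 0, 16, 213269) .leaf)) (223669, 0, 16, 203684) (.node (.node .leaf (223670, 0, 17, 175079) .leaf) (223672, 0, 18, 17403) (.node .leaf (223675, 0, 13, 22330) .leaf))) (223676, 0, 17, 146662) (.node (.node (.node .leaf (223679, 0, 17, 28185) .leaf) (223680, 0, 12, 260625) (.node .leaf (223683, 0, 17, 150349) .leaf)) (223684, 0, 18, 99596) (.node (.node .leaf (223687, 0, 16, 13392) .leaf) (223689, 0, 14, 84387) (.node .leaf (223690, 0, 14, 63743) .leaf))))))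

/-- part of the orbit tree -/
def itp6_420 : Tree := (.node (.node (.node (.node (.node (.node .leaf (223694, 0, 17, 165858) .leaf) (223696, 0, 16, 101607) (.node .leaf (223699, 0, 16, 15803) .leaf)) (223700, 0, 16, 259066) (.node (.node .leaf (223703, 0, 12, 148134) .leaf) (223705, 0, 18, 91756) (.node .leaf (223706, 0, 18, 167433) .leaf))) (223709, 0, 17, 89935) (.node (.node (.node .leaf (223710, 0, 16, 61716) .leaf) (223712, 0, 14, 184370) (.node .leaf (223715, 0, 14, 210503) .leaf)) (223716, 0, 17, 63494) (.node (.node .leaf (223719, 0, 13, 84314) .leaf) (223721, 0, 14, 5580) (.node .leaf (223722, 0, 18, 107919) .leaf)))) (223725, 0, 16, 150452) (.node (.node (.node (.node .leaf (223726, 0, 17, 105644) .leaf) (223728, 0, 13, 43111) (.node .leaf (223731, 0, 15, 71716) .leaf)) (223732, 0, 18, 167664) (.node (.node .leaf (223735, 0, 15, 212908) .leaf) (223737, 0, 15, 148063) (.node .leaf (223738, 0, 15, 258819) .leaf))) (223741, 0, 17, 152762) (.node (.node (.node .leaf (223742, 0, 17, 255225) .leaf) (223744, 0, 16, 239695)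 (.node .leaf (223745, 0, 17, 174355) .leaf)) (223748, 0, 14, 167712) (.node (.node .leaf (223749, 0, 16, 225546) .leaf) (223754, 0, 14, 56818) (.node .leaf (223755, 0, 17, 15764) .leaf))))) (223758, 0, 13, 58577) (.node (.node (.node (.node (.node .leaf (223759, 0, 16, 1207) .leaf) (223760, 0, 16, 165579) (.node .leaf (223761, 0, 16, 57317) .leaf)) (223764, 0, 16, 63958) (.node (.node .leaf (223765, 0, 16, 67935) .leaf) (223770, 0, 16, 173479) (.node .leaf (223771, 0, 15, 148929) .leaf))) (223774, 0, 16, 260920) (.node (.node (.node .leaf (223775, 0, 16, 107030) .leaf) (223776, 0, 17, 41914) (.node .leaf (223777, 0, 16, 250905) .leaf)) (223780, 0, 18, 258602) (.node (.node .leaf (223781, 0, 18, 31487) .leaf) (223786, 0, 17, 251399) (.node .leaf (223787, 0, 17, 55031) .leaf)))) (223790, 0, 16, 61636) (.node (.node (.node (.node .leaf (223791, 0, 13, 200514) .leaf) (223792, 0, 16, 187375) (.node .leaf (223793, 0, 18, 146313) .leaf)) (223796, 0, 17, 99548) (.node (.node .leaf (223797, 0, 18, 131754) .leaf) (223802, 0, 17, 110162)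 (.node .leaf (223803, 0, 13, 85556) .leaf))) (223806, 0, 17, 165426) (.node (.node (.node .leaf (223807, 0, 12, 57116) .leaf) (223810, 0, 11, 103148) (.node .leaf (223811, 0, 14, 94858) .leaf)) (223814, 0, 18, 81880) (.node (.node .leaf (223815, 0, 15, 222966) .leaf) (223816, 0, 15, 16939) .leaf)))))

/-- part of the orbit tree -/
def itp6_421 : Tree := (.node itp6_417 (223437, 0, 18, 250205) itp6_418)

/-- part of the orbit tree -/
def itp6_422 : Tree := (.node itp6_419 (223693, 0, 18, 206618) itp6_420)

/-- part of the orbit tree -/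
def itp6_423 : Tree := (.node itp6_415 (223050, 0, 17, 225716) itp6_416)

/-- part of the orbit tree -/
def itp6_424 : Tree := (.node itp6_421 (223565, 0, 16, 110608) itp6_422)

/-- part of the orbit tree -/
def itp6_425 : Tree := (.node (.node (.node (.node (.node (.node .leaf (223820, 0, 17, 188018) .leaf) (223821, 0, 15, 146964) (.node .leaf (223826, 0, 17, 79411) .leaf)) (223827, 0, 19, 199391) (.node (.node .leaf (223830, 0, 16, 215342) .leaf) (223831, 0, 17, 69632) (.node .leaf (223832, 0, 17, 144605) .leaf))) (223833, 0, 15, 32610) (.node (.node (.node .leaf (223836, 0, 18, 42535) .leaf) (223837, 0, 16, 17985) (.node .leaf (223842, 0, 17, 146895) .leaf)) (223843, 0, 14, 25825) (.node (.node .leaf (223846, 0, 16, 172090) .leaf) (223847, 0, 14, 138236) (.node .leaf (223848, 0, 17, 81697) .leaf)))) (223849, 0, 12, 68802) (.node (.node (.node (.node .leaf (223852, 0, 12, 213052) .leaf) (223853, 0, 18, 79329) (.node .leaf (223858, 0, 17, 57676) .leaf)) (223859, 0, 15, 135703) (.node (.node .leaf (223862, 0, 17, 144420) .leaf)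 (223863, 0, 13, 27914) (.node .leaf (223864, 0, 15, 234737) .leaf))) (223865, 0, 16, 226455) (.node (.node (.node .leaf (223868, 0, 17, 241106) .leaf) (223869, 0, 16, 225252) (.node .leaf (223872, 0, 15, 213076) .leaf)) (223873, 0, 15, 122659) (.node (.node .leaf (223876, 0, 15, 81737) .leaf) (223877, 0, 13, 222823) (.node .leaf (223882, 0, 15, 150264) .leaf))))) (223883, 0, 11, 174750) (.node (.node (.node (.node (.node .leaf (223886, 0, 18, 160731) .leaf) (223887, 0, 15, 168893) (.node .leaf (223888, 0, 14, 214800) .leaf)) (223889, 0, 15, 225164) (.node (.node .leaf (223892, 0, 17, 215487) .leaf) (223893, 0, 14, 237141) (.node .leaf (223898, 0, 18, 144460) .leaf))) (223899, 0, 17, 53963) (.node (.node (.node .leaf (223902, 0, 19, 19281) .leaf) (223903, 0, 16, 60392) (.node .leaf (223904, 0, 15, 146782) .leaf)) (223905, 0, 16, 185558) (.node (.node .leaf (223908, 0, 18, 134547) .leaf) (223909, 0, 16, 138093) (.node .leaf (223914, 0, 17, 81840) .leaf)))) (223915, 0, 13, 222878) (.node (.node (.node (.node .leaf (223918, 0,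 17, 96302) .leaf) (223919, 0, 17, 72067) (.node .leaf (223920, 0, 15, 19368) .leaf)) (223921, 0, 14, 135814) (.node (.node .leaf (223924, 0, 17, 30150) .leaf) (223925, 0, 19, 38304) (.node .leaf (223930, 0, 15, 211288) .leaf))) (223931, 0, 13, 69736) (.node (.node (.node .leaf (223934, 0, 13, 79451) .leaf) (223935, 0, 17, 253981) (.node .leaf (223938, 0, 18, 198118) .leaf)) (223939, 0, 14, 255360) (.node (.node .leaf (223942, 0, 17, 167857) .leaf) (223943, 0, 16, 253091) (.node .leaf (223944, 0, 14, 258626) .leaf))))))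

/-- part of the orbit tree -/
def itp6_426 : Tree := (.node (.node (.node (.node (.node (.node .leaf (223948, 0, 16, 101727) .leaf) (223949, 0, 15, 250993) (.node .leaf (223954, 0, 14, 97715) .leaf)) (223955, 0, 18, 105941) (.node (.node .leaf (223958, 0, 12, 63815) .leaf) (223959, 0, 17, 172137) (.node .leaf (223960, 0, 11, 99508) .leaf))) (223961, 0, 17, 190568) (.node (.node (.node .leaf (223964, 0, 17, 261033) .leaf) (223965, 0, 17, 184651) (.node .leaf (223970, 0, 16, 3603) .leaf)) (223971, 0, 16, 61045) (.node (.node .leaf (223974, 0, 13, 258747) .leaf) (223975, 0, 12, 109461) (.node .leaf (223976, 0, 16, 228270) .leaf)))) (223977, 0, 14, 54886) (.node (.node (.node (.node .leaf (223980, 0, 13, 61525) .leaf) (223981, 0, 18, 238315) (.node .leaf (223986, 0, 16, 161350) .leaf)) (223987, 0, 14, 169504) (.node (.node .leaf (223990, 0, 15, 99405) .leaf) (223991, 0, 16, 253283) (.node .leaf (223992, 0, 18, 66555) .leaf))) (223993, 0, 15, 123805) (.node (.node (.node .leaf (223996, 0, 13, 165539) .leaf) (223997, 0, 13, 121534)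 (.node .leaf (224000, 0, 13, 6110) .leaf)) (224001, 0, 16, 59997) (.node (.node .leaf (224004, 0, 17, 13080) .leaf) (224005, 0, 18, 12781) (.node .leaf (224010, 0, 17, 229254) .leaf))))) (224011, 0, 17, 85022) (.node (.node (.node (.node (.node .leaf (224014, 0, 16, 214693) .leaf) (224015, 0, 17, 239299) (.node .leaf (224016, 0, 15, 160366) .leaf)) (224017, 0, 18, 14342) (.node (.node .leaf (224020, 0, 16, 7733) .leaf) (224021, 0, 17, 174891) (.node .leaf (224026, 0, 14, 67539) .leaf))) (224027, 0, 15, 211688) (.node (.node (.node .leaf (224030, 0, 14, 203995) .leaf) (224031, 0, 12, 83445) (.node .leaf (224032, 0, 15, 197070) .leaf)) (224033, 0, 12, 254376) (.node (.node .leaf (224036, 0, 18, 211181) .leaf) (224037, 0, 15, 85223) (.node .leaf (224042, 0, 16, 157754) .leaf)))) (224043, 0, 16, 12564) (.node (.node (.node (.node .leaf (224046, 0, 16, 5927) .leaf) (224047, 0, 18, 151049) (.node .leaf (224048, 0, 17, 203810) .leaf)) (224049, 0, 17, 83212) (.node (.node .leaf (224052, 0, 16, 90943) .leaf) (224053, 0, 13, 211473)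 (.node .leaf (224058, 0, 16, 7884) .leaf))) (224059, 0, 12, 191552) (.node (.node (.node .leaf (224062, 0, 16, 156113) .leaf) (224063, 0, 16, 14591) (.node .leaf (224066, 0, 16, 239398) .leaf)) (224067, 0, 11, 184574) (.node (.node .leaf (224070, 0, 18, 120891) .leaf) (224071, 0, 16, 229653) (.node .leaf (224072, 0, 16, 83237) .leaf))))))

/-- part of the orbit tree -/
def itp6_427 : Tree := (.node (.node (.node (.node (.node (.node .leaf (224076, 0, 17, 187093) .leaf) (224077, 0, 15, 33787) (.node .leaf (224082, 0, 17, 18637) .leaf)) (224083, 0, 16, 43179) (.node (.node .leaf (224086, 0, 16, 241357) .leaf) (224087, 0, 17, 128995) (.node .leaf (224088, 0, 16, 185150) .leaf))) (224089, 0, 18, 253206) (.node (.node (.node .leaf (224092, 0, 17, 44067) .leaf) (224093, 0, 15, 255029) (.node .leaf (224098, 0, 18, 80749) .leaf)) (224099, 0, 17, 121611) (.node (.node .leaf (224102, 0, 15, 66126) .leaf) (224103, 0, 16, 195615) (.node .leaf (224104, 0, 16, 121026) .leaf)))) (224105, 0, 16, 175798) (.node (.node (.node (.node .leaf (224108,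 0, 16, 239583) .leaf) (224109, 0, 14, 130801) (.node .leaf (224114, 0, 17, 44250) .leaf)) (224115, 0, 15, 194036) (.node (.node .leaf (224118, 0, 16, 185287) .leaf) (224119, 0, 13, 35561) (.node .leaf (224120, 0, 17, 13957) .leaf))) (224121, 0, 17, 55011) (.node (.node (.node .leaf (224124, 0, 17, 119081) .leaf) (224125, 0, 16, 61376) (.node .leaf (224128, 0, 18, 171313) .leaf)) (224129, 0, 17, 163159) (.node (.node .leaf (224132, 0, 17, 173074) .leaf) (224133, 0, 16, 229764) (.node .leaf (224138, 0, 16, 125068) .leaf))))) (224139, 0, 16, 67818) (.node (.node (.node (.node (.node .leaf (224142, 0, 16, 186948) .leaf) (224143, 0, 16, 78281) (.node .leaf (224144, 0, 15, 58724) .leaf)) (224145, 0, 14, 231535) (.node (.node .leaf (224148, 0, 17, 56391) .leaf) (224149, 0, 16, 128882) (.node .leaf (224154, 0, 13, 185263) .leaf))) (224155, 0, 18, 225471) (.node (.node (.node .leaf (224158, 0, 11, 240122) .leaf) (224159, 0, 17, 193948) (.node .leaf (224160, 0, 14, 104132) .leaf)) (224161, 0, 15, 95906) (.node (.node .leaf (224164, 0,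 15, 110567) .leaf) (224165, 0, 17, 85889) (.node .leaf (224170, 0, 18, 189305) .leaf)))) (224171, 0, 16, 229757) (.node (.node (.node (.node .leaf (224174, 0, 18, 186970) .leaf) (224175, 0, 17, 130656) (.node .leaf (224176, 0, 15, 44107) .leaf)) (224177, 0, 15, 200439) (.node (.node .leaf (224180, 0, 16, 251826) .leaf) (224181, 0, 17, 35448) (.node .leaf (224186, 0, 15, 241317) .leaf))) (224187, 0, 14, 128907) (.node (.node (.node .leaf (224190, 0, 12, 41487) .leaf) (224191, 0, 15, 231574) (.node .leaf (224194, 0, 14, 42898) .leaf)) (224195, 0, 15, 18420) (.node (.node .leaf (224198, 0, 13, 40625) .leaf) (224199, 0, 14, 32471) (.node .leaf (224200, 0, 17, 250415) .leaf))))))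

/-- part of the orbit tree -/
def itp6_428 : Tree := (.node (.node (.node (.node (.node (.node .leaf (224204, 0, 18, 256780) .leaf) (224205, 0, 14, 199530) (.node .leaf (224210, 0, 17, 156089) .leaf)) (224211, 0, 15, 14487) (.node (.node .leaf (224214, 0, 14, 190180) .leaf) (224215, 0, 14, 149386) (.node .leaf (224216, 0, 17, 109178) .leaf))) (224217, 0, 18, 211577) (.node (.node (.node .leaf (224220, 0, 15, 103257) .leaf) (224221, 0, 15, 83300) (.node .leaf (224226, 0, 11, 92741) .leaf)) (224227, 0, 15, 216065) (.node (.node .leaf (224230, 0, 16, 234820) .leaf) (224231, 0, 17, 85110) (.node .leaf (224232, 0, 18, 157867) .leaf)))) (224233, 0, 15, 14780) (.node (.node (.node (.node .leaf (224236, 0, 17, 57593) .leaf) (224237, 0, 16, 151192) (.node .leaf (224242, 0, 16, 119858) .leaf)) (224243, 0, 17, 78932) (.node (.node .leaf (224246, 0, 18, 91054) .leaf) (224247, 0, 18, 68983) (.node .leaf (224248, 0, 16, 172431) .leaf))) (224249, 0, 17, 147945) (.node (.node (.node .leaf (224252, 0, 15, 170156) .leaf) (224253, 0, 15, 14446)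 (.node .leaf (224256, 0, 17, 171671) .leaf)) (224258, 0, 15, 4247) (.node (.node .leaf (224260, 0, 16, 100344) .leaf) (224262, 0, 13, 259985) (.node .leaf (224265, 0, 13, 84823) .leaf))))) (224267, 0, 16, 172837) (.node (.node (.node (.node (.node .leaf (224269, 0, 17, 25162) .leaf) (224271, 0, 16, 78447) (.node .leaf (224272, 0, 17, 101907) .leaf)) (224274, 0, 13, 157281) (.node (.node .leaf (224276, 0, 18, 57313) .leaf) (224278, 0, 14, 6524) (.node .leaf (224281, 0, 14, 212385) .leaf))) (224283, 0, 15, 226073) (.node (.node (.node .leaf (224285, 0, 14, 137759) .leaf) (224287, 0, 14, 215610) (.node .leaf (224288, 0, 16, 103778) .leaf)) (224290, 0, 17, 50503) (.node (.node .leaf (224292, 0, 16, 64242) .leaf) (224294, 0, 18, 201344) (.node .leaf (224297, 0, 18, 13917) .leaf)))) (224299, 0, 17, 253487) (.node (.node (.node (.node .leaf (224301, 0, 17, 149824) .leaf) (224303, 0, 15, 145818) (.node .leaf (224304, 0, 10, 62233) .leaf)) (224306, 0, 16, 203627) (.node (.node .leaf (224308, 0, 17, 250900) .leaf) (224310, 0, 17, 164913)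 (.node .leaf (224313, 0, 18, 147627) .leaf))) (224315, 0, 13, 108761) (.node (.node (.node .leaf (224317, 0, 16, 16310) .leaf) (224319, 0, 13, 251844) (.node .leaf (224321, 0, 16, 129345) .leaf)) (224323, 0, 13, 17490) (.node (.node .leaf (224325, 0, 15, 231004) .leaf) (224327, 0, 12, 32113) (.node .leaf (224328, 0, 19, 250249) .leaf))))))

/-- part of the orbit tree -/
def itp6_429 : Tree := (.node itp6_425 (223945, 0, 17, 36925) itp6_426)

/-- part of the orbit tree -/
def itp6_430 : Tree := (.node itp6_427 (224201, 0, 18, 85135) itp6_428)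

/-- part of the orbit tree -/
def itp6_431 : Tree := (.node (.node (.node (.node (.node (.node .leaf (224332, 0, 16, 79342) .leaf) (224334, 0, 18, 187804) (.node .leaf (224337, 0, 18, 233399) .leaf)) (224339, 0, 16, 146439) (.node (.node .leaf (224341, 0, 15, 127146) .leaf) (224343, 0, 18, 137432) (.node .leaf (224344, 0, 15, 80901) .leaf))) (224346, 0, 16, 185463) (.node (.node (.node .leaf (224348, 0, 14, 102655) .leaf) (224350, 0, 12, 49370) (.node .leaf (224353, 0, 15, 139138) .leaf)) (224355, 0, 16, 216999) (.node (.node .leaf (224357, 0, 15, 140961) .leaf) (224359, 0, 16, 226948) (.node .leaf (224360, 0, 15, 145401) .leaf)))) (224362, 0, 17, 122763) (.node (.node (.node (.node .leaf (224364, 0, 15, 58207) .leaf) (224366, 0, 16, 111482) (.node .leaf (224369, 0, 12, 26583) .leaf)) (224371, 0, 16, 72399) (.node (.node .leaf (224373, 0, 17, 36256) .leaf) (224375, 0, 17, 69329) (.node .leaf (224376, 0, 17, 172585) .leaf))) (224378, 0, 17, 239997) (.node (.node (.node .leaf (224380, 0, 17, 170762) .leaf) (224382, 0, 17, 248623)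 (.node .leaf (224384, 0, 17, 2461) .leaf)) (224386, 0, 18, 88504) (.node (.node .leaf (224388, 0, 17, 12478) .leaf) (224390, 0, 16, 90267) (.node .leaf (224393, 0, 11, 183395) .leaf))))) (224395, 0, 16, 236614) (.node (.node (.node (.node (.node .leaf (224397, 0, 19, 33827) .leaf) (224399, 0, 17, 238949) (.node .leaf (224400, 0, 17, 147066) .leaf)) (224402, 0, 17, 205293) (.node (.node .leaf (224404, 0, 15, 16743) .leaf) (224406, 0, 15, 202958) (.node .leaf (224409, 0, 16, 36296) .leaf))) (224411, 0, 16, 222650) (.node (.node (.node .leaf (224413, 0, 16, 193237) .leaf) (224415, 0, 15, 122160) (.node .leaf (224416, 0, 16, 197224) .leaf)) (224418, 0, 14, 187892) (.node (.node .leaf (224420, 0, 16, 211787) .leaf) (224422, 0, 17, 41705) (.node .leaf (224425, 0, 16, 230964) .leaf)))) (224427, 0, 15, 38835) (.node (.node (.node (.node .leaf (224429, 0, 16, 130741) .leaf) (224431, 0, 18, 44688) (.node .leaf (224432, 0, 15, 96829) .leaf)) (224434, 0, 16, 43778) (.node (.node .leaf (224436, 0, 17, 81005) .leaf) (224438, 0, 14, 4923)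 (.node .leaf (224441, 0, 17, 245699) .leaf))) (224443, 0, 13, 192486) (.node (.node (.node .leaf (224445, 0, 19, 233439) .leaf) (224447, 0, 18, 26541) (.node .leaf (224449, 0, 16, 230269) .leaf)) (224451, 0, 19, 185176) (.node (.node .leaf (224453, 0, 17, 244318) .leaf) (224455, 0, 13, 191099) (.node .leaf (224456, 0, 17, 83587) .leaf))))))

/-- part of the orbit tree -/
def itp6_432 : Tree := (.node (.node (.node (.node (.node (.node .leaf (224460, 0, 17, 165255) .leaf) (224462, 0, 10, 12165) (.node .leaf (224465, 0, 15, 16350) .leaf)) (224467, 0, 15, 43789) (.node (.node .leaf (224469, 0, 16, 115211) .leaf) (224471, 0, 17, 108721) (.node .leaf (224472, 0, 17, 212694) .leaf))) (224474, 0, 16, 91166) (.node (.node (.node .leaf (224476, 0, 18, 62321) .leaf) (224478, 0, 16, 153552) (.node .leaf (224481, 0, 16, 34952) .leaf)) (224483, 0, 17, 56400) (.node (.node .leaf (224485, 0, 14, 45483) .leaf) (224487, 0, 17, 123278) (.node .leaf (224488, 0, 15, 150902) .leaf)))) (224490, 0, 17, 204115) (.node (.node (.node (.node .leaf (224492,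 0, 17, 260237) .leaf) (224494, 0, 13, 4351) (.node .leaf (224497, 0, 18, 192733) .leaf)) (224499, 0, 18, 174758) (.node (.node .leaf (224501, 0, 17, 212425) .leaf) (224503, 0, 15, 54715) (.node .leaf (224504, 0, 16, 13603) .leaf))) (224506, 0, 17, 6420) (.node (.node (.node .leaf (224508, 0, 13, 3072) .leaf) (224510, 0, 14, 89125) (.node .leaf (224512, 0, 17, 81123) .leaf)) (224514, 0, 17, 63348) (.node (.node .leaf (224516, 0, 7, 90139) .leaf) (224518, 0, 15, 165993) (.node .leaf (224521, 0, 18, 260381) .leaf))))) (224523, 0, 16, 148678) (.node (.node (.node (.node (.node .leaf (224525, 0, 17, 250793) .leaf) (224527, 0, 15, 167963) (.node .leaf (224528, 0, 9, 92656) .leaf)) (224530, 0, 14, 164226) (.node (.node .leaf (224532, 0, 17, 228757) .leaf) (224534, 0, 17, 65183) (.node .leaf (224537, 0, 15, 252482) .leaf))) (224539, 0, 17, 53613) (.node (.node (.node .leaf (224541, 0, 14, 112747) .leaf) (224543, 0, 18, 150829) (.node .leaf (224544, 0, 13, 145174) .leaf)) (224546, 0, 15, 223027) (.node (.node .leaf (224548, 0, 17, 7441)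 .leaf) (224550, 0, 14, 220688) (.node .leaf (224553, 0, 16, 62184) .leaf)))) (224555, 0, 14, 107213) (.node (.node (.node (.node .leaf (224557, 0, 14, 52171) .leaf) (224559, 0, 15, 105454) (.node .leaf (224560, 0, 18, 5370) .leaf)) (224562, 0, 14, 261256) (.node (.node .leaf (224564, 0, 17, 158695) .leaf) (224566, 0, 12, 99221) (.node .leaf (224569, 0, 11, 173896) .leaf))) (224571, 0, 16, 85818) (.node (.node (.node .leaf (224573, 0, 15, 177054) .leaf) (224575, 0, 17, 254907) (.node .leaf (224577, 0, 16, 177667) .leaf)) (224579, 0, 17, 194256) (.node (.node .leaf (224581, 0, 14, 167712) .leaf) (224583, 0, 16, 35277) (.node .leaf (224584, 0, 17, 240912) .leaf))))))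

/-- part of the orbit tree -/
def itp6_433 : Tree := (.node (.node (.node (.node (.node (.node .leaf (224588, 0, 16, 119309) .leaf) (224590, 0, 15, 72443) (.node .leaf (224593, 0, 14, 223316) .leaf)) (224595, 0, 15, 32806) (.node (.node .leaf (224597, 0, 14, 71497) .leaf) (224599, 0, 18, 196411) (.node .leaf (224600, 0, 15, 121830) .leaf))) (224602, 0, 13, 220045) (.node (.node (.node .leaf (224604, 0, 16, 238843) .leaf) (224606, 0, 13, 221870) (.node .leaf (224609, 0, 16, 25512) .leaf)) (224611, 0, 18, 60883) (.node (.node .leaf (224613, 0, 14, 138421) .leaf) (224615, 0, 18, 128199) (.node .leaf (224616, 0, 15, 184346) .leaf)))) (224618, 0, 18, 141357) (.node (.node (.node (.node .leaf (224620, 0, 15, 44807) .leaf) (224622, 0, 13, 214901) (.node .leaf (224625, 0, 14, 247203) .leaf)) (224627, 0, 14, 130348) (.node (.node .leaf (224629, 0, 17, 27203) .leaf) (224631, 0, 14, 175269) (.node .leaf (224632, 0, 16, 65629) .leaf))) (224634, 0, 15, 20600) (.node (.node (.node .leaf (224636, 0, 17, 186865) .leaf) (224638, 0, 13, 26971)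 (.node .leaf (224640, 0, 17, 240617) .leaf)) (224642, 0, 15, 214813) (.node (.node .leaf (224644, 0, 18, 184434) .leaf) (224646, 0, 16, 180975) (.node .leaf (224649, 0, 15, 138461) .leaf))))) (224651, 0, 16, 15922) (.node (.node (.node (.node (.node .leaf (224653, 0, 18, 25536) .leaf) (224655, 0, 16, 232370) (.node .leaf (224656, 0, 15, 119740) .leaf)) (224658, 0, 18, 33689) (.node (.node .leaf (224660, 0, 17, 125599) .leaf) (224662, 0, 17, 216822) (.node .leaf (224665, 0, 16, 27179) .leaf))) (224667, 0, 15, 229977) (.node (.node (.node .leaf (224669, 0, 17, 208737) .leaf) (224671, 0, 15, 130372) (.node .leaf (224672, 0, 16, 119397) .leaf)) (224674, 0, 15, 145943) (.node (.node .leaf (224676, 0, 17, 39231) .leaf) (224678, 0, 15, 117018) (.node .leaf (224681, 0, 17, 221655) .leaf)))) (224683, 0, 15, 210375) (.node (.node (.node (.node .leaf (224685, 0, 15, 154817) .leaf) (224687, 0, 13, 199908) (.node .leaf (224688, 0, 12, 238739) .leaf)) (224690, 0, 14, 231532) (.node (.node .leaf (224692, 0, 17, 121742) .leaf) (224694, 0,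 15, 144380) (.node .leaf (224697, 0, 16, 71457) .leaf))) (224699, 0, 15, 196435) (.node (.node (.node .leaf (224701, 0, 17, 223292) .leaf) (224703, 0, 17, 32846) (.node .leaf (224705, 0, 15, 175819) .leaf)) (224707, 0, 17, 83641) (.node (.node .leaf (224709, 0, 15, 6186) .leaf) (224711, 0, 17, 211364) (.node .leaf (224712, 0, 17, 189687) .leaf))))))

/-- part of the orbit tree -/
def itp6_434 : Tree := (.node (.node (.node (.node (.node (.node .leaf (224716, 0, 10, 156260) .leaf) (224718, 0, 16, 232945) (.node .leaf (224721, 0, 18, 153948) .leaf)) (224723, 0, 17, 208975) (.node (.node .leaf (224725, 0, 17, 155775) .leaf) (224727, 0, 17, 208986) (.node .leaf (224728, 0, 18, 40098) .leaf))) (224730, 0, 16, 99325) (.node (.node (.node .leaf (224732, 0, 18, 5266) .leaf) (224734, 0, 18, 261344) (.node .leaf (224737, 0, 15, 207612) .leaf)) (224739, 0, 15, 162521) (.node (.node .leaf (224741, 0, 9, 201695) .leaf) (224743, 0, 18, 148474) (.node .leaf (224744, 0, 17, 126722) .leaf)))) (224746, 0, 17, 48935) (.node (.node (.node (.node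 .leaf (224748, 0, 18, 204654) .leaf) (224750, 0, 15, 34308) (.node .leaf (224753, 0, 14, 107831) .leaf)) (224755, 0, 16, 150853) (.node (.node .leaf (224757, 0, 16, 252458) .leaf) (224759, 0, 18, 12888) (.node .leaf (224760, 0, 14, 202373) .leaf))) (224762, 0, 11, 182130) (.node (.node (.node .leaf (224764, 0, 16, 241268) .leaf) (224766, 0, 17, 196177) (.node .leaf (224776, 0, 16, 202581) .leaf)) (224777, 0, 16, 30489) (.node (.node .leaf (224778, 0, 17, 65319) .leaf) (224779, 0, 17, 173577) (.node .leaf (224780, 0, 14, 92232) .leaf))))) (224781, 0, 6, 209254) (.node (.node (.node (.node (.node .leaf (224782, 0, 14, 130681) .leaf) (224783, 0, 17, 55572) (.node .leaf (224792, 0, 15, 192298) .leaf)) (224793, 0, 15, 134988) (.node (.node .leaf (224794, 0, 17, 245519) .leaf) (224795, 0, 13, 53503) (.node .leaf (224796, 0, 17, 185865) .leaf))) (224797, 0, 13, 83856) (.node (.node (.node .leaf (224798, 0, 16, 230956) .leaf) (224799, 0, 18, 222794) (.node .leaf (224808, 0, 14, 158303) .leaf)) (224809, 0, 10, 228588) (.node (.node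 .leaf (224810, 0, 17, 98861) .leaf) (224811, 0, 18, 142537) (.node .leaf (224812, 0, 11, 5442) .leaf)))) (224813, 0, 17, 214479) (.node (.node (.node (.node .leaf (224814, 0, 17, 193932) .leaf) (224815, 0, 17, 136682) (.node .leaf (224824, 0, 16, 7337) .leaf)) (224825, 0, 13, 148871) (.node (.node .leaf (224826, 0, 16, 259291) .leaf) (224827, 0, 17, 110069) (.node .leaf (224828, 0, 16, 122364) .leaf))) (224829, 0, 16, 81306) (.node (.node (.node .leaf (224830, 0, 16, 36313) .leaf) (224831, 0, 19, 28095) (.node .leaf (224832, 0, 16, 238915) .leaf)) (224833, 0, 14, 79879) (.node (.node .leaf (224834, 0, 15, 34884) .leaf) (224835, 0, 16, 26658) .leaf)))))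

/-- part of the orbit tree -/
def itp6_435 : Tree := (.node itp6_431 (224458, 0, 12, 5798) itp6_432)

/-- part of the orbit tree -/
def itp6_436 : Tree := (.node itp6_433 (224714, 0, 10, 259339) itp6_434)

/-- part of the orbit tree -/
def itp6_437 : Tree := (.node itp6_429 (224073, 0, 19, 107843) itp6_430)

/-- part of the orbit tree -/
def itp6_438 : Tree := (.node itp6_435 (224586, 0, 13, 17762) itp6_436)

/-- part of the orbit tree -/
def itp6_439 : Tree := (.node itp6_423 (223309, 0, 13, 24884) itp6_424)

/-- part of the orbit tree -/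
def itp6_440 : Tree := (.node itp6_437 (224330, 0, 14, 41601) itp6_438)

/-- part of the orbit tree -/
def itp6_441 : Tree := (.node itp6_409 (221773, 0, 16, 8487) itp6_410)

/-- part of the orbit tree -/
def itp6_442 : Tree := (.node itp6_439 (223817, 0, 17, 137989) itp6_440)

/-- part of the orbit tree -/
def itp6_443 : Tree := (.node (.node (.node (.node (.node (.node .leaf (224837, 0, 17, 230256) .leaf) (224838, 0, 14, 143916) (.node .leaf (224839, 0, 17, 27394) .leaf)) (224848, 0, 16, 119733) (.node (.node .leaf (224849, 0, 16, 232091) .leaf) (224850, 0, 15, 146375) (.node .leaf (224851, 0, 15, 135287) .leaf))) (224852, 0, 16, 235799) (.node (.node (.node .leaf (224853, 0, 18, 128390) .leaf) (224854, 0, 16, 17626) (.node .leaf (224855, 0, 14, 141652) .leaf)) (224864, 0, 17, 185236) (.node (.node .leaf (224865, 0, 14, 33127) .leaf) (224866, 0, 12, 77883) (.node .leaf (224867, 0, 18, 222167) .leaf)))) (224868, 0, 13, 42836) (.node (.node (.node (.node .leaf (224869, 0, 11, 196218) .leaf) (224870, 0, 16, 244370) (.node .leaf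 (224871, 0, 16, 219892) .leaf)) (224880, 0, 14, 43969) (.node (.node .leaf (224881, 0, 17, 19367) .leaf) (224882, 0, 15, 214733) (.node .leaf (224883, 0, 16, 72578) .leaf))) (224884, 0, 15, 184738) (.node (.node (.node .leaf (224885, 0, 18, 34956) .leaf) (224886, 0, 14, 115399) (.node .leaf (224887, 0, 16, 221438) .leaf)) (224904, 0, 16, 42812) (.node (.node .leaf (224905, 0, 19, 188435) .leaf) (224906, 0, 14, 216910) (.node .leaf (224907, 0, 16, 71264) .leaf))))) (224908, 0, 18, 145750) (.node (.node (.node (.node (.node .leaf (224909, 0, 16, 33039) .leaf) (224910, 0, 19, 77907) (.node .leaf (224911, 0, 15, 223613) .leaf)) (224920, 0, 15, 30752) (.node (.node .leaf (224921, 0, 15, 38982) .leaf) (224922, 0, 18, 80312) (.node .leaf (224923, 0, 14, 116835) .leaf))) (224924, 0, 13, 16643) (.node (.node (.node .leaf (224925, 0, 16, 194553) .leaf) (224926, 0, 16, 214693) (.node .leaf (224927, 0, 10, 73611) .leaf)) (224936, 0, 12, 68480) (.node (.node .leaf (224937, 0, 16, 125926) .leaf) (224938, 0, 16, 23461) (.node .leaf (224939,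 0, 14, 27498) .leaf)))) (224940, 0, 15, 238891) (.node (.node (.node (.node .leaf (224941, 0, 15, 119493) .leaf) (224942, 0, 11, 19801) (.node .leaf (224943, 0, 18, 136311) .leaf)) (224952, 0, 16, 226261) (.node (.node .leaf (224953, 0, 17, 234419) .leaf) (224954, 0, 16, 17586) (.node .leaf (224955, 0, 15, 181142) .leaf))) (224956, 0, 16, 215798) (.node (.node (.node .leaf (224957, 0, 17, 232179) .leaf) (224958, 0, 18, 137939) (.node .leaf (224959, 0, 16, 195253) .leaf)) (224960, 0, 16, 216939) (.node (.node .leaf (224961, 0, 15, 241421) .leaf) (224962, 0, 17, 261464) (.node .leaf (224963, 0, 16, 107638) .leaf))))))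

/-- part of the orbit tree -/
def itp6_444 : Tree := (.node (.node (.node (.node (.node (.node .leaf (224965, 0, 18, 235054) .leaf) (224966, 0, 14, 98885) (.node .leaf (224967, 0, 15, 252779) .leaf)) (224976, 0, 16, 156636) (.node (.node .leaf (224977, 0, 15, 120664) .leaf) (224978, 0, 17, 26395) (.node .leaf (224979, 0, 17, 250496) .leaf))) (224980, 0, 18, 7361) (.node (.node (.node .leaf (224981, 0, 17, 148975) .leaf) (224982, 0, 15, 259251) (.node .leaf (224983, 0, 14, 109981) .leaf)) (224992, 0, 18, 17566) (.node (.node .leaf (224993, 0, 17, 42232) .leaf) (224994, 0, 14, 163922) (.node .leaf (224995, 0, 16, 128221) .leaf)))) (224996, 0, 15, 32189) (.node (.node (.node (.node .leaf (224997, 0, 17, 40411) .leaf) (224998, 0, 15, 77208) (.node .leaf (224999, 0, 15, 173665) .leaf)) (225008, 0, 17, 204502) (.node (.node .leaf (225009, 0, 17, 83960) .leaf) (225010, 0, 14, 224494) (.node .leaf (225011, 0, 16, 232584) .leaf))) (225012, 0, 12, 90571) (.node (.node (.node .leaf (225013, 0, 14, 211173) .leaf) (225014, 0, 12, 166329)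 (.node .leaf (225015, 0, 15, 243115) .leaf)) (225032, 0, 16, 210187) (.node (.node .leaf (225033, 0, 17, 251245) .leaf) (225034, 0, 17, 6340) (.node .leaf (225035, 0, 17, 147946) .leaf))))) (225036, 0, 15, 102315) (.node (.node (.node (.node (.node .leaf (225037, 0, 16, 257102) .leaf) (225038, 0, 19, 154637) (.node .leaf (225039, 0, 18, 179307) .leaf)) (225048, 0, 18, 99904) (.node (.node .leaf (225049, 0, 16, 253806) .leaf) (225050, 0, 18, 159282) (.node .leaf (225051, 0, 17, 64797) .leaf))) (225052, 0, 12, 95357) (.node (.node (.node .leaf (225053, 0, 18, 103451) .leaf) (225054, 0, 14, 4399) (.node .leaf (225055, 0, 13, 50238) .leaf)) (225064, 0, 14, 16126) (.node (.node .leaf (225065, 0, 18, 54418) .leaf) (225066, 0, 17, 93915) (.node .leaf (225067, 0, 16, 102077) .leaf)))) (225068, 0, 12, 2013) (.node (.node (.node (.node .leaf (225069, 0, 17, 174991) .leaf) (225070, 0, 11, 203475) (.node .leaf (225071, 0, 17, 112542) .leaf)) (225080, 0, 17, 149163) (.node (.node .leaf (225081, 0, 15, 172644) .leaf) (225082, 0, 16, 201528)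 (.node .leaf (225083, 0, 16, 84502) .leaf))) (225084, 0, 16, 164951) (.node (.node (.node .leaf (225085, 0, 18, 172014) .leaf) (225086, 0, 17, 93221) (.node .leaf (225087, 0, 16, 210187) .leaf)) (225088, 0, 13, 213664) (.node (.node .leaf (225089, 0, 18, 170611) .leaf) (225090, 0, 16, 43730) (.node .leaf (225091, 0, 16, 193532) .leaf))))))

/-- part of the orbit tree -/
def itp6_445 : Tree := (.node (.node (.node (.node (.node (.node .leaf (225093, 0, 16, 222355) .leaf) (225094, 0, 16, 185807) (.node .leaf (225095, 0, 16, 36065) .leaf)) (225104, 0, 14, 576) (.node (.node .leaf (225105, 0, 16, 57894) .leaf) (225106, 0, 15, 187428) (.node .leaf (225107, 0, 13, 111107) .leaf))) (225108, 0, 16, 15203) (.node (.node (.node .leaf (225109, 0, 17, 70245) .leaf) (225110, 0, 11, 41785) (.node .leaf (225111, 0, 15, 195095) .leaf)) (225120, 0, 14, 94688) (.node (.node .leaf (225121, 0, 16, 26244) .leaf) (225122, 0, 16, 8645) (.node .leaf (225123, 0, 15, 233206) .leaf)))) (225124, 0, 18, 84163) (.node (.node (.node (.node .leaf (225125,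 0, 16, 108709) .leaf) (225126, 0, 14, 239813) (.node .leaf (225127, 0, 16, 127467) .leaf)) (225136, 0, 15, 199093) (.node (.node .leaf (225137, 0, 18, 256467) .leaf) (225138, 0, 16, 154000) (.node .leaf (225139, 0, 17, 178678) .leaf))) (225140, 0, 16, 144961) (.node (.node (.node .leaf (225141, 0, 16, 28527) .leaf) (225142, 0, 16, 122419) (.node .leaf (225143, 0, 16, 231197) .leaf)) (225160, 0, 17, 107009) (.node (.node .leaf (225161, 0, 12, 82535) .leaf) (225162, 0, 14, 61988) (.node .leaf (225163, 0, 18, 127363) .leaf))))) (225164, 0, 14, 147394) (.node (.node (.node (.node (.node .leaf (225165, 0, 16, 26348) .leaf) (225166, 0, 17, 51975) (.node .leaf (225167, 0, 14, 11105) .leaf)) (225176, 0, 14, 144937) (.node (.node .leaf (225177, 0, 15, 211506) .leaf) (225178, 0, 14, 122459) (.node .leaf (225179, 0, 14, 158231) .leaf))) (225180, 0, 15, 254839) (.node (.node (.node .leaf (225181, 0, 17, 135194) .leaf) (225182, 0, 17, 176978) (.node .leaf (225183, 0, 15, 129128) .leaf)) (225192, 0, 14, 174580) (.node (.node .leaf (225193,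 0, 12, 149906) .leaf) (225194, 0, 17, 185767) (.node .leaf (225195, 0, 9, 203191) .leaf)))) (225196, 0, 17, 213704) (.node (.node (.node (.node .leaf (225197, 0, 17, 159921) .leaf) (225198, 0, 16, 43706) (.node .leaf (225199, 0, 18, 193428) .leaf)) (225208, 0, 17, 53665) (.node (.node .leaf (225209, 0, 15, 70157) .leaf) (225210, 0, 18, 98692) (.node .leaf (225211, 0, 15, 90594) .leaf))) (225212, 0, 16, 59522) (.node (.node (.node .leaf (225213, 0, 10, 224528) .leaf) (225214, 0, 16, 187468) (.node .leaf (225215, 0, 16, 34146) .leaf)) (225216, 0, 16, 62153) (.node (.node .leaf (225217, 0, 17, 175079) .leaf) (225218, 0, 14, 113978) (.node .leaf (225219, 0, 17, 89436) .leaf))))))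

/-- part of the orbit tree -/
def itp6_446 : Tree := (.node (.node (.node (.node (.node (.node .leaf (225221, 0, 15, 54522) .leaf) (225222, 0, 17, 91558) (.node .leaf (225223, 0, 15, 212104) .leaf)) (225232, 0, 13, 164927) (.node (.node .leaf (225233, 0, 13, 56593) .leaf) (225234, 0, 17, 93261) (.node .leaf (225235, 0, 18, 206089) .leaf))) (225236, 0, 17, 175209) (.node (.node (.node .leaf (225237, 0, 17, 150543) .leaf) (225238, 0, 14, 201552) (.node .leaf (225239, 0, 13, 203818) .leaf)) (225248, 0, 17, 255722) (.node (.node .leaf (225249, 0, 7, 198284) .leaf) (225250, 0, 14, 157617) (.node .leaf (225251, 0, 15, 16031) .leaf)))) (225252, 0, 15, 253897) (.node (.node (.node (.node .leaf (225253, 0, 17, 109040) .leaf) (225254, 0, 15, 167916) (.node .leaf (225255, 0, 17, 147842) .leaf)) (225264, 0, 16, 260405) (.node (.node .leaf (225265, 0, 16, 98009) .leaf) (225266, 0, 14, 52890) (.node .leaf (225267, 0, 16, 149609) .leaf))) (225268, 0, 17, 108444) (.node (.node (.node .leaf (225269, 0, 14, 253702) .leaf) (225270, 0, 17, 63417)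 (.node .leaf (225271, 0, 16, 14196) .leaf)) (225281, 0, 12, 3927) (.node (.node .leaf (225282, 0, 16, 166441) .leaf) (225284, 0, 17, 54802) (.node .leaf (225287, 0, 16, 91729) .leaf))))) (225289, 0, 17, 250345) (.node (.node (.node (.node (.node .leaf (225290, 0, 15, 155829) .leaf) (225292, 0, 17, 260058) (.node .leaf (225295, 0, 16, 149126) .leaf)) (225297, 0, 16, 85379) (.node (.node .leaf (225298, 0, 14, 64735) .leaf) (225300, 0, 17, 93104) (.node .leaf (225303, 0, 19, 204292) .leaf))) (225305, 0, 15, 108319) (.node (.node (.node .leaf (225306, 0, 17, 5699) .leaf) (225308, 0, 11, 35807) (.node .leaf (225311, 0, 16, 80796) .leaf)) (225313, 0, 16, 149119) (.node (.node .leaf (225314, 0, 18, 177377) .leaf) (225316, 0, 17, 155724) (.node .leaf (225319, 0, 16, 250128) .leaf)))) (225321, 0, 18, 74042) (.node (.node (.node (.node .leaf (225322, 0, 16, 37241) .leaf) (225324, 0, 17, 166608) (.node .leaf (225327, 0, 14, 211852) .leaf)) (225329, 0, 18, 97527) (.node (.node .leaf (225330, 0, 15, 52404) .leaf) (225332, 0, 18, 107954)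 (.node .leaf (225335, 0, 9, 108518) .leaf))) (225337, 0, 12, 219503) (.node (.node (.node .leaf (225338, 0, 14, 190764) .leaf) (225340, 0, 14, 229418) (.node .leaf (225343, 0, 16, 85370) .leaf)) (225344, 0, 16, 230839) (.node (.node .leaf (225347, 0, 17, 144884) .leaf) (225349, 0, 16, 220402) (.node .leaf (225350, 0, 17, 191665) .leaf))))))

/-- part of the orbit tree -/
def itp6_447 : Tree := (.node itp6_443 (224964, 0, 13, 226888) itp6_444)

/-- part of the orbit tree -/
def itp6_448 : Tree := (.node itp6_445 (225220, 0, 15, 167380) itp6_446)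

/-- part of the orbit tree -/
def itp6_449 : Tree := (.node (.node (.node (.node (.node (.node .leaf (225355, 0, 13, 24849) .leaf) (225357, 0, 19, 128638) (.node .leaf (225358, 0, 14, 18210) .leaf)) (225360, 0, 17, 130530) (.node (.node .leaf (225363, 0, 15, 19873) .leaf) (225365, 0, 17, 74919) (.node .leaf (225366, 0, 17, 187208) .leaf))) (225368, 0, 16, 252026) (.node (.node (.node .leaf (225371, 0, 14, 137191) .leaf) (225373, 0, 12, 229512) (.node .leaf (225374, 0, 17, 143828) .leaf)) (225376, 0, 14, 36418) (.node (.node .leaf (225379, 0, 12, 81409) .leaf) (225381, 0, 16, 25064) (.node .leaf (225382, 0, 16, 124740) .leaf)))) (225384, 0, 17, 44359) (.node (.node (.node (.node .leaf (225387, 0, 17, 72731) .leaf) (225389, 0, 15, 160415) (.node .leaf (225390, 0, 18, 80424) .leaf)) (225392, 0, 17, 143661) (.node (.node .leaf (225395, 0, 13, 214612) .leaf) (225397, 0, 15, 136990) (.node .leaf (225398, 0, 17, 239170) .leaf))) (225400, 0, 17, 187313) (.node (.node (.node .leaf (225403, 0, 13, 91084) .leaf) (225405, 0, 13, 195970)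 (.node .leaf (225406, 0, 16, 113289) .leaf)) (225409, 0, 18, 170077) (.node (.node .leaf (225410, 0, 17, 206878) .leaf) (225412, 0, 16, 147736) (.node .leaf (225415, 0, 14, 72819) .leaf))))) (225417, 0, 14, 24960) (.node (.node (.node (.node (.node .leaf (225418, 0, 17, 119004) .leaf) (225420, 0, 16, 18355) (.node .leaf (225423, 0, 16, 120003) .leaf)) (225425, 0, 17, 57352) (.node (.node .leaf (225426, 0, 18, 216246) .leaf) (225428, 0, 17, 14669) (.node .leaf (225431, 0, 14, 223877) .leaf))) (225433, 0, 19, 181648) (.node (.node (.node .leaf (225434, 0, 15, 226771) .leaf) (225436, 0, 18, 143685) (.node .leaf (225439, 0, 15, 229401) .leaf)) (225441, 0, 15, 103336) (.node (.node .leaf (225442, 0, 16, 18250) .leaf) (225444, 0, 16, 84717) (.node .leaf (225447, 0, 9, 24953) .leaf)))) (225449, 0, 17, 72842) (.node (.node (.node (.node .leaf (225450, 0, 16, 132723) .leaf) (225452, 0, 15, 80569) (.node .leaf (225455, 0, 14, 35813) .leaf)) (225457, 0, 18, 229600) (.node (.node .leaf (225458, 0, 13, 143804) .leaf) (225460, 0, 18, 239315)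 (.node .leaf (225463, 0, 18, 137103) .leaf))) (225465, 0, 18, 223868) (.node (.node (.node .leaf (225466, 0, 16, 32294) .leaf) (225468, 0, 18, 216143) (.node .leaf (225471, 0, 17, 195859) .leaf)) (225472, 0, 11, 166584) (.node (.node .leaf (225475, 0, 17, 41726) .leaf) (225477, 0, 14, 117752) (.node .leaf (225478, 0, 18, 31675) .leaf))))))

/-- part of the orbit tree -/
def itp6_450 : Tree := (.node (.node (.node (.node (.node (.node .leaf (225483, 0, 17, 165734) .leaf) (225485, 0, 12, 257632) (.node .leaf (225486, 0, 15, 155171) .leaf)) (225488, 0, 17, 223976) (.node (.node .leaf (225491, 0, 13, 187051) .leaf) (225493, 0, 16, 242605) (.node .leaf (225494, 0, 14, 132078) .leaf))) (225496, 0, 15, 5842) (.node (.node (.node .leaf (225499, 0, 13, 65331) .leaf) (225501, 0, 17, 103989) (.node .leaf (225502, 0, 15, 9846) .leaf)) (225504, 0, 18, 137544) (.node (.node .leaf (225507, 0, 18, 239883) .leaf) (225509, 0, 17, 250241) (.node .leaf (225510, 0, 15, 225358) .leaf)))) (225512, 0, 18, 15568) (.node (.node (.node (.node .leaf (225515,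 0, 12, 101523) .leaf) (225517, 0, 16, 211741) (.node .leaf (225518, 0, 16, 87510) .leaf)) (225520, 0, 15, 24861) (.node (.node .leaf (225523, 0, 12, 119134) .leaf) (225525, 0, 11, 108407) (.node .leaf (225526, 0, 19, 67611) .leaf))) (225528, 0, 14, 93144) (.node (.node (.node .leaf (225531, 0, 17, 259270) .leaf) (225533, 0, 15, 85483) (.node .leaf (225534, 0, 15, 64695) .leaf)) (225537, 0, 16, 240931) (.node (.node .leaf (225538, 0, 19, 159178) .leaf) (225540, 0, 15, 260773) (.node .leaf (225543, 0, 17, 181285) .leaf))))) (225545, 0, 8, 100539) (.node (.node (.node (.node (.node .leaf (225546, 0, 15, 14584) .leaf) (225548, 0, 17, 86526) (.node .leaf (225551, 0, 17, 172389) .leaf)) (225553, 0, 12, 120182) (.node (.node .leaf (225554, 0, 19, 6972) .leaf) (225556, 0, 17, 68659) (.node .leaf (225559, 0, 15, 48240) .leaf))) (225561, 0, 15, 258286) (.node (.node (.node .leaf (225562, 0, 15, 61856) .leaf) (225564, 0, 17, 207275) (.node .leaf (225567, 0, 18, 170472) .leaf)) (225569, 0, 19, 172444) (.node (.node .leaf (225570, 0, 16,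 200896) .leaf) (225572, 0, 11, 32659) (.node .leaf (225575, 0, 15, 118736) .leaf)))) (225577, 0, 15, 150272) (.node (.node (.node (.node .leaf (225578, 0, 18, 260700) .leaf) (225580, 0, 16, 154123) (.node .leaf (225583, 0, 17, 256584) .leaf)) (225585, 0, 17, 55146) (.node (.node .leaf (225586, 0, 17, 224960) .leaf) (225588, 0, 17, 61785) (.node .leaf (225591, 0, 17, 243589) .leaf))) (225593, 0, 18, 15862) (.node (.node (.node .leaf (225594, 0, 18, 101546) .leaf) (225596, 0, 18, 7109) (.node .leaf (225599, 0, 15, 102941) .leaf)) (225600, 0, 16, 10179) (.node (.node .leaf (225603, 0, 16, 27758) .leaf) (225605, 0, 15, 65158) (.node .leaf (225606, 0, 16, 19037) .leaf))))))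

/-- part of the orbit tree -/
def itp6_451 : Tree := (.node (.node (.node (.node (.node (.node .leaf (225611, 0, 16, 34546) .leaf) (225613, 0, 17, 70045) (.node .leaf (225614, 0, 16, 224093) .leaf)) (225616, 0, 15, 155542) (.node (.node .leaf (225619, 0, 13, 137880) .leaf) (225621, 0, 18, 165587) (.node .leaf (225622, 0, 16, 210576) .leaf))) (225624, 0, 17, 213336) (.node (.node (.node .leaf (225627, 0, 18, 117325) .leaf) (225629, 0, 16, 41803) (.node .leaf (225630, 0, 13, 70408) .leaf)) (225632, 0, 12, 207926) (.node (.node .leaf (225635, 0, 18, 69988) .leaf) (225637, 0, 16, 34315) (.node .leaf (225638, 0, 17, 148784) .leaf)))) (225640, 0, 14, 68014) (.node (.node (.node (.node .leaf (225643, 0, 17, 130040) .leaf) (225645, 0, 17, 27799) (.node .leaf (225646, 0, 11, 24744) .leaf)) (225648, 0, 16, 186062) (.node (.node .leaf (225651, 0, 14, 223122) .leaf) (225653, 0, 16, 101670) (.node .leaf (225654, 0, 13, 213409) .leaf))) (225656, 0, 15, 146514) (.node (.node (.node .leaf (225659, 0, 12, 180664) .leaf) (225661, 0, 14, 239806)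 (.node .leaf (225662, 0, 13, 137469) .leaf)) (225665, 0, 14, 27903) (.node (.node .leaf (225666, 0, 17, 122275) .leaf) (225668, 0, 15, 123756) (.node .leaf (225671, 0, 15, 21295) .leaf))))) (225673, 0, 15, 204721) (.node (.node (.node (.node (.node .leaf (225674, 0, 17, 176114) .leaf) (225676, 0, 17, 41040) (.node .leaf (225679, 0, 12, 69900) .leaf)) (225681, 0, 15, 137737) (.node (.node .leaf (225682, 0, 17, 193087) .leaf) (225684, 0, 16, 236345) (.node .leaf (225687, 0, 16, 232806) .leaf))) (225689, 0, 18, 192661) (.node (.node (.node .leaf (225690, 0, 15, 213449) .leaf) (225692, 0, 14, 186022) (.node .leaf (225695, 0, 14, 223226) .leaf)) (225697, 0, 17, 143836) (.node (.node .leaf (225698, 0, 17, 229791) .leaf) (225700, 0, 18, 190617) (.node .leaf (225703, 0, 16, 219354) .leaf)))) (225705, 0, 12, 5188) (.node (.node (.node (.node .leaf (225706, 0, 16, 18997) .leaf) (225708, 0, 14, 122202) (.node .leaf (225711, 0, 17, 97602) .leaf)) (225713, 0, 17, 18825) (.node (.node .leaf (225714, 0, 15, 129482) .leaf) (225716, 0, 16,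 37068) (.node .leaf (225719, 0, 13, 192620) .leaf))) (225721, 0, 16, 232863) (.node (.node (.node .leaf (225722, 0, 16, 146627) .leaf) (225724, 0, 18, 177492) (.node .leaf (225727, 0, 15, 197911) .leaf)) (225728, 0, 17, 176329) (.node (.node .leaf (225731, 0, 17, 196746) .leaf) (225733, 0, 15, 150376) (.node .leaf (225734, 0, 18, 252367) .leaf))))))

/-- part of the orbit tree -/
def itp6_452 : Tree := (.node (.node (.node (.node (.node (.node .leaf (225739, 0, 15, 75026) .leaf) (225741, 0, 17, 19476) (.node .leaf (225742, 0, 16, 130135) .leaf)) (225744, 0, 13, 7085) (.node (.node .leaf (225747, 0, 17, 109297) .leaf) (225749, 0, 17, 15774) (.node .leaf (225750, 0, 16, 101570) .leaf))) (225752, 0, 16, 61745) (.node (.node (.node .leaf (225755, 0, 16, 82029) .leaf) (225757, 0, 16, 55042) (.node .leaf (225758, 0, 17, 91742) .leaf)) (225760, 0, 14, 113468) (.node (.node .leaf (225763, 0, 17, 172301) .leaf) (225765, 0, 16, 210530) (.node .leaf (225766, 0, 18, 53818) .leaf)))) (225768, 0, 14, 260813) (.node (.node (.node (.node .leaf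 (225771, 0, 11, 143079) .leaf) (225773, 0, 14, 253182) (.node .leaf (225774, 0, 16, 159138) .leaf)) (225776, 0, 14, 246633) (.node (.node .leaf (225779, 0, 19, 160554) .leaf) (225781, 0, 16, 82068) (.node .leaf (225782, 0, 15, 174703) .leaf))) (225784, 0, 17, 124657) (.node (.node (.node .leaf (225787, 0, 17, 22194) .leaf) (225789, 0, 16, 109064) (.node .leaf (225790, 0, 16, 6996) .leaf)) (225792, 0, 18, 49985) (.node (.node .leaf (225793, 0, 17, 8999) .leaf) (225798, 0, 17, 109127) (.node .leaf (225799, 0, 18, 84513) .leaf))))) (225800, 0, 8, 101867) (.node (.node (.node (.node (.node .leaf (225801, 0, 15, 132799) .leaf) (225806, 0, 17, 6788) (.node .leaf (225807, 0, 16, 225209) .leaf)) (225808, 0, 18, 201089) (.node (.node .leaf (225809, 0, 14, 84143) .leaf) (225814, 0, 13, 165614) (.node .leaf (225815, 0, 14, 209524) .leaf))) (225816, 0, 14, 40588) (.node (.node (.node .leaf (225817, 0, 16, 107059) .leaf) (225822, 0, 19, 128906) (.node .leaf (225823, 0, 17, 71660) .leaf)) (225824, 0, 17, 6781) (.node (.node .leaf (225825,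 0, 17, 148307) .leaf) (225830, 0, 15, 172466) (.node .leaf (225831, 0, 15, 250940) .leaf)))) (225832, 0, 11, 126252) (.node (.node (.node (.node .leaf (225833, 0, 17, 174543) .leaf) (225838, 0, 17, 92046) (.node .leaf (225839, 0, 17, 212640) .leaf)) (225840, 0, 18, 158859) (.node (.node .leaf (225841, 0, 15, 13733) .leaf) (225846, 0, 15, 55783) (.node .leaf (225847, 0, 16, 14721) .leaf))) (225848, 0, 18, 165399) (.node (.node (.node .leaf (225849, 0, 15, 57145) .leaf) (225854, 0, 17, 195711) (.node .leaf (225855, 0, 16, 138265) .leaf)) (225858, 0, 17, 186255) (.node (.node .leaf (225859, 0, 18, 36513) .leaf) (225860, 0, 16, 213216) .leaf)))))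

/-- part of the orbit tree -/
def itp6_453 : Tree := (.node itp6_449 (225480, 0, 16, 210725) itp6_450)

/-- part of the orbit tree -/
def itp6_454 : Tree := (.node itp6_451 (225736, 0, 16, 165831) itp6_452)

/-- part of the orbit tree -/
def itp6_455 : Tree := (.node itp6_447 (225092, 0, 11, 81341) itp6_448)

/-- part of the orbit tree -/
def itp6_456 : Tree := (.node itp6_453 (225608, 0, 17, 79790) itp6_454)

/-- part of the orbit tree -/
def itp6_457 : Tree := (.node (.node (.node (.node (.node (.node .leaf (225866, 0, 14, 146707) .leaf) (225867, 0, 17, 25661) (.node .leaf (225868, 0, 13, 111996) .leaf)) (225869, 0, 16, 87322) (.node (.node .leaf (225874, 0, 17, 41337) .leaf) (225875, 0, 19, 25041) (.node .leaf (225876, 0, 15, 79382) .leaf))) (225877, 0, 18, 67799) (.node (.node (.node .leaf (225882, 0, 18, 19429) .leaf) (225883, 0, 15, 135883) (.node .leaf (225884, 0, 17, 249129) .leaf)) (225885, 0, 18, 208207) (.node (.node .leaf (225890, 0, 14, 127511) .leaf) (225891, 0, 17, 127915) (.node .leaf (225892, 0, 16, 39697)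 .leaf)))) (225893, 0, 17, 31607) (.node (.node (.node (.node .leaf (225898, 0, 15, 251791) .leaf) (225899, 0, 17, 71991) (.node .leaf (225900, 0, 16, 179849) .leaf)) (225901, 0, 12, 155375) (.node (.node .leaf (225906, 0, 12, 121971) .leaf) (225907, 0, 17, 230749) (.node .leaf (225908, 0, 17, 189252) .leaf))) (225909, 0, 16, 135730) (.node (.node (.node .leaf (225914, 0, 18, 79599) .leaf) (225915, 0, 13, 85948) (.node .leaf (225916, 0, 13, 41344) .leaf)) (225917, 0, 15, 194734) (.node (.node .leaf (225920, 0, 15, 186142) .leaf) (225921, 0, 11, 177197) (.node .leaf (225926, 0, 14, 212301) .leaf))))) (225927, 0, 15, 253227) (.node (.node (.node (.node (.node .leaf (225928, 0, 14, 146818) .leaf) (225929, 0, 15, 37301) (.node .leaf (225934, 0, 15, 240365) .leaf)) (225935, 0, 18, 127939) (.node (.node .leaf (225936, 0, 13, 11294) .leaf) (225937, 0, 17, 194758) (.node .leaf (225942, 0, 16, 83224) .leaf))) (225943, 0, 13, 225193) (.node (.node (.node .leaf (225944, 0, 14, 19316) .leaf) (225945, 0, 14, 135770) (.node .leaf (225950,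 0, 17, 121883) .leaf)) (225951, 0, 15, 229606) (.node (.node .leaf (225952, 0, 18, 90046) .leaf) (225953, 0, 18, 114648) (.node .leaf (225958, 0, 16, 146811) .leaf)))) (225959, 0, 16, 25685) (.node (.node (.node (.node .leaf (225960, 0, 18, 213128) .leaf) (225961, 0, 18, 72102) (.node .leaf (225966, 0, 17, 186343) .leaf)) (225967, 0, 19, 36553) (.node (.node .leaf (225968, 0, 17, 206827) .leaf) (225969, 0, 17, 230860) (.node .leaf (225974, 0, 16, 151277) .leaf))) (225975, 0, 18, 135843) (.node (.node (.node .leaf (225976, 0, 17, 66163) .leaf) (225977, 0, 15, 225104) (.node .leaf (225982, 0, 15, 41233) .leaf)) (225983, 0, 17, 194623) (.node (.node .leaf (225986, 0, 16, 28392) .leaf) (225987, 0, 16, 212680) (.node .leaf (225988, 0, 16, 61577) .leaf))))))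

/-- part of the orbit tree -/
def itp6_458 : Tree := (.node (.node (.node (.node (.node (.node .leaf (225994, 0, 11, 150384) .leaf) (225995, 0, 18, 174870) (.node .leaf (225996, 0, 14, 6677) .leaf)) (225997, 0, 15, 148283) (.node (.node .leaf (226002, 0, 15, 200976) .leaf) (226003, 0, 15, 194267) (.node .leaf (226004, 0, 17, 229307) .leaf))) (226005, 0, 17, 237533) (.node (.node (.node .leaf (226010, 0, 14, 13093) .leaf) (226011, 0, 8, 107170) (.node .leaf (226012, 0, 16, 158947) .leaf)) (226013, 0, 16, 13773) (.node (.node .leaf (226018, 0, 13, 6892) .leaf) (226019, 0, 16, 230779) (.node .leaf (226020, 0, 11, 134171) .leaf)))) (226021, 0, 15, 191613) (.node (.node (.node (.node .leaf (226026, 0, 16, 61552) .leaf) (226027, 0, 17, 106723) (.node .leaf (226028, 0, 17, 10627) .leaf)) (226029, 0, 16, 51685) (.node (.node .leaf (226034, 0, 10, 73032) .leaf) (226035, 0, 17, 13620) (.node .leaf (226036, 0, 16, 29774) .leaf))) (226037, 0, 17, 37928) (.node (.node (.node .leaf (226042, 0, 16, 211152) .leaf) (226043, 0, 16, 252086)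 (.node .leaf (226044, 0, 18, 152022) .leaf)) (226045, 0, 13, 84167) (.node (.node .leaf (226048, 0, 16, 221493) .leaf) (226049, 0, 13, 252346) (.node .leaf (226054, 0, 17, 133171) .leaf))))) (226055, 0, 17, 190549) (.node (.node (.node (.node (.node .leaf (226056, 0, 13, 83117) .leaf) (226057, 0, 18, 209702) (.node .leaf (226062, 0, 16, 64871) .leaf)) (226063, 0, 17, 173129) (.node (.node .leaf (226064, 0, 15, 72032) .leaf) (226065, 0, 18, 110412) (.node .leaf (226070, 0, 13, 155917) .leaf))) (226071, 0, 15, 14371) (.node (.node (.node .leaf (226072, 0, 13, 204030) .leaf) (226073, 0, 14, 83408) (.node .leaf (226078, 0, 18, 166801) .leaf)) (226079, 0, 18, 177560) (.node (.node .leaf (226080, 0, 16, 64926) .leaf) (226081, 0, 17, 173232) (.node .leaf (226086, 0, 17, 66502) .leaf)))) (226087, 0, 15, 209887) (.node (.node (.node (.node .leaf (226088, 0, 3, 5890) .leaf) (226089, 0, 18, 151084) (.node .leaf (226094, 0, 14, 206430) .leaf)) (226095, 0, 18, 252227) (.node (.node .leaf (226096, 0, 15, 166760) .leaf) (226097, 0, 18, 53830)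 (.node .leaf (226102, 0, 10, 228243) .leaf))) (226103, 0, 17, 83241) (.node (.node (.node .leaf (226104, 0, 15, 14093) .leaf) (226105, 0, 18, 14554) (.node .leaf (226110, 0, 18, 89611) .leaf)) (226111, 0, 18, 110517) (.node (.node .leaf (226114, 0, 15, 143468) .leaf) (226115, 0, 16, 26946) (.node .leaf (226116, 0, 14, 12944) .leaf))))))

/-- part of the orbit tree -/
def itp6_459 : Tree := (.node (.node (.node (.node (.node (.node .leaf (226122, 0, 13, 228878) .leaf) (226123, 0, 14, 33758) (.node .leaf (226124, 0, 15, 136968) .leaf)) (226125, 0, 17, 194414) (.node (.node .leaf (226130, 0, 17, 18074) .leaf) (226131, 0, 16, 139188) (.node .leaf (226132, 0, 17, 119285) .leaf))) (226133, 0, 15, 231643) (.node (.node (.node .leaf (226138, 0, 14, 44038) .leaf) (226139, 0, 18, 124477) (.node .leaf (226140, 0, 12, 28509) .leaf)) (226141, 0, 15, 36667) (.node (.node .leaf (226146, 0, 16, 151651) .leaf) (226147, 0, 13, 176133) (.node .leaf (226148, 0, 15, 211301) .leaf)))) (226149, 0, 17, 33575) (.node (.node (.node (.node .leaf (226154,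 0, 16, 30203) .leaf) (226155, 0, 17, 38301) (.node .leaf (226156, 0, 16, 72957) .leaf)) (226157, 0, 13, 130203) (.node (.node .leaf (226162, 0, 14, 10294) .leaf) (226163, 0, 15, 221886) (.node .leaf (226164, 0, 17, 82224) .leaf))) (226165, 0, 16, 106838) (.node (.node (.node .leaf (226170, 0, 16, 119052) .leaf) (226171, 0, 16, 191944) (.node .leaf (226172, 0, 15, 18019) .leaf)) (226173, 0, 18, 230606) (.node (.node .leaf (226176, 0, 16, 143613) .leaf) (226177, 0, 17, 71257) (.node .leaf (226182, 0, 16, 40761) .leaf))))) (226183, 0, 13, 32607) (.node (.node (.node (.node (.node .leaf (226184, 0, 18, 186977) .leaf) (226185, 0, 14, 33615) (.node .leaf (226190, 0, 13, 178849) .leaf)) (226191, 0, 16, 70688) (.node (.node .leaf (226192, 0, 15, 17931) .leaf) (226193, 0, 14, 139045) (.node .leaf (226198, 0, 12, 119140) .leaf))) (226199, 0, 16, 132874) (.node (.node (.node .leaf (226200, 0, 17, 109554) .leaf) (226201, 0, 17, 84884) (.node .leaf (226206, 0, 16, 80888) .leaf)) (226207, 0, 17, 221910) (.node (.node .leaf (226208, 0, 19,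 216567) .leaf) (226209, 0, 18, 70873) (.node .leaf (226214, 0, 17, 187032) .leaf)))) (226215, 0, 15, 226474) (.node (.node (.node (.node .leaf (226216, 0, 17, 239467) .leaf) (226217, 0, 15, 14388) (.node .leaf (226222, 0, 16, 110932) .leaf)) (226223, 0, 16, 86322) (.node (.node .leaf (226224, 0, 16, 34207) .leaf) (226225, 0, 16, 221743) (.node .leaf (226230, 0, 15, 44142) .leaf))) (226231, 0, 18, 68863) (.node (.node (.node .leaf (226232, 0, 15, 119197) .leaf) (226233, 0, 16, 231603) (.node .leaf (226238, 0, 16, 248065) .leaf)) (226239, 0, 18, 139228) (.node (.node .leaf (226242, 0, 13, 248988) .leaf) (226243, 0, 17, 208122) (.node .leaf (226244, 0, 17, 5994) .leaf))))))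

/-- part of the orbit tree -/
def itp6_460 : Tree := (.node (.node (.node (.node (.node (.node .leaf (226250, 0, 16, 125188) .leaf) (226251, 0, 17, 67938) (.node .leaf (226252, 0, 16, 32770) .leaf)) (226253, 0, 15, 24676) (.node (.node .leaf (226258, 0, 17, 111817) .leaf) (226259, 0, 16, 87215) (.node .leaf (226260, 0, 14, 156060) .leaf))) (226261, 0, 15, 14514) (.node (.node (.node .leaf (226266, 0, 16, 203887) .leaf) (226267, 0, 18, 225591) (.node .leaf (226268, 0, 16, 166656) .leaf)) (226269, 0, 15, 53806) (.node (.node .leaf (226274, 0, 13, 51049) .leaf) (226275, 0, 14, 9999) (.node .leaf (226276, 0, 15, 110191) .leaf)))) (226277, 0, 17, 85513) (.node (.node (.node (.node .leaf (226282, 0, 16, 6035) .leaf) (226283, 0, 16, 131735) (.node .leaf (226284, 0, 18, 98556) .leaf)) (226285, 0, 15, 224145) (.node (.node .leaf (226290, 0, 16, 166905) .leaf) (226291, 0, 15, 53975) (.node .leaf (226292, 0, 18, 203926) .leaf))) (226293, 0, 17, 210524) (.node (.node (.node .leaf (226298, 0, 16, 156005) .leaf) (226299, 0, 9, 14411) (.node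 .leaf (226300, 0, 16, 127906) .leaf)) (226301, 0, 13, 70596) (.node (.node .leaf (226304, 0, 17, 128409) .leaf) (226306, 0, 16, 100317) (.node .leaf (226309, 0, 16, 77020) .leaf))))) (226311, 0, 16, 106990) (.node (.node (.node (.node (.node .leaf (226312, 0, 15, 249857) .leaf) (226314, 0, 17, 163876) (.node .leaf (226317, 0, 16, 172800) .leaf)) (226319, 0, 16, 153953) (.node (.node .leaf (226320, 0, 17, 232908) .leaf) (226322, 0, 16, 258347) (.node .leaf (226325, 0, 15, 218249) .leaf))) (226327, 0, 17, 132268) (.node (.node (.node .leaf (226328, 0, 13, 62405) .leaf) (226330, 0, 17, 203703) (.node .leaf (226333, 0, 17, 94481) .leaf)) (226335, 0, 17, 8500) (.node (.node .leaf (226336, 0, 14, 201381) .leaf) (226338, 0, 16, 64215) (.node .leaf (226341, 0, 17, 210070) .leaf)))) (226343, 0, 17, 56548) (.node (.node (.node (.node .leaf (226344, 0, 14, 260153) .leaf) (226346, 0, 14, 101329) (.node .leaf (226349, 0, 15, 689) .leaf)) (226351, 0, 15, 86676) (.node (.node .leaf (226352, 0, 17, 34361) .leaf) (226354, 0, 16, 120348) (.node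 .leaf (226357, 0, 14, 82528) .leaf))) (226359, 0, 15, 174610) (.node (.node (.node .leaf (226360, 0, 16, 102095) .leaf) (226362, 0, 15, 157373) (.node .leaf (226365, 0, 17, 108796) .leaf)) (226367, 0, 16, 147598) (.node (.node .leaf (226369, 0, 13, 163705) .leaf) (226371, 0, 15, 231033) (.node .leaf (226372, 0, 16, 18488) .leaf))))))

/-- part of the orbit tree -/
def itp6_461 : Tree := (.node itp6_457 (225989, 0, 18, 174503) itp6_458)

/-- part of the orbit tree -/
def itp6_462 : Tree := (.node itp6_459 (226245, 0, 15, 151108) itp6_460)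

/-- part of the orbit tree -/
def itp6_463 : Tree := (.node (.node (.node (.node (.node (.node .leaf (226377, 0, 11, 23265) .leaf) (226379, 0, 15, 224485) (.node .leaf (226380, 0, 14, 41636) .leaf)) (226382, 0, 18, 215766) (.node (.node .leaf (226385, 0, 13, 137469) .leaf) (226387, 0, 15, 87817) (.node .leaf (226388, 0, 15, 147150) .leaf))) (226390, 0, 15, 120508) (.node (.node (.node .leaf (226393, 0, 17, 139956) .leaf) (226395, 0, 15, 72211) (.node .leaf (226396, 0, 19, 185426) .leaf)) (226398, 0, 16, 80928) (.node (.node .leaf (226401, 0, 16, 70401) .leaf) (226403, 0, 16, 9385) (.node .leaf (226404, 0, 15, 110025) .leaf)))) (226406, 0, 15, 65004) (.node (.node (.node (.node .leaf (226409, 0, 10, 217364) .leaf) (226411, 0, 16, 131377) (.node .leaf (226412, 0, 16, 231505) .leaf)) (226414, 0, 16, 186484) (.node (.node .leaf (226417, 0, 17, 222711) .leaf) (226419, 0, 18, 36229) (.node .leaf (226420, 0, 16, 213956) .leaf))) (226422, 0, 16, 165305) (.node (.node (.node .leaf (226425, 0, 17, 233323) .leaf) (226427, 0, 16, 26393)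 (.node .leaf (226428, 0, 17, 239960) .leaf)) (226430, 0, 14, 16682) (.node (.node .leaf (226432, 0, 17, 122822) .leaf) (226434, 0, 15, 144054) (.node .leaf (226437, 0, 17, 129525) .leaf))))) (226439, 0, 14, 191475) (.node (.node (.node (.node (.node .leaf (226440, 0, 19, 83723) .leaf) (226442, 0, 15, 187688) (.node .leaf (226445, 0, 17, 70505) .leaf)) (226447, 0, 14, 195355) (.node (.node .leaf (226448, 0, 16, 72390) .leaf) (226450, 0, 18, 19171) (.node .leaf (226453, 0, 17, 115587) .leaf))) (226455, 0, 15, 37798) (.node (.node (.node .leaf (226456, 0, 17, 212830) .leaf) (226458, 0, 17, 159611) (.node .leaf (226461, 0, 16, 255515) .leaf)) (226463, 0, 17, 36333) (.node (.node .leaf (226464, 0, 17, 41676) .leaf) (226466, 0, 16, 80195) (.node .leaf (226469, 0, 13, 34047) .leaf)))) (226471, 0, 15, 122886) (.node (.node (.node (.node .leaf (226472, 0, 17, 150782) .leaf) (226474, 0, 14, 203995) (.node .leaf (226477, 0, 17, 169403) .leaf)) (226479, 0, 16, 230929) (.node (.node .leaf (226480, 0, 15, 135475) .leaf) (226482, 0, 17, 80968)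 (.node .leaf (226485, 0, 17, 193033) .leaf))) (226487, 0, 17, 72315) (.node (.node (.node .leaf (226488, 0, 15, 13483) .leaf) (226490, 0, 16, 120532) (.node .leaf (226493, 0, 12, 137365) .leaf)) (226495, 0, 19, 127207) (.node (.node .leaf (226497, 0, 13, 253538) .leaf) (226499, 0, 12, 112726) (.node .leaf (226500, 0, 15, 260177) .leaf))))))

/-- part of the orbit tree -/
def itp6_464 : Tree := (.node (.node (.node (.node (.node (.node .leaf (226505, 0, 19, 210174) .leaf) (226507, 0, 15, 56460) (.node .leaf (226508, 0, 18, 136366) .leaf)) (226510, 0, 7, 214155) (.node (.node .leaf (226513, 0, 18, 167974) .leaf) (226515, 0, 16, 147686) (.node .leaf (226516, 0, 17, 102055) .leaf))) (226518, 0, 18, 157397) (.node (.node (.node .leaf (226521, 0, 13, 46526) .leaf) (226523, 0, 16, 124315) (.node .leaf (226524, 0, 16, 27899) .leaf)) (226526, 0, 15, 81118) (.node (.node .leaf (226529, 0, 17, 254854) .leaf) (226531, 0, 17, 84762) (.node .leaf (226532, 0, 17, 211651) .leaf)))) (226534, 0, 15, 158438) (.node (.node (.node (.node .leaf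 (226537, 0, 16, 150004) .leaf) (226539, 0, 14, 38459) (.node .leaf (226540, 0, 13, 159687) .leaf)) (226542, 0, 17, 20350) (.node (.node .leaf (226545, 0, 16, 105427) .leaf) (226547, 0, 18, 212460) (.node .leaf (226548, 0, 15, 62381) .leaf))) (226550, 0, 18, 203743) (.node (.node (.node .leaf (226553, 0, 17, 245323) .leaf) (226555, 0, 14, 251760) (.node .leaf (226556, 0, 17, 6449) .leaf)) (226558, 0, 16, 145195) (.node (.node .leaf (226560, 0, 15, 165964) .leaf) (226562, 0, 16, 198600) (.node .leaf (226565, 0, 15, 167592) .leaf))))) (226567, 0, 17, 253581) (.node (.node (.node (.node (.node .leaf (226568, 0, 17, 29301) .leaf) (226570, 0, 17, 101026) (.node .leaf (226573, 0, 13, 43824) .leaf)) (226575, 0, 18, 129813) (.node (.node .leaf (226576, 0, 16, 65210) .leaf) (226578, 0, 17, 202440) (.node .leaf (226581, 0, 16, 63229) .leaf))) (226583, 0, 17, 108248) (.node (.node (.node .leaf (226584, 0, 15, 5158) .leaf) (226586, 0, 16, 219653) (.node .leaf (226589, 0, 14, 12821) .leaf)) (226591, 0, 17, 252519) (.node (.node .leaf (226592,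 0, 16, 259398) .leaf) (226594, 0, 17, 7476) (.node .leaf (226597, 0, 17, 250741) .leaf)))) (226599, 0, 17, 54648) (.node (.node (.node (.node .leaf (226600, 0, 15, 227712) .leaf) (226602, 0, 17, 63400) (.node .leaf (226605, 0, 16, 237765) .leaf)) (226607, 0, 17, 53659) (.node (.node .leaf (226608, 0, 15, 99248) .leaf) (226610, 0, 13, 160872) (.node .leaf (226613, 0, 15, 261384) .leaf))) (226615, 0, 17, 175405) (.node (.node (.node .leaf (226616, 0, 16, 92460) .leaf) (226618, 0, 13, 20976) (.node .leaf (226621, 0, 17, 85791) .leaf)) (226623, 0, 17, 34997) (.node (.node .leaf (226625, 0, 17, 122125) .leaf) (226627, 0, 15, 221594) (.node .leaf (226628, 0, 14, 45019) .leaf))))))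

/-- part of the orbit tree -/
def itp6_465 : Tree := (.node (.node (.node (.node (.node (.node .leaf (226633, 0, 17, 260245) .leaf) (226635, 0, 16, 232198) (.node .leaf (226636, 0, 18, 17735) .leaf)) (226638, 0, 16, 160245) (.node (.node .leaf (226641, 0, 15, 238936) .leaf) (226643, 0, 17, 71532) (.node .leaf (226644, 0, 17, 186669) .leaf))) (226646, 0, 16, 78175) (.node (.node (.node .leaf (226649, 0, 19, 98496) .leaf) (226651, 0, 16, 130544) (.node .leaf (226652, 0, 17, 144305) .leaf)) (226654, 0, 16, 2464) (.node (.node .leaf (226657, 0, 16, 128226) .leaf) (226659, 0, 19, 231133) (.node .leaf (226660, 0, 16, 135101) .leaf)))) (226662, 0, 16, 146083) (.node (.node (.node (.node .leaf (226665, 0, 16, 62304) .leaf) (226667, 0, 15, 194060) (.node .leaf (226668, 0, 13, 10789) .leaf)) (226670, 0, 16, 184383) (.node (.node .leaf (226673, 0, 14, 44717) .leaf) (226675, 0, 15, 130696) (.node .leaf (226676, 0, 17, 30696) .leaf))) (226678, 0, 18, 75725) (.node (.node (.node .leaf (226681, 0, 17, 223368) .leaf) (226683, 0, 15, 252688)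 (.node .leaf (226684, 0, 17, 216763) .leaf)) (226686, 0, 13, 197205) (.node (.node .leaf (226688, 0, 16, 79909) .leaf) (226690, 0, 16, 102594) (.node .leaf (226693, 0, 16, 73238) .leaf))))) (226695, 0, 16, 84359) (.node (.node (.node (.node (.node .leaf (226696, 0, 15, 189823) .leaf) (226698, 0, 17, 146123) (.node .leaf (226701, 0, 16, 146490) .leaf)) (226703, 0, 15, 224287) (.node (.node .leaf (226704, 0, 15, 216787) .leaf) (226706, 0, 13, 42657) (.node .leaf (226709, 0, 17, 156151) .leaf))) (226711, 0, 9, 209362) (.node (.node (.node .leaf (226712, 0, 14, 40234) .leaf) (226714, 0, 17, 19517) (.node .leaf (226717, 0, 17, 17519) .leaf)) (226719, 0, 16, 27150) (.node (.node .leaf (226720, 0, 14, 17711) .leaf) (226722, 0, 15, 240989) (.node .leaf (226725, 0, 17, 201303) .leaf)))) (226727, 0, 16, 148082) (.node (.node (.node (.node .leaf (226728, 0, 15, 44979) .leaf) (226730, 0, 16, 214977) (.node .leaf (226733, 0, 16, 35200) .leaf)) (226735, 0, 16, 221682) (.node (.node .leaf (226736, 0, 14, 111431) .leaf) (226738, 0, 14, 121771)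 (.node .leaf (226741, 0, 14, 92674) .leaf))) (226743, 0, 12, 14887) (.node (.node (.node .leaf (226744, 0, 16, 235231) .leaf) (226746, 0, 18, 182010) (.node .leaf (226749, 0, 17, 216986) .leaf)) (226751, 0, 16, 71428) (.node (.node .leaf (226753, 0, 16, 211329) .leaf) (226755, 0, 13, 53747) (.node .leaf (226756, 0, 12, 234306) .leaf))))))

/-- part of the orbit tree -/
def itp6_466 : Tree := (.node (.node (.node (.node (.node (.node .leaf (226761, 0, 17, 250653) .leaf) (226763, 0, 18, 16314) (.node .leaf (226764, 0, 18, 259374) .leaf)) (226766, 0, 16, 7516) (.node (.node .leaf (226769, 0, 16, 85879) .leaf) (226771, 0, 14, 25207) (.node .leaf (226772, 0, 15, 92484) .leaf))) (226774, 0, 15, 47922) (.node (.node (.node .leaf (226777, 0, 18, 202698) .leaf) (226779, 0, 14, 149487) (.node .leaf (226780, 0, 14, 249487) .leaf)) (226782, 0, 16, 171690) (.node (.node .leaf (226785, 0, 13, 148619) .leaf) (226787, 0, 19, 109817) (.node .leaf (226788, 0, 16, 39095) .leaf)))) (226790, 0, 16, 101066) (.node (.node (.node (.node .leaf (226793,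 0, 13, 156778) .leaf) (226795, 0, 18, 209999) (.node .leaf (226796, 0, 18, 179503) .leaf)) (226798, 0, 17, 257290) (.node (.node .leaf (226801, 0, 15, 12925) .leaf) (226803, 0, 15, 223618) (.node .leaf (226804, 0, 17, 188642) .leaf))) (226806, 0, 15, 261180) (.node (.node (.node .leaf (226809, 0, 16, 7231) .leaf) (226811, 0, 13, 85018) (.node .leaf (226812, 0, 14, 50554) .leaf)) (226814, 0, 17, 103775) (.node (.node .leaf (226820, 0, 15, 123082) .leaf) (226821, 0, 14, 65708) (.node .leaf (226822, 0, 16, 261612) .leaf))))) (226823, 0, 15, 20617) (.node (.node (.node (.node (.node .leaf (226828, 0, 15, 65282) .leaf) (226829, 0, 15, 206132) (.node .leaf (226830, 0, 14, 202608) .leaf)) (226831, 0, 17, 161041) (.node (.node .leaf (226836, 0, 17, 156520) .leaf) (226837, 0, 18, 14918) (.node .leaf (226838, 0, 16, 101146) .leaf))) (226839, 0, 15, 141532) (.node (.node (.node .leaf (226844, 0, 17, 113927) .leaf) (226845, 0, 9, 89441) (.node .leaf (226846, 0, 18, 90502) .leaf)) (226847, 0, 18, 3396) (.node (.node .leaf (226852, 0, 14,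 191295) .leaf) (226853, 0, 16, 209338) (.node .leaf (226854, 0, 14, 164070) .leaf)))) (226855, 0, 11, 220028) (.node (.node (.node (.node .leaf (226860, 0, 17, 98824) .leaf) (226861, 0, 17, 11969) (.node .leaf (226862, 0, 16, 106114) .leaf)) (226863, 0, 17, 98020) (.node (.node .leaf (226868, 0, 17, 37738) .leaf) (226869, 0, 19, 29452) (.node .leaf (226870, 0, 16, 115535) .leaf))) (226871, 0, 14, 74537) (.node (.node (.node .leaf (226876, 0, 12, 177906) .leaf) (226877, 0, 18, 110032) (.node .leaf (226878, 0, 16, 255703) .leaf)) (226879, 0, 15, 198321) (.node (.node .leaf (226880, 0, 19, 143881) .leaf) (226881, 0, 16, 152329) .leaf)))))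

/-- part of the orbit tree -/
def itp6_467 : Tree := (.node itp6_463 (226502, 0, 16, 4131) itp6_464)

/-- part of the orbit tree -/
def itp6_468 : Tree := (.node itp6_465 (226758, 0, 15, 181095) itp6_466)

/-- part of the orbit tree -/
def itp6_469 : Tree := (.node itp6_461 (226117, 0, 14, 54006) itp6_462)

/-- part of the orbit tree -/
def itp6_470 : Tree := (.node itp6_467 (226630, 0, 18, 21613) itp6_468)

/-- part of the orbit tree -/
def itp6_471 : Tree := (.node itp6_455 (225352, 0, 14, 118861) itp6_456)

/-- part of the orbit tree -/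
def itp6_472 : Tree := (.node itp6_469 (226374, 0, 17, 237642) itp6_470)

/-- part of the orbit tree -/
def itp6_473 : Tree := (.node (.node (.node (.node (.node (.node .leaf (226883, 0, 17, 230229) .leaf) (226888, 0, 12, 38647) (.node .leaf (226889, 0, 15, 30353) .leaf)) (226890, 0, 13, 116434) (.node (.node .leaf (226891, 0, 12, 75444) .leaf) (226896, 0, 16, 17663) (.node .leaf (226897, 0, 16, 138705) .leaf))) (226898, 0, 12, 105247) (.node (.node (.node .leaf (226899, 0, 16, 128419) .leaf) (226904, 0, 16, 44643) (.node .leaf (226905, 0, 16, 194381) .leaf)) (226906, 0, 17, 214545) (.node (.node .leaf (226907, 0, 16, 73535) .leaf) (226912, 0, 17, 216835) (.node .leaf (226913, 0, 15, 88316) .leaf)))) (226914, 0, 17, 42865) (.node (.node (.node (.node .leaf (226915, 0, 17, 2265) .leaf) (226920, 0, 18, 236802) (.node .leaf (226921, 0, 14, 130225) .leaf)) (226922, 0, 14, 183591) (.node (.node .leaf (226923, 0, 9, 136387) .leaf) (226928, 0, 17, 80373) (.node .leaf (226929, 0, 16, 204969) .leaf))) (226930, 0, 17, 184711) (.node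 (.node (.node .leaf (226931, 0, 16, 34985) .leaf) (226936, 0, 15, 119657) (.node .leaf (226937, 0, 14, 66865) .leaf)) (226938, 0, 17, 146203) (.node (.node .leaf (226939, 0, 14, 21780) .leaf) (226948, 0, 15, 239095) (.node .leaf (226949, 0, 12, 130265) .leaf))))) (226950, 0, 10, 141285) (.node (.node (.node (.node (.node .leaf (226951, 0, 16, 136363) .leaf) (226956, 0, 13, 86616) (.node .leaf (226957, 0, 16, 111166) .leaf)) (226958, 0, 13, 42777) (.node (.node .leaf (226959, 0, 19, 57883) .leaf) (226964, 0, 9, 119553) (.node .leaf (226965, 0, 16, 126963) .leaf))) (226966, 0, 17, 24496) (.node (.node (.node .leaf (226967, 0, 16, 49110) .leaf) (226972, 0, 12, 80285) (.node .leaf (226973, 0, 18, 248427) .leaf)) (226974, 0, 14, 162344) (.node (.node .leaf (226975, 0, 13, 35009) .leaf) (226980, 0, 14, 31797) (.node .leaf (226981, 0, 16, 40019) .leaf)))) (226982, 0, 15, 76816) (.node (.node (.node (.node .leaf (226983, 0, 17, 117878) .leaf) (226988, 0, 17, 143969) (.node .leaf (226989, 0, 16, 178635) .leaf)) (226990, 0, 17, 199048)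 (.node (.node .leaf (226991, 0, 16, 230205) .leaf) (226996, 0, 18, 132192) (.node .leaf (226997, 0, 15, 189446) .leaf))) (226998, 0, 15, 214649) (.node (.node (.node .leaf (226999, 0, 17, 242723) .leaf) (227004, 0, 17, 17559) (.node .leaf (227005, 0, 11, 138681) .leaf)) (227006, 0, 11, 94685) (.node (.node .leaf (227007, 0, 16, 102843) .leaf) (227008, 0, 14, 98912) (.node .leaf (227009, 0, 15, 252750) .leaf))))))

/-- part of the orbit tree -/
def itp6_474 : Tree := (.node (.node (.node (.node (.node (.node .leaf (227011, 0, 16, 13116) .leaf) (227016, 0, 16, 131581) (.node .leaf (227017, 0, 9, 209362) .leaf)) (227018, 0, 12, 217560) (.node (.node .leaf (227019, 0, 16, 242110) .leaf) (227024, 0, 14, 154672) (.node .leaf (227025, 0, 15, 110008) .leaf))) (227026, 0, 16, 7396) (.node (.node (.node .leaf (227027, 0, 16, 148938) .leaf) (227032, 0, 15, 31144) (.node .leaf (227033, 0, 18, 39374) .leaf)) (227034, 0, 17, 76173) (.node (.node .leaf (227035, 0, 17, 175958) .leaf) (227040, 0, 16, 208784) (.node .leaf (227041, 0, 16, 249846)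 .leaf)))) (227042, 0, 16, 202520) (.node (.node (.node (.node .leaf (227043, 0, 17, 171987) .leaf) (227048, 0, 13, 68104) (.node .leaf (227049, 0, 16, 150744) .leaf)) (227050, 0, 15, 23085) (.node (.node .leaf (227051, 0, 16, 107690) .leaf) (227056, 0, 18, 88005) (.node .leaf (227057, 0, 16, 53426) .leaf))) (227058, 0, 14, 90606) (.node (.node (.node .leaf (227059, 0, 17, 211136) .leaf) (227064, 0, 17, 156416) (.node .leaf (227065, 0, 18, 234043) .leaf)) (227066, 0, 17, 139896) (.node (.node .leaf (227067, 0, 12, 250460) .leaf) (227076, 0, 17, 148158) (.node .leaf (227077, 0, 16, 172760) .leaf))))) (227078, 0, 17, 203279) (.node (.node (.node (.node (.node .leaf (227079, 0, 15, 82721) .leaf) (227084, 0, 17, 26406) (.node .leaf (227085, 0, 19, 147919) .leaf)) (227086, 0, 11, 79619) (.node (.node .leaf (227087, 0, 15, 120677) .leaf) (227092, 0, 13, 15083) (.node .leaf (227093, 0, 17, 55949) .leaf))) (227094, 0, 16, 93433) (.node (.node (.node .leaf (227095, 0, 14, 210391) .leaf) (227100, 0, 16, 159255) (.node .leaf (227101, 0,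 16, 14137) .leaf)) (227102, 0, 17, 216918) (.node (.node .leaf (227103, 0, 15, 253771) .leaf) (227108, 0, 17, 84299) (.node .leaf (227109, 0, 16, 251481) .leaf)))) (227110, 0, 13, 157445) (.node (.node (.node (.node .leaf (227111, 0, 16, 63752) .leaf) (227116, 0, 16, 224467) (.node .leaf (227117, 0, 15, 232629) .leaf)) (227118, 0, 16, 167321) (.node (.node .leaf (227119, 0, 17, 187536) .leaf) (227124, 0, 17, 260481) (.node .leaf (227125, 0, 17, 106671) .leaf))) (227126, 0, 18, 155963) (.node (.node (.node .leaf (227127, 0, 12, 149725) .leaf) (227132, 0, 15, 70790) (.node .leaf (227133, 0, 12, 84531) .leaf)) (227134, 0, 18, 64367) (.node (.node .leaf (227135, 0, 14, 42181) .leaf) (227136, 0, 16, 185834) (.node .leaf (227137, 0, 14, 36036) .leaf))))))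

/-- part of the orbit tree -/
def itp6_475 : Tree := (.node (.node (.node (.node (.node (.node .leaf (227139, 0, 12, 222390) .leaf) (227144, 0, 15, 210051) (.node .leaf (227145, 0, 13, 251109) .leaf)) (227146, 0, 17, 120580) (.node (.node .leaf (227147, 0, 17, 165056) .leaf) (227152, 0, 13, 223566) (.node .leaf (227153, 0, 14, 231720) .leaf))) (227154, 0, 17, 145771) (.node (.node (.node .leaf (227155, 0, 14, 70208) .leaf) (227160, 0, 15, 18816) (.node .leaf (227161, 0, 17, 135342) .leaf)) (227162, 0, 15, 238066) (.node (.node .leaf (227163, 0, 17, 129244) .leaf) (227168, 0, 15, 239840) (.node .leaf (227169, 0, 18, 195208) .leaf)))) (227170, 0, 15, 16530) (.node (.node (.node (.node .leaf (227171, 0, 15, 240301) .leaf) (227176, 0, 17, 213628) (.node .leaf (227177, 0, 17, 72530) .leaf)) (227178, 0, 17, 43534) (.node (.node .leaf (227179, 0, 17, 102197) .leaf) (227184, 0, 14, 122390) (.node .leaf (227185, 0, 19, 33501) .leaf))) (227186, 0, 16, 78494) (.node (.node (.node .leaf (227187, 0, 17, 28490) .leaf) (227192, 0, 16, 149283)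 (.node .leaf (227193, 0, 17, 173893) .leaf)) (227194, 0, 16, 187640) (.node (.node .leaf (227195, 0, 16, 259936) .leaf) (227204, 0, 13, 54708) (.node .leaf (227205, 0, 16, 13778) .leaf))))) (227206, 0, 16, 99729) (.node (.node (.node (.node (.node .leaf (227207, 0, 18, 91639) .leaf) (227212, 0, 17, 192556) (.node .leaf (227213, 0, 16, 135242) .leaf)) (227214, 0, 16, 237577) (.node (.node .leaf (227215, 0, 15, 213103) .leaf) (227220, 0, 15, 175585) (.node .leaf (227221, 0, 11, 224716) .leaf))) (227222, 0, 15, 261572) (.node (.node (.node .leaf (227223, 0, 15, 204194) .leaf) (227228, 0, 16, 122494) (.node .leaf (227229, 0, 19, 231248) .leaf)) (227230, 0, 15, 144908) (.node (.node .leaf (227231, 0, 17, 79930) .leaf) (227236, 0, 16, 147230) (.node .leaf (227237, 0, 15, 212519) .leaf)))) (227238, 0, 16, 120684) (.node (.node (.node (.node .leaf (227239, 0, 15, 233026) .leaf) (227244, 0, 15, 185730) (.node .leaf (227245, 0, 15, 72639) .leaf)) (227246, 0, 14, 44028) (.node (.node .leaf (227247, 0, 17, 19354) .leaf) (227252, 0, 14,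 108052) (.node .leaf (227253, 0, 15, 83570) .leaf))) (227254, 0, 8, 63025) (.node (.node (.node .leaf (227255, 0, 16, 129204) .leaf) (227260, 0, 17, 230284) (.node .leaf (227261, 0, 17, 195162) .leaf)) (227262, 0, 17, 185257) (.node (.node .leaf (227263, 0, 16, 144335) .leaf) (227264, 0, 16, 230929) (.node .leaf (227265, 0, 16, 222839) .leaf))))))

/-- part of the orbit tree -/
def itp6_476 : Tree := (.node (.node (.node (.node (.node (.node .leaf (227267, 0, 14, 144978) .leaf) (227272, 0, 16, 102175) (.node .leaf (227273, 0, 18, 251441) .leaf)) (227274, 0, 17, 157549) (.node (.node .leaf (227275, 0, 13, 5066) .leaf) (227280, 0, 17, 130628) (.node .leaf (227281, 0, 18, 73250) .leaf))) (227282, 0, 15, 64263) (.node (.node (.node .leaf (227283, 0, 17, 172585) .leaf) (227288, 0, 15, 260585) (.node .leaf (227289, 0, 17, 211898) .leaf)) (227290, 0, 16, 166905) (.node (.node .leaf (227291, 0, 17, 158623) .leaf) (227296, 0, 16, 6281) (.node .leaf (227297, 0, 18, 28034) .leaf)))) (227298, 0, 14, 122305) (.node (.node (.node (.node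 .leaf (227299, 0, 17, 109013) .leaf) (227304, 0, 15, 61973) (.node .leaf (227305, 0, 16, 174907) .leaf)) (227306, 0, 13, 260185) (.node (.node .leaf (227307, 0, 16, 202815) .leaf) (227312, 0, 13, 193969) (.node .leaf (227313, 0, 16, 136663) .leaf))) (227314, 0, 14, 99853) (.node (.node (.node .leaf (227315, 0, 14, 253731) .leaf) (227320, 0, 20, 53289) (.node .leaf (227321, 0, 18, 56781) .leaf)) (227322, 0, 14, 98316) (.node (.node .leaf (227323, 0, 13, 210367) .leaf) (227328, 0, 18, 168237) (.node .leaf (227331, 0, 18, 205166) .leaf))))) (227332, 0, 13, 219257) (.node (.node (.node (.node (.node .leaf (227335, 0, 17, 190757) .leaf) (227336, 0, 15, 46261) (.node .leaf (227339, 0, 17, 66806) .leaf)) (227340, 0, 17, 242405) (.node (.node .leaf (227343, 0, 16, 132025) .leaf) (227344, 0, 16, 217490) (.node .leaf (227347, 0, 16, 88379) .leaf))) (227348, 0, 15, 77455) (.node (.node (.node .leaf (227351, 0, 16, 40915) .leaf) (227352, 0, 16, 183520) (.node .leaf (227355, 0, 16, 228515) .leaf)) (227356, 0, 16, 115731) (.node (.node .leaf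 (227359, 0, 17, 30031) .leaf) (227360, 0, 13, 105176) (.node .leaf (227363, 0, 12, 125746) .leaf)))) (227364, 0, 12, 140659) (.node (.node (.node (.node .leaf (227367, 0, 17, 234543) .leaf) (227368, 0, 18, 245568) (.node .leaf (227371, 0, 16, 65966) .leaf)) (227372, 0, 14, 231011) (.node (.node .leaf (227375, 0, 16, 144928) .leaf) (227376, 0, 14, 142488) (.node .leaf (227379, 0, 17, 152270) .leaf))) (227380, 0, 18, 252846) (.node (.node (.node .leaf (227383, 0, 16, 158701) .leaf) (227384, 0, 15, 181764) (.node .leaf (227387, 0, 16, 227160) .leaf)) (227388, 0, 15, 130614) (.node (.node .leaf (227391, 0, 17, 20085) .leaf) (227393, 0, 17, 206528) (.node .leaf (227394, 0, 17, 169884) .leaf))))))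

/-- part of the orbit tree -/
def itp6_477 : Tree := (.node itp6_473 (227010, 0, 15, 158226) itp6_474)

/-- part of the orbit tree -/
def itp6_478 : Tree := (.node itp6_475 (227266, 0, 16, 167409) itp6_476)

/-- part of the orbit tree -/
def itp6_479 : Tree := (.node (.node (.node (.node (.node (.node .leaf (227398, 0, 16, 37549) .leaf) (227401, 0, 16, 212565) (.node .leaf (227402, 0, 12, 167446) .leaf)) (227405, 0, 15, 111425) (.node (.node .leaf (227406, 0, 18, 177973) .leaf) (227409, 0, 16, 86070) (.node .leaf (227410, 0, 18, 57706) .leaf))) (227413, 0, 17, 219835) (.node (.node (.node .leaf (227414, 0, 17, 191224) .leaf) (227417, 0, 16, 83456) (.node .leaf (227418, 0, 16, 63043) .leaf)) (227421, 0, 17, 247223) (.node (.node .leaf (227422, 0, 14, 161003) .leaf) (227425, 0, 18, 154570) (.node .leaf (227426, 0, 16, 237691) .leaf)))) (227429, 0, 16, 141595) (.node (.node (.node (.node .leaf (227430, 0, 15, 235864) .leaf) (227433, 0, 17, 13728) (.node .leaf (227434, 0, 16, 99811) .leaf)) (227437, 0, 14, 3203) (.node (.node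 .leaf (227438, 0, 17, 113856) .leaf) (227441, 0, 14, 11580) (.node .leaf (227442, 0, 16, 120878) .leaf))) (227445, 0, 16, 152097) (.node (.node (.node .leaf (227446, 0, 16, 254845) .leaf) (227449, 0, 17, 151029) (.node .leaf (227450, 0, 17, 95996) .leaf)) (227453, 0, 17, 160982) (.node (.node .leaf (227454, 0, 16, 199137) .leaf) (227456, 0, 14, 1575) (.node .leaf (227459, 0, 17, 112228) .leaf))))) (227460, 0, 16, 59408) (.node (.node (.node (.node (.node .leaf (227463, 0, 16, 88396) .leaf) (227464, 0, 15, 140223) (.node .leaf (227467, 0, 16, 234492) .leaf)) (227468, 0, 17, 137884) (.node (.node .leaf (227471, 0, 13, 240351) .leaf) (227472, 0, 14, 57851) (.node .leaf (227475, 0, 16, 86183) .leaf))) (227476, 0, 13, 171750) (.node (.node (.node .leaf (227479, 0, 18, 259858) .leaf) (227480, 0, 16, 2919) (.node .leaf (227483, 0, 15, 113211) .leaf)) (227484, 0, 17, 160890) (.node (.node .leaf (227487, 0, 16, 119434) .leaf) (227488, 0, 16, 200146) (.node .leaf (227491, 0, 13, 154459) .leaf)))) (227492, 0, 16, 210161) (.node (.node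 (.node (.node .leaf (227495, 0, 14, 165042) .leaf) (227496, 0, 17, 75850) (.node .leaf (227499, 0, 17, 176583) .leaf)) (227500, 0, 16, 69993) (.node (.node .leaf (227503, 0, 14, 41258) .leaf) (227504, 0, 18, 105713) (.node .leaf (227507, 0, 14, 50628) .leaf))) (227508, 0, 15, 85156) (.node (.node (.node .leaf (227511, 0, 17, 152240) .leaf) (227512, 0, 18, 95853) (.node .leaf (227515, 0, 15, 50993) .leaf)) (227516, 0, 13, 199024) (.node (.node .leaf (227519, 0, 16, 186751) .leaf) (227521, 0, 18, 232647) (.node .leaf (227522, 0, 17, 146564) .leaf))))))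

/-- part of the orbit tree -/
def itp6_480 : Tree := (.node (.node (.node (.node (.node (.node .leaf (227526, 0, 18, 132519) .leaf) (227529, 0, 14, 31797) (.node .leaf (227530, 0, 14, 118121) .leaf)) (227533, 0, 18, 102524) (.node (.node .leaf (227534, 0, 17, 8255) .leaf) (227537, 0, 17, 188511) (.node .leaf (227538, 0, 15, 217347) .leaf))) (227541, 0, 17, 40770) (.node (.node (.node .leaf (227542, 0, 15, 77342) .leaf) (227545, 0, 16, 133827) (.node .leaf (227546, 0, 11, 155977) .leaf)) (227549, 0, 16, 30174) (.node (.node .leaf (227550, 0, 15, 153706) .leaf) (227553, 0, 14, 125859) (.node .leaf (227554, 0, 16, 79729) .leaf)))) (227557, 0, 15, 234686) (.node (.node (.node (.node .leaf (227558, 0, 16, 140770) .leaf) (227561, 0, 16, 65855) (.node .leaf (227562, 0, 17, 45155) .leaf)) (227565, 0, 14, 228898) (.node (.node .leaf (227566, 0, 14, 184190) .leaf) (227569, 0, 16, 196455) (.node .leaf (227570, 0, 16, 216868) .leaf))) (227573, 0, 14, 181828) (.node (.node (.node .leaf (227574, 0, 11, 21268) .leaf) (227577, 0, 19, 56063)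 (.node .leaf (227578, 0, 18, 181909) .leaf)) (227581, 0, 15, 58332) (.node (.node .leaf (227582, 0, 14, 86943) .leaf) (227584, 0, 16, 78681) (.node .leaf (227587, 0, 13, 33562) .leaf))))) (227588, 0, 15, 68218) (.node (.node (.node (.node (.node .leaf (227591, 0, 13, 134854) .leaf) (227592, 0, 11, 76315) (.node .leaf (227595, 0, 16, 39751) .leaf)) (227596, 0, 16, 218374) (.node (.node .leaf (227599, 0, 15, 189530) .leaf) (227600, 0, 16, 215820) (.node .leaf (227603, 0, 16, 195407) .leaf))) (227604, 0, 17, 117100) (.node (.node (.node .leaf (227607, 0, 17, 180844) .leaf) (227608, 0, 14, 220397) (.node .leaf (227611, 0, 16, 191921) .leaf)) (227612, 0, 16, 87991) (.node (.node .leaf (227615, 0, 15, 37548) .leaf) (227616, 0, 16, 145580) (.node .leaf (227619, 0, 9, 68817) .leaf)))) (227620, 0, 16, 180880) (.node (.node (.node (.node .leaf (227623, 0, 14, 242124) .leaf) (227624, 0, 17, 22289) (.node .leaf (227627, 0, 17, 109943) .leaf)) (227628, 0, 14, 141324) (.node (.node .leaf (227631, 0, 16, 235856) .leaf) (227632, 0, 17, 16633)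 (.node .leaf (227635, 0, 16, 227879) .leaf))) (227636, 0, 12, 46182) (.node (.node (.node .leaf (227639, 0, 16, 117145) .leaf) (227640, 0, 11, 139751) (.node .leaf (227643, 0, 17, 233659) .leaf)) (227644, 0, 15, 24314) (.node (.node .leaf (227647, 0, 16, 126886) .leaf) (227649, 0, 18, 246051) (.node .leaf (227650, 0, 17, 199162) .leaf))))))

/-- part of the orbit tree -/
def itp6_481 : Tree := (.node (.node (.node (.node (.node (.node .leaf (227654, 0, 14, 3938) .leaf) (227657, 0, 17, 207807) (.node .leaf (227658, 0, 17, 76898) .leaf)) (227661, 0, 17, 87202) (.node (.node .leaf (227662, 0, 19, 58878) .leaf) (227665, 0, 18, 49644) (.node .leaf (227666, 0, 16, 1673) .leaf))) (227669, 0, 13, 63695) (.node (.node (.node .leaf (227670, 0, 16, 84108) .leaf) (227673, 0, 17, 89417) (.node .leaf (227674, 0, 18, 218167) .leaf)) (227677, 0, 15, 187735) (.node (.node .leaf (227678, 0, 18, 168712) .leaf) (227681, 0, 15, 179241) (.node .leaf (227682, 0, 13, 527) .leaf)))) (227685, 0, 10, 101231) (.node (.node (.node (.node .leaf (227686,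 0, 16, 15148) .leaf) (227689, 0, 14, 153269) (.node .leaf (227690, 0, 14, 141207) .leaf)) (227693, 0, 17, 10664) (.node (.node .leaf (227694, 0, 17, 138932) .leaf) (227697, 0, 18, 248345) (.node .leaf (227698, 0, 15, 97155) .leaf))) (227701, 0, 18, 177602) (.node (.node (.node .leaf (227702, 0, 15, 197790) .leaf) (227705, 0, 14, 8259) (.node .leaf (227706, 0, 14, 102687) .leaf)) (227709, 0, 18, 155486) (.node (.node .leaf (227710, 0, 14, 26337) .leaf) (227712, 0, 14, 159982) (.node .leaf (227715, 0, 11, 246194) .leaf))))) (227716, 0, 14, 236912) (.node (.node (.node (.node (.node .leaf (227719, 0, 15, 114351) .leaf) (227720, 0, 13, 170610) (.node .leaf (227723, 0, 16, 12680) .leaf)) (227724, 0, 16, 58735) (.node (.node .leaf (227727, 0, 14, 87091) .leaf) (227728, 0, 18, 1560) (.node .leaf (227731, 0, 15, 112452) .leaf))) (227732, 0, 16, 162053) (.node (.node (.node .leaf (227735, 0, 18, 247897) .leaf) (227736, 0, 14, 260510) (.node .leaf (227739, 0, 16, 149981) .leaf)) (227740, 0, 15, 168857) (.node (.node .leaf (227743, 0,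 17, 159998) .leaf) (227744, 0, 10, 44966) (.node .leaf (227747, 0, 18, 73701) .leaf)))) (227748, 0, 15, 94969) (.node (.node (.node (.node .leaf (227751, 0, 16, 50085) .leaf) (227752, 0, 13, 166462) (.node .leaf (227755, 0, 18, 153124) .leaf)) (227756, 0, 17, 104549) (.node (.node .leaf (227759, 0, 17, 197470) .leaf) (227760, 0, 14, 97042) (.node .leaf (227763, 0, 16, 223152) .leaf))) (227764, 0, 17, 192208) (.node (.node (.node .leaf (227767, 0, 10, 177491) .leaf) (227768, 0, 15, 62059) (.node .leaf (227771, 0, 17, 8402) .leaf)) (227772, 0, 15, 257683) (.node (.node .leaf (227775, 0, 17, 155599) .leaf) (227777, 0, 17, 29002) (.node .leaf (227778, 0, 17, 106224) .leaf))))))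

/-- part of the orbit tree -/
def itp6_482 : Tree := (.node (.node (.node (.node (.node (.node .leaf (227782, 0, 17, 108499) .leaf) (227785, 0, 18, 39894) (.node .leaf (227786, 0, 15, 76426) .leaf)) (227789, 0, 16, 189643) (.node (.node .leaf (227790, 0, 15, 218519) .leaf) (227793, 0, 13, 133052) (.node .leaf (227794, 0, 18, 255653) .leaf))) (227797, 0, 18, 30881) (.node (.node (.node .leaf (227798, 0, 17, 253830) .leaf) (227801, 0, 15, 29566) (.node .leaf (227802, 0, 16, 115517) .leaf)) (227805, 0, 16, 19037) (.node (.node .leaf (227806, 0, 16, 129566) .leaf) (227809, 0, 17, 68672) (.node .leaf (227810, 0, 14, 48412) .leaf)))) (227813, 0, 16, 226141) (.node (.node (.node (.node .leaf (227814, 0, 19, 180737) .leaf) (227817, 0, 11, 124636) (.node .leaf (227818, 0, 17, 45213) .leaf)) (227821, 0, 13, 235969) (.node (.node .leaf (227822, 0, 12, 35262) .leaf) (227825, 0, 13, 228022) (.node .leaf (227826, 0, 15, 60752) .leaf))) (227829, 0, 14, 91184) (.node (.node (.node .leaf (227830, 0, 17, 46327) .leaf) (227833, 0, 17, 227467)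 (.node .leaf (227834, 0, 12, 139638) .leaf)) (227837, 0, 15, 126775) (.node (.node .leaf (227838, 0, 16, 193003) .leaf) (227842, 0, 15, 182842) (.node .leaf (227843, 0, 16, 37652) .leaf))))) (227846, 0, 15, 46375) (.node (.node (.node (.node (.node .leaf (227847, 0, 15, 191497) .leaf) (227850, 0, 15, 139430) (.node .leaf (227851, 0, 18, 75910) .leaf)) (227854, 0, 15, 127427) (.node (.node .leaf (227855, 0, 16, 132757) .leaf) (227858, 0, 17, 48332) (.node .leaf (227859, 0, 17, 189922) .leaf))) (227862, 0, 17, 181201) (.node (.node (.node .leaf (227863, 0, 17, 85096) .leaf) (227866, 0, 13, 22096) (.node .leaf (227867, 0, 16, 217299) .leaf)) (227870, 0, 17, 231830) (.node (.node .leaf (227871, 0, 14, 223728) .leaf) (227874, 0, 13, 59021) (.node .leaf (227875, 0, 9, 126494) .leaf)))) (227878, 0, 17, 116781) (.node (.node (.node (.node .leaf (227879, 0, 15, 16328) .leaf) (227882, 0, 17, 181013) (.node .leaf (227883, 0, 16, 66690) .leaf)) (227886, 0, 15, 74417) (.node (.node .leaf (227887, 0, 16, 137808) .leaf) (227890, 0, 15, 115142)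 (.node .leaf (227891, 0, 15, 163518) .leaf))) (227894, 0, 16, 174075) (.node (.node (.node .leaf (227895, 0, 18, 149405) .leaf) (227898, 0, 10, 76634) (.node .leaf (227899, 0, 16, 23334) .leaf)) (227902, 0, 9, 218183) (.node (.node .leaf (227903, 0, 9, 68969) .leaf) (227904, 0, 16, 120795) .leaf)))))

/-- part of the orbit tree -/
def itp6_483 : Tree := (.node itp6_479 (227525, 0, 17, 190900) itp6_480)

/-- part of the orbit tree -/
def itp6_484 : Tree := (.node itp6_481 (227781, 0, 18, 6032) itp6_482)

/-- part of the orbit tree -/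
def itp6_485 : Tree := (.node itp6_477 (227138, 0, 13, 16702) itp6_478)

/-- part of the orbit tree -/
def itp6_486 : Tree := (.node itp6_483 (227653, 0, 17, 163994) itp6_484)

/-- part of the orbit tree -/
def itp6_487 : Tree := (.node (.node (.node (.node (.node (.node .leaf (227908, 0, 13, 198111) .leaf) (227909, 0, 18, 89329) (.node .leaf (227912, 0, 16, 102494) .leaf)) (227913, 0, 16, 248176) (.node (.node .leaf (227916, 0, 15, 248672) .leaf) (227917, 0, 15, 207622) (.node .leaf (227920, 0, 13, 199732) .leaf))) (227921, 0, 16, 217064) (.node (.node (.node .leaf (227924, 0, 17, 235181) .leaf) (227925, 0, 17, 227019) (.node .leaf (227928, 0, 15, 255656) .leaf)) (227929, 0, 17, 92784) (.node (.node .leaf (227932, 0, 13, 111413) .leaf) (227933, 0, 15, 245915) (.node .leaf (227936, 0, 16, 1992) .leaf)))) (227937, 0, 16, 146504) (.node (.node (.node (.node .leaf (227940, 0, 16, 162005) .leaf) (227941, 0, 19, 132459) (.node .leaf (227944, 0, 16, 60756) .leaf)) (227945, 0, 18, 6608) (.node (.node .leaf (227948, 0, 16, 168521)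 .leaf) (227949, 0, 17, 52071) (.node .leaf (227952, 0, 14, 42107) .leaf))) (227953, 0, 17, 10256) (.node (.node (.node .leaf (227956, 0, 18, 40280) .leaf) (227957, 0, 18, 153357) (.node .leaf (227960, 0, 17, 164323) .leaf)) (227961, 0, 17, 49804) (.node (.node .leaf (227964, 0, 15, 178368) .leaf) (227965, 0, 18, 153766) (.node .leaf (227970, 0, 16, 96851) .leaf))))) (227971, 0, 17, 205693) (.node (.node (.node (.node (.node .leaf (227974, 0, 12, 82769) .leaf) (227975, 0, 14, 107319) (.node .leaf (227978, 0, 17, 221162) .leaf)) (227979, 0, 16, 245644) (.node (.node .leaf (227982, 0, 13, 258002) .leaf) (227983, 0, 18, 231087) (.node .leaf (227986, 0, 17, 199845) .leaf))) (227987, 0, 15, 87435) (.node (.node (.node .leaf (227990, 0, 15, 95160) .leaf) (227991, 0, 12, 252770) (.node .leaf (227994, 0, 18, 255545) .leaf)) (227995, 0, 18, 114455) (.node (.node .leaf (227998, 0, 16, 104740) .leaf) (227999, 0, 16, 130810) (.node .leaf (228002, 0, 18, 160135) .leaf)))) (228003, 0, 17, 155255) (.node (.node (.node (.node .leaf (228006,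 0, 14, 149668) .leaf) (228007, 0, 15, 8554) (.node .leaf (228010, 0, 17, 60869) .leaf)) (228011, 0, 18, 177387) (.node (.node .leaf (228014, 0, 17, 168664) .leaf) (228015, 0, 18, 52214) (.node .leaf (228018, 0, 18, 160175) .leaf))) (228019, 0, 16, 10369) (.node (.node (.node .leaf (228022, 0, 12, 12529) .leaf) (228023, 0, 18, 53399) (.node .leaf (228026, 0, 14, 142410) .leaf)) (228027, 0, 16, 183340) (.node (.node .leaf (228030, 0, 17, 136553) .leaf) (228031, 0, 16, 193807) (.node .leaf (228032, 0, 14, 182955) .leaf))))))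

/-- part of the orbit tree -/
def itp6_488 : Tree := (.node (.node (.node (.node (.node (.node .leaf (228036, 0, 16, 227826) .leaf) (228037, 0, 13, 235924) (.node .leaf (228040, 0, 15, 91465) .leaf)) (228041, 0, 17, 31001) (.node (.node .leaf (228044, 0, 15, 24362) .leaf) (228045, 0, 15, 132612) (.node .leaf (228048, 0, 12, 80004) .leaf))) (228049, 0, 15, 121058) (.node (.node (.node .leaf (228052, 0, 18, 181056) .leaf) (228053, 0, 17, 39534) (.node .leaf (228056, 0, 18, 22209) .leaf)) (228057, 0, 17, 135151) (.node (.node .leaf (228060, 0, 18, 205887) .leaf) (228061, 0, 17, 28914) (.node .leaf (228064, 0, 11, 243617) .leaf)))) (228065, 0, 14, 43842) (.node (.node (.node (.node .leaf (228068, 0, 14, 116924) .leaf) (228069, 0, 15, 233874) (.node .leaf (228072, 0, 14, 159420) .leaf)) (228073, 0, 17, 167642) (.node (.node .leaf (228076, 0, 15, 153503) .leaf) (228077, 0, 17, 228110) (.node .leaf (228080, 0, 17, 115031) .leaf))) (228081, 0, 14, 235641) (.node (.node (.node .leaf (228084, 0, 16, 245322) .leaf) (228085, 0, 18, 124772)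 (.node .leaf (228088, 0, 15, 76747) .leaf)) (228089, 0, 16, 226021) (.node (.node .leaf (228092, 0, 14, 12234) .leaf) (228093, 0, 17, 53164) (.node .leaf (228098, 0, 16, 142809) .leaf))))) (228099, 0, 17, 29943) (.node (.node (.node (.node (.node .leaf (228102, 0, 16, 21188) .leaf) (228103, 0, 18, 134122) (.node .leaf (228106, 0, 17, 182085) .leaf)) (228107, 0, 16, 40555) (.node (.node .leaf (228110, 0, 16, 47192) .leaf) (228111, 0, 16, 177105) (.node .leaf (228114, 0, 17, 23343) .leaf))) (228115, 0, 17, 131585) (.node (.node (.node .leaf (228118, 0, 15, 140338) .leaf) (228119, 0, 17, 192028) (.node .leaf (228122, 0, 15, 45491) .leaf)) (228123, 0, 15, 62119) (.node (.node .leaf (228126, 0, 16, 183982) .leaf) (228127, 0, 13, 52100) (.node .leaf (228130, 0, 16, 217299) .leaf)))) (228131, 0, 17, 238751) (.node (.node (.node (.node .leaf (228134, 0, 15, 228826) .leaf) (228135, 0, 14, 236988) (.node .leaf (228138, 0, 18, 90465) .leaf)) (228139, 0, 17, 123745) (.node (.node .leaf (228142, 0, 16, 116050) .leaf) (228143, 0, 13, 236668)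 (.node .leaf (228146, 0, 13, 81068) .leaf))) (228147, 0, 18, 229131) (.node (.node (.node .leaf (228150, 0, 15, 219448) .leaf) (228151, 0, 14, 124393) (.node .leaf (228154, 0, 17, 203060) .leaf)) (228155, 0, 18, 260434) (.node (.node .leaf (228158, 0, 16, 242596) .leaf) (228159, 0, 16, 125578) (.node .leaf (228160, 0, 17, 161199) .leaf))))))

/-- part of the orbit tree -/
def itp6_489 : Tree := (.node (.node (.node (.node (.node (.node .leaf (228164, 0, 17, 150668) .leaf) (228165, 0, 14, 175338) (.node .leaf (228168, 0, 13, 20535) .leaf)) (228169, 0, 17, 208531) (.node (.node .leaf (228172, 0, 17, 26900) .leaf) (228173, 0, 17, 86414) (.node .leaf (228176, 0, 16, 256983) .leaf))) (228177, 0, 14, 60828) (.node (.node (.node .leaf (228180, 0, 15, 13529) .leaf) (228181, 0, 17, 249316) (.node .leaf (228184, 0, 17, 196939) .leaf)) (228185, 0, 17, 88165) (.node (.node .leaf (228188, 0, 12, 97878) .leaf) (228189, 0, 16, 192807) (.node .leaf (228192, 0, 17, 57387) .leaf)))) (228193, 0, 16, 178437) (.node (.node (.node (.node .leaf (228196,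 0, 12, 171830) .leaf) (228197, 0, 15, 108319) (.node .leaf (228200, 0, 16, 2743) .leaf)) (228201, 0, 15, 244644) (.node (.node .leaf (228204, 0, 16, 221921) .leaf) (228205, 0, 17, 11396) (.node .leaf (228208, 0, 15, 169693) .leaf))) (228209, 0, 18, 53235) (.node (.node (.node .leaf (228212, 0, 13, 59840) .leaf) (228213, 0, 16, 176366) (.node .leaf (228216, 0, 18, 162881) .leaf)) (228217, 0, 17, 115697) (.node (.node .leaf (228220, 0, 16, 72372) .leaf) (228221, 0, 18, 154226) (.node .leaf (228226, 0, 17, 186374) .leaf))))) (228227, 0, 16, 145504) (.node (.node (.node (.node (.node .leaf (228230, 0, 16, 254637) .leaf) (228231, 0, 16, 131395) (.node .leaf (228234, 0, 12, 96044) .leaf)) (228235, 0, 15, 208386) (.node (.node .leaf (228238, 0, 16, 198705) .leaf) (228239, 0, 15, 86303) (.node .leaf (228242, 0, 18, 41043) .leaf))) (228243, 0, 9, 111208) (.node (.node (.node .leaf (228246, 0, 18, 103515) .leaf) (228247, 0, 15, 249205) (.node .leaf (228250, 0, 17, 197082) .leaf)) (228251, 0, 15, 157101) (.node (.node .leaf (228254, 0,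 13, 97991) .leaf) (228255, 0, 16, 206825) (.node .leaf (228258, 0, 17, 119795) .leaf)))) (228259, 0, 17, 78741) (.node (.node (.node (.node .leaf (228262, 0, 19, 171943) .leaf) (228263, 0, 13, 50825) (.node .leaf (228266, 0, 15, 2598) .leaf)) (228267, 0, 17, 202253) (.node (.node .leaf (228270, 0, 15, 161083) .leaf) (228271, 0, 18, 208686) (.node .leaf (228274, 0, 9, 169548) .leaf))) (228275, 0, 13, 53090) (.node (.node (.node .leaf (228278, 0, 16, 59729) .leaf) (228279, 0, 14, 176255) (.node .leaf (228282, 0, 12, 101950) .leaf)) (228283, 0, 15, 93784) (.node (.node .leaf (228286, 0, 16, 112413) .leaf) (228287, 0, 18, 87931) (.node .leaf (228288, 0, 16, 142664) .leaf))))))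

/-- part of the orbit tree -/
def itp6_490 : Tree := (.node (.node (.node (.node (.node (.node .leaf (228292, 0, 9, 56198) .leaf) (228293, 0, 17, 15328) (.node .leaf (228296, 0, 14, 182077) .leaf)) (228297, 0, 18, 141147) (.node (.node .leaf (228300, 0, 16, 47305) .leaf) (228301, 0, 17, 138872) (.node .leaf (228304, 0, 17, 23486) .leaf))) (228305, 0, 10, 162454) (.node (.node (.node .leaf (228308, 0, 17, 173011) .leaf) (228309, 0, 17, 32141) (.node .leaf (228312, 0, 13, 45346) .leaf)) (228313, 0, 17, 24334) (.node (.node .leaf (228316, 0, 16, 183871) .leaf) (228317, 0, 16, 26157) (.node .leaf (228320, 0, 18, 256336) .leaf)))) (228321, 0, 16, 67948) (.node (.node (.node (.node .leaf (228324, 0, 15, 249971) .leaf) (228325, 0, 16, 208917) (.node .leaf (228328, 0, 17, 117960) .leaf)) (228329, 0, 13, 123888) (.node (.node .leaf (228332, 0, 17, 128491) .leaf) (228333, 0, 14, 236781) (.node .leaf (228336, 0, 12, 75444) .leaf))) (228337, 0, 14, 229274) (.node (.node (.node .leaf (228340, 0, 18, 219561) .leaf) (228341, 0, 16, 84032)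 (.node .leaf (228344, 0, 18, 242845) .leaf)) (228345, 0, 17, 218363) (.node (.node .leaf (228348, 0, 17, 232894) .leaf) (228349, 0, 17, 125467) (.node .leaf (228353, 0, 16, 224227) .leaf))))) (228355, 0, 15, 146374) (.node (.node (.node (.node (.node .leaf (228357, 0, 15, 217792) .leaf) (228359, 0, 12, 124113) (.node .leaf (228361, 0, 18, 85627) .leaf)) (228363, 0, 16, 225616) (.node (.node .leaf (228365, 0, 17, 96088) .leaf) (228367, 0, 16, 10109) (.node .leaf (228369, 0, 16, 70582) .leaf))) (228371, 0, 17, 126266) (.node (.node (.node .leaf (228373, 0, 14, 31317) .leaf) (228375, 0, 18, 31408) (.node .leaf (228377, 0, 17, 192468) .leaf)) (228379, 0, 16, 67494) (.node (.node .leaf (228381, 0, 16, 200461) .leaf) (228383, 0, 15, 155432) (.node .leaf (228385, 0, 18, 24598) .leaf)))) (228387, 0, 18, 190150) (.node (.node (.node (.node .leaf (228389, 0, 13, 225705) .leaf) (228391, 0, 14, 67856) (.node .leaf (228393, 0, 17, 123944) .leaf)) (228395, 0, 17, 134234) (.node (.node .leaf (228397, 0, 16, 236341) .leaf) (228399, 0, 14,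 208008) (.node .leaf (228401, 0, 14, 137283) .leaf))) (228403, 0, 16, 36912) (.node (.node (.node .leaf (228405, 0, 18, 139616) .leaf) (228407, 0, 16, 225605) (.node .leaf (228409, 0, 18, 15835) .leaf)) (228411, 0, 16, 93694) (.node (.node .leaf (228413, 0, 14, 126403) .leaf) (228415, 0, 16, 87261) (.node .leaf (228416, 0, 17, 57603) .leaf))))))

/-- part of the orbit tree -/
def itp6_491 : Tree := (.node itp6_487 (228033, 0, 16, 237751) itp6_488)

/-- part of the orbit tree -/
def itp6_492 : Tree := (.node itp6_489 (228289, 0, 17, 29798) itp6_490)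

/-- part of the orbit tree -/
def itp6_493 : Tree := (.node (.node (.node (.node (.node (.node .leaf (228420, 0, 17, 55328) .leaf) (228422, 0, 16, 100357) (.node .leaf (228424, 0, 17, 181403) .leaf)) (228426, 0, 15, 234686) (.node (.node .leaf (228428, 0, 17, 59291) .leaf) (228430, 0, 17, 241053) (.node .leaf (228432, 0, 16, 1260) .leaf))) (228434, 0, 17, 248179) (.node (.node (.node .leaf (228436, 0, 16, 162801) .leaf) (228438, 0, 16, 258128) (.node .leaf (228440, 0, 17, 48334) .leaf)) (228442, 0, 17, 198146) (.node (.node .leaf (228444, 0, 17, 168301) .leaf) (228446, 0, 14, 120264) (.node .leaf (228448, 0, 16, 256758) .leaf)))) (228450, 0, 17, 178899) (.node (.node (.node (.node .leaf (228452, 0, 16, 250837) .leaf) (228454, 0, 14, 164848) (.node .leaf (228456, 0, 14, 118638) .leaf)) (228458, 0, 17, 3582) (.node (.node .leaf (228460, 0, 17, 105105) .leaf) (228462, 0, 15, 42600) (.node .leaf (228464, 0, 18, 103075) .leaf))) (228466, 0, 16, 49798) (.node (.node (.node .leaf (228468, 0, 15, 109440) .leaf) (228470, 0, 16, 64421)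 (.node .leaf (228472, 0, 15, 103290) .leaf)) (228474, 0, 17, 162568) (.node (.node .leaf (228476, 0, 15, 257127) .leaf) (228478, 0, 15, 1045) (.node .leaf (228481, 0, 17, 246743) .leaf))))) (228483, 0, 16, 11173) (.node (.node (.node (.node (.node .leaf (228485, 0, 16, 113866) .leaf) (228487, 0, 16, 152760) (.node .leaf (228489, 0, 14, 207179) .leaf)) (228491, 0, 17, 49465) (.node (.node .leaf (228493, 0, 18, 87638) .leaf) (228495, 0, 19, 179748) (.node .leaf (228497, 0, 14, 111905) .leaf))) (228499, 0, 17, 185497) (.node (.node (.node .leaf (228501, 0, 17, 248380) .leaf) (228503, 0, 14, 8782) (.node .leaf (228505, 0, 14, 90045) .leaf)) (228507, 0, 16, 61697) (.node (.node .leaf (228509, 0, 15, 204960) .leaf) (228511, 0, 15, 51410) (.node .leaf (228513, 0, 15, 179933) .leaf)))) (228515, 0, 15, 239417) (.node (.node (.node (.node .leaf (228517, 0, 16, 183871) .leaf) (228519, 0, 17, 207282) (.node .leaf (228521, 0, 17, 53892) .leaf)) (228523, 0, 17, 98977) (.node (.node .leaf (228525, 0, 17, 11100) .leaf) (228527, 0, 17, 113538)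 (.node .leaf (228529, 0, 16, 36681) .leaf))) (228531, 0, 12, 122732) (.node (.node (.node .leaf (228533, 0, 16, 177974) .leaf) (228535, 0, 8, 124495) (.node .leaf (228537, 0, 15, 8887) .leaf)) (228539, 0, 17, 248517) (.node (.node .leaf (228541, 0, 15, 155050) .leaf) (228543, 0, 17, 246743) (.node .leaf (228544, 0, 11, 161289) .leaf))))))

/-- part of the orbit tree -/
def itp6_494 : Tree := (.node (.node (.node (.node (.node (.node .leaf (228548, 0, 17, 151338) .leaf) (228550, 0, 16, 21788) (.node .leaf (228552, 0, 17, 76015) .leaf)) (228554, 0, 13, 66484) (.node (.node .leaf (228556, 0, 17, 27314) .leaf) (228558, 0, 13, 80535) (.node .leaf (228560, 0, 15, 3676) .leaf))) (228562, 0, 17, 89721) (.node (.node (.node .leaf (228564, 0, 18, 14207) .leaf) (228566, 0, 17, 91994) (.node .leaf (228568, 0, 17, 220697) .leaf)) (228570, 0, 17, 46699) (.node (.node .leaf (228572, 0, 17, 73988) .leaf) (228574, 0, 16, 182646) (.node .leaf (228576, 0, 14, 49017) .leaf)))) (228578, 0, 20, 11737) (.node (.node (.node (.node .leaf (228580, 0,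 16, 180324) .leaf) (228582, 0, 18, 75798) (.node .leaf (228584, 0, 14, 219236) .leaf)) (228586, 0, 17, 245143) (.node (.node .leaf (228588, 0, 9, 221511) .leaf) (228590, 0, 14, 143714) (.node .leaf (228592, 0, 15, 198057) .leaf))) (228594, 0, 17, 74237) (.node (.node (.node .leaf (228596, 0, 15, 212106) .leaf) (228598, 0, 18, 158895) (.node .leaf (228600, 0, 13, 73777) .leaf)) (228602, 0, 18, 117601) (.node (.node .leaf (228604, 0, 16, 23566) .leaf) (228606, 0, 13, 18743) (.node .leaf (228609, 0, 15, 37981) .leaf))))) (228611, 0, 15, 228399) (.node (.node (.node (.node (.node .leaf (228613, 0, 17, 191296) .leaf) (228615, 0, 15, 106641) (.node .leaf (228617, 0, 14, 32449) .leaf)) (228619, 0, 11, 244778) (.node (.node .leaf (228621, 0, 18, 185644) .leaf) (228623, 0, 15, 125358) (.node .leaf (228625, 0, 16, 189099) .leaf))) (228627, 0, 12, 68313) (.node (.node (.node .leaf (228629, 0, 16, 40374) .leaf) (228631, 0, 13, 226756) (.node .leaf (228633, 0, 16, 133175) .leaf)) (228635, 0, 18, 122949) (.node (.node .leaf (228637, 0, 16,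 30506) .leaf) (228639, 0, 14, 237400) (.node .leaf (228641, 0, 15, 246370) .leaf)))) (228643, 0, 17, 131365) (.node (.node (.node (.node .leaf (228645, 0, 17, 235082) .leaf) (228647, 0, 9, 32312) (.node .leaf (228649, 0, 19, 66507) .leaf)) (228651, 0, 16, 47071) (.node (.node .leaf (228653, 0, 17, 122585) .leaf) (228655, 0, 17, 36604) (.node .leaf (228657, 0, 15, 237473) .leaf))) (228659, 0, 15, 59922) (.node (.node (.node .leaf (228661, 0, 18, 123068) .leaf) (228663, 0, 14, 133326) (.node .leaf (228665, 0, 18, 237487) .leaf)) (228667, 0, 16, 40271) (.node (.node .leaf (228669, 0, 12, 68128) .leaf) (228671, 0, 16, 189010) (.node .leaf (228672, 0, 15, 213879) .leaf))))))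

/-- part of the orbit tree -/
def itp6_495 : Tree := (.node (.node (.node (.node (.node (.node .leaf (228676, 0, 18, 227924) .leaf) (228678, 0, 15, 197270) (.node .leaf (228680, 0, 18, 91887) .leaf)) (228682, 0, 15, 104215) (.node (.node .leaf (228684, 0, 16, 90060) .leaf) (228686, 0, 14, 256010) (.node .leaf (228688, 0, 15, 58127) .leaf))) (228690, 0, 16, 199549) (.node (.node (.node .leaf (228692, 0, 16, 66049) .leaf) (228694, 0, 17, 95328) (.node .leaf (228696, 0, 14, 204474) .leaf)) (228698, 0, 18, 254433) (.node (.node .leaf (228700, 0, 17, 206745) .leaf) (228702, 0, 16, 106236) (.node .leaf (228704, 0, 18, 256243) .leaf)))) (228706, 0, 15, 129) (.node (.node (.node (.node .leaf (228708, 0, 16, 29089) .leaf) (228710, 0, 16, 163740) (.node .leaf (228712, 0, 15, 159002) .leaf)) (228714, 0, 14, 212287) (.node (.node .leaf (228716, 0, 16, 152633) .leaf) (228718, 0, 12, 197660) (.node .leaf (228720, 0, 15, 143575) .leaf))) (228722, 0, 16, 161399) (.node (.node (.node .leaf (228724, 0, 15, 254232) .leaf) (228726, 0, 14, 219601)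 (.node .leaf (228728, 0, 17, 5455) .leaf)) (228730, 0, 16, 83306) (.node (.node .leaf (228732, 0, 15, 199556) .leaf) (228734, 0, 16, 97353) (.node .leaf (228737, 0, 16, 205876) .leaf))))) (228739, 0, 17, 52294) (.node (.node (.node (.node (.node .leaf (228741, 0, 15, 88873) .leaf) (228743, 0, 18, 210843) (.node .leaf (228745, 0, 16, 31493) .leaf)) (228747, 0, 13, 76576) (.node (.node .leaf (228749, 0, 16, 111029) .leaf) (228751, 0, 16, 70147) (.node .leaf (228753, 0, 14, 9928) .leaf))) (228755, 0, 16, 95981) (.node (.node (.node .leaf (228757, 0, 16, 8171) .leaf) (228759, 0, 13, 85966) (.node .leaf (228761, 0, 16, 131920) .leaf)) (228763, 0, 16, 151596) (.node (.node .leaf (228765, 0, 16, 247619) .leaf) (228767, 0, 16, 12081) (.node .leaf (228769, 0, 14, 153918) .leaf)))) (228771, 0, 17, 110924) (.node (.node (.node (.node .leaf (228773, 0, 12, 93259) .leaf) (228775, 0, 15, 15470) (.node .leaf (228777, 0, 16, 225520) .leaf)) (228779, 0, 17, 139477) (.node (.node .leaf (228781, 0, 16, 215507) .leaf) (228783, 0, 14, 206029) (.node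 .leaf (228785, 0, 16, 12232) .leaf))) (228787, 0, 17, 247738) (.node (.node (.node .leaf (228789, 0, 16, 151765) .leaf) (228791, 0, 17, 112807) (.node .leaf (228793, 0, 17, 67749) .leaf)) (228795, 0, 17, 22656) (.node (.node .leaf (228797, 0, 15, 78214) .leaf) (228799, 0, 16, 86587) (.node .leaf (228800, 0, 16, 75152) .leaf))))))

/-- part of the orbit tree -/
def itp6_496 : Tree := (.node (.node (.node (.node (.node (.node .leaf (228804, 0, 13, 126302) .leaf) (228806, 0, 16, 45823) (.node .leaf (228808, 0, 16, 118540) .leaf)) (228810, 0, 15, 141182) (.node (.node .leaf (228812, 0, 15, 248006) .leaf) (228814, 0, 13, 170211) (.node .leaf (228816, 0, 11, 217958) .leaf))) (228818, 0, 17, 195597) (.node (.node (.node .leaf (228820, 0, 16, 76923) .leaf) (228822, 0, 14, 181550) (.node .leaf (228824, 0, 16, 244218) .leaf)) (228826, 0, 14, 20872) (.node (.node .leaf (228828, 0, 17, 110739) .leaf) (228830, 0, 14, 142997) (.node .leaf (228832, 0, 17, 188296) .leaf)))) (228834, 0, 18, 241896) (.node (.node (.node (.node .leaf (228836,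 0, 14, 141191) .leaf) (228838, 0, 18, 243342) (.node .leaf (228840, 0, 16, 45574) .leaf)) (228842, 0, 17, 109109) (.node (.node .leaf (228844, 0, 14, 183579) .leaf) (228846, 0, 13, 75113) (.node .leaf (228848, 0, 12, 42973) .leaf))) (228850, 0, 16, 129016) (.node (.node (.node .leaf (228852, 0, 9, 20849) .leaf) (228854, 0, 12, 118491) (.node .leaf (228856, 0, 13, 164421) .leaf)) (228858, 0, 17, 250464) (.node (.node .leaf (228860, 0, 17, 179046) .leaf) (228862, 0, 12, 256835) (.node .leaf (228864, 0, 15, 239605) .leaf))))) (228865, 0, 17, 30354) (.node (.node (.node (.node (.node .leaf (228866, 0, 15, 116686) .leaf) (228867, 0, 16, 237280) (.node .leaf (228868, 0, 17, 20641) .leaf)) (228869, 0, 16, 133519) (.node (.node .leaf (228870, 0, 14, 243923) .leaf) (228871, 0, 14, 142997) (.node .leaf (228872, 0, 13, 181536) .leaf))) (228873, 0, 15, 90635) (.node (.node (.node .leaf (228874, 0, 16, 77138) .leaf) (228875, 0, 18, 226428) (.node .leaf (228876, 0, 18, 47677) .leaf)) (228877, 0, 14, 88872) (.node (.node .leaf (228878, 0,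 12, 217679) .leaf) (228879, 0, 16, 68449) (.node .leaf (228880, 0, 14, 122784) .leaf)))) (228881, 0, 14, 131172) (.node (.node (.node (.node .leaf (228882, 0, 15, 36741) .leaf) (228883, 0, 15, 28643) (.node .leaf (228884, 0, 19, 140887) .leaf)) (228885, 0, 16, 32633) (.node (.node .leaf (228886, 0, 15, 118309) .leaf) (228887, 0, 17, 22208) (.node .leaf (228888, 0, 18, 46038) .leaf))) (228889, 0, 15, 203358) (.node (.node (.node .leaf (228890, 0, 16, 220068) .leaf) (228891, 0, 18, 150139) (.node .leaf (228892, 0, 17, 183499) .leaf)) (228893, 0, 14, 38373) (.node (.node .leaf (228894, 0, 16, 74937) .leaf) (228895, 0, 14, 228759) .leaf)))))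

/-- part of the orbit tree -/
def itp6_497 : Tree := (.node itp6_493 (228546, 0, 17, 141825) itp6_494)

/-- part of the orbit tree -/
def itp6_498 : Tree := (.node itp6_495 (228802, 0, 16, 183778) itp6_496)

/-- part of the orbit tree -/
def itp6_499 : Tree := (.node itp6_491 (228161, 0, 15, 246799) itp6_492)

/-- part of the orbit tree -/
def itp6_500 : Tree := (.node itp6_497 (228674, 0, 16, 136018) itp6_498)

/-- part of the orbit tree -/
def itp6_501 : Tree := (.node itp6_485 (227397, 0, 17, 88541) itp6_486)

/-- part of the orbit tree -/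
def itp6_502 : Tree := (.node itp6_499 (228418, 0, 16, 105064) itp6_500)

/-- part of the orbit tree -/
def itp6_503 : Tree := (.node itp6_471 (225861, 0, 17, 72142) itp6_472)

/-- part of the orbit tree -/
def itp6_504 : Tree := (.node itp6_501 (227905, 0, 14, 79805) itp6_502)

/-- part of the orbit tree -/
def itp6_505 : Tree := (.node itp6_441 (222794, 0, 17, 54208) itp6_442)

/-- part of the orbit tree -/
def itp6_506 : Tree := (.node itp6_503 (226882, 0, 15, 121467) itp6_504)

/-- part of the orbit tree -/
def itp6_507 : Tree := (.node itp6_379 (216660, 0, 17, 14227) itp6_380)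

/-- part of the orbit tree -/
def itp6_508 : Tree := (.node itp6_505 (224836, 0, 16, 121438) itp6_506)

/-- part of the orbit tree -/
def itp6_509 : Tree := (.node itp6_253 (204392, 0, 14, 201509) itp6_254)

/-- part of the orbit tree -/
def itp6_510 : Tree := (.node itp6_507 (220744, 0, 17, 15319) itp6_508)

/-- part of the orbit tree -/
def itr_6 : Tree := (.node itp6_509 (212560, 0, 9, 152739) itp6_510)

end Cfsg.Agent.Lib.Helper28.J3IsoData
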