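import Cfsg.Agent.Lib.Helper28.BSGSF4

/-!
# The orbit of the triple cover of `J₃` on isotropic vectors: part 7 of the orbit tree

Generated by a script.
-/

set_option autoImplicit false

namespace Cfsg.Agent.Lib.Helper28.J3IsoData

open Cfsg.Agent.Lib.Helper28.BSGSMat (Tree)

/-- part of the orbit tree -/
def itp7_1 : Tree := (.node (.node (.node (.node (.node (.node .leaf (228897, 0, 18, 68504) .leaf) (228898, 0, 13, 47812) (.node .leaf (228899, 0, 14, 72771) .leaf)) (228900, 0, 16, 38179) (.node (.node .leaf (228901, 0, 17, 30021) .leaf) (228902, 0, 15, 181721) (.node .leaf (228903, 0, 15, 75104) .leaf))) (228904, 0, 15, 243754) (.node (.node (.node .leaf (228905, 0, 18, 123140) .leaf) (228906, 0, 17, 20568) (.node .leaf (228907, 0, 15, 133494) .leaf)) (228908, 0, 17, 176315) (.node (.node .leaf (228909, 0, 15, 151773) .leaf) (228910, 0, 14, 143173) (.node .leaf (228911, 0, 18, 30315) .leaf)))) (228912, 0, 13, 185429) (.node (.node (.node (.node .leaf (228913, 0, 13, 144435) .leaf) (228914, 0, 16, 183346) (.node .leaf (228915,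 0, 17, 222230) .leaf)) (228916, 0, 16, 191862) (.node (.node .leaf (228917, 0, 17, 66163) .leaf) (228918, 0, 16, 45871) (.node .leaf (228919, 0, 13, 190977) .leaf))) (228920, 0, 15, 118492) (.node (.node (.node .leaf (228921, 0, 17, 4523) .leaf) (228922, 0, 16, 106984) (.node .leaf (228923, 0, 17, 82318) .leaf)) (228924, 0, 15, 242113) (.node (.node .leaf (228925, 0, 14, 10376) .leaf) (228926, 0, 14, 104651) (.node .leaf (228927, 0, 16, 96429) .leaf))))) (228992, 0, 14, 106453) (.node (.node (.node (.node (.node .leaf (228993, 0, 16, 247547) .leaf) (228994, 0, 12, 24794) (.node .leaf (228995, 0, 16, 32956) .leaf)) (228996, 0, 14, 254152) (.node (.node .leaf (228997, 0, 17, 125370) .leaf) (228998, 0, 15, 23033) (.node .leaf (228999, 0, 12, 47519) .leaf))) (229000, 0, 16, 95561) (.node (.node (.node .leaf (229001, 0, 6, 259329) .leaf) (229002, 0, 18, 148802) (.node .leaf (229003, 0, 15, 50197) .leaf)) (229004, 0, 17, 199252) (.node (.node .leaf (229005, 0, 16, 248866) .leaf) (229006, 0, 16, 57894) (.node .leaf (229007, 0, 19,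 178952) .leaf)))) (229008, 0, 16, 215210) (.node (.node (.node (.node .leaf (229009, 0, 16, 239820) .leaf) (229010, 0, 18, 137359) (.node .leaf (229011, 0, 17, 194793) .leaf)) (229012, 0, 16, 225673) (.node (.node .leaf (229013, 0, 13, 249616) .leaf) (229014, 0, 12, 163404) (.node .leaf (229015, 0, 15, 10082) .leaf))) (229016, 0, 15, 93490) (.node (.node (.node .leaf (229017, 0, 14, 101716) .leaf) (229018, 0, 16, 60365) (.node .leaf (229019, 0, 16, 56689) .leaf)) (229020, 0, 16, 97442) (.node (.node .leaf (229021, 0, 17, 206220) .leaf) (229022, 0, 12, 169168) (.node .leaf (229023, 0, 16, 52734) .leaf))))))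

/-- part of the orbit tree -/
def itp7_2 : Tree := (.node (.node (.node (.node (.node (.node .leaf (229025, 0, 15, 179185) .leaf) (229026, 0, 16, 199341) (.node .leaf (229027, 0, 17, 86915) .leaf)) (229028, 0, 15, 171458) (.node (.node .leaf (229029, 0, 15, 189007) .leaf) (229030, 0, 16, 217612) (.node .leaf (229031, 0, 16, 208030) .leaf))) (229032, 0, 16, 7826) (.node (.node (.node .leaf (229033, 0, 16, 151917) .leaf) (229034, 0, 17, 254001) (.node .leaf (229035, 0, 18, 112927) .leaf)) (229036, 0, 18, 161630) (.node (.node .leaf (229037, 0, 12, 51159) .leaf) (229038, 0, 16, 96148) (.node .leaf (229039, 0, 17, 104434) .leaf)))) (229040, 0, 18, 169001) (.node (.node (.node (.node .leaf (229041, 0, 11, 41785) .leaf) (229042, 0, 15, 97371) (.node .leaf (229043, 0, 18, 206197) .leaf)) (229044, 0, 17, 31356) (.node (.node .leaf (229045, 0, 15, 176666) .leaf) (229046, 0, 16, 76377) (.node .leaf (229047, 0, 15, 88680) .leaf))) (229048, 0, 15, 163509) (.node (.node (.node .leaf (229049, 0, 14, 165537) .leaf) (229050, 0, 14, 104135)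 (.node .leaf (229051, 0, 17, 251524) .leaf)) (229052, 0, 16, 155620) (.node (.node .leaf (229053, 0, 17, 153734) .leaf) (229054, 0, 12, 256474) (.node .leaf (229055, 0, 17, 110836) .leaf))))) (229120, 0, 16, 1409) (.node (.node (.node (.node (.node .leaf (229121, 0, 18, 58855) .leaf) (229122, 0, 14, 87460) (.node .leaf (229123, 0, 14, 227587) .leaf)) (229124, 0, 16, 15522) (.node (.node .leaf (229125, 0, 16, 192108) .leaf) (229126, 0, 17, 220976) (.node .leaf (229127, 0, 14, 101601) .leaf))) (229128, 0, 13, 139289) (.node (.node (.node .leaf (229129, 0, 15, 31725) .leaf) (229130, 0, 15, 225340) (.node .leaf (229131, 0, 17, 233562) .leaf)) (229132, 0, 16, 137530) (.node (.node .leaf (229133, 0, 15, 132336) .leaf) (229134, 0, 16, 243116) (.node .leaf (229135, 0, 17, 126082) .leaf)))) (229136, 0, 17, 163284) (.node (.node (.node (.node .leaf (229137, 0, 18, 171442) .leaf) (229138, 0, 17, 208369) (.node .leaf (229139, 0, 17, 69621) .leaf)) (229140, 0, 17, 180660) (.node (.node .leaf (229141, 0, 15, 39066) .leaf) (229142, 0, 12,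 201938) (.node .leaf (229143, 0, 18, 259252) .leaf))) (229144, 0, 16, 21557) (.node (.node (.node .leaf (229145, 0, 18, 47146) .leaf) (229146, 0, 17, 67689) (.node .leaf (229147, 0, 14, 124943) .leaf)) (229148, 0, 15, 142120) (.node (.node .leaf (229149, 0, 14, 29190) .leaf) (229150, 0, 12, 115546) (.node .leaf (229151, 0, 16, 119084) .leaf))))))

/-- part of the orbit tree -/
def itp7_3 : Tree := (.node (.node (.node (.node (.node (.node .leaf (229153, 0, 13, 257554) .leaf) (229154, 0, 14, 155217) (.node .leaf (229155, 0, 12, 179767) .leaf)) (229156, 0, 17, 117320) (.node (.node .leaf (229157, 0, 18, 251697) .leaf) (229158, 0, 11, 139834) (.node .leaf (229159, 0, 12, 31508) .leaf))) (229160, 0, 14, 76780) (.node (.node (.node .leaf (229161, 0, 16, 117642) .leaf) (229162, 0, 16, 31689) (.node .leaf (229163, 0, 16, 192149) .leaf)) (229164, 0, 16, 70351) (.node (.node .leaf (229165, 0, 13, 227834) .leaf) (229166, 0, 15, 17130) (.node .leaf (229167, 0, 14, 41612) .leaf)))) (229168, 0, 17, 115619) (.node (.node (.node (.node .leaf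 (229169, 0, 15, 236173) .leaf) (229170, 0, 14, 9732) (.node .leaf (229171, 0, 16, 29439) .leaf)) (229172, 0, 16, 85762) (.node (.node .leaf (229173, 0, 14, 124304) .leaf) (229174, 0, 16, 21708) (.node .leaf (229175, 0, 15, 65345) .leaf))) (229176, 0, 16, 76095) (.node (.node (.node .leaf (229177, 0, 15, 242655) .leaf) (229178, 0, 16, 131996) (.node .leaf (229179, 0, 15, 189434) .leaf)) (229180, 0, 18, 218658) (.node (.node .leaf (229181, 0, 18, 232188) .leaf) (229182, 0, 12, 146111) (.node .leaf (229183, 0, 16, 187097) .leaf))))) (229248, 0, 16, 168587) (.node (.node (.node (.node (.node .leaf (229249, 0, 16, 205080) .leaf) (229250, 0, 17, 168004) (.node .leaf (229251, 0, 17, 205512) .leaf)) (229252, 0, 13, 198443) (.node (.node .leaf (229253, 0, 16, 150478) .leaf) (229254, 0, 16, 261005) (.node .leaf (229255, 0, 17, 203755) .leaf))) (229256, 0, 17, 46867) (.node (.node (.node .leaf (229257, 0, 14, 248708) .leaf) (229258, 0, 15, 162520) (.node .leaf (229259, 0, 12, 67408) .leaf)) (229260, 0, 15, 257463) (.node (.node .leaf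 (229261, 0, 16, 111769) .leaf) (229262, 0, 15, 122389) (.node .leaf (229263, 0, 16, 81523) .leaf)))) (229264, 0, 18, 60126) (.node (.node (.node (.node .leaf (229265, 0, 17, 88046) .leaf) (229266, 0, 17, 113403) (.node .leaf (229267, 0, 19, 88733) .leaf)) (229268, 0, 11, 94685) (.node (.node .leaf (229269, 0, 12, 13211) .leaf) (229270, 0, 12, 170415) (.node .leaf (229271, 0, 15, 91070) .leaf))) (229272, 0, 16, 184134) (.node (.node (.node .leaf (229273, 0, 18, 143136) .leaf) (229274, 0, 13, 3118) (.node .leaf (229275, 0, 17, 229125) .leaf)) (229276, 0, 15, 194149) (.node (.node .leaf (229277, 0, 13, 136707) .leaf) (229278, 0, 17, 160563) (.node .leaf (229279, 0, 15, 214566) .leaf))))))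

/-- part of the orbit tree -/
def itp7_4 : Tree := (.node (.node (.node (.node (.node (.node .leaf (229281, 0, 17, 96536) .leaf) (229282, 0, 16, 257358) (.node .leaf (229283, 0, 16, 111712) .leaf)) (229284, 0, 18, 106589) (.node (.node .leaf (229285, 0, 15, 8975) .leaf) (229286, 0, 17, 61560) (.node .leaf (229287, 0, 17, 4126) .leaf))) (229288, 0, 17, 244966) (.node (.node (.node .leaf (229289, 0, 14, 177806) .leaf) (229290, 0, 16, 198610) (.node .leaf (229291, 0, 14, 134309) .leaf)) (229292, 0, 16, 230853) (.node (.node .leaf (229293, 0, 15, 51603) .leaf) (229294, 0, 16, 96463) (.node .leaf (229295, 0, 16, 205281) .leaf)))) (229296, 0, 17, 254251) (.node (.node (.node (.node .leaf (229297, 0, 16, 196941) .leaf) (229298, 0, 13, 176398) (.node .leaf (229299, 0, 9, 151912) .leaf)) (229300, 0, 17, 3287) (.node (.node .leaf (229301, 0, 17, 153081) .leaf) (229302, 0, 15, 165933) (.node .leaf (229303, 0, 16, 157771) .leaf))) (229304, 0, 16, 115891) (.node (.node (.node .leaf (229305, 0, 14, 49272) .leaf) (229306, 0, 14, 38038) (.node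 .leaf (229307, 0, 16, 29936) .leaf)) (229308, 0, 15, 58955) (.node (.node .leaf (229309, 0, 14, 180069) .leaf) (229310, 0, 14, 44469) (.node .leaf (229311, 0, 14, 87831) .leaf))))) (229377, 0, 17, 218793) (.node (.node (.node (.node (.node .leaf (229378, 0, 15, 190453) .leaf) (229380, 0, 16, 103948) (.node .leaf (229383, 0, 14, 180678) .leaf)) (229384, 0, 16, 124187) (.node (.node .leaf (229387, 0, 16, 146164) .leaf) (229389, 0, 17, 218098) (.node .leaf (229390, 0, 15, 189361) .leaf))) (229392, 0, 16, 251770) (.node (.node (.node .leaf (229395, 0, 17, 157497) .leaf) (229397, 0, 18, 220994) (.node .leaf (229398, 0, 17, 192030) .leaf)) (229401, 0, 14, 117443) (.node (.node .leaf (229402, 0, 18, 31647) .leaf) (229404, 0, 15, 126192) (.node .leaf (229407, 0, 16, 23980) .leaf)))) (229408, 0, 15, 29325) (.node (.node (.node (.node .leaf (229411, 0, 14, 115665) .leaf) (229413, 0, 14, 21694) (.node .leaf (229414, 0, 18, 124386) .leaf)) (229417, 0, 16, 24868) (.node (.node .leaf (229418, 0, 13, 225379) .leaf) (229420, 0, 17, 190220)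 (.node .leaf (229423, 0, 17, 218704) .leaf))) (229425, 0, 15, 15593) (.node (.node (.node .leaf (229426, 0, 18, 101546) .leaf) (229428, 0, 15, 31590) (.node .leaf (229431, 0, 16, 87535) .leaf)) (229432, 0, 16, 194839) (.node (.node .leaf (229435, 0, 13, 215380) .leaf) (229437, 0, 17, 139346) (.node .leaf (229438, 0, 14, 227720) .leaf))))))

/-- part of the orbit tree -/
def itp7_5 : Tree := (.node itp7_1 (229024, 0, 12, 146186) itp7_2)

/-- part of the orbit tree -/
def itp7_6 : Tree := (.node itp7_3 (229280, 0, 15, 104830) itp7_4)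

/-- part of the orbit tree -/
def itp7_7 : Tree := (.node (.node (.node (.node (.node (.node .leaf (229442, 0, 17, 180095) .leaf) (229444, 0, 14, 195722) (.node .leaf (229447, 0, 16, 216265) .leaf)) (229448, 0, 17, 57393) (.node (.node .leaf (229451, 0, 17, 86130) .leaf) (229453, 0, 14, 14708) (.node .leaf (229454, 0, 15, 100663) .leaf))) (229456, 0, 15, 205307) (.node (.node (.node .leaf (229459, 0, 13, 69055) .leaf) (229461, 0, 15, 25785) (.node .leaf (229462, 0, 18, 177812) .leaf)) (229465, 0, 15, 102985) (.node (.node .leaf (229466, 0, 16, 8981) .leaf) (229468, 0, 17, 111738) (.node .leaf (229471, 0, 17, 200964) .leaf)))) (229472, 0, 18, 10759) (.node (.node (.node (.node .leaf (229475, 0, 14, 105307) .leaf) (229477, 0, 17, 71449) (.node .leaf (229478, 0, 16, 42842) .leaf)) (229481, 0, 18, 199586) (.node (.node .leaf (229482, 0, 13, 179169) .leaf) (229484, 0, 16, 180102) (.node .leaf (229487, 0, 12, 200410) .leaf))) (229489, 0, 17, 1503) (.node (.node (.node .leaf (229490, 0, 16, 189996) .leaf) (229492, 0, 17, 9196) (.node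 .leaf (229495, 0, 14, 147305) .leaf)) (229496, 0, 16, 103313) (.node (.node .leaf (229499, 0, 16, 198449) .leaf) (229501, 0, 18, 168030) (.node .leaf (229502, 0, 15, 64151) .leaf))))) (229505, 0, 16, 59072) (.node (.node (.node (.node (.node .leaf (229506, 0, 18, 157696) .leaf) (229508, 0, 17, 49395) (.node .leaf (229511, 0, 15, 176453) .leaf)) (229512, 0, 11, 152946) (.node (.node .leaf (229515, 0, 16, 255022) .leaf) (229517, 0, 16, 160577) (.node .leaf (229518, 0, 18, 246301) .leaf))) (229520, 0, 14, 51480) (.node (.node (.node .leaf (229523, 0, 16, 96324) .leaf) (229525, 0, 16, 61227) (.node .leaf (229526, 0, 15, 10614) .leaf)) (229529, 0, 17, 230798) (.node (.node .leaf (229530, 0, 19, 248822) .leaf) (229532, 0, 17, 220363) (.node .leaf (229535, 0, 17, 257477) .leaf)))) (229536, 0, 15, 13264) (.node (.node (.node (.node .leaf (229539, 0, 17, 99219) .leaf) (229541, 0, 17, 60053) (.node .leaf (229542, 0, 17, 152971) .leaf)) (229545, 0, 14, 194094) (.node (.node .leaf (229546, 0, 18, 214637) .leaf) (229548, 0, 17, 87909) (.node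 .leaf (229551, 0, 18, 237352) .leaf))) (229553, 0, 14, 257340) (.node (.node (.node .leaf (229554, 0, 13, 154720) .leaf) (229556, 0, 17, 248591) (.node .leaf (229559, 0, 16, 162387) .leaf)) (229560, 0, 17, 28189) (.node (.node .leaf (229563, 0, 15, 61394) .leaf) (229565, 0, 17, 46936) (.node .leaf (229566, 0, 15, 51681) .leaf))))))

/-- part of the orbit tree -/
def itp7_8 : Tree := (.node (.node (.node (.node (.node (.node .leaf (229570, 0, 18, 69398) .leaf) (229572, 0, 10, 39033) (.node .leaf (229575, 0, 16, 121795) .leaf)) (229576, 0, 14, 161595) (.node (.node .leaf (229579, 0, 12, 247672) .leaf) (229581, 0, 16, 142283) (.node .leaf (229582, 0, 14, 204349) .leaf))) (229584, 0, 14, 37266) (.node (.node (.node .leaf (229587, 0, 13, 73934) .leaf) (229589, 0, 16, 47009) (.node .leaf (229590, 0, 13, 214000) .leaf)) (229593, 0, 13, 139808) (.node (.node .leaf (229594, 0, 14, 89931) .leaf) (229596, 0, 17, 13901) (.node .leaf (229599, 0, 18, 99854) .leaf)))) (229600, 0, 17, 236142) (.node (.node (.node (.node .leaf (229603, 0, 15,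 190741) .leaf) (229605, 0, 18, 229395) (.node .leaf (229606, 0, 14, 134401) .leaf)) (229609, 0, 14, 105640) (.node (.node .leaf (229610, 0, 17, 39040) .leaf) (229612, 0, 17, 69615) (.node .leaf (229615, 0, 14, 62894) .leaf))) (229617, 0, 12, 243126) (.node (.node (.node .leaf (229618, 0, 15, 132330) .leaf) (229620, 0, 18, 71712) (.node .leaf (229623, 0, 17, 43107) .leaf)) (229624, 0, 17, 67076) (.node (.node .leaf (229627, 0, 16, 177368) .leaf) (229629, 0, 16, 73783) (.node .leaf (229630, 0, 13, 37227) .leaf))))) (229633, 0, 14, 191805) (.node (.node (.node (.node (.node .leaf (229634, 0, 16, 220542) .leaf) (229636, 0, 18, 144504) (.node .leaf (229639, 0, 18, 230459) .leaf)) (229640, 0, 14, 66296) (.node (.node .leaf (229643, 0, 17, 45988) .leaf) (229645, 0, 15, 61830) (.node .leaf (229646, 0, 15, 38295) .leaf))) (229648, 0, 15, 237202) (.node (.node (.node .leaf (229651, 0, 12, 116045) .leaf) (229653, 0, 15, 44107) (.node .leaf (229654, 0, 17, 72712) .leaf)) (229657, 0, 18, 77088) (.node (.node .leaf (229658, 0, 16, 196787)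 .leaf) (229660, 0, 16, 68371) (.node .leaf (229663, 0, 19, 47695) .leaf)))) (229664, 0, 16, 67246) (.node (.node (.node (.node .leaf (229667, 0, 14, 46829) .leaf) (229669, 0, 18, 45917) (.node .leaf (229670, 0, 12, 28584) .leaf)) (229673, 0, 16, 246608) (.node (.node .leaf (229674, 0, 15, 235392) .leaf) (229676, 0, 16, 131311) (.node .leaf (229679, 0, 16, 242099) .leaf))) (229681, 0, 16, 237213) (.node (.node (.node .leaf (229682, 0, 16, 143070) .leaf) (229684, 0, 17, 215000) (.node .leaf (229687, 0, 18, 77273) .leaf)) (229688, 0, 13, 133380) (.node (.node .leaf (229691, 0, 17, 243800) .leaf) (229693, 0, 17, 143159) (.node .leaf (229694, 0, 14, 237163) .leaf))))))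

/-- part of the orbit tree -/
def itp7_9 : Tree := (.node (.node (.node (.node (.node (.node .leaf (229698, 0, 16, 14328) .leaf) (229700, 0, 12, 249843) (.node .leaf (229703, 0, 17, 163503) .leaf)) (229704, 0, 17, 88690) (.node (.node .leaf (229707, 0, 16, 193030) .leaf) (229709, 0, 16, 97345) (.node .leaf (229710, 0, 15, 52509) .leaf))) (229712, 0, 16, 247320) (.node (.node (.node .leaf (229715, 0, 16, 161604) .leaf) (229717, 0, 11, 247501) (.node .leaf (229718, 0, 15, 151927) .leaf)) (229721, 0, 16, 95658) (.node (.node .leaf (229722, 0, 16, 27189) .leaf) (229724, 0, 16, 66355) (.node .leaf (229727, 0, 15, 58053) .leaf)))) (229728, 0, 9, 52708) (.node (.node (.node (.node .leaf (229731, 0, 11, 97464) .leaf) (229733, 0, 10, 177517) (.node .leaf (229734, 0, 18, 88715) .leaf)) (229737, 0, 17, 43478) (.node (.node .leaf (229738, 0, 16, 72085) .leaf) (229740, 0, 17, 153701) (.node .leaf (229743, 0, 10, 256313) .leaf))) (229745, 0, 16, 62491) (.node (.node (.node .leaf (229746, 0, 16, 86880) .leaf) (229748, 0, 13, 50191) (.node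 .leaf (229751, 0, 17, 105757) .leaf)) (229752, 0, 17, 151950) (.node (.node .leaf (229755, 0, 15, 229798) .leaf) (229757, 0, 15, 190624) (.node .leaf (229758, 0, 17, 247521) .leaf))))) (229761, 0, 18, 291) (.node (.node (.node (.node (.node .leaf (229762, 0, 17, 110719) .leaf) (229764, 0, 15, 10000) (.node .leaf (229767, 0, 17, 104012) .leaf)) (229768, 0, 15, 176785) (.node (.node .leaf (229771, 0, 16, 197581) .leaf) (229773, 0, 16, 157324) (.node .leaf (229774, 0, 17, 251599) .leaf))) (229776, 0, 17, 12027) (.node (.node (.node .leaf (229779, 0, 16, 106407) .leaf) (229781, 0, 17, 146241) (.node .leaf (229782, 0, 16, 113044) .leaf)) (229785, 0, 16, 171337) (.node (.node .leaf (229786, 0, 15, 104377) .leaf) (229788, 0, 16, 65215) (.node .leaf (229791, 0, 16, 85756) .leaf)))) (229792, 0, 16, 206087) (.node (.node (.node (.node .leaf (229795, 0, 11, 139751) .leaf) (229797, 0, 16, 215265) (.node .leaf (229798, 0, 14, 194722) .leaf)) (229801, 0, 17, 87130) (.node (.node .leaf (229802, 0, 13, 58393) .leaf) (229804, 0, 17, 101663)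 (.node .leaf (229807, 0, 17, 474) .leaf))) (229809, 0, 17, 67991) (.node (.node (.node .leaf (229810, 0, 16, 47572) .leaf) (229812, 0, 18, 208108) (.node .leaf (229815, 0, 17, 171440) .leaf)) (229816, 0, 14, 248937) (.node (.node .leaf (229819, 0, 12, 162858) .leaf) (229821, 0, 17, 106334) (.node .leaf (229822, 0, 16, 11778) .leaf))))))

/-- part of the orbit tree -/
def itp7_10 : Tree := (.node (.node (.node (.node (.node (.node .leaf (229826, 0, 17, 125173) .leaf) (229828, 0, 17, 248308) (.node .leaf (229831, 0, 14, 162231) .leaf)) (229832, 0, 15, 120143) (.node (.node .leaf (229835, 0, 13, 219975) .leaf) (229837, 0, 16, 183336) (.node .leaf (229838, 0, 16, 228724) .leaf))) (229840, 0, 15, 30321) (.node (.node (.node .leaf (229843, 0, 12, 116525) .leaf) (229845, 0, 11, 86471) (.node .leaf (229846, 0, 17, 123166) .leaf)) (229849, 0, 15, 181699) (.node (.node .leaf (229850, 0, 15, 195903) .leaf) (229852, 0, 15, 234553) (.node .leaf (229855, 0, 18, 140410) .leaf)))) (229856, 0, 17, 228749) (.node (.node (.node (.node .leaf (229859,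 0, 16, 183505) .leaf) (229861, 0, 18, 8807) (.node .leaf (229862, 0, 18, 102948) .leaf)) (229865, 0, 15, 118335) (.node (.node .leaf (229866, 0, 13, 233119) .leaf) (229868, 0, 15, 190361) (.node .leaf (229871, 0, 16, 22864) .leaf))) (229873, 0, 16, 217685) (.node (.node (.node .leaf (229874, 0, 18, 189193) .leaf) (229876, 0, 16, 226406) (.node .leaf (229879, 0, 15, 181562) .leaf)) (229880, 0, 15, 42735) (.node (.node .leaf (229883, 0, 15, 71340) .leaf) (229885, 0, 17, 116692) (.node .leaf (229886, 0, 16, 30344) .leaf))))) (229888, 0, 17, 68267) (.node (.node (.node (.node (.node .leaf (229889, 0, 15, 90937) .leaf) (229894, 0, 15, 59993) (.node .leaf (229895, 0, 17, 2623) .leaf)) (229898, 0, 18, 194274) (.node (.node .leaf (229899, 0, 16, 20843) .leaf) (229900, 0, 19, 237540) (.node .leaf (229901, 0, 16, 116228) .leaf))) (229906, 0, 16, 174895) (.node (.node (.node .leaf (229907, 0, 18, 183553) .leaf) (229908, 0, 14, 246313) (.node .leaf (229909, 0, 10, 205391) .leaf)) (229912, 0, 16, 122514) (.node (.node .leaf (229913, 0,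 16, 118767) .leaf) (229918, 0, 15, 46996) (.node .leaf (229919, 0, 17, 22656) .leaf)))) (229922, 0, 15, 252047) (.node (.node (.node (.node .leaf (229923, 0, 17, 116477) .leaf) (229924, 0, 19, 133308) (.node .leaf (229925, 0, 10, 152047) .leaf)) (229928, 0, 15, 44338) (.node (.node .leaf (229929, 0, 13, 19796) .leaf) (229934, 0, 16, 115764) (.node .leaf (229935, 0, 17, 74834) .leaf))) (229936, 0, 18, 131415) (.node (.node (.node .leaf (229937, 0, 15, 4249) .leaf) (229942, 0, 17, 104953) (.node .leaf (229943, 0, 17, 118550) .leaf)) (229946, 0, 14, 230722) (.node (.node .leaf (229947, 0, 18, 222500) .leaf) (229948, 0, 15, 38102) .leaf)))))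

/-- part of the orbit tree -/
def itp7_11 : Tree := (.node itp7_7 (229569, 0, 15, 45765) itp7_8)

/-- part of the orbit tree -/
def itp7_12 : Tree := (.node itp7_9 (229825, 0, 18, 22953) itp7_10)

/-- part of the orbit tree -/
def itp7_13 : Tree := (.node itp7_5 (229152, 0, 17, 200308) itp7_6)

/-- part of the orbit tree -/
def itp7_14 : Tree := (.node itp7_11 (229697, 0, 14, 256448) itp7_12)

/-- part of the orbit tree -/
def itp7_15 : Tree := (.node (.node (.node (.node (.node (.node .leaf (229952, 0, 18, 86561) .leaf) (229953, 0, 18, 133567) (.node .leaf (229958, 0, 18, 50510) .leaf)) (229959, 0, 17, 221369) (.node (.node .leaf (229962, 0, 16, 151759) .leaf) (229963, 0, 16, 2529) (.node .leaf (229964, 0, 16, 247712) .leaf))) (229965, 0, 14, 5380) (.node (.node (.node .leaf (229970, 0, 17, 115113) .leaf) (229971, 0, 18, 74191) (.node .leaf (229972, 0, 17, 89034) .leaf)) (229973, 0, 15, 197348) (.node (.node .leaf (229976, 0, 15, 177172) .leaf) (229977, 0, 14, 104293) (.node .leaf (229982, 0, 17, 253202) .leaf)))) (229983,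 0, 18, 212340) (.node (.node (.node (.node .leaf (229986, 0, 16, 45577) .leaf) (229987, 0, 14, 106103) (.node .leaf (229988, 0, 16, 121615) .leaf)) (229989, 0, 16, 80745) (.node (.node .leaf (229992, 0, 18, 247732) .leaf) (229993, 0, 17, 206802) (.node .leaf (229998, 0, 16, 86744) .leaf))) (229999, 0, 16, 151252) (.node (.node (.node .leaf (230000, 0, 13, 236153) .leaf) (230001, 0, 15, 227871) (.node .leaf (230006, 0, 15, 193407) .leaf)) (230007, 0, 18, 135961) (.node (.node .leaf (230010, 0, 16, 88883) .leaf) (230011, 0, 17, 4002) (.node .leaf (230012, 0, 18, 100034) .leaf))))) (230013, 0, 17, 91812) (.node (.node (.node (.node (.node .leaf (230016, 0, 17, 201813) .leaf) (230017, 0, 15, 58348) (.node .leaf (230022, 0, 16, 208301) .leaf)) (230023, 0, 17, 95363) (.node (.node .leaf (230026, 0, 16, 25064) .leaf) (230027, 0, 14, 33166) (.node .leaf (230028, 0, 15, 67822) .leaf))) (230029, 0, 15, 161389) (.node (.node (.node .leaf (230034, 0, 18, 15397) .leaf) (230035, 0, 17, 97640) (.node .leaf (230036, 0, 18, 176937) .leaf))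 (230037, 0, 16, 59911) (.node (.node .leaf (230040, 0, 16, 9896) .leaf) (230041, 0, 16, 240126) (.node .leaf (230046, 0, 13, 111047) .leaf)))) (230047, 0, 14, 256233) (.node (.node (.node (.node .leaf (230050, 0, 18, 12218) .leaf) (230051, 0, 17, 110563) (.node .leaf (230052, 0, 16, 9859) .leaf)) (230053, 0, 16, 50917) (.node (.node .leaf (230056, 0, 17, 208212) .leaf) (230057, 0, 16, 186974) (.node .leaf (230062, 0, 14, 217918) .leaf))) (230063, 0, 17, 242520) (.node (.node (.node .leaf (230064, 0, 18, 110910) .leaf) (230065, 0, 17, 165779) (.node .leaf (230070, 0, 16, 9809) .leaf)) (230071, 0, 15, 163711) (.node (.node .leaf (230074, 0, 17, 177104) .leaf) (230075, 0, 17, 60158) (.node .leaf (230076, 0, 16, 31566) .leaf))))))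

/-- part of the orbit tree -/
def itp7_16 : Tree := (.node (.node (.node (.node (.node (.node .leaf (230080, 0, 13, 32467) .leaf) (230081, 0, 16, 47974) (.node .leaf (230086, 0, 18, 71637) .leaf)) (230087, 0, 17, 128947) (.node (.node .leaf (230090, 0, 18, 123046) .leaf) (230091, 0, 14, 244104) (.node .leaf (230092, 0, 15, 156264) .leaf))) (230093, 0, 11, 143079) (.node (.node (.node .leaf (230098, 0, 16, 218787) .leaf) (230099, 0, 15, 75234) (.node .leaf (230100, 0, 18, 147365) .leaf)) (230101, 0, 16, 188355) (.node (.node .leaf (230104, 0, 19, 8990) .leaf) (230105, 0, 16, 141068) (.node .leaf (230110, 0, 17, 125261) .leaf)))) (230111, 0, 12, 241763) (.node (.node (.node (.node .leaf (230114, 0, 18, 30512) .leaf) (230115, 0, 16, 181605) (.node .leaf (230116, 0, 14, 216069) .leaf)) (230117, 0, 18, 240739) (.node (.node .leaf (230120, 0, 17, 226782) .leaf) (230121, 0, 17, 77040) (.node .leaf (230126, 0, 16, 189105) .leaf))) (230127, 0, 16, 55774) (.node (.node (.node .leaf (230128, 0, 18, 125364) .leaf) (230129, 0, 17, 126229)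 (.node .leaf (230134, 0, 16, 25717) .leaf)) (230135, 0, 17, 33811) (.node (.node .leaf (230138, 0, 17, 191322) .leaf) (230139, 0, 17, 45684) (.node .leaf (230140, 0, 19, 201160) .leaf))))) (230141, 0, 15, 75035) (.node (.node (.node (.node (.node .leaf (230144, 0, 16, 126280) .leaf) (230145, 0, 19, 180557) (.node .leaf (230150, 0, 14, 215085) .leaf)) (230151, 0, 16, 140041) (.node (.node .leaf (230154, 0, 17, 192422) .leaf) (230155, 0, 13, 46728) (.node .leaf (230156, 0, 15, 227529) .leaf))) (230157, 0, 12, 74215) (.node (.node (.node .leaf (230162, 0, 17, 67931) .leaf) (230163, 0, 15, 125245) (.node .leaf (230164, 0, 14, 124067) .leaf)) (230165, 0, 17, 245133) (.node (.node .leaf (230168, 0, 17, 225570) .leaf) (230169, 0, 14, 171136) (.node .leaf (230174, 0, 17, 202208) .leaf)))) (230175, 0, 16, 48995) (.node (.node (.node (.node .leaf (230178, 0, 15, 227376) .leaf) (230179, 0, 13, 39581) (.node .leaf (230180, 0, 16, 70653) .leaf)) (230181, 0, 15, 127899) (.node (.node .leaf (230184, 0, 15, 200518) .leaf) (230185, 0, 17, 257824)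 (.node .leaf (230190, 0, 16, 157248) .leaf))) (230191, 0, 17, 165414) (.node (.node (.node .leaf (230192, 0, 14, 217739) .leaf) (230193, 0, 17, 49050) (.node .leaf (230198, 0, 15, 146317) .leaf)) (230199, 0, 15, 187371) (.node (.node .leaf (230202, 0, 14, 123994) .leaf) (230203, 0, 16, 245108) (.node .leaf (230204, 0, 15, 85552) .leaf))))))

/-- part of the orbit tree -/
def itp7_17 : Tree := (.node (.node (.node (.node (.node (.node .leaf (230208, 0, 16, 84909) .leaf) (230209, 0, 17, 109515) (.node .leaf (230214, 0, 16, 8877) .leaf)) (230215, 0, 14, 162691) (.node (.node .leaf (230218, 0, 15, 146960) .leaf) (230219, 0, 15, 188022) (.node .leaf (230220, 0, 17, 204867) .leaf))) (230221, 0, 17, 96621) (.node (.node (.node .leaf (230226, 0, 14, 156637) .leaf) (230227, 0, 16, 164795) (.node .leaf (230228, 0, 15, 113705) .leaf)) (230229, 0, 16, 256701) (.node (.node .leaf (230232, 0, 16, 71264) .leaf) (230233, 0, 18, 128518) (.node .leaf (230238, 0, 18, 32614) .leaf)))) (230239, 0, 16, 59369) (.node (.node (.node (.node .leaf (230242,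 0, 15, 200829) .leaf) (230243, 0, 12, 96660) (.node .leaf (230244, 0, 15, 162171) .leaf)) (230245, 0, 15, 170269) (.node (.node .leaf (230248, 0, 17, 26048) .leaf) (230249, 0, 14, 162682) (.node .leaf (230254, 0, 17, 111931) .leaf))) (230255, 0, 15, 257045) (.node (.node (.node .leaf (230256, 0, 16, 14349) .leaf) (230257, 0, 18, 55403) (.node .leaf (230262, 0, 17, 207185) .leaf)) (230263, 0, 19, 110957) (.node (.node .leaf (230266, 0, 15, 113872) .leaf) (230267, 0, 17, 241110) (.node .leaf (230268, 0, 18, 11199) .leaf))))) (230269, 0, 15, 160401) (.node (.node (.node (.node (.node .leaf (230272, 0, 17, 154913) .leaf) (230273, 0, 10, 22087) (.node .leaf (230278, 0, 15, 248398) .leaf)) (230279, 0, 18, 103264) (.node (.node .leaf (230282, 0, 16, 90063) .leaf) (230283, 0, 15, 205818) (.node .leaf (230284, 0, 16, 51360) .leaf))) (230285, 0, 16, 150268) (.node (.node (.node .leaf (230290, 0, 11, 237137) .leaf) (230291, 0, 14, 228919) (.node .leaf (230292, 0, 14, 194391) .leaf)) (230293, 0, 18, 137009) (.node (.node .leaf (230296,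 0, 13, 49483) .leaf) (230297, 0, 15, 170085) (.node .leaf (230302, 0, 18, 99050) .leaf)))) (230303, 0, 17, 200458) (.node (.node (.node (.node .leaf (230306, 0, 15, 51289) .leaf) (230307, 0, 15, 134551) (.node .leaf (230308, 0, 16, 89910) .leaf)) (230309, 0, 15, 222353) (.node (.node .leaf (230312, 0, 15, 248503) .leaf) (230313, 0, 17, 96298) (.node .leaf (230318, 0, 13, 61770) .leaf))) (230319, 0, 18, 4396) (.node (.node (.node .leaf (230320, 0, 17, 116097) .leaf) (230321, 0, 18, 200691) (.node .leaf (230326, 0, 19, 49586) .leaf)) (230327, 0, 17, 19681) (.node (.node .leaf (230330, 0, 16, 176188) .leaf) (230331, 0, 17, 151642) (.node .leaf (230332, 0, 17, 252218) .leaf))))))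

/-- part of the orbit tree -/
def itp7_18 : Tree := (.node (.node (.node (.node (.node (.node .leaf (230336, 0, 16, 132523) .leaf) (230337, 0, 15, 23685) (.node .leaf (230342, 0, 17, 234180) .leaf)) (230343, 0, 12, 153031) (.node (.node .leaf (230346, 0, 16, 43290) .leaf) (230347, 0, 17, 220779) (.node .leaf (230348, 0, 17, 114716) .leaf))) (230349, 0, 17, 182532) (.node (.node (.node .leaf (230354, 0, 17, 62679) .leaf) (230355, 0, 16, 115201) (.node .leaf (230356, 0, 17, 134208) .leaf)) (230357, 0, 18, 21870) (.node (.node .leaf (230360, 0, 16, 39361) .leaf) (230361, 0, 18, 221452) (.node .leaf (230366, 0, 16, 69294) .leaf)))) (230367, 0, 18, 219008) (.node (.node (.node (.node .leaf (230370, 0, 17, 100215) .leaf) (230371, 0, 18, 182781) (.node .leaf (230372, 0, 15, 61041) .leaf)) (230373, 0, 17, 220818) (.node (.node .leaf (230376, 0, 15, 234045) .leaf) (230377, 0, 14, 135852) (.node .leaf (230382, 0, 17, 132434) .leaf))) (230383, 0, 16, 228266) (.node (.node (.node .leaf (230384, 0, 17, 69207) .leaf) (230385, 0, 15, 151393)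 (.node .leaf (230390, 0, 15, 247297) .leaf)) (230391, 0, 18, 206439) (.node (.node .leaf (230394, 0, 15, 121530) .leaf) (230395, 0, 17, 21911) (.node .leaf (230396, 0, 17, 236502) .leaf))))) (230397, 0, 15, 21466) (.node (.node (.node (.node (.node .leaf (230400, 0, 18, 131699) .leaf) (230402, 0, 16, 124322) (.node .leaf (230405, 0, 17, 140352) .leaf)) (230407, 0, 15, 117810) (.node (.node .leaf (230409, 0, 17, 159865) .leaf) (230411, 0, 18, 219571) (.node .leaf (230412, 0, 15, 174396) .leaf))) (230414, 0, 17, 229248) (.node (.node (.node .leaf (230417, 0, 17, 142772) .leaf) (230419, 0, 15, 228753) (.node .leaf (230420, 0, 13, 134040) .leaf)) (230422, 0, 17, 238804) (.node (.node .leaf (230424, 0, 16, 59466) .leaf) (230426, 0, 10, 226923) (.node .leaf (230429, 0, 16, 12559) .leaf)))) (230431, 0, 16, 217176) (.node (.node (.node (.node .leaf (230433, 0, 14, 220692) .leaf) (230435, 0, 17, 183845) (.node .leaf (230436, 0, 16, 65636) .leaf)) (230438, 0, 15, 190486) (.node (.node .leaf (230440, 0, 17, 234981) .leaf) (230442, 0,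 16, 52175) (.node .leaf (230445, 0, 17, 82607) .leaf))) (230447, 0, 16, 23460) (.node (.node (.node .leaf (230448, 0, 16, 67983) .leaf) (230450, 0, 18, 188925) (.node .leaf (230453, 0, 15, 73570) .leaf)) (230455, 0, 17, 182222) (.node (.node .leaf (230457, 0, 16, 244285) .leaf) (230459, 0, 17, 152572) (.node .leaf (230460, 0, 16, 236558) .leaf))))))

/-- part of the orbit tree -/
def itp7_19 : Tree := (.node itp7_15 (230077, 0, 17, 39720) itp7_16)

/-- part of the orbit tree -/
def itp7_20 : Tree := (.node itp7_17 (230333, 0, 18, 211292) itp7_18)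

/-- part of the orbit tree -/
def itp7_21 : Tree := (.node (.node (.node (.node (.node (.node .leaf (230464, 0, 17, 154361) .leaf) (230466, 0, 14, 167716) (.node .leaf (230469, 0, 17, 163018) .leaf)) (230471, 0, 16, 153185) (.node (.node .leaf (230473, 0, 15, 59723) .leaf) (230475, 0, 15, 19162) (.node .leaf (230476, 0, 16, 53112) .leaf))) (230478, 0, 13, 37791) (.node (.node (.node .leaf (230481, 0, 17, 83762) .leaf) (230483, 0, 17, 105811) (.node .leaf (230484, 0, 14, 106103) .leaf)) (230486, 0, 16, 113504) (.node (.node .leaf (230488, 0, 16, 230092) .leaf) (230490, 0, 18, 185065) (.node .leaf (230493, 0, 13, 57504) .leaf)))) (230495, 0, 17, 198866) (.node (.node (.node (.node .leaf (230497, 0, 16, 13458) .leaf) (230499, 0, 16, 169647) (.node .leaf (230500, 0, 15, 60887) .leaf)) (230502, 0, 18, 114162) (.node (.node .leaf (230504, 0, 15, 192876) .leaf) (230506, 0, 15, 9501) (.node .leaf (230509, 0, 15, 256860) .leaf))) (230511, 0, 17, 814) (.node (.node (.node .leaf (230512, 0, 17, 175265) .leaf) (230514, 0, 18, 178551)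 (.node .leaf (230517, 0, 17, 96054) .leaf)) (230519, 0, 16, 171844) (.node (.node .leaf (230521, 0, 15, 254647) .leaf) (230523, 0, 18, 2757) (.node .leaf (230524, 0, 15, 45082) .leaf))))) (230526, 0, 16, 122943) (.node (.node (.node (.node (.node .leaf (230528, 0, 18, 111130) .leaf) (230530, 0, 19, 225960) (.node .leaf (230533, 0, 17, 195528) .leaf)) (230535, 0, 15, 162907) (.node (.node .leaf (230537, 0, 17, 197032) .leaf) (230539, 0, 15, 112470) (.node .leaf (230540, 0, 16, 15926) .leaf))) (230542, 0, 17, 93715) (.node (.node (.node .leaf (230545, 0, 14, 105922) .leaf) (230547, 0, 16, 161200) (.node .leaf (230548, 0, 17, 113649) .leaf)) (230550, 0, 9, 78814) (.node (.node .leaf (230552, 0, 16, 208496) .leaf) (230554, 0, 12, 208741) (.node .leaf (230557, 0, 12, 173573) .leaf)))) (230559, 0, 17, 57393) (.node (.node (.node (.node .leaf (230561, 0, 14, 117022) .leaf) (230563, 0, 17, 39227) (.node .leaf (230564, 0, 14, 176141) .leaf)) (230566, 0, 15, 16510) (.node (.node .leaf (230568, 0, 16, 199904) .leaf) (230570, 0, 19, 249342)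 (.node .leaf (230573, 0, 14, 959) .leaf))) (230575, 0, 15, 256973) (.node (.node (.node .leaf (230576, 0, 16, 178662) .leaf) (230578, 0, 17, 86420) (.node .leaf (230581, 0, 13, 171989) .leaf)) (230583, 0, 11, 96167) (.node (.node .leaf (230585, 0, 17, 103635) .leaf) (230587, 0, 14, 254502) (.node .leaf (230588, 0, 16, 11367) .leaf))))))

/-- part of the orbit tree -/
def itp7_22 : Tree := (.node (.node (.node (.node (.node (.node .leaf (230592, 0, 16, 125584) .leaf) (230594, 0, 17, 6190) (.node .leaf (230597, 0, 16, 117923) .leaf)) (230599, 0, 14, 49515) (.node (.node .leaf (230601, 0, 15, 219426) .leaf) (230603, 0, 14, 45392) (.node .leaf (230604, 0, 19, 218288) .leaf))) (230606, 0, 17, 38755) (.node (.node (.node .leaf (230609, 0, 15, 249912) .leaf) (230611, 0, 17, 163869) (.node .leaf (230612, 0, 17, 123771) .leaf)) (230614, 0, 17, 133897) (.node (.node .leaf (230616, 0, 17, 71110) .leaf) (230618, 0, 18, 40584) (.node .leaf (230621, 0, 15, 217289) .leaf)))) (230623, 0, 12, 47291) (.node (.node (.node (.node .leaf (230625,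 0, 15, 183988) .leaf) (230627, 0, 17, 75462) (.node .leaf (230628, 0, 17, 190599) .leaf)) (230630, 0, 12, 65781) (.node (.node .leaf (230632, 0, 10, 32006) .leaf) (230634, 0, 12, 79427) (.node .leaf (230637, 0, 16, 23349) .leaf))) (230639, 0, 13, 242503) (.node (.node (.node .leaf (230640, 0, 13, 188780) .leaf) (230642, 0, 16, 67870) (.node .leaf (230645, 0, 15, 182111) .leaf)) (230647, 0, 17, 111307) (.node (.node .leaf (230649, 0, 13, 21214) .leaf) (230651, 0, 15, 244396) (.node .leaf (230652, 0, 15, 141072) .leaf))))) (230654, 0, 14, 236703) (.node (.node (.node (.node (.node .leaf (230656, 0, 17, 202739) .leaf) (230658, 0, 12, 69090) (.node .leaf (230661, 0, 16, 249526) .leaf)) (230663, 0, 18, 171667) (.node (.node .leaf (230665, 0, 16, 22050) .leaf) (230667, 0, 15, 33320) (.node .leaf (230668, 0, 17, 28689) .leaf))) (230670, 0, 16, 23405) (.node (.node (.node .leaf (230673, 0, 16, 182856) .leaf) (230675, 0, 16, 57317) (.node .leaf (230676, 0, 15, 87685) .leaf)) (230678, 0, 15, 66569) (.node (.node .leaf (230680, 0, 13,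 215614) .leaf) (230682, 0, 17, 233864) (.node .leaf (230685, 0, 12, 24521) .leaf)))) (230687, 0, 18, 181086) (.node (.node (.node (.node .leaf (230689, 0, 13, 115124) .leaf) (230691, 0, 18, 109637) (.node .leaf (230692, 0, 16, 9509) .leaf)) (230694, 0, 16, 135157) (.node (.node .leaf (230696, 0, 17, 145822) .leaf) (230698, 0, 14, 223675) (.node .leaf (230701, 0, 17, 218165) .leaf))) (230703, 0, 13, 48199) (.node (.node (.node .leaf (230704, 0, 11, 126572) .leaf) (230706, 0, 16, 132638) (.node .leaf (230709, 0, 18, 116831) .leaf)) (230711, 0, 18, 139309) (.node (.node .leaf (230713, 0, 17, 41389) .leaf) (230715, 0, 17, 46508) (.node .leaf (230716, 0, 15, 228333) .leaf))))))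

/-- part of the orbit tree -/
def itp7_23 : Tree := (.node (.node (.node (.node (.node (.node .leaf (230720, 0, 16, 179482) .leaf) (230722, 0, 13, 77136) (.node .leaf (230725, 0, 17, 170793) .leaf)) (230727, 0, 18, 128021) (.node (.node .leaf (230729, 0, 15, 178315) .leaf) (230731, 0, 14, 256174) (.node .leaf (230732, 0, 17, 10395) .leaf))) (230734, 0, 14, 245993) (.node (.node (.node .leaf (230737, 0, 14, 168642) .leaf) (230739, 0, 14, 96944) (.node .leaf (230740, 0, 13, 177393) .leaf)) (230742, 0, 16, 89219) (.node (.node .leaf (230744, 0, 16, 8376) .leaf) (230746, 0, 16, 94365) (.node .leaf (230749, 0, 16, 1859) .leaf)))) (230751, 0, 15, 257841) (.node (.node (.node (.node .leaf (230753, 0, 15, 235238) .leaf) (230755, 0, 10, 181955) (.node .leaf (230756, 0, 16, 114445) .leaf)) (230758, 0, 17, 139142) (.node (.node .leaf (230760, 0, 13, 207500) .leaf) (230762, 0, 19, 49918) (.node .leaf (230765, 0, 17, 199871) .leaf))) (230767, 0, 17, 55928) (.node (.node (.node .leaf (230768, 0, 17, 112358) .leaf) (230770, 0, 15, 24304)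 (.node .leaf (230773, 0, 16, 120720) .leaf)) (230775, 0, 15, 34741) (.node (.node .leaf (230777, 0, 13, 248619) .leaf) (230779, 0, 15, 60710) (.node .leaf (230780, 0, 16, 205671) .leaf))))) (230782, 0, 16, 148043) (.node (.node (.node (.node (.node .leaf (230784, 0, 16, 98553) .leaf) (230786, 0, 14, 179595) (.node .leaf (230789, 0, 17, 95178) .leaf)) (230791, 0, 18, 170936) (.node (.node .leaf (230793, 0, 18, 214279) .leaf) (230795, 0, 16, 3641) (.node .leaf (230796, 0, 15, 245880) .leaf))) (230798, 0, 16, 10250) (.node (.node (.node .leaf (230801, 0, 16, 202954) .leaf) (230803, 0, 17, 168531) (.node .leaf (230804, 0, 16, 89106) .leaf)) (230806, 0, 15, 168362) (.node (.node .leaf (230808, 0, 16, 248211) .leaf) (230810, 0, 17, 8673) (.node .leaf (230813, 0, 15, 257952) .leaf)))) (230815, 0, 12, 2002) (.node (.node (.node (.node .leaf (230817, 0, 13, 160221) .leaf) (230819, 0, 14, 104879) (.node .leaf (230820, 0, 19, 176687) .leaf)) (230822, 0, 17, 254474) (.node (.node .leaf (230824, 0, 15, 44692) .leaf) (230826, 0, 17, 130737)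 (.node .leaf (230829, 0, 9, 58460) .leaf))) (230831, 0, 15, 75764) (.node (.node (.node .leaf (230832, 0, 12, 62297) .leaf) (230834, 0, 15, 112247) (.node .leaf (230837, 0, 14, 161846) .leaf)) (230839, 0, 15, 96825) (.node (.node .leaf (230841, 0, 16, 145063) .leaf) (230843, 0, 16, 222850) (.node .leaf (230844, 0, 13, 52100) .leaf))))))

/-- part of the orbit tree -/
def itp7_24 : Tree := (.node (.node (.node (.node (.node (.node .leaf (230848, 0, 17, 191103) .leaf) (230850, 0, 16, 189697) (.node .leaf (230853, 0, 15, 144186) .leaf)) (230855, 0, 15, 181042) (.node (.node .leaf (230857, 0, 16, 12161) .leaf) (230859, 0, 18, 98212) (.node .leaf (230860, 0, 16, 63172) .leaf))) (230862, 0, 15, 28800) (.node (.node (.node .leaf (230865, 0, 16, 74411) .leaf) (230867, 0, 16, 183001) (.node .leaf (230868, 0, 12, 43785) .leaf)) (230870, 0, 15, 191722) (.node (.node .leaf (230872, 0, 6, 178098) .leaf) (230874, 0, 16, 255895) (.node .leaf (230877, 0, 17, 243498) .leaf)))) (230879, 0, 12, 24408) (.node (.node (.node (.node .leaf (230881,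 0, 12, 66028) .leaf) (230883, 0, 16, 114981) (.node .leaf (230884, 0, 17, 135012) .leaf)) (230886, 0, 16, 124694) (.node (.node .leaf (230888, 0, 15, 39653) .leaf) (230890, 0, 14, 169015) (.node .leaf (230893, 0, 19, 204119) .leaf))) (230895, 0, 17, 150898) (.node (.node (.node .leaf (230896, 0, 16, 132751) .leaf) (230898, 0, 18, 182778) (.node .leaf (230901, 0, 17, 139452) .leaf)) (230903, 0, 16, 116942) (.node (.node .leaf (230905, 0, 18, 89121) .leaf) (230907, 0, 12, 3076) (.node .leaf (230908, 0, 16, 37646) .leaf))))) (230910, 0, 16, 54593) (.node (.node (.node (.node (.node .leaf (230916, 0, 17, 30786) .leaf) (230917, 0, 16, 16562) (.node .leaf (230918, 0, 17, 127217) .leaf)) (230919, 0, 8, 69783) (.node (.node .leaf (230920, 0, 17, 179311) .leaf) (230921, 0, 15, 46317) (.node .leaf (230922, 0, 17, 257098) .leaf))) (230923, 0, 17, 199724) (.node (.node (.node .leaf (230928, 0, 16, 29097) .leaf) (230929, 0, 15, 141447) (.node .leaf (230930, 0, 16, 242055) .leaf)) (230931, 0, 18, 217569) (.node (.node .leaf (230940, 0, 15,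 189480) .leaf) (230941, 0, 14, 48390) (.node .leaf (230942, 0, 15, 68698) .leaf)))) (230943, 0, 17, 218484) (.node (.node (.node (.node .leaf (230944, 0, 18, 233986) .leaf) (230945, 0, 17, 225892) (.node .leaf (230946, 0, 16, 37415) .leaf)) (230947, 0, 16, 139841) (.node (.node .leaf (230956, 0, 15, 126932) .leaf) (230957, 0, 16, 243450) (.node .leaf (230958, 0, 16, 56988) .leaf))) (230959, 0, 17, 24200) (.node (.node (.node .leaf (230964, 0, 15, 119668) .leaf) (230965, 0, 16, 76432) (.node .leaf (230966, 0, 15, 33617) .leaf)) (230967, 0, 17, 180962) (.node (.node .leaf (230968, 0, 16, 249807) .leaf) (230969, 0, 16, 245521) .leaf)))))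

/-- part of the orbit tree -/
def itp7_25 : Tree := (.node itp7_21 (230590, 0, 17, 7603) itp7_22)

/-- part of the orbit tree -/
def itp7_26 : Tree := (.node itp7_23 (230846, 0, 16, 205814) itp7_24)

/-- part of the orbit tree -/
def itp7_27 : Tree := (.node itp7_19 (230205, 0, 15, 110166) itp7_20)

/-- part of the orbit tree -/
def itp7_28 : Tree := (.node itp7_25 (230718, 0, 13, 37791) itp7_26)

/-- part of the orbit tree -/
def itp7_29 : Tree := (.node itp7_13 (229441, 0, 19, 200227) itp7_14)

/-- part of the orbit tree -/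
def itp7_30 : Tree := (.node itp7_27 (230462, 0, 19, 166585) itp7_28)

/-- part of the orbit tree -/
def itp7_31 : Tree := (.node (.node (.node (.node (.node (.node .leaf (230971, 0, 13, 22371) .leaf) (230980, 0, 15, 248402) (.node .leaf (230981, 0, 15, 207412) .leaf)) (230982, 0, 14, 170615) (.node (.node .leaf (230983, 0, 17, 102804) .leaf) (230984, 0, 17, 177481) (.node .leaf (230985, 0, 15, 79503) .leaf))) (230986, 0, 17, 89403) (.node (.node (.node .leaf (230987, 0, 18, 197653) .leaf) (230992, 0, 13, 10531) (.node .leaf (230993, 0, 16, 159757) .leaf)) (230994, 0, 16, 246097) (.node (.node .leaf (230995, 0, 16, 15207) .leaf) (231004, 0, 14, 235423) (.node .leaf (231005, 0, 14, 58764) .leaf)))) (231006, 0, 14, 182202) (.node (.node (.node (.node .leaf (231007, 0, 18, 200190) .leaf) (231008, 0, 17, 63620) (.node .leaf (231009, 0, 14, 97265) .leaf)) (231010, 0, 15, 108705) (.node (.node .leaf (231011, 0, 13, 84167) .leaf) (231020, 0, 14, 189503) (.node .leaf (231021, 0, 16, 132185) .leaf))) (231022, 0, 16, 242714) (.node (.node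 (.node .leaf (231023, 0, 13, 1538) .leaf) (231028, 0, 18, 207668) (.node .leaf (231029, 0, 18, 94746) .leaf)) (231030, 0, 15, 49990) (.node (.node .leaf (231031, 0, 18, 170600) .leaf) (231032, 0, 17, 42313) (.node .leaf (231033, 0, 14, 17711) .leaf))))) (231034, 0, 16, 128364) (.node (.node (.node (.node (.node .leaf (231035, 0, 17, 4073) .leaf) (231044, 0, 16, 247851) (.node .leaf (231045, 0, 17, 102661) .leaf)) (231046, 0, 17, 8281) (.node (.node .leaf (231047, 0, 18, 231325) .leaf) (231048, 0, 17, 11109) (.node .leaf (231049, 0, 15, 197764) .leaf))) (231050, 0, 15, 97088) (.node (.node (.node .leaf (231051, 0, 14, 105254) .leaf) (231056, 0, 17, 246208) (.node .leaf (231057, 0, 15, 38606) .leaf)) (231058, 0, 17, 75405) (.node (.node .leaf (231059, 0, 16, 159900) .leaf) (231068, 0, 16, 158227) (.node .leaf (231069, 0, 17, 200047) .leaf)))) (231070, 0, 15, 179251) (.node (.node (.node (.node .leaf (231071, 0, 15, 58653) .leaf) (231072, 0, 16, 51772) (.node .leaf (231073, 0, 15, 168722) .leaf)) (231074, 0, 16, 21805) (.node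 (.node .leaf (231075, 0, 19, 97120) .leaf) (231084, 0, 16, 155581) (.node .leaf (231085, 0, 14, 260565) .leaf))) (231086, 0, 17, 112591) (.node (.node (.node .leaf (231087, 0, 17, 257761) .leaf) (231092, 0, 17, 214142) (.node .leaf (231093, 0, 18, 170745) .leaf)) (231094, 0, 18, 207781) (.node (.node .leaf (231095, 0, 14, 193597) .leaf) (231096, 0, 17, 88261) (.node .leaf (231097, 0, 16, 3960) .leaf))))))

/-- part of the orbit tree -/
def itp7_32 : Tree := (.node (.node (.node (.node (.node (.node .leaf (231099, 0, 18, 59526) .leaf) (231108, 0, 17, 89432) (.node .leaf (231109, 0, 18, 117135) .leaf)) (231110, 0, 13, 3453) (.node (.node .leaf (231111, 0, 15, 139773) .leaf) (231112, 0, 16, 213475) (.node .leaf (231113, 0, 15, 237957) .leaf))) (231114, 0, 15, 191826) (.node (.node (.node .leaf (231115, 0, 16, 46204) .leaf) (231120, 0, 15, 203822) (.node .leaf (231121, 0, 17, 114788) .leaf)) (231122, 0, 18, 28984) (.node (.node .leaf (231123, 0, 18, 175213) .leaf) (231132, 0, 17, 65685) (.node .leaf (231133, 0, 18, 123123) .leaf))))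 (231134, 0, 15, 20656) (.node (.node (.node (.node .leaf (231135, 0, 17, 48535) .leaf) (231136, 0, 18, 37558) (.node .leaf (231137, 0, 14, 167912) .leaf)) (231138, 0, 17, 228036) (.node (.node .leaf (231139, 0, 17, 253901) .leaf) (231148, 0, 18, 132919) (.node .leaf (231149, 0, 16, 24089) .leaf))) (231150, 0, 12, 74512) (.node (.node (.node .leaf (231151, 0, 13, 115574) .leaf) (231156, 0, 16, 12024) (.node .leaf (231157, 0, 13, 180851) .leaf)) (231158, 0, 19, 226095) (.node (.node .leaf (231159, 0, 16, 106171) .leaf) (231160, 0, 15, 143939) (.node .leaf (231161, 0, 19, 22514) .leaf))))) (231162, 0, 17, 221798) (.node (.node (.node (.node (.node .leaf (231163, 0, 18, 229888) .leaf) (231172, 0, 14, 40865) (.node .leaf (231173, 0, 18, 254662) .leaf)) (231174, 0, 17, 152197) (.node (.node .leaf (231175, 0, 10, 77565) .leaf) (231176, 0, 16, 133664) (.node .leaf (231177, 0, 15, 130685) .leaf))) (231178, 0, 15, 20030) (.node (.node (.node .leaf (231179, 0, 13, 44632) .leaf) (231184, 0, 16, 82902) (.node .leaf (231185, 0, 17, 184164)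 .leaf)) (231186, 0, 16, 228920) (.node (.node .leaf (231187, 0, 14, 62357) .leaf) (231196, 0, 17, 132043) (.node .leaf (231197, 0, 15, 23269) .leaf)))) (231198, 0, 14, 134984) (.node (.node (.node (.node .leaf (231199, 0, 13, 242327) .leaf) (231200, 0, 16, 12406) (.node .leaf (231201, 0, 9, 115864) .leaf)) (231202, 0, 17, 90195) (.node (.node .leaf (231203, 0, 15, 142570) .leaf) (231212, 0, 18, 142541) (.node .leaf (231213, 0, 18, 183467) .leaf))) (231214, 0, 15, 228584) (.node (.node (.node .leaf (231215, 0, 13, 236686) .leaf) (231220, 0, 16, 160000) (.node .leaf (231221, 0, 17, 118131) .leaf)) (231222, 0, 15, 205093) (.node (.node .leaf (231223, 0, 16, 140545) .leaf) (231224, 0, 18, 66012) (.node .leaf (231225, 0, 16, 219378) .leaf))))))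

/-- part of the orbit tree -/
def itp7_33 : Tree := (.node (.node (.node (.node (.node (.node .leaf (231227, 0, 17, 122360) .leaf) (231236, 0, 13, 50987) (.node .leaf (231237, 0, 15, 34880) .leaf)) (231238, 0, 17, 208729) (.node (.node .leaf (231239, 0, 17, 95863) .leaf) (231240, 0, 16, 160925) (.node .leaf (231241, 0, 12, 169211) .leaf))) (231242, 0, 17, 113368) (.node (.node (.node .leaf (231243, 0, 18, 254966) .leaf) (231248, 0, 18, 52928) (.node .leaf (231249, 0, 17, 169966) .leaf)) (231250, 0, 17, 206514) (.node (.node .leaf (231251, 0, 14, 235795) .leaf) (231260, 0, 14, 13803) (.node .leaf (231261, 0, 16, 54669) .leaf)))) (231262, 0, 15, 111411) (.node (.node (.node (.node .leaf (231263, 0, 13, 99752) .leaf) (231264, 0, 15, 219888) (.node .leaf (231265, 0, 15, 105490) .leaf)) (231266, 0, 12, 11598) (.node (.node .leaf (231267, 0, 18, 160864) .leaf) (231276, 0, 16, 83531) (.node .leaf (231277, 0, 16, 199059) .leaf))) (231278, 0, 18, 178383) (.node (.node (.node .leaf (231279, 0, 16, 62984) .leaf) (231284, 0, 17, 72582)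 (.node .leaf (231285, 0, 14, 130016) .leaf)) (231286, 0, 17, 9381) (.node (.node .leaf (231287, 0, 16, 163211) .leaf) (231288, 0, 15, 198461) (.node .leaf (231289, 0, 15, 196728) .leaf))))) (231290, 0, 17, 176420) (.node (.node (.node (.node (.node .leaf (231291, 0, 15, 59402) .leaf) (231300, 0, 14, 208840) (.node .leaf (231301, 0, 16, 95692) .leaf)) (231302, 0, 17, 50575) (.node (.node .leaf (231303, 0, 17, 9705) .leaf) (231304, 0, 11, 231697) (.node .leaf (231305, 0, 18, 254823) .leaf))) (231306, 0, 17, 152123) (.node (.node (.node .leaf (231307, 0, 13, 145746) .leaf) (231312, 0, 15, 206371) (.node .leaf (231313, 0, 16, 98061) .leaf)) (231314, 0, 17, 52817) (.node (.node .leaf (231315, 0, 18, 169855) .leaf) (231324, 0, 17, 111522) (.node .leaf (231325, 0, 17, 75777) .leaf)))) (231326, 0, 13, 38978) (.node (.node (.node (.node .leaf (231327, 0, 14, 30756) .leaf) (231328, 0, 18, 11743) (.node .leaf (231329, 0, 17, 149274) .leaf)) (231330, 0, 17, 247213) (.node (.node .leaf (231331, 0, 14, 202559) .leaf) (231340, 0, 14, 178270)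 (.node .leaf (231341, 0, 16, 57712) .leaf))) (231342, 0, 15, 125922) (.node (.node (.node .leaf (231343, 0, 17, 198914) .leaf) (231348, 0, 15, 58890) (.node .leaf (231349, 0, 11, 1644) .leaf)) (231350, 0, 14, 112175) (.node (.node .leaf (231351, 0, 16, 103784) .leaf) (231352, 0, 16, 195249) (.node .leaf (231353, 0, 18, 59547) .leaf))))))

/-- part of the orbit tree -/
def itp7_34 : Tree := (.node (.node (.node (.node (.node (.node .leaf (231355, 0, 17, 196841) .leaf) (231364, 0, 14, 227138) (.node .leaf (231365, 0, 15, 77420) .leaf)) (231366, 0, 16, 40752) (.node (.node .leaf (231367, 0, 15, 181790) .leaf) (231368, 0, 17, 58263) (.node .leaf (231369, 0, 17, 1009) .leaf))) (231370, 0, 16, 133809) (.node (.node (.node .leaf (231371, 0, 18, 86996) .leaf) (231376, 0, 15, 48730) (.node .leaf (231377, 0, 15, 75655) .leaf)) (231378, 0, 18, 38619) (.node (.node .leaf (231379, 0, 15, 69145) .leaf) (231388, 0, 16, 172769) (.node .leaf (231389, 0, 16, 148103) .leaf)))) (231390, 0, 16, 258756) (.node (.node (.node (.node .leaf (231391,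 0, 16, 23156) .leaf) (231392, 0, 18, 118266) (.node .leaf (231393, 0, 16, 142459) .leaf)) (231394, 0, 16, 40415) (.node (.node .leaf (231395, 0, 16, 115721) .leaf) (231404, 0, 16, 188628) (.node .leaf (231405, 0, 12, 47610) .leaf))) (231406, 0, 16, 164196) (.node (.node (.node .leaf (231407, 0, 12, 217480) .leaf) (231412, 0, 13, 31934) (.node .leaf (231413, 0, 18, 224490) .leaf)) (231414, 0, 15, 187561) (.node (.node .leaf (231415, 0, 15, 146639) .leaf) (231416, 0, 16, 102455) (.node .leaf (231417, 0, 15, 94289) .leaf))))) (231418, 0, 12, 65869) (.node (.node (.node (.node (.node .leaf (231419, 0, 16, 8308) .leaf) (231424, 0, 15, 250163) (.node .leaf (231427, 0, 13, 64484) .leaf)) (231428, 0, 18, 256016) (.node (.node .leaf (231431, 0, 17, 153683) .leaf) (231433, 0, 17, 260362) (.node .leaf (231434, 0, 18, 149590) .leaf))) (231437, 0, 18, 99863) (.node (.node (.node .leaf (231438, 0, 16, 14155) .leaf) (231441, 0, 17, 91488) (.node .leaf (231442, 0, 17, 63811) .leaf)) (231445, 0, 16, 94243) (.node (.node .leaf (231446, 0, 17,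 174881) .leaf) (231448, 0, 16, 251602) (.node .leaf (231451, 0, 16, 157582) .leaf)))) (231452, 0, 14, 243165) (.node (.node (.node (.node .leaf (231455, 0, 17, 6291) .leaf) (231457, 0, 13, 15008) (.node .leaf (231458, 0, 16, 101091) .leaf)) (231461, 0, 16, 899) (.node (.node .leaf (231462, 0, 16, 111552) .leaf) (231464, 0, 17, 196446) (.node .leaf (231467, 0, 14, 93298) .leaf))) (231468, 0, 17, 181885) (.node (.node (.node .leaf (231471, 0, 15, 201583) .leaf) (231472, 0, 14, 147780) (.node .leaf (231475, 0, 16, 258072) .leaf)) (231476, 0, 17, 15961) (.node (.node .leaf (231479, 0, 8, 102149) .leaf) (231481, 0, 17, 62198) (.node .leaf (231482, 0, 17, 82858) .leaf))))))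

/-- part of the orbit tree -/
def itp7_35 : Tree := (.node itp7_31 (231098, 0, 14, 2272) itp7_32)

/-- part of the orbit tree -/
def itp7_36 : Tree := (.node itp7_33 (231354, 0, 12, 88519) itp7_34)

/-- part of the orbit tree -/
def itp7_37 : Tree := (.node (.node (.node (.node (.node (.node .leaf (231486, 0, 16, 212151) .leaf) (231488, 0, 17, 70194) (.node .leaf (231491, 0, 15, 41838) .leaf)) (231492, 0, 16, 224559) (.node (.node .leaf (231495, 0, 16, 78549) .leaf) (231497, 0, 16, 237952) (.node .leaf (231498, 0, 16, 135388) .leaf))) (231501, 0, 17, 122525) (.node (.node (.node .leaf (231502, 0, 15, 28609) .leaf) (231505, 0, 15, 140166) (.node .leaf (231506, 0, 18, 234437) .leaf)) (231509, 0, 15, 137893) (.node (.node .leaf (231510, 0, 15, 240358) .leaf) (231512, 0, 12, 59000) (.node .leaf (231515, 0, 17, 147204) .leaf)))) (231516, 0, 13, 57179) (.node (.node (.node (.node .leaf (231519, 0, 17, 93976) .leaf) (231521, 0, 18, 217126) (.node .leaf (231522, 0, 18, 231242) .leaf)) (231525, 0, 16, 18699) (.node (.node .leaf (231526,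 0, 17, 129111) .leaf) (231528, 0, 16, 34212) (.node .leaf (231531, 0, 16, 9627) .leaf))) (231532, 0, 13, 109819) (.node (.node (.node .leaf (231535, 0, 13, 216037) .leaf) (231536, 0, 11, 116757) (.node .leaf (231539, 0, 11, 239762) .leaf)) (231540, 0, 18, 26323) (.node (.node .leaf (231543, 0, 17, 120719) .leaf) (231545, 0, 13, 200171) (.node .leaf (231546, 0, 16, 179624) .leaf))))) (231549, 0, 14, 210120) (.node (.node (.node (.node (.node .leaf (231550, 0, 16, 165003) .leaf) (231552, 0, 16, 195281) (.node .leaf (231555, 0, 17, 215949) .leaf)) (231556, 0, 13, 98074) (.node (.node .leaf (231559, 0, 18, 78992) .leaf) (231561, 0, 13, 230343) (.node .leaf (231562, 0, 14, 129087) .leaf))) (231565, 0, 12, 145022) (.node (.node (.node .leaf (231566, 0, 18, 133799) .leaf) (231569, 0, 17, 185609) (.node .leaf (231570, 0, 17, 159305) .leaf)) (231573, 0, 15, 255785) (.node (.node .leaf (231574, 0, 14, 153450) .leaf) (231576, 0, 18, 72692) (.node .leaf (231579, 0, 15, 120807) .leaf)))) (231580, 0, 15, 74455) (.node (.node (.node (.node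 .leaf (231583, 0, 17, 37524) .leaf) (231585, 0, 19, 122613) (.node .leaf (231586, 0, 15, 204265) .leaf)) (231589, 0, 16, 238056) (.node (.node .leaf (231590, 0, 11, 206026) .leaf) (231592, 0, 16, 26708) (.node .leaf (231595, 0, 15, 187419) .leaf))) (231596, 0, 18, 70234) (.node (.node (.node .leaf (231599, 0, 13, 123188) .leaf) (231600, 0, 16, 127277) (.node .leaf (231603, 0, 15, 99802) .leaf)) (231604, 0, 18, 233008) (.node (.node .leaf (231607, 0, 15, 113913) .leaf) (231609, 0, 14, 192615) (.node .leaf (231610, 0, 17, 193475) .leaf))))))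

/-- part of the orbit tree -/
def itp7_38 : Tree := (.node (.node (.node (.node (.node (.node .leaf (231614, 0, 14, 227591) .leaf) (231616, 0, 16, 142527) (.node .leaf (231619, 0, 15, 236796) .leaf)) (231620, 0, 17, 136604) (.node (.node .leaf (231623, 0, 19, 93210) .leaf) (231625, 0, 14, 59713) (.node .leaf (231626, 0, 13, 106677) .leaf))) (231629, 0, 14, 159476) (.node (.node (.node .leaf (231630, 0, 18, 253864) .leaf) (231633, 0, 15, 167299) (.node .leaf (231634, 0, 16, 212191) .leaf)) (231637, 0, 18, 62110) (.node (.node .leaf (231638, 0, 14, 82882) .leaf) (231640, 0, 15, 15921) (.node .leaf (231643, 0, 14, 102253) .leaf)))) (231644, 0, 15, 149585) (.node (.node (.node (.node .leaf (231647, 0, 16, 260114) .leaf) (231649, 0, 16, 116524) (.node .leaf (231650, 0, 17, 30575) .leaf)) (231653, 0, 14, 130575) (.node (.node .leaf (231654, 0, 17, 149566) .leaf) (231656, 0, 18, 210381) (.node .leaf (231659, 0, 13, 165009) .leaf))) (231660, 0, 19, 84688) (.node (.node (.node .leaf (231663, 0, 17, 64396) .leaf) (231664, 0, 14, 108967)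 (.node .leaf (231667, 0, 15, 6395) .leaf)) (231668, 0, 17, 251578) (.node (.node .leaf (231671, 0, 15, 157670) .leaf) (231673, 0, 16, 203285) (.node .leaf (231674, 0, 17, 10914) .leaf))))) (231677, 0, 16, 91400) (.node (.node (.node (.node (.node .leaf (231678, 0, 16, 54356) .leaf) (231680, 0, 15, 29511) (.node .leaf (231683, 0, 8, 7175) .leaf)) (231684, 0, 17, 250438) (.node (.node .leaf (231687, 0, 16, 129575) .leaf) (231689, 0, 17, 177849) (.node .leaf (231690, 0, 10, 198394) .leaf))) (231693, 0, 16, 90612) (.node (.node (.node .leaf (231694, 0, 16, 53416) .leaf) (231697, 0, 10, 98947) (.node .leaf (231698, 0, 16, 13279) .leaf)) (231701, 0, 15, 184919) (.node (.node .leaf (231702, 0, 16, 150722) .leaf) (231704, 0, 18, 11914) (.node .leaf (231707, 0, 17, 163949) .leaf)))) (231708, 0, 14, 6057) (.node (.node (.node (.node .leaf (231711, 0, 17, 65392) .leaf) (231713, 0, 15, 235732) (.node .leaf (231714, 0, 14, 141463) .leaf)) (231717, 0, 14, 63074) (.node (.node .leaf (231718, 0, 14, 135604) .leaf) (231720, 0, 13, 89386) (.node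 .leaf (231723, 0, 15, 101265) .leaf))) (231724, 0, 16, 148944) (.node (.node (.node .leaf (231727, 0, 16, 54346) .leaf) (231728, 0, 17, 65767) (.node .leaf (231731, 0, 16, 45220) .leaf)) (231732, 0, 16, 80324) (.node (.node .leaf (231735, 0, 18, 35207) .leaf) (231737, 0, 17, 247065) (.node .leaf (231738, 0, 16, 161114) .leaf))))))

/-- part of the orbit tree -/
def itp7_39 : Tree := (.node (.node (.node (.node (.node (.node .leaf (231742, 0, 17, 150649) .leaf) (231744, 0, 16, 128465) (.node .leaf (231747, 0, 17, 17549) .leaf)) (231748, 0, 15, 205026) (.node (.node .leaf (231751, 0, 12, 146320) .leaf) (231753, 0, 17, 214627) (.node .leaf (231754, 0, 18, 27772) .leaf))) (231757, 0, 18, 124188) (.node (.node (.node .leaf (231758, 0, 16, 34850) .leaf) (231761, 0, 15, 98802) (.node .leaf (231762, 0, 7, 12721) .leaf)) (231765, 0, 13, 112849) (.node (.node .leaf (231766, 0, 17, 136264) .leaf) (231768, 0, 14, 223675) (.node .leaf (231771, 0, 15, 186599) .leaf)))) (231772, 0, 14, 71334) (.node (.node (.node (.node .leaf (231775, 0,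 17, 43002) .leaf) (231777, 0, 13, 184821) (.node .leaf (231778, 0, 16, 221353) .leaf)) (231781, 0, 13, 52081) (.node (.node .leaf (231782, 0, 15, 97074) .leaf) (231784, 0, 16, 145324) (.node .leaf (231787, 0, 13, 231407) .leaf))) (231788, 0, 12, 138586) (.node (.node (.node .leaf (231791, 0, 15, 240646) .leaf) (231792, 0, 17, 196141) (.node .leaf (231795, 0, 16, 216945) .leaf)) (231796, 0, 16, 152386) (.node (.node .leaf (231799, 0, 14, 77932) .leaf) (231801, 0, 15, 19871) (.node .leaf (231802, 0, 15, 73692) .leaf))))) (231805, 0, 15, 38588) (.node (.node (.node (.node (.node .leaf (231806, 0, 17, 230366) .leaf) (231808, 0, 13, 189517) (.node .leaf (231811, 0, 14, 218126) .leaf)) (231812, 0, 17, 187758) (.node (.node .leaf (231815, 0, 15, 224557) .leaf) (231817, 0, 17, 44672) (.node .leaf (231818, 0, 14, 102896) .leaf))) (231821, 0, 17, 184733) (.node (.node (.node .leaf (231822, 0, 14, 221377) .leaf) (231825, 0, 16, 31870) (.node .leaf (231826, 0, 11, 117821) .leaf)) (231829, 0, 18, 17757) (.node (.node .leaf (231830, 0, 16,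 128286) .leaf) (231832, 0, 18, 178560) (.node .leaf (231835, 0, 11, 199107) .leaf)))) (231836, 0, 17, 196165) (.node (.node (.node (.node .leaf (231839, 0, 16, 209120) .leaf) (231841, 0, 16, 80150) (.node .leaf (231842, 0, 17, 49053) .leaf)) (231845, 0, 16, 79613) (.node (.node .leaf (231846, 0, 14, 194391) .leaf) (231848, 0, 17, 232100) (.node .leaf (231851, 0, 14, 146424) .leaf))) (231852, 0, 13, 128441) (.node (.node (.node .leaf (231855, 0, 15, 148288) .leaf) (231856, 0, 17, 71374) (.node .leaf (231859, 0, 14, 42898) .leaf)) (231860, 0, 17, 223699) (.node (.node .leaf (231863, 0, 16, 186511) .leaf) (231865, 0, 13, 238972) (.node .leaf (231866, 0, 17, 57936) .leaf))))))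

/-- part of the orbit tree -/
def itp7_40 : Tree := (.node (.node (.node (.node (.node (.node .leaf (231870, 0, 17, 27453) .leaf) (231872, 0, 18, 148920) (.node .leaf (231875, 0, 15, 16008) .leaf)) (231876, 0, 17, 112616) (.node (.node .leaf (231879, 0, 18, 1963) .leaf) (231881, 0, 15, 215861) (.node .leaf (231882, 0, 14, 195446) .leaf))) (231885, 0, 14, 225814) (.node (.node (.node .leaf (231886, 0, 16, 211019) .leaf) (231889, 0, 15, 158304) (.node .leaf (231890, 0, 16, 173755) .leaf)) (231893, 0, 15, 208859) (.node (.node .leaf (231894, 0, 18, 171928) .leaf) (231896, 0, 18, 55762) (.node .leaf (231899, 0, 16, 92302) .leaf)))) (231900, 0, 16, 125477) (.node (.node (.node (.node .leaf (231903, 0, 16, 202643) .leaf) (231905, 0, 13, 90524) (.node .leaf (231906, 0, 14, 251163) .leaf)) (231909, 0, 16, 154747) (.node (.node .leaf (231910, 0, 15, 176093) .leaf) (231912, 0, 16, 41126) (.node .leaf (231915, 0, 17, 69861) .leaf))) (231916, 0, 14, 39301) (.node (.node (.node .leaf (231919, 0, 14, 7279) .leaf) (231920, 0, 14, 64875)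 (.node .leaf (231923, 0, 11, 65304) .leaf)) (231924, 0, 16, 209241) (.node (.node .leaf (231927, 0, 18, 163845) .leaf) (231929, 0, 17, 145557) (.node .leaf (231930, 0, 15, 231638) .leaf))))) (231933, 0, 14, 131510) (.node (.node (.node (.node (.node .leaf (231934, 0, 18, 13239) .leaf) (231938, 0, 14, 174054) (.node .leaf (231939, 0, 16, 150784) .leaf)) (231942, 0, 16, 169029) (.node (.node .leaf (231943, 0, 17, 164309) .leaf) (231944, 0, 14, 121051) (.node .leaf (231945, 0, 17, 261158) .leaf))) (231948, 0, 17, 252437) (.node (.node (.node .leaf (231949, 0, 18, 99131) .leaf) (231952, 0, 18, 211298) (.node .leaf (231953, 0, 17, 90188) .leaf)) (231956, 0, 14, 83583) (.node (.node .leaf (231957, 0, 15, 89171) .leaf) (231962, 0, 17, 15244) (.node .leaf (231963, 0, 15, 135373) .leaf)))) (231966, 0, 16, 182664) (.node (.node (.node (.node .leaf (231967, 0, 17, 7615) .leaf) (231968, 0, 18, 63158) (.node .leaf (231969, 0, 17, 5840) .leaf)) (231972, 0, 10, 53141) (.node (.node .leaf (231973, 0, 16, 5293) .leaf) (231978, 0, 14, 230155)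 (.node .leaf (231979, 0, 18, 222061) .leaf))) (231982, 0, 17, 244264) (.node (.node (.node .leaf (231983, 0, 16, 219726) .leaf) (231986, 0, 16, 253638) (.node .leaf (231987, 0, 17, 259380) .leaf)) (231990, 0, 15, 255973) (.node (.node .leaf (231991, 0, 17, 100905) .leaf) (231992, 0, 11, 175860) .leaf)))))

/-- part of the orbit tree -/
def itp7_41 : Tree := (.node itp7_37 (231613, 0, 13, 81282) itp7_38)

/-- part of the orbit tree -/
def itp7_42 : Tree := (.node itp7_39 (231869, 0, 14, 92976) itp7_40)

/-- part of the orbit tree -/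
def itp7_43 : Tree := (.node itp7_35 (231226, 0, 15, 81310) itp7_36)

/-- part of the orbit tree -/
def itp7_44 : Tree := (.node itp7_41 (231741, 0, 15, 158216) itp7_42)

/-- part of the orbit tree -/
def itp7_45 : Tree := (.node (.node (.node (.node (.node (.node .leaf (231996, 0, 19, 53737) .leaf) (231997, 0, 17, 29246) (.node .leaf (232002, 0, 15, 116704) .leaf)) (232003, 0, 15, 75654) (.node (.node .leaf (232006, 0, 15, 32881) .leaf) (232007, 0, 17, 73381) (.node .leaf (232008, 0, 18, 176733) .leaf))) (232009, 0, 16, 238764) (.node (.node (.node .leaf (232012, 0, 14, 166782) .leaf) (232013, 0, 13, 121777) (.node .leaf (232016, 0, 18, 192400) .leaf)) (232017, 0, 17, 80070) (.node (.node .leaf (232020, 0, 15, 73461) .leaf) (232021, 0, 17, 215003) (.node .leaf (232026, 0, 16, 25350) .leaf)))) (232027, 0, 16, 145960) (.node (.node (.node (.node .leaf (232030, 0, 15, 107278) .leaf) (232031, 0, 17, 82792) (.node .leaf (232032, 0, 13, 27156) .leaf)) (232033, 0, 15, 144186) (.node (.node .leaf (232036, 0, 16, 238867) .leaf) (232037,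 0, 14, 214389) (.node .leaf (232042, 0, 16, 223482) .leaf))) (232043, 0, 17, 78292) (.node (.node (.node .leaf (232046, 0, 14, 71655) .leaf) (232047, 0, 18, 216777) (.node .leaf (232050, 0, 15, 46144) .leaf)) (232051, 0, 17, 21542) (.node (.node .leaf (232054, 0, 15, 36195) .leaf) (232055, 0, 13, 119459) (.node .leaf (232056, 0, 14, 246269) .leaf))))) (232057, 0, 17, 205211) (.node (.node (.node (.node (.node .leaf (232060, 0, 17, 260318) .leaf) (232061, 0, 16, 184397) (.node .leaf (232066, 0, 16, 71567) .leaf)) (232067, 0, 15, 55818) (.node (.node .leaf (232070, 0, 16, 847) .leaf) (232071, 0, 19, 58153) (.node .leaf (232072, 0, 17, 217041) .leaf))) (232073, 0, 17, 19535) (.node (.node (.node .leaf (232076, 0, 15, 227058) .leaf) (232077, 0, 16, 235156) (.node .leaf (232080, 0, 16, 35083) .leaf)) (232081, 0, 15, 258682) (.node (.node .leaf (232084, 0, 15, 207679) .leaf) (232085, 0, 17, 248665) (.node .leaf (232090, 0, 15, 232421) .leaf)))) (232091, 0, 15, 34759) (.node (.node (.node (.node .leaf (232094, 0, 6, 24194) .leaf)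 (232095, 0, 13, 48868) (.node .leaf (232096, 0, 15, 156092) .leaf)) (232097, 0, 14, 121817) (.node (.node .leaf (232100, 0, 16, 130538) .leaf) (232101, 0, 17, 178425) (.node .leaf (232106, 0, 17, 70657) .leaf))) (232107, 0, 11, 128103) (.node (.node (.node .leaf (232110, 0, 15, 196356) .leaf) (232111, 0, 16, 118084) (.node .leaf (232114, 0, 16, 138355) .leaf)) (232115, 0, 18, 108970) (.node (.node .leaf (232118, 0, 13, 94447) .leaf) (232119, 0, 17, 145984) (.node .leaf (232120, 0, 17, 146545) .leaf))))))

/-- part of the orbit tree -/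
def itp7_46 : Tree := (.node (.node (.node (.node (.node (.node .leaf (232124, 0, 17, 132434) .leaf) (232125, 0, 17, 80046) (.node .leaf (232130, 0, 16, 217322) .leaf)) (232131, 0, 15, 202283) (.node (.node .leaf (232134, 0, 15, 223689) .leaf) (232135, 0, 16, 231855) (.node .leaf (232136, 0, 16, 9559) .leaf))) (232137, 0, 18, 5317) (.node (.node (.node .leaf (232140, 0, 17, 13046) .leaf) (232141, 0, 14, 64530) (.node .leaf (232144, 0, 14, 30874) .leaf)) (232145, 0, 17, 39164) (.node (.node .leaf (232148, 0, 16, 16825) .leaf) (232149, 0, 10, 41439) (.node .leaf (232154, 0, 19, 250735) .leaf)))) (232155, 0, 17, 100929) (.node (.node (.node (.node .leaf (232158, 0, 16, 109682) .leaf) (232159, 0, 15, 259420) (.node .leaf (232160, 0, 17, 252541) .leaf)) (232161, 0, 15, 99155) (.node (.node .leaf (232164, 0, 13, 78361) .leaf) (232165, 0, 17, 261198) (.node .leaf (232170, 0, 16, 55443) .leaf))) (232171, 0, 16, 171745) (.node (.node (.node .leaf (232174, 0, 16, 149412) .leaf) (232175, 0, 16, 174018) (.node .leaf (232178, 0, 17, 148729)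 .leaf)) (232179, 0, 16, 181036) (.node (.node .leaf (232182, 0, 12, 137833) .leaf) (232183, 0, 17, 195087) (.node .leaf (232184, 0, 18, 87799) .leaf))))) (232185, 0, 13, 112273) (.node (.node (.node (.node (.node .leaf (232188, 0, 17, 94164) .leaf) (232189, 0, 12, 102322) (.node .leaf (232194, 0, 18, 147461) .leaf)) (232195, 0, 16, 126836) (.node (.node .leaf (232198, 0, 15, 16152) .leaf) (232199, 0, 16, 157238) (.node .leaf (232200, 0, 15, 162479) .leaf))) (232201, 0, 14, 170697) (.node (.node (.node .leaf (232204, 0, 16, 212470) .leaf) (232205, 0, 18, 91352) (.node .leaf (232208, 0, 17, 253569) .leaf)) (232209, 0, 17, 182020) (.node (.node .leaf (232212, 0, 16, 106908) .leaf) (232213, 0, 17, 196135) (.node .leaf (232218, 0, 18, 56431) .leaf)))) (232219, 0, 18, 111289) (.node (.node (.node (.node .leaf (232222, 0, 17, 172914) .leaf) (232223, 0, 15, 64092) (.node .leaf (232224, 0, 15, 54653) .leaf)) (232225, 0, 14, 242852) (.node (.node .leaf (232228, 0, 16, 224737) .leaf) (232229, 0, 16, 62286) (.node .leaf (232234, 0, 18,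 251795) .leaf))) (232235, 0, 16, 102077) (.node (.node (.node .leaf (232238, 0, 17, 6236) .leaf) (232239, 0, 15, 63546) (.node .leaf (232242, 0, 17, 84985) .leaf)) (232243, 0, 12, 40148) (.node (.node .leaf (232246, 0, 15, 17809) .leaf) (232247, 0, 18, 93642) (.node .leaf (232248, 0, 17, 149783) .leaf))))))

/-- part of the orbit tree -/
def itp7_47 : Tree := (.node (.node (.node (.node (.node (.node .leaf (232252, 0, 16, 208940) .leaf) (232253, 0, 18, 249930) (.node .leaf (232258, 0, 16, 157076) .leaf)) (232259, 0, 16, 16801) (.node (.node .leaf (232262, 0, 15, 26514) .leaf) (232263, 0, 13, 147132) (.node .leaf (232264, 0, 17, 72289) .leaf))) (232265, 0, 16, 213839) (.node (.node (.node .leaf (232268, 0, 17, 222588) .leaf) (232269, 0, 17, 117100) (.node .leaf (232272, 0, 17, 85476) .leaf)) (232273, 0, 14, 109954) (.node (.node .leaf (232276, 0, 16, 95431) .leaf) (232277, 0, 17, 237624) (.node .leaf (232282, 0, 18, 145497) .leaf)))) (232283, 0, 14, 187851) (.node (.node (.node (.node .leaf (232286, 0, 18, 131450) .leaf) (232287,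 0, 18, 41686) (.node .leaf (232288, 0, 17, 15940) .leaf)) (232289, 0, 14, 185561) (.node (.node .leaf (232292, 0, 15, 193258) .leaf) (232293, 0, 18, 43972) (.node .leaf (232298, 0, 17, 233241) .leaf))) (232299, 0, 16, 120375) (.node (.node (.node .leaf (232302, 0, 15, 226010) .leaf) (232303, 0, 14, 239914) (.node .leaf (232306, 0, 15, 70515) .leaf)) (232307, 0, 17, 259666) (.node (.node .leaf (232310, 0, 17, 224366) .leaf) (232311, 0, 16, 249713) (.node .leaf (232312, 0, 17, 25481) .leaf))))) (232313, 0, 15, 18611) (.node (.node (.node (.node (.node .leaf (232316, 0, 15, 28288) .leaf) (232317, 0, 17, 145326) (.node .leaf (232322, 0, 16, 127084) .leaf)) (232323, 0, 16, 239938) (.node (.node .leaf (232326, 0, 12, 237883) .leaf) (232327, 0, 16, 120415) (.node .leaf (232328, 0, 18, 193154) .leaf))) (232329, 0, 17, 43948) (.node (.node (.node .leaf (232332, 0, 14, 54406) .leaf) (232333, 0, 15, 13536) (.node .leaf (232336, 0, 8, 45160) .leaf)) (232337, 0, 17, 145350) (.node (.node .leaf (232340, 0, 17, 35147) .leaf) (232341, 0, 16,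 26925) (.node .leaf (232346, 0, 14, 224262) .leaf)))) (232347, 0, 16, 206259) (.node (.node (.node (.node .leaf (232350, 0, 17, 70427) .leaf) (232351, 0, 17, 215605) (.node .leaf (232352, 0, 11, 115656) .leaf)) (232353, 0, 15, 74670) (.node (.node .leaf (232356, 0, 17, 72201) .leaf) (232357, 0, 17, 213799) (.node .leaf (232362, 0, 14, 26618) .leaf))) (232363, 0, 16, 153107) (.node (.node (.node .leaf (232366, 0, 16, 137447) .leaf) (232367, 0, 17, 159536) (.node .leaf (232370, 0, 15, 195472) .leaf)) (232371, 0, 16, 41662) (.node (.node .leaf (232374, 0, 15, 184987) .leaf) (232375, 0, 14, 187811) (.node .leaf (232376, 0, 17, 129406) .leaf))))))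

/-- part of the orbit tree -/
def itp7_48 : Tree := (.node (.node (.node (.node (.node (.node .leaf (232380, 0, 14, 231011) .leaf) (232381, 0, 15, 83776) (.node .leaf (232386, 0, 18, 62110) .leaf)) (232387, 0, 16, 258504) (.node (.node .leaf (232390, 0, 15, 251899) .leaf) (232391, 0, 17, 11227) (.node .leaf (232392, 0, 16, 231203) .leaf))) (232393, 0, 16, 223045) (.node (.node (.node .leaf (232396, 0, 17, 54549) .leaf) (232397, 0, 16, 220774) (.node .leaf (232400, 0, 16, 252654) .leaf)) (232401, 0, 17, 211592) (.node (.node .leaf (232404, 0, 16, 254925) .leaf) (232405, 0, 18, 197547) (.node .leaf (232410, 0, 18, 210060) .leaf)))) (232411, 0, 13, 20277) (.node (.node (.node (.node .leaf (232414, 0, 17, 38512) .leaf) (232415, 0, 13, 201407) (.node .leaf (232416, 0, 16, 174414) .leaf)) (232417, 0, 16, 149800) (.node (.node .leaf (232420, 0, 14, 82563) .leaf) (232421, 0, 14, 159755) (.node .leaf (232426, 0, 17, 16240) .leaf))) (232427, 0, 16, 81045) (.node (.node (.node .leaf (232430, 0, 15, 147565) .leaf) (232431, 0, 15, 6467)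 (.node .leaf (232434, 0, 13, 172826) .leaf)) (232435, 0, 16, 90456) (.node (.node .leaf (232438, 0, 17, 56327) .leaf) (232439, 0, 18, 165161) (.node .leaf (232440, 0, 15, 106996) .leaf))))) (232441, 0, 16, 260314) (.node (.node (.node (.node (.node .leaf (232444, 0, 16, 253673) .leaf) (232445, 0, 13, 100295) (.node .leaf (232449, 0, 16, 142333) .leaf)) (232451, 0, 14, 228312) (.node (.node .leaf (232453, 0, 16, 135902) .leaf) (232455, 0, 16, 100621) (.node .leaf (232456, 0, 16, 175568) .leaf))) (232458, 0, 16, 83362) (.node (.node (.node .leaf (232460, 0, 17, 53965) .leaf) (232462, 0, 11, 100101) (.node .leaf (232464, 0, 18, 46030) .leaf)) (232466, 0, 17, 252360) (.node (.node .leaf (232468, 0, 16, 35565) .leaf) (232470, 0, 13, 108245) (.node .leaf (232473, 0, 18, 164360) .leaf)))) (232475, 0, 9, 92794) (.node (.node (.node (.node .leaf (232477, 0, 16, 64789) .leaf) (232479, 0, 18, 204598) (.node .leaf (232480, 0, 13, 211526) .leaf)) (232482, 0, 17, 53812) (.node (.node .leaf (232484, 0, 14, 83291) .leaf) (232486, 0, 17, 43368)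 (.node .leaf (232489, 0, 18, 100852) .leaf))) (232491, 0, 17, 153013) (.node (.node (.node .leaf (232493, 0, 15, 259817) .leaf) (232495, 0, 17, 7835) (.node .leaf (232497, 0, 15, 219229) .leaf)) (232499, 0, 15, 65004) (.node (.node .leaf (232501, 0, 17, 92803) .leaf) (232503, 0, 12, 164593) (.node .leaf (232504, 0, 17, 105891) .leaf))))))

/-- part of the orbit tree -/
def itp7_49 : Tree := (.node itp7_45 (232121, 0, 16, 187415) itp7_46)

/-- part of the orbit tree -/
def itp7_50 : Tree := (.node itp7_47 (232377, 0, 14, 97891) itp7_48)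

/-- part of the orbit tree -/
def itp7_51 : Tree := (.node (.node (.node (.node (.node (.node .leaf (232508, 0, 17, 107648) .leaf) (232510, 0, 15, 62629) (.node .leaf (232513, 0, 16, 82299) .leaf)) (232515, 0, 16, 4446) (.node (.node .leaf (232517, 0, 17, 96344) .leaf) (232519, 0, 17, 119175) (.node .leaf (232520, 0, 18, 230533) .leaf))) (232522, 0, 15, 73000) (.node (.node (.node .leaf (232524, 0, 13, 245158) .leaf) (232526, 0, 16, 221749) (.node .leaf (232528, 0, 17, 252232) .leaf)) (232530, 0, 17, 166253) (.node (.node .leaf (232532, 0, 18, 254059) .leaf) (232534, 0, 13, 176206) (.node .leaf (232537, 0, 17, 72886) .leaf)))) (232539, 0, 15, 78576) (.node (.node (.node (.node .leaf (232541, 0, 18, 75157) .leaf) (232543, 0, 15, 30128) (.node .leaf (232544, 0, 18, 221900) .leaf)) (232546, 0, 14, 260813) (.node (.node .leaf (232548, 0, 14, 168907) .leaf) (232550, 0, 17, 246766) (.node .leaf (232553, 0, 13, 28438) .leaf))) (232555, 0, 17, 145676) (.node (.node (.node .leaf (232557, 0, 17, 241251) .leaf) (232559, 0, 16, 17937)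 (.node .leaf (232561, 0, 18, 13019) .leaf)) (232563, 0, 16, 90878) (.node (.node .leaf (232565, 0, 14, 3064) .leaf) (232567, 0, 12, 89053) (.node .leaf (232568, 0, 15, 130726) .leaf))))) (232570, 0, 17, 239360) (.node (.node (.node (.node (.node .leaf (232572, 0, 13, 229819) .leaf) (232574, 0, 14, 27081) (.node .leaf (232577, 0, 16, 48375) .leaf)) (232579, 0, 17, 126162) (.node (.node .leaf (232581, 0, 16, 119062) .leaf) (232583, 0, 17, 120305) (.node .leaf (232584, 0, 15, 162057) .leaf))) (232586, 0, 15, 207148) (.node (.node (.node .leaf (232588, 0, 17, 147498) .leaf) (232590, 0, 18, 35542) (.node .leaf (232592, 0, 13, 229843) .leaf)) (232594, 0, 16, 27041) (.node (.node .leaf (232596, 0, 17, 130766) .leaf) (232598, 0, 17, 216514) (.node .leaf (232601, 0, 18, 57658) .leaf)))) (232603, 0, 18, 110879) (.node (.node (.node (.node .leaf (232605, 0, 14, 55321) .leaf) (232607, 0, 14, 42254) (.node .leaf (232608, 0, 17, 218980) .leaf)) (232610, 0, 19, 221789) (.node (.node .leaf (232612, 0, 15, 193842) .leaf) (232614, 0, 14, 73024)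 (.node .leaf (232617, 0, 16, 145821) .leaf))) (232619, 0, 16, 119279) (.node (.node (.node .leaf (232621, 0, 15, 109497) .leaf) (232623, 0, 16, 241394) (.node .leaf (232625, 0, 17, 118615) .leaf)) (232627, 0, 16, 40818) (.node (.node .leaf (232629, 0, 14, 128628) .leaf) (232631, 0, 15, 42577) (.node .leaf (232632, 0, 15, 136773) .leaf))))))

/-- part of the orbit tree -/
def itp7_52 : Tree := (.node (.node (.node (.node (.node (.node .leaf (232636, 0, 16, 26968) .leaf) (232638, 0, 16, 156591) (.node .leaf (232641, 0, 15, 259713) .leaf)) (232643, 0, 19, 7923) (.node (.node .leaf (232645, 0, 14, 257874) .leaf) (232647, 0, 17, 156142) (.node .leaf (232648, 0, 15, 83251) .leaf))) (232650, 0, 17, 17322) (.node (.node (.node .leaf (232652, 0, 17, 211502) .leaf) (232654, 0, 17, 31369) (.node .leaf (232656, 0, 17, 252249) .leaf)) (232658, 0, 16, 12587) (.node (.node .leaf (232660, 0, 17, 96097) .leaf) (232662, 0, 13, 10052) (.node .leaf (232665, 0, 15, 232380) .leaf)))) (232667, 0, 16, 164505) (.node (.node (.node (.node .leaf (232669,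 0, 15, 202230) .leaf) (232671, 0, 14, 64900) (.node .leaf (232672, 0, 18, 53925) .leaf)) (232674, 0, 15, 211671) (.node (.node .leaf (232676, 0, 15, 175544) .leaf) (232678, 0, 16, 87268) (.node .leaf (232681, 0, 15, 155927) .leaf))) (232683, 0, 17, 239673) (.node (.node (.node .leaf (232685, 0, 15, 7690) .leaf) (232687, 0, 17, 233754) (.node .leaf (232689, 0, 14, 173521) .leaf)) (232691, 0, 13, 201999) (.node (.node .leaf (232693, 0, 17, 171250) .leaf) (232695, 0, 14, 92690) (.node .leaf (232696, 0, 13, 24623) .leaf))))) (232698, 0, 16, 108221) (.node (.node (.node (.node (.node .leaf (232700, 0, 18, 12754) .leaf) (232702, 0, 17, 67881) (.node .leaf (232705, 0, 17, 63873) .leaf)) (232707, 0, 15, 55724) (.node (.node .leaf (232709, 0, 13, 110762) .leaf) (232711, 0, 15, 93934) (.node .leaf (232712, 0, 17, 216183) .leaf))) (232714, 0, 16, 107073) (.node (.node (.node .leaf (232716, 0, 17, 13614) .leaf) (232718, 0, 16, 140657) (.node .leaf (232720, 0, 16, 201146) .leaf)) (232722, 0, 13, 212523) (.node (.node .leaf (232724, 0, 17,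 207001) .leaf) (232726, 0, 17, 82230) (.node .leaf (232729, 0, 15, 119876) .leaf)))) (232731, 0, 16, 33889) (.node (.node (.node (.node .leaf (232733, 0, 16, 126311) .leaf) (232735, 0, 16, 48450) (.node .leaf (232736, 0, 17, 253349) .leaf)) (232738, 0, 18, 209471) (.node (.node .leaf (232740, 0, 15, 107192) .leaf) (232742, 0, 16, 150218) (.node .leaf (232745, 0, 14, 42980) .leaf))) (232747, 0, 13, 165477) (.node (.node (.node .leaf (232749, 0, 17, 40647) .leaf) (232751, 0, 17, 63864) (.node .leaf (232753, 0, 16, 64041) .leaf)) (232755, 0, 13, 6671) (.node (.node .leaf (232757, 0, 13, 101728) .leaf) (232759, 0, 12, 103215) (.node .leaf (232760, 0, 15, 147415) .leaf))))))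

/-- part of the orbit tree -/
def itp7_53 : Tree := (.node (.node (.node (.node (.node (.node .leaf (232764, 0, 16, 132852) .leaf) (232766, 0, 18, 54944) (.node .leaf (232769, 0, 18, 41227) .leaf)) (232771, 0, 16, 242474) (.node (.node .leaf (232773, 0, 18, 187926) .leaf) (232775, 0, 18, 231945) (.node .leaf (232776, 0, 17, 135865) .leaf))) (232778, 0, 16, 95956) (.node (.node (.node .leaf (232780, 0, 15, 8146) .leaf) (232782, 0, 15, 86007) (.node .leaf (232784, 0, 11, 36563) .leaf)) (232786, 0, 13, 76569) (.node (.node .leaf (232788, 0, 15, 16927) .leaf) (232790, 0, 15, 70202) (.node .leaf (232793, 0, 19, 179906) .leaf)))) (232795, 0, 16, 120083) (.node (.node (.node (.node .leaf (232797, 0, 17, 165857) .leaf) (232799, 0, 13, 251844) (.node .leaf (232800, 0, 14, 230703) .leaf)) (232802, 0, 16, 22713) (.node (.node .leaf (232804, 0, 18, 129586) .leaf) (232806, 0, 15, 24986) (.node .leaf (232809, 0, 16, 79517) .leaf))) (232811, 0, 18, 188143) (.node (.node (.node .leaf (232813, 0, 17, 259137) .leaf) (232815, 0, 14, 173156)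 (.node .leaf (232817, 0, 12, 233647) .leaf)) (232819, 0, 14, 180362) (.node (.node .leaf (232821, 0, 17, 120298) .leaf) (232823, 0, 10, 146840) (.node .leaf (232824, 0, 13, 87377) .leaf))))) (232826, 0, 15, 1396) (.node (.node (.node (.node (.node .leaf (232828, 0, 14, 93298) .leaf) (232830, 0, 17, 36394) (.node .leaf (232833, 0, 15, 204419) .leaf)) (232835, 0, 16, 41370) (.node (.node .leaf (232837, 0, 16, 79605) .leaf) (232839, 0, 16, 188039) (.node .leaf (232840, 0, 15, 129626) .leaf))) (232842, 0, 17, 135720) (.node (.node (.node .leaf (232844, 0, 16, 123486) .leaf) (232846, 0, 15, 45691) (.node .leaf (232848, 0, 13, 100016) .leaf)) (232850, 0, 14, 36418) (.node (.node .leaf (232852, 0, 16, 71981) .leaf) (232854, 0, 9, 61366) (.node .leaf (232857, 0, 17, 213838) .leaf)))) (232859, 0, 15, 136043) (.node (.node (.node (.node .leaf (232861, 0, 18, 240287) .leaf) (232863, 0, 15, 17133) (.node .leaf (232864, 0, 19, 62736) .leaf)) (232866, 0, 16, 107829) (.node (.node .leaf (232868, 0, 19, 52275) .leaf) (232870, 0, 15, 129699)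 (.node .leaf (232873, 0, 16, 143598) .leaf))) (232875, 0, 17, 221387) (.node (.node (.node .leaf (232877, 0, 11, 133581) .leaf) (232879, 0, 17, 219624) (.node .leaf (232881, 0, 14, 159011) .leaf)) (232883, 0, 17, 240230) (.node (.node .leaf (232885, 0, 17, 152576) .leaf) (232887, 0, 17, 197669) (.node .leaf (232888, 0, 16, 192934) .leaf))))))

/-- part of the orbit tree -/
def itp7_54 : Tree := (.node (.node (.node (.node (.node (.node .leaf (232892, 0, 15, 36539) .leaf) (232894, 0, 16, 222921) (.node .leaf (232897, 0, 18, 201058) .leaf)) (232899, 0, 15, 74784) (.node (.node .leaf (232901, 0, 15, 19750) .leaf) (232903, 0, 14, 72963) (.node .leaf (232904, 0, 15, 107216) .leaf))) (232906, 0, 18, 254430) (.node (.node (.node .leaf (232908, 0, 16, 166104) .leaf) (232910, 0, 18, 252157) (.node .leaf (232912, 0, 14, 191542) .leaf)) (232914, 0, 15, 54984) (.node (.node .leaf (232916, 0, 13, 185621) .leaf) (232918, 0, 12, 230704) (.node .leaf (232921, 0, 15, 10696) .leaf)))) (232923, 0, 16, 157050) (.node (.node (.node (.node .leaf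 (232925, 0, 16, 258581) .leaf) (232927, 0, 17, 82126) (.node .leaf (232928, 0, 15, 237462) .leaf)) (232930, 0, 15, 253236) (.node (.node .leaf (232932, 0, 17, 150107) .leaf) (232934, 0, 15, 194192) (.node .leaf (232937, 0, 15, 88680) .leaf))) (232939, 0, 16, 93830) (.node (.node (.node .leaf (232941, 0, 15, 63977) .leaf) (232943, 0, 16, 201115) (.node .leaf (232945, 0, 15, 67493) .leaf)) (232947, 0, 15, 258796) (.node (.node .leaf (232949, 0, 16, 157059) .leaf) (232951, 0, 17, 101873) (.node .leaf (232952, 0, 15, 246363) .leaf))))) (232954, 0, 17, 82270) (.node (.node (.node (.node (.node .leaf (232956, 0, 15, 260984) .leaf) (232958, 0, 14, 174941) (.node .leaf (232960, 0, 14, 190443) .leaf)) (232961, 0, 18, 6990) (.node (.node .leaf (232962, 0, 11, 109074) .leaf) (232963, 0, 14, 258876) (.node .leaf (232964, 0, 17, 188104) .leaf))) (232965, 0, 16, 147118) (.node (.node (.node .leaf (232966, 0, 18, 251151) .leaf) (232967, 0, 16, 101409) (.node .leaf (232984, 0, 16, 56842) .leaf)) (232985, 0, 15, 165668) (.node (.node .leaf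 (232986, 0, 17, 210552) .leaf) (232987, 0, 17, 199269) (.node .leaf (232988, 0, 18, 164613) .leaf)))) (232989, 0, 17, 63545) (.node (.node (.node (.node .leaf (232990, 0, 18, 84325) .leaf) (232991, 0, 14, 200779) (.node .leaf (233000, 0, 12, 248198) .leaf)) (233001, 0, 17, 101592) (.node (.node .leaf (233002, 0, 16, 15748) .leaf) (233003, 0, 13, 156842) (.node .leaf (233004, 0, 17, 258213) .leaf))) (233005, 0, 14, 259013) (.node (.node (.node .leaf (233006, 0, 13, 172160) .leaf) (233007, 0, 15, 7095) (.node .leaf (233008, 0, 17, 84380) .leaf)) (233009, 0, 16, 226349) (.node (.node .leaf (233010, 0, 16, 172526) .leaf) (233011, 0, 16, 63680) .leaf)))))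

/-- part of the orbit tree -/
def itp7_55 : Tree := (.node itp7_51 (232634, 0, 16, 130615) itp7_52)

/-- part of the orbit tree -/
def itp7_56 : Tree := (.node itp7_53 (232890, 0, 17, 72148) itp7_54)

/-- part of the orbit tree -/
def itp7_57 : Tree := (.node itp7_49 (232249, 0, 17, 256361) itp7_50)

/-- part of the orbit tree -/
def itp7_58 : Tree := (.node itp7_55 (232762, 0, 15, 225266) itp7_56)

/-- part of the orbit tree -/
def itp7_59 : Tree := (.node itp7_43 (231485, 0, 15, 167403) itp7_44)

/-- part of the orbit tree -/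
def itp7_60 : Tree := (.node itp7_57 (232506, 0, 16, 52614) itp7_58)

/-- part of the orbit tree -/
def itp7_61 : Tree := (.node itp7_29 (229949, 0, 15, 183800) itp7_30)

/-- part of the orbit tree -/
def itp7_62 : Tree := (.node itp7_59 (231993, 0, 17, 19229) itp7_60)

/-- part of the orbit tree -/
def itp7_63 : Tree := (.node (.node (.node (.node (.node (.node .leaf (233013, 0, 17, 94127) .leaf) (233014, 0, 16, 195917) (.node .leaf (233015, 0, 17, 165853) .leaf)) (233024, 0, 16, 137962) (.node (.node .leaf (233025, 0, 17, 93451) .leaf) (233026, 0, 14, 56648) (.node .leaf (233027, 0, 17, 15662) .leaf))) (233028, 0, 15, 111694) (.node (.node (.node .leaf (233029, 0, 17, 146649) .leaf) (233030, 0, 17, 232837) (.node .leaf (233031, 0, 17, 119979) .leaf)) (233048, 0, 15, 34432) (.node (.node .leaf (233049, 0, 15, 78022) .leaf) (233050, 0, 15, 225010) (.node .leaf (233051, 0, 14, 79836) .leaf)))) (233052, 0, 17, 125315) (.node (.node (.node (.node .leaf (233053, 0, 17, 68069) .leaf) (233054, 0, 16, 47526) (.node .leaf (233055,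 0, 14, 215233) .leaf)) (233064, 0, 12, 41728) (.node (.node .leaf (233065, 0, 17, 17254) .leaf) (233066, 0, 17, 25870) (.node .leaf (233067, 0, 16, 70467) .leaf))) (233068, 0, 15, 127585) (.node (.node (.node .leaf (233069, 0, 16, 31301) .leaf) (233070, 0, 15, 137747) (.node .leaf (233071, 0, 16, 76384) .leaf)) (233072, 0, 12, 69910) (.node (.node .leaf (233073, 0, 15, 215096) .leaf) (233074, 0, 16, 194916) (.node .leaf (233075, 0, 16, 85646) .leaf))))) (233076, 0, 16, 51182) (.node (.node (.node (.node (.node .leaf (233077, 0, 15, 10120) .leaf) (233078, 0, 17, 104395) (.node .leaf (233079, 0, 18, 188247) .leaf)) (233088, 0, 13, 28897) (.node (.node .leaf (233089, 0, 14, 240423) .leaf) (233090, 0, 17, 137851) (.node .leaf (233091, 0, 17, 17237) .leaf))) (233092, 0, 17, 18882) (.node (.node (.node .leaf (233093, 0, 13, 119866) .leaf) (233094, 0, 17, 72167) (.node .leaf (233095, 0, 16, 129409) .leaf)) (233112, 0, 18, 11564) (.node (.node .leaf (233113, 0, 17, 52554) .leaf) (233114, 0, 15, 97545) (.node .leaf (233115, 0, 16, 188223)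 .leaf)))) (233116, 0, 16, 70014) (.node (.node (.node (.node .leaf (233117, 0, 15, 62569) .leaf) (233118, 0, 16, 82986) (.node .leaf (233119, 0, 12, 107596) .leaf)) (233128, 0, 17, 89740) (.node (.node .leaf (233129, 0, 18, 146609) .leaf) (233130, 0, 16, 232941) (.node .leaf (233131, 0, 16, 61135) .leaf))) (233132, 0, 15, 137858) (.node (.node (.node .leaf (233133, 0, 17, 17324) .leaf) (233134, 0, 18, 127728) (.node .leaf (233135, 0, 16, 240606) .leaf)) (233136, 0, 16, 195061) (.node (.node .leaf (233137, 0, 16, 123687) .leaf) (233138, 0, 18, 21348) (.node .leaf (233139, 0, 16, 215209) .leaf))))))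

/-- part of the orbit tree -/
def itp7_64 : Tree := (.node (.node (.node (.node (.node (.node .leaf (233141, 0, 14, 121348) .leaf) (233142, 0, 17, 27207) (.node .leaf (233143, 0, 18, 79796) .leaf)) (233152, 0, 14, 109187) (.node (.node .leaf (233153, 0, 17, 258989) .leaf) (233154, 0, 15, 148209) (.node .leaf (233155, 0, 16, 174628) .leaf))) (233156, 0, 16, 251294) (.node (.node (.node .leaf (233157, 0, 16, 101552) .leaf) (233158, 0, 17, 15852) (.node .leaf (233159, 0, 15, 156866) .leaf)) (233176, 0, 16, 210665) (.node (.node .leaf (233177, 0, 15, 239564) .leaf) (233178, 0, 17, 56987) (.node .leaf (233179, 0, 13, 194537) .leaf)))) (233180, 0, 7, 229001) (.node (.node (.node (.node .leaf (233181, 0, 16, 237295) .leaf) (233182, 0, 18, 172422) (.node .leaf (233183, 0, 18, 184010) .leaf)) (233192, 0, 17, 144394) (.node (.node .leaf (233193, 0, 16, 185452) .leaf) (233194, 0, 16, 251239) (.node .leaf (233195, 0, 16, 230473) .leaf))) (233196, 0, 16, 147976) (.node (.node (.node .leaf (233197, 0, 18, 6950) .leaf) (233198, 0, 17, 220428)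 (.node .leaf (233199, 0, 15, 258900) .leaf)) (233200, 0, 15, 172415) (.node (.node .leaf (233201, 0, 15, 63569) .leaf) (233202, 0, 15, 211426) (.node .leaf (233203, 0, 15, 252292) .leaf))))) (233204, 0, 18, 56930) (.node (.node (.node (.node (.node .leaf (233205, 0, 17, 176258) .leaf) (233206, 0, 14, 196801) (.node .leaf (233207, 0, 15, 254119) .leaf)) (233216, 0, 17, 83359) (.node (.node .leaf (233217, 0, 18, 64685) .leaf) (233218, 0, 14, 85489) (.node .leaf (233219, 0, 18, 62940) .leaf))) (233220, 0, 17, 55966) (.node (.node (.node .leaf (233221, 0, 14, 105690) .leaf) (233222, 0, 17, 209644) (.node .leaf (233223, 0, 12, 93122) .leaf)) (233240, 0, 17, 71762) (.node (.node .leaf (233241, 0, 16, 129076) .leaf) (233242, 0, 17, 250267) (.node .leaf (233243, 0, 15, 100533) .leaf)))) (233244, 0, 16, 74097) (.node (.node (.node (.node .leaf (233245, 0, 16, 8154) .leaf) (233246, 0, 15, 29012) (.node .leaf (233247, 0, 16, 37170) .leaf)) (233256, 0, 15, 27634) (.node (.node .leaf (233257, 0, 14, 35732) .leaf) (233258, 0, 16, 55911)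 (.node .leaf (233259, 0, 13, 121777) .leaf))) (233260, 0, 15, 21201) (.node (.node (.node .leaf (233261, 0, 15, 45751) .leaf) (233262, 0, 17, 173434) (.node .leaf (233263, 0, 16, 123538) .leaf)) (233264, 0, 16, 13887) (.node (.node .leaf (233265, 0, 14, 259921) .leaf) (233266, 0, 18, 91674) (.node .leaf (233267, 0, 18, 7971) .leaf))))))

/-- part of the orbit tree -/
def itp7_65 : Tree := (.node (.node (.node (.node (.node (.node .leaf (233269, 0, 18, 61306) .leaf) (233270, 0, 15, 14608) (.node .leaf (233271, 0, 14, 114527) .leaf)) (233280, 0, 17, 143129) (.node (.node .leaf (233281, 0, 16, 42023) .leaf) (233282, 0, 12, 71035) (.node .leaf (233283, 0, 17, 237402) .leaf))) (233284, 0, 14, 136762) (.node (.node (.node .leaf (233285, 0, 17, 187194) .leaf) (233286, 0, 17, 223846) (.node .leaf (233287, 0, 17, 78664) .leaf)) (233304, 0, 17, 24931) (.node (.node .leaf (233305, 0, 14, 145485) .leaf) (233306, 0, 11, 231697) (.node .leaf (233307, 0, 15, 246423) .leaf)))) (233308, 0, 17, 150519) (.node (.node (.node (.node .leaf (233309,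 0, 15, 18256) .leaf) (233310, 0, 13, 203730) (.node .leaf (233311, 0, 14, 261044) .leaf)) (233320, 0, 17, 223903) (.node (.node .leaf (233321, 0, 16, 254226) .leaf) (233322, 0, 16, 33517) (.node .leaf (233323, 0, 16, 176439) .leaf))) (233324, 0, 15, 71042) (.node (.node (.node .leaf (233325, 0, 13, 251953) .leaf) (233326, 0, 17, 157810) (.node .leaf (233327, 0, 17, 42206) .leaf)) (233328, 0, 14, 128757) (.node (.node .leaf (233329, 0, 17, 241627) .leaf) (233330, 0, 17, 134300) (.node .leaf (233331, 0, 17, 191738) .leaf))))) (233332, 0, 15, 222618) (.node (.node (.node (.node (.node .leaf (233333, 0, 17, 230908) .leaf) (233334, 0, 15, 24986) (.node .leaf (233335, 0, 13, 185817) .leaf)) (233344, 0, 18, 250517) (.node (.node .leaf (233345, 0, 18, 209651) .leaf) (233346, 0, 15, 195992) (.node .leaf (233347, 0, 15, 156374) .leaf))) (233348, 0, 17, 223991) (.node (.node (.node .leaf (233349, 0, 18, 199632) .leaf) (233350, 0, 17, 33413) (.node .leaf (233351, 0, 16, 187307) .leaf)) (233368, 0, 14, 231808) (.node (.node .leaf (233369,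 0, 16, 118958) .leaf) (233370, 0, 17, 188285) (.node .leaf (233371, 0, 17, 147227) .leaf)))) (233372, 0, 10, 128669) (.node (.node (.node (.node .leaf (233373, 0, 17, 241587) .leaf) (233374, 0, 17, 190046) (.node .leaf (233375, 0, 16, 132664) .leaf)) (233384, 0, 13, 33404) (.node (.node .leaf (233385, 0, 16, 138398) .leaf) (233386, 0, 14, 223758) (.node .leaf (233387, 0, 17, 216251) .leaf))) (233388, 0, 18, 181723) (.node (.node (.node .leaf (233389, 0, 18, 140733) .leaf) (233390, 0, 16, 235006) (.node .leaf (233391, 0, 15, 226712) .leaf)) (233392, 0, 13, 138774) (.node (.node .leaf (233393, 0, 17, 18232) .leaf) (233394, 0, 15, 258320) (.node .leaf (233395, 0, 13, 201078) .leaf))))))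

/-- part of the orbit tree -/
def itp7_66 : Tree := (.node (.node (.node (.node (.node (.node .leaf (233397, 0, 16, 161904) .leaf) (233398, 0, 16, 231801) (.node .leaf (233399, 0, 17, 206933) .leaf)) (233408, 0, 18, 85344) (.node (.node .leaf (233409, 0, 17, 201806) .leaf) (233410, 0, 17, 124982) (.node .leaf (233411, 0, 17, 67664) .leaf))) (233412, 0, 16, 209533) (.node (.node (.node .leaf (233413, 0, 16, 24918) .leaf) (233414, 0, 16, 55823) (.node .leaf (233415, 0, 15, 164641) .leaf)) (233432, 0, 15, 58846) (.node (.node .leaf (233433, 0, 14, 1464) .leaf) (233434, 0, 18, 112123) (.node .leaf (233435, 0, 12, 155734) .leaf)))) (233436, 0, 18, 110103) (.node (.node (.node (.node .leaf (233437, 0, 15, 15515) .leaf) (233438, 0, 17, 101592) (.node .leaf (233439, 0, 18, 8011) .leaf)) (233448, 0, 18, 56054) (.node (.node .leaf (233449, 0, 17, 164824) .leaf) (233450, 0, 16, 209540) (.node .leaf (233451, 0, 15, 93098) .leaf))) (233452, 0, 15, 173547) (.node (.node (.node .leaf (233453, 0, 14, 64709) .leaf) (233454, 0, 9, 85401) (.node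 .leaf (233455, 0, 16, 201911) .leaf)) (233456, 0, 17, 149148) (.node (.node .leaf (233457, 0, 13, 8114) .leaf) (233458, 0, 14, 110318) (.node .leaf (233459, 0, 16, 31728) .leaf))))) (233460, 0, 16, 127632) (.node (.node (.node (.node (.node .leaf (233461, 0, 17, 155823) .leaf) (233462, 0, 17, 41653) (.node .leaf (233463, 0, 17, 17107) .leaf)) (233472, 0, 14, 56818) (.node (.node .leaf (233475, 0, 15, 68222) .leaf) (233477, 0, 14, 25464) (.node .leaf (233478, 0, 16, 84637) .leaf))) (233480, 0, 16, 14190) (.node (.node (.node .leaf (233483, 0, 16, 208870) .leaf) (233485, 0, 16, 4445) (.node .leaf (233486, 0, 14, 259747) .leaf)) (233489, 0, 18, 61994) (.node (.node .leaf (233490, 0, 16, 234061) .leaf) (233492, 0, 16, 54297) (.node .leaf (233495, 0, 16, 215816) .leaf)))) (233497, 0, 14, 1942) (.node (.node (.node (.node .leaf (233498, 0, 14, 109034) .leaf) (233500, 0, 16, 57043) (.node .leaf (233503, 0, 17, 93840) .leaf)) (233505, 0, 14, 260566) (.node (.node .leaf (233506, 0, 17, 188909) .leaf) (233508, 0, 14, 231659) (.node .leaf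 (233511, 0, 18, 159417) .leaf))) (233513, 0, 17, 201546) (.node (.node (.node .leaf (233514, 0, 17, 172566) .leaf) (233516, 0, 13, 109939) (.node .leaf (233519, 0, 13, 164901) .leaf)) (233520, 0, 17, 117149) (.node (.node .leaf (233523, 0, 16, 157522) .leaf) (233525, 0, 16, 69848) (.node .leaf (233526, 0, 16, 147809) .leaf))))))

/-- part of the orbit tree -/
def itp7_67 : Tree := (.node itp7_63 (233140, 0, 17, 34536) itp7_64)

/-- part of the orbit tree -/
def itp7_68 : Tree := (.node itp7_65 (233396, 0, 15, 24843) itp7_66)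

/-- part of the orbit tree -/
def itp7_69 : Tree := (.node (.node (.node (.node (.node (.node .leaf (233531, 0, 14, 167374) .leaf) (233533, 0, 15, 203425) (.node .leaf (233534, 0, 18, 175101) .leaf)) (233536, 0, 16, 34168) (.node (.node .leaf (233539, 0, 17, 78884) .leaf) (233541, 0, 16, 41803) (.node .leaf (233542, 0, 15, 70167) .leaf))) (233544, 0, 18, 128291) (.node (.node (.node .leaf (233547, 0, 15, 17760) .leaf) (233549, 0, 18, 76902) (.node .leaf (233550, 0, 9, 129163) .leaf)) (233553, 0, 15, 43680) (.node (.node .leaf (233554, 0, 14, 72700) .leaf) (233556, 0, 17, 102861) (.node .leaf (233559, 0, 17, 8590) .leaf)))) (233561, 0, 10, 224528) (.node (.node (.node (.node .leaf (233562, 0, 16, 187731) .leaf) (233564, 0, 16, 26127) (.node .leaf (233567, 0, 18, 120659) .leaf)) (233569, 0, 15, 237916) (.node (.node .leaf (233570, 0, 16, 135168) .leaf) (233572, 0, 17, 231279) (.node .leaf (233575, 0, 13, 144947) .leaf))) (233577, 0, 17, 138928) (.node (.node (.node .leaf (233578, 0, 11, 241395) .leaf) (233580, 0, 13, 182261)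 (.node .leaf (233583, 0, 9, 227254) .leaf)) (233584, 0, 18, 233092) (.node (.node .leaf (233587, 0, 18, 147416) .leaf) (233589, 0, 17, 239799) (.node .leaf (233590, 0, 18, 248349) .leaf))))) (233592, 0, 11, 34435) (.node (.node (.node (.node (.node .leaf (233595, 0, 18, 185668) .leaf) (233597, 0, 18, 213547) (.node .leaf (233598, 0, 13, 126853) .leaf)) (233600, 0, 11, 142647) (.node (.node .leaf (233603, 0, 15, 236916) .leaf) (233605, 0, 18, 215976) (.node .leaf (233606, 0, 13, 195316) .leaf))) (233608, 0, 11, 231175) (.node (.node (.node .leaf (233611, 0, 16, 112876) .leaf) (233613, 0, 14, 53738) (.node .leaf (233614, 0, 14, 135272) .leaf)) (233617, 0, 18, 213571) (.node (.node .leaf (233618, 0, 12, 193311) .leaf) (233620, 0, 13, 222320) (.node .leaf (233623, 0, 17, 121858) .leaf)))) (233625, 0, 17, 168092) (.node (.node (.node (.node .leaf (233626, 0, 16, 137603) .leaf) (233628, 0, 17, 233196) (.node .leaf (233631, 0, 17, 260506) .leaf)) (233633, 0, 16, 116388) (.node (.node .leaf (233634, 0, 17, 30439) .leaf) (233636, 0,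 17, 73697) (.node .leaf (233639, 0, 17, 44962) .leaf))) (233641, 0, 15, 41763) (.node (.node (.node .leaf (233642, 0, 14, 70271) .leaf) (233644, 0, 16, 34064) (.node .leaf (233647, 0, 11, 78924) .leaf)) (233648, 0, 17, 26215) (.node (.node .leaf (233651, 0, 16, 120635) .leaf) (233653, 0, 16, 16468) (.node .leaf (233654, 0, 15, 127240) .leaf))))))

/-- part of the orbit tree -/
def itp7_70 : Tree := (.node (.node (.node (.node (.node (.node .leaf (233659, 0, 16, 52044) .leaf) (233661, 0, 12, 43720) (.node .leaf (233662, 0, 14, 4617) .leaf)) (233664, 0, 14, 83889) (.node (.node .leaf (233667, 0, 18, 164941) .leaf) (233669, 0, 16, 201506) (.node .leaf (233670, 0, 15, 172670) .leaf))) (233672, 0, 14, 221737) (.node (.node (.node .leaf (233675, 0, 19, 184938) .leaf) (233677, 0, 13, 244588) (.node .leaf (233678, 0, 16, 133935) .leaf)) (233681, 0, 13, 253826) (.node (.node .leaf (233682, 0, 17, 174997) .leaf) (233684, 0, 18, 198343) (.node .leaf (233687, 0, 17, 167334) .leaf)))) (233689, 0, 17, 258133) (.node (.node (.node (.node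 .leaf (233690, 0, 14, 19033) .leaf) (233692, 0, 17, 251494) (.node .leaf (233695, 0, 14, 37660) .leaf)) (233697, 0, 16, 4405) (.node (.node .leaf (233698, 0, 17, 106601) .leaf) (233700, 0, 18, 161127) (.node .leaf (233703, 0, 15, 247076) .leaf))) (233705, 0, 14, 35258) (.node (.node (.node .leaf (233706, 0, 16, 84725) .leaf) (233708, 0, 15, 56730) (.node .leaf (233711, 0, 15, 93382) .leaf)) (233712, 0, 14, 16109) (.node (.node .leaf (233715, 0, 13, 99410) .leaf) (233717, 0, 16, 60756) (.node .leaf (233718, 0, 19, 89367) .leaf))))) (233720, 0, 18, 135561) (.node (.node (.node (.node (.node .leaf (233723, 0, 14, 91437) .leaf) (233725, 0, 16, 62018) (.node .leaf (233726, 0, 14, 227471) .leaf)) (233728, 0, 10, 202825) (.node (.node .leaf (233731, 0, 15, 101197) .leaf) (233733, 0, 17, 246028) (.node .leaf (233734, 0, 16, 160079) .leaf))) (233736, 0, 14, 53389) (.node (.node (.node .leaf (233739, 0, 12, 90577) .leaf) (233741, 0, 15, 63166) (.node .leaf (233742, 0, 15, 83938) .leaf)) (233745, 0, 18, 98426) (.node (.node .leaf (233746,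 0, 13, 12345) .leaf) (233748, 0, 16, 13306) (.node .leaf (233751, 0, 13, 59772) .leaf)))) (233753, 0, 13, 65365) (.node (.node (.node (.node .leaf (233754, 0, 16, 136609) .leaf) (233756, 0, 11, 55654) (.node .leaf (233759, 0, 17, 92218) .leaf)) (233761, 0, 14, 62426) (.node (.node .leaf (233762, 0, 15, 175977) .leaf) (233764, 0, 17, 10911) (.node .leaf (233767, 0, 18, 105180) .leaf))) (233769, 0, 17, 259241) (.node (.node (.node .leaf (233770, 0, 15, 148981) .leaf) (233772, 0, 16, 134919) (.node .leaf (233775, 0, 14, 245572) .leaf)) (233776, 0, 16, 209389) (.node (.node .leaf (233779, 0, 16, 164017) .leaf) (233781, 0, 16, 202718) (.node .leaf (233782, 0, 17, 197359) .leaf))))))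

/-- part of the orbit tree -/
def itp7_71 : Tree := (.node (.node (.node (.node (.node (.node .leaf (233787, 0, 16, 158253) .leaf) (233789, 0, 15, 261442) (.node .leaf (233790, 0, 17, 150558) .leaf)) (233792, 0, 16, 29391) (.node (.node .leaf (233795, 0, 15, 115340) .leaf) (233797, 0, 17, 43914) (.node .leaf (233798, 0, 16, 72649) .leaf))) (233800, 0, 13, 153431) (.node (.node (.node .leaf (233803, 0, 17, 255764) .leaf) (233805, 0, 12, 167442) (.node .leaf (233806, 0, 15, 212561) .leaf)) (233809, 0, 15, 191228) (.node (.node .leaf (233810, 0, 14, 130079) .leaf) (233812, 0, 15, 144313) (.node .leaf (233815, 0, 16, 230394) .leaf)))) (233817, 0, 14, 42975) (.node (.node (.node (.node .leaf (233818, 0, 13, 71299) .leaf) (233820, 0, 18, 33260) (.node .leaf (233823, 0, 18, 78000) .leaf)) (233825, 0, 15, 235868) (.node (.node .leaf (233826, 0, 15, 141599) .leaf) (233828, 0, 16, 213017) (.node .leaf (233831, 0, 14, 192602) .leaf))) (233833, 0, 16, 240675) (.node (.node (.node .leaf (233834, 0, 16, 3207) .leaf) (233836, 0, 17, 91521)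 (.node .leaf (233839, 0, 16, 54722) .leaf)) (233840, 0, 15, 65903) (.node (.node .leaf (233843, 0, 18, 186427) .leaf) (233845, 0, 14, 120874) (.node .leaf (233846, 0, 14, 26729) .leaf))))) (233848, 0, 18, 206071) (.node (.node (.node (.node (.node .leaf (233851, 0, 15, 169140) .leaf) (233853, 0, 16, 239048) (.node .leaf (233854, 0, 16, 136340) .leaf)) (233856, 0, 15, 232056) (.node (.node .leaf (233859, 0, 16, 16128) .leaf) (233861, 0, 15, 240715) (.node .leaf (233862, 0, 15, 58949) .leaf))) (233864, 0, 16, 240347) (.node (.node (.node .leaf (233867, 0, 13, 137880) .leaf) (233869, 0, 13, 214743) (.node .leaf (233870, 0, 15, 194443) .leaf)) (233873, 0, 14, 202608) (.node (.node .leaf (233874, 0, 14, 136444) .leaf) (233876, 0, 15, 230291) (.node .leaf (233879, 0, 16, 163446) .leaf)))) (233881, 0, 15, 78568) (.node (.node (.node (.node .leaf (233882, 0, 17, 33451) .leaf) (233884, 0, 18, 223503) (.node .leaf (233887, 0, 17, 23534) .leaf)) (233889, 0, 16, 44636) (.node (.node .leaf (233890, 0, 18, 251027) .leaf) (233892, 0, 17,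 179605) (.node .leaf (233895, 0, 16, 200150) .leaf))) (233897, 0, 18, 17600) (.node (.node (.node .leaf (233898, 0, 18, 127243) .leaf) (233900, 0, 15, 38925) (.node .leaf (233903, 0, 17, 119727) .leaf)) (233904, 0, 14, 64739) (.node (.node .leaf (233907, 0, 14, 78040) .leaf) (233909, 0, 10, 42935) (.node .leaf (233910, 0, 16, 71403) .leaf))))))

/-- part of the orbit tree -/
def itp7_72 : Tree := (.node (.node (.node (.node (.node (.node .leaf (233915, 0, 14, 223544) .leaf) (233917, 0, 18, 19755) (.node .leaf (233918, 0, 16, 130167) .leaf)) (233920, 0, 18, 189893) (.node (.node .leaf (233923, 0, 19, 218502) .leaf) (233925, 0, 17, 259265) (.node .leaf (233926, 0, 17, 148893) .leaf))) (233928, 0, 15, 49245) (.node (.node (.node .leaf (233931, 0, 19, 94238) .leaf) (233933, 0, 17, 6424) (.node .leaf (233934, 0, 16, 108891) .leaf)) (233937, 0, 18, 261418) (.node (.node .leaf (233938, 0, 17, 150646) .leaf) (233940, 0, 13, 252697) (.node .leaf (233943, 0, 17, 70896) .leaf)))) (233945, 0, 11, 153710) (.node (.node (.node (.node .leaf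 (233946, 0, 13, 173802) .leaf) (233948, 0, 17, 209285) (.node .leaf (233951, 0, 18, 164057) .leaf)) (233953, 0, 19, 63190) (.node (.node .leaf (233954, 0, 16, 48661) .leaf) (233956, 0, 16, 120595) (.node .leaf (233959, 0, 11, 26448) .leaf))) (233961, 0, 16, 207822) (.node (.node (.node .leaf (233962, 0, 16, 170893) .leaf) (233964, 0, 11, 258699) (.node .leaf (233967, 0, 14, 148168) .leaf)) (233968, 0, 16, 55566) (.node (.node .leaf (233971, 0, 16, 92242) .leaf) (233973, 0, 15, 65341) (.node .leaf (233974, 0, 17, 196451) .leaf))))) (233976, 0, 14, 13202) (.node (.node (.node (.node (.node .leaf (233979, 0, 16, 99022) .leaf) (233981, 0, 14, 5537) (.node .leaf (233982, 0, 12, 56059) .leaf)) (233986, 0, 17, 116328) (.node (.node .leaf (233987, 0, 17, 92546) .leaf) (233988, 0, 16, 44910) (.node .leaf (233989, 0, 12, 20232) .leaf))) (233994, 0, 18, 254960) (.node (.node (.node .leaf (233995, 0, 17, 197526) .leaf) (233996, 0, 17, 166646) (.node .leaf (233997, 0, 17, 5233) .leaf)) (234000, 0, 14, 175656) (.node (.node .leaf (234001,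 0, 15, 63238) .leaf) (234006, 0, 15, 231198) (.node .leaf (234007, 0, 16, 90217) .leaf)))) (234008, 0, 14, 148660) (.node (.node (.node (.node .leaf (234009, 0, 15, 7578) .leaf) (234014, 0, 14, 107142) (.node .leaf (234015, 0, 15, 82656) .leaf)) (234016, 0, 14, 107988) (.node (.node .leaf (234017, 0, 15, 228830) .leaf) (234022, 0, 17, 193726) (.node .leaf (234023, 0, 17, 136408) .leaf))) (234024, 0, 11, 112672) (.node (.node (.node .leaf (234025, 0, 16, 88134) .leaf) (234030, 0, 11, 55335) (.node .leaf (234031, 0, 18, 12608) .leaf)) (234034, 0, 13, 15184) (.node (.node .leaf (234035, 0, 17, 21934) .leaf) (234036, 0, 17, 109631) .leaf)))))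

/-- part of the orbit tree -/
def itp7_73 : Tree := (.node itp7_69 (233656, 0, 17, 36091) itp7_70)

/-- part of the orbit tree -/
def itp7_74 : Tree := (.node itp7_71 (233912, 0, 16, 186747) itp7_72)

/-- part of the orbit tree -/
def itp7_75 : Tree := (.node itp7_67 (233268, 0, 18, 250210) itp7_68)

/-- part of the orbit tree -/
def itp7_76 : Tree := (.node itp7_73 (233784, 0, 18, 252785) itp7_74)

/-- part of the orbit tree -/
def itp7_77 : Tree := (.node (.node (.node (.node (.node (.node .leaf (234042, 0, 16, 168016) .leaf) (234043, 0, 17, 166114) (.node .leaf (234044, 0, 17, 260438) .leaf)) (234045, 0, 14, 204685) (.node (.node .leaf (234050, 0, 17, 223270) .leaf) (234051, 0, 17, 150664) (.node .leaf (234052, 0, 14, 247272) .leaf))) (234053, 0, 16, 42599) (.node (.node (.node .leaf (234058, 0, 17, 35190) .leaf) (234059, 0, 15, 121748) (.node .leaf (234060, 0, 17, 136661) .leaf)) (234061, 0, 15, 19707) (.node (.node .leaf (234064, 0, 16, 194210) .leaf) (234065, 0, 17, 44940) (.node .leaf (234070, 0, 18, 221645) .leaf))))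 (234071, 0, 17, 3582) (.node (.node (.node (.node .leaf (234072, 0, 15, 237830) .leaf) (234073, 0, 18, 213344) (.node .leaf (234078, 0, 15, 232273) .leaf)) (234079, 0, 17, 141414) (.node (.node .leaf (234080, 0, 16, 63294) .leaf) (234081, 0, 14, 5976) (.node .leaf (234086, 0, 16, 106040) .leaf))) (234087, 0, 17, 144159) (.node (.node (.node .leaf (234088, 0, 18, 71618) .leaf) (234089, 0, 17, 144064) (.node .leaf (234094, 0, 19, 32941) .leaf)) (234095, 0, 17, 186755) (.node (.node .leaf (234098, 0, 14, 253774) .leaf) (234099, 0, 15, 212776) (.node .leaf (234100, 0, 15, 177736) .leaf))))) (234101, 0, 14, 153134) (.node (.node (.node (.node (.node .leaf (234106, 0, 17, 129750) .leaf) (234107, 0, 13, 72368) (.node .leaf (234108, 0, 16, 73257) .leaf)) (234109, 0, 17, 214791) (.node (.node .leaf (234114, 0, 18, 32965) .leaf) (234115, 0, 16, 186859) (.node .leaf (234116, 0, 18, 71594) .leaf))) (234117, 0, 16, 186370) (.node (.node (.node .leaf (234122, 0, 17, 27225) .leaf) (234123, 0, 14, 144247) (.node .leaf (234124, 0, 18, 130358)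 .leaf)) (234125, 0, 14, 64922) (.node (.node .leaf (234128, 0, 16, 73281) .leaf) (234129, 0, 18, 39284) (.node .leaf (234134, 0, 13, 69652) .leaf)))) (234135, 0, 17, 127090) (.node (.node (.node (.node .leaf (234136, 0, 16, 128221) .leaf) (234137, 0, 15, 179436) (.node .leaf (234142, 0, 16, 210316) .leaf)) (234143, 0, 16, 251370) (.node (.node .leaf (234144, 0, 18, 136637) .leaf) (234145, 0, 19, 125652) (.node .leaf (234150, 0, 17, 230098) .leaf))) (234151, 0, 19, 121852) (.node (.node (.node .leaf (234152, 0, 17, 196385) .leaf) (234153, 0, 17, 42511) (.node .leaf (234158, 0, 14, 223310) .leaf)) (234159, 0, 12, 78176) (.node (.node .leaf (234162, 0, 12, 139970) .leaf) (234163, 0, 16, 180900) (.node .leaf (234164, 0, 16, 216004) .leaf))))))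

/-- part of the orbit tree -/
def itp7_78 : Tree := (.node (.node (.node (.node (.node (.node .leaf (234170, 0, 14, 221605) .leaf) (234171, 0, 17, 59196) (.node .leaf (234172, 0, 18, 194250) .leaf)) (234173, 0, 16, 45028) (.node (.node .leaf (234178, 0, 15, 15332) .leaf) (234179, 0, 15, 164193) (.node .leaf (234180, 0, 16, 86754) .leaf))) (234181, 0, 15, 111236) (.node (.node (.node .leaf (234186, 0, 18, 138876) .leaf) (234187, 0, 12, 196122) (.node .leaf (234188, 0, 17, 227194) .leaf)) (234189, 0, 8, 261266) (.node (.node .leaf (234192, 0, 16, 201620) .leaf) (234193, 0, 16, 204773) (.node .leaf (234198, 0, 17, 162450) .leaf)))) (234199, 0, 14, 170740) (.node (.node (.node (.node .leaf (234200, 0, 18, 109655) .leaf) (234201, 0, 16, 259449) (.node .leaf (234206, 0, 18, 15160) .leaf)) (234207, 0, 16, 156182) (.node (.node .leaf (234208, 0, 16, 150839) .leaf) (234209, 0, 13, 5145) (.node .leaf (234214, 0, 18, 198962) .leaf))) (234215, 0, 13, 99190) (.node (.node (.node .leaf (234216, 0, 14, 173995) .leaf) (234217, 0, 17, 65157)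 (.node .leaf (234222, 0, 17, 76970) .leaf)) (234223, 0, 18, 92650) (.node (.node .leaf (234226, 0, 17, 84036) .leaf) (234227, 0, 16, 108578) (.node .leaf (234228, 0, 16, 8514) .leaf))))) (234229, 0, 16, 49444) (.node (.node (.node (.node (.node .leaf (234234, 0, 17, 211247) .leaf) (234235, 0, 18, 90113) (.node .leaf (234236, 0, 17, 175680) .leaf)) (234237, 0, 17, 63342) (.node (.node .leaf (234242, 0, 17, 251727) .leaf) (234243, 0, 17, 164986) (.node .leaf (234244, 0, 18, 147488) .leaf))) (234245, 0, 17, 6414) (.node (.node (.node .leaf (234250, 0, 17, 212435) .leaf) (234251, 0, 14, 91389) (.node .leaf (234252, 0, 16, 174780) .leaf)) (234253, 0, 11, 116964) (.node (.node .leaf (234256, 0, 17, 149963) .leaf) (234257, 0, 17, 4325) (.node .leaf (234262, 0, 16, 253604) .leaf)))) (234263, 0, 17, 100234) (.node (.node (.node (.node .leaf (234264, 0, 18, 172887) .leaf) (234265, 0, 12, 231826) (.node .leaf (234270, 0, 14, 209976) .leaf)) (234271, 0, 18, 93462) (.node (.node .leaf (234272, 0, 13, 82487) .leaf) (234273, 0, 16, 203545)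 (.node .leaf (234278, 0, 15, 54616) .leaf))) (234279, 0, 17, 112300) (.node (.node (.node .leaf (234280, 0, 7, 137812) .leaf) (234281, 0, 16, 258437) (.node .leaf (234286, 0, 11, 16324) .leaf)) (234287, 0, 18, 157418) (.node (.node .leaf (234290, 0, 14, 202684) .leaf) (234291, 0, 17, 260058) (.node .leaf (234292, 0, 17, 163514) .leaf))))))

/-- part of the orbit tree -/
def itp7_79 : Tree := (.node (.node (.node (.node (.node (.node .leaf (234298, 0, 12, 13871) .leaf) (234299, 0, 15, 119362) (.node .leaf (234300, 0, 18, 106816) .leaf)) (234301, 0, 15, 47940) (.node (.node .leaf (234306, 0, 11, 69274) .leaf) (234307, 0, 16, 126716) (.node .leaf (234308, 0, 17, 137386) .leaf))) (234309, 0, 16, 34810) (.node (.node (.node .leaf (234314, 0, 15, 207618) .leaf) (234315, 0, 16, 248676) (.node .leaf (234316, 0, 17, 193078) .leaf)) (234317, 0, 15, 43800) (.node (.node .leaf (234320, 0, 16, 141034) .leaf) (234321, 0, 17, 18543) (.node .leaf (234326, 0, 16, 217068) .leaf)))) (234327, 0, 11, 122624) (.node (.node (.node (.node .leaf (234328,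 0, 16, 195549) .leaf) (234329, 0, 17, 41715) (.node .leaf (234334, 0, 15, 92788) .leaf)) (234335, 0, 15, 79260) (.node (.node .leaf (234336, 0, 18, 72381) .leaf) (234337, 0, 15, 242988) (.node .leaf (234342, 0, 17, 36306) .leaf))) (234343, 0, 18, 185596) (.node (.node (.node .leaf (234344, 0, 16, 127009) .leaf) (234345, 0, 14, 102580) (.node .leaf (234350, 0, 16, 26446) .leaf)) (234351, 0, 17, 147040) (.node (.node .leaf (234354, 0, 18, 32058) .leaf) (234355, 0, 14, 187671) (.node .leaf (234356, 0, 17, 70486) .leaf))))) (234357, 0, 17, 128090) (.node (.node (.node (.node (.node .leaf (234362, 0, 17, 153762) .leaf) (234363, 0, 17, 178372) (.node .leaf (234364, 0, 15, 129482) .leaf)) (234365, 0, 18, 237796) (.node (.node .leaf (234370, 0, 16, 62230) .leaf) (234371, 0, 16, 146952) (.node .leaf (234372, 0, 17, 104976) .leaf))) (234373, 0, 17, 239975) (.node (.node (.node .leaf (234378, 0, 13, 36282) .leaf) (234379, 0, 12, 145128) (.node .leaf (234380, 0, 18, 245640) .leaf)) (234381, 0, 17, 221166) (.node (.node .leaf (234384, 0,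 14, 129442) .leaf) (234385, 0, 17, 211712) (.node .leaf (234390, 0, 17, 28365) .leaf)))) (234391, 0, 18, 145379) (.node (.node (.node (.node .leaf (234392, 0, 13, 70462) .leaf) (234393, 0, 15, 215568) (.node .leaf (234398, 0, 16, 38904) .leaf)) (234399, 0, 18, 187775) (.node (.node .leaf (234400, 0, 18, 193118) .leaf) (234401, 0, 17, 149664) (.node .leaf (234406, 0, 15, 222513) .leaf))) (234407, 0, 16, 205222) (.node (.node (.node .leaf (234408, 0, 16, 137410) .leaf) (234409, 0, 17, 27960) (.node .leaf (234414, 0, 18, 123992) .leaf)) (234415, 0, 18, 120451) (.node (.node .leaf (234418, 0, 16, 98486) .leaf) (234419, 0, 16, 90320) (.node .leaf (234420, 0, 17, 59824) .leaf))))))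

/-- part of the orbit tree -/
def itp7_80 : Tree := (.node (.node (.node (.node (.node (.node .leaf (234426, 0, 15, 230982) .leaf) (234427, 0, 18, 122728) (.node .leaf (234428, 0, 15, 135465) .leaf)) (234429, 0, 17, 142414) (.node (.node .leaf (234434, 0, 15, 235920) .leaf) (234435, 0, 18, 227830) (.node .leaf (234436, 0, 11, 192662) .leaf))) (234437, 0, 17, 258541) (.node (.node (.node .leaf (234442, 0, 15, 113672) .leaf) (234443, 0, 16, 89198) (.node .leaf (234444, 0, 17, 54542) .leaf)) (234445, 0, 14, 203633) (.node (.node .leaf (234448, 0, 17, 106792) .leaf) (234449, 0, 17, 260102) (.node .leaf (234454, 0, 17, 121062) .leaf)))) (234455, 0, 16, 80000) (.node (.node (.node (.node .leaf (234456, 0, 17, 84916) .leaf) (234457, 0, 17, 160798) (.node .leaf (234462, 0, 15, 261502) .leaf)) (234463, 0, 14, 204056) (.node (.node .leaf (234464, 0, 16, 115264) .leaf) (234465, 0, 16, 62458) (.node .leaf (234470, 0, 17, 43846) .leaf))) (234471, 0, 17, 19232) (.node (.node (.node .leaf (234472, 0, 17, 255960) .leaf) (234473, 0, 13, 6502)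 (.node .leaf (234478, 0, 17, 251687) .leaf)) (234479, 0, 17, 101897) (.node (.node .leaf (234482, 0, 17, 191024) .leaf) (234483, 0, 17, 133718) (.node .leaf (234484, 0, 16, 230198) .leaf))))) (234485, 0, 15, 222032) (.node (.node (.node (.node (.node .leaf (234490, 0, 16, 253644) .leaf) (234491, 0, 19, 100322) (.node .leaf (234492, 0, 15, 108206) .leaf)) (234493, 0, 12, 4237) (.node (.node .leaf (234497, 0, 15, 100648) .leaf) (234499, 0, 17, 155994) (.node .leaf (234500, 0, 17, 104886) .leaf))) (234502, 0, 15, 51603) (.node (.node (.node .leaf (234505, 0, 15, 91060) .leaf) (234507, 0, 17, 166854) (.node .leaf (234508, 0, 13, 244782) .leaf)) (234510, 0, 13, 191499) (.node (.node .leaf (234512, 0, 17, 108272) .leaf) (234514, 0, 18, 166117) (.node .leaf (234517, 0, 15, 196997) .leaf)))) (234519, 0, 17, 157873) (.node (.node (.node (.node .leaf (234520, 0, 17, 130392) .leaf) (234522, 0, 14, 44413) (.node .leaf (234525, 0, 16, 74781) .leaf)) (234527, 0, 16, 29752) (.node (.node .leaf (234528, 0, 16, 175372) .leaf) (234530, 0, 16,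 83326) (.node .leaf (234533, 0, 14, 166719) .leaf))) (234535, 0, 16, 205312) (.node (.node (.node .leaf (234536, 0, 17, 36600) .leaf) (234538, 0, 16, 110562) (.node .leaf (234541, 0, 16, 156067) .leaf)) (234543, 0, 16, 100817) (.node (.node .leaf (234545, 0, 17, 164564) .leaf) (234547, 0, 16, 90998) (.node .leaf (234548, 0, 17, 59926) .leaf))))))

/-- part of the orbit tree -/
def itp7_81 : Tree := (.node itp7_77 (234165, 0, 15, 17784) itp7_78)

/-- part of the orbit tree -/
def itp7_82 : Tree := (.node itp7_79 (234421, 0, 16, 41627) itp7_80)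

/-- part of the orbit tree -/
def itp7_83 : Tree := (.node (.node (.node (.node (.node (.node .leaf (234553, 0, 14, 157768) .leaf) (234555, 0, 16, 214766) (.node .leaf (234556, 0, 15, 184206) .leaf)) (234558, 0, 17, 237483) (.node (.node .leaf (234561, 0, 18, 141941) .leaf) (234563, 0, 14, 227920) (.node .leaf (234564, 0, 18, 128913) .leaf))) (234566, 0, 15, 139235) (.node (.node (.node .leaf (234569, 0, 15, 4077) .leaf) (234571, 0, 17, 185164) (.node .leaf (234572, 0, 15, 54952) .leaf)) (234574, 0, 16, 99981) (.node (.node .leaf (234576, 0, 16, 130682) .leaf) (234578, 0, 14, 123491) (.node .leaf (234581, 0, 15, 120905) .leaf)))) (234583, 0, 17, 80678) (.node (.node (.node (.node .leaf (234584, 0, 18, 169950) .leaf) (234586, 0, 17, 247803) (.node .leaf (234589, 0, 16, 78549) .leaf)) (234591, 0, 16, 187047) (.node (.node .leaf (234592, 0, 17, 115174) .leaf) (234594, 0, 16, 37315) (.node .leaf (234597, 0, 16, 185269) .leaf))) (234599, 0, 18, 80839) (.node (.node (.node .leaf (234600, 0, 18, 139034) .leaf) (234602, 0, 19, 128872)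 (.node .leaf (234605, 0, 14, 145705) .leaf)) (234607, 0, 17, 119131) (.node (.node .leaf (234609, 0, 16, 186974) .leaf) (234611, 0, 18, 78380) (.node .leaf (234612, 0, 15, 229520) .leaf))))) (234614, 0, 15, 70687) (.node (.node (.node (.node (.node .leaf (234617, 0, 16, 97357) .leaf) (234619, 0, 17, 121008) (.node .leaf (234620, 0, 18, 107784) .leaf)) (234622, 0, 15, 130691) (.node (.node .leaf (234625, 0, 11, 145729) .leaf) (234627, 0, 17, 165852) (.node .leaf (234628, 0, 17, 200380) .leaf))) (234630, 0, 17, 128768) (.node (.node (.node .leaf (234633, 0, 15, 127585) .leaf) (234635, 0, 17, 80815) (.node .leaf (234636, 0, 16, 76580) .leaf)) (234638, 0, 17, 73116) (.node (.node .leaf (234640, 0, 10, 136857) .leaf) (234642, 0, 15, 8175) (.node .leaf (234645, 0, 12, 143530) .leaf)))) (234647, 0, 17, 50858) (.node (.node (.node (.node .leaf (234648, 0, 18, 223826) .leaf) (234650, 0, 16, 70775) (.node .leaf (234653, 0, 18, 186934) .leaf)) (234655, 0, 14, 78404) (.node (.node .leaf (234656, 0, 13, 15466) .leaf) (234658, 0, 17, 93263)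 (.node .leaf (234661, 0, 19, 80726) .leaf))) (234663, 0, 17, 185124) (.node (.node (.node .leaf (234664, 0, 15, 137714) .leaf) (234666, 0, 18, 215511) (.node .leaf (234669, 0, 16, 119242) .leaf)) (234671, 0, 13, 233618) (.node (.node .leaf (234673, 0, 16, 173145) .leaf) (234675, 0, 18, 187087) (.node .leaf (234676, 0, 16, 163100) .leaf))))))

/-- part of the orbit tree -/
def itp7_84 : Tree := (.node (.node (.node (.node (.node (.node .leaf (234681, 0, 17, 120865) .leaf) (234683, 0, 14, 143443) (.node .leaf (234684, 0, 16, 22660) .leaf)) (234686, 0, 14, 67745) (.node (.node .leaf (234689, 0, 16, 48511) .leaf) (234691, 0, 17, 126298) (.node .leaf (234692, 0, 16, 149496) .leaf))) (234694, 0, 17, 110474) (.node (.node (.node .leaf (234697, 0, 17, 170215) .leaf) (234699, 0, 17, 90917) (.node .leaf (234700, 0, 17, 147874) .leaf)) (234702, 0, 17, 201095) (.node (.node .leaf (234704, 0, 17, 140620) .leaf) (234706, 0, 17, 226665) (.node .leaf (234709, 0, 18, 195593) .leaf)))) (234711, 0, 17, 240684) (.node (.node (.node (.node .leaf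 (234712, 0, 16, 212) .leaf) (234714, 0, 16, 85245) (.node .leaf (234717, 0, 18, 164540) .leaf)) (234719, 0, 15, 100788) (.node (.node .leaf (234720, 0, 12, 218860) .leaf) (234722, 0, 13, 132809) (.node .leaf (234725, 0, 16, 91100) .leaf))) (234727, 0, 19, 166830) (.node (.node (.node .leaf (234728, 0, 19, 95092) .leaf) (234730, 0, 18, 149249) (.node .leaf (234733, 0, 12, 109105) .leaf)) (234735, 0, 17, 155954) (.node (.node .leaf (234737, 0, 14, 118495) .leaf) (234739, 0, 13, 164421) (.node .leaf (234740, 0, 13, 71578) .leaf))))) (234742, 0, 17, 18367) (.node (.node (.node (.node (.node .leaf (234745, 0, 15, 256839) .leaf) (234747, 0, 18, 157913) (.node .leaf (234748, 0, 16, 209410) .leaf)) (234750, 0, 17, 151274) (.node (.node .leaf (234753, 0, 15, 189063) .leaf) (234755, 0, 18, 165561) (.node .leaf (234756, 0, 15, 146370) .leaf))) (234758, 0, 16, 172170) (.node (.node (.node .leaf (234761, 0, 16, 50975) .leaf) (234763, 0, 15, 104250) (.node .leaf (234764, 0, 16, 7770) .leaf)) (234766, 0, 19, 85631) (.node (.node .leaf (234768,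 0, 12, 31412) .leaf) (234770, 0, 19, 76433) (.node .leaf (234773, 0, 17, 41969) .leaf)))) (234775, 0, 19, 167762) (.node (.node (.node (.node .leaf (234776, 0, 16, 109455) .leaf) (234778, 0, 17, 148477) (.node .leaf (234781, 0, 16, 165481) .leaf)) (234783, 0, 17, 157134) (.node (.node .leaf (234784, 0, 16, 67860) .leaf) (234786, 0, 15, 22833) (.node .leaf (234789, 0, 16, 118865) .leaf))) (234791, 0, 17, 99502) (.node (.node (.node .leaf (234792, 0, 16, 208012) .leaf) (234794, 0, 18, 83969) (.node .leaf (234797, 0, 15, 259529) .leaf)) (234799, 0, 17, 93746) (.node (.node .leaf (234801, 0, 15, 156983) .leaf) (234803, 0, 17, 180482) (.node .leaf (234804, 0, 18, 215138) .leaf))))))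

/-- part of the orbit tree -/
def itp7_85 : Tree := (.node (.node (.node (.node (.node (.node .leaf (234809, 0, 16, 111807) .leaf) (234811, 0, 15, 92121) (.node .leaf (234812, 0, 17, 93690) .leaf)) (234814, 0, 15, 82410) (.node (.node .leaf (234817, 0, 15, 100353) .leaf) (234819, 0, 16, 187955) (.node .leaf (234820, 0, 15, 86340) .leaf))) (234822, 0, 13, 353) (.node (.node (.node .leaf (234825, 0, 17, 241049) .leaf) (234827, 0, 12, 144559) (.node .leaf (234828, 0, 17, 226524) .leaf)) (234830, 0, 16, 135836) (.node (.node .leaf (234832, 0, 15, 200754) .leaf) (234834, 0, 16, 193003) (.node .leaf (234837, 0, 17, 248183) .leaf)))) (234839, 0, 16, 186328) (.node (.node (.node (.node .leaf (234840, 0, 18, 79274) .leaf) (234842, 0, 18, 25999) (.node .leaf (234845, 0, 14, 126191) .leaf)) (234847, 0, 15, 146756) (.node (.node .leaf (234848, 0, 16, 135781) .leaf) (234850, 0, 13, 129559) (.node .leaf (234853, 0, 17, 144470) .leaf))) (234855, 0, 18, 121892) (.node (.node (.node .leaf (234856, 0, 18, 194809) .leaf) (234858, 0, 18, 69771)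 (.node .leaf (234861, 0, 15, 188106) .leaf)) (234863, 0, 15, 118634) (.node (.node .leaf (234865, 0, 17, 64417) .leaf) (234867, 0, 16, 120271) (.node .leaf (234868, 0, 17, 138126) .leaf))))) (234870, 0, 18, 94913) (.node (.node (.node (.node (.node .leaf (234873, 0, 18, 186145) .leaf) (234875, 0, 19, 81747) (.node .leaf (234876, 0, 16, 192786) .leaf)) (234878, 0, 15, 72032) (.node (.node .leaf (234881, 0, 15, 188066) .leaf) (234883, 0, 15, 75176) (.node .leaf (234884, 0, 17, 44232) .leaf))) (234886, 0, 14, 130285) (.node (.node (.node .leaf (234889, 0, 14, 151573) .leaf) (234891, 0, 15, 196656) (.node .leaf (234892, 0, 17, 135693) .leaf)) (234894, 0, 15, 252277) (.node (.node .leaf (234896, 0, 17, 191934) .leaf) (234898, 0, 16, 71944) (.node .leaf (234901, 0, 16, 186185) .leaf)))) (234903, 0, 17, 222430) (.node (.node (.node (.node .leaf (234904, 0, 17, 51238) .leaf) (234906, 0, 15, 127892) (.node .leaf (234909, 0, 18, 4451) .leaf)) (234911, 0, 16, 120231) (.node (.node .leaf (234912, 0, 18, 129670) .leaf) (234914, 0, 15, 135924)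 (.node .leaf (234917, 0, 14, 122037) .leaf))) (234919, 0, 14, 144583) (.node (.node (.node .leaf (234920, 0, 17, 69658) .leaf) (234922, 0, 18, 194664) (.node .leaf (234925, 0, 15, 90819) .leaf)) (234927, 0, 16, 13030) (.node (.node .leaf (234929, 0, 10, 120158) .leaf) (234931, 0, 16, 22024) (.node .leaf (234932, 0, 14, 127853) .leaf))))))

/-- part of the orbit tree -/
def itp7_86 : Tree := (.node (.node (.node (.node (.node (.node .leaf (234937, 0, 15, 81858) .leaf) (234939, 0, 16, 186288) (.node .leaf (234940, 0, 15, 72177) .leaf)) (234942, 0, 18, 192899) (.node (.node .leaf (234945, 0, 16, 165416) .leaf) (234947, 0, 16, 93786) (.node .leaf (234948, 0, 16, 172059) .leaf))) (234950, 0, 15, 169579) (.node (.node (.node .leaf (234953, 0, 16, 158900) .leaf) (234955, 0, 16, 99526) (.node .leaf (234956, 0, 16, 123862) .leaf)) (234958, 0, 13, 46067) (.node (.node .leaf (234960, 0, 18, 100152) .leaf) (234962, 0, 17, 55069) (.node .leaf (234965, 0, 16, 89725) .leaf)))) (234967, 0, 17, 3672) (.node (.node (.node (.node .leaf (234968,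 0, 12, 148332) .leaf) (234970, 0, 17, 193157) (.node .leaf (234973, 0, 16, 157023) .leaf)) (234975, 0, 16, 142272) (.node (.node .leaf (234976, 0, 17, 62616) .leaf) (234978, 0, 18, 107709) (.node .leaf (234981, 0, 16, 11741) .leaf))) (234983, 0, 17, 97784) (.node (.node (.node .leaf (234984, 0, 16, 184576) .leaf) (234986, 0, 18, 172258) (.node .leaf (234989, 0, 16, 93859) .leaf)) (234991, 0, 16, 165585) (.node (.node .leaf (234993, 0, 18, 158891) .leaf) (234995, 0, 17, 212110) (.node .leaf (234996, 0, 15, 109543) .leaf))))) (234998, 0, 15, 148373) (.node (.node (.node (.node (.node .leaf (235001, 0, 17, 18739) .leaf) (235003, 0, 18, 167738) (.node .leaf (235004, 0, 14, 36982) .leaf)) (235006, 0, 15, 174345) (.node (.node .leaf (235008, 0, 14, 101605) .leaf) (235009, 0, 14, 101380) (.node .leaf (235010, 0, 17, 56512) .leaf))) (235011, 0, 14, 15526) (.node (.node (.node .leaf (235016, 0, 17, 212918) .leaf) (235017, 0, 16, 91800) (.node .leaf (235018, 0, 17, 55236) .leaf)) (235019, 0, 17, 137534) (.node (.node .leaf (235028, 0,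 17, 249235) .leaf) (235029, 0, 16, 99823) (.node .leaf (235030, 0, 16, 171446) .leaf)))) (235031, 0, 14, 159133) (.node (.node (.node (.node .leaf (235036, 0, 16, 124939) .leaf) (235037, 0, 14, 67693) (.node .leaf (235038, 0, 16, 56879) .leaf)) (235039, 0, 13, 165633) (.node (.node .leaf (235044, 0, 15, 179763) .leaf) (235045, 0, 17, 167443) (.node .leaf (235046, 0, 9, 212815) .leaf))) (235047, 0, 15, 200304) (.node (.node (.node .leaf (235052, 0, 15, 15777) .leaf) (235053, 0, 16, 31693) (.node .leaf (235054, 0, 17, 251347) .leaf)) (235055, 0, 14, 101629) (.node (.node .leaf (235056, 0, 16, 65349) .leaf) (235057, 0, 16, 165880) .leaf)))))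

/-- part of the orbit tree -/
def itp7_87 : Tree := (.node itp7_83 (234678, 0, 15, 195836) itp7_84)

/-- part of the orbit tree -/
def itp7_88 : Tree := (.node itp7_85 (234934, 0, 17, 36685) itp7_86)

/-- part of the orbit tree -/
def itp7_89 : Tree := (.node itp7_81 (234293, 0, 14, 171740) itp7_82)

/-- part of the orbit tree -/
def itp7_90 : Tree := (.node itp7_87 (234806, 0, 18, 109430) itp7_88)

/-- part of the orbit tree -/
def itp7_91 : Tree := (.node itp7_75 (233528, 0, 16, 257029) itp7_76)

/-- part of the orbit tree -/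
def itp7_92 : Tree := (.node itp7_89 (234550, 0, 14, 85141) itp7_90)

/-- part of the orbit tree -/
def itp7_93 : Tree := (.node (.node (.node (.node (.node (.node .leaf (235059, 0, 15, 85766) .leaf) (235064, 0, 18, 187101) (.node .leaf (235065, 0, 17, 159076) .leaf)) (235066, 0, 17, 252984) (.node (.node .leaf (235067, 0, 18, 99606) .leaf) (235072, 0, 17, 190051) (.node .leaf (235073, 0, 14, 119950) .leaf))) (235074, 0, 17, 26066) (.node (.node (.node .leaf (235075, 0, 15, 146684) .leaf) (235080, 0, 14, 50171) (.node .leaf (235081, 0, 17, 81426) .leaf)) (235082, 0, 16, 103390) (.node (.node .leaf (235083, 0, 15, 95160) .leaf) (235092, 0, 16, 230475) (.node .leaf (235093, 0, 12, 122213) .leaf)))) (235094, 0, 14, 27705) (.node (.node (.node (.node .leaf (235095, 0, 17, 71510) .leaf) (235100, 0, 15, 224983) (.node .leaf (235101, 0, 14, 156395) .leaf)) (235102, 0, 14, 34469) (.node (.node .leaf (235103, 0, 18, 209614) .leaf) (235108, 0, 12, 36791) (.node .leaf (235109, 0, 15, 79059) .leaf))) (235110, 0, 16, 223173) (.node (.node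 (.node .leaf (235111, 0, 17, 25846) .leaf) (235116, 0, 16, 25899) (.node .leaf (235117, 0, 12, 201035) .leaf)) (235118, 0, 15, 172296) (.node (.node .leaf (235119, 0, 16, 147822) .leaf) (235120, 0, 17, 34396) (.node .leaf (235121, 0, 18, 226725) .leaf))))) (235122, 0, 17, 181734) (.node (.node (.node (.node (.node .leaf (235123, 0, 16, 140672) .leaf) (235128, 0, 18, 27840) (.node .leaf (235129, 0, 15, 144878) .leaf)) (235130, 0, 18, 230578) (.node (.node .leaf (235131, 0, 14, 24) .leaf) (235136, 0, 14, 25923) (.node .leaf (235137, 0, 17, 261001) .leaf))) (235138, 0, 17, 232753) (.node (.node (.node .leaf (235139, 0, 16, 175020) .leaf) (235144, 0, 17, 81527) (.node .leaf (235145, 0, 18, 122385) .leaf)) (235146, 0, 16, 223149) (.node (.node .leaf (235147, 0, 15, 81539) .leaf) (235156, 0, 15, 88729) (.node .leaf (235157, 0, 18, 144774) .leaf)))) (235158, 0, 18, 2748) (.node (.node (.node (.node .leaf (235159, 0, 17, 122356) .leaf) (235164, 0, 17, 34356) (.node .leaf (235165, 0, 16, 237415) .leaf)) (235166, 0, 15, 224838) (.node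 (.node .leaf (235167, 0, 17, 79720) .leaf) (235172, 0, 18, 223060) (.node .leaf (235173, 0, 17, 51551) .leaf))) (235174, 0, 16, 36646) (.node (.node (.node .leaf (235175, 0, 16, 104826) .leaf) (235180, 0, 16, 232904) (.node .leaf (235181, 0, 16, 191687) .leaf)) (235182, 0, 17, 220292) (.node (.node .leaf (235183, 0, 15, 244962) .leaf) (235184, 0, 17, 157775) (.node .leaf (235185, 0, 18, 79761) .leaf))))))

/-- part of the orbit tree -/
def itp7_94 : Tree := (.node (.node (.node (.node (.node (.node .leaf (235187, 0, 18, 251916) .leaf) (235192, 0, 18, 230435) (.node .leaf (235193, 0, 14, 44465) .leaf)) (235194, 0, 17, 73202) (.node (.node .leaf (235195, 0, 16, 130452) .leaf) (235200, 0, 16, 15817) (.node .leaf (235201, 0, 16, 156903) .leaf))) (235202, 0, 17, 74060) (.node (.node (.node .leaf (235203, 0, 16, 101525) .leaf) (235208, 0, 18, 152817) (.node .leaf (235209, 0, 16, 177303) .leaf)) (235210, 0, 15, 197844) (.node (.node .leaf (235211, 0, 12, 91657) .leaf) (235220, 0, 16, 143391) (.node .leaf (235221, 0, 18, 158988) .leaf))))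 (235222, 0, 17, 253008) (.node (.node (.node (.node .leaf (235223, 0, 17, 99710) .leaf) (235228, 0, 17, 57022) (.node .leaf (235229, 0, 15, 165776) .leaf)) (235230, 0, 14, 210636) (.node (.node .leaf (235231, 0, 15, 94178) .leaf) (235236, 0, 16, 213951) (.node .leaf (235237, 0, 12, 91888) .leaf))) (235238, 0, 14, 55212) (.node (.node (.node .leaf (235239, 0, 16, 167554) .leaf) (235244, 0, 16, 91687) (.node .leaf (235245, 0, 16, 99905) .leaf)) (235246, 0, 17, 15664) (.node (.node .leaf (235247, 0, 17, 156702) .leaf) (235248, 0, 15, 210485) (.node .leaf (235249, 0, 15, 93979) .leaf))))) (235250, 0, 15, 56903) (.node (.node (.node (.node (.node .leaf (235251, 0, 17, 165737) .leaf) (235256, 0, 17, 206673) (.node .leaf (235257, 0, 17, 247607) .leaf)) (235258, 0, 16, 161652) (.node (.node .leaf (235259, 0, 17, 169746) .leaf) (235264, 0, 16, 209609) (.node .leaf (235265, 0, 16, 93159) .leaf))) (235266, 0, 18, 55995) (.node (.node (.node .leaf (235267, 0, 14, 164757) .leaf) (235272, 0, 18, 251989) (.node .leaf (235273, 0, 17, 60271)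 .leaf)) (235274, 0, 18, 12327) (.node (.node .leaf (235275, 0, 16, 113482) .leaf) (235284, 0, 14, 211746) (.node .leaf (235285, 0, 16, 36737) .leaf)))) (235286, 0, 15, 81858) (.node (.node (.node (.node .leaf (235287, 0, 18, 166526) .leaf) (235292, 0, 15, 150143) (.node .leaf (235293, 0, 13, 100496) .leaf)) (235294, 0, 16, 203354) (.node (.node .leaf (235295, 0, 15, 155874) .leaf) (235300, 0, 14, 12510) (.node .leaf (235301, 0, 14, 130081) .leaf))) (235302, 0, 15, 252076) (.node (.node (.node .leaf (235303, 0, 17, 44036) .leaf) (235308, 0, 18, 55874) (.node .leaf (235309, 0, 17, 252345) .leaf)) (235310, 0, 18, 158202) (.node (.node .leaf (235311, 0, 19, 92958) .leaf) (235312, 0, 18, 14645) (.node .leaf (235313, 0, 16, 245079) .leaf))))))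

/-- part of the orbit tree -/
def itp7_95 : Tree := (.node (.node (.node (.node (.node (.node .leaf (235315, 0, 16, 100457) .leaf) (235320, 0, 15, 54185) (.node .leaf (235321, 0, 16, 166535) .leaf)) (235322, 0, 17, 10380) (.node (.node .leaf (235323, 0, 11, 90869) .leaf) (235328, 0, 15, 82967) (.node .leaf (235329, 0, 16, 78701) .leaf))) (235330, 0, 11, 33329) (.node (.node (.node .leaf (235331, 0, 16, 187167) .leaf) (235336, 0, 12, 221583) (.node .leaf (235337, 0, 16, 229865) .leaf)) (235338, 0, 18, 26797) (.node (.node .leaf (235339, 0, 16, 143747) .leaf) (235348, 0, 17, 222120) (.node .leaf (235349, 0, 14, 80518) .leaf)))) (235350, 0, 17, 152900) (.node (.node (.node (.node .leaf (235351, 0, 17, 185076) .leaf) (235356, 0, 12, 73977) (.node .leaf (235357, 0, 18, 118810) .leaf)) (235358, 0, 17, 24902) (.node (.node .leaf (235359, 0, 15, 145512) .leaf) (235364, 0, 16, 26708) (.node .leaf (235365, 0, 14, 169639) .leaf))) (235366, 0, 17, 206564) (.node (.node (.node .leaf (235367, 0, 12, 121096) .leaf) (235372, 0, 17, 33480)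 (.node .leaf (235373, 0, 15, 187366) .leaf)) (235374, 0, 16, 223930) (.node (.node .leaf (235375, 0, 17, 78740) .leaf) (235376, 0, 16, 25023) (.node .leaf (235377, 0, 16, 55249) .leaf))))) (235378, 0, 15, 231885) (.node (.node (.node (.node (.node .leaf (235379, 0, 10, 100340) .leaf) (235384, 0, 16, 135727) (.node .leaf (235385, 0, 17, 193097) .leaf)) (235386, 0, 17, 222033) (.node (.node .leaf (235387, 0, 16, 80511) .leaf) (235392, 0, 14, 47515) (.node .leaf (235393, 0, 12, 187278) .leaf))) (235394, 0, 15, 125374) (.node (.node (.node .leaf (235395, 0, 17, 68056) .leaf) (235400, 0, 18, 26684) (.node .leaf (235401, 0, 16, 143634) .leaf)) (235402, 0, 16, 229454) (.node (.node .leaf (235403, 0, 17, 121184) .leaf) (235412, 0, 15, 35659) (.node .leaf (235413, 0, 14, 184933) .leaf)))) (235414, 0, 16, 239816) (.node (.node (.node (.node .leaf (235415, 0, 14, 215214) .leaf) (235420, 0, 18, 56693) (.node .leaf (235421, 0, 18, 145657) .leaf)) (235422, 0, 15, 101712) (.node (.node .leaf (235423, 0, 13, 118923) .leaf) (235428, 0, 17,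 229559) (.node .leaf (235429, 0, 16, 121241) .leaf))) (235430, 0, 17, 26821) (.node (.node (.node .leaf (235431, 0, 14, 146190) .leaf) (235436, 0, 18, 110293) (.node .leaf (235437, 0, 18, 85683) .leaf)) (235438, 0, 14, 33369) (.node (.node .leaf (235439, 0, 10, 187255) .leaf) (235440, 0, 15, 231772) (.node .leaf (235441, 0, 16, 76381) .leaf))))))

/-- part of the orbit tree -/
def itp7_96 : Tree := (.node (.node (.node (.node (.node (.node .leaf (235443, 0, 14, 145408) .leaf) (235448, 0, 16, 222144) (.node .leaf (235449, 0, 13, 80622) .leaf)) (235450, 0, 16, 180102) (.node (.node .leaf (235451, 0, 17, 155616) .leaf) (235456, 0, 17, 250653) (.node .leaf (235457, 0, 17, 209787) .leaf))) (235458, 0, 16, 209496) (.node (.node (.node .leaf (235459, 0, 17, 156510) .leaf) (235464, 0, 13, 12470) (.node .leaf (235465, 0, 14, 158104) .leaf)) (235466, 0, 14, 42656) (.node (.node .leaf (235467, 0, 17, 98794) .leaf) (235476, 0, 16, 103019) (.node .leaf (235477, 0, 16, 166639) .leaf)))) (235478, 0, 16, 211891) (.node (.node (.node (.node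 .leaf (235479, 0, 16, 8744) .leaf) (235484, 0, 18, 243699) (.node .leaf (235485, 0, 16, 155763) .leaf)) (235486, 0, 17, 250159) (.node (.node .leaf (235487, 0, 15, 133040) .leaf) (235492, 0, 13, 57803) (.node .leaf (235493, 0, 15, 98579) .leaf))) (235494, 0, 18, 12367) (.node (.node (.node .leaf (235495, 0, 16, 86408) .leaf) (235500, 0, 10, 209569) (.node .leaf (235501, 0, 16, 93071) .leaf)) (235502, 0, 16, 234614) (.node (.node .leaf (235503, 0, 16, 164861) .leaf) (235504, 0, 16, 172221) (.node .leaf (235505, 0, 17, 147675) .leaf))))) (235506, 0, 16, 258200) (.node (.node (.node (.node (.node .leaf (235507, 0, 18, 200958) .leaf) (235512, 0, 18, 34085) (.node .leaf (235513, 0, 14, 25923) .leaf)) (235514, 0, 15, 54072) (.node (.node .leaf (235515, 0, 16, 79206) .leaf) (235521, 0, 15, 180707) (.node .leaf (235522, 0, 18, 234500) .leaf))) (235525, 0, 18, 48894) (.node (.node (.node .leaf (235526, 0, 14, 69538) .leaf) (235529, 0, 16, 142207) (.node .leaf (235530, 0, 18, 111004) .leaf)) (235533, 0, 15, 21602) (.node (.node .leaf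 (235534, 0, 17, 100543) .leaf) (235536, 0, 15, 48244) (.node .leaf (235539, 0, 16, 221031) .leaf)))) (235540, 0, 17, 34135) (.node (.node (.node (.node .leaf (235543, 0, 17, 79124) .leaf) (235544, 0, 16, 132263) (.node .leaf (235547, 0, 16, 207279) .leaf)) (235548, 0, 16, 172239) (.node (.node .leaf (235551, 0, 18, 200844) .leaf) (235552, 0, 14, 118740) (.node .leaf (235555, 0, 16, 21659) .leaf))) (235556, 0, 13, 128759) (.node (.node (.node .leaf (235559, 0, 18, 18100) .leaf) (235560, 0, 16, 69467) (.node .leaf (235563, 0, 13, 48647) .leaf)) (235564, 0, 18, 225350) (.node (.node .leaf (235567, 0, 15, 156460) .leaf) (235569, 0, 17, 219111) (.node .leaf (235570, 0, 15, 31555) .leaf))))))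

/-- part of the orbit tree -/
def itp7_97 : Tree := (.node itp7_93 (235186, 0, 14, 34509) itp7_94)

/-- part of the orbit tree -/
def itp7_98 : Tree := (.node itp7_95 (235442, 0, 16, 39454) itp7_96)

/-- part of the orbit tree -/
def itp7_99 : Tree := (.node (.node (.node (.node (.node (.node .leaf (235574, 0, 15, 132190) .leaf) (235577, 0, 17, 73859) (.node .leaf (235578, 0, 15, 37343) .leaf)) (235581, 0, 15, 84828) (.node (.node .leaf (235582, 0, 17, 192194) .leaf) (235585, 0, 17, 85697) (.node .leaf (235586, 0, 15, 65154) .leaf))) (235589, 0, 16, 96226) (.node (.node (.node .leaf (235590, 0, 14, 51105) .leaf) (235593, 0, 14, 160757) (.node .leaf (235594, 0, 15, 187162) .leaf)) (235597, 0, 17, 3304) (.node (.node .leaf (235598, 0, 17, 188985) .leaf) (235600, 0, 15, 251634) (.node .leaf (235603, 0, 18, 198637) .leaf)))) (235604, 0, 17, 258001) (.node (.node (.node (.node .leaf (235607, 0, 17, 96496) .leaf) (235608, 0, 16, 154669) (.node .leaf (235611, 0, 15, 17193) .leaf)) (235612, 0, 17, 117321) (.node (.node .leaf (235615,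 0, 14, 31242) .leaf) (235616, 0, 17, 173394) (.node .leaf (235619, 0, 16, 202001) .leaf))) (235620, 0, 16, 171121) (.node (.node (.node .leaf (235623, 0, 9, 160524) .leaf) (235624, 0, 14, 88017) (.node .leaf (235627, 0, 13, 59021) .leaf)) (235628, 0, 18, 47593) (.node (.node .leaf (235631, 0, 18, 68010) .leaf) (235633, 0, 14, 15713) (.node .leaf (235634, 0, 17, 9161) .leaf))))) (235637, 0, 17, 257416) (.node (.node (.node (.node (.node .leaf (235638, 0, 15, 154836) .leaf) (235641, 0, 13, 137465) (.node .leaf (235642, 0, 17, 51541) .leaf)) (235645, 0, 12, 198420) (.node (.node .leaf (235646, 0, 15, 177736) .leaf) (235649, 0, 17, 94602) (.node .leaf (235650, 0, 14, 66318) .leaf))) (235653, 0, 15, 200343) (.node (.node (.node .leaf (235654, 0, 16, 180171) .leaf) (235657, 0, 17, 169685) (.node .leaf (235658, 0, 17, 10826) .leaf)) (235661, 0, 17, 176118) (.node (.node .leaf (235662, 0, 14, 152919) .leaf) (235664, 0, 14, 142206) (.node .leaf (235667, 0, 15, 236349) .leaf)))) (235668, 0, 16, 135773) (.node (.node (.node (.node .leaf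 (235671, 0, 17, 238110) .leaf) (235672, 0, 16, 3814) (.node .leaf (235675, 0, 18, 114341) .leaf)) (235676, 0, 13, 14277) (.node (.node .leaf (235679, 0, 18, 100230) .leaf) (235680, 0, 17, 219358) (.node .leaf (235683, 0, 17, 255218) .leaf))) (235684, 0, 15, 10931) (.node (.node (.node .leaf (235687, 0, 16, 105455) .leaf) (235688, 0, 16, 97606) (.node .leaf (235691, 0, 15, 200302) .leaf)) (235692, 0, 10, 49199) (.node (.node .leaf (235695, 0, 15, 62502) .leaf) (235697, 0, 17, 114925) (.node .leaf (235698, 0, 16, 28846) .leaf))))))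

/-- part of the orbit tree -/
def itp7_100 : Tree := (.node (.node (.node (.node (.node (.node .leaf (235702, 0, 12, 111671) .leaf) (235705, 0, 19, 168170) (.node .leaf (235706, 0, 15, 205238) .leaf)) (235709, 0, 9, 253014) (.node (.node .leaf (235710, 0, 16, 89771) .leaf) (235713, 0, 14, 252363) (.node .leaf (235714, 0, 14, 39004) .leaf))) (235717, 0, 17, 218653) (.node (.node (.node .leaf (235718, 0, 12, 151723) .leaf) (235721, 0, 17, 115612) (.node .leaf (235722, 0, 12, 19472) .leaf)) (235725, 0, 16, 116080) (.node (.node .leaf (235726, 0, 17, 30003) .leaf) (235728, 0, 16, 67288) (.node .leaf (235731, 0, 16, 61883) .leaf)))) (235732, 0, 14, 96475) (.node (.node (.node (.node .leaf (235735, 0, 12, 182425) .leaf) (235736, 0, 16, 126020) (.node .leaf (235739, 0, 14, 23832) .leaf)) (235740, 0, 18, 234329) (.node (.node .leaf (235743, 0, 16, 139781) .leaf) (235744, 0, 17, 134436) (.node .leaf (235747, 0, 14, 244856) .leaf))) (235748, 0, 18, 2939) (.node (.node (.node .leaf (235751, 0, 15, 113464) .leaf) (235752, 0, 16, 137152)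 (.node .leaf (235755, 0, 15, 239491) .leaf)) (235756, 0, 18, 39077) (.node (.node .leaf (235759, 0, 16, 76281) .leaf) (235761, 0, 14, 140028) (.node .leaf (235762, 0, 17, 203304) .leaf))))) (235765, 0, 16, 168776) (.node (.node (.node (.node (.node .leaf (235766, 0, 18, 126141) .leaf) (235769, 0, 17, 36851) (.node .leaf (235770, 0, 16, 227644) .leaf)) (235773, 0, 16, 46973) (.node (.node .leaf (235774, 0, 15, 67219) .leaf) (235777, 0, 17, 140800) (.node .leaf (235778, 0, 13, 235356) .leaf))) (235781, 0, 18, 114448) (.node (.node (.node .leaf (235782, 0, 16, 3923) .leaf) (235785, 0, 15, 238507) (.node .leaf (235786, 0, 17, 136168) .leaf)) (235789, 0, 6, 45953) (.node (.node .leaf (235790, 0, 17, 66269) .leaf) (235792, 0, 15, 133592) (.node .leaf (235795, 0, 13, 175683) .leaf)))) (235796, 0, 13, 206627) (.node (.node (.node (.node .leaf (235799, 0, 15, 116633) .leaf) (235800, 0, 14, 80792) (.node .leaf (235803, 0, 17, 217624) .leaf)) (235804, 0, 15, 66235) (.node (.node .leaf (235807, 0, 18, 45816) .leaf) (235808, 0, 19, 159136)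 (.node .leaf (235811, 0, 18, 253411) .leaf))) (235812, 0, 13, 152707) (.node (.node (.node .leaf (235815, 0, 17, 183397) .leaf) (235816, 0, 15, 125112) (.node .leaf (235819, 0, 17, 23012) .leaf)) (235820, 0, 16, 28955) (.node (.node .leaf (235823, 0, 15, 141049) .leaf) (235825, 0, 14, 62867) (.node .leaf (235826, 0, 14, 83408) .leaf))))))

/-- part of the orbit tree -/
def itp7_101 : Tree := (.node (.node (.node (.node (.node (.node .leaf (235830, 0, 15, 189373) .leaf) (235833, 0, 15, 184331) (.node .leaf (235834, 0, 16, 30268) .leaf)) (235837, 0, 17, 190760) (.node (.node .leaf (235838, 0, 17, 219499) .leaf) (235841, 0, 18, 163466) (.node .leaf (235842, 0, 13, 220406) .leaf))) (235845, 0, 16, 185750) (.node (.node (.node .leaf (235846, 0, 16, 222677) .leaf) (235849, 0, 16, 168982) (.node .leaf (235850, 0, 18, 206154) .leaf)) (235853, 0, 15, 61454) (.node (.node .leaf (235854, 0, 16, 88663) .leaf) (235856, 0, 15, 151890) (.node .leaf (235859, 0, 8, 115909) .leaf)))) (235860, 0, 14, 11855) (.node (.node (.node (.node .leaf (235863,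 0, 15, 106259) .leaf) (235864, 0, 14, 179150) (.node .leaf (235867, 0, 15, 254301) .leaf)) (235868, 0, 14, 50387) (.node (.node .leaf (235871, 0, 13, 252030) .leaf) (235872, 0, 17, 88750) (.node .leaf (235875, 0, 16, 60402) .leaf))) (235876, 0, 16, 206259) (.node (.node (.node .leaf (235879, 0, 14, 169199) .leaf) (235880, 0, 15, 110642) (.node .leaf (235883, 0, 17, 366) .leaf)) (235884, 0, 18, 203677) (.node (.node .leaf (235887, 0, 16, 163443) .leaf) (235889, 0, 17, 237333) (.node .leaf (235890, 0, 16, 50218) .leaf))))) (235893, 0, 17, 199275) (.node (.node (.node (.node (.node .leaf (235894, 0, 16, 178999) .leaf) (235897, 0, 16, 113293) (.node .leaf (235898, 0, 17, 2766) .leaf)) (235901, 0, 17, 254199) (.node (.node .leaf (235902, 0, 14, 13293) .leaf) (235905, 0, 18, 104041) (.node .leaf (235906, 0, 12, 10037) .leaf))) (235909, 0, 14, 256372) (.node (.node (.node .leaf (235910, 0, 16, 153640) .leaf) (235913, 0, 16, 79009) (.node .leaf (235914, 0, 16, 52649) .leaf)) (235917, 0, 17, 68994) (.node (.node .leaf (235918, 0, 16,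 48577) .leaf) (235920, 0, 14, 113073) (.node .leaf (235923, 0, 19, 2285) .leaf)))) (235924, 0, 12, 247468) (.node (.node (.node (.node .leaf (235927, 0, 16, 161776) .leaf) (235928, 0, 17, 240786) (.node .leaf (235931, 0, 18, 138449) .leaf)) (235932, 0, 11, 234929) (.node (.node .leaf (235935, 0, 19, 171372) .leaf) (235936, 0, 15, 64170) (.node .leaf (235939, 0, 17, 84713) .leaf))) (235940, 0, 16, 52560) (.node (.node (.node .leaf (235943, 0, 17, 95178) .leaf) (235944, 0, 17, 188210) (.node .leaf (235947, 0, 16, 256397) .leaf)) (235948, 0, 15, 189969) (.node (.node .leaf (235951, 0, 13, 218706) .leaf) (235953, 0, 16, 156313) (.node .leaf (235954, 0, 18, 208073) .leaf))))))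

/-- part of the orbit tree -/
def itp7_102 : Tree := (.node (.node (.node (.node (.node (.node .leaf (235958, 0, 18, 86996) .leaf) (235961, 0, 17, 18177) (.node .leaf (235962, 0, 17, 128834) .leaf)) (235965, 0, 17, 2068) (.node (.node .leaf (235966, 0, 15, 118369) .leaf) (235969, 0, 12, 118499) (.node .leaf (235970, 0, 17, 32703) .leaf))) (235973, 0, 15, 242174) (.node (.node (.node .leaf (235974, 0, 15, 131234) .leaf) (235977, 0, 18, 74879) (.node .leaf (235978, 0, 16, 38179) .leaf)) (235981, 0, 17, 157444) (.node (.node .leaf (235982, 0, 18, 191038) .leaf) (235984, 0, 16, 189324) (.node .leaf (235987, 0, 16, 20583) .leaf)))) (235988, 0, 16, 237094) (.node (.node (.node (.node .leaf (235991, 0, 14, 223980) .leaf) (235992, 0, 16, 50708) (.node .leaf (235995, 0, 16, 95831) .leaf)) (235996, 0, 15, 65335) (.node (.node .leaf (235999, 0, 17, 85876) .leaf) (236000, 0, 14, 233516) (.node .leaf (236003, 0, 16, 220059) .leaf))) (236004, 0, 14, 239887) (.node (.node (.node .leaf (236007, 0, 18, 74886) .leaf) (236008, 0, 15, 112052)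 (.node .leaf (236011, 0, 17, 1527) .leaf)) (236012, 0, 9, 101527) (.node (.node .leaf (236015, 0, 17, 118298) .leaf) (236017, 0, 16, 181535) (.node .leaf (236018, 0, 16, 226371) .leaf))))) (236021, 0, 17, 47618) (.node (.node (.node (.node (.node .leaf (236022, 0, 16, 33151) .leaf) (236025, 0, 15, 143235) (.node .leaf (236026, 0, 16, 171460) .leaf)) (236029, 0, 13, 201892) (.node (.node .leaf (236030, 0, 16, 123330) .leaf) (236032, 0, 17, 190545) (.node .leaf (236033, 0, 13, 181455) .leaf))) (236036, 0, 15, 184690) (.node (.node (.node .leaf (236037, 0, 14, 48082) .leaf) (236040, 0, 18, 30589) (.node .leaf (236041, 0, 18, 142931) .leaf)) (236044, 0, 16, 133216) (.node (.node .leaf (236045, 0, 17, 20814) .leaf) (236050, 0, 15, 66405) (.node .leaf (236051, 0, 16, 219723) .leaf)))) (236054, 0, 16, 228472) (.node (.node (.node (.node .leaf (236055, 0, 16, 75094) .leaf) (236058, 0, 17, 255417) (.node .leaf (236059, 0, 13, 198111) .leaf)) (236062, 0, 17, 235236) (.node (.node .leaf (236063, 0, 6, 212220) .leaf) (236066, 0, 6, 45953)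 (.node .leaf (236067, 0, 17, 20919) .leaf))) (236070, 0, 15, 35490) (.node (.node (.node .leaf (236071, 0, 18, 143018) .leaf) (236074, 0, 15, 188933) (.node .leaf (236075, 0, 14, 47915) .leaf)) (236078, 0, 16, 175930) (.node (.node .leaf (236079, 0, 15, 151388) .leaf) (236080, 0, 15, 235037) .leaf)))))

/-- part of the orbit tree -/
def itp7_103 : Tree := (.node itp7_99 (235701, 0, 19, 1387) itp7_100)

/-- part of the orbit tree -/
def itp7_104 : Tree := (.node itp7_101 (235957, 0, 14, 154554) itp7_102)

/-- part of the orbit tree -/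
def itp7_105 : Tree := (.node itp7_97 (235314, 0, 17, 250183) itp7_98)

/-- part of the orbit tree -/
def itp7_106 : Tree := (.node itp7_103 (235829, 0, 16, 52400) itp7_104)

/-- part of the orbit tree -/
def itp7_107 : Tree := (.node (.node (.node (.node (.node (.node .leaf (236084, 0, 16, 125184) .leaf) (236085, 0, 16, 213684) (.node .leaf (236088, 0, 18, 228481) .leaf)) (236089, 0, 18, 89615) (.node (.node .leaf (236092, 0, 14, 66460) .leaf) (236093, 0, 16, 219826) (.node .leaf (236096, 0, 17, 99031) .leaf))) (236097, 0, 16, 90801) (.node (.node (.node .leaf (236100, 0, 14, 113652) .leaf) (236101, 0, 14, 88978) (.node .leaf (236104, 0, 15, 239439) .leaf)) (236105, 0, 14, 214825) (.node (.node .leaf (236108, 0, 14, 151786) .leaf) (236109, 0, 17, 228874) (.node .leaf (236114, 0, 14, 174759) .leaf)))) (236115, 0, 16, 197313) (.node (.node (.node (.node .leaf (236118, 0, 15, 168836) .leaf) (236119, 0, 14, 160738) (.node .leaf (236122, 0, 16, 110963) .leaf)) (236123, 0, 16, 28505) (.node (.node .leaf (236126, 0, 13, 46620) .leaf)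 (236127, 0, 14, 104256) (.node .leaf (236130, 0, 17, 252167) .leaf))) (236131, 0, 16, 211297) (.node (.node (.node .leaf (236134, 0, 18, 253988) .leaf) (236135, 0, 16, 196674) (.node .leaf (236138, 0, 16, 130207) .leaf)) (236139, 0, 12, 58273) (.node (.node .leaf (236142, 0, 16, 50578) .leaf) (236143, 0, 17, 75226) (.node .leaf (236144, 0, 15, 61815) .leaf))))) (236145, 0, 15, 104377) (.node (.node (.node (.node (.node .leaf (236148, 0, 19, 51284) .leaf) (236149, 0, 16, 10290) (.node .leaf (236152, 0, 18, 205835) .leaf)) (236153, 0, 12, 144521) (.node (.node .leaf (236156, 0, 15, 191948) .leaf) (236157, 0, 17, 197176) (.node .leaf (236160, 0, 17, 32603) .leaf))) (236161, 0, 17, 95398) (.node (.node (.node .leaf (236164, 0, 18, 86677) .leaf) (236165, 0, 12, 199611) (.node .leaf (236168, 0, 14, 247572) .leaf)) (236169, 0, 17, 106042) (.node (.node .leaf (236172, 0, 18, 112649) .leaf) (236173, 0, 14, 254247) (.node .leaf (236178, 0, 16, 176908) .leaf)))) (236179, 0, 17, 243533) (.node (.node (.node (.node .leaf (236182, 0, 17,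 224776) .leaf) (236183, 0, 15, 169279) (.node .leaf (236186, 0, 12, 94899) .leaf)) (236187, 0, 16, 103125) (.node (.node .leaf (236190, 0, 15, 84880) .leaf) (236191, 0, 15, 163747) (.node .leaf (236194, 0, 18, 140427) .leaf))) (236195, 0, 15, 181485) (.node (.node (.node .leaf (236198, 0, 17, 138664) .leaf) (236199, 0, 15, 196046) (.node .leaf (236202, 0, 13, 86636) .leaf)) (236203, 0, 13, 199490) (.node (.node .leaf (236206, 0, 15, 14384) .leaf) (236207, 0, 15, 95327) (.node .leaf (236208, 0, 18, 9844) .leaf))))))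

/-- part of the orbit tree -/
def itp7_108 : Tree := (.node (.node (.node (.node (.node (.node .leaf (236212, 0, 8, 153961) .leaf) (236213, 0, 14, 71) (.node .leaf (236216, 0, 17, 207203) .leaf)) (236217, 0, 19, 169414) (.node (.node .leaf (236220, 0, 14, 177141) .leaf) (236221, 0, 17, 258086) (.node .leaf (236224, 0, 15, 202205) .leaf))) (236225, 0, 16, 76844) (.node (.node (.node .leaf (236228, 0, 14, 68127) .leaf) (236229, 0, 14, 248984) (.node .leaf (236232, 0, 17, 237470) .leaf)) (236233, 0, 15, 118819) (.node (.node .leaf (236236, 0, 17, 123011) .leaf) (236237, 0, 16, 244141) (.node .leaf (236242, 0, 16, 191366) .leaf)))) (236243, 0, 14, 56779) (.node (.node (.node (.node .leaf (236246, 0, 14, 1166) .leaf) (236247, 0, 17, 183733) (.node .leaf (236250, 0, 17, 131354) .leaf)) (236251, 0, 15, 194643) (.node (.node .leaf (236254, 0, 15, 32263) .leaf) (236255, 0, 16, 180592) (.node .leaf (236258, 0, 15, 123002) .leaf))) (236259, 0, 17, 110187) (.node (.node (.node .leaf (236262, 0, 16, 237415) .leaf) (236263, 0, 11, 104264)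 (.node .leaf (236266, 0, 17, 224149) .leaf)) (236267, 0, 17, 232435) (.node (.node .leaf (236270, 0, 14, 226811) .leaf) (236271, 0, 15, 77013) (.node .leaf (236272, 0, 15, 32510) .leaf))))) (236273, 0, 17, 141264) (.node (.node (.node (.node (.node .leaf (236276, 0, 13, 131555) .leaf) (236277, 0, 18, 22733) (.node .leaf (236280, 0, 16, 37986) .leaf)) (236281, 0, 18, 41859) (.node (.node .leaf (236284, 0, 17, 191359) .leaf) (236285, 0, 14, 39584) (.node .leaf (236288, 0, 17, 31234) .leaf))) (236289, 0, 17, 140076) (.node (.node (.node .leaf (236292, 0, 15, 132383) .leaf) (236293, 0, 13, 23601) (.node .leaf (236296, 0, 11, 225213) .leaf)) (236297, 0, 13, 233435) (.node (.node .leaf (236300, 0, 17, 192387) .leaf) (236301, 0, 16, 46765) (.node .leaf (236306, 0, 15, 156245) .leaf)))) (236307, 0, 15, 245160) (.node (.node (.node (.node .leaf (236310, 0, 17, 154486) .leaf) (236311, 0, 14, 115381) (.node .leaf (236314, 0, 16, 69146) .leaf)) (236315, 0, 15, 42923) (.node (.node .leaf (236318, 0, 16, 32494) .leaf) (236319, 0, 17, 75817)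 (.node .leaf (236322, 0, 16, 192378) .leaf))) (236323, 0, 15, 258451) (.node (.node (.node .leaf (236326, 0, 15, 36967) .leaf) (236327, 0, 15, 247984) (.node .leaf (236330, 0, 18, 132582) .leaf)) (236331, 0, 15, 119819) (.node (.node .leaf (236334, 0, 14, 68942) .leaf) (236335, 0, 16, 126248) (.node .leaf (236336, 0, 17, 225790) .leaf))))))

/-- part of the orbit tree -/
def itp7_109 : Tree := (.node (.node (.node (.node (.node (.node .leaf (236340, 0, 13, 166) .leaf) (236341, 0, 15, 219085) (.node .leaf (236344, 0, 17, 138269) .leaf)) (236345, 0, 15, 115276) (.node (.node .leaf (236348, 0, 12, 124031) .leaf) (236349, 0, 14, 181592) (.node .leaf (236352, 0, 15, 139427) .leaf))) (236353, 0, 18, 162726) (.node (.node (.node .leaf (236356, 0, 17, 137600) .leaf) (236357, 0, 15, 1211) (.node .leaf (236360, 0, 16, 1339) .leaf)) (236361, 0, 17, 58717) (.node (.node .leaf (236364, 0, 12, 15384) .leaf) (236365, 0, 11, 60967) (.node .leaf (236370, 0, 15, 67795) .leaf)))) (236371, 0, 18, 255266) (.node (.node (.node (.node .leaf (236374,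 0, 17, 246545) .leaf) (236375, 0, 17, 119190) (.node .leaf (236378, 0, 18, 87696) .leaf)) (236379, 0, 17, 249133) (.node (.node .leaf (236382, 0, 15, 201832) .leaf) (236383, 0, 15, 94371) (.node .leaf (236386, 0, 17, 31603) .leaf))) (236387, 0, 17, 39701) (.node (.node (.node .leaf (236390, 0, 18, 51437) .leaf) (236391, 0, 16, 168387) (.node .leaf (236394, 0, 9, 155371) .leaf)) (236395, 0, 19, 179853) (.node (.node .leaf (236398, 0, 17, 157640) .leaf) (236399, 0, 17, 162655) (.node .leaf (236400, 0, 15, 207220) .leaf))))) (236401, 0, 18, 94298) (.node (.node (.node (.node (.node .leaf (236404, 0, 17, 87657) .leaf) (236405, 0, 11, 200519) (.node .leaf (236408, 0, 17, 95899) .leaf)) (236409, 0, 12, 105158) (.node (.node .leaf (236412, 0, 15, 85944) .leaf) (236413, 0, 15, 255451) (.node .leaf (236416, 0, 18, 248427) .leaf))) (236417, 0, 17, 103237) (.node (.node (.node .leaf (236420, 0, 16, 111990) .leaf) (236421, 0, 17, 257112) (.node .leaf (236424, 0, 17, 129207) .leaf)) (236425, 0, 18, 96729) (.node (.node .leaf (236428, 0,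 13, 90090) .leaf) (236429, 0, 16, 198340) (.node .leaf (236434, 0, 19, 152815) .leaf)))) (236435, 0, 18, 3521) (.node (.node (.node (.node .leaf (236438, 0, 17, 52348) .leaf) (236439, 0, 17, 11290) (.node .leaf (236442, 0, 11, 184519) .leaf)) (236443, 0, 18, 143521) (.node (.node .leaf (236446, 0, 13, 190948) .leaf) (236447, 0, 18, 133506) (.node .leaf (236450, 0, 13, 100095) .leaf))) (236451, 0, 12, 91801) (.node (.node (.node .leaf (236454, 0, 15, 114652) .leaf) (236455, 0, 16, 96544) (.node .leaf (236458, 0, 16, 112015) .leaf)) (236459, 0, 16, 257185) (.node (.node .leaf (236462, 0, 15, 248466) .leaf) (236463, 0, 14, 227874) (.node .leaf (236464, 0, 16, 49559) .leaf))))))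

/-- part of the orbit tree -/
def itp7_110 : Tree := (.node (.node (.node (.node (.node (.node .leaf (236468, 0, 17, 169900) .leaf) (236469, 0, 18, 59300) (.node .leaf (236472, 0, 16, 11019) .leaf)) (236473, 0, 15, 160293) (.node (.node .leaf (236476, 0, 13, 152598) .leaf) (236477, 0, 13, 21074) (.node .leaf (236480, 0, 14, 234209) .leaf))) (236481, 0, 14, 117711) (.node (.node (.node .leaf (236484, 0, 12, 126460) .leaf) (236485, 0, 15, 242898) (.node .leaf (236488, 0, 18, 227453) .leaf)) (236489, 0, 16, 160343) (.node (.node .leaf (236492, 0, 18, 174866) .leaf) (236493, 0, 17, 150388) (.node .leaf (236498, 0, 16, 134245) .leaf)))) (236499, 0, 15, 229311) (.node (.node (.node (.node .leaf (236502, 0, 16, 239354) .leaf) (236503, 0, 15, 214684) (.node .leaf (236506, 0, 16, 113217) .leaf)) (236507, 0, 17, 49111) (.node (.node .leaf (236510, 0, 13, 39396) .leaf) (236511, 0, 16, 180426) (.node .leaf (236514, 0, 13, 191609) .leaf))) (236515, 0, 17, 134175) (.node (.node (.node .leaf (236518, 0, 15, 185690) .leaf) (236519, 0, 17,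 144700) (.node .leaf (236522, 0, 15, 51681) .leaf)) (236523, 0, 13, 242731) (.node (.node .leaf (236526, 0, 15, 234008) .leaf) (236527, 0, 17, 117558) (.node .leaf (236528, 0, 16, 115721) .leaf))))) (236529, 0, 16, 180275) (.node (.node (.node (.node (.node .leaf (236532, 0, 16, 130346) .leaf) (236533, 0, 18, 48942) (.node .leaf (236536, 0, 18, 29569) .leaf)) (236537, 0, 18, 197111) (.node (.node .leaf (236540, 0, 17, 134300) .leaf) (236541, 0, 10, 211156) (.node .leaf (236544, 0, 17, 253577) .leaf))) (236546, 0, 16, 32075) (.node (.node (.node .leaf (236548, 0, 16, 125476) .leaf) (236550, 0, 18, 131670) (.node .leaf (236552, 0, 16, 229285) .leaf)) (236554, 0, 15, 38871) (.node (.node .leaf (236556, 0, 17, 115250) .leaf) (236558, 0, 15, 190666) (.node .leaf (236561, 0, 16, 83642) .leaf)))) (236563, 0, 13, 5791) (.node (.node (.node (.node .leaf (236565, 0, 16, 116220) .leaf) (236567, 0, 15, 142734) (.node .leaf (236569, 0, 17, 217213) .leaf)) (236571, 0, 13, 144135) (.node (.node .leaf (236573, 0, 14, 77664) .leaf) (236575,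 0, 15, 133668) (.node .leaf (236577, 0, 15, 13594) .leaf))) (236579, 0, 12, 219503) (.node (.node (.node .leaf (236581, 0, 15, 3129) .leaf) (236583, 0, 14, 89116) (.node .leaf (236585, 0, 18, 135298) .leaf)) (236587, 0, 16, 242675) (.node (.node .leaf (236589, 0, 17, 141729) .leaf) (236591, 0, 15, 117998) (.node .leaf (236592, 0, 18, 175401) .leaf))))))

/-- part of the orbit tree -/
def itp7_111 : Tree := (.node itp7_107 (236209, 0, 15, 163674) itp7_108)

/-- part of the orbit tree -/
def itp7_112 : Tree := (.node itp7_109 (236465, 0, 15, 170169) itp7_110)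

/-- part of the orbit tree -/
def itp7_113 : Tree := (.node (.node (.node (.node (.node (.node .leaf (236596, 0, 17, 168970) .leaf) (236598, 0, 17, 246831) (.node .leaf (236600, 0, 16, 29785) .leaf)) (236602, 0, 16, 120980) (.node (.node .leaf (236604, 0, 17, 45458) .leaf) (236606, 0, 15, 123319) (.node .leaf (236608, 0, 14, 46095) .leaf))) (236610, 0, 16, 123946) (.node (.node (.node .leaf (236612, 0, 16, 111278) .leaf) (236614, 0, 15, 154332) (.node .leaf (236616, 0, 16, 168343) .leaf)) (236618, 0, 11, 246194) (.node (.node .leaf (236620, 0, 14, 174260) .leaf) (236622, 0, 17, 176192) (.node .leaf (236625, 0, 17, 142396) .leaf)))) (236627, 0, 18, 228377) (.node (.node (.node (.node .leaf (236629, 0, 18, 136479) .leaf) (236631, 0, 16, 161028) (.node .leaf (236633, 0, 15, 198903) .leaf)) (236635, 0, 16, 57477) (.node (.node .leaf (236637, 0, 16, 12423) .leaf) (236639, 0, 17, 90274) (.node .leaf (236641, 0, 14, 221084) .leaf))) (236643, 0, 16, 135097) (.node (.node (.node .leaf (236645, 0, 15, 169610) .leaf) (236647, 0, 16,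 145050) (.node .leaf (236649, 0, 18, 779) .leaf)) (236651, 0, 14, 256889) (.node (.node .leaf (236653, 0, 17, 162838) .leaf) (236655, 0, 11, 4866) (.node .leaf (236656, 0, 14, 116655) .leaf))))) (236658, 0, 17, 208445) (.node (.node (.node (.node (.node .leaf (236660, 0, 18, 130700) .leaf) (236662, 0, 17, 44713) (.node .leaf (236664, 0, 17, 254519) .leaf)) (236666, 0, 16, 246945) (.node (.node .leaf (236668, 0, 12, 152526) .leaf) (236670, 0, 17, 113596) (.node .leaf (236672, 0, 17, 9552) .leaf))) (236674, 0, 12, 249122) (.node (.node (.node .leaf (236676, 0, 16, 154189) .leaf) (236678, 0, 15, 111167) (.node .leaf (236680, 0, 16, 224283) .leaf)) (236682, 0, 16, 206782) (.node (.node .leaf (236684, 0, 18, 218424) .leaf) (236686, 0, 12, 88227) (.node .leaf (236689, 0, 18, 250288) .leaf)))) (236691, 0, 14, 254714) (.node (.node (.node (.node .leaf (236693, 0, 17, 161173) .leaf) (236695, 0, 15, 105959) (.node .leaf (236697, 0, 14, 57364) .leaf)) (236699, 0, 17, 41997) (.node (.node .leaf (236701, 0, 16, 118027) .leaf) (236703, 0,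 13, 40238) (.node .leaf (236705, 0, 17, 196980) .leaf))) (236707, 0, 18, 59654) (.node (.node (.node .leaf (236709, 0, 17, 170803) .leaf) (236711, 0, 13, 169499) (.node .leaf (236713, 0, 17, 34696) .leaf)) (236715, 0, 17, 922) (.node (.node .leaf (236717, 0, 15, 48811) .leaf) (236719, 0, 17, 126606) (.node .leaf (236720, 0, 14, 208556) .leaf))))))

/-- part of the orbit tree -/
def itp7_114 : Tree := (.node (.node (.node (.node (.node (.node .leaf (236724, 0, 13, 86449) .leaf) (236726, 0, 16, 178627) (.node .leaf (236728, 0, 16, 139195) .leaf)) (236730, 0, 15, 11330) (.node (.node .leaf (236732, 0, 14, 113453) .leaf) (236734, 0, 12, 227005) (.node .leaf (236736, 0, 16, 140037) .leaf))) (236738, 0, 17, 226080) (.node (.node (.node .leaf (236740, 0, 14, 131783) .leaf) (236742, 0, 18, 125621) (.node .leaf (236744, 0, 14, 38726) .leaf)) (236746, 0, 15, 87736) (.node (.node .leaf (236748, 0, 18, 16318) .leaf) (236750, 0, 14, 65577) (.node .leaf (236753, 0, 13, 47926) .leaf)))) (236755, 0, 16, 244336) (.node (.node (.node (.node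 .leaf (236757, 0, 16, 33301) .leaf) (236759, 0, 17, 116077) (.node .leaf (236761, 0, 17, 171694) .leaf)) (236763, 0, 15, 217324) (.node (.node .leaf (236765, 0, 17, 182147) .leaf) (236767, 0, 10, 77809) (.node .leaf (236769, 0, 14, 219646) .leaf))) (236771, 0, 18, 45452) (.node (.node (.node .leaf (236773, 0, 14, 127413) .leaf) (236775, 0, 16, 183953) (.node .leaf (236777, 0, 17, 257294) .leaf)) (236779, 0, 15, 23312) (.node (.node .leaf (236781, 0, 13, 117887) .leaf) (236783, 0, 13, 140301) (.node .leaf (236784, 0, 12, 217253) .leaf))))) (236786, 0, 14, 40532) (.node (.node (.node (.node (.node .leaf (236788, 0, 18, 223622) .leaf) (236790, 0, 16, 188745) (.node .leaf (236792, 0, 16, 95549) .leaf)) (236794, 0, 14, 9496) (.node (.node .leaf (236796, 0, 14, 123815) .leaf) (236798, 0, 13, 7227) (.node .leaf (236800, 0, 14, 31997) .leaf))) (236802, 0, 17, 39592) (.node (.node (.node .leaf (236804, 0, 16, 17886) .leaf) (236806, 0, 15, 71163) (.node .leaf (236808, 0, 15, 235590) .leaf)) (236810, 0, 12, 198976) (.node (.node .leaf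 (236812, 0, 16, 155718) .leaf) (236814, 0, 19, 134953) (.node .leaf (236817, 0, 14, 220418) .leaf)))) (236819, 0, 16, 46448) (.node (.node (.node (.node .leaf (236821, 0, 14, 74271) .leaf) (236823, 0, 16, 232904) (.node .leaf (236825, 0, 14, 49494) .leaf)) (236827, 0, 16, 102771) (.node (.node .leaf (236829, 0, 14, 63605) .leaf) (236831, 0, 15, 139505) (.node .leaf (236833, 0, 17, 235374) .leaf))) (236835, 0, 13, 245388) (.node (.node (.node .leaf (236837, 0, 19, 241229) .leaf) (236839, 0, 17, 115089) (.node .leaf (236841, 0, 17, 48226) .leaf)) (236843, 0, 15, 58067) (.node (.node .leaf (236845, 0, 14, 101333) .leaf) (236847, 0, 17, 76557) (.node .leaf (236848, 0, 17, 69469) .leaf))))))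

/-- part of the orbit tree -/
def itp7_115 : Tree := (.node (.node (.node (.node (.node (.node .leaf (236852, 0, 19, 132667) .leaf) (236854, 0, 15, 26203) (.node .leaf (236856, 0, 17, 207557) .leaf)) (236858, 0, 15, 228296) (.node (.node .leaf (236860, 0, 16, 201702) .leaf) (236862, 0, 15, 148419) (.node .leaf (236864, 0, 18, 202363) .leaf))) (236866, 0, 17, 49698) (.node (.node (.node .leaf (236868, 0, 18, 208728) .leaf) (236870, 0, 14, 179519) (.node .leaf (236872, 0, 16, 245964) .leaf)) (236874, 0, 16, 25542) (.node (.node .leaf (236876, 0, 17, 114641) .leaf) (236878, 0, 12, 153507) (.node .leaf (236881, 0, 14, 198024) .leaf)))) (236883, 0, 17, 60922) (.node (.node (.node (.node .leaf (236885, 0, 17, 96917) .leaf) (236887, 0, 15, 168679) (.node .leaf (236889, 0, 18, 240592) .leaf)) (236891, 0, 17, 195573) (.node (.node .leaf (236893, 0, 16, 102409) .leaf) (236895, 0, 13, 180950) (.node .leaf (236897, 0, 18, 65000) .leaf))) (236899, 0, 17, 110029) (.node (.node (.node .leaf (236901, 0, 16, 50379) .leaf) (236903, 0, 18, 104731)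 (.node .leaf (236905, 0, 16, 186480) .leaf)) (236907, 0, 15, 199834) (.node (.node .leaf (236909, 0, 17, 170997) .leaf) (236911, 0, 15, 95111) (.node .leaf (236912, 0, 13, 157147) .leaf))))) (236914, 0, 13, 248286) (.node (.node (.node (.node (.node .leaf (236916, 0, 14, 155313) .leaf) (236918, 0, 18, 199901) (.node .leaf (236920, 0, 14, 16451) .leaf)) (236922, 0, 19, 205634) (.node (.node .leaf (236924, 0, 11, 177197) .leaf) (236926, 0, 14, 89183) (.node .leaf (236928, 0, 16, 49843) .leaf))) (236930, 0, 16, 207553) (.node (.node (.node .leaf (236932, 0, 17, 179630) .leaf) (236934, 0, 16, 87516) (.node .leaf (236936, 0, 14, 52847) .leaf)) (236938, 0, 17, 106058) (.node (.node .leaf (236940, 0, 17, 153394) .leaf) (236942, 0, 15, 114496) (.node .leaf (236945, 0, 16, 60779) .leaf)))) (236947, 0, 16, 74721) (.node (.node (.node (.node .leaf (236949, 0, 17, 168566) .leaf) (236951, 0, 15, 72386) (.node .leaf (236953, 0, 16, 153180) .leaf)) (236955, 0, 17, 198265) (.node (.node .leaf (236957, 0, 16, 159615) .leaf) (236959, 0, 16,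 102552) (.node .leaf (236961, 0, 16, 65636) .leaf))) (236963, 0, 15, 20545) (.node (.node (.node .leaf (236965, 0, 15, 80199) .leaf) (236967, 0, 14, 160248) (.node .leaf (236969, 0, 14, 199691) .leaf)) (236971, 0, 13, 161241) (.node (.node .leaf (236973, 0, 16, 203999) .leaf) (236975, 0, 17, 150778) (.node .leaf (236976, 0, 15, 248143) .leaf))))))

/-- part of the orbit tree -/
def itp7_116 : Tree := (.node (.node (.node (.node (.node (.node .leaf (236980, 0, 14, 112210) .leaf) (236982, 0, 17, 192849) (.node .leaf (236984, 0, 16, 114127) .leaf)) (236986, 0, 14, 60906) (.node (.node .leaf (236988, 0, 13, 89294) .leaf) (236990, 0, 12, 177340) (.node .leaf (236992, 0, 14, 98673) .leaf))) (236994, 0, 17, 53588) (.node (.node (.node .leaf (236996, 0, 17, 189732) .leaf) (236998, 0, 14, 59511) (.node .leaf (237000, 0, 17, 28837) .leaf)) (237002, 0, 13, 235735) (.node (.node .leaf (237004, 0, 14, 237002) .leaf) (237006, 0, 16, 124874) (.node .leaf (237009, 0, 17, 46561) .leaf)))) (237011, 0, 15, 220563) (.node (.node (.node (.node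 .leaf (237013, 0, 17, 204897) .leaf) (237015, 0, 16, 159812) (.node .leaf (237017, 0, 18, 24445) .leaf)) (237019, 0, 14, 27903) (.node (.node .leaf (237021, 0, 17, 67065) .leaf) (237023, 0, 18, 116754) (.node .leaf (237025, 0, 15, 245277) .leaf))) (237027, 0, 14, 22127) (.node (.node (.node .leaf (237029, 0, 12, 152513) .leaf) (237031, 0, 15, 197604) (.node .leaf (237033, 0, 16, 20346) .leaf)) (237035, 0, 19, 48371) (.node (.node .leaf (237037, 0, 18, 76700) .leaf) (237039, 0, 16, 181230) (.node .leaf (237040, 0, 18, 233925) .leaf))))) (237042, 0, 15, 107252) (.node (.node (.node (.node (.node .leaf (237044, 0, 15, 126680) .leaf) (237046, 0, 18, 132778) (.node .leaf (237048, 0, 16, 186185) .leaf)) (237050, 0, 17, 231276) (.node (.node .leaf (237052, 0, 17, 192106) .leaf) (237054, 0, 14, 191542) (.node .leaf (237072, 0, 16, 101036) .leaf))) (237073, 0, 18, 245709) (.node (.node (.node .leaf (237074, 0, 16, 134801) .leaf) (237075, 0, 15, 15087) (.node .leaf (237076, 0, 17, 111503) .leaf)) (237077, 0, 17, 87017) (.node (.node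 .leaf (237078, 0, 11, 29068) .leaf) (237079, 0, 18, 141474) (.node .leaf (237080, 0, 14, 68735) .leaf)))) (237081, 0, 18, 218449) (.node (.node (.node (.node .leaf (237082, 0, 17, 196369) .leaf) (237083, 0, 16, 48419) (.node .leaf (237084, 0, 15, 235031) .leaf)) (237085, 0, 15, 76364) (.node (.node .leaf (237086, 0, 17, 181810) .leaf) (237087, 0, 15, 140884) (.node .leaf (237088, 0, 15, 63756) .leaf))) (237089, 0, 16, 46129) (.node (.node (.node .leaf (237090, 0, 16, 66925) .leaf) (237091, 0, 18, 220227) (.node .leaf (237092, 0, 10, 49199) .leaf)) (237093, 0, 17, 183084) (.node (.node .leaf (237094, 0, 15, 227952) .leaf) (237095, 0, 16, 74590) .leaf)))))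

/-- part of the orbit tree -/
def itp7_117 : Tree := (.node itp7_113 (236722, 0, 14, 92678) itp7_114)

/-- part of the orbit tree -/
def itp7_118 : Tree := (.node itp7_115 (236978, 0, 19, 182386) itp7_116)

/-- part of the orbit tree -/
def itp7_119 : Tree := (.node itp7_111 (236337, 0, 16, 75984) itp7_112)

/-- part of the orbit tree -/
def itp7_120 : Tree := (.node itp7_117 (236850, 0, 15, 24440) itp7_118)

/-- part of the orbit tree -/
def itp7_121 : Tree := (.node itp7_105 (235573, 0, 14, 224964) itp7_106)

/-- part of the orbit tree -/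
def itp7_122 : Tree := (.node itp7_119 (236594, 0, 18, 226999) itp7_120)

/-- part of the orbit tree -/
def itp7_123 : Tree := (.node itp7_91 (234037, 0, 14, 81064) itp7_92)

/-- part of the orbit tree -/
def itp7_124 : Tree := (.node itp7_121 (236081, 0, 16, 228247) itp7_122)

/-- part of the orbit tree -/
def itp7_125 : Tree := (.node itp7_61 (230970, 0, 17, 134733) itp7_62)

/-- part of the orbit tree -/
def itp7_126 : Tree := (.node itp7_123 (235058, 0, 16, 210596) itp7_124)

/-- part of the orbit tree -/
def itp7_127 : Tree := (.node (.node (.node (.node (.node (.node .leaf (237097, 0, 16, 24237) .leaf) (237098, 0, 16, 126961) (.node .leaf (237099, 0, 18, 224471) .leaf)) (237100, 0, 15, 189879) (.node (.node .leaf (237101, 0, 16, 132561) .leaf) (237102, 0, 16, 233708) (.node .leaf (237103, 0, 16, 117186) .leaf))) (237136, 0, 17, 188458) (.node (.node (.node .leaf (237137, 0, 10, 131148) .leaf) (237138, 0, 17, 153115) (.node .leaf (237139, 0, 15, 3893) .leaf)) (237140, 0, 10, 246132) (.node (.node .leaf (237141, 0, 13,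 104538) .leaf) (237142, 0, 17, 231724) (.node .leaf (237143, 0, 13, 159784) .leaf)))) (237144, 0, 15, 87285) (.node (.node (.node (.node .leaf (237145, 0, 16, 9684) .leaf) (237146, 0, 17, 103831) (.node .leaf (237147, 0, 14, 95729) .leaf)) (237148, 0, 16, 207848) (.node (.node .leaf (237149, 0, 17, 7415) .leaf) (237150, 0, 16, 50074) (.node .leaf (237151, 0, 16, 170676) .leaf))) (237152, 0, 14, 234378) (.node (.node (.node .leaf (237153, 0, 16, 60603) .leaf) (237154, 0, 15, 89575) (.node .leaf (237155, 0, 13, 197833) .leaf)) (237156, 0, 18, 51848) (.node (.node .leaf (237157, 0, 15, 215759) .leaf) (237158, 0, 17, 205562) (.node .leaf (237159, 0, 16, 137962) .leaf))))) (237160, 0, 19, 155401) (.node (.node (.node (.node (.node .leaf (237161, 0, 14, 1575) .leaf) (237162, 0, 14, 58935) (.node .leaf (237163, 0, 13, 257621) .leaf)) (237164, 0, 16, 102193) (.node (.node .leaf (237165, 0, 17, 94039) .leaf) (237166, 0, 17, 247910) (.node .leaf (237167, 0, 16, 102728) .leaf))) (237200, 0, 18, 153226) (.node (.node (.node .leaf (237201,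 0, 13, 261568) .leaf) (237202, 0, 14, 114424) (.node .leaf (237203, 0, 17, 255958) .leaf)) (237204, 0, 19, 10647) (.node (.node .leaf (237205, 0, 16, 159929) .leaf) (237206, 0, 19, 246245) (.node .leaf (237207, 0, 13, 169158) .leaf)))) (237208, 0, 16, 179222) (.node (.node (.node (.node .leaf (237209, 0, 15, 120920) .leaf) (237210, 0, 15, 26651) (.node .leaf (237211, 0, 17, 200010) .leaf)) (237212, 0, 16, 49931) (.node (.node .leaf (237213, 0, 15, 170533) .leaf) (237214, 0, 16, 207737) (.node .leaf (237215, 0, 14, 45406) .leaf))) (237216, 0, 16, 89462) (.node (.node (.node .leaf (237217, 0, 16, 167520) .leaf) (237218, 0, 14, 212515) (.node .leaf (237219, 0, 15, 60458) .leaf)) (237220, 0, 15, 205419) (.node (.node .leaf (237221, 0, 15, 177987) .leaf) (237222, 0, 15, 51737) (.node .leaf (237223, 0, 16, 168759) .leaf))))))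

/-- part of the orbit tree -/
def itp7_128 : Tree := (.node (.node (.node (.node (.node (.node .leaf (237225, 0, 17, 257732) .leaf) (237226, 0, 16, 72635) (.node .leaf (237227, 0, 15, 1718) .leaf)) (237228, 0, 17, 248055) (.node (.node .leaf (237229, 0, 14, 102873) .leaf) (237230, 0, 14, 74392) (.node .leaf (237231, 0, 14, 162219) .leaf))) (237264, 0, 14, 30496) (.node (.node (.node .leaf (237265, 0, 14, 38726) .leaf) (237266, 0, 16, 75525) (.node .leaf (237267, 0, 14, 116579) .leaf)) (237268, 0, 15, 28957) (.node (.node .leaf (237269, 0, 17, 44645) .leaf) (237270, 0, 17, 235887) (.node .leaf (237271, 0, 12, 114753) .leaf)))) (237272, 0, 17, 152248) (.node (.node (.node (.node .leaf (237273, 0, 18, 176862) .leaf) (237274, 0, 17, 197277) (.node .leaf (237275, 0, 12, 218560) .leaf)) (237276, 0, 16, 39809) (.node (.node .leaf (237277, 0, 16, 166909) .leaf) (237278, 0, 16, 226291) (.node .leaf (237279, 0, 16, 252888) .leaf))) (237280, 0, 15, 67068) (.node (.node (.node .leaf (237281, 0, 16, 124134) .leaf) (237282, 0, 17, 21669)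 (.node .leaf (237283, 0, 15, 46275) .leaf)) (237284, 0, 15, 228065) (.node (.node .leaf (237285, 0, 14, 74703) .leaf) (237286, 0, 16, 28038) (.node .leaf (237287, 0, 16, 183229) .leaf))))) (237288, 0, 16, 205080) (.node (.node (.node (.node (.node .leaf (237289, 0, 16, 246142) .leaf) (237290, 0, 12, 160061) (.node .leaf (237291, 0, 16, 168283) .leaf)) (237292, 0, 17, 202811) (.node (.node .leaf (237293, 0, 18, 117075) .leaf) (237294, 0, 16, 149534) (.node .leaf (237295, 0, 15, 139553) .leaf))) (237328, 0, 17, 65792) (.node (.node (.node .leaf (237329, 0, 18, 182462) .leaf) (237330, 0, 16, 190834) (.node .leaf (237331, 0, 17, 45148) .leaf)) (237332, 0, 15, 228893) (.node (.node .leaf (237333, 0, 16, 75571) .leaf) (237334, 0, 18, 213470) (.node .leaf (237335, 0, 11, 184129) .leaf)))) (237336, 0, 13, 125852) (.node (.node (.node (.node .leaf (237337, 0, 15, 60710) .leaf) (237338, 0, 14, 132078) (.node .leaf (237339, 0, 14, 23232) .leaf)) (237340, 0, 12, 234625) (.node (.node .leaf (237341, 0, 17, 54277) .leaf) (237342, 0, 16,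 91206) (.node .leaf (237343, 0, 15, 140765) .leaf))) (237344, 0, 17, 133884) (.node (.node (.node .leaf (237345, 0, 16, 244510) .leaf) (237346, 0, 16, 123534) (.node .leaf (237347, 0, 16, 191291) .leaf)) (237348, 0, 12, 221787) (.node (.node .leaf (237349, 0, 16, 229949) .leaf) (237350, 0, 17, 236947) (.node .leaf (237351, 0, 15, 115901) .leaf))))))

/-- part of the orbit tree -/
def itp7_129 : Tree := (.node (.node (.node (.node (.node (.node .leaf (237353, 0, 16, 47438) .leaf) (237354, 0, 18, 67602) (.node .leaf (237355, 0, 15, 217404) .leaf)) (237356, 0, 16, 40829) (.node (.node .leaf (237357, 0, 11, 108453) .leaf) (237358, 0, 14, 6118) (.node .leaf (237359, 0, 17, 77345) .leaf))) (237392, 0, 18, 82526) (.node (.node (.node .leaf (237393, 0, 15, 107064) .leaf) (237394, 0, 14, 176632) (.node .leaf (237395, 0, 17, 59606) .leaf)) (237396, 0, 16, 97149) (.node (.node .leaf (237397, 0, 18, 105243) .leaf) (237398, 0, 15, 52965) (.node .leaf (237399, 0, 17, 52030) .leaf)))) (237400, 0, 13, 111382) (.node (.node (.node (.node .leaf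 (237401, 0, 14, 256568) .leaf) (237402, 0, 16, 154468) (.node .leaf (237403, 0, 16, 186245) .leaf)) (237404, 0, 17, 248843) (.node (.node .leaf (237405, 0, 17, 245379) .leaf) (237406, 0, 17, 134848) (.node .leaf (237407, 0, 12, 192166) .leaf))) (237408, 0, 14, 152182) (.node (.node (.node .leaf (237409, 0, 16, 2904) .leaf) (237410, 0, 16, 113156) (.node .leaf (237411, 0, 18, 254762) .leaf)) (237412, 0, 19, 11627) (.node (.node .leaf (237413, 0, 14, 59579) .leaf) (237414, 0, 17, 247065) (.node .leaf (237415, 0, 15, 105527) .leaf))))) (237416, 0, 15, 136294) (.node (.node (.node (.node (.node .leaf (237417, 0, 17, 57796) .leaf) (237418, 0, 17, 214083) (.node .leaf (237419, 0, 15, 199094) .leaf)) (237420, 0, 18, 51191) (.node (.node .leaf (237421, 0, 17, 171737) .leaf) (237422, 0, 13, 208773) (.node .leaf (237423, 0, 16, 236806) .leaf))) (237456, 0, 14, 49106) (.node (.node (.node .leaf (237457, 0, 11, 59463) .leaf) (237458, 0, 15, 88347) (.node .leaf (237459, 0, 15, 196661) .leaf)) (237460, 0, 16, 52852) (.node (.node .leaf (237461,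 0, 16, 169818) .leaf) (237462, 0, 14, 206342) (.node .leaf (237463, 0, 14, 98088) .leaf)))) (237464, 0, 15, 170570) (.node (.node (.node (.node .leaf (237465, 0, 16, 162348) .leaf) (237466, 0, 15, 248431) (.node .leaf (237467, 0, 18, 256681) .leaf)) (237468, 0, 15, 172905) (.node (.node .leaf (237469, 0, 13, 163270) .leaf) (237470, 0, 16, 258892) (.node .leaf (237471, 0, 16, 201514) .leaf))) (237472, 0, 17, 113301) (.node (.node (.node .leaf (237473, 0, 14, 76820) .leaf) (237474, 0, 11, 152295) (.node .leaf (237475, 0, 16, 31793) .leaf)) (237476, 0, 14, 128337) (.node (.node .leaf (237477, 0, 16, 105638) .leaf) (237478, 0, 16, 11770) (.node .leaf (237479, 0, 11, 160980) .leaf))))))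

/-- part of the orbit tree -/
def itp7_130 : Tree := (.node (.node (.node (.node (.node (.node .leaf (237481, 0, 16, 199052) .leaf) (237482, 0, 17, 178639) (.node .leaf (237483, 0, 16, 57685) .leaf)) (237484, 0, 19, 250057) (.node (.node .leaf (237485, 0, 16, 209071) .leaf) (237486, 0, 17, 164076) (.node .leaf (237487, 0, 17, 171592) .leaf))) (237520, 0, 18, 251220) (.node (.node (.node .leaf (237521, 0, 17, 45261) .leaf) (237522, 0, 17, 165233) (.node .leaf (237523, 0, 16, 219327) .leaf)) (237524, 0, 15, 38654) (.node (.node .leaf (237525, 0, 13, 184272) .leaf) (237526, 0, 15, 179282) (.node .leaf (237527, 0, 16, 154676) .leaf)))) (237528, 0, 17, 127180) (.node (.node (.node (.node .leaf (237529, 0, 16, 69802) .leaf) (237530, 0, 16, 125709) (.node .leaf (237531, 0, 14, 242211) .leaf)) (237532, 0, 15, 31842) (.node (.node .leaf (237533, 0, 16, 76169) .leaf) (237534, 0, 18, 234512) (.node .leaf (237535, 0, 13, 118078) .leaf))) (237536, 0, 19, 173812) (.node (.node (.node .leaf (237537, 0, 15, 244529) .leaf) (237538, 0, 15,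 259793) (.node .leaf (237539, 0, 18, 21315) .leaf)) (237540, 0, 18, 236802) (.node (.node .leaf (237541, 0, 17, 163761) .leaf) (237542, 0, 16, 30064) (.node .leaf (237543, 0, 13, 142430) .leaf))))) (237544, 0, 17, 67715) (.node (.node (.node (.node (.node .leaf (237545, 0, 15, 25354) .leaf) (237546, 0, 16, 188657) (.node .leaf (237547, 0, 15, 47583) .leaf)) (237548, 0, 16, 227230) (.node (.node .leaf (237549, 0, 17, 77488) .leaf) (237550, 0, 17, 40940) (.node .leaf (237551, 0, 17, 68108) .leaf))) (237568, 0, 16, 169148) (.node (.node (.node .leaf (237571, 0, 14, 206304) .leaf) (237573, 0, 17, 238934) (.node .leaf (237574, 0, 14, 197587) .leaf)) (237577, 0, 15, 9998) (.node (.node .leaf (237578, 0, 14, 104018) .leaf) (237580, 0, 17, 317) (.node .leaf (237583, 0, 18, 110689) .leaf)))) (237584, 0, 16, 57930) (.node (.node (.node (.node .leaf (237587, 0, 16, 46085) .leaf) (237589, 0, 18, 50297) (.node .leaf (237590, 0, 15, 95525) .leaf)) (237593, 0, 15, 152056) (.node (.node .leaf (237594, 0, 17, 160251) .leaf) (237596, 0, 17,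 203005) (.node .leaf (237599, 0, 16, 174270) .leaf))) (237601, 0, 12, 110744) (.node (.node (.node .leaf (237602, 0, 16, 75715) .leaf) (237604, 0, 15, 20165) (.node .leaf (237607, 0, 14, 130694) .leaf)) (237608, 0, 16, 197418) (.node (.node .leaf (237611, 0, 15, 176758) .leaf) (237613, 0, 17, 166715) (.node .leaf (237614, 0, 15, 211832) .leaf))))))

/-- part of the orbit tree -/
def itp7_131 : Tree := (.node itp7_127 (237224, 0, 11, 19358) itp7_128)

/-- part of the orbit tree -/
def itp7_132 : Tree := (.node itp7_129 (237480, 0, 16, 256490) itp7_130)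

/-- part of the orbit tree -/
def itp7_133 : Tree := (.node (.node (.node (.node (.node (.node .leaf (237618, 0, 14, 221078) .leaf) (237620, 0, 16, 145040) (.node .leaf (237623, 0, 15, 151809) .leaf)) (237624, 0, 16, 95708) (.node (.node .leaf (237627, 0, 16, 105064) .leaf) (237629, 0, 16, 87023) (.node .leaf (237630, 0, 14, 82733) .leaf))) (237632, 0, 13, 183350) (.node (.node (.node .leaf (237635, 0, 11, 108246) .leaf) (237637, 0, 18, 53200) (.node .leaf (237638, 0, 15, 219993) .leaf)) (237641, 0, 14, 32644) (.node (.node .leaf (237642, 0, 16, 221992) .leaf) (237644, 0, 11, 133678) (.node .leaf (237647, 0, 18, 125163) .leaf)))) (237648, 0, 16, 159424) (.node (.node (.node (.node .leaf (237651, 0, 18, 68508) .leaf) (237653, 0, 17, 40179) (.node .leaf (237654, 0, 12, 77231) .leaf)) (237657, 0, 15, 133490) (.node (.node .leaf (237658, 0, 14, 243758) .leaf) (237660, 0, 19, 143169) (.node .leaf (237663, 0, 15, 115256) .leaf))) (237665, 0, 14, 124946) (.node (.node (.node .leaf (237666, 0, 16, 22862) .leaf) (237668, 0, 17, 205891)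 (.node .leaf (237671, 0, 18, 168960) .leaf)) (237672, 0, 15, 80120) (.node (.node .leaf (237675, 0, 15, 191228) .leaf) (237677, 0, 17, 228755) (.node .leaf (237678, 0, 14, 20990) .leaf))))) (237681, 0, 16, 237284) (.node (.node (.node (.node (.node .leaf (237682, 0, 16, 13584) .leaf) (237684, 0, 16, 89110) (.node .leaf (237687, 0, 18, 60501) .leaf)) (237688, 0, 18, 77142) (.node (.node .leaf (237691, 0, 15, 39946) .leaf) (237693, 0, 16, 236008) (.node .leaf (237694, 0, 16, 47673) .leaf))) (237696, 0, 18, 125721) (.node (.node (.node .leaf (237699, 0, 16, 23386) .leaf) (237701, 0, 16, 78428) (.node .leaf (237702, 0, 17, 33311) .leaf)) (237705, 0, 13, 235367) (.node (.node .leaf (237706, 0, 18, 171684) .leaf) (237708, 0, 17, 242004) (.node .leaf (237711, 0, 17, 149473) .leaf)))) (237712, 0, 15, 217635) (.node (.node (.node (.node .leaf (237715, 0, 14, 189311) .leaf) (237717, 0, 18, 226320) (.node .leaf (237718, 0, 17, 181580) .leaf)) (237721, 0, 18, 87730) (.node (.node .leaf (237722, 0, 14, 20685) .leaf) (237724, 0, 15, 116642)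 (.node .leaf (237727, 0, 16, 16308) .leaf))) (237729, 0, 17, 131210) (.node (.node (.node .leaf (237730, 0, 17, 242093) .leaf) (237732, 0, 16, 186831) (.node .leaf (237735, 0, 12, 223628) .leaf)) (237736, 0, 17, 50548) (.node (.node .leaf (237739, 0, 11, 95543) .leaf) (237741, 0, 16, 7217) (.node .leaf (237742, 0, 15, 74796) .leaf))))))

/-- part of the orbit tree -/
def itp7_134 : Tree := (.node (.node (.node (.node (.node (.node .leaf (237746, 0, 15, 116892) .leaf) (237748, 0, 14, 20532) (.node .leaf (237751, 0, 15, 123240) .leaf)) (237752, 0, 15, 179489) (.node (.node .leaf (237755, 0, 17, 226537) .leaf) (237757, 0, 15, 189318) (.node .leaf (237758, 0, 16, 217818) .leaf))) (237760, 0, 17, 97375) (.node (.node (.node .leaf (237763, 0, 11, 52483) .leaf) (237765, 0, 15, 88684) (.node .leaf (237766, 0, 14, 60208) .leaf)) (237769, 0, 16, 249837) (.node (.node .leaf (237770, 0, 14, 128034) .leaf) (237772, 0, 16, 40228) (.node .leaf (237775, 0, 17, 77159) .leaf)))) (237776, 0, 16, 63946) (.node (.node (.node (.node .leaf (237779,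 0, 16, 84361) .leaf) (237781, 0, 16, 8335) (.node .leaf (237782, 0, 16, 171462) .leaf)) (237785, 0, 11, 146484) (.node (.node .leaf (237786, 0, 13, 232567) .leaf) (237788, 0, 15, 106280) (.node .leaf (237791, 0, 11, 11892) .leaf))) (237793, 0, 18, 153723) (.node (.node (.node .leaf (237794, 0, 13, 256295) .leaf) (237796, 0, 17, 163400) (.node .leaf (237799, 0, 15, 778) .leaf)) (237800, 0, 16, 241650) (.node (.node .leaf (237803, 0, 17, 139185) .leaf) (237805, 0, 14, 52730) (.node .leaf (237806, 0, 15, 97446) .leaf))))) (237809, 0, 14, 201305) (.node (.node (.node (.node (.node .leaf (237810, 0, 16, 106449) .leaf) (237812, 0, 15, 2238) (.node .leaf (237815, 0, 13, 113122) .leaf)) (237816, 0, 17, 120743) (.node (.node .leaf (237819, 0, 15, 26596) .leaf) (237821, 0, 18, 69346) (.node .leaf (237822, 0, 17, 199248) .leaf))) (237824, 0, 19, 160607) (.node (.node (.node .leaf (237827, 0, 17, 93732) .leaf) (237829, 0, 12, 152940) (.node .leaf (237830, 0, 14, 112481) .leaf)) (237833, 0, 15, 49389) (.node (.node .leaf (237834, 0, 17,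 94641) .leaf) (237836, 0, 16, 59102) (.node .leaf (237839, 0, 16, 225951) .leaf)))) (237840, 0, 18, 1449) (.node (.node (.node (.node .leaf (237843, 0, 15, 202353) .leaf) (237845, 0, 17, 163703) (.node .leaf (237846, 0, 17, 103110) .leaf)) (237849, 0, 16, 25548) (.node (.node .leaf (237850, 0, 17, 119695) .leaf) (237852, 0, 14, 167976) (.node .leaf (237855, 0, 17, 205172) .leaf))) (237857, 0, 17, 210420) (.node (.node (.node .leaf (237858, 0, 16, 58919) .leaf) (237860, 0, 16, 257201) (.node .leaf (237863, 0, 16, 154866) .leaf)) (237864, 0, 13, 126986) (.node (.node .leaf (237867, 0, 15, 16457) .leaf) (237869, 0, 18, 76111) (.node .leaf (237870, 0, 17, 39180) .leaf))))))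

/-- part of the orbit tree -/
def itp7_135 : Tree := (.node (.node (.node (.node (.node (.node .leaf (237874, 0, 15, 168145) .leaf) (237876, 0, 16, 103652) (.node .leaf (237879, 0, 17, 9383) .leaf)) (237880, 0, 18, 102975) (.node (.node .leaf (237883, 0, 11, 9059) .leaf) (237885, 0, 11, 111628) (.node .leaf (237886, 0, 16, 1360) .leaf))) (237888, 0, 15, 142293) (.node (.node (.node .leaf (237891, 0, 17, 132258) .leaf) (237893, 0, 17, 134630) (.node .leaf (237894, 0, 17, 244922) .leaf)) (237897, 0, 17, 94495) (.node (.node .leaf (237898, 0, 14, 49500) .leaf) (237900, 0, 16, 48724) (.node .leaf (237903, 0, 18, 6169) .leaf)))) (237904, 0, 15, 23843) (.node (.node (.node (.node .leaf (237907, 0, 17, 31991) .leaf) (237909, 0, 16, 71153) (.node .leaf (237910, 0, 16, 117324) .leaf)) (237913, 0, 17, 192145) (.node (.node .leaf (237914, 0, 15, 178441) .leaf) (237916, 0, 14, 182434) (.node .leaf (237919, 0, 17, 227838) .leaf))) (237921, 0, 13, 69617) (.node (.node (.node .leaf (237922, 0, 15, 126769) .leaf) (237924, 0, 16, 34359) (.node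 .leaf (237927, 0, 14, 39070) .leaf)) (237928, 0, 15, 244803) (.node (.node .leaf (237931, 0, 18, 134431) .leaf) (237933, 0, 16, 236144) (.node .leaf (237934, 0, 16, 258954) .leaf))))) (237937, 0, 14, 227591) (.node (.node (.node (.node (.node .leaf (237938, 0, 17, 235364) .leaf) (237940, 0, 17, 196194) (.node .leaf (237943, 0, 16, 192104) .leaf)) (237944, 0, 17, 58073) (.node (.node .leaf (237947, 0, 13, 31721) .leaf) (237949, 0, 17, 15260) (.node .leaf (237950, 0, 16, 101343) .leaf))) (237952, 0, 15, 115510) (.node (.node (.node .leaf (237955, 0, 16, 29290) .leaf) (237957, 0, 14, 167976) (.node .leaf (237958, 0, 15, 21593) .leaf)) (237961, 0, 17, 225412) (.node (.node .leaf (237962, 0, 17, 180696) .leaf) (237964, 0, 17, 21974) (.node .leaf (237967, 0, 14, 190443) .leaf)))) (237968, 0, 17, 243136) (.node (.node (.node (.node .leaf (237971, 0, 16, 132252) .leaf) (237973, 0, 16, 59517) (.node .leaf (237974, 0, 14, 139951) .leaf)) (237977, 0, 13, 67186) (.node (.node .leaf (237978, 0, 17, 214149) .leaf) (237980, 0, 16, 73793)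 (.node .leaf (237983, 0, 15, 236992) .leaf))) (237985, 0, 13, 190226) (.node (.node (.node .leaf (237986, 0, 17, 218702) .leaf) (237988, 0, 15, 180513) (.node .leaf (237991, 0, 14, 225405) .leaf)) (237992, 0, 15, 21664) (.node (.node .leaf (237995, 0, 17, 124412) .leaf) (237997, 0, 16, 29331) (.node .leaf (237998, 0, 14, 134662) .leaf))))))

/-- part of the orbit tree -/
def itp7_136 : Tree := (.node (.node (.node (.node (.node (.node .leaf (238002, 0, 17, 158440) .leaf) (238004, 0, 17, 197614) (.node .leaf (238007, 0, 14, 67211) .leaf)) (238008, 0, 14, 139862) (.node (.node .leaf (238011, 0, 18, 234250) .leaf) (238013, 0, 18, 116240) (.node .leaf (238014, 0, 17, 30291) .leaf))) (238016, 0, 17, 105404) (.node (.node (.node .leaf (238019, 0, 18, 10976) .leaf) (238021, 0, 15, 129710) (.node .leaf (238022, 0, 15, 3283) .leaf)) (238025, 0, 18, 255509) (.node (.node .leaf (238026, 0, 17, 170322) .leaf) (238028, 0, 14, 212816) (.node .leaf (238031, 0, 16, 180065) .leaf)))) (238032, 0, 17, 257354) (.node (.node (.node (.node .leaf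 (238035, 0, 13, 191485) .leaf) (238037, 0, 17, 248697) (.node .leaf (238038, 0, 15, 144056) .leaf)) (238041, 0, 19, 106048) (.node (.node .leaf (238042, 0, 15, 61348) .leaf) (238044, 0, 16, 96459) (.node .leaf (238047, 0, 15, 63302) .leaf))) (238049, 0, 16, 180120) (.node (.node (.node .leaf (238050, 0, 17, 227387) .leaf) (238052, 0, 18, 135485) (.node .leaf (238055, 0, 13, 207095) .leaf)) (238056, 0, 15, 3114) (.node (.node .leaf (238059, 0, 14, 114038) .leaf) (238061, 0, 16, 54467) (.node .leaf (238062, 0, 18, 91264) .leaf))))) (238065, 0, 15, 51566) (.node (.node (.node (.node (.node .leaf (238066, 0, 14, 96306) .leaf) (238068, 0, 11, 26984) (.node .leaf (238071, 0, 16, 89601) .leaf)) (238072, 0, 16, 161235) (.node (.node .leaf (238075, 0, 14, 248704) .leaf) (238077, 0, 11, 175254) (.node .leaf (238078, 0, 17, 257459) .leaf))) (238082, 0, 14, 96738) (.node (.node (.node .leaf (238083, 0, 13, 188448) .leaf) (238084, 0, 18, 61069) (.node .leaf (238085, 0, 15, 231718) .leaf)) (238088, 0, 15, 162572) (.node (.node .leaf (238089,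 0, 16, 103837) .leaf) (238094, 0, 13, 7421) (.node .leaf (238095, 0, 15, 64667) .leaf)))) (238098, 0, 17, 200468) (.node (.node (.node (.node .leaf (238099, 0, 17, 87610) .leaf) (238100, 0, 18, 170107) (.node .leaf (238101, 0, 16, 49493) .leaf)) (238104, 0, 16, 200110) (.node (.node .leaf (238105, 0, 16, 152788) .leaf) (238110, 0, 16, 105109) (.node .leaf (238111, 0, 15, 165070) .leaf))) (238112, 0, 17, 257178) (.node (.node (.node .leaf (238113, 0, 15, 112052) .leaf) (238118, 0, 16, 162805) (.node .leaf (238119, 0, 13, 119542) .leaf)) (238122, 0, 17, 208427) (.node (.node .leaf (238123, 0, 17, 178010) .leaf) (238124, 0, 15, 96539) .leaf)))))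

/-- part of the orbit tree -/
def itp7_137 : Tree := (.node itp7_133 (237745, 0, 17, 30943) itp7_134)

/-- part of the orbit tree -/
def itp7_138 : Tree := (.node itp7_135 (238001, 0, 14, 37348) itp7_136)

/-- part of the orbit tree -/
def itp7_139 : Tree := (.node itp7_131 (237352, 0, 17, 98016) itp7_132)

/-- part of the orbit tree -/
def itp7_140 : Tree := (.node itp7_137 (237873, 0, 15, 205197) itp7_138)

/-- part of the orbit tree -/
def itp7_141 : Tree := (.node (.node (.node (.node (.node (.node .leaf (238128, 0, 17, 140227) .leaf) (238129, 0, 13, 181157) (.node .leaf (238134, 0, 17, 215749) .leaf)) (238135, 0, 15, 152621) (.node (.node .leaf (238138, 0, 15, 87678) .leaf) (238139, 0, 14, 49580) (.node .leaf (238140, 0, 15, 200685) .leaf))) (238141, 0, 17, 57118) (.node (.node (.node .leaf (238146, 0, 17, 92864) .leaf) (238147, 0, 17, 227398) (.node .leaf (238148, 0, 14, 966) .leaf)) (238149, 0, 13, 192297) (.node (.node .leaf (238152, 0, 15, 140166) .leaf) (238153, 0, 17, 196379) (.node .leaf (238158, 0, 15, 226939)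 .leaf)))) (238159, 0, 15, 126407) (.node (.node (.node (.node .leaf (238162, 0, 17, 201365) .leaf) (238163, 0, 16, 69296) (.node .leaf (238164, 0, 16, 162707) .leaf)) (238165, 0, 17, 170997) (.node (.node .leaf (238168, 0, 18, 21872) .leaf) (238169, 0, 16, 134238) (.node .leaf (238174, 0, 13, 69166) .leaf))) (238175, 0, 17, 236337) (.node (.node (.node .leaf (238176, 0, 15, 209168) .leaf) (238177, 0, 16, 250230) (.node .leaf (238182, 0, 19, 153622) .leaf)) (238183, 0, 17, 31313) (.node (.node .leaf (238186, 0, 17, 17581) .leaf) (238187, 0, 14, 42187) (.node .leaf (238188, 0, 16, 74129) .leaf))))) (238189, 0, 17, 227519) (.node (.node (.node (.node (.node .leaf (238192, 0, 17, 84293) .leaf) (238193, 0, 17, 108835) (.node .leaf (238198, 0, 14, 8259) .leaf)) (238199, 0, 13, 49189) (.node (.node .leaf (238202, 0, 16, 146680) .leaf) (238203, 0, 16, 39206) (.node .leaf (238204, 0, 18, 218622) .leaf))) (238205, 0, 14, 243096) (.node (.node (.node .leaf (238210, 0, 16, 38732) .leaf) (238211, 0, 15, 37029) (.node .leaf (238212, 0, 15,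 220900) .leaf)) (238213, 0, 15, 67530) (.node (.node .leaf (238216, 0, 14, 254705) .leaf) (238217, 0, 16, 234059) (.node .leaf (238222, 0, 18, 166903) .leaf)))) (238223, 0, 18, 132388) (.node (.node (.node (.node .leaf (238226, 0, 17, 192281) .leaf) (238227, 0, 13, 135039) (.node .leaf (238228, 0, 17, 75794) .leaf)) (238229, 0, 15, 222841) (.node (.node .leaf (238232, 0, 16, 105124) .leaf) (238233, 0, 18, 124093) (.node .leaf (238238, 0, 12, 62370) .leaf))) (238239, 0, 16, 5060) (.node (.node (.node .leaf (238240, 0, 17, 183452) .leaf) (238241, 0, 17, 132573) (.node .leaf (238246, 0, 14, 117660) .leaf)) (238247, 0, 13, 234162) (.node (.node .leaf (238250, 0, 14, 112929) .leaf) (238251, 0, 18, 67379) (.node .leaf (238252, 0, 17, 53287) .leaf))))))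

/-- part of the orbit tree -/
def itp7_142 : Tree := (.node (.node (.node (.node (.node (.node .leaf (238256, 0, 15, 141829) .leaf) (238257, 0, 15, 29483) (.node .leaf (238262, 0, 15, 122319) .leaf)) (238263, 0, 18, 123972) (.node (.node .leaf (238266, 0, 10, 246132) .leaf) (238267, 0, 16, 225733) (.node .leaf (238268, 0, 17, 49028) .leaf))) (238269, 0, 17, 149524) (.node (.node (.node .leaf (238274, 0, 14, 168193) .leaf) (238275, 0, 15, 204204) (.node .leaf (238276, 0, 14, 169164) .leaf)) (238277, 0, 16, 160938) (.node (.node .leaf (238280, 0, 14, 103407) .leaf) (238281, 0, 18, 248513) (.node .leaf (238286, 0, 16, 1152) .leaf)))) (238287, 0, 15, 155054) (.node (.node (.node (.node .leaf (238290, 0, 15, 59383) .leaf) (238291, 0, 16, 91641) (.node .leaf (238292, 0, 14, 60569) .leaf)) (238293, 0, 10, 3327) (.node (.node .leaf (238296, 0, 14, 192546) .leaf) (238297, 0, 18, 135236) (.node .leaf (238302, 0, 13, 160374) .leaf))) (238303, 0, 15, 11096) (.node (.node (.node .leaf (238304, 0, 15, 1145) .leaf) (238305, 0, 18, 154967)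 (.node .leaf (238310, 0, 16, 53020) .leaf)) (238311, 0, 11, 12154) (.node (.node .leaf (238314, 0, 13, 185255) .leaf) (238315, 0, 17, 90041) (.node .leaf (238316, 0, 13, 168440) .leaf))))) (238317, 0, 14, 219847) (.node (.node (.node (.node (.node .leaf (238320, 0, 16, 160399) .leaf) (238321, 0, 16, 11169) (.node .leaf (238326, 0, 15, 255456) .leaf)) (238327, 0, 14, 113870) (.node (.node .leaf (238330, 0, 15, 94305) .leaf) (238331, 0, 16, 19348) (.node .leaf (238332, 0, 16, 115444) .leaf))) (238333, 0, 17, 74386) (.node (.node (.node .leaf (238338, 0, 17, 105985) .leaf) (238339, 0, 13, 247599) (.node .leaf (238340, 0, 17, 52020) .leaf)) (238341, 0, 18, 151616) (.node (.node .leaf (238344, 0, 15, 171247) .leaf) (238345, 0, 15, 145385) (.node .leaf (238350, 0, 16, 245385) .leaf)))) (238351, 0, 17, 220911) (.node (.node (.node (.node .leaf (238354, 0, 17, 256247) .leaf) (238355, 0, 17, 211457) (.node .leaf (238356, 0, 15, 163736) .leaf)) (238357, 0, 15, 9910) (.node (.node .leaf (238360, 0, 15, 45018) .leaf) (238361, 0, 17, 176951)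 (.node .leaf (238366, 0, 15, 116444) .leaf))) (238367, 0, 17, 75450) (.node (.node (.node .leaf (238368, 0, 16, 199545) .leaf) (238369, 0, 14, 86615) (.node .leaf (238374, 0, 17, 171030) .leaf)) (238375, 0, 12, 159874) (.node (.node .leaf (238378, 0, 15, 2455) .leaf) (238379, 0, 14, 27705) (.node .leaf (238380, 0, 17, 106232) .leaf))))))

/-- part of the orbit tree -/
def itp7_143 : Tree := (.node (.node (.node (.node (.node (.node .leaf (238384, 0, 16, 98743) .leaf) (238385, 0, 12, 90577) (.node .leaf (238390, 0, 16, 59569) .leaf)) (238391, 0, 17, 2263) (.node (.node .leaf (238394, 0, 12, 163681) .leaf) (238395, 0, 15, 136300) (.node .leaf (238396, 0, 12, 256014) .leaf))) (238397, 0, 15, 228714) (.node (.node (.node .leaf (238402, 0, 17, 116363) .leaf) (238403, 0, 15, 141522) (.node .leaf (238404, 0, 18, 20964) .leaf)) (238405, 0, 16, 213460) (.node (.node .leaf (238408, 0, 13, 113929) .leaf) (238409, 0, 15, 89455) (.node .leaf (238414, 0, 14, 54287) .leaf)))) (238415, 0, 18, 13417) (.node (.node (.node (.node .leaf (238418,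 0, 14, 45281) .leaf) (238419, 0, 16, 125267) (.node .leaf (238420, 0, 13, 121319) .leaf)) (238421, 0, 15, 32316) (.node (.node .leaf (238424, 0, 17, 45715) .leaf) (238425, 0, 16, 206138) (.node .leaf (238430, 0, 16, 75260) .leaf))) (238431, 0, 16, 150588) (.node (.node (.node .leaf (238432, 0, 18, 37732) .leaf) (238433, 0, 18, 29442) (.node .leaf (238438, 0, 16, 129634) .leaf)) (238439, 0, 17, 40370) (.node (.node .leaf (238442, 0, 13, 255705) .leaf) (238443, 0, 17, 198335) (.node .leaf (238444, 0, 15, 116338) .leaf))))) (238445, 0, 14, 159673) (.node (.node (.node (.node (.node .leaf (238448, 0, 17, 191281) .leaf) (238449, 0, 16, 133975) (.node .leaf (238454, 0, 16, 45674) .leaf)) (238455, 0, 16, 221777) (.node (.node .leaf (238458, 0, 17, 106124) .leaf) (238459, 0, 14, 32453) (.node .leaf (238460, 0, 14, 63370) .leaf))) (238461, 0, 17, 125354) (.node (.node (.node .leaf (238466, 0, 14, 142952) .leaf) (238467, 0, 19, 251230) (.node .leaf (238468, 0, 14, 154686) .leaf)) (238469, 0, 17, 179288) (.node (.node .leaf (238472, 0,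 15, 76934) .leaf) (238473, 0, 16, 226728) (.node .leaf (238478, 0, 17, 48105) .leaf)))) (238479, 0, 16, 189127) (.node (.node (.node (.node .leaf (238482, 0, 17, 22686) .leaf) (238483, 0, 16, 109835) (.node .leaf (238484, 0, 15, 118769) .leaf)) (238485, 0, 16, 235231) (.node (.node .leaf (238488, 0, 15, 145616) .leaf) (238489, 0, 15, 66398) (.node .leaf (238494, 0, 17, 217558) .leaf))) (238495, 0, 17, 242096) (.node (.node (.node .leaf (238496, 0, 14, 93928) .leaf) (238497, 0, 18, 188990) (.node .leaf (238502, 0, 15, 2030) .leaf)) (238503, 0, 15, 59272) (.node (.node .leaf (238506, 0, 14, 138069) .leaf) (238507, 0, 14, 123088) (.node .leaf (238508, 0, 19, 142993) .leaf))))))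

/-- part of the orbit tree -/
def itp7_144 : Tree := (.node (.node (.node (.node (.node (.node .leaf (238512, 0, 17, 183782) .leaf) (238513, 0, 14, 38088) (.node .leaf (238518, 0, 17, 219785) .leaf)) (238519, 0, 19, 66471) (.node (.node .leaf (238522, 0, 15, 25344) .leaf) (238523, 0, 10, 235046) (.node .leaf (238524, 0, 16, 22631) .leaf))) (238525, 0, 17, 131401) (.node (.node (.node .leaf (238530, 0, 15, 161506) .leaf) (238531, 0, 13, 49112) (.node .leaf (238532, 0, 16, 254349) .leaf)) (238533, 0, 14, 120542) (.node (.node .leaf (238536, 0, 17, 207363) .leaf) (238537, 0, 17, 248421) (.node .leaf (238542, 0, 9, 58211) .leaf)))) (238543, 0, 15, 178765) (.node (.node (.node (.node .leaf (238546, 0, 19, 141291) .leaf) (238547, 0, 17, 182157) (.node .leaf (238548, 0, 17, 216813) .leaf)) (238549, 0, 15, 249429) (.node (.node .leaf (238552, 0, 18, 197370) .leaf) (238553, 0, 15, 89044) (.node .leaf (238558, 0, 13, 15184) .leaf))) (238559, 0, 16, 52411) (.node (.node (.node .leaf (238560, 0, 16, 58266) .leaf) (238561, 0, 15, 178868)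 (.node .leaf (238566, 0, 16, 224616) .leaf)) (238567, 0, 16, 208347) (.node (.node .leaf (238570, 0, 13, 94675) .leaf) (238571, 0, 10, 112730) (.node .leaf (238572, 0, 14, 161307) .leaf))))) (238573, 0, 16, 12085) (.node (.node (.node (.node (.node .leaf (238576, 0, 17, 169324) .leaf) (238577, 0, 15, 40029) (.node .leaf (238582, 0, 17, 197123) .leaf)) (238583, 0, 13, 88877) (.node (.node .leaf (238586, 0, 13, 199046) .leaf) (238587, 0, 15, 249516) (.node .leaf (238588, 0, 13, 237) .leaf))) (238589, 0, 14, 164070) (.node (.node (.node .leaf (238593, 0, 16, 165597) .leaf) (238595, 0, 18, 10260) (.node .leaf (238596, 0, 17, 255573) .leaf)) (238598, 0, 13, 200637) (.node (.node .leaf (238600, 0, 16, 17187) .leaf) (238602, 0, 16, 70406) (.node .leaf (238605, 0, 14, 87527) .leaf)))) (238607, 0, 17, 179605) (.node (.node (.node (.node .leaf (238609, 0, 16, 65160) .leaf) (238611, 0, 14, 155362) (.node .leaf (238612, 0, 15, 10189) .leaf)) (238614, 0, 15, 96232) (.node (.node .leaf (238616, 0, 18, 146294) .leaf) (238618, 0, 15, 60752)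 (.node .leaf (238621, 0, 10, 205585) .leaf))) (238623, 0, 16, 52067) (.node (.node (.node .leaf (238624, 0, 18, 93518) .leaf) (238626, 0, 17, 15723) (.node .leaf (238629, 0, 16, 49777) .leaf)) (238631, 0, 17, 207363) (.node (.node .leaf (238633, 0, 16, 239792) .leaf) (238635, 0, 19, 194709) (.node .leaf (238636, 0, 15, 160195) .leaf))))))

/-- part of the orbit tree -/
def itp7_145 : Tree := (.node itp7_141 (238253, 0, 16, 36956) itp7_142)

/-- part of the orbit tree -/
def itp7_146 : Tree := (.node itp7_143 (238509, 0, 14, 30655) itp7_144)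

/-- part of the orbit tree -/
def itp7_147 : Tree := (.node (.node (.node (.node (.node (.node .leaf (238640, 0, 15, 168628) .leaf) (238642, 0, 18, 96966) (.node .leaf (238645, 0, 16, 177287) .leaf)) (238647, 0, 15, 171131) (.node (.node .leaf (238649, 0, 16, 8454) .leaf) (238651, 0, 17, 32960) (.node .leaf (238652, 0, 13, 1845) .leaf))) (238654, 0, 16, 22917) (.node (.node (.node .leaf (238657, 0, 17, 126043) .leaf) (238659, 0, 16, 48254) (.node .leaf (238660, 0, 16, 245471) .leaf)) (238662, 0, 16, 22189) (.node (.node .leaf (238664, 0, 18, 76638) .leaf) (238666, 0, 16, 181036) (.node .leaf (238669, 0, 17, 68973) .leaf)))) (238671, 0, 13, 189727) (.node (.node (.node (.node .leaf (238673, 0, 14, 234510) .leaf) (238675, 0, 17, 181291) (.node .leaf (238676, 0, 14, 116777) .leaf)) (238678, 0, 17, 139355) (.node (.node .leaf (238680, 0, 15, 220584) .leaf) (238682, 0, 17, 46554) (.node .leaf (238685, 0, 15, 100533) .leaf))) (238687, 0, 18, 37865) (.node (.node (.node .leaf (238688, 0, 15, 133064) .leaf) (238690, 0, 16, 218298)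 (.node .leaf (238693, 0, 17, 39675) .leaf)) (238695, 0, 16, 225929) (.node (.node .leaf (238697, 0, 17, 49718) .leaf) (238699, 0, 19, 102931) (.node .leaf (238700, 0, 12, 7027) .leaf))))) (238702, 0, 14, 115003) (.node (.node (.node (.node (.node .leaf (238704, 0, 15, 182846) .leaf) (238706, 0, 18, 74316) (.node .leaf (238709, 0, 16, 42712) .leaf)) (238711, 0, 16, 66687) (.node (.node .leaf (238713, 0, 15, 31116) .leaf) (238715, 0, 13, 233982) (.node .leaf (238716, 0, 15, 24511) .leaf))) (238718, 0, 18, 243661) (.node (.node (.node .leaf (238721, 0, 15, 4567) .leaf) (238723, 0, 13, 235645) (.node .leaf (238724, 0, 14, 22076) .leaf)) (238726, 0, 14, 245326) (.node (.node .leaf (238728, 0, 18, 185385) .leaf) (238730, 0, 16, 230412) (.node .leaf (238733, 0, 15, 189838) .leaf)))) (238735, 0, 16, 220489) (.node (.node (.node (.node .leaf (238737, 0, 17, 158082) .leaf) (238739, 0, 11, 126603) (.node .leaf (238740, 0, 17, 139466) .leaf)) (238742, 0, 15, 254178) (.node (.node .leaf (238744, 0, 14, 44156) .leaf) (238746, 0, 17, 220473)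 (.node .leaf (238749, 0, 17, 30009) .leaf))) (238751, 0, 16, 75036) (.node (.node (.node .leaf (238752, 0, 18, 260676) .leaf) (238754, 0, 17, 48217) (.node .leaf (238757, 0, 15, 225816) .leaf)) (238759, 0, 15, 39530) (.node (.node .leaf (238761, 0, 16, 81850) .leaf) (238763, 0, 17, 28575) (.node .leaf (238764, 0, 15, 124671) .leaf))))))

/-- part of the orbit tree -/
def itp7_148 : Tree := (.node (.node (.node (.node (.node (.node .leaf (238768, 0, 16, 74461) .leaf) (238770, 0, 17, 53812) (.node .leaf (238773, 0, 15, 88916) .leaf)) (238775, 0, 14, 2929) (.node (.node .leaf (238777, 0, 17, 233839) .leaf) (238779, 0, 15, 31005) (.node .leaf (238780, 0, 15, 243548) .leaf))) (238782, 0, 15, 183951) (.node (.node (.node .leaf (238785, 0, 15, 228177) .leaf) (238787, 0, 16, 142196) (.node .leaf (238788, 0, 19, 238100) .leaf)) (238790, 0, 9, 255684) (.node (.node .leaf (238792, 0, 15, 114351) .leaf) (238794, 0, 16, 61066) (.node .leaf (238797, 0, 16, 92138) .leaf)))) (238799, 0, 10, 14287) (.node (.node (.node (.node .leaf (238801,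 0, 14, 66308) .leaf) (238803, 0, 14, 21281) (.node .leaf (238804, 0, 16, 161856) .leaf)) (238806, 0, 17, 35428) (.node (.node .leaf (238808, 0, 15, 247546) .leaf) (238810, 0, 16, 169695) (.node .leaf (238813, 0, 17, 204735) .leaf))) (238815, 0, 18, 151450) (.node (.node (.node .leaf (238816, 0, 13, 199841) .leaf) (238818, 0, 11, 58579) (.node .leaf (238821, 0, 18, 18823) .leaf)) (238823, 0, 17, 72098) (.node (.node .leaf (238825, 0, 17, 114451) .leaf) (238827, 0, 15, 153441) (.node .leaf (238828, 0, 19, 104736) .leaf))))) (238830, 0, 15, 160082) (.node (.node (.node (.node (.node .leaf (238832, 0, 17, 96855) .leaf) (238834, 0, 18, 168485) (.node .leaf (238837, 0, 16, 89188) .leaf)) (238839, 0, 16, 177174) (.node (.node .leaf (238841, 0, 17, 11625) .leaf) (238843, 0, 15, 8599) (.node .leaf (238844, 0, 13, 258006) .leaf))) (238846, 0, 14, 107529) (.node (.node (.node .leaf (238849, 0, 17, 206725) .leaf) (238851, 0, 17, 53239) (.node .leaf (238852, 0, 16, 130540) .leaf)) (238854, 0, 13, 44489) (.node (.node .leaf (238856, 0, 18,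 103479) .leaf) (238858, 0, 16, 162885) (.node .leaf (238861, 0, 16, 210962) .leaf)))) (238863, 0, 14, 154230) (.node (.node (.node (.node .leaf (238865, 0, 17, 86387) .leaf) (238867, 0, 15, 134361) (.node .leaf (238868, 0, 17, 230841) .leaf)) (238870, 0, 17, 185756) (.node (.node .leaf (238872, 0, 16, 104706) .leaf) (238874, 0, 16, 2739) (.node .leaf (238877, 0, 15, 81991) .leaf))) (238879, 0, 15, 4194) (.node (.node (.node .leaf (238880, 0, 18, 929) .leaf) (238882, 0, 15, 256979) (.node .leaf (238885, 0, 16, 136831) .leaf)) (238887, 0, 16, 249312) (.node (.node .leaf (238889, 0, 16, 176147) .leaf) (238891, 0, 14, 88801) (.node .leaf (238892, 0, 14, 169504) .leaf))))))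

/-- part of the orbit tree -/
def itp7_149 : Tree := (.node (.node (.node (.node (.node (.node .leaf (238896, 0, 18, 161111) .leaf) (238898, 0, 11, 124746) (.node .leaf (238901, 0, 15, 152420) .leaf)) (238903, 0, 17, 81423) (.node (.node .leaf (238905, 0, 15, 160401) .leaf) (238907, 0, 12, 205492) (.node .leaf (238908, 0, 14, 175060) .leaf))) (238910, 0, 16, 198820) (.node (.node (.node .leaf (238913, 0, 16, 151087) .leaf) (238915, 0, 15, 38781) (.node .leaf (238916, 0, 15, 219452) .leaf)) (238918, 0, 15, 45390) (.node (.node .leaf (238920, 0, 16, 35793) .leaf) (238922, 0, 17, 121844) (.node .leaf (238925, 0, 12, 21140) .leaf)))) (238927, 0, 16, 66225) (.node (.node (.node (.node .leaf (238929, 0, 17, 13946) .leaf) (238931, 0, 18, 91743) (.node .leaf (238932, 0, 17, 61247) .leaf)) (238934, 0, 16, 114458) (.node (.node .leaf (238936, 0, 14, 193412) .leaf) (238938, 0, 18, 21049) (.node .leaf (238941, 0, 18, 236664) .leaf))) (238943, 0, 15, 228068) (.node (.node (.node .leaf (238944, 0, 17, 23339) .leaf) (238946, 0, 17, 242521)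 (.node .leaf (238949, 0, 16, 32024) .leaf)) (238951, 0, 18, 11484) (.node (.node .leaf (238953, 0, 17, 221250) .leaf) (238955, 0, 14, 65771) (.node .leaf (238956, 0, 16, 183978) .leaf))))) (238958, 0, 14, 190754) (.node (.node (.node (.node (.node .leaf (238960, 0, 16, 142813) .leaf) (238962, 0, 15, 167372) (.node .leaf (238965, 0, 16, 134126) .leaf)) (238967, 0, 17, 123804) (.node (.node .leaf (238969, 0, 17, 71703) .leaf) (238971, 0, 10, 226845) (.node .leaf (238972, 0, 12, 115026) .leaf))) (238974, 0, 15, 217134) (.node (.node (.node .leaf (238977, 0, 15, 242595) .leaf) (238979, 0, 15, 189318) (.node .leaf (238980, 0, 14, 223974) .leaf)) (238982, 0, 18, 219565) (.node (.node .leaf (238984, 0, 13, 140382) .leaf) (238986, 0, 18, 117804) (.node .leaf (238989, 0, 18, 110360) .leaf)))) (238991, 0, 14, 125471) (.node (.node (.node (.node .leaf (238993, 0, 13, 117750) .leaf) (238995, 0, 16, 39891) (.node .leaf (238996, 0, 18, 70323) .leaf)) (238998, 0, 12, 77659) (.node (.node .leaf (239000, 0, 8, 21160) .leaf) (239002, 0, 14,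 244442) (.node .leaf (239005, 0, 17, 29851) .leaf))) (239007, 0, 18, 165736) (.node (.node (.node .leaf (239008, 0, 19, 242632) .leaf) (239010, 0, 16, 23482) (.node .leaf (239013, 0, 16, 33141) .leaf)) (239015, 0, 15, 119120) (.node (.node .leaf (239017, 0, 17, 171470) .leaf) (239019, 0, 17, 249323) (.node .leaf (239020, 0, 13, 75337) .leaf))))))

/-- part of the orbit tree -/
def itp7_150 : Tree := (.node (.node (.node (.node (.node (.node .leaf (239024, 0, 17, 139365) .leaf) (239026, 0, 17, 225344) (.node .leaf (239029, 0, 9, 194848) .leaf)) (239031, 0, 18, 134015) (.node (.node .leaf (239033, 0, 14, 226956) .leaf) (239035, 0, 12, 112062) (.node .leaf (239036, 0, 15, 217279) .leaf))) (239038, 0, 15, 93435) (.node (.node (.node .leaf (239041, 0, 11, 55589) .leaf) (239043, 0, 17, 206612) (.node .leaf (239044, 0, 17, 96) .leaf)) (239046, 0, 17, 196903) (.node (.node .leaf (239048, 0, 15, 163028) .leaf) (239050, 0, 17, 216318) (.node .leaf (239053, 0, 17, 181662) .leaf)))) (239055, 0, 16, 111253) (.node (.node (.node (.node .leaf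 (239057, 0, 18, 178576) .leaf) (239059, 0, 18, 258389) (.node .leaf (239060, 0, 16, 171939) .leaf)) (239062, 0, 16, 96209) (.node (.node .leaf (239064, 0, 16, 25742) .leaf) (239066, 0, 15, 79019) (.node .leaf (239069, 0, 16, 48587) .leaf))) (239071, 0, 18, 126446) (.node (.node (.node .leaf (239072, 0, 19, 209590) .leaf) (239074, 0, 16, 816) (.node .leaf (239077, 0, 17, 257011) .leaf)) (239079, 0, 15, 9475) (.node (.node .leaf (239081, 0, 16, 128840) .leaf) (239083, 0, 17, 176258) (.node .leaf (239084, 0, 10, 97987) .leaf))))) (239086, 0, 15, 169649) (.node (.node (.node (.node (.node .leaf (239088, 0, 13, 105908) .leaf) (239090, 0, 18, 161222) (.node .leaf (239093, 0, 15, 113543) .leaf)) (239095, 0, 14, 152565) (.node (.node .leaf (239097, 0, 17, 233245) .leaf) (239099, 0, 16, 188216) (.node .leaf (239100, 0, 17, 218712) .leaf))) (239102, 0, 17, 57415) (.node (.node (.node .leaf (239104, 0, 11, 150219) .leaf) (239105, 0, 17, 247114) (.node .leaf (239106, 0, 16, 203502) .leaf)) (239107, 0, 14, 260744) (.node (.node .leaf (239116,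 0, 15, 199141) .leaf) (239117, 0, 18, 86219) (.node .leaf (239118, 0, 17, 67157) .leaf)))) (239119, 0, 15, 178361) (.node (.node (.node (.node .leaf (239120, 0, 16, 256658) .leaf) (239121, 0, 16, 111548) (.node .leaf (239122, 0, 13, 90811) .leaf)) (239123, 0, 15, 154574) (.node (.node .leaf (239132, 0, 17, 98067) .leaf) (239133, 0, 15, 206397) (.node .leaf (239134, 0, 16, 228864) .leaf))) (239135, 0, 18, 52815) (.node (.node (.node .leaf (239140, 0, 16, 171635) .leaf) (239141, 0, 9, 51037) (.node .leaf (239142, 0, 10, 10296) .leaf)) (239143, 0, 10, 208687) (.node (.node .leaf (239144, 0, 18, 3058) .leaf) (239145, 0, 17, 230592) .leaf)))))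

/-- part of the orbit tree -/
def itp7_151 : Tree := (.node itp7_147 (238766, 0, 17, 141784) itp7_148)

/-- part of the orbit tree -/
def itp7_152 : Tree := (.node itp7_149 (239022, 0, 16, 201902) itp7_150)

/-- part of the orbit tree -/
def itp7_153 : Tree := (.node itp7_145 (238381, 0, 18, 247766) itp7_146)

/-- part of the orbit tree -/
def itp7_154 : Tree := (.node itp7_151 (238894, 0, 16, 97874) itp7_152)

/-- part of the orbit tree -/
def itp7_155 : Tree := (.node itp7_139 (237617, 0, 17, 192469) itp7_140)

/-- part of the orbit tree -/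
def itp7_156 : Tree := (.node itp7_153 (238638, 0, 15, 104881) itp7_154)

/-- part of the orbit tree -/
def itp7_157 : Tree := (.node (.node (.node (.node (.node (.node .leaf (239147, 0, 11, 185573) .leaf) (239156, 0, 14, 196680) (.node .leaf (239157, 0, 16, 253998) .leaf)) (239158, 0, 16, 196855) (.node (.node .leaf (239159, 0, 14, 176139) .leaf) (239160, 0, 19, 163076) (.node .leaf (239161, 0, 17, 130197) .leaf))) (239162, 0, 16, 19670) (.node (.node (.node .leaf (239163, 0, 18, 44208) .leaf) (239168, 0, 17, 115950) (.node .leaf (239169, 0, 14, 114731) .leaf)) (239170, 0, 16, 142492) (.node (.node .leaf (239171, 0, 17, 36878) .leaf) (239180, 0, 17, 212214) (.node .leaf (239181, 0, 7, 67649) .leaf)))) (239182, 0, 13, 47389) (.node (.node (.node (.node .leaf (239183, 0, 18, 188467) .leaf) (239184, 0, 17, 219160) (.node .leaf (239185, 0, 18, 125750) .leaf)) (239186, 0, 14, 133181) (.node (.node .leaf (239187, 0, 19, 131908) .leaf) (239196, 0, 13, 83107) (.node .leaf (239197, 0, 16, 229047) .leaf))) (239198, 0, 16, 184299) (.node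 (.node (.node .leaf (239199, 0, 11, 38597) .leaf) (239204, 0, 18, 182009) (.node .leaf (239205, 0, 16, 193277) .leaf)) (239206, 0, 18, 213694) (.node (.node .leaf (239207, 0, 15, 238296) .leaf) (239208, 0, 16, 3616) (.node .leaf (239209, 0, 17, 60998) .leaf))))) (239210, 0, 16, 244490) (.node (.node (.node (.node (.node .leaf (239211, 0, 16, 114275) .leaf) (239220, 0, 17, 27342) (.node .leaf (239221, 0, 17, 190753) .leaf)) (239222, 0, 14, 219261) (.node (.node .leaf (239223, 0, 17, 121485) .leaf) (239224, 0, 16, 140686) (.node .leaf (239225, 0, 17, 31904) .leaf))) (239226, 0, 17, 206416) (.node (.node (.node .leaf (239227, 0, 17, 247350) .leaf) (239232, 0, 16, 56769) (.node .leaf (239233, 0, 15, 29987) .leaf)) (239234, 0, 18, 115839) (.node (.node .leaf (239235, 0, 15, 236881) .leaf) (239244, 0, 17, 47500) (.node .leaf (239245, 0, 18, 188578) .leaf)))) (239246, 0, 14, 217598) (.node (.node (.node (.node .leaf (239247, 0, 14, 67792) .leaf) (239248, 0, 17, 173460) (.node .leaf (239249, 0, 15, 148978) .leaf)) (239250, 0, 14, 242313)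 (.node (.node .leaf (239251, 0, 15, 125863) .leaf) (239260, 0, 18, 184186) (.node .leaf (239261, 0, 16, 38484) .leaf))) (239262, 0, 17, 75528) (.node (.node (.node .leaf (239263, 0, 16, 228902) .leaf) (239268, 0, 10, 257815) (.node .leaf (239269, 0, 18, 227124) .leaf)) (239270, 0, 17, 181864) (.node (.node .leaf (239271, 0, 16, 155476) .leaf) (239272, 0, 16, 244635) (.node .leaf (239273, 0, 17, 123573) .leaf))))))

/-- part of the orbit tree -/
def itp7_158 : Tree := (.node (.node (.node (.node (.node (.node .leaf (239275, 0, 15, 17391) .leaf) (239284, 0, 17, 219372) (.node .leaf (239285, 0, 17, 96036) .leaf)) (239286, 0, 13, 45214) (.node (.node .leaf (239287, 0, 17, 190896) .leaf) (239288, 0, 17, 118125) (.node .leaf (239289, 0, 15, 234563) .leaf))) (239290, 0, 18, 187356) (.node (.node (.node .leaf (239291, 0, 16, 31793) .leaf) (239296, 0, 18, 243527) (.node .leaf (239297, 0, 16, 218913) .leaf)) (239298, 0, 16, 190306) (.node (.node .leaf (239299, 0, 16, 132868) .leaf) (239308, 0, 17, 57606) (.node .leaf (239309, 0, 16,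 178216) .leaf)))) (239310, 0, 17, 64473) (.node (.node (.node (.node .leaf (239311, 0, 16, 7103) .leaf) (239312, 0, 18, 118546) (.node .leaf (239313, 0, 17, 154463) .leaf)) (239314, 0, 18, 40759) (.node (.node .leaf (239315, 0, 17, 111405) .leaf) (239324, 0, 17, 169968) (.node .leaf (239325, 0, 17, 209871) .leaf))) (239326, 0, 18, 98178) (.node (.node (.node .leaf (239327, 0, 16, 206508) .leaf) (239332, 0, 15, 95888) (.node .leaf (239333, 0, 15, 26103) .leaf)) (239334, 0, 15, 120244) (.node (.node .leaf (239335, 0, 9, 51148) .leaf) (239336, 0, 17, 170282) (.node .leaf (239337, 0, 17, 113215) .leaf))))) (239338, 0, 17, 248079) (.node (.node (.node (.node (.node .leaf (239339, 0, 17, 207209) .leaf) (239348, 0, 10, 196036) (.node .leaf (239349, 0, 16, 138658) .leaf)) (239350, 0, 16, 241121) (.node (.node .leaf (239351, 0, 16, 216455) .leaf) (239352, 0, 13, 57727) (.node .leaf (239353, 0, 17, 281) .leaf))) (239354, 0, 15, 163221) (.node (.node (.node .leaf (239355, 0, 17, 9403) .leaf) (239360, 0, 16, 97159) (.node .leaf (239361,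 0, 16, 205481) .leaf)) (239362, 0, 18, 168949) (.node (.node .leaf (239363, 0, 18, 22780) .leaf) (239372, 0, 17, 257542) (.node .leaf (239373, 0, 13, 112424) .leaf)))) (239374, 0, 14, 1652) (.node (.node (.node (.node .leaf (239375, 0, 16, 155482) .leaf) (239376, 0, 17, 233706) (.node .leaf (239377, 0, 13, 87135) .leaf)) (239378, 0, 14, 180431) (.node (.node .leaf (239379, 0, 17, 139433) .leaf) (239388, 0, 16, 104688) (.node .leaf (239389, 0, 18, 93239) .leaf))) (239390, 0, 12, 159874) (.node (.node (.node .leaf (239391, 0, 17, 15378) .leaf) (239396, 0, 17, 162192) (.node .leaf (239397, 0, 16, 8382) .leaf)) (239398, 0, 15, 232012) (.node (.node .leaf (239399, 0, 16, 248012) .leaf) (239400, 0, 18, 60433) (.node .leaf (239401, 0, 15, 177471) .leaf))))))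

/-- part of the orbit tree -/
def itp7_159 : Tree := (.node (.node (.node (.node (.node (.node .leaf (239403, 0, 15, 95889) .leaf) (239412, 0, 10, 3942) (.node .leaf (239413, 0, 17, 153160) .leaf)) (239414, 0, 17, 255764) (.node (.node .leaf (239415, 0, 11, 114234) .leaf) (239416, 0, 13, 179847) (.node .leaf (239417, 0, 14, 155361) .leaf))) (239418, 0, 15, 94869) (.node (.node (.node .leaf (239419, 0, 18, 207803) .leaf) (239424, 0, 17, 164409) (.node .leaf (239425, 0, 10, 227875) .leaf)) (239426, 0, 14, 183167) (.node (.node .leaf (239427, 0, 15, 209530) .leaf) (239436, 0, 14, 40578) (.node .leaf (239437, 0, 13, 126882) .leaf)))) (239438, 0, 17, 24318) (.node (.node (.node (.node .leaf (239439, 0, 14, 133072) .leaf) (239440, 0, 18, 64108) (.node .leaf (239441, 0, 15, 6666) .leaf)) (239442, 0, 15, 48521) (.node (.node .leaf (239443, 0, 12, 189607) .leaf) (239452, 0, 16, 190167) (.node .leaf (239453, 0, 15, 235860) .leaf))) (239454, 0, 15, 243442) (.node (.node (.node .leaf (239455, 0, 15, 218772) .leaf) (239460, 0, 16, 139546)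 (.node .leaf (239461, 0, 16, 86153) .leaf)) (239462, 0, 15, 57546) (.node (.node .leaf (239463, 0, 16, 172) .leaf) (239464, 0, 12, 46235) (.node .leaf (239465, 0, 17, 191925) .leaf))))) (239466, 0, 17, 195697) (.node (.node (.node (.node (.node .leaf (239467, 0, 16, 138263) .leaf) (239476, 0, 15, 247994) (.node .leaf (239477, 0, 15, 207068) .leaf)) (239478, 0, 16, 245662) (.node (.node .leaf (239479, 0, 16, 124592) .leaf) (239480, 0, 18, 119809) (.node .leaf (239481, 0, 15, 78951) .leaf))) (239482, 0, 16, 76319) (.node (.node (.node .leaf (239483, 0, 16, 25666) .leaf) (239488, 0, 17, 183278) (.node .leaf (239489, 0, 7, 37568) .leaf)) (239490, 0, 13, 74652) (.node (.node .leaf (239491, 0, 14, 184310) .leaf) (239500, 0, 15, 24175) (.node .leaf (239501, 0, 19, 132929) .leaf)))) (239502, 0, 13, 243229) (.node (.node (.node (.node .leaf (239503, 0, 17, 126771) .leaf) (239504, 0, 17, 48408) (.node .leaf (239505, 0, 15, 124806) .leaf)) (239506, 0, 16, 218474) (.node (.node .leaf (239507, 0, 18, 47011) .leaf) (239516, 0, 17, 203611)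 (.node .leaf (239517, 0, 15, 260925) .leaf))) (239518, 0, 13, 150398) (.node (.node (.node .leaf (239519, 0, 14, 174872) .leaf) (239524, 0, 8, 19811) (.node .leaf (239525, 0, 17, 44293) .leaf)) (239526, 0, 16, 73030) (.node (.node .leaf (239527, 0, 17, 130336) .leaf) (239528, 0, 13, 220280) (.node .leaf (239529, 0, 16, 176574) .leaf))))))

/-- part of the orbit tree -/
def itp7_160 : Tree := (.node (.node (.node (.node (.node (.node .leaf (239531, 0, 14, 254363) .leaf) (239540, 0, 16, 144694) (.node .leaf (239541, 0, 15, 185680) .leaf)) (239542, 0, 14, 22397) (.node (.node .leaf (239543, 0, 17, 134739) .leaf) (239544, 0, 14, 76430) (.node .leaf (239545, 0, 18, 51691) .leaf))) (239546, 0, 16, 180988) (.node (.node (.node .leaf (239547, 0, 15, 104910) .leaf) (239552, 0, 17, 168804) (.node .leaf (239553, 0, 15, 62805) .leaf)) (239554, 0, 11, 97046) (.node (.node .leaf (239555, 0, 18, 205368) .leaf) (239564, 0, 14, 133512) (.node .leaf (239565, 0, 16, 155595) .leaf)))) (239566, 0, 18, 219565) (.node (.node (.node (.node .leaf (239567,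 0, 16, 244171) .leaf) (239568, 0, 16, 159078) (.node .leaf (239569, 0, 16, 179388) .leaf)) (239570, 0, 18, 212291) (.node (.node .leaf (239571, 0, 18, 87246) .leaf) (239580, 0, 14, 159763) (.node .leaf (239581, 0, 18, 10557) .leaf))) (239582, 0, 17, 104545) (.node (.node (.node .leaf (239583, 0, 15, 246095) .leaf) (239588, 0, 16, 102771) (.node .leaf (239589, 0, 14, 247683) .leaf)) (239590, 0, 14, 162049) (.node (.node .leaf (239591, 0, 17, 169894) .leaf) (239592, 0, 15, 80734) (.node .leaf (239593, 0, 14, 89564) .leaf))))) (239594, 0, 15, 60544) (.node (.node (.node (.node (.node .leaf (239595, 0, 12, 177582) .leaf) (239604, 0, 14, 255877) (.node .leaf (239605, 0, 14, 114646) .leaf)) (239606, 0, 13, 3989) (.node (.node .leaf (239607, 0, 18, 61427) .leaf) (239608, 0, 17, 213771) (.node .leaf (239609, 0, 15, 238445) .leaf))) (239610, 0, 18, 135982) (.node (.node (.node .leaf (239611, 0, 19, 193352) .leaf) (239617, 0, 18, 34989) (.node .leaf (239618, 0, 16, 21034) .leaf)) (239621, 0, 18, 121674) (.node (.node .leaf (239622, 0,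 15, 214764) .leaf) (239624, 0, 15, 146207) (.node .leaf (239627, 0, 16, 232003) .leaf)))) (239628, 0, 17, 204468) (.node (.node (.node (.node .leaf (239631, 0, 15, 175863) .leaf) (239633, 0, 15, 236092) (.node .leaf (239634, 0, 15, 141951) .leaf)) (239637, 0, 16, 33094) (.node (.node .leaf (239638, 0, 13, 136028) .leaf) (239640, 0, 17, 19945) (.node .leaf (239643, 0, 16, 130229) .leaf))) (239644, 0, 18, 144116) (.node (.node (.node .leaf (239647, 0, 16, 230312) .leaf) (239648, 0, 18, 133626) (.node .leaf (239651, 0, 17, 138709) .leaf)) (239652, 0, 18, 143577) (.node (.node .leaf (239655, 0, 19, 25288) .leaf) (239657, 0, 18, 73531) (.node .leaf (239658, 0, 16, 44647) .leaf))))))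

/-- part of the orbit tree -/
def itp7_161 : Tree := (.node itp7_157 (239274, 0, 15, 21481) itp7_158)

/-- part of the orbit tree -/
def itp7_162 : Tree := (.node itp7_159 (239530, 0, 18, 46090) itp7_160)

/-- part of the orbit tree -/
def itp7_163 : Tree := (.node (.node (.node (.node (.node (.node .leaf (239662, 0, 15, 83300) .leaf) (239664, 0, 17, 121471) (.node .leaf (239667, 0, 18, 115180) .leaf)) (239668, 0, 17, 18572) (.node (.node .leaf (239671, 0, 16, 136254) .leaf) (239673, 0, 16, 177233) (.node .leaf (239674, 0, 16, 197650) .leaf))) (239677, 0, 16, 167282) (.node (.node (.node .leaf (239678, 0, 16, 42892) .leaf) (239681, 0, 17, 166127) (.node .leaf (239682, 0, 16, 90491) .leaf)) (239685, 0, 16, 176588) (.node (.node .leaf (239686, 0, 18, 204390) .leaf) (239688, 0, 12, 156565) (.node .leaf (239691, 0, 17, 130386) .leaf)))) (239692, 0, 16, 29746) (.node (.node (.node (.node .leaf (239695, 0, 15, 115825) .leaf) (239697, 0, 15, 173777) (.node .leaf (239698, 0, 17, 82169) .leaf)) (239701, 0, 17, 55756) (.node (.node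 .leaf (239702, 0, 17, 92304) .leaf) (239704, 0, 16, 5475) (.node .leaf (239707, 0, 16, 107583) .leaf))) (239708, 0, 13, 158334) (.node (.node (.node .leaf (239711, 0, 17, 244772) .leaf) (239712, 0, 16, 91004) (.node .leaf (239715, 0, 18, 148831) .leaf)) (239716, 0, 17, 101150) (.node (.node .leaf (239719, 0, 16, 14914) .leaf) (239721, 0, 14, 83889) (.node .leaf (239722, 0, 16, 63213) .leaf))))) (239725, 0, 15, 237473) (.node (.node (.node (.node (.node .leaf (239726, 0, 18, 166384) .leaf) (239728, 0, 17, 203561) (.node .leaf (239731, 0, 16, 174954) .leaf)) (239732, 0, 14, 205322) (.node (.node .leaf (239735, 0, 15, 150708) .leaf) (239737, 0, 18, 122583) (.node .leaf (239738, 0, 16, 28308) .leaf))) (239741, 0, 14, 85594) (.node (.node (.node .leaf (239742, 0, 13, 22455) .leaf) (239745, 0, 18, 211140) (.node .leaf (239746, 0, 13, 181536) .leaf)) (239749, 0, 17, 216128) (.node (.node .leaf (239750, 0, 14, 63109) .leaf) (239752, 0, 17, 101238) (.node .leaf (239755, 0, 18, 14890) .leaf)))) (239756, 0, 16, 259179) (.node (.node (.node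 (.node .leaf (239759, 0, 15, 148791) .leaf) (239761, 0, 16, 85554) (.node .leaf (239762, 0, 10, 48501) .leaf)) (239765, 0, 18, 209199) (.node (.node .leaf (239766, 0, 18, 163955) .leaf) (239768, 0, 18, 261504) (.node .leaf (239771, 0, 17, 150748) .leaf))) (239772, 0, 18, 98973) (.node (.node (.node .leaf (239775, 0, 15, 147880) .leaf) (239776, 0, 13, 7392) (.node .leaf (239779, 0, 17, 77491) .leaf)) (239780, 0, 18, 42963) (.node (.node .leaf (239783, 0, 16, 71568) .leaf) (239785, 0, 15, 175954) (.node .leaf (239786, 0, 12, 256845) .leaf))))))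

/-- part of the orbit tree -/
def itp7_164 : Tree := (.node (.node (.node (.node (.node (.node .leaf (239790, 0, 18, 250478) .leaf) (239792, 0, 15, 158230) (.node .leaf (239795, 0, 15, 252746) .leaf)) (239796, 0, 12, 5387) (.node (.node .leaf (239799, 0, 16, 225221) .leaf) (239801, 0, 15, 55716) (.node .leaf (239802, 0, 16, 103192) .leaf))) (239805, 0, 16, 173753) (.node (.node (.node .leaf (239806, 0, 13, 109115) .leaf) (239809, 0, 18, 8165) (.node .leaf (239810, 0, 16, 110502) .leaf)) (239813, 0, 13, 9926) (.node (.node .leaf (239814, 0, 16, 104069) .leaf) (239816, 0, 15, 186907) (.node .leaf (239819, 0, 17, 25248) .leaf)))) (239820, 0, 15, 240865) (.node (.node (.node (.node .leaf (239823, 0, 15, 138685) .leaf) (239825, 0, 17, 71352) (.node .leaf (239826, 0, 14, 42980) .leaf)) (239829, 0, 17, 155283) (.node (.node .leaf (239830, 0, 14, 186617) .leaf) (239832, 0, 17, 238858) (.node .leaf (239835, 0, 15, 70157) .leaf))) (239836, 0, 11, 121367) (.node (.node (.node .leaf (239839, 0, 17, 76590) .leaf) (239840, 0, 14, 17514)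 (.node .leaf (239843, 0, 15, 128310) .leaf)) (239844, 0, 17, 249173) (.node (.node .leaf (239847, 0, 17, 163094) .leaf) (239849, 0, 16, 78216) (.node .leaf (239850, 0, 17, 33227) .leaf))))) (239853, 0, 17, 35013) (.node (.node (.node (.node (.node .leaf (239854, 0, 16, 80281) .leaf) (239856, 0, 16, 101411) (.node .leaf (239859, 0, 17, 230336) .leaf)) (239860, 0, 17, 111872) (.node (.node .leaf (239863, 0, 16, 1347) .leaf) (239865, 0, 18, 33070) (.node .leaf (239866, 0, 17, 194974) .leaf))) (239869, 0, 16, 225534) (.node (.node (.node .leaf (239870, 0, 16, 216943) .leaf) (239873, 0, 12, 28494) (.node .leaf (239874, 0, 15, 258142) .leaf)) (239877, 0, 17, 135251) (.node (.node .leaf (239878, 0, 15, 248189) .leaf) (239880, 0, 10, 34275) (.node .leaf (239883, 0, 17, 224672) .leaf)))) (239884, 0, 18, 41953) (.node (.node (.node (.node .leaf (239887, 0, 13, 68739) .leaf) (239889, 0, 18, 14408) (.node .leaf (239890, 0, 17, 100363) .leaf)) (239893, 0, 15, 363) (.node (.node .leaf (239894, 0, 17, 110888) .leaf) (239896, 0, 16, 43530)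 (.node .leaf (239899, 0, 17, 216565) .leaf))) (239900, 0, 16, 185623) (.node (.node (.node .leaf (239903, 0, 18, 222283) .leaf) (239904, 0, 13, 215914) (.node .leaf (239907, 0, 19, 195126) .leaf)) (239908, 0, 13, 103085) (.node (.node .leaf (239911, 0, 15, 34091) .leaf) (239913, 0, 15, 224880) (.node .leaf (239914, 0, 13, 18820) .leaf))))))

/-- part of the orbit tree -/
def itp7_165 : Tree := (.node (.node (.node (.node (.node (.node .leaf (239918, 0, 17, 145049) .leaf) (239920, 0, 17, 81308) (.node .leaf (239923, 0, 16, 36032) .leaf)) (239924, 0, 14, 213633) (.node (.node .leaf (239927, 0, 15, 193501) .leaf) (239929, 0, 14, 233006) (.node .leaf (239930, 0, 16, 42598) .leaf))) (239933, 0, 16, 127283) (.node (.node (.node .leaf (239934, 0, 18, 16495) .leaf) (239937, 0, 13, 14276) (.node .leaf (239938, 0, 15, 39640) .leaf)) (239941, 0, 19, 149721) (.node (.node .leaf (239942, 0, 17, 41979) .leaf) (239944, 0, 14, 257893) (.node .leaf (239947, 0, 17, 210218) .leaf)))) (239948, 0, 17, 64363) (.node (.node (.node (.node .leaf (239951,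 0, 15, 84535) .leaf) (239953, 0, 17, 217806) (.node .leaf (239954, 0, 16, 189069) .leaf)) (239957, 0, 16, 15919) (.node (.node .leaf (239958, 0, 18, 187310) .leaf) (239960, 0, 16, 104240) (.node .leaf (239963, 0, 15, 82908) .leaf))) (239964, 0, 19, 110099) (.node (.node (.node .leaf (239967, 0, 17, 212161) .leaf) (239968, 0, 17, 201696) (.node .leaf (239971, 0, 17, 225611) .leaf)) (239972, 0, 17, 194603) (.node (.node .leaf (239975, 0, 16, 56737) .leaf) (239977, 0, 18, 106578) (.node .leaf (239978, 0, 18, 4366) .leaf))))) (239981, 0, 18, 15829) (.node (.node (.node (.node (.node .leaf (239982, 0, 17, 101782) .leaf) (239984, 0, 14, 47453) (.node .leaf (239987, 0, 16, 54346) .leaf)) (239988, 0, 17, 32894) (.node (.node .leaf (239991, 0, 16, 174935) .leaf) (239993, 0, 16, 162979) (.node .leaf (239994, 0, 16, 249056) .leaf))) (239997, 0, 16, 148864) (.node (.node (.node .leaf (239998, 0, 18, 6373) .leaf) (240001, 0, 18, 55063) (.node .leaf (240002, 0, 15, 159355) .leaf)) (240005, 0, 12, 60980) (.node (.node .leaf (240006, 0, 18,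 89719) .leaf) (240008, 0, 18, 93333) (.node .leaf (240011, 0, 15, 238250) .leaf)))) (240012, 0, 17, 201608) (.node (.node (.node (.node .leaf (240015, 0, 17, 172756) .leaf) (240017, 0, 17, 109009) (.node .leaf (240018, 0, 17, 6285) .leaf)) (240021, 0, 18, 251596) (.node (.node .leaf (240022, 0, 16, 157584) .leaf) (240024, 0, 16, 27324) (.node .leaf (240027, 0, 16, 121599) .leaf))) (240028, 0, 16, 91518) (.node (.node (.node .leaf (240031, 0, 16, 123868) .leaf) (240032, 0, 16, 212100) (.node .leaf (240035, 0, 13, 167111) .leaf)) (240036, 0, 12, 198055) (.node (.node .leaf (240039, 0, 18, 177636) .leaf) (240041, 0, 15, 149681) (.node .leaf (240042, 0, 17, 18745) .leaf))))))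

/-- part of the orbit tree -/
def itp7_166 : Tree := (.node (.node (.node (.node (.node (.node .leaf (240046, 0, 12, 100080) .leaf) (240048, 0, 14, 167413) (.node .leaf (240051, 0, 18, 212137) .leaf)) (240052, 0, 16, 97778) (.node (.node .leaf (240055, 0, 17, 82868) .leaf) (240057, 0, 17, 15943) (.node .leaf (240058, 0, 11, 102171) .leaf))) (240061, 0, 15, 243724) (.node (.node (.node .leaf (240062, 0, 16, 258054) .leaf) (240065, 0, 17, 231341) (.node .leaf (240066, 0, 16, 145137) .leaf)) (240069, 0, 17, 129200) (.node (.node .leaf (240070, 0, 18, 144625) .leaf) (240072, 0, 18, 96367) (.node .leaf (240075, 0, 17, 34115) .leaf)))) (240076, 0, 16, 215810) (.node (.node (.node (.node .leaf (240079, 0, 17, 61711) .leaf) (240081, 0, 15, 116164) (.node .leaf (240082, 0, 17, 16391) .leaf)) (240085, 0, 18, 130279) (.node (.node .leaf (240086, 0, 15, 147226) .leaf) (240088, 0, 14, 213737) (.node .leaf (240091, 0, 14, 176249) .leaf))) (240092, 0, 15, 211225) (.node (.node (.node .leaf (240095, 0, 13, 36008) .leaf) (240096, 0, 14, 22018)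 (.node .leaf (240099, 0, 14, 70357) .leaf)) (240100, 0, 15, 187540) (.node (.node .leaf (240103, 0, 16, 122722) .leaf) (240105, 0, 15, 135227) (.node .leaf (240106, 0, 15, 237927) .leaf))))) (240109, 0, 15, 174815) (.node (.node (.node (.node (.node .leaf (240110, 0, 16, 203420) .leaf) (240112, 0, 13, 185727) (.node .leaf (240115, 0, 17, 222243) .leaf)) (240116, 0, 17, 137076) (.node (.node .leaf (240119, 0, 12, 239415) .leaf) (240121, 0, 13, 60329) (.node .leaf (240122, 0, 10, 89066) .leaf))) (240125, 0, 12, 53898) (.node (.node (.node .leaf (240126, 0, 15, 90825) .leaf) (240128, 0, 18, 77439) (.node .leaf (240129, 0, 16, 118297) .leaf)) (240132, 0, 16, 43954) (.node (.node .leaf (240133, 0, 18, 193180) .leaf) (240138, 0, 18, 120385) (.node .leaf (240139, 0, 17, 179108) .leaf)))) (240142, 0, 18, 156385) (.node (.node (.node (.node .leaf (240143, 0, 17, 127090) .leaf) (240144, 0, 16, 41561) (.node .leaf (240145, 0, 16, 243276) .leaf)) (240148, 0, 18, 225033) (.node (.node .leaf (240149, 0, 18, 233327) .leaf) (240154, 0, 16,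 237751) (.node .leaf (240155, 0, 16, 129433) .leaf))) (240158, 0, 17, 122794) (.node (.node (.node .leaf (240159, 0, 14, 64210) .leaf) (240162, 0, 17, 226735) (.node .leaf (240163, 0, 13, 137465) .leaf)) (240166, 0, 16, 147146) (.node (.node .leaf (240167, 0, 15, 26596) .leaf) (240168, 0, 14, 18) .leaf)))))

/-- part of the orbit tree -/
def itp7_167 : Tree := (.node itp7_163 (239789, 0, 16, 156205) itp7_164)

/-- part of the orbit tree -/
def itp7_168 : Tree := (.node itp7_165 (240045, 0, 14, 114777) itp7_166)

/-- part of the orbit tree -/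
def itp7_169 : Tree := (.node itp7_161 (239402, 0, 13, 197731) itp7_162)

/-- part of the orbit tree -/
def itp7_170 : Tree := (.node itp7_167 (239917, 0, 16, 231365) itp7_168)

/-- part of the orbit tree -/
def itp7_171 : Tree := (.node (.node (.node (.node (.node (.node .leaf (240172, 0, 13, 80932) .leaf) (240173, 0, 18, 222474) (.node .leaf (240178, 0, 16, 145185) .leaf)) (240179, 0, 17, 126364) (.node (.node .leaf (240182, 0, 18, 18492) .leaf) (240183, 0, 15, 135442) (.node .leaf (240184, 0, 16, 161863) .leaf))) (240185, 0, 17, 224481) (.node (.node (.node .leaf (240188, 0, 16, 215762) .leaf) (240189, 0, 15, 172290) (.node .leaf (240192, 0, 17, 166949) .leaf)) (240193, 0, 17, 54539) (.node (.node .leaf (240196, 0, 18, 163290) .leaf) (240197, 0, 17, 174614) (.node .leaf (240202, 0, 17, 78148) .leaf)))) (240203, 0, 15, 119074) (.node (.node (.node (.node .leaf (240206, 0, 17, 67687) .leaf) (240207, 0, 17, 124929) (.node .leaf (240208, 0, 13, 15532) .leaf)) (240209, 0, 12, 56522) (.node (.node .leaf (240212, 0, 17, 165326)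 .leaf) (240213, 0, 17, 58857) (.node .leaf (240218, 0, 18, 260157) .leaf))) (240219, 0, 13, 106771) (.node (.node (.node .leaf (240222, 0, 15, 100128) .leaf) (240223, 0, 18, 233556) (.node .leaf (240226, 0, 17, 7977) .leaf)) (240227, 0, 17, 65359) (.node (.node .leaf (240230, 0, 16, 157248) .leaf) (240231, 0, 15, 16238) (.node .leaf (240232, 0, 17, 203699) .leaf))))) (240233, 0, 18, 82589) (.node (.node (.node (.node (.node .leaf (240236, 0, 16, 218039) .leaf) (240237, 0, 15, 212352) (.node .leaf (240242, 0, 18, 157564) .leaf)) (240243, 0, 17, 13957) (.node (.node .leaf (240246, 0, 16, 155231) .leaf) (240247, 0, 16, 179769) (.node .leaf (240248, 0, 15, 70337) .leaf))) (240249, 0, 17, 127655) (.node (.node (.node .leaf (240252, 0, 17, 201304) .leaf) (240253, 0, 17, 117636) (.node .leaf (240256, 0, 17, 91334) .leaf)) (240257, 0, 10, 212456) (.node (.node .leaf (240260, 0, 16, 203739) .leaf) (240261, 0, 16, 82677) (.node .leaf (240266, 0, 17, 52424) .leaf)))) (240267, 0, 12, 16134) (.node (.node (.node (.node .leaf (240270, 0,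 14, 6453) .leaf) (240271, 0, 15, 147483) (.node .leaf (240272, 0, 16, 201264) .leaf)) (240273, 0, 16, 74054) (.node (.node .leaf (240276, 0, 14, 129027) .leaf) (240277, 0, 17, 71781) (.node .leaf (240282, 0, 14, 177309) .leaf))) (240283, 0, 16, 152827) (.node (.node (.node .leaf (240286, 0, 14, 167358) .leaf) (240287, 0, 17, 159192) (.node .leaf (240290, 0, 15, 123557) .leaf)) (240291, 0, 17, 66243) (.node (.node .leaf (240294, 0, 13, 121734) .leaf) (240295, 0, 16, 80864) (.node .leaf (240296, 0, 13, 62288) .leaf))))))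

/-- part of the orbit tree -/
def itp7_172 : Tree := (.node (.node (.node (.node (.node (.node .leaf (240300, 0, 15, 175675) .leaf) (240301, 0, 14, 54627) (.node .leaf (240306, 0, 16, 236272) .leaf)) (240307, 0, 15, 253542) (.node (.node .leaf (240310, 0, 14, 260181) .leaf) (240311, 0, 15, 106875) (.node .leaf (240312, 0, 16, 165286) .leaf))) (240313, 0, 16, 56456) (.node (.node (.node .leaf (240316, 0, 16, 64187) .leaf) (240317, 0, 17, 172949) (.node .leaf (240320, 0, 18, 54259) .leaf)) (240321, 0, 13, 13205) (.node (.node .leaf (240324, 0, 14, 60112) .leaf) (240325, 0, 17, 2742) (.node .leaf (240330, 0, 14, 239182) .leaf)))) (240331, 0, 17, 26508) (.node (.node (.node (.node .leaf (240334, 0, 18, 237421) .leaf) (240335, 0, 17, 137361) (.node .leaf (240336, 0, 17, 215738) .leaf)) (240337, 0, 13, 150464) (.node (.node .leaf (240340, 0, 15, 79271) .leaf) (240341, 0, 12, 224393) (.node .leaf (240346, 0, 16, 18516) .leaf))) (240347, 0, 15, 81533) (.node (.node (.node .leaf (240350, 0, 18, 124728) .leaf) (240351, 0, 12, 67422)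 (.node .leaf (240354, 0, 15, 239924) .leaf)) (240355, 0, 18, 157765) (.node (.node .leaf (240358, 0, 14, 176384) .leaf) (240359, 0, 13, 233223) (.node .leaf (240360, 0, 17, 130462) .leaf))))) (240361, 0, 10, 73208) (.node (.node (.node (.node (.node .leaf (240364, 0, 14, 185543) .leaf) (240365, 0, 14, 36329) (.node .leaf (240370, 0, 17, 61558) .leaf)) (240371, 0, 15, 4112) (.node (.node .leaf (240374, 0, 12, 237791) .leaf) (240375, 0, 17, 10547) (.node .leaf (240376, 0, 19, 187692) .leaf))) (240377, 0, 17, 222637) (.node (.node (.node .leaf (240380, 0, 15, 244968) .leaf) (240381, 0, 16, 220302) (.node .leaf (240384, 0, 14, 166923) .leaf)) (240385, 0, 15, 158829) (.node (.node .leaf (240388, 0, 16, 19537) .leaf) (240389, 0, 18, 136575) (.node .leaf (240394, 0, 17, 129462) .leaf)))) (240395, 0, 17, 223372) (.node (.node (.node (.node .leaf (240398, 0, 15, 216767) .leaf) (240399, 0, 16, 73971) (.node .leaf (240400, 0, 18, 62558) .leaf)) (240401, 0, 16, 138388) (.node (.node .leaf (240404, 0, 15, 52605) .leaf) (240405, 0, 16, 11547)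 (.node .leaf (240410, 0, 17, 229859) .leaf))) (240411, 0, 16, 221573) (.node (.node (.node .leaf (240414, 0, 16, 79945) .leaf) (240415, 0, 15, 221543) (.node .leaf (240418, 0, 15, 55259) .leaf)) (240419, 0, 15, 196378) (.node (.node .leaf (240422, 0, 19, 186665) .leaf) (240423, 0, 13, 32775) (.node .leaf (240424, 0, 17, 238810) .leaf))))))

/-- part of the orbit tree -/
def itp7_173 : Tree := (.node (.node (.node (.node (.node (.node .leaf (240428, 0, 16, 236357) .leaf) (240429, 0, 18, 230121) (.node .leaf (240434, 0, 16, 176014) .leaf)) (240435, 0, 15, 35308) (.node (.node .leaf (240438, 0, 16, 169645) .leaf) (240439, 0, 18, 194289) (.node .leaf (240440, 0, 17, 121395) .leaf))) (240441, 0, 18, 80469) (.node (.node (.node .leaf (240444, 0, 17, 123664) .leaf) (240445, 0, 15, 66422) (.node .leaf (240448, 0, 16, 158662) .leaf)) (240449, 0, 15, 13032) (.node (.node .leaf (240452, 0, 8, 5339) .leaf) (240453, 0, 16, 81864) (.node .leaf (240458, 0, 15, 168752) .leaf)))) (240459, 0, 18, 160598) (.node (.node (.node (.node .leaf (240462,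 0, 17, 174611) .leaf) (240463, 0, 18, 150133) (.node .leaf (240464, 0, 18, 237272) .leaf)) (240465, 0, 13, 229054) (.node (.node .leaf (240468, 0, 16, 156205) .leaf) (240469, 0, 18, 214941) (.node .leaf (240474, 0, 16, 60261) .leaf))) (240475, 0, 16, 2819) (.node (.node (.node .leaf (240478, 0, 17, 90307) .leaf) (240479, 0, 16, 211437) (.node .leaf (240482, 0, 18, 245085) .leaf)) (240483, 0, 17, 220475) (.node (.node .leaf (240486, 0, 15, 164259) .leaf) (240487, 0, 17, 222232) (.node .leaf (240488, 0, 14, 51424) .leaf))))) (240489, 0, 19, 107902) (.node (.node (.node (.node (.node .leaf (240492, 0, 15, 99149) .leaf) (240493, 0, 17, 4517) (.node .leaf (240498, 0, 16, 115976) .leaf)) (240499, 0, 12, 53606) (.node (.node .leaf (240502, 0, 17, 63317) .leaf) (240503, 0, 13, 72781) (.node .leaf (240504, 0, 17, 176309) .leaf))) (240505, 0, 16, 151763) (.node (.node (.node .leaf (240508, 0, 18, 166294) .leaf) (240509, 0, 16, 158192) (.node .leaf (240512, 0, 17, 99109) .leaf)) (240513, 0, 15, 64359) (.node (.node .leaf (240516, 0, 15,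 261176) .leaf) (240517, 0, 17, 49732) (.node .leaf (240522, 0, 17, 224956) .leaf)))) (240523, 0, 18, 55525) (.node (.node (.node (.node .leaf (240526, 0, 16, 65238) .leaf) (240527, 0, 16, 174072) (.node .leaf (240528, 0, 16, 259539) .leaf)) (240529, 0, 18, 164658) (.node (.node .leaf (240532, 0, 16, 101070) .leaf) (240533, 0, 14, 178705) (.node .leaf (240538, 0, 16, 63293) .leaf))) (240539, 0, 17, 128655) (.node (.node (.node .leaf (240542, 0, 18, 77770) .leaf) (240543, 0, 16, 118700) (.node .leaf (240546, 0, 17, 147665) .leaf)) (240547, 0, 16, 85875) (.node (.node .leaf (240550, 0, 15, 162290) .leaf) (240551, 0, 17, 209006) (.node .leaf (240552, 0, 17, 5299) .leaf))))))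

/-- part of the orbit tree -/
def itp7_174 : Tree := (.node (.node (.node (.node (.node (.node .leaf (240556, 0, 17, 158638) .leaf) (240557, 0, 14, 125993) (.node .leaf (240562, 0, 17, 90283) .leaf)) (240563, 0, 16, 211333) (.node (.node .leaf (240566, 0, 18, 423) .leaf) (240567, 0, 14, 83608) (.node .leaf (240568, 0, 17, 216377) .leaf))) (240569, 0, 18, 15211) (.node (.node (.node .leaf (240572, 0, 14, 7512) .leaf) (240573, 0, 13, 148598) (.node .leaf (240576, 0, 16, 225671) .leaf)) (240577, 0, 16, 230017) (.node (.node .leaf (240580, 0, 16, 215204) .leaf) (240581, 0, 16, 130460) (.node .leaf (240586, 0, 15, 1082) .leaf)))) (240587, 0, 9, 58460) (.node (.node (.node (.node .leaf (240590, 0, 17, 15641) .leaf) (240591, 0, 17, 196466) (.node .leaf (240592, 0, 17, 240985) .leaf)) (240593, 0, 18, 128119) (.node (.node .leaf (240596, 0, 17, 119364) .leaf) (240597, 0, 18, 232298) (.node .leaf (240602, 0, 17, 162927) .leaf))) (240603, 0, 16, 171017) (.node (.node (.node .leaf (240606, 0, 15, 184490) .leaf) (240607, 0, 13, 35204)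 (.node .leaf (240610, 0, 17, 216791) .leaf)) (240611, 0, 16, 117297) (.node (.node .leaf (240614, 0, 12, 78282) .leaf) (240615, 0, 16, 127762) (.node .leaf (240616, 0, 16, 19513) .leaf))))) (240617, 0, 16, 136471) (.node (.node (.node (.node (.node .leaf (240620, 0, 14, 157385) .leaf) (240621, 0, 16, 27146) (.node .leaf (240626, 0, 16, 79905) .leaf)) (240627, 0, 17, 221455) (.node (.node .leaf (240630, 0, 13, 224033) .leaf) (240631, 0, 14, 232263) (.node .leaf (240632, 0, 18, 146127) .leaf))) (240633, 0, 15, 51161) (.node (.node (.node .leaf (240636, 0, 18, 17874) .leaf) (240637, 0, 16, 138492) (.node .leaf (240640, 0, 12, 121975) .leaf)) (240642, 0, 14, 144389) (.node (.node .leaf (240644, 0, 12, 8580) .leaf) (240646, 0, 14, 19224) (.node .leaf (240649, 0, 16, 187737) .leaf)))) (240651, 0, 15, 232828) (.node (.node (.node (.node .leaf (240653, 0, 16, 69848) .leaf) (240655, 0, 16, 242783) (.node .leaf (240656, 0, 11, 240257) .leaf)) (240658, 0, 15, 17139) (.node (.node .leaf (240660, 0, 16, 120220) .leaf) (240662, 0, 18, 199156)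 (.node .leaf (240665, 0, 16, 71987) .leaf))) (240667, 0, 16, 128297) (.node (.node (.node .leaf (240669, 0, 17, 39983) .leaf) (240671, 0, 15, 36444) (.node .leaf (240673, 0, 15, 194643) .leaf)) (240675, 0, 15, 69665) (.node (.node .leaf (240677, 0, 15, 248343) .leaf) (240679, 0, 17, 225084) (.node .leaf (240680, 0, 16, 19425) .leaf))))))

/-- part of the orbit tree -/
def itp7_175 : Tree := (.node itp7_171 (240297, 0, 18, 174718) itp7_172)

/-- part of the orbit tree -/
def itp7_176 : Tree := (.node itp7_173 (240553, 0, 14, 120074) itp7_174)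

/-- part of the orbit tree -/
def itp7_177 : Tree := (.node (.node (.node (.node (.node (.node .leaf (240684, 0, 16, 144636) .leaf) (240686, 0, 11, 24524) (.node .leaf (240689, 0, 15, 36517) .leaf)) (240691, 0, 13, 222935) (.node (.node .leaf (240693, 0, 17, 111170) .leaf) (240695, 0, 17, 57959) (.node .leaf (240696, 0, 17, 146711) .leaf))) (240698, 0, 15, 138938) (.node (.node (.node .leaf (240700, 0, 15, 16906) .leaf) (240702, 0, 16, 240248) (.node .leaf (240704, 0, 18, 225825) .leaf)) (240706, 0, 16, 139780) (.node (.node .leaf (240708, 0, 16, 215810) .leaf) (240710, 0, 17, 138023) (.node .leaf (240713, 0, 18, 210767) .leaf)))) (240715, 0, 14, 59386) (.node (.node (.node (.node .leaf (240717, 0, 15, 84050) .leaf) (240719, 0, 16, 57049) (.node .leaf (240720, 0, 16, 258571) .leaf)) (240722, 0, 17, 6777) (.node (.node .leaf (240724, 0, 13, 78679) .leaf) (240726, 0, 16, 157028) (.node .leaf (240729, 0, 17, 82361) .leaf))) (240731, 0, 18, 174539) (.node (.node (.node .leaf (240733, 0, 16, 212644) .leaf) (240735, 0, 18, 54998)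 (.node .leaf (240737, 0, 18, 39346) .leaf)) (240739, 0, 17, 84139) (.node (.node .leaf (240741, 0, 14, 57284) .leaf) (240743, 0, 17, 210870) (.node .leaf (240744, 0, 19, 4971) .leaf))))) (240746, 0, 17, 199785) (.node (.node (.node (.node (.node .leaf (240748, 0, 16, 157039) .leaf) (240750, 0, 18, 99332) (.node .leaf (240753, 0, 18, 188903) .leaf)) (240755, 0, 14, 212573) (.node (.node .leaf (240757, 0, 13, 186564) .leaf) (240759, 0, 15, 82240) (.node .leaf (240760, 0, 14, 157085) .leaf))) (240762, 0, 14, 95292) (.node (.node (.node .leaf (240764, 0, 16, 6784) .leaf) (240766, 0, 14, 258802) (.node .leaf (240768, 0, 17, 167853) .leaf)) (240770, 0, 18, 253832) (.node (.node .leaf (240772, 0, 14, 177806) .leaf) (240774, 0, 15, 255659) (.node .leaf (240777, 0, 17, 57260) .leaf)))) (240779, 0, 16, 210910) (.node (.node (.node (.node .leaf (240781, 0, 16, 172209) .leaf) (240783, 0, 18, 74581) (.node .leaf (240784, 0, 16, 6888) .leaf)) (240786, 0, 16, 258714) (.node (.node .leaf (240788, 0, 17, 52955) .leaf) (240790, 0, 18, 101767)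 (.node .leaf (240793, 0, 15, 143878) .leaf))) (240795, 0, 11, 221731) (.node (.node (.node .leaf (240797, 0, 16, 133925) .leaf) (240799, 0, 17, 212533) (.node .leaf (240801, 0, 17, 84026) .leaf)) (240803, 0, 16, 172104) (.node (.node .leaf (240805, 0, 16, 89373) .leaf) (240807, 0, 18, 57173) (.node .leaf (240808, 0, 16, 261000) .leaf))))))

/-- part of the orbit tree -/
def itp7_178 : Tree := (.node (.node (.node (.node (.node (.node .leaf (240812, 0, 15, 235747) .leaf) (240814, 0, 17, 158951) (.node .leaf (240817, 0, 16, 203883) .leaf)) (240819, 0, 16, 54974) (.node (.node .leaf (240821, 0, 17, 82385) .leaf) (240823, 0, 16, 174499) (.node .leaf (240824, 0, 16, 121237) .leaf))) (240826, 0, 15, 35248) (.node (.node (.node .leaf (240828, 0, 14, 258659) .leaf) (240830, 0, 15, 45203) (.node .leaf (240832, 0, 17, 144532) .leaf)) (240834, 0, 17, 46350) (.node (.node .leaf (240836, 0, 18, 121864) .leaf) (240838, 0, 16, 238587) (.node .leaf (240841, 0, 14, 205013) .leaf)))) (240843, 0, 17, 225108) (.node (.node (.node (.node .leaf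 (240845, 0, 15, 194619) .leaf) (240847, 0, 14, 69705) (.node .leaf (240848, 0, 15, 236926) .leaf)) (240850, 0, 15, 183643) (.node (.node .leaf (240852, 0, 16, 238685) .leaf) (240854, 0, 16, 193656) (.node .leaf (240857, 0, 14, 192976) .leaf))) (240859, 0, 17, 72098) (.node (.node (.node .leaf (240861, 0, 18, 90531) .leaf) (240863, 0, 17, 12678) (.node .leaf (240865, 0, 14, 69808) .leaf)) (240867, 0, 13, 220829) (.node (.node .leaf (240869, 0, 16, 145307) .leaf) (240871, 0, 18, 34783) (.node .leaf (240872, 0, 18, 238338) .leaf))))) (240874, 0, 17, 19312) (.node (.node (.node (.node (.node .leaf (240876, 0, 16, 121887) .leaf) (240878, 0, 17, 144493) (.node .leaf (240881, 0, 18, 222790) .leaf)) (240883, 0, 18, 75464) (.node (.node .leaf (240885, 0, 16, 20430) .leaf) (240887, 0, 16, 73707) (.node .leaf (240888, 0, 17, 176915) .leaf))) (240890, 0, 17, 254774) (.node (.node (.node .leaf (240892, 0, 11, 240361) .leaf) (240894, 0, 17, 252437) (.node .leaf (240896, 0, 15, 244435) .leaf)) (240898, 0, 17, 185318) (.node (.node .leaf (240900,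 0, 16, 214153) .leaf) (240902, 0, 17, 185301) (.node .leaf (240905, 0, 17, 231462) .leaf)))) (240907, 0, 14, 24660) (.node (.node (.node (.node .leaf (240909, 0, 17, 128827) .leaf) (240911, 0, 17, 139081) (.node .leaf (240912, 0, 16, 115334) .leaf)) (240914, 0, 17, 42256) (.node (.node .leaf (240916, 0, 15, 129957) .leaf) (240918, 0, 14, 186893) (.node .leaf (240921, 0, 15, 130768) .leaf))) (240923, 0, 17, 136866) (.node (.node (.node .leaf (240925, 0, 16, 212571) .leaf) (240927, 0, 17, 27071) (.node .leaf (240929, 0, 15, 20800) .leaf)) (240931, 0, 15, 65893) (.node (.node .leaf (240933, 0, 16, 24749) .leaf) (240935, 0, 16, 79942) (.node .leaf (240936, 0, 17, 169150) .leaf))))))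

/-- part of the orbit tree -/
def itp7_179 : Tree := (.node (.node (.node (.node (.node (.node .leaf (240940, 0, 18, 185119) .leaf) (240942, 0, 17, 261560) (.node .leaf (240945, 0, 17, 26950) .leaf)) (240947, 0, 18, 227632) (.node (.node .leaf (240949, 0, 17, 136795) .leaf) (240951, 0, 18, 213011) (.node .leaf (240952, 0, 18, 187124) .leaf))) (240954, 0, 14, 113870) (.node (.node (.node .leaf (240956, 0, 16, 54728) .leaf) (240958, 0, 19, 99821) (.node .leaf (240960, 0, 16, 90910) .leaf)) (240962, 0, 13, 166764) (.node (.node .leaf (240964, 0, 13, 59766) .leaf) (240966, 0, 16, 112979) (.node .leaf (240969, 0, 13, 136619) .leaf)))) (240971, 0, 10, 214414) (.node (.node (.node (.node .leaf (240973, 0, 15, 142472) .leaf) (240975, 0, 15, 149443) (.node .leaf (240976, 0, 16, 202216) .leaf)) (240978, 0, 14, 64922) (.node (.node .leaf (240980, 0, 18, 168227) .leaf) (240982, 0, 8, 246022) (.node .leaf (240985, 0, 16, 108122) .leaf))) (240987, 0, 16, 81371) (.node (.node (.node .leaf (240989, 0, 14, 252231) .leaf) (240991, 0, 18, 66808)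 (.node .leaf (240993, 0, 15, 149306) .leaf)) (240995, 0, 17, 158691) (.node (.node .leaf (240997, 0, 18, 14375) .leaf) (240999, 0, 15, 249941) (.node .leaf (241000, 0, 16, 62600) .leaf))))) (241002, 0, 17, 44573) (.node (.node (.node (.node (.node .leaf (241004, 0, 13, 166805) .leaf) (241006, 0, 18, 91111) (.node .leaf (241009, 0, 13, 82835) .leaf)) (241011, 0, 16, 5046) (.node (.node .leaf (241013, 0, 14, 96944) .leaf) (241015, 0, 17, 108195) (.node .leaf (241016, 0, 17, 231021) .leaf))) (241018, 0, 18, 185928) (.node (.node (.node .leaf (241020, 0, 16, 64867) .leaf) (241022, 0, 14, 192363) (.node .leaf (241024, 0, 16, 166909) .leaf)) (241026, 0, 15, 32252) (.node (.node .leaf (241028, 0, 17, 70906) .leaf) (241030, 0, 16, 203922) (.node .leaf (241033, 0, 16, 256039) .leaf)))) (241035, 0, 15, 178178) (.node (.node (.node (.node .leaf (241037, 0, 18, 250116) .leaf) (241039, 0, 12, 164129) (.node .leaf (241040, 0, 17, 218508) .leaf)) (241042, 0, 16, 132521) (.node (.node .leaf (241044, 0, 19, 224431) .leaf) (241046, 0, 16, 92772)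 (.node .leaf (241049, 0, 16, 102514) .leaf))) (241051, 0, 17, 108235) (.node (.node (.node .leaf (241053, 0, 16, 12708) .leaf) (241055, 0, 16, 63860) (.node .leaf (241057, 0, 19, 181834) .leaf)) (241059, 0, 15, 149419) (.node (.node .leaf (241061, 0, 18, 250052) .leaf) (241063, 0, 16, 241484) (.node .leaf (241064, 0, 16, 203883) .leaf))))))

/-- part of the orbit tree -/
def itp7_180 : Tree := (.node (.node (.node (.node (.node (.node .leaf (241068, 0, 16, 90998) .leaf) (241070, 0, 16, 166660) (.node .leaf (241073, 0, 17, 252207) .leaf)) (241075, 0, 14, 12637) (.node (.node .leaf (241077, 0, 17, 108082) .leaf) (241079, 0, 17, 120601) (.node .leaf (241080, 0, 17, 92829) .leaf))) (241082, 0, 18, 164591) (.node (.node (.node .leaf (241084, 0, 15, 148162) .leaf) (241086, 0, 17, 201447) (.node .leaf (241088, 0, 15, 149343) .leaf)) (241090, 0, 17, 202618) (.node (.node .leaf (241092, 0, 15, 163452) .leaf) (241094, 0, 18, 214040) (.node .leaf (241097, 0, 17, 24773) .leaf)))) (241099, 0, 15, 119428) (.node (.node (.node (.node .leaf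 (241101, 0, 17, 139224) .leaf) (241103, 0, 15, 125863) (.node .leaf (241104, 0, 16, 16138) .leaf)) (241106, 0, 16, 216563) (.node (.node .leaf (241108, 0, 17, 187036) .leaf) (241110, 0, 16, 87564) (.node .leaf (241113, 0, 13, 195316) .leaf))) (241115, 0, 14, 240337) (.node (.node (.node .leaf (241117, 0, 13, 26926) .leaf) (241119, 0, 17, 229724) (.node .leaf (241121, 0, 15, 128851) .leaf)) (241123, 0, 15, 139041) (.node (.node .leaf (241125, 0, 16, 231502) .leaf) (241127, 0, 14, 50634) (.node .leaf (241128, 0, 18, 223538) .leaf))))) (241130, 0, 15, 145687) (.node (.node (.node (.node (.node .leaf (241132, 0, 17, 80892) .leaf) (241134, 0, 16, 185230) (.node .leaf (241137, 0, 15, 251033) .leaf)) (241139, 0, 16, 27095) (.node (.node .leaf (241141, 0, 14, 257466) .leaf) (241143, 0, 15, 179615) (.node .leaf (241144, 0, 14, 78359) .leaf))) (241146, 0, 18, 16706) (.node (.node (.node .leaf (241148, 0, 15, 75844) .leaf) (241150, 0, 15, 30817) (.node .leaf (241160, 0, 17, 78791) .leaf)) (241161, 0, 15, 223977) (.node (.node .leaf (241162,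 0, 16, 213354) .leaf) (241163, 0, 17, 33435) (.node .leaf (241164, 0, 18, 141420) .leaf)))) (241165, 0, 18, 71156) (.node (.node (.node (.node .leaf (241166, 0, 16, 42152) .leaf) (241167, 0, 16, 235567) (.node .leaf (241176, 0, 17, 26906) .leaf)) (241177, 0, 18, 35196) (.node (.node .leaf (241178, 0, 16, 44355) .leaf) (241179, 0, 17, 193645) (.node .leaf (241180, 0, 15, 80428) .leaf))) (241181, 0, 16, 221954) (.node (.node (.node .leaf (241182, 0, 13, 65564) .leaf) (241183, 0, 14, 35696) (.node .leaf (241184, 0, 16, 212770) .leaf)) (241185, 0, 17, 253764) (.node (.node .leaf (241186, 0, 16, 216099) .leaf) (241187, 0, 18, 167777) .leaf)))))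

/-- part of the orbit tree -/
def itp7_181 : Tree := (.node itp7_177 (240810, 0, 13, 5114) itp7_178)

/-- part of the orbit tree -/
def itp7_182 : Tree := (.node itp7_179 (241066, 0, 15, 62489) itp7_180)

/-- part of the orbit tree -/
def itp7_183 : Tree := (.node itp7_175 (240425, 0, 15, 213504) itp7_176)

/-- part of the orbit tree -/
def itp7_184 : Tree := (.node itp7_181 (240938, 0, 11, 214128) itp7_182)

/-- part of the orbit tree -/
def itp7_185 : Tree := (.node itp7_169 (239661, 0, 17, 221222) itp7_170)

/-- part of the orbit tree -/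
def itp7_186 : Tree := (.node itp7_183 (240682, 0, 17, 238483) itp7_184)

/-- part of the orbit tree -/
def itp7_187 : Tree := (.node itp7_155 (238125, 0, 17, 204853) itp7_156)

/-- part of the orbit tree -/
def itp7_188 : Tree := (.node itp7_185 (240169, 0, 15, 57460) itp7_186)

/-- part of the orbit tree -/
def itp7_189 : Tree := (.node (.node (.node (.node (.node (.node .leaf (241189, 0, 17, 33378) .leaf) (241190, 0, 18, 153124) (.node .leaf (241191, 0, 16, 177730) .leaf)) (241200, 0, 16, 83831) (.node (.node .leaf (241201, 0, 17, 35721) .leaf) (241202, 0, 16, 5970) (.node .leaf (241203, 0, 14, 222203) .leaf))) (241204, 0, 17, 97876) (.node (.node (.node .leaf (241205, 0, 18, 106034) .leaf) (241206, 0, 15, 11889) (.node .leaf (241207, 0, 14, 52759) .leaf)) (241224, 0, 17, 93005) (.node (.node .leaf (241225, 0, 17, 209507) .leaf) (241226, 0, 16, 164671) (.node .leaf (241227, 0, 17, 55825) .leaf)))) (241228, 0, 16, 201808) (.node (.node (.node (.node .leaf (241229, 0, 18, 107148) .leaf) (241230, 0, 17, 4815) (.node .leaf (241231,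 0, 17, 173324) .leaf)) (241240, 0, 16, 197532) (.node (.node .leaf (241241, 0, 18, 83093) .leaf) (241242, 0, 13, 152505) (.node .leaf (241243, 0, 14, 175335) .leaf))) (241244, 0, 18, 90790) (.node (.node (.node .leaf (241245, 0, 18, 252633) .leaf) (241246, 0, 14, 166612) (.node .leaf (241247, 0, 14, 166652) .leaf)) (241248, 0, 19, 21924) (.node (.node .leaf (241249, 0, 14, 46530) .leaf) (241250, 0, 15, 66945) (.node .leaf (241251, 0, 16, 85383) .leaf))))) (241252, 0, 17, 27783) (.node (.node (.node (.node (.node .leaf (241253, 0, 14, 56040) .leaf) (241254, 0, 16, 81058) (.node .leaf (241255, 0, 16, 209562) .leaf)) (241264, 0, 16, 142833) (.node (.node .leaf (241265, 0, 17, 183703) .leaf) (241266, 0, 12, 90719) (.node .leaf (241267, 0, 15, 211825) .leaf))) (241268, 0, 15, 62768) (.node (.node (.node .leaf (241269, 0, 14, 193716) .leaf) (241270, 0, 17, 204098) (.node .leaf (241271, 0, 14, 83052) .leaf)) (241288, 0, 17, 34373) (.node (.node .leaf (241289, 0, 16, 55936) .leaf) (241290, 0, 17, 120416) (.node .leaf (241291, 0, 18,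 79366) .leaf)))) (241292, 0, 18, 48998) (.node (.node (.node (.node .leaf (241293, 0, 17, 24320) .leaf) (241294, 0, 17, 201921) (.node .leaf (241295, 0, 14, 85487) .leaf)) (241304, 0, 14, 62808) (.node (.node .leaf (241305, 0, 16, 138870) .leaf) (241306, 0, 16, 204074) (.node .leaf (241307, 0, 18, 82948) .leaf))) (241308, 0, 11, 166469) (.node (.node (.node .leaf (241309, 0, 17, 141141) .leaf) (241310, 0, 16, 235286) (.node .leaf (241311, 0, 15, 227184) .leaf)) (241312, 0, 13, 201784) (.node (.node .leaf (241313, 0, 15, 84046) .leaf) (241314, 0, 16, 64586) (.node .leaf (241315, 0, 18, 173412) .leaf))))))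

/-- part of the orbit tree -/
def itp7_190 : Tree := (.node (.node (.node (.node (.node (.node .leaf (241317, 0, 14, 94573) .leaf) (241318, 0, 17, 164695) (.node .leaf (241319, 0, 17, 55929) .leaf)) (241328, 0, 15, 90830) (.node (.node .leaf (241329, 0, 17, 211936) .leaf) (241330, 0, 14, 166588) (.node .leaf (241331, 0, 16, 155710) .leaf))) (241332, 0, 16, 204243) (.node (.node (.node .leaf (241333, 0, 18, 198968) .leaf) (241334, 0, 15, 62881) (.node .leaf (241335, 0, 15, 175247) .leaf)) (241352, 0, 15, 187172) (.node (.node .leaf (241353, 0, 15, 33290) .leaf) (241354, 0, 16, 179430) (.node .leaf (241355, 0, 14, 154752) .leaf)))) (241356, 0, 16, 42041) (.node (.node (.node (.node .leaf (241357, 0, 15, 195863) .leaf) (241358, 0, 17, 165317) (.node .leaf (241359, 0, 15, 157091) .leaf)) (241368, 0, 16, 103574) (.node (.node .leaf (241369, 0, 15, 193788) .leaf) (241370, 0, 17, 214432) (.node .leaf (241371, 0, 15, 9429) .leaf))) (241372, 0, 16, 185039) (.node (.node (.node .leaf (241373, 0, 18, 85459) .leaf) (241374, 0, 11, 64912)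 (.node .leaf (241375, 0, 16, 222099) .leaf)) (241376, 0, 17, 216242) (.node (.node .leaf (241377, 0, 14, 71068) .leaf) (241378, 0, 15, 234123) (.node .leaf (241379, 0, 17, 196078) .leaf))))) (241380, 0, 13, 78767) (.node (.node (.node (.node (.node .leaf (241381, 0, 16, 138219) .leaf) (241382, 0, 16, 187357) (.node .leaf (241383, 0, 16, 216014) .leaf)) (241392, 0, 17, 47867) (.node (.node .leaf (241393, 0, 17, 222058) .leaf) (241394, 0, 15, 184886) (.node .leaf (241395, 0, 10, 35608) .leaf))) (241396, 0, 17, 33752) (.node (.node (.node .leaf (241397, 0, 18, 72823) .leaf) (241398, 0, 17, 44331) (.node .leaf (241399, 0, 17, 193541) .leaf)) (241416, 0, 18, 111419) (.node (.node .leaf (241417, 0, 17, 232714) .leaf) (241418, 0, 17, 58142) (.node .leaf (241419, 0, 17, 888) .leaf)))) (241420, 0, 18, 100888) (.node (.node (.node (.node .leaf (241421, 0, 14, 127511) .leaf) (241422, 0, 17, 17227) (.node .leaf (241423, 0, 18, 14939) .leaf)) (241432, 0, 16, 238290) (.node (.node .leaf (241433, 0, 16, 130044) .leaf) (241434, 0, 14, 19104)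 (.node .leaf (241435, 0, 16, 162605) .leaf))) (241436, 0, 15, 122319) (.node (.node (.node .leaf (241437, 0, 16, 230625) .leaf) (241438, 0, 18, 172648) (.node .leaf (241439, 0, 16, 27795) .leaf)) (241440, 0, 18, 17330) (.node (.node .leaf (241441, 0, 15, 32048) .leaf) (241442, 0, 17, 118131) (.node .leaf (241443, 0, 16, 77077) .leaf))))))

/-- part of the orbit tree -/
def itp7_191 : Tree := (.node (.node (.node (.node (.node (.node .leaf (241445, 0, 17, 17427) .leaf) (241446, 0, 16, 128080) (.node .leaf (241447, 0, 16, 232947) .leaf)) (241456, 0, 15, 189699) (.node (.node .leaf (241457, 0, 17, 27754) .leaf) (241458, 0, 14, 122166) (.node .leaf (241459, 0, 14, 218432) .leaf))) (241460, 0, 14, 19033) (.node (.node (.node .leaf (241461, 0, 17, 146502) .leaf) (241462, 0, 17, 232453) (.node .leaf (241463, 0, 17, 224355) .leaf)) (241480, 0, 18, 186813) (.node (.node .leaf (241481, 0, 14, 251264) .leaf) (241482, 0, 19, 156892) (.node .leaf (241483, 0, 17, 15858) .leaf)))) (241484, 0, 15, 188574) (.node (.node (.node (.node .leaf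 (241485, 0, 11, 131320) .leaf) (241486, 0, 16, 241851) (.node .leaf (241487, 0, 13, 217309) .leaf)) (241496, 0, 15, 41448) (.node (.node .leaf (241497, 0, 16, 16782) .leaf) (241498, 0, 18, 127437) (.node .leaf (241499, 0, 17, 150276) .leaf))) (241500, 0, 16, 99653) (.node (.node (.node .leaf (241501, 0, 16, 253035) .leaf) (241502, 0, 17, 116974) (.node .leaf (241503, 0, 16, 75912) .leaf)) (241504, 0, 14, 6968) (.node (.node .leaf (241505, 0, 16, 147990) .leaf) (241506, 0, 14, 174069) (.node .leaf (241507, 0, 17, 149395) .leaf))))) (241508, 0, 17, 249587) (.node (.node (.node (.node (.node .leaf (241509, 0, 17, 208533) .leaf) (241510, 0, 16, 171734) (.node .leaf (241511, 0, 14, 251257) .leaf)) (241520, 0, 17, 159182) (.node (.node .leaf (241521, 0, 15, 13536) .leaf) (241522, 0, 13, 57248) (.node .leaf (241523, 0, 19, 16326) .leaf))) (241524, 0, 16, 112294) (.node (.node (.node .leaf (241525, 0, 14, 150525) .leaf) (241526, 0, 17, 260769) (.node .leaf (241527, 0, 15, 107407) .leaf)) (241544, 0, 16, 205873) (.node (.node .leaf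 (241545, 0, 16, 15715) .leaf) (241546, 0, 14, 160788) (.node .leaf (241547, 0, 16, 251153) .leaf)))) (241548, 0, 15, 6992) (.node (.node (.node (.node .leaf (241549, 0, 15, 261492) .leaf) (241550, 0, 16, 150839) (.node .leaf (241551, 0, 17, 175441) .leaf)) (241560, 0, 14, 4795) (.node (.node .leaf (241561, 0, 15, 113666) .leaf) (241562, 0, 14, 3137) (.node .leaf (241563, 0, 16, 107495) .leaf))) (241564, 0, 18, 159142) (.node (.node (.node .leaf (241565, 0, 16, 13448) .leaf) (241566, 0, 15, 99796) (.node .leaf (241567, 0, 18, 253178) .leaf)) (241568, 0, 17, 133724) (.node (.node .leaf (241569, 0, 16, 109301) .leaf) (241570, 0, 17, 7081) (.node .leaf (241571, 0, 16, 148103) .leaf))))))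

/-- part of the orbit tree -/
def itp7_192 : Tree := (.node (.node (.node (.node (.node (.node .leaf (241573, 0, 15, 251368) .leaf) (241574, 0, 17, 222042) (.node .leaf (241575, 0, 12, 15770) .leaf)) (241584, 0, 16, 29193) (.node (.node .leaf (241585, 0, 16, 252931) .leaf) (241586, 0, 16, 159071) (.node .leaf (241587, 0, 16, 115274) .leaf))) (241588, 0, 14, 19242) (.node (.node (.node .leaf (241589, 0, 11, 107294) .leaf) (241590, 0, 14, 72463) (.node .leaf (241591, 0, 16, 150380) .leaf)) (241608, 0, 13, 146631) (.node (.node .leaf (241609, 0, 16, 26089) .leaf) (241610, 0, 17, 119989) (.node .leaf (241611, 0, 16, 232859) .leaf)))) (241612, 0, 16, 17370) (.node (.node (.node (.node .leaf (241613, 0, 16, 137972) .leaf) (241614, 0, 18, 240552) (.node .leaf (241615, 0, 15, 127622) .leaf)) (241624, 0, 17, 18993) (.node (.node .leaf (241625, 0, 19, 135967) .leaf) (241626, 0, 12, 222919) (.node .leaf (241627, 0, 16, 231073) .leaf))) (241628, 0, 16, 144684) (.node (.node (.node .leaf (241629, 0, 17, 192423) .leaf) (241630, 0, 17, 122206)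 (.node .leaf (241631, 0, 18, 230512) .leaf)) (241632, 0, 14, 240465) (.node (.node .leaf (241633, 0, 16, 98492) .leaf) (241634, 0, 16, 17187) (.node .leaf (241635, 0, 16, 53401) .leaf))))) (241636, 0, 18, 119884) (.node (.node (.node (.node (.node .leaf (241637, 0, 17, 232802) .leaf) (241638, 0, 16, 2524) (.node .leaf (241639, 0, 16, 25872) .leaf)) (241648, 0, 15, 202895) (.node (.node .leaf (241649, 0, 14, 260329) .leaf) (241650, 0, 15, 144853) (.node .leaf (241651, 0, 16, 27899) .leaf))) (241652, 0, 11, 238266) (.node (.node (.node .leaf (241653, 0, 17, 129940) .leaf) (241654, 0, 16, 160137) (.node .leaf (241655, 0, 16, 168431) .leaf)) (241665, 0, 18, 166247) (.node (.node .leaf (241666, 0, 14, 211236) .leaf) (241668, 0, 16, 151586) (.node .leaf (241671, 0, 16, 254049) .leaf)))) (241673, 0, 17, 44287) (.node (.node (.node (.node .leaf (241674, 0, 14, 72892) .leaf) (241676, 0, 17, 119624) (.node .leaf (241679, 0, 16, 25108) .leaf)) (241681, 0, 15, 223505) (.node (.node .leaf (241682, 0, 17, 82289) .leaf) (241684, 0, 12, 10359)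 (.node .leaf (241687, 0, 17, 196222) .leaf))) (241689, 0, 16, 185514) (.node (.node (.node .leaf (241690, 0, 18, 144081) .leaf) (241692, 0, 16, 239038) (.node .leaf (241695, 0, 15, 136418) .leaf)) (241696, 0, 16, 146371) (.node (.node .leaf (241699, 0, 14, 232095) .leaf) (241701, 0, 17, 138736) (.node .leaf (241702, 0, 16, 240812) .leaf))))))

/-- part of the orbit tree -/
def itp7_193 : Tree := (.node itp7_189 (241316, 0, 14, 92965) itp7_190)

/-- part of the orbit tree -/
def itp7_194 : Tree := (.node itp7_191 (241572, 0, 17, 144255) itp7_192)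

/-- part of the orbit tree -/
def itp7_195 : Tree := (.node (.node (.node (.node (.node (.node .leaf (241707, 0, 15, 221187) .leaf) (241709, 0, 17, 237097) (.node .leaf (241710, 0, 17, 214576) .leaf)) (241712, 0, 15, 203425) (.node (.node .leaf (241715, 0, 15, 130153) .leaf) (241717, 0, 16, 246756) (.node .leaf (241718, 0, 16, 121434) .leaf))) (241720, 0, 18, 42921) (.node (.node (.node .leaf (241723, 0, 15, 36730) .leaf) (241725, 0, 17, 124540) (.node .leaf (241726, 0, 15, 78022) .leaf)) (241729, 0, 16, 83821) (.node (.node .leaf (241730, 0, 8, 63025) .leaf) (241732, 0, 13, 80548) (.node .leaf (241735, 0, 15, 53250) .leaf)))) (241737, 0, 19, 247417) (.node (.node (.node (.node .leaf (241738, 0, 18, 161338) .leaf) (241740, 0, 15, 101314) (.node .leaf (241743, 0, 19, 15006) .leaf)) (241745, 0, 17, 209307) (.node (.node .leaf (241746, 0, 19, 164039) .leaf) (241748, 0, 13, 213745) (.node .leaf (241751, 0, 18, 193202) .leaf))) (241753, 0, 18, 252679) (.node (.node (.node .leaf (241754, 0, 18, 3695) .leaf) (241756, 0, 16, 92009)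 (.node .leaf (241759, 0, 17, 150632) .leaf)) (241760, 0, 17, 156489) (.node (.node .leaf (241763, 0, 11, 250389) .leaf) (241765, 0, 17, 184631) (.node .leaf (241766, 0, 15, 259110) .leaf))))) (241768, 0, 18, 166357) (.node (.node (.node (.node (.node .leaf (241771, 0, 16, 211081) .leaf) (241773, 0, 17, 62639) (.node .leaf (241774, 0, 11, 83180) .leaf)) (241776, 0, 16, 28711) (.node (.node .leaf (241779, 0, 13, 107747) .leaf) (241781, 0, 13, 13196) (.node .leaf (241782, 0, 17, 99024) .leaf))) (241784, 0, 18, 153023) (.node (.node (.node .leaf (241787, 0, 14, 255484) .leaf) (241789, 0, 16, 167162) (.node .leaf (241790, 0, 17, 212153) .leaf)) (241793, 0, 13, 7789) (.node (.node .leaf (241794, 0, 14, 204498) .leaf) (241796, 0, 19, 166333) (.node .leaf (241799, 0, 17, 211169) .leaf)))) (241801, 0, 15, 148754) (.node (.node (.node (.node .leaf (241802, 0, 16, 232374) .leaf) (241804, 0, 18, 189104) (.node .leaf (241807, 0, 15, 250493) .leaf)) (241809, 0, 12, 55672) (.node (.node .leaf (241810, 0, 17, 92196) .leaf) (241812, 0, 11,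 65355) (.node .leaf (241815, 0, 17, 200510) .leaf))) (241817, 0, 17, 17312) (.node (.node (.node .leaf (241818, 0, 18, 99000) .leaf) (241820, 0, 15, 39653) (.node .leaf (241823, 0, 16, 76454) .leaf)) (241824, 0, 17, 101290) (.node (.node .leaf (241827, 0, 16, 15094) .leaf) (241829, 0, 18, 208059) (.node .leaf (241830, 0, 12, 171256) .leaf))))))

/-- part of the orbit tree -/
def itp7_196 : Tree := (.node (.node (.node (.node (.node (.node .leaf (241835, 0, 15, 53354) .leaf) (241837, 0, 16, 83717) (.node .leaf (241838, 0, 15, 63065) .leaf)) (241840, 0, 17, 101803) (.node (.node .leaf (241843, 0, 15, 150528) .leaf) (241845, 0, 16, 87278) (.node .leaf (241846, 0, 16, 158259) .leaf))) (241848, 0, 18, 202688) (.node (.node (.node .leaf (241851, 0, 15, 137328) .leaf) (241853, 0, 14, 225654) (.node .leaf (241854, 0, 14, 164015) .leaf)) (241857, 0, 15, 226539) (.node (.node .leaf (241858, 0, 13, 214616) .leaf) (241860, 0, 17, 241070) (.node .leaf (241863, 0, 17, 138733) .leaf)))) (241865, 0, 17, 86387) (.node (.node (.node (.node .leaf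 (241866, 0, 18, 57648) .leaf) (241868, 0, 12, 146347) (.node .leaf (241871, 0, 18, 14453) .leaf)) (241873, 0, 12, 68798) (.node (.node .leaf (241874, 0, 14, 48381) .leaf) (241876, 0, 16, 120315) (.node .leaf (241879, 0, 14, 26040) .leaf))) (241881, 0, 18, 27502) (.node (.node (.node .leaf (241882, 0, 14, 121394) .leaf) (241884, 0, 16, 258147) (.node .leaf (241887, 0, 17, 130049) .leaf)) (241888, 0, 18, 40824) (.node (.node .leaf (241891, 0, 15, 25212) .leaf) (241893, 0, 13, 128275) (.node .leaf (241894, 0, 16, 17487) .leaf))))) (241896, 0, 17, 178912) (.node (.node (.node (.node (.node .leaf (241899, 0, 16, 35040) .leaf) (241901, 0, 17, 156581) (.node .leaf (241902, 0, 19, 44755) .leaf)) (241904, 0, 12, 190253) (.node (.node .leaf (241907, 0, 19, 218990) .leaf) (241909, 0, 18, 230373) (.node .leaf (241910, 0, 14, 233003) .leaf))) (241912, 0, 16, 216906) (.node (.node (.node .leaf (241915, 0, 15, 94966) .leaf) (241917, 0, 17, 7152) (.node .leaf (241918, 0, 16, 186405) .leaf)) (241921, 0, 16, 76563) (.node (.node .leaf (241922,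 0, 15, 39760) .leaf) (241924, 0, 18, 122423) (.node .leaf (241927, 0, 16, 16917) .leaf)))) (241929, 0, 16, 70296) (.node (.node (.node (.node .leaf (241930, 0, 17, 179912) .leaf) (241932, 0, 15, 79019) (.node .leaf (241935, 0, 16, 34295) .leaf)) (241937, 0, 16, 233202) (.node (.node .leaf (241938, 0, 17, 189189) .leaf) (241940, 0, 17, 231939) (.node .leaf (241943, 0, 15, 137629) .leaf))) (241945, 0, 15, 222318) (.node (.node (.node .leaf (241946, 0, 14, 50845) .leaf) (241948, 0, 15, 110491) (.node .leaf (241951, 0, 16, 8152) .leaf)) (241952, 0, 15, 187424) (.node (.node .leaf (241955, 0, 18, 225475) .leaf) (241957, 0, 12, 195091) (.node .leaf (241958, 0, 18, 215887) .leaf))))))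

/-- part of the orbit tree -/
def itp7_197 : Tree := (.node (.node (.node (.node (.node (.node .leaf (241963, 0, 16, 87387) .leaf) (241965, 0, 16, 135311) (.node .leaf (241966, 0, 14, 238035) .leaf)) (241968, 0, 17, 47317) (.node (.node .leaf (241971, 0, 16, 67734) .leaf) (241973, 0, 14, 24976) (.node .leaf (241974, 0, 16, 81337) .leaf))) (241976, 0, 16, 171341) (.node (.node (.node .leaf (241979, 0, 14, 208142) .leaf) (241981, 0, 16, 148488) (.node .leaf (241982, 0, 16, 259147) .leaf)) (241985, 0, 15, 106638) (.node (.node .leaf (241986, 0, 17, 258518) .leaf) (241988, 0, 16, 100029) (.node .leaf (241991, 0, 19, 14305) .leaf)))) (241993, 0, 16, 25613) (.node (.node (.node (.node .leaf (241994, 0, 17, 119886) .leaf) (241996, 0, 15, 93217) (.node .leaf (241999, 0, 17, 68875) .leaf)) (242001, 0, 14, 14784) (.node (.node .leaf (242002, 0, 15, 157476) .leaf) (242004, 0, 16, 57477) (.node .leaf (242007, 0, 17, 86214) .leaf))) (242009, 0, 17, 212196) (.node (.node (.node .leaf (242010, 0, 12, 167352) .leaf) (242012, 0, 18, 203479)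 (.node .leaf (242015, 0, 17, 226654) .leaf)) (242016, 0, 16, 165034) (.node (.node .leaf (242019, 0, 18, 6725) .leaf) (242021, 0, 13, 95043) (.node .leaf (242022, 0, 18, 49920) .leaf))))) (242024, 0, 18, 159286) (.node (.node (.node (.node (.node .leaf (242027, 0, 15, 147421) .leaf) (242029, 0, 16, 149509) (.node .leaf (242030, 0, 14, 260441) .leaf)) (242032, 0, 16, 250451) (.node (.node .leaf (242035, 0, 11, 82688) .leaf) (242037, 0, 15, 54383) (.node .leaf (242038, 0, 18, 91443) .leaf))) (242040, 0, 16, 6336) (.node (.node (.node .leaf (242043, 0, 15, 108956) .leaf) (242045, 0, 17, 77454) (.node .leaf (242046, 0, 16, 40653) .leaf)) (242049, 0, 19, 244761) (.node (.node .leaf (242050, 0, 16, 260401) .leaf) (242052, 0, 16, 222556) (.node .leaf (242055, 0, 15, 253698) .leaf)))) (242057, 0, 16, 172785) (.node (.node (.node (.node .leaf (242058, 0, 17, 10690) .leaf) (242060, 0, 15, 165058) (.node .leaf (242063, 0, 18, 210334) .leaf)) (242065, 0, 15, 16027) (.node (.node .leaf (242066, 0, 16, 102343) .leaf) (242068, 0, 14, 6312)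 (.node .leaf (242071, 0, 15, 44362) .leaf))) (242073, 0, 18, 54279) (.node (.node (.node .leaf (242074, 0, 12, 91483) .leaf) (242076, 0, 16, 62004) (.node .leaf (242079, 0, 17, 166098) .leaf)) (242080, 0, 17, 93257) (.node (.node .leaf (242083, 0, 16, 124873) .leaf) (242085, 0, 17, 84602) (.node .leaf (242086, 0, 18, 81548) .leaf))))))

/-- part of the orbit tree -/
def itp7_198 : Tree := (.node (.node (.node (.node (.node (.node .leaf (242091, 0, 16, 14217) .leaf) (242093, 0, 16, 174935) (.node .leaf (242094, 0, 16, 4538) .leaf)) (242096, 0, 16, 143327) (.node (.node .leaf (242099, 0, 15, 175075) .leaf) (242101, 0, 15, 212108) (.node .leaf (242102, 0, 13, 214745) .leaf))) (242104, 0, 17, 258083) (.node (.node (.node .leaf (242107, 0, 15, 147839) .leaf) (242109, 0, 17, 251408) (.node .leaf (242110, 0, 15, 90945) .leaf)) (242113, 0, 14, 135399) (.node (.node .leaf (242114, 0, 17, 91868) .leaf) (242116, 0, 15, 4058) (.node .leaf (242119, 0, 12, 231304) .leaf)))) (242121, 0, 11, 195195) (.node (.node (.node (.node .leaf (242122,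 0, 15, 215847) .leaf) (242124, 0, 13, 187464) (.node .leaf (242127, 0, 14, 236033) .leaf)) (242129, 0, 17, 175818) (.node (.node .leaf (242130, 0, 19, 204425) .leaf) (242132, 0, 14, 16418) (.node .leaf (242135, 0, 16, 247756) .leaf))) (242137, 0, 14, 35666) (.node (.node (.node .leaf (242138, 0, 13, 80657) .leaf) (242140, 0, 16, 43710) (.node .leaf (242143, 0, 15, 72674) .leaf)) (242144, 0, 12, 79043) (.node (.node .leaf (242147, 0, 16, 34207) .leaf) (242149, 0, 17, 255049) (.node .leaf (242150, 0, 14, 41900) .leaf))))) (242152, 0, 15, 122463) (.node (.node (.node (.node (.node .leaf (242155, 0, 16, 28419) .leaf) (242157, 0, 17, 115153) (.node .leaf (242158, 0, 14, 29074) .leaf)) (242160, 0, 12, 213557) (.node (.node .leaf (242163, 0, 13, 193385) .leaf) (242165, 0, 18, 222214) (.node .leaf (242166, 0, 15, 185690) .leaf))) (242168, 0, 14, 221377) (.node (.node (.node .leaf (242171, 0, 16, 184450) .leaf) (242173, 0, 16, 233114) (.node .leaf (242174, 0, 14, 147398) .leaf)) (242176, 0, 17, 148849) (.node (.node .leaf (242177, 0,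 17, 173335) .leaf) (242182, 0, 15, 185482) (.node .leaf (242183, 0, 14, 36260) .leaf)))) (242184, 0, 17, 239993) (.node (.node (.node (.node .leaf (242185, 0, 18, 127063) .leaf) (242190, 0, 9, 146966) (.node .leaf (242191, 0, 16, 125321) .leaf)) (242192, 0, 16, 15652) (.node (.node .leaf (242193, 0, 15, 56642) .leaf) (242198, 0, 16, 41596) (.node .leaf (242199, 0, 15, 111684) .leaf))) (242200, 0, 17, 122767) (.node (.node (.node .leaf (242201, 0, 16, 231073) .leaf) (242206, 0, 17, 225722) (.node .leaf (242207, 0, 18, 233948) .leaf)) (242210, 0, 16, 120477) (.node (.node .leaf (242211, 0, 13, 65223) .leaf) (242212, 0, 11, 96167) .leaf)))))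

/-- part of the orbit tree -/
def itp7_199 : Tree := (.node itp7_195 (241832, 0, 18, 90422) itp7_196)

/-- part of the orbit tree -/
def itp7_200 : Tree := (.node itp7_197 (242088, 0, 16, 160274) itp7_198)

/-- part of the orbit tree -/
def itp7_201 : Tree := (.node itp7_193 (241444, 0, 14, 146607) itp7_194)

/-- part of the orbit tree -/
def itp7_202 : Tree := (.node itp7_199 (241960, 0, 16, 58648) itp7_200)

/-- part of the orbit tree -/
def itp7_203 : Tree := (.node (.node (.node (.node (.node (.node .leaf (242218, 0, 17, 80897) .leaf) (242219, 0, 17, 222511) (.node .leaf (242220, 0, 17, 217663) .leaf)) (242221, 0, 16, 242265) (.node (.node .leaf (242226, 0, 16, 237675) .leaf) (242227, 0, 15, 129349) (.node .leaf (242228, 0, 15, 200690) .leaf))) (242229, 0, 16, 28202) (.node (.node (.node .leaf (242234, 0, 17, 215799) .leaf) (242235, 0, 12, 70617) (.node .leaf (242236, 0, 15, 187800) .leaf)) (242237, 0, 17, 33974) (.node (.node .leaf (242240, 0, 16, 203631) .leaf) (242241, 0, 16, 82497) (.node .leaf (242246, 0, 17, 18161)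 .leaf)))) (242247, 0, 15, 54574) (.node (.node (.node (.node .leaf (242248, 0, 16, 199279) .leaf) (242249, 0, 15, 108765) (.node .leaf (242254, 0, 16, 157340) .leaf)) (242255, 0, 16, 164623) (.node (.node .leaf (242256, 0, 16, 93593) .leaf) (242257, 0, 17, 243652) (.node .leaf (242262, 0, 17, 147108) .leaf))) (242263, 0, 15, 188098) (.node (.node (.node .leaf (242264, 0, 11, 100101) .leaf) (242265, 0, 15, 253483) (.node .leaf (242270, 0, 16, 4202) .leaf)) (242271, 0, 19, 64346) (.node (.node .leaf (242274, 0, 18, 101911) .leaf) (242275, 0, 16, 251705) (.node .leaf (242276, 0, 17, 138529) .leaf))))) (242277, 0, 16, 195911) (.node (.node (.node (.node (.node .leaf (242282, 0, 17, 86463) .leaf) (242283, 0, 18, 111065) (.node .leaf (242284, 0, 17, 62436) .leaf)) (242285, 0, 12, 174794) (.node (.node .leaf (242290, 0, 16, 68722) .leaf) (242291, 0, 17, 106959) (.node .leaf (242292, 0, 17, 25972) .leaf))) (242293, 0, 15, 13984) (.node (.node (.node .leaf (242298, 0, 15, 207338) .leaf) (242299, 0, 16, 84819) (.node .leaf (242300, 0,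 17, 165138) .leaf)) (242301, 0, 16, 172170) (.node (.node .leaf (242304, 0, 15, 53883) .leaf) (242305, 0, 13, 12829) (.node .leaf (242310, 0, 17, 113533) .leaf)))) (242311, 0, 17, 212429) (.node (.node (.node (.node .leaf (242312, 0, 13, 6416) .leaf) (242313, 0, 13, 147518) (.node .leaf (242318, 0, 15, 237285) .leaf)) (242319, 0, 15, 251729) (.node (.node .leaf (242320, 0, 16, 174638) .leaf) (242321, 0, 18, 56404) (.node .leaf (242326, 0, 16, 246568) .leaf))) (242327, 0, 12, 205646) (.node (.node (.node .leaf (242328, 0, 15, 159718) .leaf) (242329, 0, 11, 14024) (.node .leaf (242334, 0, 16, 124592) .leaf)) (242335, 0, 18, 106919) (.node (.node .leaf (242338, 0, 17, 166315) .leaf) (242339, 0, 16, 158157) (.node .leaf (242340, 0, 14, 258459) .leaf))))))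

/-- part of the orbit tree -/
def itp7_204 : Tree := (.node (.node (.node (.node (.node (.node .leaf (242346, 0, 12, 44083) .leaf) (242347, 0, 14, 54598) (.node .leaf (242348, 0, 17, 203527) .leaf)) (242349, 0, 17, 75091) (.node (.node .leaf (242354, 0, 17, 4098) .leaf) (242355, 0, 13, 4504) (.node .leaf (242356, 0, 14, 100205) .leaf))) (242357, 0, 18, 96414) (.node (.node (.node .leaf (242362, 0, 16, 64158) .leaf) (242363, 0, 15, 144384) (.node .leaf (242364, 0, 17, 245088) .leaf)) (242365, 0, 13, 220422) (.node (.node .leaf (242368, 0, 16, 43782) .leaf) (242369, 0, 16, 193064) (.node .leaf (242374, 0, 16, 184827) .leaf)))) (242375, 0, 18, 222535) (.node (.node (.node (.node .leaf (242376, 0, 15, 16794) .leaf) (242377, 0, 18, 97539) (.node .leaf (242382, 0, 17, 120565) .leaf)) (242383, 0, 13, 233435) (.node (.node .leaf (242384, 0, 16, 114856) .leaf) (242385, 0, 12, 34014) (.node .leaf (242390, 0, 16, 215711) .leaf))) (242391, 0, 17, 18888) (.node (.node (.node .leaf (242392, 0, 15, 145260) .leaf) (242393, 0, 16, 197974)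 (.node .leaf (242398, 0, 15, 237571) .leaf)) (242399, 0, 16, 158800) (.node (.node .leaf (242402, 0, 13, 147070) .leaf) (242403, 0, 11, 26448) (.node .leaf (242404, 0, 17, 35371) .leaf))))) (242405, 0, 16, 127039) (.node (.node (.node (.node (.node .leaf (242410, 0, 19, 185570) .leaf) (242411, 0, 19, 36300) (.node .leaf (242412, 0, 16, 176051) .leaf)) (242413, 0, 17, 72355) (.node (.node .leaf (242418, 0, 18, 18568) .leaf) (242419, 0, 17, 228126) (.node .leaf (242420, 0, 16, 122855) .leaf))) (242421, 0, 12, 135704) (.node (.node (.node .leaf (242426, 0, 12, 41492) .leaf) (242427, 0, 13, 89734) (.node .leaf (242428, 0, 16, 79227) .leaf)) (242429, 0, 16, 224341) (.node (.node .leaf (242432, 0, 14, 238598) .leaf) (242433, 0, 15, 130344) (.node .leaf (242438, 0, 17, 36355) .leaf)))) (242439, 0, 17, 27207) (.node (.node (.node (.node .leaf (242440, 0, 17, 246429) .leaf) (242441, 0, 17, 205563) (.node .leaf (242446, 0, 15, 175003) .leaf)) (242447, 0, 14, 150525) (.node (.node .leaf (242448, 0, 18, 119536) .leaf) (242449, 0, 17, 229174)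 (.node .leaf (242454, 0, 17, 194134) .leaf))) (242455, 0, 17, 138417) (.node (.node (.node .leaf (242456, 0, 13, 79980) .leaf) (242457, 0, 13, 221506) (.node .leaf (242462, 0, 16, 54222) .leaf)) (242463, 0, 15, 194093) (.node (.node .leaf (242466, 0, 19, 244949) .leaf) (242467, 0, 14, 223312) (.node .leaf (242468, 0, 13, 42513) .leaf))))))

/-- part of the orbit tree -/
def itp7_205 : Tree := (.node (.node (.node (.node (.node (.node .leaf (242474, 0, 15, 121826) .leaf) (242475, 0, 16, 230092) (.node .leaf (242476, 0, 15, 19597) .leaf)) (242477, 0, 14, 4141) (.node (.node .leaf (242482, 0, 14, 214920) .leaf) (242483, 0, 14, 73382) (.node .leaf (242484, 0, 15, 184551) .leaf))) (242485, 0, 18, 19936) (.node (.node (.node .leaf (242490, 0, 15, 254232) .leaf) (242491, 0, 14, 196990) (.node .leaf (242492, 0, 18, 146043) .leaf)) (242493, 0, 14, 25429) (.node (.node .leaf (242496, 0, 15, 167299) .leaf) (242497, 0, 15, 159205) (.node .leaf (242502, 0, 13, 255109) .leaf)))) (242503, 0, 12, 13005) (.node (.node (.node (.node .leaf (242504,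 0, 17, 202256) .leaf) (242505, 0, 16, 18557) (.node .leaf (242510, 0, 15, 114973) .leaf)) (242511, 0, 15, 55377) (.node (.node .leaf (242512, 0, 16, 100986) .leaf) (242513, 0, 14, 250708) (.node .leaf (242518, 0, 16, 7445) .leaf))) (242519, 0, 10, 97462) (.node (.node (.node .leaf (242520, 0, 16, 90342) .leaf) (242521, 0, 16, 211400) (.node .leaf (242526, 0, 16, 63369) .leaf)) (242527, 0, 16, 219438) (.node (.node .leaf (242530, 0, 16, 54867) .leaf) (242531, 0, 15, 209114) (.node .leaf (242532, 0, 12, 114517) .leaf))))) (242533, 0, 18, 174005) (.node (.node (.node (.node (.node .leaf (242538, 0, 15, 193483) .leaf) (242539, 0, 18, 252486) (.node .leaf (242540, 0, 17, 5127) .leaf)) (242541, 0, 12, 150825) (.node (.node .leaf (242546, 0, 17, 175622) .leaf) (242547, 0, 18, 83500) (.node .leaf (242548, 0, 15, 247552) .leaf))) (242549, 0, 17, 53571) (.node (.node (.node .leaf (242554, 0, 17, 35742) .leaf) (242555, 0, 16, 27640) (.node .leaf (242556, 0, 13, 123544) .leaf)) (242557, 0, 15, 66302) (.node (.node .leaf (242560, 0, 14,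 5231) .leaf) (242561, 0, 18, 150849) (.node .leaf (242566, 0, 17, 99072) .leaf)))) (242567, 0, 16, 252462) (.node (.node (.node (.node .leaf (242568, 0, 15, 87447) .leaf) (242569, 0, 15, 112113) (.node .leaf (242574, 0, 17, 15505) .leaf)) (242575, 0, 16, 209074) (.node (.node .leaf (242576, 0, 16, 156313) .leaf) (242577, 0, 16, 124988) (.node .leaf (242582, 0, 13, 259574) .leaf))) (242583, 0, 14, 109784) (.node (.node (.node .leaf (242584, 0, 14, 208322) .leaf) (242585, 0, 15, 249252) (.node .leaf (242590, 0, 17, 148676) .leaf)) (242591, 0, 16, 173218) (.node (.node .leaf (242594, 0, 14, 76767) .leaf) (242595, 0, 14, 117689) (.node .leaf (242596, 0, 15, 202360) .leaf))))))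

/-- part of the orbit tree -/
def itp7_206 : Tree := (.node (.node (.node (.node (.node (.node .leaf (242602, 0, 15, 158603) .leaf) (242603, 0, 18, 12965) (.node .leaf (242604, 0, 18, 157505) .leaf)) (242605, 0, 15, 165671) (.node (.node .leaf (242610, 0, 17, 63457) .leaf) (242611, 0, 15, 175823) (.node .leaf (242612, 0, 16, 90254) .leaf))) (242613, 0, 16, 211360) (.node (.node (.node .leaf (242618, 0, 15, 95762) .leaf) (242619, 0, 14, 148563) (.node .leaf (242620, 0, 18, 7956) .leaf)) (242621, 0, 17, 65394) (.node (.node .leaf (242624, 0, 15, 19685) .leaf) (242625, 0, 18, 136651) (.node .leaf (242630, 0, 13, 95119) .leaf)))) (242631, 0, 16, 103401) (.node (.node (.node (.node .leaf (242632, 0, 18, 42617) .leaf) (242633, 0, 17, 196439) (.node .leaf (242638, 0, 18, 78102) .leaf)) (242639, 0, 16, 223288) (.node (.node .leaf (242640, 0, 12, 156380) .leaf) (242641, 0, 19, 25405) (.node .leaf (242646, 0, 17, 241020) .leaf))) (242647, 0, 17, 128082) (.node (.node (.node .leaf (242648, 0, 16, 18244) .leaf) (242649, 0, 17, 35233)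 (.node .leaf (242654, 0, 16, 77378) .leaf)) (242655, 0, 14, 118308) (.node (.node .leaf (242658, 0, 15, 147801) .leaf) (242659, 0, 17, 172351) (.node .leaf (242660, 0, 17, 216818) .leaf))))) (242661, 0, 17, 247865) (.node (.node (.node (.node (.node .leaf (242666, 0, 18, 25793) .leaf) (242667, 0, 15, 33959) (.node .leaf (242668, 0, 15, 238702) .leaf)) (242669, 0, 11, 126369) (.node (.node .leaf (242674, 0, 18, 14604) .leaf) (242675, 0, 15, 194117) (.node .leaf (242676, 0, 16, 79876) .leaf))) (242677, 0, 15, 110700) (.node (.node (.node .leaf (242682, 0, 13, 17911) .leaf) (242683, 0, 17, 195826) (.node .leaf (242684, 0, 14, 226706) .leaf)) (242685, 0, 16, 234996) (.node (.node .leaf (242688, 0, 16, 226217) .leaf) (242690, 0, 18, 140172) (.node .leaf (242693, 0, 15, 240364) .leaf)))) (242695, 0, 17, 195273) (.node (.node (.node (.node .leaf (242696, 0, 16, 87601) .leaf) (242698, 0, 16, 1556) (.node .leaf (242701, 0, 15, 34706) .leaf)) (242703, 0, 18, 225248) (.node (.node .leaf (242704, 0, 16, 68604) .leaf) (242706, 0, 12, 23513)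 (.node .leaf (242709, 0, 17, 138232) .leaf))) (242711, 0, 18, 127882) (.node (.node (.node .leaf (242712, 0, 17, 186199) .leaf) (242714, 0, 15, 163393) (.node .leaf (242717, 0, 16, 192868) .leaf)) (242719, 0, 16, 173828) (.node (.node .leaf (242721, 0, 17, 38970) .leaf) (242723, 0, 16, 34667) (.node .leaf (242724, 0, 15, 215338) .leaf))))))

/-- part of the orbit tree -/
def itp7_207 : Tree := (.node itp7_203 (242341, 0, 14, 196811) itp7_204)

/-- part of the orbit tree -/
def itp7_208 : Tree := (.node itp7_205 (242597, 0, 16, 41663) itp7_206)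

/-- part of the orbit tree -/
def itp7_209 : Tree := (.node (.node (.node (.node (.node (.node .leaf (242729, 0, 17, 179618) .leaf) (242731, 0, 12, 257415) (.node .leaf (242732, 0, 16, 156903) .leaf)) (242734, 0, 17, 19396) (.node (.node .leaf (242737, 0, 15, 72175) .leaf) (242739, 0, 16, 192925) (.node .leaf (242740, 0, 17, 145706) .leaf))) (242742, 0, 18, 223503) (.node (.node (.node .leaf (242745, 0, 15, 127859) .leaf) (242747, 0, 16, 137985) (.node .leaf (242748, 0, 18, 120128) .leaf)) (242750, 0, 16, 85143) (.node (.node .leaf (242752, 0, 18, 5047) .leaf) (242754, 0, 12, 84234) (.node .leaf (242757, 0, 16, 49258) .leaf)))) (242759, 0, 12, 102479) (.node (.node (.node (.node .leaf (242760, 0, 14, 63787) .leaf) (242762, 0, 18, 201049) (.node .leaf (242765, 0, 12, 57112) .leaf)) (242767, 0, 15, 243159) (.node (.node .leaf (242768, 0, 16, 156993) .leaf) (242770, 0, 14, 209247) (.node .leaf (242773, 0, 17, 148338) .leaf))) (242775, 0, 18, 109312) (.node (.node (.node .leaf (242776, 0, 14, 17634) .leaf) (242778, 0, 15, 70855)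 (.node .leaf (242781, 0, 13, 40359) .leaf)) (242783, 0, 15, 118146) (.node (.node .leaf (242785, 0, 16, 210835) .leaf) (242787, 0, 18, 57313) (.node .leaf (242788, 0, 18, 201120) .leaf))))) (242790, 0, 19, 162780) (.node (.node (.node (.node (.node .leaf (242793, 0, 17, 253199) .leaf) (242795, 0, 17, 13693) (.node .leaf (242796, 0, 15, 260924) .leaf)) (242798, 0, 16, 4942) (.node (.node .leaf (242801, 0, 17, 101097) .leaf) (242803, 0, 16, 56012) (.node .leaf (242804, 0, 17, 91990) .leaf))) (242806, 0, 14, 167716) (.node (.node (.node .leaf (242809, 0, 16, 109561) .leaf) (242811, 0, 15, 196436) (.node .leaf (242812, 0, 17, 101834) .leaf)) (242814, 0, 18, 140817) (.node (.node .leaf (242816, 0, 14, 124067) .leaf) (242818, 0, 18, 46214) (.node .leaf (242821, 0, 18, 253287) .leaf)))) (242823, 0, 17, 28099) (.node (.node (.node (.node .leaf (242824, 0, 17, 246075) .leaf) (242826, 0, 16, 63930) (.node .leaf (242829, 0, 12, 210939) .leaf)) (242831, 0, 15, 57225) (.node (.node .leaf (242832, 0, 17, 236790) .leaf) (242834, 0, 17, 157136)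 (.node .leaf (242837, 0, 14, 214451) .leaf))) (242839, 0, 18, 136598) (.node (.node (.node .leaf (242840, 0, 13, 91966) .leaf) (242842, 0, 15, 59723) (.node .leaf (242845, 0, 17, 82189) .leaf)) (242847, 0, 16, 12302) (.node (.node .leaf (242849, 0, 16, 57200) .leaf) (242851, 0, 17, 210690) (.node .leaf (242852, 0, 13, 185973) .leaf))))))

/-- part of the orbit tree -/
def itp7_210 : Tree := (.node (.node (.node (.node (.node (.node .leaf (242857, 0, 14, 13804) .leaf) (242859, 0, 17, 96909) (.node .leaf (242860, 0, 14, 5087) .leaf)) (242862, 0, 18, 261037) (.node (.node .leaf (242865, 0, 17, 174470) .leaf) (242867, 0, 16, 82420) (.node .leaf (242868, 0, 15, 44576) .leaf))) (242870, 0, 15, 130565) (.node (.node (.node .leaf (242873, 0, 17, 152317) .leaf) (242875, 0, 11, 109416) (.node .leaf (242876, 0, 17, 156969) .leaf)) (242878, 0, 16, 252829) (.node (.node .leaf (242880, 0, 12, 167461) .leaf) (242882, 0, 14, 253440) (.node .leaf (242885, 0, 17, 153440) .leaf)))) (242887, 0, 16, 198469) (.node (.node (.node (.node .leaf (242888,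 0, 14, 215362) .leaf) (242890, 0, 17, 129944) (.node .leaf (242893, 0, 15, 29432) .leaf)) (242895, 0, 16, 74461) (.node (.node .leaf (242896, 0, 18, 63088) .leaf) (242898, 0, 14, 108117) (.node .leaf (242901, 0, 13, 127771) .leaf))) (242903, 0, 17, 138089) (.node (.node (.node .leaf (242904, 0, 17, 81844) .leaf) (242906, 0, 17, 186310) (.node .leaf (242909, 0, 13, 72071) .leaf)) (242911, 0, 16, 193013) (.node (.node .leaf (242913, 0, 16, 34810) .leaf) (242915, 0, 15, 13715) (.node .leaf (242916, 0, 15, 113907) .leaf))))) (242918, 0, 17, 215483) (.node (.node (.node (.node (.node .leaf (242921, 0, 16, 213038) .leaf) (242923, 0, 16, 230676) (.node .leaf (242924, 0, 16, 19285) .leaf)) (242926, 0, 13, 238375) (.node (.node .leaf (242929, 0, 18, 192780) .leaf) (242931, 0, 17, 150982) (.node .leaf (242932, 0, 16, 246950) .leaf))) (242934, 0, 11, 169091) (.node (.node (.node .leaf (242937, 0, 16, 138128) .leaf) (242939, 0, 17, 26718) (.node .leaf (242940, 0, 16, 123198) .leaf)) (242942, 0, 15, 120273) (.node (.node .leaf (242944,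 0, 16, 44254) .leaf) (242946, 0, 15, 214188) (.node .leaf (242949, 0, 16, 35565) .leaf)))) (242951, 0, 18, 88253) (.node (.node (.node (.node .leaf (242952, 0, 15, 193605) .leaf) (242954, 0, 16, 238688) (.node .leaf (242957, 0, 17, 24689) .leaf)) (242959, 0, 14, 231427) (.node (.node .leaf (242960, 0, 16, 174472) .leaf) (242962, 0, 18, 78426) (.node .leaf (242965, 0, 15, 159949) .leaf))) (242967, 0, 17, 70761) (.node (.node (.node .leaf (242968, 0, 17, 35856) .leaf) (242970, 0, 17, 121030) (.node .leaf (242973, 0, 16, 136839) .leaf)) (242975, 0, 17, 130805) (.node (.node .leaf (242977, 0, 16, 211534) .leaf) (242979, 0, 14, 158315) (.node .leaf (242980, 0, 15, 254731) .leaf))))))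

/-- part of the orbit tree -/
def itp7_211 : Tree := (.node (.node (.node (.node (.node (.node .leaf (242985, 0, 16, 73686) .leaf) (242987, 0, 16, 35348) (.node .leaf (242988, 0, 14, 116371) .leaf)) (242990, 0, 17, 38582) (.node (.node .leaf (242993, 0, 12, 130572) .leaf) (242995, 0, 15, 4670) (.node .leaf (242996, 0, 18, 105310) .leaf))) (242998, 0, 17, 143437) (.node (.node (.node .leaf (243001, 0, 17, 223107) .leaf) (243003, 0, 18, 195810) (.node .leaf (243004, 0, 15, 78499) .leaf)) (243006, 0, 19, 192227) (.node (.node .leaf (243008, 0, 19, 244571) .leaf) (243010, 0, 14, 203814) (.node .leaf (243013, 0, 17, 53863) .leaf)))) (243015, 0, 13, 211477) (.node (.node (.node (.node .leaf (243016, 0, 16, 7880) .leaf) (243018, 0, 14, 259770) (.node .leaf (243021, 0, 18, 14587) .leaf)) (243023, 0, 18, 6051) (.node (.node .leaf (243024, 0, 15, 164514) .leaf) (243026, 0, 18, 37675) (.node .leaf (243029, 0, 17, 72267) .leaf))) (243031, 0, 17, 19054) (.node (.node (.node .leaf (243032, 0, 15, 255638) .leaf) (243034, 0, 16, 177843) (.node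 .leaf (243037, 0, 17, 151053) .leaf)) (243039, 0, 15, 159734) (.node (.node .leaf (243041, 0, 15, 20680) .leaf) (243043, 0, 16, 14338) (.node .leaf (243044, 0, 16, 259651) .leaf))))) (243046, 0, 13, 121256) (.node (.node (.node (.node (.node .leaf (243049, 0, 13, 211692) .leaf) (243051, 0, 18, 206197) (.node .leaf (243052, 0, 16, 203999) .leaf)) (243054, 0, 17, 261168) (.node (.node .leaf (243057, 0, 16, 141469) .leaf) (243059, 0, 15, 151284) (.node .leaf (243060, 0, 18, 98485) .leaf))) (243062, 0, 12, 238077) (.node (.node (.node .leaf (243065, 0, 13, 85018) .leaf) (243067, 0, 11, 89376) (.node .leaf (243068, 0, 16, 92713) .leaf)) (243070, 0, 18, 99429) (.node (.node .leaf (243072, 0, 15, 203959) .leaf) (243074, 0, 16, 62661) (.node .leaf (243077, 0, 16, 211588) .leaf)))) (243079, 0, 14, 54006) (.node (.node (.node (.node .leaf (243080, 0, 16, 25423) .leaf) (243082, 0, 16, 7769) (.node .leaf (243085, 0, 11, 47626) .leaf)) (243087, 0, 18, 14442) (.node (.node .leaf (243088, 0, 14, 92737) .leaf) (243090, 0, 17, 93863) (.node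 .leaf (243093, 0, 13, 85106) .leaf))) (243095, 0, 13, 173056) (.node (.node (.node .leaf (243096, 0, 13, 138010) .leaf) (243098, 0, 18, 215871) (.node .leaf (243101, 0, 15, 108270) .leaf)) (243103, 0, 18, 151196) (.node (.node .leaf (243105, 0, 13, 14483) .leaf) (243107, 0, 16, 64865) (.node .leaf (243108, 0, 18, 95233) .leaf))))))

/-- part of the orbit tree -/
def itp7_212 : Tree := (.node (.node (.node (.node (.node (.node .leaf (243113, 0, 16, 231644) .leaf) (243115, 0, 14, 186617) (.node .leaf (243116, 0, 15, 217497) .leaf)) (243118, 0, 16, 131516) (.node (.node .leaf (243121, 0, 15, 151141) .leaf) (243123, 0, 15, 108055) (.node .leaf (243124, 0, 15, 157782) .leaf))) (243126, 0, 11, 98340) (.node (.node (.node .leaf (243129, 0, 16, 127113) .leaf) (243131, 0, 14, 85131) (.node .leaf (243132, 0, 18, 164554) .leaf)) (243134, 0, 12, 31209) (.node (.node .leaf (243136, 0, 16, 76881) .leaf) (243138, 0, 17, 44111) (.node .leaf (243141, 0, 17, 128276) .leaf)))) (243143, 0, 17, 42289) (.node (.node (.node (.node .leaf (243144,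 0, 16, 241313) .leaf) (243146, 0, 14, 18131) (.node .leaf (243149, 0, 15, 249996) .leaf)) (243151, 0, 13, 164009) (.node (.node .leaf (243152, 0, 16, 78539) .leaf) (243154, 0, 11, 187065) (.node .leaf (243157, 0, 19, 70904) .leaf))) (243159, 0, 14, 195722) (.node (.node (.node .leaf (243160, 0, 17, 94620) .leaf) (243162, 0, 17, 8633) (.node .leaf (243165, 0, 13, 108761) .leaf)) (243167, 0, 16, 136726) (.node (.node .leaf (243169, 0, 16, 24601) .leaf) (243171, 0, 17, 231531) (.node .leaf (243172, 0, 16, 17962) .leaf))))) (243174, 0, 16, 216738) (.node (.node (.node (.node (.node .leaf (243177, 0, 16, 35461) .leaf) (243179, 0, 18, 111231) (.node .leaf (243180, 0, 15, 15135) .leaf)) (243182, 0, 13, 92986) (.node (.node .leaf (243185, 0, 17, 49047) .leaf) (243187, 0, 17, 126898) (.node .leaf (243188, 0, 16, 26322) .leaf))) (243190, 0, 18, 121006) (.node (.node (.node .leaf (243193, 0, 16, 195699) .leaf) (243195, 0, 17, 70657) (.node .leaf (243196, 0, 15, 148298) .leaf)) (243198, 0, 15, 201583) (.node (.node .leaf (243204, 0, 15,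 143628) .leaf) (243205, 0, 16, 26658) (.node .leaf (243206, 0, 14, 145119) .leaf)))) (243207, 0, 16, 229456) (.node (.node (.node (.node .leaf (243212, 0, 15, 82786) .leaf) (243213, 0, 17, 33470) (.node .leaf (243214, 0, 15, 78818) .leaf)) (243215, 0, 17, 223948) (.node (.node .leaf (243220, 0, 15, 73391) .leaf) (243221, 0, 18, 138964) (.node .leaf (243222, 0, 14, 20106) .leaf))) (243223, 0, 17, 128678) (.node (.node (.node .leaf (243228, 0, 15, 211767) .leaf) (243229, 0, 12, 193608) (.node .leaf (243230, 0, 17, 214292) .leaf)) (243231, 0, 15, 166772) (.node (.node .leaf (243232, 0, 14, 21548) .leaf) (243233, 0, 17, 46154) .leaf)))))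

/-- part of the orbit tree -/
def itp7_213 : Tree := (.node itp7_209 (242854, 0, 14, 230992) itp7_210)

/-- part of the orbit tree -/
def itp7_214 : Tree := (.node itp7_211 (243110, 0, 18, 9252) itp7_212)

/-- part of the orbit tree -/
def itp7_215 : Tree := (.node itp7_207 (242469, 0, 15, 144821) itp7_208)

/-- part of the orbit tree -/
def itp7_216 : Tree := (.node itp7_213 (242982, 0, 15, 176942) itp7_214)

/-- part of the orbit tree -/
def itp7_217 : Tree := (.node itp7_201 (241704, 0, 17, 214892) itp7_202)

/-- part of the orbit tree -/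
def itp7_218 : Tree := (.node itp7_215 (242726, 0, 18, 41304) itp7_216)

/-- part of the orbit tree -/
def itp7_219 : Tree := (.node (.node (.node (.node (.node (.node .leaf (243235, 0, 15, 33351) .leaf) (243240, 0, 15, 121223) (.node .leaf (243241, 0, 15, 229545) .leaf)) (243242, 0, 13, 143861) (.node (.node .leaf (243243, 0, 17, 26843) .leaf) (243248, 0, 16, 142457) (.node .leaf (243249, 0, 13, 72899) .leaf))) (243250, 0, 15, 44447) (.node (.node (.node .leaf (243251, 0, 17, 236602) .leaf) (243256, 0, 16, 2529) (.node .leaf (243257, 0, 15, 128607) .leaf)) (243258, 0, 16, 88516) (.node (.node .leaf (243259, 0, 18, 138797) .leaf) (243268, 0, 17, 158086) (.node .leaf (243269, 0, 17, 60442) .leaf)))) (243270, 0, 17, 89177) (.node (.node (.node (.node .leaf (243271, 0, 17, 252122) .leaf) (243276, 0, 15, 164634) (.node .leaf (243277, 0, 17, 55860) .leaf)) (243278, 0, 18, 227777) (.node (.node .leaf (243279, 0, 14, 209478) .leaf) (243284, 0, 11, 160809) (.node .leaf (243285, 0, 19, 169039) .leaf))) (243286, 0, 17, 259842) (.node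 (.node (.node .leaf (243287, 0, 15, 110124) .leaf) (243292, 0, 16, 62956) (.node .leaf (243293, 0, 13, 175298) .leaf)) (243294, 0, 14, 65940) (.node (.node .leaf (243295, 0, 18, 83120) .leaf) (243296, 0, 15, 212650) (.node .leaf (243297, 0, 16, 209599) .leaf))))) (243298, 0, 15, 164835) (.node (.node (.node (.node (.node .leaf (243299, 0, 18, 56013) .leaf) (243304, 0, 13, 98573) (.node .leaf (243305, 0, 18, 129876) .leaf)) (243306, 0, 19, 158079) (.node (.node .leaf (243307, 0, 17, 43889) .leaf) (243312, 0, 14, 83711) (.node .leaf (243313, 0, 17, 108185) .leaf))) (243314, 0, 17, 5850) (.node (.node (.node .leaf (243315, 0, 19, 63164) .leaf) (243320, 0, 16, 222055) (.node .leaf (243321, 0, 18, 110293) .leaf)) (243322, 0, 13, 144194) (.node (.node .leaf (243323, 0, 17, 185124) .leaf) (243332, 0, 15, 127472) (.node .leaf (243333, 0, 13, 251979) .leaf)))) (243334, 0, 18, 157975) (.node (.node (.node (.node .leaf (243335, 0, 13, 12345) .leaf) (243340, 0, 18, 250984) (.node .leaf (243341, 0, 17, 209623) .leaf)) (243342, 0, 17, 164747)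 (.node (.node .leaf (243343, 0, 12, 156715) .leaf) (243348, 0, 14, 259987) (.node .leaf (243349, 0, 13, 110269) .leaf))) (243350, 0, 15, 8161) (.node (.node (.node .leaf (243351, 0, 16, 145894) .leaf) (243356, 0, 17, 204047) (.node .leaf (243357, 0, 18, 82977) .leaf)) (243358, 0, 18, 62845) (.node (.node .leaf (243359, 0, 15, 7294) .leaf) (243360, 0, 15, 181030) (.node .leaf (243361, 0, 17, 55900) .leaf))))))

/-- part of the orbit tree -/
def itp7_220 : Tree := (.node (.node (.node (.node (.node (.node .leaf (243363, 0, 18, 226149) .leaf) (243368, 0, 17, 59070) (.node .leaf (243369, 0, 13, 1752) .leaf)) (243370, 0, 17, 98716) (.node (.node .leaf (243371, 0, 17, 252082) .leaf) (243376, 0, 15, 62852) (.node .leaf (243377, 0, 16, 23317) .leaf))) (243378, 0, 16, 204278) (.node (.node (.node .leaf (243379, 0, 12, 83160) .leaf) (243384, 0, 14, 7960) (.node .leaf (243385, 0, 16, 163469) .leaf)) (243386, 0, 15, 259946) (.node (.node .leaf (243387, 0, 15, 208552) .leaf) (243396, 0, 16, 121327) (.node .leaf (243397, 0, 16, 229569) .leaf))))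 (243398, 0, 18, 248659) (.node (.node (.node (.node .leaf (243399, 0, 18, 207669) .leaf) (243404, 0, 13, 78707) (.node .leaf (243405, 0, 17, 24200) .leaf)) (243406, 0, 17, 187137) (.node (.node .leaf (243407, 0, 17, 33327) .leaf) (243412, 0, 16, 58147) (.node .leaf (243413, 0, 16, 128567) .leaf))) (243414, 0, 15, 111366) (.node (.node (.node .leaf (243415, 0, 16, 86880) .leaf) (243420, 0, 17, 181947) (.node .leaf (243421, 0, 13, 141021) .leaf)) (243422, 0, 16, 235166) (.node (.node .leaf (243423, 0, 17, 193753) .leaf) (243424, 0, 18, 187384) (.node .leaf (243425, 0, 16, 84422) .leaf))))) (243426, 0, 17, 78730) (.node (.node (.node (.node (.node .leaf (243427, 0, 19, 223908) .leaf) (243432, 0, 17, 143716) (.node .leaf (243433, 0, 13, 224350) .leaf)) (243434, 0, 18, 121110) (.node (.node .leaf (243435, 0, 17, 229432) .leaf) (243440, 0, 16, 250357) (.node .leaf (243441, 0, 14, 209299) .leaf))) (243442, 0, 14, 214396) (.node (.node (.node .leaf (243443, 0, 16, 72786) .leaf) (243448, 0, 15, 128109) (.node .leaf (243449, 0, 17, 138940)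 .leaf)) (243450, 0, 15, 241632) (.node (.node .leaf (243451, 0, 17, 17454) .leaf) (243460, 0, 16, 50318) (.node .leaf (243461, 0, 14, 36801) .leaf)))) (243462, 0, 14, 103595) (.node (.node (.node (.node .leaf (243463, 0, 17, 223155) .leaf) (243468, 0, 14, 146547) (.node .leaf (243469, 0, 17, 131440) .leaf)) (243470, 0, 17, 241971) (.node (.node .leaf (243471, 0, 17, 217429) .leaf) (243476, 0, 17, 179419) (.node .leaf (243477, 0, 16, 154813) .leaf))) (243478, 0, 18, 215147) (.node (.node (.node .leaf (243479, 0, 16, 199832) .leaf) (243484, 0, 16, 19077) (.node .leaf (243485, 0, 16, 136107) .leaf)) (243486, 0, 15, 238327) (.node (.node .leaf (243487, 0, 19, 76032) .leaf) (243488, 0, 12, 259672) (.node .leaf (243489, 0, 13, 232918) .leaf))))))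

/-- part of the orbit tree -/
def itp7_221 : Tree := (.node (.node (.node (.node (.node (.node .leaf (243491, 0, 16, 26020) .leaf) (243496, 0, 18, 81508) (.node .leaf (243497, 0, 18, 223050) .leaf)) (243498, 0, 16, 33765) (.node (.node .leaf (243499, 0, 17, 25475) .leaf) (243504, 0, 14, 238094) (.node .leaf (243505, 0, 14, 93803) .leaf))) (243506, 0, 15, 56872) (.node (.node (.node .leaf (243507, 0, 16, 136018) .leaf) (243512, 0, 15, 240533) (.node .leaf (243513, 0, 17, 70076) .leaf)) (243514, 0, 13, 41184) (.node (.node .leaf (243515, 0, 16, 195022) .leaf) (243524, 0, 18, 241160) (.node .leaf (243525, 0, 16, 216686) .leaf)))) (243526, 0, 16, 91671) (.node (.node (.node (.node .leaf (243527, 0, 17, 138827) .leaf) (243532, 0, 16, 156921) (.node .leaf (243533, 0, 16, 93174) .leaf)) (243534, 0, 18, 101515) (.node (.node .leaf (243535, 0, 17, 15315) .leaf) (243540, 0, 14, 63635) (.node .leaf (243541, 0, 15, 172477) .leaf))) (243542, 0, 18, 200929) (.node (.node (.node .leaf (243543, 0, 10, 26142) .leaf) (243548, 0, 14, 259013)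 (.node .leaf (243549, 0, 16, 201635) .leaf)) (243550, 0, 19, 260733) (.node (.node .leaf (243551, 0, 14, 148358) .leaf) (243552, 0, 16, 40158) (.node .leaf (243553, 0, 16, 31928) .leaf))))) (243554, 0, 13, 118011) (.node (.node (.node (.node (.node .leaf (243555, 0, 17, 15662) .leaf) (243560, 0, 17, 91886) (.node .leaf (243561, 0, 16, 212928) .leaf)) (243562, 0, 14, 167580) (.node (.node .leaf (243563, 0, 13, 55218) .leaf) (243568, 0, 17, 189579) (.node .leaf (243569, 0, 18, 107434) .leaf))) (243570, 0, 19, 4854) (.node (.node (.node .leaf (243571, 0, 17, 218312) .leaf) (243576, 0, 17, 49427) (.node .leaf (243577, 0, 15, 84278) .leaf)) (243578, 0, 17, 102710) (.node (.node .leaf (243579, 0, 10, 172356) .leaf) (243588, 0, 17, 152452) (.node .leaf (243589, 0, 16, 212904) .leaf)))) (243590, 0, 14, 167668) (.node (.node (.node (.node .leaf (243591, 0, 15, 254919) .leaf) (243596, 0, 17, 30236) (.node .leaf (243597, 0, 17, 251188) .leaf)) (243598, 0, 18, 156776) (.node (.node .leaf (243599, 0, 18, 15686) .leaf) (243604, 0, 15, 200816)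 (.node .leaf (243605, 0, 16, 52151) .leaf))) (243606, 0, 18, 63490) (.node (.node (.node .leaf (243607, 0, 15, 172332) .leaf) (243612, 0, 15, 260844) (.node .leaf (243613, 0, 17, 192047) .leaf)) (243614, 0, 14, 220780) (.node (.node .leaf (243615, 0, 17, 150448) .leaf) (243616, 0, 15, 90450) (.node .leaf (243617, 0, 10, 98612) .leaf))))))

/-- part of the orbit tree -/
def itp7_222 : Tree := (.node (.node (.node (.node (.node (.node .leaf (243619, 0, 16, 53521) .leaf) (243624, 0, 18, 167437) (.node .leaf (243625, 0, 16, 238764) .leaf)) (243626, 0, 17, 136431) (.node (.node .leaf (243627, 0, 17, 212817) .leaf) (243632, 0, 17, 203015) (.node .leaf (243633, 0, 17, 260449) .leaf))) (243634, 0, 14, 149794) (.node (.node (.node .leaf (243635, 0, 15, 107323) .leaf) (243640, 0, 16, 81055) (.node .leaf (243641, 0, 15, 122105) .leaf)) (243642, 0, 18, 27834) (.node (.node .leaf (243643, 0, 17, 84391) .leaf) (243652, 0, 16, 80130) (.node .leaf (243653, 0, 15, 121188) .leaf)))) (243654, 0, 16, 26919) (.node (.node (.node (.node .leaf (243655,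 0, 17, 35137) .leaf) (243660, 0, 17, 203930) (.node .leaf (243661, 0, 17, 232894) .leaf)) (243662, 0, 16, 150719) (.node (.node .leaf (243663, 0, 15, 26060) .leaf) (243668, 0, 16, 215290) (.node .leaf (243669, 0, 15, 70100) .leaf))) (243670, 0, 16, 135538) (.node (.node (.node .leaf (243671, 0, 17, 194982) .leaf) (243676, 0, 18, 91343) (.node .leaf (243677, 0, 17, 99497) .leaf)) (243678, 0, 13, 18964) (.node (.node .leaf (243679, 0, 18, 54412) .leaf) (243680, 0, 15, 146459) (.node .leaf (243681, 0, 19, 191410) .leaf))))) (243682, 0, 14, 119913) (.node (.node (.node (.node (.node .leaf (243683, 0, 13, 244631) .leaf) (243688, 0, 18, 11852) (.node .leaf (243689, 0, 16, 52778) .leaf)) (243690, 0, 18, 81653) (.node (.node .leaf (243691, 0, 16, 105999) .leaf) (243696, 0, 16, 19181) (.node .leaf (243697, 0, 18, 136131) .leaf))) (243698, 0, 17, 74660) (.node (.node (.node .leaf (243699, 0, 17, 115650) .leaf) (243704, 0, 17, 153113) (.node .leaf (243705, 0, 16, 194911) .leaf)) (243706, 0, 16, 198204) (.node (.node .leaf (243707, 0,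 14, 255578) .leaf) (243712, 0, 9, 197622) (.node .leaf (243715, 0, 16, 176810) .leaf)))) (243716, 0, 11, 11838) (.node (.node (.node (.node .leaf (243719, 0, 16, 106109) .leaf) (243720, 0, 16, 256362) (.node .leaf (243723, 0, 14, 153654) .leaf)) (243724, 0, 14, 134054) (.node (.node .leaf (243727, 0, 18, 244709) .leaf) (243728, 0, 16, 159560) (.node .leaf (243731, 0, 15, 50268) .leaf))) (243732, 0, 17, 199197) (.node (.node (.node .leaf (243735, 0, 16, 179009) .leaf) (243736, 0, 14, 19152) (.node .leaf (243739, 0, 16, 11968) .leaf)) (243740, 0, 17, 29683) (.node (.node .leaf (243743, 0, 15, 152029) .leaf) (243745, 0, 17, 10194) (.node .leaf (243746, 0, 14, 104078) .leaf))))))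

/-- part of the orbit tree -/
def itp7_223 : Tree := (.node itp7_219 (243362, 0, 16, 92928) itp7_220)

/-- part of the orbit tree -/
def itp7_224 : Tree := (.node itp7_221 (243618, 0, 17, 12663) itp7_222)

/-- part of the orbit tree -/
def itp7_225 : Tree := (.node (.node (.node (.node (.node (.node .leaf (243750, 0, 15, 256403) .leaf) (243753, 0, 18, 121110) (.node .leaf (243754, 0, 14, 97298) .leaf)) (243757, 0, 12, 122933) (.node (.node .leaf (243758, 0, 13, 20598) .leaf) (243761, 0, 16, 151844) (.node .leaf (243762, 0, 15, 254072) .leaf))) (243765, 0, 17, 114168) (.node (.node (.node .leaf (243766, 0, 15, 106341) .leaf) (243769, 0, 18, 237891) (.node .leaf (243770, 0, 12, 135424) .leaf)) (243773, 0, 17, 50341) (.node (.node .leaf (243774, 0, 16, 95737) .leaf) (243776, 0, 11, 220028) (.node .leaf (243779, 0, 17, 191008) .leaf)))) (243780, 0, 16, 214200) (.node (.node (.node (.node .leaf (243783, 0, 17, 38205) .leaf) (243784, 0, 13, 242144) (.node .leaf (243787, 0, 12, 59456) .leaf)) (243788, 0, 13, 90400) (.node (.node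 .leaf (243791, 0, 8, 53603) .leaf) (243792, 0, 15, 77194) (.node .leaf (243795, 0, 15, 46477) .leaf))) (243796, 0, 14, 81133) (.node (.node (.node .leaf (243799, 0, 19, 36014) .leaf) (243800, 0, 16, 116502) (.node .leaf (243803, 0, 16, 30282) .leaf)) (243804, 0, 15, 243723) (.node (.node .leaf (243807, 0, 19, 133463) .leaf) (243809, 0, 15, 38408) (.node .leaf (243810, 0, 15, 75339) .leaf))))) (243813, 0, 15, 131141) (.node (.node (.node (.node (.node .leaf (243814, 0, 16, 241945) .leaf) (243817, 0, 17, 38340) (.node .leaf (243818, 0, 14, 197587) .leaf)) (243821, 0, 16, 191193) (.node (.node .leaf (243822, 0, 13, 220037) .leaf) (243825, 0, 17, 133550) (.node .leaf (243826, 0, 15, 243954) .leaf))) (243829, 0, 17, 186238) (.node (.node (.node .leaf (243830, 0, 14, 116719) .leaf) (243833, 0, 19, 189234) (.node .leaf (243834, 0, 18, 97158) .leaf)) (243837, 0, 17, 39983) (.node (.node .leaf (243838, 0, 18, 77171) .leaf) (243840, 0, 15, 45983) (.node .leaf (243843, 0, 16, 208980) .leaf)))) (243844, 0, 13, 178484) (.node (.node (.node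 (.node .leaf (243847, 0, 12, 199031) .leaf) (243848, 0, 18, 42383) (.node .leaf (243851, 0, 16, 125023) .leaf)) (243852, 0, 14, 40108) (.node (.node .leaf (243855, 0, 12, 235330) .leaf) (243856, 0, 13, 181609) (.node .leaf (243859, 0, 15, 226357) .leaf))) (243860, 0, 16, 47732) (.node (.node (.node .leaf (243863, 0, 18, 68392) .leaf) (243864, 0, 16, 187866) (.node .leaf (243867, 0, 17, 224665) .leaf)) (243868, 0, 14, 189689) (.node (.node .leaf (243871, 0, 15, 123316) .leaf) (243873, 0, 18, 93060) (.node .leaf (243874, 0, 17, 56263) .leaf))))))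

/-- part of the orbit tree -/
def itp7_226 : Tree := (.node (.node (.node (.node (.node (.node .leaf (243878, 0, 16, 23034) .leaf) (243881, 0, 10, 228647) (.node .leaf (243882, 0, 15, 183419) .leaf)) (243885, 0, 15, 227135) (.node (.node .leaf (243886, 0, 15, 45926) .leaf) (243889, 0, 14, 201681) (.node .leaf (243890, 0, 18, 20497) .leaf))) (243893, 0, 17, 207602) (.node (.node (.node .leaf (243894, 0, 16, 170673) .leaf) (243897, 0, 16, 68561) (.node .leaf (243898, 0, 16, 47757) .leaf)) (243901, 0, 11, 69482) (.node (.node .leaf (243902, 0, 16, 48937) .leaf) (243904, 0, 17, 125585) (.node .leaf (243907, 0, 14, 23250) .leaf)))) (243908, 0, 18, 168968) (.node (.node (.node (.node .leaf (243911, 0, 17, 206164) .leaf) (243912, 0, 15, 249609) (.node .leaf (243915, 0, 13, 110805) .leaf)) (243916, 0, 15, 163476) (.node (.node .leaf (243919, 0, 18, 149097) .leaf) (243920, 0, 16, 171491) (.node .leaf (243923, 0, 13, 139911) .leaf))) (243924, 0, 17, 240615) (.node (.node (.node .leaf (243927, 0, 17, 86946) .leaf) (243928, 0, 16, 112476)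 (.node .leaf (243931, 0, 16, 1823) .leaf)) (243932, 0, 15, 2146) (.node (.node .leaf (243935, 0, 18, 112958) .leaf) (243937, 0, 17, 249649) (.node .leaf (243938, 0, 16, 241985) .leaf))))) (243941, 0, 17, 145441) (.node (.node (.node (.node (.node .leaf (243942, 0, 12, 368) .leaf) (243945, 0, 19, 206253) (.node .leaf (243946, 0, 17, 169201) .leaf)) (243949, 0, 15, 7609) (.node (.node .leaf (243950, 0, 16, 60396) .leaf) (243953, 0, 16, 113095) (.node .leaf (243954, 0, 14, 2203) .leaf))) (243957, 0, 12, 16500) (.node (.node (.node .leaf (243958, 0, 17, 161670) .leaf) (243961, 0, 15, 86875) (.node .leaf (243962, 0, 15, 57863) .leaf)) (243965, 0, 15, 157164) (.node (.node .leaf (243966, 0, 12, 171290) .leaf) (243968, 0, 14, 243049) (.node .leaf (243971, 0, 15, 132394) .leaf)))) (243972, 0, 16, 232522) (.node (.node (.node (.node .leaf (243975, 0, 16, 146441) .leaf) (243976, 0, 16, 200329) (.node .leaf (243979, 0, 15, 8370) .leaf)) (243980, 0, 13, 109010) (.node (.node .leaf (243983, 0, 17, 6545) .leaf) (243984, 0, 13, 103139) (.node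 .leaf (243987, 0, 16, 32127) .leaf))) (243988, 0, 14, 257534) (.node (.node (.node .leaf (243991, 0, 14, 154786) .leaf) (243992, 0, 17, 256164) (.node .leaf (243995, 0, 17, 51491) .leaf)) (243996, 0, 16, 250247) (.node (.node .leaf (243999, 0, 17, 156100) .leaf) (244001, 0, 15, 24314) (.node .leaf (244002, 0, 14, 94573) .leaf))))))

/-- part of the orbit tree -/
def itp7_227 : Tree := (.node (.node (.node (.node (.node (.node .leaf (244006, 0, 15, 200304) .leaf) (244009, 0, 16, 162658) (.node .leaf (244010, 0, 16, 248609) .leaf)) (244013, 0, 17, 153008) (.node (.node .leaf (244014, 0, 18, 258562) .leaf) (244017, 0, 15, 177863) (.node .leaf (244018, 0, 17, 235244) .leaf))) (244021, 0, 15, 139148) (.node (.node (.node .leaf (244022, 0, 16, 241615) .leaf) (244025, 0, 17, 823) (.node .leaf (244026, 0, 13, 111476) .leaf)) (244029, 0, 13, 9030) (.node (.node .leaf (244030, 0, 13, 102938) .leaf) (244032, 0, 13, 244895) (.node .leaf (244035, 0, 17, 94124) .leaf)))) (244036, 0, 18, 115586) (.node (.node (.node (.node .leaf (244039,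 0, 15, 87695) .leaf) (244040, 0, 18, 195191) (.node .leaf (244043, 0, 16, 215604) .leaf)) (244044, 0, 15, 76062) (.node (.node .leaf (244047, 0, 13, 38978) .leaf) (244048, 0, 14, 117353) (.node .leaf (244051, 0, 15, 202745) .leaf))) (244052, 0, 18, 171673) (.node (.node (.node .leaf (244055, 0, 15, 208602) .leaf) (244056, 0, 17, 33314) (.node .leaf (244059, 0, 17, 37289) .leaf)) (244060, 0, 14, 47873) (.node (.node .leaf (244063, 0, 10, 192180) .leaf) (244065, 0, 14, 210044) (.node .leaf (244066, 0, 13, 164927) .leaf))))) (244069, 0, 15, 200031) (.node (.node (.node (.node (.node .leaf (244070, 0, 14, 179484) .leaf) (244073, 0, 14, 70116) (.node .leaf (244074, 0, 15, 115579) .leaf)) (244077, 0, 17, 75975) (.node (.node .leaf (244078, 0, 17, 244838) .leaf) (244081, 0, 17, 85033) (.node .leaf (244082, 0, 16, 64618) .leaf))) (244085, 0, 19, 95498) (.node (.node (.node .leaf (244086, 0, 17, 50505) .leaf) (244089, 0, 15, 132305) (.node .leaf (244090, 0, 12, 243085) .leaf)) (244093, 0, 17, 217234) (.node (.node .leaf (244094, 0,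 16, 117392) .leaf) (244096, 0, 17, 21628) (.node .leaf (244099, 0, 16, 37408) .leaf)))) (244100, 0, 16, 72512) (.node (.node (.node (.node .leaf (244103, 0, 17, 236093) .leaf) (244104, 0, 13, 198651) (.node .leaf (244107, 0, 16, 69564) .leaf)) (244108, 0, 14, 180733) (.node (.node .leaf (244111, 0, 15, 167579) .leaf) (244112, 0, 18, 139914) (.node .leaf (244115, 0, 14, 191093) .leaf))) (244116, 0, 16, 23959) (.node (.node (.node .leaf (244119, 0, 18, 126155) .leaf) (244120, 0, 17, 98222) (.node .leaf (244123, 0, 18, 53229) .leaf)) (244124, 0, 16, 83597) (.node (.node .leaf (244127, 0, 16, 67159) .leaf) (244129, 0, 17, 225368) (.node .leaf (244130, 0, 17, 227763) .leaf))))))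

/-- part of the orbit tree -/
def itp7_228 : Tree := (.node (.node (.node (.node (.node (.node .leaf (244134, 0, 15, 48665) .leaf) (244137, 0, 15, 236228) (.node .leaf (244138, 0, 15, 89131) .leaf)) (244141, 0, 15, 124377) (.node (.node .leaf (244142, 0, 16, 91400) .leaf) (244145, 0, 16, 67246) (.node .leaf (244146, 0, 17, 66022) .leaf))) (244149, 0, 17, 227763) (.node (.node (.node .leaf (244150, 0, 16, 80069) .leaf) (244153, 0, 16, 126002) (.node .leaf (244154, 0, 18, 205950) .leaf)) (244157, 0, 19, 175390) (.node (.node .leaf (244158, 0, 17, 139891) .leaf) (244160, 0, 17, 3318) (.node .leaf (244163, 0, 12, 260262) .leaf)))) (244164, 0, 16, 160747) (.node (.node (.node (.node .leaf (244167, 0, 13, 246455) .leaf) (244168, 0, 16, 58986) (.node .leaf (244171, 0, 15, 87862) .leaf)) (244172, 0, 18, 21598) (.node (.node .leaf (244175, 0, 17, 123933) .leaf) (244176, 0, 10, 162304) (.node .leaf (244179, 0, 16, 248668) .leaf))) (244180, 0, 13, 1309) (.node (.node (.node .leaf (244183, 0, 15, 111681) .leaf) (244184, 0, 16, 136488)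 (.node .leaf (244187, 0, 15, 238955) .leaf)) (244188, 0, 17, 61313) (.node (.node .leaf (244191, 0, 17, 236616) .leaf) (244193, 0, 17, 107382) (.node .leaf (244194, 0, 17, 4917) .leaf))))) (244197, 0, 17, 88015) (.node (.node (.node (.node (.node .leaf (244198, 0, 14, 10774) .leaf) (244201, 0, 13, 231150) (.node .leaf (244202, 0, 17, 145069) .leaf)) (244205, 0, 16, 114003) (.node (.node .leaf (244206, 0, 18, 3087) .leaf) (244209, 0, 14, 252707) (.node .leaf (244210, 0, 16, 158560) .leaf))) (244213, 0, 16, 254464) (.node (.node (.node .leaf (244214, 0, 17, 168037) .leaf) (244217, 0, 17, 130747) (.node .leaf (244218, 0, 15, 1508) .leaf)) (244221, 0, 15, 248741) (.node (.node .leaf (244222, 0, 17, 30683) .leaf) (244226, 0, 16, 93000) (.node .leaf (244227, 0, 12, 178054) .leaf)))) (244230, 0, 17, 86635) (.node (.node (.node (.node .leaf (244231, 0, 18, 51355) .leaf) (244234, 0, 15, 1076) (.node .leaf (244235, 0, 16, 241334) .leaf)) (244238, 0, 15, 227315) (.node (.node .leaf (244239, 0, 15, 235413) .leaf) (244242, 0, 17, 170078)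 (.node .leaf (244243, 0, 16, 258939) .leaf))) (244246, 0, 14, 207422) (.node (.node (.node .leaf (244247, 0, 16, 248408) .leaf) (244250, 0, 18, 79493) (.node .leaf (244251, 0, 16, 11244) .leaf)) (244254, 0, 18, 3551) (.node (.node .leaf (244255, 0, 18, 152817) .leaf) (244256, 0, 17, 209048) .leaf)))))

/-- part of the orbit tree -/
def itp7_229 : Tree := (.node itp7_225 (243877, 0, 16, 86695) itp7_226)

/-- part of the orbit tree -/
def itp7_230 : Tree := (.node itp7_227 (244133, 0, 16, 69445) itp7_228)

/-- part of the orbit tree -/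
def itp7_231 : Tree := (.node itp7_223 (243490, 0, 17, 146570) itp7_224)

/-- part of the orbit tree -/
def itp7_232 : Tree := (.node itp7_229 (244005, 0, 16, 180012) itp7_230)

/-- part of the orbit tree -/
def itp7_233 : Tree := (.node (.node (.node (.node (.node (.node .leaf (244260, 0, 15, 1229) .leaf) (244261, 0, 18, 256477) (.node .leaf (244264, 0, 16, 168268) .leaf)) (244265, 0, 16, 128358) (.node (.node .leaf (244268, 0, 17, 76835) .leaf) (244269, 0, 16, 178047) (.node .leaf (244272, 0, 17, 3366) .leaf))) (244273, 0, 17, 108715) (.node (.node (.node .leaf (244276, 0, 15, 160315) .leaf) (244277, 0, 16, 11029) (.node .leaf (244280, 0, 15, 224597) .leaf)) (244281, 0, 14, 232755) (.node (.node .leaf (244284, 0, 11, 170151) .leaf) (244285, 0, 15, 49545) (.node .leaf (244290, 0, 16, 131534) .leaf)))) (244291, 0, 15, 188840) (.node (.node (.node (.node .leaf (244294, 0, 15, 182591) .leaf) (244295, 0, 16, 36881) (.node .leaf (244298, 0, 18, 9302) .leaf)) (244299, 0, 17, 50224) (.node (.node .leaf (244302, 0, 14, 140195) .leaf)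 (244303, 0, 18, 31373) (.node .leaf (244306, 0, 15, 180436) .leaf))) (244307, 0, 18, 39421) (.node (.node (.node .leaf (244310, 0, 15, 49097) .leaf) (244311, 0, 16, 190183) (.node .leaf (244314, 0, 17, 141896) .leaf)) (244315, 0, 15, 179301) (.node (.node .leaf (244318, 0, 16, 21845) .leaf) (244319, 0, 17, 165190) (.node .leaf (244320, 0, 15, 23070) .leaf))))) (244321, 0, 16, 31348) (.node (.node (.node (.node (.node .leaf (244324, 0, 17, 23623) .leaf) (244325, 0, 14, 132457) (.node .leaf (244328, 0, 18, 163718) .leaf)) (244329, 0, 16, 172000) (.node (.node .leaf (244332, 0, 17, 46811) .leaf) (244333, 0, 18, 192501) (.node .leaf (244336, 0, 15, 139851) .leaf))) (244337, 0, 9, 180781) (.node (.node (.node .leaf (244340, 0, 16, 138088) .leaf) (244341, 0, 15, 195342) (.node .leaf (244344, 0, 19, 48944) .leaf)) (244345, 0, 17, 59317) (.node (.node .leaf (244348, 0, 17, 180269) .leaf) (244349, 0, 14, 56982) (.node .leaf (244354, 0, 17, 261186) .leaf)))) (244355, 0, 16, 203812) (.node (.node (.node (.node .leaf (244358, 0, 17, 247137)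 .leaf) (244359, 0, 16, 206087) (.node .leaf (244362, 0, 14, 242781) .leaf)) (244363, 0, 18, 80316) (.node (.node .leaf (244366, 0, 17, 117568) .leaf) (244367, 0, 15, 65695) (.node .leaf (244370, 0, 15, 75831) .leaf))) (244371, 0, 16, 225561) (.node (.node (.node .leaf (244374, 0, 17, 218922) .leaf) (244375, 0, 15, 69124) (.node .leaf (244378, 0, 15, 237967) .leaf)) (244379, 0, 16, 213481) (.node (.node .leaf (244382, 0, 11, 235692) .leaf) (244383, 0, 15, 227530) (.node .leaf (244384, 0, 13, 108434) .leaf))))))

/-- part of the orbit tree -/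
def itp7_234 : Tree := (.node (.node (.node (.node (.node (.node .leaf (244388, 0, 14, 242852) .leaf) (244389, 0, 16, 98007) (.node .leaf (244392, 0, 15, 74021) .leaf)) (244393, 0, 16, 221804) (.node (.node .leaf (244396, 0, 14, 244521) .leaf) (244397, 0, 17, 219983) (.node .leaf (244400, 0, 15, 253895) .leaf))) (244401, 0, 17, 124001) (.node (.node (.node .leaf (244404, 0, 14, 115282) .leaf) (244405, 0, 16, 236412) (.node .leaf (244408, 0, 13, 129631) .leaf)) (244409, 0, 15, 72249) (.node (.node .leaf (244412, 0, 18, 115580) .leaf) (244413, 0, 15, 225760) (.node .leaf (244418, 0, 16, 38596) .leaf)))) (244419, 0, 17, 30370) (.node (.node (.node (.node .leaf (244422, 0, 14, 45031) .leaf) (244423, 0, 18, 20353) (.node .leaf (244426, 0, 17, 176988) .leaf)) (244427, 0, 16, 112121) (.node (.node .leaf (244430, 0, 14, 166527) .leaf) (244431, 0, 17, 158233) (.node .leaf (244434, 0, 17, 192145) .leaf))) (244435, 0, 14, 134903) (.node (.node (.node .leaf (244438, 0, 11, 186290) .leaf) (244439, 0, 15, 145364) (.node .leaf (244442, 0,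 13, 104993) .leaf)) (244443, 0, 18, 11119) (.node (.node .leaf (244446, 0, 17, 255292) .leaf) (244447, 0, 14, 113682) (.node .leaf (244448, 0, 17, 183572) .leaf))))) (244449, 0, 16, 142706) (.node (.node (.node (.node (.node .leaf (244452, 0, 16, 193591) .leaf) (244453, 0, 17, 111872) (.node .leaf (244456, 0, 18, 59532) .leaf)) (244457, 0, 9, 204929) (.node (.node .leaf (244460, 0, 14, 53679) .leaf) (244461, 0, 17, 12745) (.node .leaf (244464, 0, 17, 46401) .leaf))) (244465, 0, 15, 113899) (.node (.node (.node .leaf (244468, 0, 13, 105176) .leaf) (244469, 0, 15, 27652) (.node .leaf (244472, 0, 18, 200537) .leaf)) (244473, 0, 18, 87671) (.node (.node .leaf (244476, 0, 15, 174586) .leaf) (244477, 0, 16, 149916) (.node .leaf (244482, 0, 15, 2379) .leaf)))) (244483, 0, 16, 151653) (.node (.node (.node (.node .leaf (244486, 0, 14, 192543) .leaf) (244487, 0, 15, 12152) (.node .leaf (244490, 0, 15, 58327) .leaf)) (244491, 0, 16, 3266) (.node (.node .leaf (244494, 0, 18, 54663) .leaf) (244495, 0, 17, 13793) (.node .leaf (244498, 0,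 13, 163773) .leaf))) (244499, 0, 16, 20751) (.node (.node (.node .leaf (244502, 0, 17, 34890) .leaf) (244503, 0, 14, 26668) (.node .leaf (244506, 0, 14, 169249) .leaf)) (244507, 0, 14, 160919) (.node (.node .leaf (244510, 0, 15, 59964) .leaf) (244511, 0, 17, 150964) (.node .leaf (244512, 0, 16, 37612) .leaf))))))

/-- part of the orbit tree -/
def itp7_235 : Tree := (.node (.node (.node (.node (.node (.node .leaf (244516, 0, 14, 43983) .leaf) (244517, 0, 15, 178688) (.node .leaf (244520, 0, 15, 161455) .leaf)) (244521, 0, 13, 153362) (.node (.node .leaf (244524, 0, 14, 167511) .leaf) (244525, 0, 15, 159281) (.node .leaf (244528, 0, 16, 191161) .leaf))) (244529, 0, 14, 177131) (.node (.node (.node .leaf (244532, 0, 17, 185242) .leaf) (244533, 0, 15, 144380) (.node .leaf (244536, 0, 16, 53025) .leaf)) (244537, 0, 16, 12103) (.node (.node .leaf (244540, 0, 18, 62978) .leaf) (244541, 0, 16, 9834) (.node .leaf (244546, 0, 13, 107450) .leaf)))) (244547, 0, 15, 82908) (.node (.node (.node (.node .leaf (244550, 0, 17, 105113) .leaf)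 (244551, 0, 18, 30706) (.node .leaf (244554, 0, 17, 230946) .leaf)) (244555, 0, 17, 222788) (.node (.node .leaf (244558, 0, 14, 245505) .leaf) (244559, 0, 12, 40302) (.node .leaf (244562, 0, 16, 141111) .leaf))) (244563, 0, 16, 32281) (.node (.node (.node .leaf (244566, 0, 18, 254668) .leaf) (244567, 0, 16, 197290) (.node .leaf (244570, 0, 13, 183723) .leaf)) (244571, 0, 18, 38021) (.node (.node .leaf (244574, 0, 17, 45750) .leaf) (244575, 0, 18, 75570) (.node .leaf (244576, 0, 17, 260202) .leaf))))) (244577, 0, 16, 40343) (.node (.node (.node (.node (.node .leaf (244580, 0, 16, 246089) .leaf) (244581, 0, 16, 189066) (.node .leaf (244584, 0, 18, 142885) .leaf)) (244585, 0, 17, 81300) (.node (.node .leaf (244588, 0, 12, 124113) .leaf) (244589, 0, 15, 133142) (.node .leaf (244592, 0, 17, 98367) .leaf))) (244593, 0, 18, 191329) (.node (.node (.node .leaf (244596, 0, 13, 112924) .leaf) (244597, 0, 18, 38012) (.node .leaf (244600, 0, 16, 239015) .leaf)) (244601, 0, 14, 214465) (.node (.node .leaf (244604, 0, 17, 141262) .leaf) (244605,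 0, 17, 32480) (.node .leaf (244610, 0, 15, 24118) .leaf)))) (244611, 0, 18, 48720) (.node (.node (.node (.node .leaf (244614, 0, 15, 116287) .leaf) (244615, 0, 16, 34675) (.node .leaf (244618, 0, 16, 162734) .leaf)) (244619, 0, 18, 68240) (.node (.node .leaf (244622, 0, 17, 76963) .leaf) (244623, 0, 17, 226701) (.node .leaf (244626, 0, 14, 118740) .leaf))) (244627, 0, 17, 235258) (.node (.node (.node .leaf (244630, 0, 18, 241865) .leaf) (244631, 0, 12, 125415) (.node .leaf (244634, 0, 15, 75080) .leaf)) (244635, 0, 15, 228454) (.node (.node .leaf (244638, 0, 18, 15064) .leaf) (244639, 0, 16, 55998) (.node .leaf (244640, 0, 18, 132582) .leaf))))))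

/-- part of the orbit tree -/
def itp7_236 : Tree := (.node (.node (.node (.node (.node (.node .leaf (244644, 0, 14, 146629) .leaf) (244645, 0, 16, 187555) (.node .leaf (244648, 0, 13, 8318) .leaf)) (244649, 0, 17, 49176) (.node (.node .leaf (244652, 0, 16, 244187) .leaf) (244653, 0, 17, 63803) (.node .leaf (244656, 0, 17, 32179) .leaf))) (244657, 0, 17, 40405) (.node (.node (.node .leaf (244660, 0, 16, 75185) .leaf) (244661, 0, 16, 228511) (.node .leaf (244664, 0, 14, 153643) .leaf)) (244665, 0, 14, 178253) (.node (.node .leaf (244668, 0, 15, 118573) .leaf) (244669, 0, 15, 235011) (.node .leaf (244674, 0, 12, 254376) .leaf)))) (244675, 0, 16, 112774) (.node (.node (.node (.node .leaf (244678, 0, 16, 106165) .leaf) (244679, 0, 17, 257525) (.node .leaf (244682, 0, 18, 199476) .leaf)) (244683, 0, 11, 127310) (.node (.node .leaf (244686, 0, 17, 95273) .leaf) (244687, 0, 16, 116845) (.node .leaf (244690, 0, 15, 85221) .leaf))) (244691, 0, 17, 109699) (.node (.node (.node .leaf (244694, 0, 18, 95686) .leaf) (244695, 0, 15, 103840)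 (.node .leaf (244698, 0, 15, 223613) .leaf)) (244699, 0, 18, 231707) (.node (.node .leaf (244702, 0, 14, 217182) .leaf) (244703, 0, 17, 89073) (.node .leaf (244704, 0, 16, 94048) .leaf))))) (244705, 0, 18, 102150) (.node (.node (.node (.node (.node .leaf (244708, 0, 17, 199629) .leaf) (244709, 0, 17, 86755) (.node .leaf (244712, 0, 18, 106060) .leaf)) (244713, 0, 15, 247650) (.node (.node .leaf (244716, 0, 16, 254289) .leaf) (244717, 0, 17, 112767) (.node .leaf (244720, 0, 17, 197158) .leaf))) (244721, 0, 12, 88840) (.node (.node (.node .leaf (244724, 0, 15, 97595) .leaf) (244725, 0, 18, 249456) (.node .leaf (244728, 0, 17, 256186) .leaf)) (244729, 0, 18, 119499) (.node (.node .leaf (244732, 0, 14, 68494) .leaf) (244733, 0, 17, 125928) (.node .leaf (244737, 0, 14, 126419) .leaf)))) (244739, 0, 16, 48630) (.node (.node (.node (.node .leaf (244741, 0, 16, 120048) .leaf) (244743, 0, 16, 34005) (.node .leaf (244745, 0, 17, 247883) .leaf)) (244747, 0, 18, 170094) (.node (.node .leaf (244749, 0, 15, 49837) .leaf) (244751, 0, 17,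 207583) (.node .leaf (244753, 0, 15, 234886) .leaf))) (244755, 0, 16, 181667) (.node (.node (.node .leaf (244757, 0, 17, 240805) .leaf) (244759, 0, 17, 195712) (.node .leaf (244761, 0, 18, 52038) .leaf)) (244763, 0, 15, 57403) (.node (.node .leaf (244765, 0, 16, 100669) .leaf) (244767, 0, 16, 89129) (.node .leaf (244768, 0, 15, 132672) .leaf))))))

/-- part of the orbit tree -/
def itp7_237 : Tree := (.node itp7_233 (244385, 0, 18, 83956) itp7_234)

/-- part of the orbit tree -/
def itp7_238 : Tree := (.node itp7_235 (244641, 0, 18, 226676) itp7_236)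

/-- part of the orbit tree -/
def itp7_239 : Tree := (.node (.node (.node (.node (.node (.node .leaf (244772, 0, 16, 199701) .leaf) (244774, 0, 11, 58471) (.node .leaf (244776, 0, 16, 9176) .leaf)) (244778, 0, 10, 160230) (.node (.node .leaf (244780, 0, 13, 6907) .leaf) (244782, 0, 12, 3835) (.node .leaf (244784, 0, 17, 32277) .leaf))) (244786, 0, 17, 60812) (.node (.node (.node .leaf (244788, 0, 15, 96995) .leaf) (244790, 0, 17, 71443) (.node .leaf (244792, 0, 15, 154509) .leaf)) (244794, 0, 17, 1808) (.node (.node .leaf (244796, 0, 15, 156334) .leaf) (244798, 0, 17, 209547) (.node .leaf (244801, 0, 16, 135078) .leaf)))) (244803, 0, 14, 251760) (.node (.node (.node (.node .leaf (244805, 0, 17, 28859) .leaf) (244807, 0, 17, 257619) (.node .leaf (244809, 0, 15, 189754) .leaf)) (244811, 0, 9, 68936) (.node (.node .leaf (244813, 0, 15, 39463) .leaf) (244815, 0, 13, 117707) (.node .leaf (244817, 0, 13, 65280) .leaf))) (244819, 0, 16, 233762) (.node (.node (.node .leaf (244821, 0, 9, 132685) .leaf) (244823, 0, 17, 103942) (.node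 .leaf (244825, 0, 17, 187032) .leaf)) (244827, 0, 17, 228286) (.node (.node .leaf (244829, 0, 18, 191697) .leaf) (244831, 0, 13, 66723) (.node .leaf (244832, 0, 14, 76674) .leaf))))) (244834, 0, 15, 181232) (.node (.node (.node (.node (.node .leaf (244836, 0, 15, 218271) .leaf) (244838, 0, 16, 48365) (.node .leaf (244840, 0, 17, 114974) .leaf)) (244842, 0, 11, 141676) (.node (.node .leaf (244844, 0, 14, 225405) .leaf) (244846, 0, 18, 139352) (.node .leaf (244848, 0, 16, 220532) .leaf))) (244850, 0, 12, 148662) (.node (.node (.node .leaf (244852, 0, 16, 208304) .leaf) (244854, 0, 15, 163221) (.node .leaf (244856, 0, 13, 78091) .leaf)) (244858, 0, 17, 24474) (.node (.node .leaf (244860, 0, 17, 116981) .leaf) (244862, 0, 14, 139399) (.node .leaf (244865, 0, 16, 124741) .leaf)))) (244867, 0, 16, 134967) (.node (.node (.node (.node .leaf (244869, 0, 17, 235608) .leaf) (244871, 0, 15, 28714) (.node .leaf (244873, 0, 16, 69081) .leaf)) (244875, 0, 16, 3940) (.node (.node .leaf (244877, 0, 16, 91746) .leaf) (244879, 0, 17, 39606) (.node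 .leaf (244881, 0, 15, 233907) .leaf))) (244883, 0, 17, 31169) (.node (.node (.node .leaf (244885, 0, 17, 80815) .leaf) (244887, 0, 13, 132828) (.node .leaf (244889, 0, 14, 228143) .leaf)) (244891, 0, 17, 161585) (.node (.node .leaf (244893, 0, 17, 66610) .leaf) (244895, 0, 12, 191552) (.node .leaf (244896, 0, 11, 181089) .leaf))))))

/-- part of the orbit tree -/
def itp7_240 : Tree := (.node (.node (.node (.node (.node (.node .leaf (244900, 0, 19, 48252) .leaf) (244902, 0, 14, 218126) (.node .leaf (244904, 0, 17, 177362) .leaf)) (244906, 0, 15, 115087) (.node (.node .leaf (244908, 0, 14, 22240) .leaf) (244910, 0, 15, 245394) (.node .leaf (244912, 0, 17, 46487) .leaf))) (244914, 0, 14, 244026) (.node (.node (.node .leaf (244916, 0, 17, 182922) .leaf) (244918, 0, 15, 229401) (.node .leaf (244920, 0, 15, 24331) .leaf)) (244922, 0, 16, 243577) (.node (.node .leaf (244924, 0, 17, 139286) .leaf) (244926, 0, 16, 116836) (.node .leaf (244929, 0, 15, 4191) .leaf)))) (244931, 0, 17, 82042) (.node (.node (.node (.node .leaf (244933,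 0, 17, 245970) .leaf) (244935, 0, 17, 10400) (.node .leaf (244937, 0, 16, 144839) .leaf)) (244939, 0, 15, 179489) (.node (.node .leaf (244941, 0, 19, 207438) .leaf) (244943, 0, 16, 220353) (.node .leaf (244945, 0, 17, 248121) .leaf))) (244947, 0, 17, 210991) (.node (.node (.node .leaf (244949, 0, 18, 112164) .leaf) (244951, 0, 18, 196876) (.node .leaf (244953, 0, 15, 205733) .leaf)) (244955, 0, 10, 52183) (.node (.node .leaf (244957, 0, 14, 89272) .leaf) (244959, 0, 18, 177354) (.node .leaf (244960, 0, 14, 170987) .leaf))))) (244962, 0, 14, 175081) (.node (.node (.node (.node (.node .leaf (244964, 0, 17, 58614) .leaf) (244966, 0, 16, 199812) (.node .leaf (244968, 0, 14, 160119) .leaf)) (244970, 0, 18, 36465) (.node (.node .leaf (244972, 0, 17, 124791) .leaf) (244974, 0, 16, 46930) (.node .leaf (244976, 0, 16, 60701) .leaf))) (244978, 0, 14, 197999) (.node (.node (.node .leaf (244980, 0, 15, 113338) .leaf) (244982, 0, 16, 60063) (.node .leaf (244984, 0, 18, 239105) .leaf)) (244986, 0, 15, 194084) (.node (.node .leaf (244988,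 0, 15, 161948) .leaf) (244990, 0, 11, 184071) (.node .leaf (244993, 0, 13, 151463) .leaf)))) (244995, 0, 18, 204674) (.node (.node (.node (.node .leaf (244997, 0, 13, 53202) .leaf) (244999, 0, 17, 206497) (.node .leaf (245001, 0, 17, 27199) .leaf)) (245003, 0, 14, 111137) (.node (.node .leaf (245005, 0, 16, 9550) .leaf) (245007, 0, 18, 66361) (.node .leaf (245009, 0, 16, 50745) .leaf))) (245011, 0, 14, 208459) (.node (.node (.node .leaf (245013, 0, 15, 3793) .leaf) (245015, 0, 16, 86358) (.node .leaf (245017, 0, 15, 11429) .leaf)) (245019, 0, 16, 246999) (.node (.node .leaf (245021, 0, 16, 142153) .leaf) (245023, 0, 17, 113610) (.node .leaf (245024, 0, 15, 107572) .leaf))))))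

/-- part of the orbit tree -/
def itp7_241 : Tree := (.node (.node (.node (.node (.node (.node .leaf (245028, 0, 15, 257014) .leaf) (245030, 0, 14, 52530) (.node .leaf (245032, 0, 13, 97911) .leaf)) (245034, 0, 17, 169477) (.node (.node .leaf (245036, 0, 13, 243855) .leaf) (245038, 0, 16, 190634) (.node .leaf (245040, 0, 16, 254493) .leaf))) (245042, 0, 16, 166980) (.node (.node (.node .leaf (245044, 0, 17, 255298) .leaf) (245046, 0, 17, 177511) (.node .leaf (245048, 0, 14, 198785) .leaf)) (245050, 0, 15, 57587) (.node (.node .leaf (245052, 0, 16, 96156) .leaf) (245054, 0, 18, 172014) (.node .leaf (245057, 0, 14, 75041) .leaf)))) (245059, 0, 17, 65591) (.node (.node (.node (.node .leaf (245061, 0, 16, 72706) .leaf) (245063, 0, 15, 19495) (.node .leaf (245065, 0, 16, 131801) .leaf)) (245067, 0, 16, 151708) (.node (.node .leaf (245069, 0, 15, 211354) .leaf) (245071, 0, 18, 158143) (.node .leaf (245073, 0, 16, 220532) .leaf))) (245075, 0, 16, 227009) (.node (.node (.node .leaf (245077, 0, 16, 188846) .leaf) (245079, 0, 15, 68060)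 (.node .leaf (245081, 0, 14, 96492) .leaf)) (245083, 0, 17, 236637) (.node (.node .leaf (245085, 0, 17, 133938) .leaf) (245087, 0, 16, 4586) (.node .leaf (245088, 0, 16, 117857) .leaf))))) (245090, 0, 14, 237207) (.node (.node (.node (.node (.node .leaf (245092, 0, 14, 242556) .leaf) (245094, 0, 16, 23310) (.node .leaf (245096, 0, 16, 60202) .leaf)) (245098, 0, 15, 113423) (.node (.node .leaf (245100, 0, 17, 219616) .leaf) (245102, 0, 17, 45458) (.node .leaf (245104, 0, 16, 244375) .leaf))) (245106, 0, 16, 21221) (.node (.node (.node .leaf (245108, 0, 15, 116106) .leaf) (245110, 0, 18, 142840) (.node .leaf (245112, 0, 16, 168831) .leaf)) (245114, 0, 18, 47225) (.node (.node .leaf (245116, 0, 17, 174684) .leaf) (245118, 0, 17, 260729) (.node .leaf (245121, 0, 14, 55469) .leaf)))) (245123, 0, 16, 100488) (.node (.node (.node (.node .leaf (245125, 0, 17, 229307) .leaf) (245127, 0, 17, 38857) (.node .leaf (245129, 0, 16, 195893) .leaf)) (245131, 0, 17, 240912) (.node (.node .leaf (245133, 0, 16, 181270) .leaf) (245135, 0, 16, 32085)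 (.node .leaf (245137, 0, 17, 226896) .leaf))) (245139, 0, 17, 40482) (.node (.node (.node .leaf (245141, 0, 18, 67917) .leaf) (245143, 0, 16, 188735) (.node .leaf (245145, 0, 15, 34144) .leaf)) (245147, 0, 17, 120133) (.node (.node .leaf (245149, 0, 18, 48195) .leaf) (245151, 0, 18, 134051) (.node .leaf (245152, 0, 15, 140418) .leaf))))))

/-- part of the orbit tree -/
def itp7_242 : Tree := (.node (.node (.node (.node (.node (.node .leaf (245156, 0, 17, 23455) .leaf) (245158, 0, 12, 242669) (.node .leaf (245160, 0, 14, 71334) .leaf)) (245162, 0, 17, 75372) (.node (.node .leaf (245164, 0, 16, 45315) .leaf) (245166, 0, 19, 32672) (.node .leaf (245168, 0, 18, 84843) .leaf))) (245170, 0, 18, 6990) (.node (.node (.node .leaf (245172, 0, 17, 142697) .leaf) (245174, 0, 16, 8813) (.node .leaf (245176, 0, 17, 225011) .leaf)) (245178, 0, 17, 217242) (.node (.node .leaf (245180, 0, 13, 182261) .leaf) (245182, 0, 16, 133109) (.node .leaf (245185, 0, 16, 88108) .leaf)))) (245187, 0, 16, 176222) (.node (.node (.node (.node .leaf (245189,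 0, 15, 206641) .leaf) (245191, 0, 16, 53059) (.node .leaf (245193, 0, 16, 104371) .leaf)) (245195, 0, 19, 154306) (.node (.node .leaf (245197, 0, 12, 110224) .leaf) (245199, 0, 15, 9695) (.node .leaf (245201, 0, 15, 208602) .leaf))) (245203, 0, 12, 50856) (.node (.node (.node .leaf (245205, 0, 11, 86471) .leaf) (245207, 0, 17, 41848) (.node .leaf (245209, 0, 13, 258022) .leaf)) (245211, 0, 18, 11316) (.node (.node .leaf (245213, 0, 13, 113499) .leaf) (245215, 0, 17, 165600) (.node .leaf (245216, 0, 16, 22968) .leaf))))) (245218, 0, 17, 103546) (.node (.node (.node (.node (.node .leaf (245220, 0, 13, 24731) .leaf) (245222, 0, 15, 78014) (.node .leaf (245224, 0, 17, 162848) .leaf)) (245226, 0, 16, 98022) (.node (.node .leaf (245228, 0, 12, 148739) .leaf) (245230, 0, 17, 197115) (.node .leaf (245232, 0, 17, 139757) .leaf))) (245234, 0, 17, 225736) (.node (.node (.node .leaf (245236, 0, 15, 137422) .leaf) (245238, 0, 15, 215275) (.node .leaf (245240, 0, 17, 57442) .leaf)) (245242, 0, 17, 198672) (.node (.node .leaf (245244, 0,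 16, 171903) .leaf) (245246, 0, 18, 96013) (.node .leaf (245248, 0, 17, 2862) .leaf)))) (245249, 0, 14, 115107) (.node (.node (.node (.node .leaf (245250, 0, 18, 254812) .leaf) (245251, 0, 14, 37254) (.node .leaf (245252, 0, 17, 71910) .leaf)) (245253, 0, 15, 11549) (.node (.node .leaf (245254, 0, 11, 105537) .leaf) (245255, 0, 18, 247151) (.node .leaf (245256, 0, 17, 197725) .leaf))) (245257, 0, 14, 255035) (.node (.node (.node .leaf (245258, 0, 17, 152696) .leaf) (245259, 0, 15, 177182) (.node .leaf (245260, 0, 19, 171695) .leaf)) (245261, 0, 15, 51073) (.node (.node .leaf (245262, 0, 17, 95965) .leaf) (245263, 0, 13, 167229) .leaf)))))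

/-- part of the orbit tree -/
def itp7_243 : Tree := (.node itp7_239 (244898, 0, 13, 115055) itp7_240)

/-- part of the orbit tree -/
def itp7_244 : Tree := (.node itp7_241 (245154, 0, 15, 156443) itp7_242)

/-- part of the orbit tree -/
def itp7_245 : Tree := (.node itp7_237 (244513, 0, 16, 50461) itp7_238)

/-- part of the orbit tree -/
def itp7_246 : Tree := (.node itp7_243 (245026, 0, 15, 62481) itp7_244)

/-- part of the orbit tree -/
def itp7_247 : Tree := (.node itp7_231 (243749, 0, 17, 247213) itp7_232)

/-- part of the orbit tree -/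
def itp7_248 : Tree := (.node itp7_245 (244770, 0, 13, 218725) itp7_246)

/-- part of the orbit tree -/
def itp7_249 : Tree := (.node itp7_217 (242213, 0, 16, 104385) itp7_218)

/-- part of the orbit tree -/
def itp7_250 : Tree := (.node itp7_247 (244257, 0, 16, 250110) itp7_248)

/-- part of the orbit tree -/
def itp7_251 : Tree := (.node itp7_187 (239146, 0, 16, 254848) itp7_188)

/-- part of the orbit tree -/
def itp7_252 : Tree := (.node itp7_249 (243234, 0, 15, 66569) itp7_250)

/-- part of the orbit tree -/
def itp7_253 : Tree := (.node itp7_125 (233012, 0, 17, 241000) itp7_126)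

/-- part of the orbit tree -/
def itp7_254 : Tree := (.node itp7_251 (241188, 0, 18, 187212) itp7_252)

/-- part of the orbit tree -/
def itp7_255 : Tree := (.node (.node (.node (.node (.node (.node .leaf (245265, 0, 15, 9462) .leaf) (245266, 0, 14, 133557) (.node .leaf (245267, 0, 17, 248964) .leaf)) (245268, 0, 18, 221363) (.node (.node .leaf (245269, 0, 17, 154603) .leaf) (245270, 0, 16, 256695) (.node .leaf (245271, 0, 17, 184560) .leaf))) (245272, 0, 17, 97288) (.node (.node (.node .leaf (245273, 0, 18, 52842) .leaf) (245274, 0, 15, 11309) (.node .leaf (245275, 0, 14, 206360) .leaf)) (245276, 0, 16, 83243) (.node (.node .leaf (245277, 0, 14, 176503) .leaf) (245278, 0, 18, 196651) (.node .leaf (245279, 0, 14, 88325) .leaf)))) (245312, 0, 17, 150339) (.node (.node (.node (.node .leaf (245313, 0, 14, 133770) .leaf) (245314, 0, 18, 203622) (.node .leaf (245315, 0, 16, 123640) .leaf)) (245316, 0, 18, 142521) (.node (.node .leaf (245317, 0, 16, 168454) .leaf) (245318, 0, 12, 115915) (.node .leaf (245319, 0, 13, 237029) .leaf)))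 (245320, 0, 16, 28379) (.node (.node (.node .leaf (245321, 0, 18, 188438) .leaf) (245322, 0, 15, 217418) (.node .leaf (245323, 0, 16, 122520) .leaf)) (245324, 0, 16, 22520) (.node (.node .leaf (245325, 0, 18, 47006) .leaf) (245326, 0, 13, 67549) (.node .leaf (245327, 0, 18, 227193) .leaf))))) (245328, 0, 16, 140626) (.node (.node (.node (.node (.node .leaf (245329, 0, 17, 54128) .leaf) (245330, 0, 17, 90931) (.node .leaf (245331, 0, 14, 234510) .leaf)) (245332, 0, 17, 23119) (.node (.node .leaf (245333, 0, 15, 59987) .leaf) (245334, 0, 18, 88592) (.node .leaf (245335, 0, 17, 125715) .leaf))) (245336, 0, 17, 136846) (.node (.node (.node .leaf (245337, 0, 13, 194280) .leaf) (245338, 0, 17, 75708) (.node .leaf (245339, 0, 17, 239309) .leaf)) (245340, 0, 17, 143277) (.node (.node .leaf (245341, 0, 17, 190973) .leaf) (245342, 0, 18, 229256) (.node .leaf (245343, 0, 14, 65935) .leaf)))) (245376, 0, 18, 243407) (.node (.node (.node (.node .leaf (245377, 0, 17, 218793) .leaf) (245378, 0, 15, 21301) (.node .leaf (245379, 0, 16, 132748)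 .leaf)) (245380, 0, 12, 115802) (.node (.node .leaf (245381, 0, 15, 225162) .leaf) (245382, 0, 17, 188361) (.node .leaf (245383, 0, 16, 29958) .leaf))) (245384, 0, 17, 103255) (.node (.node (.node .leaf (245385, 0, 15, 95025) .leaf) (245386, 0, 16, 50034) (.node .leaf (245387, 0, 18, 188551) .leaf)) (245388, 0, 12, 109172) (.node (.node .leaf (245389, 0, 16, 227304) .leaf) (245390, 0, 17, 181940) (.node .leaf (245391, 0, 14, 40858) .leaf))))))

/-- part of the orbit tree -/
def itp7_256 : Tree := (.node (.node (.node (.node (.node (.node .leaf (245393, 0, 12, 77564) .leaf) (245394, 0, 14, 140739) (.node .leaf (245395, 0, 15, 32473) .leaf)) (245396, 0, 15, 128953) (.node (.node .leaf (245397, 0, 18, 71647) .leaf) (245398, 0, 18, 42908) (.node .leaf (245399, 0, 16, 18426) .leaf))) (245400, 0, 12, 75565) (.node (.node (.node .leaf (245401, 0, 17, 228867) .leaf) (245402, 0, 18, 178983) (.node .leaf (245403, 0, 18, 154433) .leaf)) (245404, 0, 18, 219184) (.node (.node .leaf (245405, 0, 17, 209479) .leaf) (245406, 0, 16, 164356)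 (.node .leaf (245407, 0, 16, 156258) .leaf)))) (245440, 0, 15, 56393) (.node (.node (.node (.node .leaf (245441, 0, 18, 15407) .leaf) (245442, 0, 15, 3007) (.node .leaf (245443, 0, 15, 93194) .leaf)) (245444, 0, 12, 58730) (.node (.node .leaf (245445, 0, 17, 247294) .leaf) (245446, 0, 18, 111951) (.node .leaf (245447, 0, 16, 87337) .leaf))) (245448, 0, 16, 195025) (.node (.node (.node .leaf (245449, 0, 13, 137655) .leaf) (245450, 0, 13, 57635) (.node .leaf (245451, 0, 12, 178189) .leaf)) (245452, 0, 18, 95820) (.node (.node .leaf (245453, 0, 18, 139412) .leaf) (245454, 0, 15, 171582) (.node .leaf (245455, 0, 17, 50960) .leaf))))) (245456, 0, 16, 103739) (.node (.node (.node (.node (.node .leaf (245457, 0, 17, 248853) .leaf) (245458, 0, 13, 259129) (.node .leaf (245459, 0, 16, 201823) .leaf)) (245460, 0, 18, 171327) (.node (.node .leaf (245461, 0, 15, 163161) .leaf) (245462, 0, 14, 249114) (.node .leaf (245463, 0, 13, 208252) .leaf))) (245464, 0, 17, 98215) (.node (.node (.node .leaf (245465, 0, 17, 25058) .leaf) (245466, 0,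 15, 119201) (.node .leaf (245467, 0, 15, 78279) .leaf)) (245468, 0, 14, 47271) (.node (.node .leaf (245469, 0, 18, 88468) .leaf) (245470, 0, 14, 125058) (.node .leaf (245471, 0, 15, 67812) .leaf)))) (245504, 0, 13, 60621) (.node (.node (.node (.node .leaf (245505, 0, 13, 177635) .leaf) (245506, 0, 17, 197823) (.node .leaf (245507, 0, 17, 89489) .leaf)) (245508, 0, 11, 168912) (.node (.node .leaf (245509, 0, 16, 154356) .leaf) (245510, 0, 16, 256695) (.node .leaf (245511, 0, 17, 199377) .leaf))) (245512, 0, 16, 42537) (.node (.node (.node .leaf (245513, 0, 11, 17999) .leaf) (245514, 0, 18, 257571) (.node .leaf (245515, 0, 17, 71274) .leaf)) (245516, 0, 18, 40714) (.node (.node .leaf (245517, 0, 16, 8290) .leaf) (245518, 0, 15, 118575) (.node .leaf (245519, 0, 16, 247824) .leaf))))))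

/-- part of the orbit tree -/
def itp7_257 : Tree := (.node (.node (.node (.node (.node (.node .leaf (245521, 0, 15, 49941) .leaf) (245522, 0, 16, 109505) (.node .leaf (245523, 0, 18, 207719) .leaf)) (245524, 0, 18, 58662) (.node (.node .leaf (245525, 0, 17, 179208) .leaf) (245526, 0, 18, 200020) (.node .leaf (245527, 0, 13, 94852) .leaf))) (245528, 0, 15, 188028) (.node (.node (.node .leaf (245529, 0, 14, 146970) .leaf) (245530, 0, 16, 233049) (.node .leaf (245531, 0, 18, 246267) .leaf)) (245532, 0, 16, 4026) (.node (.node .leaf (245533, 0, 16, 132921) .leaf) (245534, 0, 18, 243578) (.node .leaf (245535, 0, 18, 114406) .leaf)))) (245568, 0, 17, 125239) (.node (.node (.node (.node .leaf (245569, 0, 16, 191849) .leaf) (245570, 0, 14, 220213) (.node .leaf (245571, 0, 15, 22900) .leaf)) (245572, 0, 13, 118804) (.node (.node .leaf (245573, 0, 16, 37492) .leaf) (245574, 0, 16, 32817) (.node .leaf (245575, 0, 16, 227846) .leaf))) (245576, 0, 17, 24283) (.node (.node (.node .leaf (245577, 0, 16, 133109) .leaf) (245578, 0, 14, 243369)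 (.node .leaf (245579, 0, 12, 163052) .leaf)) (245580, 0, 18, 259468) (.node (.node .leaf (245581, 0, 18, 30952) .leaf) (245582, 0, 17, 173481) (.node .leaf (245583, 0, 17, 148943) .leaf))))) (245584, 0, 16, 233826) (.node (.node (.node (.node (.node .leaf (245585, 0, 16, 225540) .leaf) (245586, 0, 17, 180551) (.node .leaf (245587, 0, 15, 139553) .leaf)) (245588, 0, 18, 48556) (.node (.node .leaf (245589, 0, 13, 189570) .leaf) (245590, 0, 17, 194660) (.node .leaf (245591, 0, 15, 137218) .leaf))) (245592, 0, 18, 141357) (.node (.node (.node .leaf (245593, 0, 11, 28931) .leaf) (245594, 0, 16, 114783) (.node .leaf (245595, 0, 16, 1209) .leaf)) (245596, 0, 17, 22320) (.node (.node .leaf (245597, 0, 17, 93631) .leaf) (245598, 0, 15, 245570) (.node .leaf (245599, 0, 12, 15770) .leaf)))) (245632, 0, 18, 220324) (.node (.node (.node (.node .leaf (245633, 0, 16, 62685) .leaf) (245634, 0, 17, 46294) (.node .leaf (245635, 0, 15, 191992) .leaf)) (245636, 0, 15, 11672) (.node (.node .leaf (245637, 0, 13, 227991) .leaf) (245638, 0, 16, 183243)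 (.node .leaf (245639, 0, 18, 105947) .leaf))) (245640, 0, 17, 143651) (.node (.node (.node .leaf (245641, 0, 16, 126742) .leaf) (245642, 0, 17, 24138) (.node .leaf (245643, 0, 10, 229728) .leaf)) (245644, 0, 15, 117029) (.node (.node .leaf (245645, 0, 17, 233483) .leaf) (245646, 0, 18, 139607) (.node .leaf (245647, 0, 17, 30841) .leaf))))))

/-- part of the orbit tree -/
def itp7_258 : Tree := (.node (.node (.node (.node (.node (.node .leaf (245649, 0, 16, 226172) .leaf) (245650, 0, 14, 180768) (.node .leaf (245651, 0, 14, 39694) .leaf)) (245652, 0, 12, 218447) (.node (.node .leaf (245653, 0, 17, 68705) .leaf) (245654, 0, 17, 198120) (.node .leaf (245655, 0, 11, 189459) .leaf))) (245656, 0, 14, 114894) (.node (.node (.node .leaf (245657, 0, 15, 236000) .leaf) (245658, 0, 17, 141500) (.node .leaf (245659, 0, 14, 29074) .leaf)) (245660, 0, 14, 245715) (.node (.node .leaf (245661, 0, 18, 36915) .leaf) (245662, 0, 15, 73840) (.node .leaf (245663, 0, 17, 114710) .leaf)))) (245696, 0, 15, 228925) (.node (.node (.node (.node .leaf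 (245697, 0, 15, 237147) .leaf) (245698, 0, 19, 60508) (.node .leaf (245699, 0, 16, 183934) .leaf)) (245700, 0, 16, 97075) (.node (.node .leaf (245701, 0, 18, 205341) .leaf) (245702, 0, 15, 137019) (.node .leaf (245703, 0, 17, 51823) .leaf))) (245704, 0, 13, 257714) (.node (.node (.node .leaf (245705, 0, 14, 112540) .leaf) (245706, 0, 12, 2944) (.node .leaf (245707, 0, 14, 155630) .leaf)) (245708, 0, 15, 90758) (.node (.node .leaf (245709, 0, 17, 247937) .leaf) (245710, 0, 16, 12963) (.node .leaf (245711, 0, 18, 53957) .leaf))))) (245712, 0, 16, 67176) (.node (.node (.node (.node (.node .leaf (245713, 0, 16, 124430) .leaf) (245714, 0, 18, 170666) (.node .leaf (245715, 0, 13, 50052) .leaf)) (245716, 0, 16, 81739) (.node (.node .leaf (245717, 0, 10, 122669) .leaf) (245718, 0, 17, 58807) (.node .leaf (245719, 0, 17, 36616) .leaf))) (245720, 0, 18, 205808) (.node (.node (.node .leaf (245721, 0, 18, 246678) .leaf) (245722, 0, 17, 160725) (.node .leaf (245723, 0, 8, 10520) .leaf)) (245724, 0, 11, 203475) (.node (.node .leaf (245725,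 0, 17, 114295) .leaf) (245726, 0, 17, 150262) (.node .leaf (245727, 0, 16, 153093) .leaf)))) (245760, 0, 14, 85674) (.node (.node (.node (.node .leaf (245763, 0, 16, 65257) .leaf) (245765, 0, 14, 104431) (.node .leaf (245766, 0, 18, 258134) .leaf)) (245769, 0, 16, 54411) (.node (.node .leaf (245770, 0, 16, 146199) .leaf) (245772, 0, 18, 217617) (.node .leaf (245775, 0, 15, 82916) .leaf))) (245777, 0, 16, 149729) (.node (.node (.node .leaf (245778, 0, 12, 157402) .leaf) (245780, 0, 17, 159442) (.node .leaf (245783, 0, 17, 180127) .leaf)) (245784, 0, 16, 70503) (.node (.node .leaf (245787, 0, 15, 84495) .leaf) (245789, 0, 14, 56672) (.node .leaf (245790, 0, 15, 31329) .leaf))))))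

/-- part of the orbit tree -/
def itp7_259 : Tree := (.node itp7_255 (245392, 0, 12, 118426) itp7_256)

/-- part of the orbit tree -/
def itp7_260 : Tree := (.node itp7_257 (245648, 0, 17, 158958) itp7_258)

/-- part of the orbit tree -/
def itp7_261 : Tree := (.node (.node (.node (.node (.node (.node .leaf (245795, 0, 17, 259356) .leaf) (245797, 0, 18, 171034) (.node .leaf (245798, 0, 11, 167260) .leaf)) (245801, 0, 17, 108929) (.node (.node .leaf (245802, 0, 17, 6365) .leaf) (245804, 0, 12, 102322) (.node .leaf (245807, 0, 17, 125351) .leaf))) (245809, 0, 18, 210411) (.node (.node (.node .leaf (245810, 0, 17, 93487) .leaf) (245812, 0, 16, 201688) (.node .leaf (245815, 0, 15, 111722) .leaf)) (245816, 0, 14, 99929) (.node (.node .leaf (245819, 0, 18, 239825) .leaf) (245821, 0, 17, 180695) (.node .leaf (245822, 0, 17, 225684) .leaf)))) (245824, 0, 14, 140332) (.node (.node (.node (.node .leaf (245827, 0, 16, 233199) .leaf) (245829, 0, 17, 137600) (.node .leaf (245830, 0, 12, 239836) .leaf)) (245833, 0, 13, 35841) (.node (.node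 .leaf (245834, 0, 18, 86417) .leaf) (245836, 0, 15, 14487) (.node .leaf (245839, 0, 15, 100564) .leaf))) (245841, 0, 13, 135275) (.node (.node (.node .leaf (245842, 0, 18, 237879) .leaf) (245844, 0, 15, 25946) (.node .leaf (245847, 0, 15, 231172) .leaf)) (245848, 0, 17, 41945) (.node (.node .leaf (245851, 0, 16, 248226) .leaf) (245853, 0, 16, 34282) (.node .leaf (245854, 0, 18, 200935) .leaf))))) (245856, 0, 15, 213689) (.node (.node (.node (.node (.node .leaf (245859, 0, 14, 40858) .leaf) (245861, 0, 18, 128668) (.node .leaf (245862, 0, 18, 18143) .leaf)) (245865, 0, 18, 127243) (.node (.node .leaf (245866, 0, 18, 16471) .leaf) (245868, 0, 17, 120632) (.node .leaf (245871, 0, 15, 26212) .leaf))) (245873, 0, 17, 224609) (.node (.node (.node .leaf (245874, 0, 17, 187453) .leaf) (245876, 0, 17, 215890) (.node .leaf (245879, 0, 15, 195086) .leaf)) (245880, 0, 14, 122579) (.node (.node .leaf (245883, 0, 16, 49751) .leaf) (245885, 0, 19, 129248) (.node .leaf (245886, 0, 16, 18876) .leaf)))) (245888, 0, 16, 120656) (.node (.node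 (.node (.node .leaf (245891, 0, 16, 26124) .leaf) (245893, 0, 15, 196837) (.node .leaf (245894, 0, 16, 176294) .leaf)) (245897, 0, 14, 222434) (.node (.node .leaf (245898, 0, 17, 185790) .leaf) (245900, 0, 17, 213713) (.node .leaf (245903, 0, 12, 30040) .leaf))) (245905, 0, 16, 129160) (.node (.node (.node .leaf (245906, 0, 16, 18900) .leaf) (245908, 0, 17, 104662) (.node .leaf (245911, 0, 13, 10389) .leaf)) (245912, 0, 16, 230509) (.node (.node .leaf (245915, 0, 14, 144430) .leaf) (245917, 0, 18, 220456) (.node .leaf (245918, 0, 15, 191851) .leaf))))))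

/-- part of the orbit tree -/
def itp7_262 : Tree := (.node (.node (.node (.node (.node (.node .leaf (245923, 0, 13, 90646) .leaf) (245925, 0, 17, 35945) (.node .leaf (245926, 0, 14, 81205) .leaf)) (245929, 0, 14, 137704) (.node (.node .leaf (245930, 0, 13, 239796) .leaf) (245932, 0, 17, 147419) (.node .leaf (245935, 0, 13, 229037) .leaf))) (245937, 0, 16, 34178) (.node (.node (.node .leaf (245938, 0, 16, 79070) .leaf) (245940, 0, 17, 41905) (.node .leaf (245943, 0, 17, 205664) .leaf)) (245944, 0, 18, 144944) (.node (.node .leaf (245947, 0, 17, 231276) .leaf) (245949, 0, 17, 22237) (.node .leaf (245950, 0, 13, 124574) .leaf)))) (245952, 0, 17, 45862) (.node (.node (.node (.node .leaf (245955, 0, 15, 66405) .leaf) (245957, 0, 17, 109033) (.node .leaf (245958, 0, 17, 6325) .leaf)) (245961, 0, 16, 161496) (.node (.node .leaf (245962, 0, 17, 167220) .leaf) (245964, 0, 15, 203355) (.node .leaf (245967, 0, 18, 174855) .leaf))) (245969, 0, 17, 106498) (.node (.node (.node .leaf (245970, 0, 16, 4446) .leaf) (245972, 0, 15, 99889)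 (.node .leaf (245975, 0, 15, 14189) .leaf)) (245976, 0, 17, 61163) (.node (.node .leaf (245979, 0, 16, 172780) .leaf) (245981, 0, 17, 210307) (.node .leaf (245982, 0, 17, 100333) .leaf))))) (245984, 0, 14, 62160) (.node (.node (.node (.node (.node .leaf (245987, 0, 16, 82828) .leaf) (245989, 0, 15, 54499) (.node .leaf (245990, 0, 13, 184789) .leaf)) (245993, 0, 13, 147810) (.node (.node .leaf (245994, 0, 14, 258110) .leaf) (245996, 0, 13, 107624) (.node .leaf (245999, 0, 17, 251405) .leaf))) (246001, 0, 16, 73952) (.node (.node (.node .leaf (246002, 0, 15, 93268) .leaf) (246004, 0, 14, 129445) (.node .leaf (246007, 0, 18, 18918) .leaf)) (246008, 0, 18, 255262) (.node (.node .leaf (246011, 0, 18, 253926) .leaf) (246013, 0, 15, 149641) (.node .leaf (246014, 0, 14, 166936) .leaf)))) (246016, 0, 16, 164058) (.node (.node (.node (.node .leaf (246019, 0, 13, 209286) .leaf) (246021, 0, 14, 144795) (.node .leaf (246022, 0, 7, 230872) .leaf)) (246025, 0, 14, 13160) (.node (.node .leaf (246026, 0, 15, 98868) .leaf) (246028, 0, 16, 61541)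 (.node .leaf (246031, 0, 18, 81958) .leaf))) (246033, 0, 19, 29933) (.node (.node (.node .leaf (246034, 0, 17, 204382) .leaf) (246036, 0, 17, 44456) (.node .leaf (246039, 0, 16, 73195) .leaf)) (246040, 0, 11, 176403) (.node (.node .leaf (246043, 0, 16, 110060) .leaf) (246045, 0, 15, 157782) (.node .leaf (246046, 0, 16, 101343) .leaf))))))

/-- part of the orbit tree -/
def itp7_263 : Tree := (.node (.node (.node (.node (.node (.node .leaf (246051, 0, 17, 150668) .leaf) (246053, 0, 17, 252899) (.node .leaf (246054, 0, 13, 36397) .leaf)) (246057, 0, 16, 85602) (.node (.node .leaf (246058, 0, 17, 168598) .leaf) (246060, 0, 18, 261008) (.node .leaf (246063, 0, 15, 150483) .leaf))) (246065, 0, 17, 229144) (.node (.node (.node .leaf (246066, 0, 15, 184155) .leaf) (246068, 0, 16, 259131) (.node .leaf (246071, 0, 17, 136734) .leaf)) (246072, 0, 16, 90554) (.node (.node .leaf (246075, 0, 16, 2725) .leaf) (246077, 0, 16, 83849) (.node .leaf (246078, 0, 17, 63189) .leaf)))) (246080, 0, 17, 99928) (.node (.node (.node (.node .leaf (246083,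 0, 17, 13851) .leaf) (246085, 0, 15, 196195) (.node .leaf (246086, 0, 17, 216895) .leaf)) (246089, 0, 15, 213926) (.node (.node .leaf (246090, 0, 13, 121534) .leaf) (246092, 0, 15, 19921) (.node .leaf (246095, 0, 14, 130189) .leaf))) (246097, 0, 15, 204395) (.node (.node (.node .leaf (246098, 0, 14, 175656) .leaf) (246100, 0, 16, 184763) (.node .leaf (246103, 0, 18, 161645) .leaf)) (246104, 0, 12, 17466) (.node (.node .leaf (246107, 0, 16, 128358) .leaf) (246109, 0, 16, 66256) (.node .leaf (246110, 0, 16, 119637) .leaf))))) (246112, 0, 19, 167341) (.node (.node (.node (.node (.node .leaf (246115, 0, 16, 212462) .leaf) (246117, 0, 15, 230249) (.node .leaf (246118, 0, 17, 143925) .leaf)) (246121, 0, 16, 71400) (.node (.node .leaf (246122, 0, 17, 42932) .leaf) (246124, 0, 17, 37142) (.node .leaf (246127, 0, 15, 74069) .leaf))) (246129, 0, 16, 5534) (.node (.node (.node .leaf (246130, 0, 15, 107997) .leaf) (246132, 0, 9, 52443) (.node .leaf (246135, 0, 17, 138733) .leaf)) (246136, 0, 16, 184416) (.node (.node .leaf (246139, 0,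 16, 34924) .leaf) (246141, 0, 16, 133413) (.node .leaf (246142, 0, 15, 244070) .leaf)))) (246144, 0, 15, 31700) (.node (.node (.node (.node .leaf (246147, 0, 14, 33263) .leaf) (246149, 0, 17, 41617) (.node .leaf (246150, 0, 17, 42972) .leaf)) (246153, 0, 16, 179754) (.node (.node .leaf (246154, 0, 16, 200297) .leaf) (246156, 0, 12, 238898) (.node .leaf (246159, 0, 16, 136302) .leaf))) (246161, 0, 18, 73579) (.node (.node (.node .leaf (246162, 0, 16, 218020) .leaf) (246164, 0, 16, 146082) (.node .leaf (246167, 0, 16, 232161) .leaf)) (246168, 0, 15, 240857) (.node (.node .leaf (246171, 0, 17, 138629) .leaf) (246173, 0, 15, 65372) (.node .leaf (246174, 0, 15, 146358) .leaf))))))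

/-- part of the orbit tree -/
def itp7_264 : Tree := (.node (.node (.node (.node (.node (.node .leaf (246179, 0, 16, 180322) .leaf) (246181, 0, 18, 239972) (.node .leaf (246182, 0, 13, 137511) .leaf)) (246185, 0, 16, 112095) (.node (.node .leaf (246186, 0, 14, 1436) .leaf) (246188, 0, 17, 186424) (.node .leaf (246191, 0, 14, 56537) .leaf))) (246193, 0, 14, 124946) (.node (.node (.node .leaf (246194, 0, 10, 22609) .leaf) (246196, 0, 13, 17490) (.node .leaf (246199, 0, 10, 128270) .leaf)) (246200, 0, 16, 208364) (.node (.node .leaf (246203, 0, 16, 221327) .leaf) (246205, 0, 16, 194528) (.node .leaf (246206, 0, 18, 148714) .leaf)))) (246208, 0, 16, 201042) (.node (.node (.node (.node .leaf (246211, 0, 16, 55653) .leaf) (246213, 0, 17, 247831) (.node .leaf (246214, 0, 17, 161876) .leaf)) (246217, 0, 18, 252811) (.node (.node .leaf (246218, 0, 17, 25839) .leaf) (246220, 0, 17, 261560) (.node .leaf (246223, 0, 16, 150756) .leaf))) (246225, 0, 17, 83937) (.node (.node (.node .leaf (246226, 0, 17, 14626) .leaf) (246228, 0, 15, 90578)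 (.node .leaf (246231, 0, 17, 57447) .leaf)) (246232, 0, 16, 259155) (.node (.node .leaf (246235, 0, 16, 148751) .leaf) (246237, 0, 17, 250464) (.node .leaf (246238, 0, 19, 140697) .leaf))))) (246240, 0, 19, 5427) (.node (.node (.node (.node (.node .leaf (246243, 0, 16, 109284) .leaf) (246245, 0, 18, 50146) (.node .leaf (246246, 0, 11, 95137) .leaf)) (246249, 0, 17, 188249) (.node (.node .leaf (246250, 0, 12, 202717) .leaf) (246252, 0, 4, 164018) (.node .leaf (246255, 0, 14, 209390) .leaf))) (246257, 0, 13, 15083) (.node (.node (.node .leaf (246258, 0, 17, 101303) .leaf) (246260, 0, 16, 154577) (.node .leaf (246263, 0, 19, 109956) .leaf)) (246264, 0, 12, 18282) (.node (.node .leaf (246267, 0, 17, 128809) .leaf) (246269, 0, 13, 40495) (.node .leaf (246270, 0, 15, 77420) .leaf)))) (246274, 0, 16, 13055) (.node (.node (.node (.node .leaf (246275, 0, 16, 250697) .leaf) (246276, 0, 17, 7432) (.node .leaf (246277, 0, 18, 113567) .leaf)) (246280, 0, 18, 166025) (.node (.node .leaf (246281, 0, 17, 53671) .leaf) (246286, 0, 16, 204774)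 (.node .leaf (246287, 0, 17, 83656) .leaf))) (246288, 0, 18, 203407) (.node (.node (.node .leaf (246289, 0, 16, 260841) .leaf) (246294, 0, 17, 160649) (.node .leaf (246295, 0, 17, 168943) .leaf)) (246298, 0, 17, 202253) (.node (.node .leaf (246299, 0, 17, 36692) .leaf) (246300, 0, 17, 67124) .leaf)))))

/-- part of the orbit tree -/
def itp7_265 : Tree := (.node itp7_261 (245920, 0, 18, 53845) itp7_262)

/-- part of the orbit tree -/
def itp7_266 : Tree := (.node itp7_263 (246176, 0, 17, 225313) itp7_264)

/-- part of the orbit tree -/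
def itp7_267 : Tree := (.node itp7_259 (245520, 0, 13, 64484) itp7_260)

/-- part of the orbit tree -/
def itp7_268 : Tree := (.node itp7_265 (246048, 0, 17, 124715) itp7_266)

/-- part of the orbit tree -/
def itp7_269 : Tree := (.node (.node (.node (.node (.node (.node .leaf (246306, 0, 15, 63341) .leaf) (246307, 0, 13, 175683) (.node .leaf (246308, 0, 16, 90114) .leaf)) (246309, 0, 10, 176234) (.node (.node .leaf (246312, 0, 16, 19639) .leaf) (246313, 0, 13, 109741) (.node .leaf (246318, 0, 16, 75185) .leaf))) (246319, 0, 15, 116183) (.node (.node (.node .leaf (246320, 0, 18, 92649) .leaf) (246321, 0, 18, 209095) (.node .leaf (246326, 0, 15, 65158) .leaf)) (246327, 0, 16, 173992) (.node (.node .leaf (246330, 0, 14, 222407) .leaf) (246331, 0, 15, 230561) (.node .leaf (246332, 0, 17, 261224) .leaf)))) (246333, 0, 16, 107846) (.node (.node (.node (.node .leaf (246338, 0, 13, 219257) .leaf) (246339, 0, 16, 243743) (.node .leaf (246340, 0, 13, 143743) .leaf)) (246341, 0, 14, 184601) (.node (.node .leaf (246344, 0, 15, 11716)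 .leaf) (246345, 0, 17, 35117) (.node .leaf (246350, 0, 17, 83138) .leaf))) (246351, 0, 18, 73282) (.node (.node (.node .leaf (246352, 0, 16, 19561) .leaf) (246353, 0, 16, 136519) (.node .leaf (246358, 0, 16, 121606) .leaf)) (246359, 0, 16, 229928) (.node (.node .leaf (246362, 0, 12, 216711) .leaf) (246363, 0, 14, 255442) (.node .leaf (246364, 0, 17, 158898) .leaf))))) (246365, 0, 12, 32966) (.node (.node (.node (.node (.node .leaf (246370, 0, 14, 45031) .leaf) (246371, 0, 17, 46058) (.node .leaf (246372, 0, 16, 80522) .leaf)) (246373, 0, 17, 121580) (.node (.node .leaf (246376, 0, 15, 206385) .leaf) (246377, 0, 18, 128039) (.node .leaf (246382, 0, 16, 146022) .leaf))) (246383, 0, 14, 25416) (.node (.node (.node .leaf (246384, 0, 18, 228348) .leaf) (246385, 0, 12, 236442) (.node .leaf (246390, 0, 14, 42508) .leaf)) (246391, 0, 18, 193180) (.node (.node .leaf (246394, 0, 17, 144269) .leaf) (246395, 0, 11, 60967) (.node .leaf (246396, 0, 12, 238818) .leaf)))) (246397, 0, 16, 100129) (.node (.node (.node (.node .leaf (246402, 0,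 16, 145934) .leaf) (246403, 0, 12, 148883) (.node .leaf (246404, 0, 16, 240993) .leaf)) (246405, 0, 14, 208021) (.node (.node .leaf (246408, 0, 14, 80096) .leaf) (246409, 0, 12, 221646) (.node .leaf (246414, 0, 16, 47438) .leaf))) (246415, 0, 15, 194209) (.node (.node (.node .leaf (246416, 0, 14, 101765) .leaf) (246417, 0, 15, 93667) (.node .leaf (246422, 0, 15, 58499) .leaf)) (246423, 0, 14, 27339) (.node (.node .leaf (246426, 0, 15, 194616) .leaf) (246427, 0, 17, 196426) (.node .leaf (246428, 0, 13, 78091) .leaf))))))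

/-- part of the orbit tree -/
def itp7_270 : Tree := (.node (.node (.node (.node (.node (.node .leaf (246434, 0, 16, 214788) .leaf) (246435, 0, 15, 85606) (.node .leaf (246436, 0, 17, 184427) .leaf)) (246437, 0, 18, 10080) (.node (.node .leaf (246440, 0, 13, 187325) .leaf) (246441, 0, 16, 138436) (.node .leaf (246446, 0, 16, 242363) .leaf))) (246447, 0, 17, 232363) (.node (.node (.node .leaf (246448, 0, 14, 165488) .leaf) (246449, 0, 16, 32942) (.node .leaf (246454, 0, 18, 216815) .leaf)) (246455, 0, 12, 71617) (.node (.node .leaf (246458, 0, 15, 127949) .leaf) (246459, 0, 17, 70571) (.node .leaf (246460, 0, 17, 39627) .leaf)))) (246461, 0, 12, 31405) (.node (.node (.node (.node .leaf (246466, 0, 17, 118643) .leaf) (246467, 0, 17, 77589) (.node .leaf (246468, 0, 16, 42613) .leaf)) (246469, 0, 16, 17939) (.node (.node .leaf (246472, 0, 16, 178894) .leaf) (246473, 0, 17, 211268) (.node .leaf (246478, 0, 16, 250824) .leaf))) (246479, 0, 15, 209838) (.node (.node (.node .leaf (246480, 0, 12, 190211) .leaf) (246481, 0, 14, 132965)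 (.node .leaf (246486, 0, 15, 158575) .leaf)) (246487, 0, 18, 12865) (.node (.node .leaf (246490, 0, 17, 103102) .leaf) (246491, 0, 18, 94936) (.node .leaf (246492, 0, 17, 92545) .leaf))))) (246493, 0, 16, 209071) (.node (.node (.node (.node (.node .leaf (246498, 0, 15, 181382) .leaf) (246499, 0, 17, 83616) (.node .leaf (246500, 0, 16, 166113) .leaf)) (246501, 0, 15, 53711) (.node (.node .leaf (246504, 0, 18, 110907) .leaf) (246505, 0, 13, 86365) (.node .leaf (246510, 0, 16, 100879) .leaf))) (246511, 0, 16, 250657) (.node (.node (.node .leaf (246512, 0, 16, 126198) .leaf) (246513, 0, 16, 55332) (.node .leaf (246518, 0, 12, 202341) .leaf)) (246519, 0, 17, 85835) (.node (.node .leaf (246522, 0, 19, 99300) .leaf) (246523, 0, 16, 162093) (.node .leaf (246524, 0, 18, 5259) .leaf)))) (246525, 0, 14, 150949) (.node (.node (.node (.node .leaf (246530, 0, 17, 233611) .leaf) (246531, 0, 17, 210090) (.node .leaf (246532, 0, 17, 64235) .leaf)) (246533, 0, 17, 172997) (.node (.node .leaf (246536, 0, 17, 58678) .leaf) (246537, 0, 16, 1360)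 (.node .leaf (246542, 0, 17, 260101) .leaf))) (246543, 0, 17, 93270) (.node (.node (.node .leaf (246544, 0, 17, 62208) .leaf) (246545, 0, 16, 174638) (.node .leaf (246550, 0, 16, 91247) .leaf)) (246551, 0, 19, 212289) (.node (.node .leaf (246554, 0, 16, 258542) .leaf) (246555, 0, 16, 108736) (.node .leaf (246556, 0, 13, 173120) .leaf))))))

/-- part of the orbit tree -/
def itp7_271 : Tree := (.node (.node (.node (.node (.node (.node .leaf (246562, 0, 17, 39806) .leaf) (246563, 0, 16, 31512) (.node .leaf (246564, 0, 15, 100321) .leaf)) (246565, 0, 15, 70174) (.node (.node .leaf (246568, 0, 15, 257731) .leaf) (246569, 0, 16, 200357) (.node .leaf (246574, 0, 17, 165135) .leaf))) (246575, 0, 18, 56353) (.node (.node (.node .leaf (246576, 0, 16, 242446) .leaf) (246577, 0, 18, 217960) (.node .leaf (246582, 0, 15, 186888) .leaf)) (246583, 0, 11, 147531) (.node (.node .leaf (246586, 0, 17, 50867) .leaf) (246587, 0, 16, 9941) (.node .leaf (246588, 0, 18, 110517) .leaf)))) (246589, 0, 15, 85971) (.node (.node (.node (.node .leaf (246594,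 0, 15, 79118) .leaf) (246595, 0, 17, 224288) (.node .leaf (246596, 0, 16, 103179) .leaf)) (246597, 0, 16, 95085) (.node (.node .leaf (246600, 0, 14, 233392) .leaf) (246601, 0, 15, 225238) (.node .leaf (246606, 0, 18, 237711) .leaf))) (246607, 0, 16, 129441) (.node (.node (.node .leaf (246608, 0, 15, 250493) .leaf) (246609, 0, 16, 193188) (.node .leaf (246614, 0, 15, 81125) .leaf)) (246615, 0, 16, 222667) (.node (.node .leaf (246618, 0, 18, 239972) .leaf) (246619, 0, 16, 127050) (.node .leaf (246620, 0, 17, 146955) .leaf))))) (246621, 0, 15, 26405) (.node (.node (.node (.node (.node .leaf (246626, 0, 14, 258552) .leaf) (246627, 0, 14, 135466) (.node .leaf (246628, 0, 16, 170238) .leaf)) (246629, 0, 16, 230981) (.node (.node .leaf (246632, 0, 17, 33861) .leaf) (246633, 0, 13, 70596) (.node .leaf (246638, 0, 14, 126275) .leaf))) (246639, 0, 13, 68901) (.node (.node (.node .leaf (246640, 0, 17, 120448) .leaf) (246641, 0, 16, 14830) (.node .leaf (246646, 0, 16, 110734) .leaf)) (246647, 0, 15, 137409) (.node (.node .leaf (246650,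 0, 17, 185454) .leaf) (246651, 0, 12, 216147) (.node .leaf (246652, 0, 16, 181555) .leaf)))) (246653, 0, 15, 140629) (.node (.node (.node (.node .leaf (246658, 0, 14, 67457) .leaf) (246659, 0, 16, 124903) (.node .leaf (246660, 0, 16, 215682) .leaf)) (246661, 0, 14, 36577) (.node (.node .leaf (246664, 0, 17, 160316) .leaf) (246665, 0, 17, 230957) (.node .leaf (246670, 0, 18, 203578) .leaf))) (246671, 0, 16, 135490) (.node (.node (.node .leaf (246672, 0, 15, 143345) .leaf) (246673, 0, 18, 184215) (.node .leaf (246678, 0, 17, 214775) .leaf)) (246679, 0, 16, 239249) (.node (.node .leaf (246682, 0, 15, 16775) .leaf) (246683, 0, 17, 113194) (.node .leaf (246684, 0, 17, 120552) .leaf))))))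

/-- part of the orbit tree -/
def itp7_272 : Tree := (.node (.node (.node (.node (.node (.node .leaf (246690, 0, 15, 134260) .leaf) (246691, 0, 16, 191506) (.node .leaf (246692, 0, 18, 145288) .leaf)) (246693, 0, 15, 28326) (.node (.node .leaf (246696, 0, 15, 41481) .leaf) (246697, 0, 14, 104879) (.node .leaf (246702, 0, 15, 4303) .leaf))) (246703, 0, 18, 61609) (.node (.node (.node .leaf (246704, 0, 16, 74756) .leaf) (246705, 0, 16, 115810) (.node .leaf (246710, 0, 17, 19714) .leaf)) (246711, 0, 17, 127010) (.node (.node .leaf (246714, 0, 15, 151993) .leaf) (246715, 0, 15, 176607) (.node .leaf (246716, 0, 15, 44002) .leaf)))) (246717, 0, 17, 193228) (.node (.node (.node (.node .leaf (246722, 0, 12, 158983) .leaf) (246723, 0, 15, 56393) (.node .leaf (246724, 0, 12, 201224) .leaf)) (246725, 0, 18, 84774) (.node (.node .leaf (246728, 0, 13, 71866) .leaf) (246729, 0, 15, 253607) (.node .leaf (246734, 0, 17, 29116) .leaf))) (246735, 0, 13, 37338) (.node (.node (.node .leaf (246736, 0, 15, 203747) .leaf) (246737, 0, 17, 107793)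 (.node .leaf (246742, 0, 12, 167052) .leaf)) (246743, 0, 16, 52247) (.node (.node .leaf (246746, 0, 17, 143562) .leaf) (246747, 0, 15, 184492) (.node .leaf (246748, 0, 18, 101986) .leaf))))) (246749, 0, 16, 244138) (.node (.node (.node (.node (.node .leaf (246754, 0, 18, 260205) .leaf) (246755, 0, 17, 99988) (.node .leaf (246756, 0, 15, 4084) .leaf)) (246757, 0, 17, 13868) (.node (.node .leaf (246760, 0, 18, 136015) .leaf) (246761, 0, 18, 172973) (.node .leaf (246766, 0, 16, 93676) .leaf))) (246767, 0, 16, 236079) (.node (.node (.node .leaf (246768, 0, 17, 157417) .leaf) (246769, 0, 17, 16327) (.node .leaf (246774, 0, 19, 206724) .leaf)) (246775, 0, 14, 108712) (.node (.node .leaf (246778, 0, 12, 91143) .leaf) (246779, 0, 14, 121689) (.node .leaf (246780, 0, 18, 21049) .leaf)))) (246781, 0, 16, 45663) (.node (.node (.node (.node .leaf (246785, 0, 10, 46180) .leaf) (246787, 0, 15, 56209) (.node .leaf (246788, 0, 17, 27937) .leaf)) (246790, 0, 15, 64930) (.node (.node .leaf (246792, 0, 17, 160154) .leaf) (246794, 0, 17, 157731)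 (.node .leaf (246797, 0, 14, 174303) .leaf))) (246799, 0, 14, 151056) (.node (.node (.node .leaf (246800, 0, 15, 203835) .leaf) (246802, 0, 17, 228466) (.node .leaf (246805, 0, 17, 193810) .leaf)) (246807, 0, 13, 53882) (.node (.node .leaf (246809, 0, 15, 110473) .leaf) (246811, 0, 17, 149499) (.node .leaf (246812, 0, 18, 100794) .leaf))))))

/-- part of the orbit tree -/
def itp7_273 : Tree := (.node itp7_269 (246429, 0, 16, 223269) itp7_270)

/-- part of the orbit tree -/
def itp7_274 : Tree := (.node itp7_271 (246685, 0, 17, 54060) itp7_272)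

/-- part of the orbit tree -/
def itp7_275 : Tree := (.node (.node (.node (.node (.node (.node .leaf (246817, 0, 17, 245649) .leaf) (246819, 0, 16, 192436) (.node .leaf (246820, 0, 14, 222932) .leaf)) (246822, 0, 16, 98472) (.node (.node .leaf (246824, 0, 14, 96879) .leaf) (246826, 0, 16, 202025) (.node .leaf (246829, 0, 17, 56168) .leaf))) (246831, 0, 16, 62223) (.node (.node (.node .leaf (246832, 0, 16, 75682) .leaf) (246834, 0, 18, 100675) (.node .leaf (246837, 0, 18, 149250) .leaf)) (246839, 0, 15, 44738) (.node (.node .leaf (246841, 0, 12, 254556) .leaf) (246843, 0, 16, 176761) (.node .leaf (246844, 0, 16, 211737) .leaf)))) (246846, 0, 14, 158524) (.node (.node (.node (.node .leaf (246849, 0, 15, 253666) .leaf) (246851, 0, 16, 33563) (.node .leaf (246852, 0, 18, 198567) .leaf)) (246854, 0, 17, 153474) (.node (.node .leaf (246856, 0, 14, 121051) .leaf) (246858, 0, 17, 19257) (.node .leaf (246861, 0, 17, 130792) .leaf))) (246863, 0, 16, 136858) (.node (.node (.node .leaf (246864, 0, 15, 214193) .leaf) (246866, 0, 17, 44227)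 (.node .leaf (246869, 0, 15, 221826) .leaf)) (246871, 0, 19, 53169) (.node (.node .leaf (246873, 0, 18, 230191) .leaf) (246875, 0, 18, 139121) (.node .leaf (246876, 0, 16, 219754) .leaf))))) (246878, 0, 14, 133711) (.node (.node (.node (.node (.node .leaf (246881, 0, 14, 54551) .leaf) (246883, 0, 17, 99634) (.node .leaf (246884, 0, 13, 3154) .leaf)) (246886, 0, 19, 89207) (.node (.node .leaf (246888, 0, 12, 135401) .leaf) (246890, 0, 16, 216483) (.node .leaf (246893, 0, 16, 33762) .leaf))) (246895, 0, 16, 224144) (.node (.node (.node .leaf (246896, 0, 16, 150820) .leaf) (246898, 0, 17, 204033) (.node .leaf (246901, 0, 19, 139144) .leaf)) (246903, 0, 17, 129018) (.node (.node .leaf (246905, 0, 18, 35034) .leaf) (246907, 0, 15, 221819) (.node .leaf (246908, 0, 14, 44090) .leaf)))) (246910, 0, 19, 214088) (.node (.node (.node (.node .leaf (246913, 0, 15, 140142) .leaf) (246915, 0, 15, 226123) (.node .leaf (246916, 0, 16, 195115) .leaf)) (246918, 0, 19, 240142) (.node (.node .leaf (246920, 0, 18, 59024) .leaf) (246922, 0, 16, 120906)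 (.node .leaf (246925, 0, 17, 136715) .leaf))) (246927, 0, 14, 130681) (.node (.node (.node .leaf (246928, 0, 14, 44114) .leaf) (246930, 0, 17, 214048) (.node .leaf (246933, 0, 18, 35425) .leaf)) (246935, 0, 16, 78397) (.node (.node .leaf (246937, 0, 16, 163491) .leaf) (246939, 0, 18, 208518) (.node .leaf (246940, 0, 14, 174054) .leaf))))))

/-- part of the orbit tree -/
def itp7_276 : Tree := (.node (.node (.node (.node (.node (.node .leaf (246945, 0, 15, 75931) .leaf) (246947, 0, 15, 30910) (.node .leaf (246948, 0, 18, 121011) .leaf)) (246950, 0, 15, 143553) (.node (.node .leaf (246952, 0, 16, 216370) .leaf) (246954, 0, 16, 42304) (.node .leaf (246957, 0, 17, 224001) .leaf))) (246959, 0, 15, 156677) (.node (.node (.node .leaf (246960, 0, 15, 119128) .leaf) (246962, 0, 17, 145706) (.node .leaf (246965, 0, 17, 223725) .leaf)) (246967, 0, 16, 139033) (.node (.node .leaf (246969, 0, 13, 221930) .leaf) (246971, 0, 16, 35480) (.node .leaf (246972, 0, 8, 214233) .leaf)))) (246974, 0, 17, 64566) (.node (.node (.node (.node .leaf (246977,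 0, 15, 84456) .leaf) (246979, 0, 17, 209778) (.node .leaf (246980, 0, 16, 102573) .leaf)) (246982, 0, 17, 49288) (.node (.node .leaf (246984, 0, 14, 232470) .leaf) (246986, 0, 19, 98496) (.node .leaf (246989, 0, 16, 218451) .leaf))) (246991, 0, 16, 108275) (.node (.node (.node .leaf (246992, 0, 15, 62680) .leaf) (246994, 0, 15, 164350) (.node .leaf (246997, 0, 17, 198814) .leaf)) (246999, 0, 15, 211609) (.node (.node .leaf (247001, 0, 17, 70693) .leaf) (247003, 0, 15, 17408) (.node .leaf (247004, 0, 16, 155993) .leaf))))) (247006, 0, 17, 40261) (.node (.node (.node (.node (.node .leaf (247009, 0, 18, 108042) .leaf) (247011, 0, 17, 201272) (.node .leaf (247012, 0, 17, 170840) .leaf)) (247014, 0, 16, 157771) (.node (.node .leaf (247016, 0, 16, 34787) .leaf) (247018, 0, 18, 120774) (.node .leaf (247021, 0, 13, 24230) .leaf))) (247023, 0, 14, 69251) (.node (.node (.node .leaf (247024, 0, 16, 55854) .leaf) (247026, 0, 17, 100875) (.node .leaf (247029, 0, 17, 110561) .leaf)) (247031, 0, 17, 149395) (.node (.node .leaf (247033, 0,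 16, 211552) .leaf) (247035, 0, 19, 53778) (.node .leaf (247036, 0, 17, 203859) .leaf)))) (247038, 0, 14, 62497) (.node (.node (.node (.node .leaf (247041, 0, 12, 250880) .leaf) (247043, 0, 16, 15474) (.node .leaf (247044, 0, 17, 249685) .leaf)) (247046, 0, 13, 6721) (.node (.node .leaf (247048, 0, 18, 119790) .leaf) (247050, 0, 11, 33739) (.node .leaf (247053, 0, 17, 68267) .leaf))) (247055, 0, 18, 23182) (.node (.node (.node .leaf (247056, 0, 17, 101923) .leaf) (247058, 0, 15, 56838) (.node .leaf (247061, 0, 17, 87910) .leaf)) (247063, 0, 16, 1859) (.node (.node .leaf (247065, 0, 16, 216029) .leaf) (247067, 0, 17, 172056) (.node .leaf (247068, 0, 13, 93785) .leaf))))))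

/-- part of the orbit tree -/
def itp7_277 : Tree := (.node (.node (.node (.node (.node (.node .leaf (247073, 0, 17, 7653) .leaf) (247075, 0, 13, 85440) (.node .leaf (247076, 0, 14, 167737) .leaf)) (247078, 0, 18, 103557) (.node (.node .leaf (247080, 0, 16, 186395) .leaf) (247082, 0, 15, 258762) (.node .leaf (247085, 0, 14, 131422) .leaf))) (247087, 0, 18, 251129) (.node (.node (.node .leaf (247088, 0, 17, 165586) .leaf) (247090, 0, 18, 93856) (.node .leaf (247093, 0, 17, 172257) .leaf)) (247095, 0, 18, 84115) (.node (.node .leaf (247097, 0, 11, 13664) .leaf) (247099, 0, 17, 253202) (.node .leaf (247100, 0, 17, 4947) .leaf)))) (247102, 0, 17, 260897) (.node (.node (.node (.node .leaf (247105, 0, 16, 31894) .leaf) (247107, 0, 18, 76979) (.node .leaf (247108, 0, 17, 42451) .leaf)) (247110, 0, 15, 128502) (.node (.node .leaf (247112, 0, 18, 81720) .leaf) (247114, 0, 16, 256333) (.node .leaf (247117, 0, 19, 71947) .leaf))) (247119, 0, 15, 208904) (.node (.node (.node .leaf (247120, 0, 15, 238418) .leaf) (247122, 0, 15, 242816)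 (.node .leaf (247125, 0, 16, 230753) .leaf)) (247127, 0, 16, 224709) (.node (.node .leaf (247129, 0, 15, 69856) .leaf) (247131, 0, 14, 94590) (.node .leaf (247132, 0, 17, 63518) .leaf))))) (247134, 0, 16, 108603) (.node (.node (.node (.node (.node .leaf (247137, 0, 16, 227171) .leaf) (247139, 0, 17, 72178) (.node .leaf (247140, 0, 18, 186291) .leaf)) (247142, 0, 15, 81857) (.node (.node .leaf (247144, 0, 19, 16946) .leaf) (247146, 0, 16, 58040) (.node .leaf (247149, 0, 14, 93144) .leaf))) (247151, 0, 17, 15357) (.node (.node (.node .leaf (247152, 0, 16, 187992) .leaf) (247154, 0, 15, 79402) (.node .leaf (247157, 0, 16, 194667) .leaf)) (247159, 0, 17, 69657) (.node (.node .leaf (247161, 0, 14, 207534) .leaf) (247163, 0, 16, 162443) (.node .leaf (247164, 0, 17, 19417) .leaf)))) (247166, 0, 15, 238507) (.node (.node (.node (.node .leaf (247169, 0, 17, 98586) .leaf) (247171, 0, 10, 232475) (.node .leaf (247172, 0, 16, 88159) .leaf)) (247174, 0, 15, 240168) (.node (.node .leaf (247176, 0, 17, 214244) .leaf) (247178, 0, 19, 136385)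 (.node .leaf (247181, 0, 15, 193000) .leaf))) (247183, 0, 17, 72090) (.node (.node (.node .leaf (247184, 0, 16, 19377) .leaf) (247186, 0, 14, 238531) (.node .leaf (247189, 0, 18, 28034) .leaf)) (247191, 0, 17, 230896) (.node (.node .leaf (247193, 0, 17, 194563) .leaf) (247195, 0, 18, 69745) (.node .leaf (247196, 0, 11, 187952) .leaf))))))

/-- part of the orbit tree -/
def itp7_278 : Tree := (.node (.node (.node (.node (.node (.node .leaf (247201, 0, 16, 166639) .leaf) (247203, 0, 13, 192785) (.node .leaf (247204, 0, 13, 152490) .leaf)) (247206, 0, 17, 186146) (.node (.node .leaf (247208, 0, 14, 240337) .leaf) (247210, 0, 17, 17059) (.node .leaf (247213, 0, 16, 232674) .leaf))) (247215, 0, 17, 25744) (.node (.node (.node .leaf (247216, 0, 18, 79547) .leaf) (247218, 0, 17, 82681) (.node .leaf (247221, 0, 17, 69768) .leaf)) (247223, 0, 16, 194810) (.node (.node .leaf (247225, 0, 17, 186146) .leaf) (247227, 0, 11, 231175) (.node .leaf (247228, 0, 13, 238394) .leaf)))) (247230, 0, 16, 19272) (.node (.node (.node (.node .leaf (247233,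 0, 16, 191388) .leaf) (247235, 0, 14, 251025) (.node .leaf (247236, 0, 12, 144089) .leaf)) (247238, 0, 18, 258722) (.node (.node .leaf (247240, 0, 17, 167761) .leaf) (247242, 0, 16, 91939) (.node .leaf (247245, 0, 13, 174434) .leaf))) (247247, 0, 11, 82192) (.node (.node (.node .leaf (247248, 0, 14, 4923) .leaf) (247250, 0, 14, 260937) (.node .leaf (247253, 0, 15, 43754) .leaf)) (247255, 0, 15, 129743) (.node (.node .leaf (247257, 0, 12, 177745) .leaf) (247259, 0, 16, 255604) (.node .leaf (247260, 0, 17, 159508) .leaf))))) (247262, 0, 13, 212785) (.node (.node (.node (.node (.node .leaf (247265, 0, 13, 122985) .leaf) (247267, 0, 17, 45132) (.node .leaf (247268, 0, 15, 80172) .leaf)) (247270, 0, 15, 26889) (.node (.node .leaf (247272, 0, 13, 258651) .leaf) (247274, 0, 17, 161202) (.node .leaf (247277, 0, 18, 250984) .leaf))) (247279, 0, 12, 175351) (.node (.node (.node .leaf (247280, 0, 13, 93745) .leaf) (247282, 0, 16, 165443) (.node .leaf (247285, 0, 13, 83970) .leaf)) (247287, 0, 17, 172144) (.node (.node .leaf (247289, 0,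 18, 253315) .leaf) (247291, 0, 18, 60801) (.node .leaf (247292, 0, 17, 91361) .leaf)))) (247294, 0, 16, 13508) (.node (.node (.node (.node .leaf (247296, 0, 17, 94177) .leaf) (247297, 0, 14, 210639) (.node .leaf (247298, 0, 17, 165779) .leaf)) (247299, 0, 16, 116785) (.node (.node .leaf (247308, 0, 17, 260704) .leaf) (247309, 0, 17, 165039) (.node .leaf (247310, 0, 16, 4626) .leaf))) (247311, 0, 16, 150332) (.node (.node (.node .leaf (247316, 0, 14, 91658) .leaf) (247317, 0, 17, 212772) (.node .leaf (247318, 0, 18, 167544) .leaf)) (247319, 0, 13, 231751) (.node (.node .leaf (247320, 0, 15, 258955) .leaf) (247321, 0, 14, 50649) .leaf)))))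

/-- part of the orbit tree -/
def itp7_279 : Tree := (.node itp7_275 (246942, 0, 15, 119201) itp7_276)

/-- part of the orbit tree -/
def itp7_280 : Tree := (.node itp7_277 (247198, 0, 18, 21943) itp7_278)

/-- part of the orbit tree -/
def itp7_281 : Tree := (.node itp7_273 (246557, 0, 18, 148518) itp7_274)

/-- part of the orbit tree -/
def itp7_282 : Tree := (.node itp7_279 (247070, 0, 13, 180925) itp7_280)

/-- part of the orbit tree -/
def itp7_283 : Tree := (.node itp7_267 (245792, 0, 16, 203315) itp7_268)

/-- part of the orbit tree -/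
def itp7_284 : Tree := (.node itp7_281 (246814, 0, 17, 156104) itp7_282)

/-- part of the orbit tree -/
def itp7_285 : Tree := (.node (.node (.node (.node (.node (.node .leaf (247323, 0, 17, 103932) .leaf) (247328, 0, 14, 226183) (.node .leaf (247329, 0, 17, 234465) .leaf)) (247330, 0, 17, 260761) (.node (.node .leaf (247331, 0, 15, 107447) .leaf) (247340, 0, 15, 165738) (.node .leaf (247341, 0, 15, 56900) .leaf))) (247342, 0, 17, 93976) (.node (.node (.node .leaf (247343, 0, 16, 210486) .leaf) (247348, 0, 17, 78577) (.node .leaf (247349, 0, 14, 148014) .leaf)) (247350, 0, 16, 258930) (.node (.node .leaf (247351, 0, 16, 33458) .leaf) (247352, 0, 18, 167553) (.node .leaf (247353, 0, 13, 55215) .leaf)))) (247354, 0, 18, 91891) (.node (.node (.node (.node .leaf (247355, 0, 14, 171529) .leaf) (247360, 0, 17, 201460) (.node .leaf (247361, 0, 15, 258706) .leaf)) (247362, 0, 15, 188185) (.node (.node .leaf (247363, 0, 16, 34359) .leaf) (247372, 0, 14, 238314) (.node .leaf (247373, 0, 16, 129988) .leaf))) (247374, 0, 17, 24170) (.node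 (.node (.node .leaf (247375, 0, 17, 48652) .leaf) (247380, 0, 14, 81536) (.node .leaf (247381, 0, 17, 111588) .leaf)) (247382, 0, 12, 186098) (.node (.node .leaf (247383, 0, 18, 36828) .leaf) (247384, 0, 15, 216889) (.node .leaf (247385, 0, 15, 127535) .leaf))))) (247386, 0, 17, 139036) (.node (.node (.node (.node (.node .leaf (247387, 0, 17, 196474) .leaf) (247392, 0, 18, 6401) (.node .leaf (247393, 0, 17, 63847) .leaf)) (247394, 0, 15, 84260) (.node (.node .leaf (247395, 0, 17, 129853) .leaf) (247404, 0, 14, 132538) (.node .leaf (247405, 0, 13, 189916) .leaf))) (247406, 0, 17, 218527) (.node (.node (.node .leaf (247407, 0, 17, 243193) .leaf) (247412, 0, 13, 153719) (.node .leaf (247413, 0, 15, 137892) .leaf)) (247414, 0, 13, 198738) (.node (.node .leaf (247415, 0, 14, 256052) .leaf) (247416, 0, 11, 185867) (.node .leaf (247417, 0, 18, 36645) .leaf)))) (247418, 0, 13, 81529) (.node (.node (.node (.node .leaf (247419, 0, 14, 128143) .leaf) (247424, 0, 17, 188296) (.node .leaf (247425, 0, 18, 134942) .leaf)) (247426, 0, 16,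 79866) (.node (.node .leaf (247427, 0, 17, 220987) .leaf) (247436, 0, 13, 18953) (.node .leaf (247437, 0, 14, 5029) .leaf))) (247438, 0, 17, 238203) (.node (.node (.node .leaf (247439, 0, 13, 129877) .leaf) (247444, 0, 17, 185955) (.node .leaf (247445, 0, 17, 36685) .leaf)) (247446, 0, 18, 130603) (.node (.node .leaf (247447, 0, 16, 73293) .leaf) (247448, 0, 16, 176821) (.node .leaf (247449, 0, 17, 152275) .leaf))))))

/-- part of the orbit tree -/
def itp7_286 : Tree := (.node (.node (.node (.node (.node (.node .leaf (247451, 0, 17, 197366) .leaf) (247456, 0, 12, 124045) (.node .leaf (247457, 0, 15, 129964) .leaf)) (247458, 0, 12, 46248) (.node (.node .leaf (247459, 0, 13, 136158) .leaf) (247468, 0, 11, 79619) (.node .leaf (247469, 0, 18, 224813) .leaf))) (247470, 0, 17, 188273) (.node (.node (.node .leaf (247471, 0, 18, 34399) .leaf) (247476, 0, 17, 239099) (.node .leaf (247477, 0, 18, 127559) .leaf)) (247478, 0, 15, 194014) (.node (.node .leaf (247479, 0, 13, 136632) .leaf) (247480, 0, 16, 81640) (.node .leaf (247481, 0,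 18, 223174) .leaf)))) (247482, 0, 16, 59749) (.node (.node (.node (.node .leaf (247483, 0, 18, 36788) .leaf) (247488, 0, 16, 99838) (.node .leaf (247489, 0, 11, 56876) .leaf)) (247490, 0, 12, 54747) (.node (.node .leaf (247491, 0, 14, 13757) .leaf) (247500, 0, 17, 235845) (.node .leaf (247501, 0, 10, 227619) .leaf))) (247502, 0, 13, 260849) (.node (.node (.node .leaf (247503, 0, 13, 141574) .leaf) (247508, 0, 19, 167657) (.node .leaf (247509, 0, 17, 55239) .leaf)) (247510, 0, 13, 91803) (.node (.node .leaf (247511, 0, 17, 212917) .leaf) (247512, 0, 15, 7016) (.node .leaf (247513, 0, 14, 148038) .leaf))))) (247514, 0, 16, 34838) (.node (.node (.node (.node (.node .leaf (247515, 0, 16, 26736) .leaf) (247520, 0, 16, 167435) (.node .leaf (247521, 0, 16, 107302) .leaf)) (247522, 0, 14, 253486) (.node (.node .leaf (247523, 0, 16, 150356) .leaf) (247532, 0, 13, 37552) (.node .leaf (247533, 0, 16, 29398) .leaf))) (247534, 0, 16, 115349) (.node (.node (.node .leaf (247535, 0, 17, 74483) .leaf) (247540, 0, 16, 259043) (.node .leaf (247541,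 0, 18, 12059) .leaf)) (247542, 0, 17, 106328) (.node (.node .leaf (247543, 0, 16, 148159) .leaf) (247544, 0, 16, 91746) (.node .leaf (247545, 0, 18, 144288) .leaf)))) (247546, 0, 14, 167440) (.node (.node (.node (.node .leaf (247547, 0, 15, 222085) .leaf) (247552, 0, 14, 100354) (.node .leaf (247553, 0, 16, 211552) .leaf)) (247554, 0, 15, 166435) (.node (.node .leaf (247555, 0, 19, 158277) .leaf) (247564, 0, 13, 116413) (.node .leaf (247565, 0, 13, 83117) .leaf))) (247566, 0, 16, 38552) (.node (.node (.node .leaf (247567, 0, 17, 175327) .leaf) (247572, 0, 13, 98793) (.node .leaf (247573, 0, 11, 97046) .leaf)) (247574, 0, 13, 158107) (.node (.node .leaf (247575, 0, 14, 11059) .leaf) (247576, 0, 15, 201832) (.node .leaf (247577, 0, 16, 223149) .leaf))))))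

/-- part of the orbit tree -/
def itp7_287 : Tree := (.node (.node (.node (.node (.node (.node .leaf (247579, 0, 18, 145288) .leaf) (247584, 0, 13, 53747) (.node .leaf (247585, 0, 17, 12693) .leaf)) (247586, 0, 17, 204154) (.node (.node .leaf (247587, 0, 12, 83028) .leaf) (247596, 0, 12, 155785) (.node .leaf (247597, 0, 16, 14759) .leaf))) (247598, 0, 17, 100603) (.node (.node (.node .leaf (247599, 0, 12, 228619) .leaf) (247604, 0, 14, 64739) (.node .leaf (247605, 0, 16, 173517) .leaf)) (247606, 0, 11, 201873) (.node (.node .leaf (247607, 0, 16, 204998) .leaf) (247608, 0, 17, 35902) (.node .leaf (247609, 0, 11, 27736) .leaf)))) (247610, 0, 17, 121883) (.node (.node (.node (.node .leaf (247611, 0, 17, 81021) .leaf) (247616, 0, 17, 45184) (.node .leaf (247617, 0, 15, 231846) .leaf)) (247618, 0, 16, 123045) (.node (.node .leaf (247619, 0, 15, 25044) .leaf) (247628, 0, 12, 214281) (.node .leaf (247629, 0, 14, 72743) .leaf))) (247630, 0, 15, 44411) (.node (.node (.node .leaf (247631, 0, 17, 203896) .leaf) (247636, 0, 19, 193014)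 (.node .leaf (247637, 0, 15, 229453) .leaf)) (247638, 0, 14, 238035) (.node (.node .leaf (247639, 0, 16, 26687) .leaf) (247640, 0, 17, 216290) (.node .leaf (247641, 0, 16, 3371) .leaf))))) (247642, 0, 17, 42128) (.node (.node (.node (.node (.node .leaf (247643, 0, 14, 89358) .leaf) (247648, 0, 12, 44418) (.node .leaf (247649, 0, 18, 219923) .leaf)) (247650, 0, 14, 191312) (.node (.node .leaf (247651, 0, 15, 72926) .leaf) (247660, 0, 18, 108494) (.node .leaf (247661, 0, 17, 24877) .leaf))) (247662, 0, 17, 63467) (.node (.node (.node .leaf (247663, 0, 14, 6029) .leaf) (247668, 0, 17, 129539) (.node .leaf (247669, 0, 16, 195911) .leaf)) (247670, 0, 16, 216091) (.node (.node .leaf (247671, 0, 13, 70965) .leaf) (247672, 0, 11, 143848) (.node .leaf (247673, 0, 14, 26822) .leaf)))) (247674, 0, 15, 121242) (.node (.node (.node (.node .leaf (247675, 0, 17, 153339) .leaf) (247680, 0, 14, 85260) (.node .leaf (247681, 0, 15, 109930) .leaf)) (247682, 0, 15, 118809) (.node (.node .leaf (247683, 0, 13, 64847) .leaf) (247692, 0, 17, 44522)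 (.node .leaf (247693, 0, 17, 193732) .leaf))) (247694, 0, 17, 131474) (.node (.node (.node .leaf (247695, 0, 16, 188916) .leaf) (247700, 0, 17, 143744) (.node .leaf (247701, 0, 16, 26798) .leaf)) (247702, 0, 11, 154719) (.node (.node .leaf (247703, 0, 15, 179257) .leaf) (247704, 0, 14, 69825) (.node .leaf (247705, 0, 13, 195887) .leaf))))))

/-- part of the orbit tree -/
def itp7_288 : Tree := (.node (.node (.node (.node (.node (.node .leaf (247707, 0, 16, 71005) .leaf) (247712, 0, 15, 214369) (.node .leaf (247713, 0, 16, 72783) .leaf)) (247714, 0, 16, 44307) (.node (.node .leaf (247715, 0, 14, 259770) .leaf) (247724, 0, 15, 119008) (.node .leaf (247725, 0, 17, 231886) .leaf))) (247726, 0, 13, 145554) (.node (.node (.node .leaf (247727, 0, 18, 25020) .leaf) (247732, 0, 17, 1935) (.node .leaf (247733, 0, 16, 59369) .leaf)) (247734, 0, 16, 87978) (.node (.node .leaf (247735, 0, 16, 112588) .leaf) (247736, 0, 17, 121099) (.node .leaf (247737, 0, 15, 195410) .leaf)))) (247738, 0, 16, 143737) (.node (.node (.node (.node .leaf (247739,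 0, 14, 240503) .leaf) (247744, 0, 15, 141194) (.node .leaf (247745, 0, 16, 14799) .leaf)) (247746, 0, 16, 100499) (.node (.node .leaf (247747, 0, 15, 235465) .leaf) (247756, 0, 15, 15153) (.node .leaf (247757, 0, 13, 56151) .leaf))) (247758, 0, 17, 92948) (.node (.node (.node .leaf (247759, 0, 17, 83004) .leaf) (247764, 0, 17, 26364) (.node .leaf (247765, 0, 16, 34458) .leaf)) (247766, 0, 17, 79577) (.node (.node .leaf (247767, 0, 16, 251990) .leaf) (247768, 0, 17, 162375) (.node .leaf (247769, 0, 16, 170529) .leaf))))) (247770, 0, 14, 201977) (.node (.node (.node (.node (.node .leaf (247771, 0, 16, 248324) .leaf) (247776, 0, 15, 76927) (.node .leaf (247777, 0, 17, 83141) .leaf)) (247778, 0, 15, 31834) (.node (.node .leaf (247779, 0, 13, 39996) .leaf) (247788, 0, 16, 100458) (.node .leaf (247789, 0, 16, 250018) .leaf))) (247790, 0, 16, 155672) (.node (.node (.node .leaf (247791, 0, 14, 163975) .leaf) (247796, 0, 15, 201728) (.node .leaf (247797, 0, 15, 232815) .leaf)) (247798, 0, 17, 64626) (.node (.node .leaf (247799, 0, 14,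 173404) .leaf) (247800, 0, 15, 94642) (.node .leaf (247801, 0, 17, 102868) .leaf)))) (247802, 0, 15, 158195) (.node (.node (.node (.node .leaf (247803, 0, 16, 12509) .leaf) (247809, 0, 16, 31528) (.node .leaf (247810, 0, 17, 117364) .leaf)) (247813, 0, 15, 132149) (.node (.node .leaf (247814, 0, 14, 243049) .leaf) (247816, 0, 17, 182426) (.node .leaf (247819, 0, 18, 42349) .leaf))) (247820, 0, 17, 46983) (.node (.node (.node .leaf (247823, 0, 17, 40014) .leaf) (247824, 0, 15, 84195) (.node .leaf (247827, 0, 18, 124332) .leaf)) (247828, 0, 17, 94656) (.node (.node .leaf (247831, 0, 16, 236209) .leaf) (247833, 0, 16, 190274) (.node .leaf (247834, 0, 15, 146782) .leaf))))))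

/-- part of the orbit tree -/
def itp7_289 : Tree := (.node itp7_285 (247450, 0, 14, 254608) itp7_286)

/-- part of the orbit tree -/
def itp7_290 : Tree := (.node itp7_287 (247706, 0, 15, 216179) itp7_288)

/-- part of the orbit tree -/
def itp7_291 : Tree := (.node (.node (.node (.node (.node (.node .leaf (247838, 0, 18, 76035) .leaf) (247841, 0, 12, 56101) (.node .leaf (247842, 0, 15, 93030) .leaf)) (247845, 0, 12, 57862) (.node (.node .leaf (247846, 0, 14, 182371) .leaf) (247848, 0, 15, 243088) (.node .leaf (247851, 0, 15, 241304) .leaf))) (247852, 0, 14, 141304) (.node (.node (.node .leaf (247855, 0, 15, 31697) .leaf) (247856, 0, 18, 148246) (.node .leaf (247859, 0, 18, 258901) .leaf)) (247860, 0, 15, 162357) (.node (.node .leaf (247863, 0, 13, 248438) .leaf) (247865, 0, 16, 236104) (.node .leaf (247866, 0, 14, 79531) .leaf)))) (247869, 0, 16, 49099) (.node (.node (.node (.node .leaf (247870, 0, 16, 69512) .leaf) (247873, 0, 17, 47702) (.node .leaf (247874, 0, 16, 103166) .leaf)) (247877, 0, 15, 33653) (.node (.node .leaf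 (247878, 0, 18, 257507) .leaf) (247880, 0, 16, 167952) (.node .leaf (247883, 0, 16, 249835) .leaf))) (247884, 0, 16, 61197) (.node (.node (.node .leaf (247887, 0, 18, 259784) .leaf) (247888, 0, 13, 3194) (.node .leaf (247891, 0, 18, 234022) .leaf)) (247892, 0, 18, 160615) (.node (.node .leaf (247895, 0, 16, 246331) .leaf) (247897, 0, 17, 59291) (.node .leaf (247898, 0, 17, 200340) .leaf))))) (247901, 0, 15, 57016) (.node (.node (.node (.node (.node .leaf (247902, 0, 15, 93947) .leaf) (247905, 0, 17, 242083) (.node .leaf (247906, 0, 14, 61428) .leaf)) (247909, 0, 12, 205237) (.node (.node .leaf (247910, 0, 16, 168169) .leaf) (247912, 0, 17, 257306) (.node .leaf (247915, 0, 13, 50206) .leaf))) (247916, 0, 14, 102919) (.node (.node (.node .leaf (247919, 0, 13, 64829) .leaf) (247920, 0, 12, 76176) (.node .leaf (247923, 0, 16, 39379) .leaf)) (247924, 0, 15, 200301) (.node (.node .leaf (247927, 0, 16, 41200) .leaf) (247929, 0, 16, 257134) (.node .leaf (247930, 0, 16, 154669) .leaf)))) (247933, 0, 17, 114143) (.node (.node (.node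 (.node .leaf (247934, 0, 14, 3203) .leaf) (247937, 0, 16, 248641) (.node .leaf (247938, 0, 15, 63385) .leaf)) (247941, 0, 16, 111708) (.node (.node .leaf (247942, 0, 17, 52922) .leaf) (247944, 0, 18, 96499) (.node .leaf (247947, 0, 17, 143975) .leaf))) (247948, 0, 16, 244487) (.node (.node (.node .leaf (247951, 0, 17, 133956) .leaf) (247952, 0, 12, 253929) (.node .leaf (247955, 0, 15, 153029) .leaf)) (247956, 0, 17, 255690) (.node (.node .leaf (247959, 0, 16, 153225) .leaf) (247961, 0, 17, 87851) (.node .leaf (247962, 0, 15, 58999) .leaf))))))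

/-- part of the orbit tree -/
def itp7_292 : Tree := (.node (.node (.node (.node (.node (.node .leaf (247966, 0, 15, 170346) .leaf) (247969, 0, 18, 177739) (.node .leaf (247970, 0, 16, 261228) .leaf)) (247973, 0, 16, 51542) (.node (.node .leaf (247974, 0, 16, 247119) .leaf) (247976, 0, 16, 1529) (.node .leaf (247979, 0, 17, 80274) .leaf))) (247980, 0, 18, 45298) (.node (.node (.node .leaf (247983, 0, 16, 248760) .leaf) (247984, 0, 14, 54300) (.node .leaf (247987, 0, 18, 207055) .leaf)) (247988, 0, 17, 59022) (.node (.node .leaf (247991, 0, 14, 89468) .leaf) (247993, 0, 15, 135650) (.node .leaf (247994, 0, 14, 237985) .leaf)))) (247997, 0, 15, 141505) (.node (.node (.node (.node .leaf (247998, 0, 14, 255072) .leaf) (248001, 0, 17, 234443) (.node .leaf (248002, 0, 16, 236831) .leaf)) (248005, 0, 18, 126166) (.node (.node .leaf (248006, 0, 14, 23946) .leaf) (248008, 0, 20, 73849) (.node .leaf (248011, 0, 16, 88289) .leaf))) (248012, 0, 15, 53633) (.node (.node (.node .leaf (248015, 0, 16, 192056) .leaf) (248016, 0, 13, 46447)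 (.node .leaf (248019, 0, 16, 134479) .leaf)) (248020, 0, 15, 35916) (.node (.node .leaf (248023, 0, 14, 29266) .leaf) (248025, 0, 17, 69537) (.node .leaf (248026, 0, 15, 48893) .leaf))))) (248029, 0, 17, 149938) (.node (.node (.node (.node (.node .leaf (248030, 0, 17, 260593) .leaf) (248033, 0, 14, 192193) (.node .leaf (248034, 0, 16, 38634) .leaf)) (248037, 0, 16, 73610) (.node (.node .leaf (248038, 0, 18, 45001) .leaf) (248040, 0, 13, 254807) (.node .leaf (248043, 0, 10, 125999) .leaf))) (248044, 0, 17, 139886) (.node (.node (.node .leaf (248047, 0, 15, 234290) .leaf) (248048, 0, 18, 180505) (.node .leaf (248051, 0, 16, 134873) .leaf)) (248052, 0, 18, 48644) (.node (.node .leaf (248055, 0, 16, 69464) .leaf) (248057, 0, 12, 29355) (.node .leaf (248058, 0, 16, 115703) .leaf)))) (248061, 0, 15, 134582) (.node (.node (.node (.node .leaf (248062, 0, 18, 61956) .leaf) (248065, 0, 15, 29348) (.node .leaf (248066, 0, 15, 115431) .leaf)) (248069, 0, 18, 19335) (.node (.node .leaf (248070, 0, 16, 217738) .leaf) (248072, 0, 17, 178010)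 (.node .leaf (248075, 0, 18, 198425) .leaf))) (248076, 0, 14, 20580) (.node (.node (.node .leaf (248079, 0, 16, 123192) .leaf) (248080, 0, 17, 45843) (.node .leaf (248083, 0, 17, 66127) .leaf)) (248084, 0, 16, 183310) (.node (.node .leaf (248087, 0, 16, 222199) .leaf) (248089, 0, 15, 12137) (.node .leaf (248090, 0, 16, 106282) .leaf))))))

/-- part of the orbit tree -/
def itp7_293 : Tree := (.node (.node (.node (.node (.node (.node .leaf (248094, 0, 18, 118496) .leaf) (248097, 0, 19, 227665) (.node .leaf (248098, 0, 17, 20637) .leaf)) (248101, 0, 17, 237276) (.node (.node .leaf (248102, 0, 17, 143232) .leaf) (248104, 0, 14, 113839) (.node .leaf (248107, 0, 17, 189231) .leaf))) (248108, 0, 16, 77166) (.node (.node (.node .leaf (248111, 0, 14, 39986) .leaf) (248112, 0, 16, 123234) (.node .leaf (248115, 0, 16, 32581) .leaf)) (248116, 0, 19, 120897) (.node (.node .leaf (248119, 0, 17, 26626) .leaf) (248121, 0, 16, 205980) (.node .leaf (248122, 0, 17, 169183) .leaf)))) (248125, 0, 18, 66230) (.node (.node (.node (.node .leaf (248126,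 0, 15, 175612) .leaf) (248129, 0, 13, 50241) (.node .leaf (248130, 0, 13, 95517) .leaf)) (248133, 0, 16, 205057) (.node (.node .leaf (248134, 0, 10, 168258) .leaf) (248136, 0, 17, 122332) (.node .leaf (248139, 0, 17, 28063) .leaf))) (248140, 0, 18, 2286) (.node (.node (.node .leaf (248143, 0, 14, 113074) .leaf) (248144, 0, 16, 98321) (.node .leaf (248147, 0, 17, 88773) .leaf)) (248148, 0, 18, 112946) (.node (.node .leaf (248151, 0, 17, 2417) .leaf) (248153, 0, 14, 153643) (.node .leaf (248154, 0, 17, 256375) .leaf))))) (248157, 0, 18, 228556) (.node (.node (.node (.node (.node .leaf (248158, 0, 15, 183439) .leaf) (248161, 0, 17, 112971) (.node .leaf (248162, 0, 19, 107412) .leaf)) (248165, 0, 13, 247382) (.node (.node .leaf (248166, 0, 17, 105143) .leaf) (248168, 0, 16, 199417) (.node .leaf (248171, 0, 17, 179109) .leaf))) (248172, 0, 17, 95716) (.node (.node (.node .leaf (248175, 0, 16, 50360) .leaf) (248176, 0, 15, 104083) (.node .leaf (248179, 0, 16, 10191) .leaf)) (248180, 0, 18, 256398) (.node (.node .leaf (248183, 0,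 16, 153810) .leaf) (248185, 0, 13, 19994) (.node .leaf (248186, 0, 15, 130649) .leaf)))) (248189, 0, 14, 30521) (.node (.node (.node (.node .leaf (248190, 0, 17, 116602) .leaf) (248193, 0, 19, 208034) (.node .leaf (248194, 0, 15, 171518) .leaf)) (248197, 0, 15, 187533) (.node (.node .leaf (248198, 0, 11, 224462) .leaf) (248200, 0, 13, 106256) (.node .leaf (248203, 0, 13, 102419) .leaf))) (248204, 0, 17, 6515) (.node (.node (.node .leaf (248207, 0, 17, 151889) .leaf) (248208, 0, 12, 32157) (.node .leaf (248211, 0, 15, 176678) .leaf)) (248212, 0, 18, 97383) (.node (.node .leaf (248215, 0, 16, 128253) .leaf) (248217, 0, 17, 110792) (.node .leaf (248218, 0, 17, 404) .leaf))))))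

/-- part of the orbit tree -/
def itp7_294 : Tree := (.node (.node (.node (.node (.node (.node .leaf (248222, 0, 15, 163465) .leaf) (248225, 0, 16, 126555) (.node .leaf (248226, 0, 15, 24088) .leaf)) (248229, 0, 12, 11957) (.node (.node .leaf (248230, 0, 15, 26427) .leaf) (248232, 0, 17, 57882) (.node .leaf (248235, 0, 17, 170982) .leaf))) (248236, 0, 14, 171271) (.node (.node (.node .leaf (248239, 0, 16, 207963) .leaf) (248240, 0, 17, 163440) (.node .leaf (248243, 0, 14, 181803) .leaf)) (248244, 0, 17, 365) (.node (.node .leaf (248247, 0, 14, 196360) .leaf) (248249, 0, 17, 111510) (.node .leaf (248250, 0, 18, 981) .leaf)))) (248253, 0, 16, 176863) (.node (.node (.node (.node .leaf (248254, 0, 15, 197507) .leaf) (248257, 0, 15, 226344) (.node .leaf (248258, 0, 18, 181620) .leaf)) (248261, 0, 14, 112139) (.node (.node .leaf (248262, 0, 16, 47721) .leaf) (248264, 0, 17, 116634) (.node .leaf (248267, 0, 14, 195221) .leaf))) (248268, 0, 13, 243847) (.node (.node (.node .leaf (248271, 0, 17, 181174) .leaf) (248272, 0, 17, 202523)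 (.node .leaf (248275, 0, 17, 173912) .leaf)) (248276, 0, 18, 74989) (.node (.node .leaf (248279, 0, 17, 38321) .leaf) (248281, 0, 7, 119525) (.node .leaf (248282, 0, 16, 22814) .leaf))))) (248285, 0, 16, 235359) (.node (.node (.node (.node (.node .leaf (248286, 0, 12, 140803) .leaf) (248289, 0, 16, 133410) (.node .leaf (248290, 0, 17, 210078) .leaf)) (248293, 0, 17, 30271) (.node (.node .leaf (248294, 0, 14, 116579) .leaf) (248296, 0, 17, 47760) (.node .leaf (248299, 0, 16, 68556) .leaf))) (248300, 0, 18, 30720) (.node (.node (.node .leaf (248303, 0, 16, 116803) .leaf) (248304, 0, 17, 7406) (.node .leaf (248307, 0, 13, 109741) .leaf)) (248308, 0, 16, 9677) (.node (.node .leaf (248311, 0, 16, 103822) .leaf) (248313, 0, 15, 186640) (.node .leaf (248314, 0, 17, 223571) .leaf)))) (248317, 0, 18, 188467) (.node (.node (.node (.node .leaf (248318, 0, 18, 219913) .leaf) (248320, 0, 17, 141098) (.node .leaf (248321, 0, 15, 261280) .leaf)) (248324, 0, 15, 22583) (.node (.node .leaf (248325, 0, 11, 247171) .leaf) (248330, 0, 18, 75204)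 (.node .leaf (248331, 0, 16, 35101) .leaf))) (248334, 0, 16, 219865) (.node (.node (.node .leaf (248335, 0, 17, 45118) .leaf) (248338, 0, 17, 244142) (.node .leaf (248339, 0, 16, 123008) .leaf)) (248342, 0, 16, 116403) (.node (.node .leaf (248343, 0, 14, 237469) .leaf) (248344, 0, 12, 213259) .leaf)))))

/-- part of the orbit tree -/
def itp7_295 : Tree := (.node itp7_291 (247965, 0, 15, 74548) itp7_292)

/-- part of the orbit tree -/
def itp7_296 : Tree := (.node itp7_293 (248221, 0, 16, 249813) itp7_294)

/-- part of the orbit tree -/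
def itp7_297 : Tree := (.node itp7_289 (247578, 0, 17, 186350) itp7_290)

/-- part of the orbit tree -/
def itp7_298 : Tree := (.node itp7_295 (248093, 0, 16, 5706) itp7_296)

/-- part of the orbit tree -/
def itp7_299 : Tree := (.node (.node (.node (.node (.node (.node .leaf (248348, 0, 17, 181341) .leaf) (248349, 0, 17, 40307) (.node .leaf (248352, 0, 17, 5939) .leaf)) (248353, 0, 14, 66318) (.node (.node .leaf (248356, 0, 15, 75069) .leaf) (248357, 0, 15, 52854) (.node .leaf (248362, 0, 17, 221838) .leaf))) (248363, 0, 18, 230120) (.node (.node (.node .leaf (248366, 0, 17, 141267) .leaf) (248367, 0, 12, 244683) (.node .leaf (248370, 0, 14, 212803) .leaf)) (248371, 0, 15, 253733) (.node (.node .leaf (248374, 0, 15, 198240) .leaf) (248375, 0, 17, 255494) (.node .leaf (248376, 0, 12, 19198) .leaf)))) (248377, 0, 17, 43672) (.node (.node (.node (.node .leaf (248380, 0, 16, 244055) .leaf) (248381, 0, 15, 37819) (.node .leaf (248384, 0, 16, 30272) .leaf)) (248385, 0, 12, 9870) (.node (.node .leaf (248388, 0, 18, 189) .leaf) (248389,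 0, 16, 44805) (.node .leaf (248394, 0, 16, 197629) .leaf))) (248395, 0, 17, 205920) (.node (.node (.node .leaf (248398, 0, 14, 211678) .leaf) (248399, 0, 17, 88957) (.node .leaf (248402, 0, 14, 220720) .leaf)) (248403, 0, 17, 112650) (.node (.node .leaf (248406, 0, 16, 106041) .leaf) (248407, 0, 15, 247575) (.node .leaf (248408, 0, 15, 11149) .leaf))))) (248409, 0, 16, 178916) (.node (.node (.node (.node (.node .leaf (248412, 0, 17, 171223) .leaf) (248413, 0, 17, 62152) (.node .leaf (248416, 0, 16, 197290) .leaf)) (248417, 0, 15, 88964) (.node (.node .leaf (248420, 0, 15, 214166) .leaf) (248421, 0, 16, 205977) (.node .leaf (248426, 0, 9, 2056) .leaf))) (248427, 0, 17, 59502) (.node (.node (.node .leaf (248430, 0, 16, 12587) .leaf) (248431, 0, 14, 9847) (.node .leaf (248434, 0, 16, 21957) .leaf)) (248435, 0, 16, 46499) (.node (.node .leaf (248438, 0, 12, 58163) .leaf) (248439, 0, 15, 178717) (.node .leaf (248440, 0, 14, 106176) .leaf)))) (248441, 0, 16, 245790) (.node (.node (.node (.node .leaf (248444, 0, 16, 203099) .leaf)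 (248445, 0, 16, 260413) (.node .leaf (248448, 0, 15, 104259) .leaf)) (248449, 0, 10, 249453) (.node (.node .leaf (248452, 0, 16, 111343) .leaf) (248453, 0, 15, 86665) (.node .leaf (248458, 0, 18, 169389) .leaf))) (248459, 0, 12, 138775) (.node (.node (.node .leaf (248462, 0, 16, 182098) .leaf) (248463, 0, 15, 141108) (.node .leaf (248466, 0, 14, 2503) .leaf)) (248467, 0, 17, 151785) (.node (.node .leaf (248470, 0, 15, 170655) .leaf) (248471, 0, 18, 12276) (.node .leaf (248472, 0, 15, 199465) .leaf))))))

/-- part of the orbit tree -/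
def itp7_300 : Tree := (.node (.node (.node (.node (.node (.node .leaf (248476, 0, 16, 126754) .leaf) (248477, 0, 15, 208154) (.node .leaf (248480, 0, 19, 163897) .leaf)) (248481, 0, 14, 176999) (.node (.node .leaf (248484, 0, 17, 178458) .leaf) (248485, 0, 14, 52346) (.node .leaf (248490, 0, 15, 256167) .leaf))) (248491, 0, 12, 110985) (.node (.node (.node .leaf (248494, 0, 12, 117927) .leaf) (248495, 0, 16, 249492) (.node .leaf (248498, 0, 17, 108617) .leaf)) (248499, 0, 13, 84015) (.node (.node .leaf (248502, 0, 15, 102762) .leaf) (248503, 0, 14, 86782) (.node .leaf (248504, 0, 14, 187892) .leaf)))) (248505, 0, 12, 12045) (.node (.node (.node (.node .leaf (248508, 0, 16, 2366) .leaf) (248509, 0, 16, 132273) (.node .leaf (248512, 0, 15, 118729) .leaf)) (248513, 0, 17, 235239) (.node (.node .leaf (248516, 0, 17, 241876) .leaf) (248517, 0, 16, 125434) (.node .leaf (248522, 0, 14, 183591) .leaf))) (248523, 0, 18, 95377) (.node (.node (.node .leaf (248526, 0, 14, 45626) .leaf) (248527, 0, 16, 191252) (.node .leaf (248530, 0,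 16, 20813) .leaf)) (248531, 0, 17, 76124) (.node (.node .leaf (248534, 0, 18, 127001) .leaf) (248535, 0, 18, 30590) (.node .leaf (248536, 0, 16, 218019) .leaf))))) (248537, 0, 16, 68237) (.node (.node (.node (.node (.node .leaf (248540, 0, 18, 165284) .leaf) (248541, 0, 15, 157122) (.node .leaf (248544, 0, 15, 125631) .leaf)) (248545, 0, 12, 68313) (.node (.node .leaf (248548, 0, 18, 119708) .leaf) (248549, 0, 12, 78842) (.node .leaf (248554, 0, 16, 171778) .leaf))) (248555, 0, 13, 163684) (.node (.node (.node .leaf (248558, 0, 16, 118576) .leaf) (248559, 0, 17, 149063) (.node .leaf (248562, 0, 15, 180943) .leaf)) (248563, 0, 15, 139945) (.node (.node .leaf (248566, 0, 16, 195564) .leaf) (248567, 0, 18, 138122) (.node .leaf (248568, 0, 16, 112498) .leaf)))) (248569, 0, 17, 87828) (.node (.node (.node (.node .leaf (248572, 0, 17, 20916) .leaf) (248573, 0, 18, 133274) (.node .leaf (248576, 0, 17, 48818) .leaf)) (248577, 0, 15, 24276) (.node (.node .leaf (248580, 0, 17, 49108) .leaf) (248581, 0, 17, 26615) (.node .leaf (248586,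 0, 16, 115239) .leaf))) (248587, 0, 14, 236297) (.node (.node (.node .leaf (248590, 0, 16, 245050) .leaf) (248591, 0, 16, 123924) (.node .leaf (248594, 0, 18, 235202) .leaf)) (248595, 0, 15, 226980) (.node (.node .leaf (248598, 0, 12, 74064) .leaf) (248599, 0, 17, 227454) (.node .leaf (248600, 0, 16, 23715) .leaf))))))

/-- part of the orbit tree -/
def itp7_301 : Tree := (.node (.node (.node (.node (.node (.node .leaf (248604, 0, 16, 140222) .leaf) (248605, 0, 18, 31376) (.node .leaf (248608, 0, 14, 243015) .leaf)) (248609, 0, 15, 124141) (.node (.node .leaf (248612, 0, 15, 232548) .leaf) (248613, 0, 16, 224258) (.node .leaf (248618, 0, 16, 48941) .leaf))) (248619, 0, 12, 8348) (.node (.node (.node .leaf (248622, 0, 15, 63961) .leaf) (248623, 0, 16, 6591) (.node .leaf (248626, 0, 15, 40247) .leaf)) (248627, 0, 9, 31337) (.node (.node .leaf (248630, 0, 16, 23642) .leaf) (248631, 0, 15, 132468) (.node .leaf (248632, 0, 18, 256138) .leaf)))) (248633, 0, 16, 198892) (.node (.node (.node (.node .leaf (248636, 0, 11, 220852) .leaf)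 (248637, 0, 17, 67482) (.node .leaf (248640, 0, 17, 170051) .leaf)) (248641, 0, 15, 49517) (.node (.node .leaf (248644, 0, 16, 257303) .leaf) (248645, 0, 15, 179824) (.node .leaf (248650, 0, 17, 105133) .leaf))) (248651, 0, 17, 246659) (.node (.node (.node .leaf (248654, 0, 16, 39082) .leaf) (248655, 0, 17, 30924) (.node .leaf (248658, 0, 17, 64580) .leaf)) (248659, 0, 17, 7202) (.node (.node .leaf (248662, 0, 17, 50535) .leaf) (248663, 0, 16, 205044) (.node .leaf (248664, 0, 18, 231929) .leaf))))) (248665, 0, 16, 223647) (.node (.node (.node (.node (.node .leaf (248668, 0, 15, 241882) .leaf) (248669, 0, 12, 8730) (.node .leaf (248672, 0, 14, 255305) .leaf)) (248673, 0, 12, 16295) (.node (.node .leaf (248676, 0, 15, 105044) .leaf) (248677, 0, 16, 1668) (.node .leaf (248682, 0, 18, 59303) .leaf))) (248683, 0, 15, 215578) (.node (.node (.node .leaf (248686, 0, 16, 234335) .leaf) (248687, 0, 16, 49556) (.node .leaf (248690, 0, 15, 162765) .leaf)) (248691, 0, 17, 8931) (.node (.node .leaf (248694, 0, 13, 1232) .leaf) (248695, 0,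 11, 155134) (.node .leaf (248696, 0, 17, 96547) .leaf)))) (248697, 0, 16, 204813) (.node (.node (.node (.node .leaf (248700, 0, 17, 198206) .leaf) (248701, 0, 17, 89872) (.node .leaf (248704, 0, 13, 141752) .leaf)) (248705, 0, 18, 207246) (.node (.node .leaf (248708, 0, 13, 200637) .leaf) (248709, 0, 17, 192765) (.node .leaf (248714, 0, 14, 160334) .leaf))) (248715, 0, 15, 11104) (.node (.node (.node .leaf (248718, 0, 18, 91430) .leaf) (248719, 0, 17, 99648) (.node .leaf (248722, 0, 15, 65992) .leaf)) (248723, 0, 12, 177930) (.node (.node .leaf (248726, 0, 15, 168249) .leaf) (248727, 0, 18, 120973) (.node .leaf (248728, 0, 10, 257226) .leaf))))))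

/-- part of the orbit tree -/
def itp7_302 : Tree := (.node (.node (.node (.node (.node (.node .leaf (248732, 0, 15, 150870) .leaf) (248733, 0, 11, 175408) (.node .leaf (248736, 0, 18, 3498) .leaf)) (248737, 0, 14, 115243) (.node (.node .leaf (248740, 0, 16, 160439) .leaf) (248741, 0, 14, 129800) (.node .leaf (248746, 0, 16, 200516) .leaf))) (248747, 0, 15, 87658) (.node (.node (.node .leaf (248750, 0, 15, 159443) .leaf) (248751, 0, 16, 207223) (.node .leaf (248754, 0, 16, 133693) .leaf)) (248755, 0, 18, 248320) (.node (.node .leaf (248758, 0, 16, 257075) .leaf) (248759, 0, 15, 111901) (.node .leaf (248760, 0, 15, 168384) .leaf)))) (248761, 0, 18, 106470) (.node (.node (.node (.node .leaf (248764, 0, 14, 61149) .leaf) (248765, 0, 17, 178163) (.node .leaf (248768, 0, 19, 75818) .leaf)) (248769, 0, 16, 225540) (.node (.node .leaf (248772, 0, 18, 96797) .leaf) (248773, 0, 15, 69145) (.node .leaf (248778, 0, 18, 142020) .leaf))) (248779, 0, 13, 186085) (.node (.node (.node .leaf (248782, 0, 18, 21977) .leaf) (248783, 0, 18, 192454)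 (.node .leaf (248786, 0, 13, 46766) .leaf)) (248787, 0, 18, 166696) (.node (.node .leaf (248790, 0, 16, 182707) .leaf) (248791, 0, 14, 176651) (.node .leaf (248792, 0, 12, 73459) .leaf))))) (248793, 0, 15, 130709) (.node (.node (.node (.node (.node .leaf (248796, 0, 17, 117597) .leaf) (248797, 0, 16, 234099) (.node .leaf (248800, 0, 17, 21792) .leaf)) (248801, 0, 15, 134158) (.node (.node .leaf (248804, 0, 16, 141885) .leaf) (248805, 0, 16, 29459) (.node .leaf (248810, 0, 16, 81270) .leaf))) (248811, 0, 17, 69344) (.node (.node (.node .leaf (248814, 0, 12, 66645) .leaf) (248815, 0, 17, 123955) (.node .leaf (248818, 0, 16, 117668) .leaf)) (248819, 0, 16, 98525) (.node (.node .leaf (248822, 0, 18, 242873) .leaf) (248823, 0, 14, 113150) (.node .leaf (248824, 0, 15, 136454) .leaf)))) (248825, 0, 18, 193888) (.node (.node (.node (.node .leaf (248828, 0, 16, 142373) .leaf) (248829, 0, 10, 192377) (.node .leaf (248832, 0, 16, 141854) .leaf)) (248834, 0, 17, 227899) (.node (.node .leaf (248836, 0, 18, 217327) .leaf) (248838, 0, 17,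 47261) (.node .leaf (248841, 0, 15, 236608) .leaf))) (248843, 0, 16, 29746) (.node (.node (.node .leaf (248845, 0, 10, 123741) .leaf) (248847, 0, 12, 100070) (.node .leaf (248849, 0, 16, 65578) .leaf)) (248851, 0, 19, 190552) (.node (.node .leaf (248853, 0, 16, 35598) .leaf) (248855, 0, 17, 38725) (.node .leaf (248856, 0, 14, 161747) .leaf))))))

/-- part of the orbit tree -/
def itp7_303 : Tree := (.node itp7_299 (248473, 0, 17, 86535) itp7_300)

/-- part of the orbit tree -/
def itp7_304 : Tree := (.node itp7_301 (248729, 0, 16, 112100) itp7_302)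

/-- part of the orbit tree -/
def itp7_305 : Tree := (.node (.node (.node (.node (.node (.node .leaf (248860, 0, 17, 117893) .leaf) (248862, 0, 19, 140535) (.node .leaf (248864, 0, 18, 21240) .leaf)) (248866, 0, 15, 244362) (.node (.node .leaf (248868, 0, 14, 142821) .leaf) (248870, 0, 17, 18669) (.node .leaf (248873, 0, 18, 188746) .leaf))) (248875, 0, 15, 67896) (.node (.node (.node .leaf (248877, 0, 17, 40535) .leaf) (248879, 0, 17, 226853) (.node .leaf (248881, 0, 17, 244184) .leaf)) (248883, 0, 17, 190973) (.node (.node .leaf (248885, 0, 17, 229627) .leaf) (248887, 0, 13, 125519) (.node .leaf (248888, 0, 15, 97318) .leaf)))) (248890, 0, 18, 75488) (.node (.node (.node (.node .leaf (248892, 0, 15, 83205) .leaf) (248894, 0, 15, 219645) (.node .leaf (248896, 0, 17, 96120) .leaf)) (248898, 0, 14, 171786) (.node (.node .leaf (248900, 0, 17, 198757) .leaf) (248902, 0, 16, 10654) (.node .leaf (248905, 0, 18, 230758) .leaf))) (248907, 0, 18, 185667) (.node (.node (.node .leaf (248909, 0, 15, 113623) .leaf) (248911, 0, 17, 191584)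 (.node .leaf (248913, 0, 16, 252075) .leaf)) (248915, 0, 15, 176338) (.node (.node .leaf (248917, 0, 15, 206781) .leaf) (248919, 0, 16, 176557) (.node .leaf (248920, 0, 18, 73045) .leaf))))) (248922, 0, 14, 19824) (.node (.node (.node (.node (.node .leaf (248924, 0, 18, 103439) .leaf) (248926, 0, 17, 162941) (.node .leaf (248928, 0, 15, 150381) .leaf)) (248930, 0, 16, 254464) (.node (.node .leaf (248932, 0, 14, 160334) .leaf) (248934, 0, 15, 205419) (.node .leaf (248937, 0, 13, 178624) .leaf))) (248939, 0, 14, 86450) (.node (.node (.node .leaf (248941, 0, 15, 50909) .leaf) (248943, 0, 16, 208559) (.node .leaf (248945, 0, 15, 54110) .leaf)) (248947, 0, 17, 249304) (.node (.node .leaf (248949, 0, 14, 154295) .leaf) (248951, 0, 17, 111301) (.node .leaf (248952, 0, 15, 169496) .leaf)))) (248954, 0, 15, 214661) (.node (.node (.node (.node .leaf (248956, 0, 14, 59653) .leaf) (248958, 0, 17, 196983) (.node .leaf (248960, 0, 16, 48404) .leaf)) (248962, 0, 18, 126257) (.node (.node .leaf (248964, 0, 16, 57478) .leaf) (248966, 0, 16,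 198900) (.node .leaf (248969, 0, 18, 11305) .leaf))) (248971, 0, 18, 207055) (.node (.node (.node .leaf (248973, 0, 16, 152372) .leaf) (248975, 0, 17, 201196) (.node .leaf (248977, 0, 16, 176195) .leaf)) (248979, 0, 17, 226562) (.node (.node .leaf (248981, 0, 13, 53086) .leaf) (248983, 0, 14, 216097) (.node .leaf (248984, 0, 13, 57561) .leaf))))))

/-- part of the orbit tree -/
def itp7_306 : Tree := (.node (.node (.node (.node (.node (.node .leaf (248988, 0, 12, 163052) .leaf) (248990, 0, 12, 103582) (.node .leaf (248992, 0, 14, 254609) .leaf)) (248994, 0, 18, 2787) (.node (.node .leaf (248996, 0, 18, 233410) .leaf) (248998, 0, 13, 188391) (.node .leaf (249001, 0, 15, 95007) .leaf))) (249003, 0, 17, 9018) (.node (.node (.node .leaf (249005, 0, 17, 84540) .leaf) (249007, 0, 18, 50764) (.node .leaf (249009, 0, 17, 77522) .leaf)) (249011, 0, 17, 32503) (.node (.node .leaf (249013, 0, 17, 111188) .leaf) (249015, 0, 17, 18388) (.node .leaf (249016, 0, 14, 98043) .leaf)))) (249018, 0, 18, 169609) (.node (.node (.node (.node .leaf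 (249020, 0, 17, 250383) .leaf) (249022, 0, 14, 164394) (.node .leaf (249024, 0, 16, 251794) .leaf)) (249026, 0, 14, 165815) (.node (.node .leaf (249028, 0, 9, 257713) .leaf) (249030, 0, 18, 217214) (.node .leaf (249033, 0, 19, 29859) .leaf))) (249035, 0, 14, 236753) (.node (.node (.node .leaf (249037, 0, 17, 134078) .leaf) (249039, 0, 15, 123852) (.node .leaf (249041, 0, 17, 190665) .leaf)) (249043, 0, 16, 8068) (.node (.node .leaf (249045, 0, 15, 38868) .leaf) (249047, 0, 18, 229286) (.node .leaf (249048, 0, 17, 23419) .leaf))))) (249050, 0, 17, 187002) (.node (.node (.node (.node (.node .leaf (249052, 0, 14, 242556) .leaf) (249054, 0, 18, 189273) (.node .leaf (249056, 0, 15, 56423) .leaf)) (249058, 0, 11, 101442) (.node (.node .leaf (249060, 0, 16, 115974) .leaf) (249062, 0, 17, 111969) (.node .leaf (249065, 0, 12, 68009) .leaf))) (249067, 0, 13, 215484) (.node (.node (.node .leaf (249069, 0, 19, 226996) .leaf) (249071, 0, 14, 40646) (.node .leaf (249073, 0, 17, 234947) .leaf)) (249075, 0, 15, 201841) (.node (.node .leaf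 (249077, 0, 16, 163191) .leaf) (249079, 0, 17, 131756) (.node .leaf (249080, 0, 17, 33194) .leaf)))) (249082, 0, 15, 183811) (.node (.node (.node (.node .leaf (249084, 0, 15, 47241) .leaf) (249086, 0, 12, 125100) (.node .leaf (249088, 0, 16, 116753) .leaf)) (249090, 0, 16, 139363) (.node (.node .leaf (249092, 0, 15, 243468) .leaf) (249094, 0, 17, 57708) (.node .leaf (249097, 0, 17, 216468) .leaf))) (249099, 0, 14, 138673) (.node (.node (.node .leaf (249101, 0, 17, 66750) .leaf) (249103, 0, 11, 140434) (.node .leaf (249105, 0, 13, 200793) .leaf)) (249107, 0, 17, 135099) (.node (.node .leaf (249109, 0, 15, 235732) .leaf) (249111, 0, 16, 162143) (.node .leaf (249112, 0, 15, 218235) .leaf))))))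

/-- part of the orbit tree -/
def itp7_307 : Tree := (.node (.node (.node (.node (.node (.node .leaf (249116, 0, 17, 126084) .leaf) (249118, 0, 17, 181012) (.node .leaf (249120, 0, 17, 164767) .leaf)) (249122, 0, 11, 250810) (.node (.node .leaf (249124, 0, 15, 182790) .leaf) (249126, 0, 14, 74356) (.node .leaf (249129, 0, 16, 18017) .leaf))) (249131, 0, 16, 126683) (.node (.node (.node .leaf (249133, 0, 16, 32578) .leaf) (249135, 0, 18, 233926) (.node .leaf (249137, 0, 17, 39619) .leaf)) (249139, 0, 17, 84873) (.node (.node .leaf (249141, 0, 18, 189918) .leaf) (249143, 0, 13, 69036) (.node .leaf (249144, 0, 14, 187986) .leaf)))) (249146, 0, 17, 114947) (.node (.node (.node (.node .leaf (249148, 0, 18, 22124) .leaf) (249150, 0, 15, 243540) (.node .leaf (249152, 0, 11, 102555) .leaf)) (249154, 0, 18, 162025) (.node (.node .leaf (249156, 0, 17, 187343) .leaf) (249158, 0, 15, 2036) (.node .leaf (249161, 0, 16, 205609) .leaf))) (249163, 0, 18, 96055) (.node (.node (.node .leaf (249165, 0, 13, 7729) .leaf) (249167, 0, 15, 177222)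 (.node .leaf (249169, 0, 15, 114499) .leaf)) (249171, 0, 16, 76538) (.node (.node .leaf (249173, 0, 16, 17404) .leaf) (249175, 0, 12, 70617) (.node .leaf (249176, 0, 17, 180001) .leaf))))) (249178, 0, 15, 58499) (.node (.node (.node (.node (.node .leaf (249180, 0, 18, 95212) .leaf) (249182, 0, 14, 170910) (.node .leaf (249184, 0, 16, 60817) .leaf)) (249186, 0, 15, 198115) (.node (.node .leaf (249188, 0, 18, 118842) .leaf) (249190, 0, 15, 32799) (.node .leaf (249193, 0, 15, 155171) .leaf))) (249195, 0, 16, 112209) (.node (.node (.node .leaf (249197, 0, 17, 202180) .leaf) (249199, 0, 15, 148961) (.node .leaf (249201, 0, 16, 49737) .leaf)) (249203, 0, 17, 207419) (.node (.node .leaf (249205, 0, 14, 215049) .leaf) (249207, 0, 12, 137260) (.node .leaf (249208, 0, 17, 111828) .leaf)))) (249210, 0, 16, 104841) (.node (.node (.node (.node .leaf (249212, 0, 16, 3814) .leaf) (249214, 0, 13, 255636) (.node .leaf (249216, 0, 18, 204640) .leaf)) (249218, 0, 16, 151365) (.node (.node .leaf (249220, 0, 16, 206403) .leaf) (249222, 0, 10, 257815)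 (.node .leaf (249225, 0, 15, 121502) .leaf))) (249227, 0, 17, 35515) (.node (.node (.node .leaf (249229, 0, 13, 177367) .leaf) (249231, 0, 12, 45976) (.node .leaf (249233, 0, 17, 153504) .leaf)) (249235, 0, 16, 55158) (.node (.node .leaf (249237, 0, 13, 10429) .leaf) (249239, 0, 16, 61013) (.node .leaf (249240, 0, 17, 58386) .leaf))))))

/-- part of the orbit tree -/
def itp7_308 : Tree := (.node (.node (.node (.node (.node (.node .leaf (249244, 0, 17, 228238) .leaf) (249246, 0, 15, 95101) (.node .leaf (249248, 0, 15, 198002) .leaf)) (249250, 0, 18, 83120) (.node (.node .leaf (249252, 0, 14, 96879) .leaf) (249254, 0, 18, 168477) (.node .leaf (249257, 0, 16, 112320) .leaf))) (249259, 0, 15, 155314) (.node (.node (.node .leaf (249261, 0, 17, 248285) .leaf) (249263, 0, 17, 243821) (.node .leaf (249265, 0, 13, 167078) .leaf)) (249267, 0, 15, 253059) (.node (.node .leaf (249269, 0, 18, 177541) .leaf) (249271, 0, 16, 255392) (.node .leaf (249272, 0, 16, 18776) .leaf)))) (249274, 0, 17, 72061) (.node (.node (.node (.node .leaf (249276,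 0, 18, 28795) .leaf) (249278, 0, 17, 73822) (.node .leaf (249280, 0, 15, 30182) .leaf)) (249282, 0, 15, 75203) (.node (.node .leaf (249284, 0, 16, 19653) .leaf) (249286, 0, 18, 243613) (.node .leaf (249289, 0, 19, 37696) .leaf))) (249291, 0, 14, 228146) (.node (.node (.node .leaf (249293, 0, 16, 166203) .leaf) (249295, 0, 14, 252190) (.node .leaf (249297, 0, 17, 134954) .leaf)) (249299, 0, 18, 245232) (.node (.node .leaf (249301, 0, 17, 185590) .leaf) (249303, 0, 17, 235589) (.node .leaf (249304, 0, 16, 10283) .leaf))))) (249306, 0, 13, 96270) (.node (.node (.node (.node (.node .leaf (249308, 0, 19, 181125) .leaf) (249310, 0, 12, 82221) (.node .leaf (249312, 0, 15, 220664) .leaf)) (249314, 0, 14, 46474) (.node (.node .leaf (249316, 0, 16, 214832) .leaf) (249318, 0, 16, 136981) (.node .leaf (249321, 0, 15, 126538) .leaf))) (249323, 0, 16, 132664) (.node (.node (.node .leaf (249325, 0, 16, 99022) .leaf) (249327, 0, 18, 53995) (.node .leaf (249329, 0, 18, 225824) .leaf)) (249331, 0, 14, 46597) (.node (.node .leaf (249333, 0, 18,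 68925) .leaf) (249335, 0, 16, 36646) (.node .leaf (249336, 0, 17, 115090) .leaf)))) (249338, 0, 17, 160763) (.node (.node (.node (.node .leaf (249340, 0, 15, 245391) .leaf) (249342, 0, 18, 22269) (.node .leaf (249352, 0, 17, 114754) .leaf)) (249353, 0, 16, 50064) (.node (.node .leaf (249354, 0, 15, 141360) .leaf) (249355, 0, 17, 28958) (.node .leaf (249356, 0, 13, 245599) .leaf))) (249357, 0, 16, 124529) (.node (.node (.node .leaf (249358, 0, 14, 84720) .leaf) (249359, 0, 16, 134659) (.node .leaf (249360, 0, 18, 32315) .leaf)) (249361, 0, 16, 66822) (.node (.node .leaf (249362, 0, 15, 77342) .leaf) (249363, 0, 15, 118392) .leaf)))))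

/-- part of the orbit tree -/
def itp7_309 : Tree := (.node itp7_305 (248986, 0, 15, 256899) itp7_306)

/-- part of the orbit tree -/
def itp7_310 : Tree := (.node itp7_307 (249242, 0, 12, 135816) itp7_308)

/-- part of the orbit tree -/
def itp7_311 : Tree := (.node itp7_303 (248601, 0, 18, 132493) itp7_304)

/-- part of the orbit tree -/
def itp7_312 : Tree := (.node itp7_309 (249114, 0, 13, 48137) itp7_310)

/-- part of the orbit tree -/
def itp7_313 : Tree := (.node itp7_297 (247837, 0, 17, 242750) itp7_298)

/-- part of the orbit tree -/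
def itp7_314 : Tree := (.node itp7_311 (248858, 0, 17, 23530) itp7_312)

/-- part of the orbit tree -/
def itp7_315 : Tree := (.node itp7_283 (246301, 0, 17, 124498) itp7_284)

/-- part of the orbit tree -/
def itp7_316 : Tree := (.node itp7_313 (248345, 0, 17, 237933) itp7_314)

/-- part of the orbit tree -/
def itp7_317 : Tree := (.node (.node (.node (.node (.node (.node .leaf (249365, 0, 17, 42878) .leaf) (249366, 0, 18, 71485) (.node .leaf (249367, 0, 16, 37481) .leaf)) (249384, 0, 18, 48456) (.node (.node .leaf (249385, 0, 13, 247909) .leaf) (249386, 0, 16, 161830) (.node .leaf (249387, 0, 17, 68628) .leaf))) (249388, 0, 16, 200992) (.node (.node (.node .leaf (249389, 0, 16, 39803) .leaf) (249390, 0, 17, 147717) (.node .leaf (249391, 0, 15, 172387) .leaf)) (249392, 0, 16, 139554) (.node (.node .leaf (249393, 0, 15, 30732) .leaf) (249394, 0, 18, 117072) (.node .leaf (249395, 0, 14, 233598) .leaf)))) (249396, 0, 14, 24127) (.node (.node (.node (.node .leaf (249397, 0, 17, 132881) .leaf) (249398, 0, 15, 138440) (.node .leaf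 (249399, 0, 16, 126819) .leaf)) (249416, 0, 16, 215408) (.node (.node .leaf (249417, 0, 12, 246246) .leaf) (249418, 0, 15, 137557) (.node .leaf (249419, 0, 16, 10644) .leaf))) (249420, 0, 16, 225363) (.node (.node (.node .leaf (249421, 0, 17, 233525) .leaf) (249422, 0, 16, 139382) (.node .leaf (249423, 0, 16, 180240) .leaf)) (249424, 0, 18, 201917) (.node (.node .leaf (249425, 0, 16, 259291) .leaf) (249426, 0, 16, 148632) (.node .leaf (249427, 0, 16, 177662) .leaf))))) (249428, 0, 17, 97215) (.node (.node (.node (.node (.node .leaf (249429, 0, 14, 205457) .leaf) (249430, 0, 16, 163259) (.node .leaf (249431, 0, 17, 171485) .leaf)) (249448, 0, 16, 17029) (.node (.node .leaf (249449, 0, 15, 179436) .leaf) (249450, 0, 14, 200112) (.node .leaf (249451, 0, 10, 87198) .leaf))) (249452, 0, 16, 170719) (.node (.node (.node .leaf (249453, 0, 9, 39872) .leaf) (249454, 0, 14, 76675) (.node .leaf (249455, 0, 15, 207747) .leaf)) (249456, 0, 17, 8008) (.node (.node .leaf (249457, 0, 17, 8326) .leaf) (249458, 0, 17, 102874) (.node .leaf (249459,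 0, 17, 110347) .leaf)))) (249460, 0, 17, 1717) (.node (.node (.node (.node .leaf (249461, 0, 16, 50701) .leaf) (249462, 0, 16, 257735) (.node .leaf (249463, 0, 14, 112617) .leaf)) (249480, 0, 18, 159787) (.node (.node .leaf (249481, 0, 17, 10501) .leaf) (249482, 0, 15, 255193) (.node .leaf (249483, 0, 17, 197823) .leaf))) (249484, 0, 19, 167391) (.node (.node (.node .leaf (249485, 0, 17, 153112) .leaf) (249486, 0, 16, 255812) (.node .leaf (249487, 0, 13, 212380) .leaf)) (249488, 0, 18, 60481) (.node (.node .leaf (249489, 0, 17, 177519) .leaf) (249490, 0, 15, 243988) (.node .leaf (249491, 0, 16, 89373) .leaf))))))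

/-- part of the orbit tree -/
def itp7_318 : Tree := (.node (.node (.node (.node (.node (.node .leaf (249493, 0, 15, 51826) .leaf) (249494, 0, 13, 97070) (.node .leaf (249495, 0, 16, 205312) .leaf)) (249512, 0, 18, 114441) (.node (.node .leaf (249513, 0, 14, 87055) .leaf) (249514, 0, 16, 58707) (.node .leaf (249515, 0, 14, 3914) .leaf))) (249516, 0, 14, 94780) (.node (.node (.node .leaf (249517, 0, 18, 91724) .leaf) (249518, 0, 15, 170574) (.node .leaf (249519, 0, 17, 50016) .leaf)) (249520, 0, 13, 102731) (.node (.node .leaf (249521, 0, 13, 247909) .leaf) (249522, 0, 18, 45793) (.node .leaf (249523, 0, 19, 8215) .leaf)))) (249524, 0, 16, 257622) (.node (.node (.node (.node .leaf (249525, 0, 18, 112504) .leaf) (249526, 0, 15, 1572) (.node .leaf (249527, 0, 18, 27556) .leaf)) (249544, 0, 18, 141473) (.node (.node .leaf (249545, 0, 16, 81436) .leaf) (249546, 0, 15, 36447) (.node .leaf (249547, 0, 14, 236029) .leaf))) (249548, 0, 17, 22460) (.node (.node (.node .leaf (249549, 0, 16, 134802) .leaf) (249550, 0, 17, 245710) (.node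 .leaf (249551, 0, 18, 124640) .leaf)) (249552, 0, 11, 99255) (.node (.node .leaf (249553, 0, 16, 91089) .leaf) (249554, 0, 16, 220345) (.node .leaf (249555, 0, 16, 66967) .leaf))))) (249556, 0, 13, 183254) (.node (.node (.node (.node (.node .leaf (249557, 0, 16, 88818) .leaf) (249558, 0, 17, 74660) (.node .leaf (249559, 0, 12, 2775) .leaf)) (249576, 0, 10, 218539) (.node (.node .leaf (249577, 0, 15, 144873) .leaf) (249578, 0, 14, 48601) (.node .leaf (249579, 0, 17, 222668) .leaf))) (249580, 0, 16, 191660) (.node (.node (.node .leaf (249581, 0, 17, 134346) .leaf) (249582, 0, 17, 244873) (.node .leaf (249583, 0, 19, 220399) .leaf)) (249584, 0, 16, 117185) (.node (.node .leaf (249585, 0, 13, 157732) .leaf) (249586, 0, 17, 252007) (.node .leaf (249587, 0, 16, 210945) .leaf)))) (249588, 0, 18, 243420) (.node (.node (.node (.node .leaf (249589, 0, 16, 126962) .leaf) (249590, 0, 13, 24238) (.node .leaf (249591, 0, 15, 132992) .leaf)) (249608, 0, 17, 75681) (.node (.node .leaf (249609, 0, 14, 221668) .leaf) (249610, 0, 17, 184743)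 (.node .leaf (249611, 0, 17, 38653) .leaf))) (249612, 0, 17, 219324) (.node (.node (.node .leaf (249613, 0, 17, 219335) .leaf) (249614, 0, 12, 190596) (.node .leaf (249615, 0, 15, 133346) .leaf)) (249616, 0, 12, 244683) (.node (.node .leaf (249617, 0, 16, 212009) .leaf) (249618, 0, 18, 21433) (.node .leaf (249619, 0, 19, 158732) .leaf))))))

/-- part of the orbit tree -/
def itp7_319 : Tree := (.node (.node (.node (.node (.node (.node .leaf (249621, 0, 16, 197898) .leaf) (249622, 0, 16, 142500) (.node .leaf (249623, 0, 17, 152879) .leaf)) (249640, 0, 18, 23211) (.node (.node .leaf (249641, 0, 18, 27153) .leaf) (249642, 0, 16, 121426) (.node .leaf (249643, 0, 15, 80436) .leaf))) (249644, 0, 15, 140726) (.node (.node (.node .leaf (249645, 0, 18, 21298) .leaf) (249646, 0, 13, 118212) (.node .leaf (249647, 0, 17, 66327) .leaf)) (249648, 0, 14, 55226) (.node (.node .leaf (249649, 0, 16, 14300) .leaf) (249650, 0, 17, 77491) (.node .leaf (249651, 0, 15, 92153) .leaf)))) (249652, 0, 16, 61081) (.node (.node (.node (.node .leaf (249653,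 0, 15, 3839) .leaf) (249654, 0, 14, 114364) (.node .leaf (249655, 0, 14, 89818) .leaf)) (249672, 0, 16, 60164) (.node (.node .leaf (249673, 0, 17, 2914) .leaf) (249674, 0, 18, 169817) (.node .leaf (249675, 0, 16, 52855) .leaf))) (249676, 0, 17, 196662) (.node (.node (.node .leaf (249677, 0, 18, 12865) .leaf) (249678, 0, 17, 59460) (.node .leaf (249679, 0, 17, 176490) .leaf)) (249680, 0, 18, 254785) (.node (.node .leaf (249681, 0, 17, 113263) .leaf) (249682, 0, 15, 124652) (.node .leaf (249683, 0, 15, 67210) .leaf))))) (249684, 0, 15, 36842) (.node (.node (.node (.node (.node .leaf (249685, 0, 16, 247154) .leaf) (249686, 0, 12, 122831) (.node .leaf (249687, 0, 18, 11520) .leaf)) (249704, 0, 15, 254193) (.node (.node .leaf (249705, 0, 15, 196759) .leaf) (249706, 0, 16, 256595) (.node .leaf (249707, 0, 18, 151730) .leaf))) (249708, 0, 15, 252370) (.node (.node (.node .leaf (249709, 0, 11, 211380) .leaf) (249710, 0, 16, 103758) (.node .leaf (249711, 0, 16, 248928) .leaf)) (249712, 0, 17, 245052) (.node (.node .leaf (249713, 0,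 15, 51045) .leaf) (249714, 0, 14, 95801) (.node .leaf (249715, 0, 17, 134527) .leaf)))) (249716, 0, 17, 57686) (.node (.node (.node (.node .leaf (249717, 0, 15, 178296) .leaf) (249718, 0, 17, 198948) (.node .leaf (249719, 0, 15, 144476) .leaf)) (249736, 0, 18, 169928) (.node (.node .leaf (249737, 0, 17, 128750) .leaf) (249738, 0, 16, 18093) (.node .leaf (249739, 0, 16, 206484) .leaf))) (249740, 0, 15, 77739) (.node (.node (.node .leaf (249741, 0, 16, 176635) .leaf) (249742, 0, 13, 32654) (.node .leaf (249743, 0, 6, 40936) .leaf)) (249744, 0, 18, 2978) (.node (.node .leaf (249745, 0, 15, 109347) .leaf) (249746, 0, 14, 7008) (.node .leaf (249747, 0, 17, 113406) .leaf))))))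

/-- part of the orbit tree -/
def itp7_320 : Tree := (.node (.node (.node (.node (.node (.node .leaf (249749, 0, 13, 102912) .leaf) (249750, 0, 17, 8771) (.node .leaf (249751, 0, 16, 49701) .leaf)) (249768, 0, 15, 256706) (.node (.node .leaf (249769, 0, 10, 195867) .leaf) (249770, 0, 17, 688) (.node .leaf (249771, 0, 19, 154526) .leaf))) (249772, 0, 13, 140382) (.node (.node (.node .leaf (249773, 0, 18, 249073) .leaf) (249774, 0, 16, 163245) (.node .leaf (249775, 0, 15, 9347) .leaf)) (249776, 0, 16, 147632) (.node (.node .leaf (249777, 0, 17, 208774) .leaf) (249778, 0, 17, 200853) (.node .leaf (249779, 0, 18, 51188) .leaf)))) (249780, 0, 15, 199093) (.node (.node (.node (.node .leaf (249781, 0, 15, 170485) .leaf) (249782, 0, 16, 57799) (.node .leaf (249783, 0, 17, 178409) .leaf)) (249800, 0, 17, 162830) (.node (.node .leaf (249801, 0, 13, 171112) .leaf) (249802, 0, 17, 207915) (.node .leaf (249803, 0, 16, 248909) .leaf))) (249804, 0, 16, 45151) (.node (.node (.node .leaf (249805, 0, 14, 190833) .leaf) (249806, 0, 17, 219181)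 (.node .leaf (249807, 0, 15, 259438) .leaf)) (249808, 0, 16, 21288) (.node (.node .leaf (249809, 0, 14, 180645) .leaf) (249810, 0, 14, 244570) (.node .leaf (249811, 0, 16, 233856) .leaf))))) (249812, 0, 15, 137440) (.node (.node (.node (.node (.node .leaf (249813, 0, 15, 194694) .leaf) (249814, 0, 16, 115783) (.node .leaf (249815, 0, 17, 236905) .leaf)) (249832, 0, 15, 96251) (.node (.node .leaf (249833, 0, 17, 104349) .leaf) (249834, 0, 17, 10206) (.node .leaf (249835, 0, 15, 51128) .leaf))) (249836, 0, 14, 118101) (.node (.node (.node .leaf (249837, 0, 15, 110270) .leaf) (249838, 0, 17, 140583) (.node .leaf (249839, 0, 16, 65179) .leaf)) (249840, 0, 15, 77346) (.node (.node .leaf (249841, 0, 17, 117328) .leaf) (249842, 0, 17, 181840) (.node .leaf (249843, 0, 11, 40830) .leaf)))) (249844, 0, 16, 217407) (.node (.node (.node (.node .leaf (249845, 0, 14, 67601) .leaf) (249846, 0, 15, 17200) (.node .leaf (249847, 0, 17, 188515) .leaf)) (249857, 0, 14, 126050) (.node (.node .leaf (249858, 0, 19, 23870) .leaf) (249860, 0, 17, 25243)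 (.node .leaf (249863, 0, 13, 119512) .leaf))) (249865, 0, 17, 171590) (.node (.node (.node .leaf (249866, 0, 16, 208389) .leaf) (249868, 0, 16, 149251) (.node .leaf (249871, 0, 17, 37265) .leaf)) (249872, 0, 17, 115642) (.node (.node .leaf (249875, 0, 18, 29414) .leaf) (249877, 0, 15, 124297) (.node .leaf (249878, 0, 16, 21717) .leaf))))))

/-- part of the orbit tree -/
def itp7_321 : Tree := (.node itp7_317 (249492, 0, 15, 184338) itp7_318)

/-- part of the orbit tree -/
def itp7_322 : Tree := (.node itp7_319 (249748, 0, 15, 160959) itp7_320)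

/-- part of the orbit tree -/
def itp7_323 : Tree := (.node (.node (.node (.node (.node (.node .leaf (249883, 0, 17, 39034) .leaf) (249885, 0, 16, 57136) (.node .leaf (249886, 0, 15, 94067) .leaf)) (249889, 0, 16, 241707) (.node (.node .leaf (249890, 0, 17, 131176) .leaf) (249892, 0, 16, 223598) (.node .leaf (249895, 0, 17, 186669) .leaf))) (249897, 0, 15, 103859) (.node (.node (.node .leaf (249898, 0, 15, 9712) .leaf) (249900, 0, 15, 85238) (.node .leaf (249903, 0, 16, 64693) .leaf)) (249904, 0, 15, 75800) (.node (.node .leaf (249907, 0, 16, 69612) .leaf) (249909, 0, 16, 39043) (.node .leaf (249910, 0, 17, 76255) .leaf)))) (249912, 0, 14, 200064) (.node (.node (.node (.node .leaf (249915, 0, 13, 179651) .leaf) (249917, 0, 18, 29215) (.node .leaf (249918, 0, 16, 115523) .leaf)) (249921, 0, 17, 250200) (.node (.node .leaf (249922, 0, 15, 155931) .leaf) (249924, 0, 16, 103131) (.node .leaf (249927, 0, 14, 178270) .leaf))) (249929, 0, 12, 128192) (.node (.node (.node .leaf (249930, 0, 17, 17539) .leaf) (249932, 0, 16, 96327)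 (.node .leaf (249935, 0, 16, 51483) .leaf)) (249936, 0, 17, 105264) (.node (.node .leaf (249939, 0, 15, 10860) .leaf) (249941, 0, 14, 113923) (.node .leaf (249942, 0, 17, 8301) .leaf))))) (249944, 0, 15, 94636) (.node (.node (.node (.node (.node .leaf (249947, 0, 16, 49392) .leaf) (249949, 0, 12, 243126) (.node .leaf (249950, 0, 17, 59075) .leaf)) (249953, 0, 16, 55981) (.node (.node .leaf (249954, 0, 14, 96446) .leaf) (249956, 0, 16, 1000) (.node .leaf (249959, 0, 16, 89741) .leaf))) (249961, 0, 17, 196405) (.node (.node (.node .leaf (249962, 0, 11, 216950) .leaf) (249964, 0, 18, 1357) (.node .leaf (249967, 0, 16, 111633) .leaf)) (249968, 0, 15, 148126) (.node (.node .leaf (249971, 0, 14, 258781) .leaf) (249973, 0, 15, 49161) (.node .leaf (249974, 0, 13, 94549) .leaf)))) (249976, 0, 14, 3238) (.node (.node (.node (.node .leaf (249979, 0, 16, 114170) .leaf) (249981, 0, 15, 48707) (.node .leaf (249982, 0, 18, 105417) .leaf)) (249985, 0, 16, 154635) (.node (.node .leaf (249986, 0, 16, 236695) .leaf) (249988, 0, 12, 162360) (.node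 .leaf (249991, 0, 16, 248676) .leaf))) (249993, 0, 18, 177815) (.node (.node (.node .leaf (249994, 0, 15, 198603) .leaf) (249996, 0, 14, 168100) (.node .leaf (249999, 0, 12, 90186) .leaf)) (250000, 0, 14, 160723) (.node (.node .leaf (250003, 0, 16, 246415) .leaf) (250005, 0, 14, 153056) (.node .leaf (250006, 0, 16, 255164) .leaf))))))

/-- part of the orbit tree -/
def itp7_324 : Tree := (.node (.node (.node (.node (.node (.node .leaf (250011, 0, 16, 206867) .leaf) (250013, 0, 14, 149562) (.node .leaf (250014, 0, 16, 200224) .leaf)) (250017, 0, 16, 205057) (.node (.node .leaf (250018, 0, 15, 168029) .leaf) (250020, 0, 13, 198450) (.node .leaf (250023, 0, 15, 20007) .leaf))) (250025, 0, 12, 248733) (.node (.node (.node .leaf (250026, 0, 15, 162497) .leaf) (250028, 0, 14, 257454) (.node .leaf (250031, 0, 14, 158655) .leaf)) (250032, 0, 16, 200409) (.node (.node .leaf (250035, 0, 14, 134993) .leaf) (250037, 0, 15, 222807) (.node .leaf (250038, 0, 15, 185876) .leaf)))) (250040, 0, 16, 105098) (.node (.node (.node (.node .leaf (250043,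 0, 16, 10953) .leaf) (250045, 0, 15, 246390) (.node .leaf (250046, 0, 16, 62348) .leaf)) (250049, 0, 15, 132225) (.node (.node .leaf (250050, 0, 14, 243165) .leaf) (250052, 0, 17, 106263) (.node .leaf (250055, 0, 17, 12116) .leaf))) (250057, 0, 18, 192029) (.node (.node (.node .leaf (250058, 0, 16, 220993) .leaf) (250060, 0, 14, 182318) (.node .leaf (250063, 0, 16, 227698) .leaf)) (250064, 0, 17, 142169) (.node (.node .leaf (250067, 0, 15, 236037) .leaf) (250069, 0, 16, 198436) (.node .leaf (250070, 0, 17, 178023) .leaf))))) (250072, 0, 17, 180677) (.node (.node (.node (.node (.node .leaf (250075, 0, 18, 19386) .leaf) (250077, 0, 16, 190454) (.node .leaf (250078, 0, 16, 218794) .leaf)) (250081, 0, 17, 227723) (.node (.node .leaf (250082, 0, 16, 182487) .leaf) (250084, 0, 16, 169186) (.node .leaf (250087, 0, 16, 205985) .leaf))) (250089, 0, 16, 26687) (.node (.node (.node .leaf (250090, 0, 15, 139851) .leaf) (250092, 0, 15, 45434) (.node .leaf (250095, 0, 16, 132216) .leaf)) (250096, 0, 17, 54676) (.node (.node .leaf (250099,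 0, 16, 190223) .leaf) (250101, 0, 15, 3281) (.node .leaf (250102, 0, 17, 113810) .leaf)))) (250104, 0, 17, 192524) (.node (.node (.node (.node .leaf (250107, 0, 17, 213071) .leaf) (250109, 0, 17, 141641) (.node .leaf (250110, 0, 15, 142240) .leaf)) (250113, 0, 13, 203178) (.node (.node .leaf (250114, 0, 15, 174569) .leaf) (250116, 0, 17, 77234) (.node .leaf (250119, 0, 16, 40174) .leaf))) (250121, 0, 18, 80946) (.node (.node (.node .leaf (250122, 0, 15, 20545) .leaf) (250124, 0, 9, 124279) (.node .leaf (250127, 0, 17, 21812) .leaf)) (250128, 0, 15, 98713) (.node (.node .leaf (250131, 0, 14, 38149) .leaf) (250133, 0, 14, 66154) (.node .leaf (250134, 0, 15, 59551) .leaf))))))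

/-- part of the orbit tree -/
def itp7_325 : Tree := (.node (.node (.node (.node (.node (.node .leaf (250139, 0, 16, 32665) .leaf) (250141, 0, 17, 125174) (.node .leaf (250142, 0, 15, 22954) .leaf)) (250145, 0, 14, 4703) (.node (.node .leaf (250146, 0, 16, 107036) .leaf) (250148, 0, 14, 20664) (.node .leaf (250151, 0, 14, 123364) .leaf))) (250153, 0, 17, 39959) (.node (.node (.node .leaf (250154, 0, 15, 231300) .leaf) (250156, 0, 17, 192130) (.node .leaf (250159, 0, 16, 68472) .leaf)) (250160, 0, 18, 22867) (.node (.node .leaf (250163, 0, 14, 124943) .leaf) (250165, 0, 17, 32608) (.node .leaf (250166, 0, 15, 254826) .leaf)))) (250168, 0, 17, 46031) (.node (.node (.node (.node .leaf (250171, 0, 16, 73655) .leaf) (250173, 0, 15, 30385) (.node .leaf (250174, 0, 17, 116466) .leaf)) (250177, 0, 16, 29484) (.node (.node .leaf (250178, 0, 16, 57943) .leaf) (250180, 0, 15, 95544) (.node .leaf (250183, 0, 16, 50276) .leaf))) (250185, 0, 18, 153268) (.node (.node (.node .leaf (250186, 0, 7, 255735) .leaf) (250188, 0, 16, 167921) (.node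 .leaf (250191, 0, 15, 212914) .leaf)) (250192, 0, 17, 191263) (.node (.node .leaf (250195, 0, 13, 219996) .leaf) (250197, 0, 19, 143962) (.node .leaf (250198, 0, 17, 229913) .leaf))))) (250200, 0, 16, 104015) (.node (.node (.node (.node (.node .leaf (250203, 0, 17, 10003) .leaf) (250205, 0, 17, 110716) (.node .leaf (250206, 0, 15, 108417) .leaf)) (250209, 0, 17, 227545) (.node (.node .leaf (250210, 0, 17, 182426) .leaf) (250212, 0, 15, 2098) (.node .leaf (250215, 0, 17, 135647) .leaf))) (250217, 0, 15, 89409) (.node (.node (.node .leaf (250218, 0, 17, 95681) .leaf) (250220, 0, 17, 58030) (.node .leaf (250223, 0, 15, 87026) .leaf)) (250224, 0, 14, 123114) (.node (.node .leaf (250227, 0, 17, 110725) .leaf) (250229, 0, 16, 10218) (.node .leaf (250230, 0, 15, 35308) .leaf)))) (250232, 0, 16, 247154) (.node (.node (.node (.node .leaf (250235, 0, 15, 161073) .leaf) (250237, 0, 16, 203831) (.node .leaf (250238, 0, 13, 175220) .leaf)) (250241, 0, 16, 179176) (.node (.node .leaf (250242, 0, 15, 199348) .leaf) (250244, 0, 18, 171483)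 (.node .leaf (250247, 0, 15, 59302) .leaf))) (250249, 0, 18, 240440) (.node (.node (.node .leaf (250250, 0, 18, 253992) .leaf) (250252, 0, 16, 225917) (.node .leaf (250255, 0, 18, 247323) .leaf)) (250256, 0, 16, 169008) (.node (.node .leaf (250259, 0, 15, 173776) .leaf) (250261, 0, 16, 176643) (.node .leaf (250262, 0, 17, 163733) .leaf))))))

/-- part of the orbit tree -/
def itp7_326 : Tree := (.node (.node (.node (.node (.node (.node .leaf (250267, 0, 16, 249840) .leaf) (250269, 0, 17, 153759) (.node .leaf (250270, 0, 7, 256451) .leaf)) (250273, 0, 15, 247522) (.node (.node .leaf (250274, 0, 13, 210198) .leaf) (250276, 0, 16, 254161) (.node .leaf (250279, 0, 17, 257107) .leaf))) (250281, 0, 16, 207998) (.node (.node (.node .leaf (250282, 0, 16, 171298) .leaf) (250284, 0, 18, 31112) (.node .leaf (250287, 0, 11, 117195) .leaf)) (250288, 0, 17, 7526) (.node (.node .leaf (250291, 0, 17, 153702) .leaf) (250293, 0, 13, 50211) (.node .leaf (250294, 0, 17, 95328) .leaf)))) (250296, 0, 15, 145662) (.node (.node (.node (.node .leaf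 (250299, 0, 14, 231613) .leaf) (250301, 0, 15, 188859) (.node .leaf (250302, 0, 17, 169161) .leaf)) (250305, 0, 13, 189282) (.node (.node .leaf (250306, 0, 18, 217662) .leaf) (250308, 0, 15, 181585) (.node .leaf (250311, 0, 17, 226317) .leaf))) (250313, 0, 16, 49598) (.node (.node (.node .leaf (250314, 0, 18, 243874) .leaf) (250316, 0, 10, 143309) (.node .leaf (250319, 0, 14, 237201) .leaf)) (250320, 0, 15, 183482) (.node (.node .leaf (250323, 0, 18, 117846) .leaf) (250325, 0, 17, 191113) (.node .leaf (250326, 0, 17, 70931) .leaf))))) (250328, 0, 16, 153997) (.node (.node (.node (.node (.node .leaf (250331, 0, 18, 235386) .leaf) (250333, 0, 9, 164040) (.node .leaf (250334, 0, 17, 241993) .leaf)) (250337, 0, 15, 126931) (.node (.node .leaf (250338, 0, 16, 143156) .leaf) (250340, 0, 16, 79510) (.node .leaf (250343, 0, 15, 34517) .leaf))) (250345, 0, 16, 226548) (.node (.node (.node .leaf (250346, 0, 17, 162312) .leaf) (250348, 0, 17, 201486) (.node .leaf (250351, 0, 16, 189339) .leaf)) (250352, 0, 17, 242096) (.node (.node .leaf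 (250355, 0, 17, 182179) .leaf) (250357, 0, 15, 241317) (.node .leaf (250358, 0, 15, 138982) .leaf)))) (250360, 0, 13, 219948) (.node (.node (.node (.node .leaf (250363, 0, 16, 191088) .leaf) (250365, 0, 15, 101181) (.node .leaf (250366, 0, 19, 183363) .leaf)) (250368, 0, 18, 241760) (.node (.node .leaf (250369, 0, 15, 125262) .leaf) (250374, 0, 15, 141071) (.node .leaf (250375, 0, 17, 32289) .leaf))) (250376, 0, 17, 152144) (.node (.node (.node .leaf (250377, 0, 18, 66514) .leaf) (250382, 0, 15, 211798) (.node .leaf (250383, 0, 16, 252720) .leaf)) (250386, 0, 17, 143076) (.node (.node .leaf (250387, 0, 16, 30666) .leaf) (250388, 0, 16, 145086) .leaf)))))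

/-- part of the orbit tree -/
def itp7_327 : Tree := (.node itp7_323 (250008, 0, 16, 170319) itp7_324)

/-- part of the orbit tree -/
def itp7_328 : Tree := (.node itp7_325 (250264, 0, 16, 163500) itp7_326)

/-- part of the orbit tree -/
def itp7_329 : Tree := (.node itp7_321 (249620, 0, 15, 255340) itp7_322)

/-- part of the orbit tree -/
def itp7_330 : Tree := (.node itp7_327 (250136, 0, 17, 238593) itp7_328)

/-- part of the orbit tree -/
def itp7_331 : Tree := (.node (.node (.node (.node (.node (.node .leaf (250394, 0, 14, 181368) .leaf) (250395, 0, 18, 105030) (.node .leaf (250396, 0, 17, 217879) .leaf)) (250397, 0, 12, 68153) (.node (.node .leaf (250400, 0, 15, 228413) .leaf) (250401, 0, 17, 236635) (.node .leaf (250406, 0, 15, 136507) .leaf))) (250407, 0, 17, 66347) (.node (.node (.node .leaf (250408, 0, 18, 141302) .leaf) (250409, 0, 14, 113091) (.node .leaf (250414, 0, 17, 12451) .leaf)) (250415, 0, 16, 125367) (.node (.node .leaf (250418, 0, 17, 218094) .leaf) (250419, 0, 14, 46123) (.node .leaf (250420, 0, 15, 81227)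 .leaf)))) (250421, 0, 18, 122157) (.node (.node (.node (.node .leaf (250426, 0, 16, 160213) .leaf) (250427, 0, 16, 122972) (.node .leaf (250428, 0, 16, 142877) .leaf)) (250429, 0, 12, 260277) (.node (.node .leaf (250432, 0, 14, 204110) .leaf) (250433, 0, 15, 261416) (.node .leaf (250438, 0, 16, 163717) .leaf))) (250439, 0, 16, 9899) (.node (.node (.node .leaf (250440, 0, 13, 197238) .leaf) (250441, 0, 14, 88920) (.node .leaf (250446, 0, 17, 169241) .leaf)) (250447, 0, 17, 45494) (.node (.node .leaf (250450, 0, 14, 161390) .leaf) (250451, 0, 15, 54616) (.node .leaf (250452, 0, 17, 254209) .leaf))))) (250453, 0, 12, 112687) (.node (.node (.node (.node (.node .leaf (250458, 0, 12, 135334) .leaf) (250459, 0, 17, 192704) (.node .leaf (250460, 0, 11, 227744) .leaf)) (250461, 0, 16, 235974) (.node (.node .leaf (250464, 0, 16, 169440) .leaf) (250465, 0, 13, 52430) (.node .leaf (250470, 0, 18, 98237) .leaf))) (250471, 0, 15, 106459) (.node (.node (.node .leaf (250472, 0, 17, 163708) .leaf) (250473, 0, 15, 185157) (.node .leaf (250478,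 0, 17, 256019) .leaf)) (250479, 0, 11, 110909) (.node (.node .leaf (250482, 0, 18, 212683) .leaf) (250483, 0, 15, 86602) (.node .leaf (250484, 0, 18, 171019) .leaf)))) (250485, 0, 13, 178091) (.node (.node (.node (.node .leaf (250490, 0, 17, 72531) .leaf) (250491, 0, 15, 129845) (.node .leaf (250492, 0, 16, 161431) .leaf)) (250493, 0, 14, 37427) (.node (.node .leaf (250496, 0, 16, 188610) .leaf) (250497, 0, 17, 153895) (.node .leaf (250502, 0, 18, 104294) .leaf))) (250503, 0, 17, 249416) (.node (.node (.node .leaf (250504, 0, 17, 60053) .leaf) (250505, 0, 16, 177083) (.node .leaf (250510, 0, 16, 97786) .leaf)) (250511, 0, 17, 206036) (.node (.node .leaf (250514, 0, 16, 106125) .leaf) (250515, 0, 15, 247715) (.node .leaf (250516, 0, 18, 2530) .leaf))))))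

/-- part of the orbit tree -/
def itp7_332 : Tree := (.node (.node (.node (.node (.node (.node .leaf (250522, 0, 16, 95249) .leaf) (250523, 0, 16, 208191) (.node .leaf (250524, 0, 16, 58238) .leaf)) (250525, 0, 14, 178768) (.node (.node .leaf (250528, 0, 17, 125751) .leaf) (250529, 0, 17, 68433) (.node .leaf (250534, 0, 11, 33329) .leaf))) (250535, 0, 15, 176962) (.node (.node (.node .leaf (250536, 0, 18, 249519) .leaf) (250537, 0, 14, 249521) (.node .leaf (250542, 0, 15, 173993) .leaf)) (250543, 0, 16, 149455) (.node (.node .leaf (250546, 0, 13, 58247) .leaf) (250547, 0, 15, 178857) (.node .leaf (250548, 0, 15, 95464) .leaf)))) (250549, 0, 16, 215591) (.node (.node (.node (.node .leaf (250554, 0, 14, 2331) .leaf) (250555, 0, 18, 151605) (.node .leaf (250556, 0, 15, 106100) .leaf)) (250557, 0, 13, 94143) (.node (.node .leaf (250560, 0, 18, 22659) .leaf) (250561, 0, 12, 131501) (.node .leaf (250566, 0, 17, 58178) .leaf))) (250567, 0, 15, 804) (.node (.node (.node .leaf (250568, 0, 15, 45599) .leaf) (250569, 0, 17, 191281) (.node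 .leaf (250574, 0, 14, 75120) .leaf)) (250575, 0, 15, 228446) (.node (.node .leaf (250578, 0, 17, 172596) .leaf) (250579, 0, 17, 237353) (.node .leaf (250580, 0, 16, 248626) .leaf))))) (250581, 0, 14, 207700) (.node (.node (.node (.node (.node .leaf (250586, 0, 17, 34732) .leaf) (250587, 0, 15, 226741) (.node .leaf (250588, 0, 18, 48116) .leaf)) (250589, 0, 14, 189146) (.node (.node .leaf (250592, 0, 16, 164273) .leaf) (250593, 0, 18, 228519) (.node .leaf (250598, 0, 17, 45798) .leaf))) (250599, 0, 16, 198865) (.node (.node (.node .leaf (250600, 0, 18, 118549) .leaf) (250601, 0, 16, 17487) (.node .leaf (250606, 0, 15, 118063) .leaf)) (250607, 0, 16, 77129) (.node (.node .leaf (250610, 0, 18, 47885) .leaf) (250611, 0, 15, 188963) (.node .leaf (250612, 0, 17, 76898) .leaf)))) (250613, 0, 16, 8353) (.node (.node (.node (.node .leaf (250618, 0, 18, 232537) .leaf) (250619, 0, 14, 224319) (.node .leaf (250620, 0, 15, 116478) .leaf)) (250621, 0, 17, 132409) (.node (.node .leaf (250624, 0, 17, 251324) .leaf) (250625, 0, 17, 210394)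 (.node .leaf (250630, 0, 17, 179386) .leaf))) (250631, 0, 14, 154844) (.node (.node (.node .leaf (250632, 0, 18, 245023) .leaf) (250633, 0, 15, 123953) (.node .leaf (250638, 0, 18, 39202) .leaf)) (250639, 0, 15, 29534) (.node (.node .leaf (250642, 0, 17, 182535) .leaf) (250643, 0, 16, 7594) (.node .leaf (250644, 0, 18, 220776) .leaf))))))

/-- part of the orbit tree -/
def itp7_333 : Tree := (.node (.node (.node (.node (.node (.node .leaf (250650, 0, 17, 140187) .leaf) (250651, 0, 15, 145458) (.node .leaf (250652, 0, 16, 242002) .leaf)) (250653, 0, 16, 217396) (.node (.node .leaf (250656, 0, 18, 141961) .leaf) (250657, 0, 15, 29607) (.node .leaf (250662, 0, 16, 245222) .leaf))) (250663, 0, 16, 124104) (.node (.node (.node .leaf (250664, 0, 18, 195537) .leaf) (250665, 0, 17, 39227) (.node .leaf (250670, 0, 15, 234199) .leaf)) (250671, 0, 16, 69204) (.node (.node .leaf (250674, 0, 16, 242701) .leaf) (250675, 0, 18, 202335) (.node .leaf (250676, 0, 16, 171839) .leaf)))) (250677, 0, 16, 31308) (.node (.node (.node (.node .leaf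 (250682, 0, 16, 119713) .leaf) (250683, 0, 16, 67519) (.node .leaf (250684, 0, 17, 47783) .leaf)) (250685, 0, 17, 23233) (.node (.node .leaf (250688, 0, 17, 48954) .leaf) (250689, 0, 19, 87591) (.node .leaf (250694, 0, 19, 120380) .leaf))) (250695, 0, 15, 49480) (.node (.node (.node .leaf (250696, 0, 17, 255381) .leaf) (250697, 0, 15, 113851) (.node .leaf (250702, 0, 14, 258980) .leaf)) (250703, 0, 16, 201666) (.node (.node .leaf (250706, 0, 18, 168333) .leaf) (250707, 0, 16, 51363) (.node .leaf (250708, 0, 13, 198370) .leaf))))) (250709, 0, 16, 138794) (.node (.node (.node (.node (.node .leaf (250714, 0, 16, 111314) .leaf) (250715, 0, 16, 86708) (.node .leaf (250716, 0, 15, 56276) .leaf)) (250717, 0, 17, 111952) (.node (.node .leaf (250720, 0, 17, 242895) .leaf) (250721, 0, 15, 218281) (.node .leaf (250726, 0, 15, 255340) .leaf))) (250727, 0, 14, 113730) (.node (.node (.node .leaf (250728, 0, 18, 170143) .leaf) (250729, 0, 14, 49585) (.node .leaf (250734, 0, 15, 63569) .leaf)) (250735, 0, 18, 6199) (.node (.node .leaf (250738,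 0, 14, 257159) .leaf) (250739, 0, 19, 31961) (.node .leaf (250740, 0, 13, 128441) .leaf)))) (250741, 0, 16, 8902) (.node (.node (.node (.node .leaf (250746, 0, 16, 198171) .leaf) (250747, 0, 17, 89909) (.node .leaf (250748, 0, 17, 249889) .leaf)) (250749, 0, 16, 208967) (.node (.node .leaf (250752, 0, 14, 59370) .leaf) (250753, 0, 14, 179908) (.node .leaf (250758, 0, 16, 94341) .leaf))) (250759, 0, 17, 207275) (.node (.node (.node .leaf (250760, 0, 17, 223022) .leaf) (250761, 0, 17, 152664) (.node .leaf (250766, 0, 17, 104985) .leaf)) (250767, 0, 12, 246583) (.node (.node .leaf (250770, 0, 18, 158406) .leaf) (250771, 0, 12, 204864) (.node .leaf (250772, 0, 17, 197568) .leaf))))))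

/-- part of the orbit tree -/
def itp7_334 : Tree := (.node (.node (.node (.node (.node (.node .leaf (250778, 0, 16, 20318) .leaf) (250779, 0, 19, 44856) (.node .leaf (250780, 0, 17, 75352) .leaf)) (250781, 0, 18, 116286) (.node (.node .leaf (250784, 0, 16, 105184) .leaf) (250785, 0, 17, 174373) (.node .leaf (250790, 0, 15, 3471) .leaf))) (250791, 0, 18, 152737) (.node (.node (.node .leaf (250792, 0, 14, 94332) .leaf) (250793, 0, 16, 207186) (.node .leaf (250798, 0, 17, 67037) .leaf)) (250799, 0, 18, 179773) (.node (.node .leaf (250802, 0, 14, 90419) .leaf) (250803, 0, 16, 154954) (.node .leaf (250804, 0, 16, 103179) .leaf)))) (250805, 0, 16, 248357) (.node (.node (.node (.node .leaf (250810, 0, 10, 214187) .leaf) (250811, 0, 17, 178134) (.node .leaf (250812, 0, 18, 96663) .leaf)) (250813, 0, 17, 183755) (.node (.node .leaf (250816, 0, 15, 141360) .leaf) (250817, 0, 16, 190030) (.node .leaf (250822, 0, 18, 213302) .leaf))) (250823, 0, 16, 237904) (.node (.node (.node .leaf (250824, 0, 15, 3496) .leaf) (250825, 0, 15, 60878)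 (.node .leaf (250830, 0, 17, 115347) .leaf)) (250831, 0, 14, 236477) (.node (.node .leaf (250834, 0, 16, 74212) .leaf) (250835, 0, 15, 227530) (.node .leaf (250836, 0, 17, 26950) .leaf))))) (250837, 0, 15, 35104) (.node (.node (.node (.node (.node .leaf (250842, 0, 18, 117624) .leaf) (250843, 0, 17, 247230) (.node .leaf (250844, 0, 17, 23575) .leaf)) (250845, 0, 13, 175288) (.node (.node .leaf (250848, 0, 18, 74693) .leaf) (250849, 0, 17, 115619) (.node .leaf (250854, 0, 18, 21765) .leaf))) (250855, 0, 16, 134187) (.node (.node (.node .leaf (250856, 0, 14, 76022) .leaf) (250857, 0, 16, 255547) (.node .leaf (250862, 0, 16, 159579) .leaf)) (250863, 0, 17, 190135) (.node (.node .leaf (250866, 0, 15, 134069) .leaf) (250867, 0, 15, 191443) (.node .leaf (250868, 0, 18, 221875) .leaf)))) (250869, 0, 13, 234159) (.node (.node (.node (.node .leaf (250874, 0, 15, 46706) .leaf) (250875, 0, 15, 52811) (.node .leaf (250876, 0, 16, 83755) .leaf)) (250877, 0, 18, 227379) (.node (.node .leaf (250880, 0, 11, 82192) .leaf) (250882, 0, 16, 4405)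 (.node .leaf (250885, 0, 17, 104533) .leaf))) (250887, 0, 19, 227065) (.node (.node (.node .leaf (250888, 0, 15, 222344) .leaf) (250890, 0, 16, 244310) (.node .leaf (250893, 0, 13, 245197) .leaf)) (250895, 0, 16, 236645) (.node (.node .leaf (250897, 0, 19, 38752) .leaf) (250899, 0, 18, 229138) (.node .leaf (250900, 0, 16, 45395) .leaf))))))

/-- part of the orbit tree -/
def itp7_335 : Tree := (.node itp7_331 (250517, 0, 17, 16850) itp7_332)

/-- part of the orbit tree -/
def itp7_336 : Tree := (.node itp7_333 (250773, 0, 16, 177967) itp7_334)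

/-- part of the orbit tree -/
def itp7_337 : Tree := (.node (.node (.node (.node (.node (.node .leaf (250905, 0, 15, 32252) .leaf) (250907, 0, 14, 44190) (.node .leaf (250908, 0, 15, 75262) .leaf)) (250910, 0, 17, 30171) (.node (.node .leaf (250912, 0, 15, 116146) .leaf) (250914, 0, 16, 142784) (.node .leaf (250917, 0, 14, 168864) .leaf))) (250919, 0, 15, 246661) (.node (.node (.node .leaf (250920, 0, 16, 28541) .leaf) (250922, 0, 14, 182108) (.node .leaf (250925, 0, 15, 67869) .leaf)) (250927, 0, 18, 188783) (.node (.node .leaf (250929, 0, 17, 125546) .leaf) (250931, 0, 13, 131608) (.node .leaf (250932, 0, 19, 117849) .leaf)))) (250934, 0, 15, 89014) (.node (.node (.node (.node .leaf (250937, 0, 16, 65782) .leaf) (250939, 0, 12, 190596) (.node .leaf (250940, 0, 14, 142859) .leaf)) (250942, 0, 15, 228910) (.node (.node .leaf (250944, 0, 18, 142230) .leaf) (250946, 0, 14, 198720) (.node .leaf (250949, 0, 15, 50689) .leaf))) (250951, 0, 16, 238326) (.node (.node (.node .leaf (250952, 0, 15, 2734) .leaf) (250954, 0, 15, 254684)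 (.node .leaf (250957, 0, 18, 11421) .leaf)) (250959, 0, 15, 247023) (.node (.node .leaf (250961, 0, 16, 53226) .leaf) (250963, 0, 15, 206744) (.node .leaf (250964, 0, 17, 59865) .leaf))))) (250966, 0, 16, 197035) (.node (.node (.node (.node (.node .leaf (250969, 0, 15, 9590) .leaf) (250971, 0, 16, 249092) (.node .leaf (250972, 0, 18, 151416) .leaf)) (250974, 0, 18, 204637) (.node (.node .leaf (250976, 0, 16, 73827) .leaf) (250978, 0, 16, 28742) (.node .leaf (250981, 0, 15, 113419) .leaf))) (250983, 0, 16, 43267) (.node (.node (.node .leaf (250984, 0, 17, 198139) .leaf) (250986, 0, 17, 153054) (.node .leaf (250989, 0, 16, 253118) .leaf)) (250991, 0, 18, 167067) (.node (.node .leaf (250993, 0, 14, 111328) .leaf) (250995, 0, 18, 154258) (.node .leaf (250996, 0, 13, 221461) .leaf)))) (250998, 0, 12, 162977) (.node (.node (.node (.node .leaf (251001, 0, 16, 88188) .leaf) (251003, 0, 17, 52717) (.node .leaf (251004, 0, 15, 83085) .leaf)) (251006, 0, 15, 5288) (.node (.node .leaf (251008, 0, 16, 198865) .leaf) (251010, 0, 14, 165439)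 (.node .leaf (251013, 0, 16, 208610) .leaf))) (251015, 0, 17, 50832) (.node (.node (.node .leaf (251016, 0, 18, 254541) .leaf) (251018, 0, 17, 2623) (.node .leaf (251021, 0, 14, 76487) .leaf)) (251023, 0, 17, 11276) (.node (.node .leaf (251025, 0, 13, 85545) .leaf) (251027, 0, 17, 53115) (.node .leaf (251028, 0, 16, 196922) .leaf))))))

/-- part of the orbit tree -/
def itp7_338 : Tree := (.node (.node (.node (.node (.node (.node .leaf (251033, 0, 14, 249237) .leaf) (251035, 0, 14, 146324) (.node .leaf (251036, 0, 17, 242420) .leaf)) (251038, 0, 16, 980) (.node (.node .leaf (251040, 0, 16, 56815) .leaf) (251042, 0, 17, 105897) (.node .leaf (251045, 0, 16, 152552) .leaf))) (251047, 0, 16, 113562) (.node (.node (.node .leaf (251048, 0, 16, 194679) .leaf) (251050, 0, 18, 239698) (.node .leaf (251053, 0, 16, 139570) .leaf)) (251055, 0, 16, 225559) (.node (.node .leaf (251057, 0, 16, 148956) .leaf) (251059, 0, 16, 202233) (.node .leaf (251060, 0, 18, 162864) .leaf)))) (251062, 0, 18, 249020) (.node (.node (.node (.node .leaf (251065,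 0, 16, 24644) .leaf) (251067, 0, 18, 77921) (.node .leaf (251068, 0, 18, 47361) .leaf)) (251070, 0, 15, 98014) (.node (.node .leaf (251072, 0, 17, 217179) .leaf) (251074, 0, 14, 47145) (.node .leaf (251077, 0, 18, 26073) .leaf))) (251079, 0, 13, 40474) (.node (.node (.node .leaf (251080, 0, 16, 170244) .leaf) (251082, 0, 17, 21173) (.node .leaf (251085, 0, 17, 147521) .leaf)) (251087, 0, 14, 200804) (.node (.node .leaf (251089, 0, 17, 140463) .leaf) (251091, 0, 13, 38897) (.node .leaf (251092, 0, 15, 219568) .leaf))))) (251094, 0, 16, 241103) (.node (.node (.node (.node (.node .leaf (251097, 0, 18, 311) .leaf) (251099, 0, 13, 32109) (.node .leaf (251100, 0, 16, 242476) .leaf)) (251102, 0, 14, 100439) (.node (.node .leaf (251104, 0, 16, 142673) .leaf) (251106, 0, 14, 116003) (.node .leaf (251109, 0, 12, 224812) .leaf))) (251111, 0, 17, 123664) (.node (.node (.node .leaf (251112, 0, 17, 182221) .leaf) (251114, 0, 16, 77759) (.node .leaf (251117, 0, 17, 84916) .leaf)) (251119, 0, 15, 67980) (.node (.node .leaf (251121, 0, 15,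 131721) .leaf) (251123, 0, 18, 125691) (.node .leaf (251124, 0, 17, 140474) .leaf)))) (251126, 0, 17, 117960) (.node (.node (.node (.node .leaf (251129, 0, 17, 190485) .leaf) (251131, 0, 17, 154343) (.node .leaf (251132, 0, 18, 250759) .leaf)) (251134, 0, 17, 164770) (.node (.node .leaf (251136, 0, 17, 24411) .leaf) (251138, 0, 16, 242497) (.node .leaf (251141, 0, 18, 145953) .leaf))) (251143, 0, 15, 223748) (.node (.node (.node .leaf (251144, 0, 10, 50940) .leaf) (251146, 0, 16, 104153) (.node .leaf (251149, 0, 15, 8121) .leaf)) (251151, 0, 17, 228230) (.node (.node .leaf (251153, 0, 15, 28803) .leaf) (251155, 0, 15, 235761) (.node .leaf (251156, 0, 16, 22192) .leaf))))))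

/-- part of the orbit tree -/
def itp7_339 : Tree := (.node (.node (.node (.node (.node (.node .leaf (251161, 0, 10, 155343) .leaf) (251163, 0, 13, 225901) (.node .leaf (251164, 0, 15, 48172) .leaf)) (251166, 0, 17, 218206) (.node (.node .leaf (251168, 0, 18, 125073) .leaf) (251170, 0, 17, 47284) (.node .leaf (251173, 0, 17, 78292) .leaf))) (251175, 0, 14, 25073) (.node (.node (.node .leaf (251176, 0, 18, 116941) .leaf) (251178, 0, 18, 171308) (.node .leaf (251181, 0, 14, 126718) .leaf)) (251183, 0, 16, 132748) (.node (.node .leaf (251185, 0, 14, 69001) .leaf) (251187, 0, 14, 139399) (.node .leaf (251188, 0, 16, 76730) .leaf)))) (251190, 0, 14, 181192) (.node (.node (.node (.node .leaf (251193, 0, 11, 124693) .leaf) (251195, 0, 14, 1311) (.node .leaf (251196, 0, 18, 114982) .leaf)) (251198, 0, 14, 141652) (.node (.node .leaf (251200, 0, 11, 100834) .leaf) (251202, 0, 16, 55751) (.node .leaf (251205, 0, 16, 86183) .leaf))) (251207, 0, 13, 248208) (.node (.node (.node .leaf (251208, 0, 15, 240762) .leaf) (251210, 0, 17, 195679)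 (.node .leaf (251213, 0, 18, 226623) .leaf)) (251215, 0, 16, 140570) (.node (.node .leaf (251217, 0, 17, 10249) .leaf) (251219, 0, 17, 245883) (.node .leaf (251220, 0, 17, 3642) .leaf))))) (251222, 0, 17, 170161) (.node (.node (.node (.node (.node .leaf (251225, 0, 17, 78921) .leaf) (251227, 0, 16, 207591) (.node .leaf (251228, 0, 16, 126220) .leaf)) (251230, 0, 18, 199892) (.node (.node .leaf (251232, 0, 16, 164375) .leaf) (251234, 0, 14, 168617) (.node .leaf (251237, 0, 17, 154450) .leaf))) (251239, 0, 15, 199543) (.node (.node (.node .leaf (251240, 0, 16, 42895) .leaf) (251242, 0, 17, 161845) (.node .leaf (251245, 0, 16, 32458) .leaf)) (251247, 0, 18, 155142) (.node (.node .leaf (251249, 0, 17, 87299) .leaf) (251251, 0, 17, 179569) (.node .leaf (251252, 0, 15, 50017) .leaf)))) (251254, 0, 14, 170818) (.node (.node (.node (.node .leaf (251257, 0, 13, 114591) .leaf) (251259, 0, 16, 225177) (.node .leaf (251260, 0, 17, 190201) .leaf)) (251262, 0, 16, 160222) (.node (.node .leaf (251264, 0, 13, 257842) .leaf) (251266, 0, 18,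 74827) (.node .leaf (251269, 0, 16, 248065) .leaf))) (251271, 0, 16, 8563) (.node (.node (.node .leaf (251272, 0, 16, 198062) .leaf) (251274, 0, 16, 197075) (.node .leaf (251277, 0, 17, 205725) .leaf)) (251279, 0, 14, 52207) (.node (.node .leaf (251281, 0, 15, 245994) .leaf) (251283, 0, 14, 244856) (.node .leaf (251284, 0, 13, 255705) .leaf))))))

/-- part of the orbit tree -/
def itp7_340 : Tree := (.node (.node (.node (.node (.node (.node .leaf (251289, 0, 15, 207478) .leaf) (251291, 0, 9, 104928) (.node .leaf (251292, 0, 17, 4224) .leaf)) (251294, 0, 15, 58423) (.node (.node .leaf (251296, 0, 18, 229275) .leaf) (251298, 0, 17, 143294) (.node .leaf (251301, 0, 17, 177163) .leaf))) (251303, 0, 18, 89209) (.node (.node (.node .leaf (251304, 0, 16, 88579) .leaf) (251306, 0, 15, 2598) (.node .leaf (251309, 0, 16, 155287) .leaf)) (251311, 0, 14, 112357) (.node (.node .leaf (251313, 0, 18, 124840) .leaf) (251315, 0, 17, 87442) (.node .leaf (251316, 0, 16, 81645) .leaf)))) (251318, 0, 11, 95137) (.node (.node (.node (.node .leaf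 (251321, 0, 17, 153468) .leaf) (251323, 0, 17, 114446) (.node .leaf (251324, 0, 16, 160079) .leaf)) (251326, 0, 14, 150352) (.node (.node .leaf (251328, 0, 16, 204520) .leaf) (251330, 0, 18, 151245) (.node .leaf (251333, 0, 14, 233867) .leaf))) (251335, 0, 16, 31225) (.node (.node (.node .leaf (251336, 0, 10, 80752) .leaf) (251338, 0, 16, 46422) (.node .leaf (251341, 0, 18, 228119) .leaf)) (251343, 0, 18, 45584) (.node (.node .leaf (251345, 0, 17, 100059) .leaf) (251347, 0, 16, 28690) (.node .leaf (251348, 0, 15, 245331) .leaf))))) (251350, 0, 15, 22049) (.node (.node (.node (.node (.node .leaf (251353, 0, 16, 238403) .leaf) (251355, 0, 10, 39566) (.node .leaf (251356, 0, 16, 227846) .leaf)) (251358, 0, 16, 141859) (.node (.node .leaf (251360, 0, 17, 182962) .leaf) (251362, 0, 18, 74432) (.node .leaf (251365, 0, 17, 52312) .leaf))) (251367, 0, 17, 105597) (.node (.node (.node .leaf (251368, 0, 14, 139310) .leaf) (251370, 0, 15, 221344) (.node .leaf (251373, 0, 18, 132637) .leaf)) (251375, 0, 17, 126575) (.node (.node .leaf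 (251377, 0, 11, 189802) .leaf) (251379, 0, 17, 68888) (.node .leaf (251380, 0, 11, 152683) .leaf)))) (251382, 0, 16, 197710) (.node (.node (.node (.node .leaf (251385, 0, 15, 43190) .leaf) (251387, 0, 15, 129171) (.node .leaf (251388, 0, 18, 141765) .leaf)) (251390, 0, 11, 115127) (.node (.node .leaf (251396, 0, 17, 180873) .leaf) (251397, 0, 16, 111653) (.node .leaf (251398, 0, 12, 1126) .leaf))) (251399, 0, 16, 226261) (.node (.node (.node .leaf (251404, 0, 17, 225755) .leaf) (251405, 0, 16, 28987) (.node .leaf (251406, 0, 17, 139774) .leaf)) (251407, 0, 17, 235849) (.node (.node .leaf (251408, 0, 16, 202037) .leaf) (251409, 0, 16, 259411) .leaf)))))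

/-- part of the orbit tree -/
def itp7_341 : Tree := (.node itp7_337 (251030, 0, 16, 51017) itp7_338)

/-- part of the orbit tree -/
def itp7_342 : Tree := (.node itp7_339 (251286, 0, 17, 3755) itp7_340)

/-- part of the orbit tree -/
def itp7_343 : Tree := (.node itp7_335 (250645, 0, 11, 67398) itp7_336)

/-- part of the orbit tree -/
def itp7_344 : Tree := (.node itp7_341 (251158, 0, 16, 245442) itp7_342)

/-- part of the orbit tree -/
def itp7_345 : Tree := (.node itp7_329 (249880, 0, 13, 1653) itp7_330)

/-- part of the orbit tree -/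
def itp7_346 : Tree := (.node itp7_343 (250902, 0, 11, 219425) itp7_344)

/-- part of the orbit tree -/
def itp7_347 : Tree := (.node (.node (.node (.node (.node (.node .leaf (251411, 0, 10, 227902) .leaf) (251416, 0, 17, 139774) (.node .leaf (251417, 0, 18, 30928) .leaf)) (251418, 0, 16, 117132) (.node (.node .leaf (251419, 0, 18, 233634) .leaf) (251428, 0, 16, 245635) (.node .leaf (251429, 0, 13, 180176) .leaf))) (251430, 0, 16, 22513) (.node (.node (.node .leaf (251431, 0, 15, 134879) .leaf) (251436, 0, 17, 31278) (.node .leaf (251437, 0, 17, 68657) .leaf)) (251438, 0, 18, 76299) (.node (.node .leaf (251439, 0, 18, 117357) .leaf) (251440, 0, 14, 243304) (.node .leaf (251441, 0, 17, 126790) .leaf)))) (251442, 0, 15, 85733) (.node (.node (.node (.node .leaf (251443, 0, 17, 110211) .leaf) (251448, 0, 15, 220404) (.node .leaf (251449, 0, 11, 67034) .leaf)) (251450, 0, 17, 224125) (.node (.node .leaf (251451, 0, 18, 191912) .leaf) (251460, 0, 17, 170499) (.node .leaf (251461, 0, 18, 188067) .leaf))) (251462, 0, 18, 94833) (.node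 (.node (.node .leaf (251463, 0, 16, 207711) .leaf) (251468, 0, 17, 159903) (.node .leaf (251469, 0, 17, 64315) .leaf)) (251470, 0, 18, 84856) (.node (.node .leaf (251471, 0, 17, 246211) .leaf) (251472, 0, 17, 168936) (.node .leaf (251473, 0, 17, 51910) .leaf))))) (251474, 0, 17, 77718) (.node (.node (.node (.node (.node .leaf (251475, 0, 12, 205492) .leaf) (251480, 0, 16, 154155) (.node .leaf (251481, 0, 15, 178765) .leaf)) (251482, 0, 11, 102662) (.node (.node .leaf (251483, 0, 13, 256616) .leaf) (251492, 0, 11, 255753) (.node .leaf (251493, 0, 17, 114215) .leaf))) (251494, 0, 16, 3963) (.node (.node (.node .leaf (251495, 0, 14, 153173) .leaf) (251500, 0, 18, 200085) (.node .leaf (251501, 0, 16, 87227) .leaf)) (251502, 0, 16, 147597) (.node (.node .leaf (251503, 0, 11, 172267) .leaf) (251504, 0, 18, 257762) (.node .leaf (251505, 0, 16, 112588) .leaf)))) (251506, 0, 16, 1680) (.node (.node (.node (.node .leaf (251507, 0, 15, 155582) .leaf) (251512, 0, 18, 86494) (.node .leaf (251513, 0, 18, 89424) .leaf)) (251514, 0, 16, 507)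 (.node (.node .leaf (251515, 0, 17, 57757) .leaf) (251524, 0, 16, 246601) (.node .leaf (251525, 0, 16, 205615) .leaf))) (251526, 0, 18, 170642) (.node (.node (.node .leaf (251527, 0, 17, 160522) .leaf) (251532, 0, 16, 124625) (.node .leaf (251533, 0, 14, 67255) .leaf)) (251534, 0, 18, 46836) (.node (.node .leaf (251535, 0, 15, 22162) .leaf) (251536, 0, 16, 98879) (.node .leaf (251537, 0, 17, 90713) .leaf))))))

/-- part of the orbit tree -/
def itp7_348 : Tree := (.node (.node (.node (.node (.node (.node .leaf (251539, 0, 18, 51799) .leaf) (251544, 0, 16, 102807) (.node .leaf (251545, 0, 16, 247993) .leaf)) (251546, 0, 16, 194434) (.node (.node .leaf (251547, 0, 14, 137188) .leaf) (251556, 0, 16, 4074) (.node .leaf (251557, 0, 16, 10458) .leaf))) (251558, 0, 18, 255896) (.node (.node (.node .leaf (251559, 0, 19, 114358) .leaf) (251564, 0, 14, 191780) (.node .leaf (251565, 0, 15, 134466) .leaf)) (251566, 0, 14, 244993) (.node (.node .leaf (251567, 0, 18, 87082) .leaf) (251568, 0, 15, 166346) (.node .leaf (251569, 0, 17, 158124)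 .leaf)))) (251570, 0, 16, 252399) (.node (.node (.node (.node .leaf (251571, 0, 14, 112477) .leaf) (251576, 0, 14, 44114) (.node .leaf (251577, 0, 17, 19508) .leaf)) (251578, 0, 16, 130167) (.node (.node .leaf (251579, 0, 17, 72721) .leaf) (251588, 0, 12, 43471) (.node .leaf (251589, 0, 15, 226116) .leaf))) (251590, 0, 16, 129514) (.node (.node (.node .leaf (251591, 0, 17, 39734) .leaf) (251596, 0, 17, 114934) (.node .leaf (251597, 0, 17, 235992) .leaf)) (251598, 0, 14, 141444) (.node (.node .leaf (251599, 0, 16, 211988) .leaf) (251600, 0, 16, 74625) (.node .leaf (251601, 0, 19, 133343) .leaf))))) (251602, 0, 15, 243868) (.node (.node (.node (.node (.node .leaf (251603, 0, 18, 37597) .leaf) (251608, 0, 17, 52513) (.node .leaf (251609, 0, 15, 11591) .leaf)) (251610, 0, 18, 105732) (.node (.node .leaf (251611, 0, 15, 97634) .leaf) (251620, 0, 13, 22368) (.node .leaf (251621, 0, 16, 134734) .leaf))) (251622, 0, 16, 193055) (.node (.node (.node .leaf (251623, 0, 16, 135801) .leaf) (251628, 0, 16, 100258) (.node .leaf (251629, 0,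 17, 92100) .leaf)) (251630, 0, 16, 55175) (.node (.node .leaf (251631, 0, 17, 68768) .leaf) (251632, 0, 16, 123724) (.node .leaf (251633, 0, 14, 66346) .leaf)))) (251634, 0, 14, 45929) (.node (.node (.node (.node .leaf (251635, 0, 11, 21263) .leaf) (251640, 0, 20, 247508) (.node .leaf (251641, 0, 17, 206514) .leaf)) (251642, 0, 17, 220261) (.node (.node .leaf (251643, 0, 16, 66891) .leaf) (251652, 0, 16, 140650) (.node .leaf (251653, 0, 10, 136785) .leaf))) (251654, 0, 14, 239122) (.node (.node (.node .leaf (251655, 0, 15, 234550) .leaf) (251660, 0, 14, 184310) (.node .leaf (251661, 0, 15, 13257) .leaf)) (251662, 0, 18, 99210) (.node (.node .leaf (251663, 0, 18, 91116) .leaf) (251664, 0, 14, 46913) (.node .leaf (251665, 0, 15, 22311) .leaf))))))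

/-- part of the orbit tree -/
def itp7_349 : Tree := (.node (.node (.node (.node (.node (.node .leaf (251667, 0, 16, 67330) .leaf) (251672, 0, 16, 168665) (.node .leaf (251673, 0, 18, 40755) .leaf)) (251674, 0, 16, 77423) (.node (.node .leaf (251675, 0, 15, 227137) .leaf) (251684, 0, 18, 219232) (.node .leaf (251685, 0, 14, 73124) .leaf))) (251686, 0, 16, 45074) (.node (.node (.node .leaf (251687, 0, 16, 190780) .leaf) (251692, 0, 17, 242428) (.node .leaf (251693, 0, 15, 211004) .leaf)) (251694, 0, 16, 166015) (.node (.node .leaf (251695, 0, 16, 157721) .leaf) (251696, 0, 18, 244916) (.node .leaf (251697, 0, 17, 220370) .leaf)))) (251698, 0, 16, 191633) (.node (.node (.node (.node .leaf (251699, 0, 18, 134391) .leaf) (251704, 0, 15, 244503) (.node .leaf (251705, 0, 15, 96586) .leaf)) (251706, 0, 17, 21349) (.node (.node .leaf (251707, 0, 16, 133707) .leaf) (251716, 0, 17, 105649) (.node .leaf (251717, 0, 14, 97495) .leaf))) (251718, 0, 18, 103826) (.node (.node (.node .leaf (251719, 0, 17, 11506) .leaf) (251724, 0, 16, 169852)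 (.node .leaf (251725, 0, 17, 219471) .leaf)) (251726, 0, 12, 190732) (.node (.node .leaf (251727, 0, 16, 206368) .leaf) (251728, 0, 14, 160779) (.node .leaf (251729, 0, 14, 212385) .leaf))))) (251730, 0, 16, 105593) (.node (.node (.node (.node (.node .leaf (251731, 0, 16, 159108) .leaf) (251736, 0, 17, 129119) (.node .leaf (251737, 0, 18, 71737) .leaf)) (251738, 0, 17, 95973) (.node (.node .leaf (251739, 0, 15, 18460) .leaf) (251748, 0, 17, 196842) (.node .leaf (251749, 0, 16, 88516) .leaf))) (251750, 0, 17, 59544) (.node (.node (.node .leaf (251751, 0, 16, 176566) .leaf) (251756, 0, 13, 256630) (.node .leaf (251757, 0, 13, 21178) .leaf)) (251758, 0, 16, 123641) (.node (.node .leaf (251759, 0, 16, 66207) .leaf) (251760, 0, 13, 198913) (.node .leaf (251761, 0, 12, 86063) .leaf)))) (251762, 0, 17, 57715) (.node (.node (.node (.node .leaf (251763, 0, 17, 178269) .leaf) (251768, 0, 13, 193450) (.node .leaf (251769, 0, 15, 136140) .leaf)) (251770, 0, 15, 3055) (.node (.node .leaf (251771, 0, 9, 152257) .leaf) (251780, 0, 17, 24893)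 (.node .leaf (251781, 0, 18, 248877) .leaf))) (251782, 0, 18, 78104) (.node (.node (.node .leaf (251783, 0, 19, 119166) .leaf) (251788, 0, 17, 148645) (.node .leaf (251789, 0, 17, 173251) .leaf)) (251790, 0, 19, 169965) (.node (.node .leaf (251791, 0, 14, 52931) .leaf) (251792, 0, 13, 105704) (.node .leaf (251793, 0, 17, 180269) .leaf))))))

/-- part of the orbit tree -/
def itp7_350 : Tree := (.node (.node (.node (.node (.node (.node .leaf (251795, 0, 17, 233480) .leaf) (251800, 0, 18, 1491) (.node .leaf (251801, 0, 15, 208730) .leaf)) (251802, 0, 13, 87542) (.node (.node .leaf (251803, 0, 19, 112016) .leaf) (251812, 0, 15, 223944) (.node .leaf (251813, 0, 14, 176423) .leaf))) (251814, 0, 16, 196731) (.node (.node (.node .leaf (251815, 0, 13, 187019) .leaf) (251820, 0, 17, 85840) (.node .leaf (251821, 0, 16, 154555) .leaf)) (251822, 0, 17, 256743) (.node (.node .leaf (251823, 0, 18, 111561) .leaf) (251824, 0, 6, 76734) (.node .leaf (251825, 0, 16, 117720) .leaf)))) (251826, 0, 15, 199056) (.node (.node (.node (.node .leaf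 (251827, 0, 18, 39933) .leaf) (251832, 0, 17, 2942) (.node .leaf (251833, 0, 15, 257600) .leaf)) (251834, 0, 13, 155139) (.node (.node .leaf (251835, 0, 16, 179813) .leaf) (251844, 0, 12, 199611) (.node .leaf (251845, 0, 13, 256989) .leaf))) (251846, 0, 18, 140795) (.node (.node (.node .leaf (251847, 0, 17, 31957) .leaf) (251852, 0, 18, 75541) (.node .leaf (251853, 0, 15, 118341) .leaf)) (251854, 0, 16, 32262) (.node (.node .leaf (251855, 0, 16, 40544) .leaf) (251856, 0, 16, 115810) (.node .leaf (251857, 0, 17, 109227) .leaf))))) (251858, 0, 16, 6888) (.node (.node (.node (.node (.node .leaf (251859, 0, 16, 30014) .leaf) (251864, 0, 18, 225109) (.node .leaf (251865, 0, 18, 227280) .leaf)) (251866, 0, 13, 147312) (.node (.node .leaf (251867, 0, 16, 188182) .leaf) (251876, 0, 18, 45187) (.node .leaf (251877, 0, 16, 57384) .leaf))) (251878, 0, 16, 219377) (.node (.node (.node .leaf (251879, 0, 18, 110605) .leaf) (251884, 0, 16, 140758) (.node .leaf (251885, 0, 18, 181680) .leaf)) (251886, 0, 13, 242285) (.node (.node .leaf (251887,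 0, 16, 125763) .leaf) (251888, 0, 16, 47464) (.node .leaf (251889, 0, 18, 172382) .leaf)))) (251890, 0, 16, 200989) (.node (.node (.node (.node .leaf (251891, 0, 17, 258427) .leaf) (251896, 0, 11, 25760) (.node .leaf (251897, 0, 12, 33990) .leaf)) (251898, 0, 15, 78981) (.node (.node .leaf (251899, 0, 14, 120035) .leaf) (251904, 0, 11, 258163) (.node .leaf (251907, 0, 9, 147759) .leaf))) (251908, 0, 15, 102254) (.node (.node (.node .leaf (251911, 0, 16, 15922) .leaf) (251912, 0, 17, 60) (.node .leaf (251915, 0, 17, 175027) .leaf)) (251916, 0, 17, 91634) (.node (.node .leaf (251919, 0, 14, 54446) .leaf) (251921, 0, 17, 48535) (.node .leaf (251922, 0, 17, 159479) .leaf))))))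

/-- part of the orbit tree -/
def itp7_351 : Tree := (.node itp7_347 (251538, 0, 18, 168825) itp7_348)

/-- part of the orbit tree -/
def itp7_352 : Tree := (.node itp7_349 (251794, 0, 15, 160922) itp7_350)

/-- part of the orbit tree -/
def itp7_353 : Tree := (.node (.node (.node (.node (.node (.node .leaf (251926, 0, 16, 4586) .leaf) (251929, 0, 18, 169999) (.node .leaf (251930, 0, 16, 206924) .leaf)) (251933, 0, 15, 172332) (.node (.node .leaf (251934, 0, 13, 64374) .leaf) (251936, 0, 17, 77393) (.node .leaf (251939, 0, 17, 40466) .leaf))) (251940, 0, 16, 71538) (.node (.node (.node .leaf (251943, 0, 14, 82744) .leaf) (251944, 0, 17, 157669) (.node .leaf (251947, 0, 18, 251577) .leaf)) (251948, 0, 19, 6392) (.node (.node .leaf (251951, 0, 16, 108964) .leaf) (251953, 0, 12, 172705) (.node .leaf (251954, 0, 18, 132641) .leaf)))) (251957, 0, 17, 233281) (.node (.node (.node (.node .leaf (251958, 0, 12, 93408) .leaf) (251961, 0, 16, 149565) (.node .leaf (251962, 0, 14, 9145) .leaf)) (251965, 0, 15, 14112) (.node (.node .leaf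 (251966, 0, 18, 99964) .leaf) (251968, 0, 17, 85794) (.node .leaf (251971, 0, 18, 137637) .leaf))) (251972, 0, 16, 120804) (.node (.node (.node .leaf (251975, 0, 16, 50754) .leaf) (251976, 0, 12, 213605) (.node .leaf (251979, 0, 12, 187129) .leaf)) (251980, 0, 16, 218009) (.node (.node .leaf (251983, 0, 9, 35876) .leaf) (251985, 0, 10, 231201) (.node .leaf (251986, 0, 16, 157522) .leaf))))) (251989, 0, 17, 129084) (.node (.node (.node (.node (.node .leaf (251990, 0, 15, 155249) .leaf) (251993, 0, 12, 127625) (.node .leaf (251994, 0, 16, 17098) .leaf)) (251997, 0, 17, 70304) (.node (.node .leaf (251998, 0, 13, 31721) .leaf) (252000, 0, 17, 185843) (.node .leaf (252003, 0, 13, 222383) .leaf))) (252004, 0, 17, 163316) (.node (.node (.node .leaf (252007, 0, 16, 72626) .leaf) (252008, 0, 16, 147311) (.node .leaf (252011, 0, 16, 119052) .leaf)) (252012, 0, 12, 16498) (.node (.node .leaf (252015, 0, 15, 127278) .leaf) (252017, 0, 16, 195115) (.node .leaf (252018, 0, 16, 215927) .leaf)))) (252021, 0, 17, 58823) (.node (.node (.node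 (.node .leaf (252022, 0, 13, 87428) .leaf) (252025, 0, 17, 135351) (.node .leaf (252026, 0, 15, 238059) .leaf)) (252029, 0, 12, 28586) (.node (.node .leaf (252030, 0, 12, 225308) .leaf) (252032, 0, 16, 16410) (.node .leaf (252035, 0, 14, 66285) .leaf))) (252036, 0, 17, 35725) (.node (.node (.node .leaf (252039, 0, 15, 233051) .leaf) (252040, 0, 17, 43654) (.node .leaf (252043, 0, 18, 72666) .leaf)) (252044, 0, 17, 185755) (.node (.node .leaf (252047, 0, 14, 222407) .leaf) (252049, 0, 16, 141981) (.node .leaf (252050, 0, 16, 236254) .leaf))))))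

/-- part of the orbit tree -/
def itp7_354 : Tree := (.node (.node (.node (.node (.node (.node .leaf (252054, 0, 15, 238589) .leaf) (252057, 0, 14, 3845) (.node .leaf (252058, 0, 18, 78850) .leaf)) (252061, 0, 15, 13862) (.node (.node .leaf (252062, 0, 14, 215839) .leaf) (252064, 0, 17, 81168) (.node .leaf (252067, 0, 14, 133400) .leaf))) (252068, 0, 14, 213517) (.node (.node (.node .leaf (252071, 0, 17, 143419) .leaf) (252072, 0, 14, 105667) (.node .leaf (252075, 0, 15, 26320) .leaf)) (252076, 0, 14, 108000) (.node (.node .leaf (252079, 0, 18, 5539) .leaf) (252081, 0, 17, 74088) (.node .leaf (252082, 0, 16, 37163) .leaf)))) (252085, 0, 17, 71755) (.node (.node (.node (.node .leaf (252086, 0, 15, 43016) .leaf) (252089, 0, 17, 197872) (.node .leaf (252090, 0, 19, 177331) .leaf)) (252093, 0, 13, 231241) (.node (.node .leaf (252094, 0, 16, 167312) .leaf) (252096, 0, 18, 6288) (.node .leaf (252099, 0, 14, 157803) .leaf))) (252100, 0, 17, 254219) (.node (.node (.node .leaf (252103, 0, 15, 151880) .leaf) (252104, 0, 16, 61964) (.node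 .leaf (252107, 0, 16, 19955) .leaf)) (252108, 0, 15, 167185) (.node (.node .leaf (252111, 0, 17, 29904) .leaf) (252113, 0, 15, 14152) (.node .leaf (252114, 0, 9, 61528) .leaf))))) (252117, 0, 15, 96568) (.node (.node (.node (.node (.node .leaf (252118, 0, 18, 51579) .leaf) (252121, 0, 17, 222595) (.node .leaf (252122, 0, 16, 93320) .leaf)) (252125, 0, 19, 220320) (.node (.node .leaf (252126, 0, 14, 201621) .leaf) (252128, 0, 16, 91546) (.node .leaf (252131, 0, 17, 54470) .leaf))) (252132, 0, 17, 60158) (.node (.node (.node .leaf (252135, 0, 16, 175067) .leaf) (252136, 0, 15, 194117) (.node .leaf (252139, 0, 16, 214534) .leaf)) (252140, 0, 18, 184166) (.node (.node .leaf (252143, 0, 19, 229157) .leaf) (252145, 0, 14, 150510) (.node .leaf (252146, 0, 18, 64286) .leaf)))) (252149, 0, 11, 160461) (.node (.node (.node (.node .leaf (252150, 0, 17, 246414) .leaf) (252153, 0, 17, 28278) (.node .leaf (252154, 0, 15, 4482) .leaf)) (252157, 0, 17, 253891) (.node (.node .leaf (252158, 0, 16, 124694) .leaf) (252160, 0, 15, 100304) (.node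 .leaf (252163, 0, 17, 14227) .leaf))) (252164, 0, 15, 114419) (.node (.node (.node .leaf (252167, 0, 16, 3760) .leaf) (252168, 0, 16, 238152) (.node .leaf (252171, 0, 18, 150608) .leaf)) (252172, 0, 16, 98833) (.node (.node .leaf (252175, 0, 15, 142120) .leaf) (252177, 0, 17, 211016) (.node .leaf (252178, 0, 17, 166164) .leaf))))))

/-- part of the orbit tree -/
def itp7_355 : Tree := (.node (.node (.node (.node (.node (.node .leaf (252182, 0, 15, 169603) .leaf) (252185, 0, 17, 250580) (.node .leaf (252186, 0, 16, 156552) .leaf)) (252189, 0, 15, 110025) (.node (.node .leaf (252190, 0, 13, 7317) .leaf) (252192, 0, 17, 166949) (.node .leaf (252195, 0, 19, 252870) .leaf))) (252196, 0, 17, 177414) (.node (.node (.node .leaf (252199, 0, 12, 197957) .leaf) (252200, 0, 14, 163846) (.node .leaf (252203, 0, 16, 209242) .leaf)) (252204, 0, 13, 37022) (.node (.node .leaf (252207, 0, 16, 73949) .leaf) (252209, 0, 18, 148802) (.node .leaf (252210, 0, 17, 107605) .leaf)))) (252213, 0, 16, 11573) (.node (.node (.node (.node .leaf (252214,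 0, 16, 101123) .leaf) (252217, 0, 17, 176094) (.node .leaf (252218, 0, 16, 204418) .leaf)) (252221, 0, 15, 53443) (.node (.node .leaf (252222, 0, 17, 243950) .leaf) (252224, 0, 18, 191830) (.node .leaf (252227, 0, 17, 220437) .leaf))) (252228, 0, 14, 77831) (.node (.node (.node .leaf (252231, 0, 13, 222262) .leaf) (252232, 0, 16, 51406) (.node .leaf (252235, 0, 18, 96397) .leaf)) (252236, 0, 17, 61933) (.node (.node .leaf (252239, 0, 18, 82350) .leaf) (252241, 0, 16, 30053) (.node .leaf (252242, 0, 17, 184734) .leaf))))) (252245, 0, 15, 73695) (.node (.node (.node (.node (.node .leaf (252246, 0, 16, 44675) .leaf) (252249, 0, 16, 232030) (.node .leaf (252250, 0, 17, 254142) .leaf)) (252253, 0, 18, 128323) (.node (.node .leaf (252254, 0, 16, 252317) .leaf) (252256, 0, 17, 124579) (.node .leaf (252259, 0, 14, 22240) .leaf))) (252260, 0, 17, 19725) (.node (.node (.node .leaf (252263, 0, 16, 130129) .leaf) (252264, 0, 15, 186508) (.node .leaf (252267, 0, 15, 160632) .leaf)) (252268, 0, 17, 260632) (.node (.node .leaf (252271, 0,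 17, 150107) .leaf) (252273, 0, 17, 229008) (.node .leaf (252274, 0, 18, 240788) .leaf)))) (252277, 0, 14, 25301) (.node (.node (.node (.node .leaf (252278, 0, 15, 119689) .leaf) (252281, 0, 12, 88840) (.node .leaf (252282, 0, 17, 214536) .leaf)) (252285, 0, 16, 90667) (.node (.node .leaf (252286, 0, 16, 80149) .leaf) (252288, 0, 17, 200922) (.node .leaf (252291, 0, 18, 71333) .leaf))) (252292, 0, 14, 186596) (.node (.node (.node .leaf (252295, 0, 17, 170426) .leaf) (252296, 0, 16, 79170) (.node .leaf (252299, 0, 15, 34049) .leaf)) (252300, 0, 17, 68705) (.node (.node .leaf (252303, 0, 17, 48162) .leaf) (252305, 0, 12, 34849) (.node .leaf (252306, 0, 16, 14506) .leaf))))))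

/-- part of the orbit tree -/
def itp7_356 : Tree := (.node (.node (.node (.node (.node (.node .leaf (252310, 0, 16, 393) .leaf) (252313, 0, 14, 241009) (.node .leaf (252314, 0, 14, 119777) .leaf)) (252317, 0, 15, 234578) (.node (.node .leaf (252318, 0, 12, 240892) .leaf) (252320, 0, 16, 121587) (.node .leaf (252323, 0, 19, 109420) .leaf))) (252324, 0, 15, 8716) (.node (.node (.node .leaf (252327, 0, 17, 136370) .leaf) (252328, 0, 16, 147127) (.node .leaf (252331, 0, 18, 33075) .leaf)) (252332, 0, 14, 133012) (.node (.node .leaf (252335, 0, 17, 196142) .leaf) (252337, 0, 16, 128299) (.node .leaf (252338, 0, 16, 17527) .leaf)))) (252341, 0, 16, 231990) (.node (.node (.node (.node .leaf (252342, 0, 16, 199292) .leaf) (252345, 0, 16, 73655) (.node .leaf (252346, 0, 12, 44779) .leaf)) (252349, 0, 17, 40871) (.node (.node .leaf (252350, 0, 17, 77796) .leaf) (252352, 0, 17, 31324) (.node .leaf (252355, 0, 16, 85551) .leaf))) (252356, 0, 13, 163950) (.node (.node (.node .leaf (252359, 0, 17, 127804) .leaf) (252360, 0, 16, 155588)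 (.node .leaf (252363, 0, 13, 107699) .leaf)) (252364, 0, 16, 157415) (.node (.node .leaf (252367, 0, 17, 251556) .leaf) (252369, 0, 17, 53419) (.node .leaf (252370, 0, 14, 90615) .leaf))))) (252373, 0, 17, 176054) (.node (.node (.node (.node (.node .leaf (252374, 0, 18, 224015) .leaf) (252377, 0, 16, 14903) (.node .leaf (252378, 0, 16, 96180) .leaf)) (252381, 0, 15, 65236) (.node (.node .leaf (252382, 0, 17, 85655) .leaf) (252384, 0, 13, 225705) (.node .leaf (252387, 0, 14, 13093) .leaf))) (252388, 0, 14, 261476) (.node (.node (.node .leaf (252391, 0, 13, 194761) .leaf) (252392, 0, 16, 92389) (.node .leaf (252395, 0, 15, 55737) .leaf)) (252396, 0, 17, 93458) (.node (.node .leaf (252399, 0, 15, 56657) .leaf) (252401, 0, 13, 109985) (.node .leaf (252402, 0, 13, 7421) .leaf)))) (252405, 0, 15, 118969) (.node (.node (.node (.node .leaf (252406, 0, 18, 24826) .leaf) (252409, 0, 18, 83773) (.node .leaf (252410, 0, 16, 63073) .leaf)) (252413, 0, 17, 259361) (.node (.node .leaf (252414, 0, 16, 166268) .leaf) (252418, 0, 17, 219633)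 (.node .leaf (252419, 0, 17, 148483) .leaf))) (252422, 0, 15, 156208) (.node (.node (.node .leaf (252423, 0, 18, 229556) .leaf) (252426, 0, 14, 63409) (.node .leaf (252427, 0, 17, 105487) .leaf)) (252430, 0, 15, 83274) (.node (.node .leaf (252431, 0, 17, 107820) .leaf) (252432, 0, 16, 29057) .leaf)))))

/-- part of the orbit tree -/
def itp7_357 : Tree := (.node itp7_353 (252053, 0, 19, 135391) itp7_354)

/-- part of the orbit tree -/
def itp7_358 : Tree := (.node itp7_355 (252309, 0, 17, 111050) itp7_356)

/-- part of the orbit tree -/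
def itp7_359 : Tree := (.node itp7_351 (251666, 0, 17, 115955) itp7_352)

/-- part of the orbit tree -/
def itp7_360 : Tree := (.node itp7_357 (252181, 0, 17, 206528) itp7_358)

/-- part of the orbit tree -/
def itp7_361 : Tree := (.node (.node (.node (.node (.node (.node .leaf (252436, 0, 17, 261300) .leaf) (252437, 0, 16, 107930) (.node .leaf (252440, 0, 15, 92469) .leaf)) (252441, 0, 17, 177279) (.node (.node .leaf (252444, 0, 15, 202280) .leaf) (252445, 0, 11, 167260) (.node .leaf (252450, 0, 19, 90151) .leaf))) (252451, 0, 17, 45666) (.node (.node (.node .leaf (252454, 0, 13, 204602) .leaf) (252455, 0, 17, 83476) (.node .leaf (252458, 0, 15, 161692) .leaf)) (252459, 0, 17, 250773) (.node (.node .leaf (252462, 0, 15, 259494) .leaf) (252463, 0, 16, 109704) (.node .leaf (252464, 0, 18, 65187) .leaf)))) (252465, 0, 16, 236050) (.node (.node (.node (.node .leaf (252468, 0, 16, 213847) .leaf) (252469, 0, 13, 238385) (.node .leaf (252472, 0, 14, 90092) .leaf)) (252473, 0, 17, 150801) (.node (.node .leaf (252476, 0, 17, 91855)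 .leaf) (252477, 0, 18, 12812) (.node .leaf (252482, 0, 14, 13175) .leaf))) (252483, 0, 17, 138377) (.node (.node (.node .leaf (252486, 0, 17, 2644) .leaf) (252487, 0, 15, 59954) (.node .leaf (252490, 0, 17, 136943) .leaf)) (252491, 0, 15, 194069) (.node (.node .leaf (252494, 0, 16, 184358) .leaf) (252495, 0, 17, 35080) (.node .leaf (252496, 0, 17, 121635) .leaf))))) (252497, 0, 17, 229901) (.node (.node (.node (.node (.node .leaf (252500, 0, 17, 238654) .leaf) (252501, 0, 14, 246338) (.node .leaf (252504, 0, 18, 78271) .leaf)) (252505, 0, 17, 223377) (.node (.node .leaf (252508, 0, 16, 216738) .leaf) (252509, 0, 17, 71564) (.node .leaf (252514, 0, 13, 80045) .leaf))) (252515, 0, 18, 252132) (.node (.node (.node .leaf (252518, 0, 14, 214960) .leaf) (252519, 0, 16, 73374) (.node .leaf (252522, 0, 17, 72986) .leaf)) (252523, 0, 16, 232223) (.node (.node .leaf (252526, 0, 18, 74809) .leaf) (252527, 0, 17, 115807) (.node .leaf (252528, 0, 16, 42537) .leaf)))) (252529, 0, 16, 61588) (.node (.node (.node (.node .leaf (252532, 0, 18,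 186676) .leaf) (252533, 0, 16, 32794) (.node .leaf (252536, 0, 13, 19637) .leaf)) (252537, 0, 14, 185612) (.node (.node .leaf (252540, 0, 15, 144296) .leaf) (252541, 0, 16, 191535) (.node .leaf (252546, 0, 14, 240964) .leaf))) (252547, 0, 11, 77469) (.node (.node (.node .leaf (252550, 0, 17, 128984) .leaf) (252551, 0, 15, 71614) (.node .leaf (252554, 0, 15, 256867) .leaf)) (252555, 0, 17, 199429) (.node (.node .leaf (252558, 0, 15, 250432) .leaf) (252559, 0, 16, 221675) (.node .leaf (252560, 0, 17, 190091) .leaf))))))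

/-- part of the orbit tree -/
def itp7_362 : Tree := (.node (.node (.node (.node (.node (.node .leaf (252564, 0, 15, 19677) .leaf) (252565, 0, 17, 136691) (.node .leaf (252568, 0, 18, 49939) .leaf)) (252569, 0, 18, 32882) (.node (.node .leaf (252572, 0, 19, 42561) .leaf) (252573, 0, 11, 6742) (.node .leaf (252578, 0, 16, 184398) .leaf))) (252579, 0, 15, 35168) (.node (.node (.node .leaf (252582, 0, 17, 195629) .leaf) (252583, 0, 18, 138315) (.node .leaf (252586, 0, 17, 57494) .leaf)) (252587, 0, 17, 25596) (.node (.node .leaf (252590, 0, 16, 17871) .leaf) (252591, 0, 16, 138465) (.node .leaf (252592, 0, 15, 216778) .leaf)))) (252593, 0, 17, 68888) (.node (.node (.node (.node .leaf (252596, 0, 17, 119901) .leaf) (252597, 0, 18, 223481) (.node .leaf (252600, 0, 18, 238678) .leaf)) (252601, 0, 15, 130424) (.node (.node .leaf (252604, 0, 16, 258501) .leaf) (252605, 0, 17, 201123) (.node .leaf (252610, 0, 16, 173181) .leaf))) (252611, 0, 16, 109792) (.node (.node (.node .leaf (252614, 0, 17, 101075) .leaf) (252615, 0, 18, 163128)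 (.node .leaf (252618, 0, 17, 204626) .leaf)) (252619, 0, 18, 83580) (.node (.node .leaf (252622, 0, 18, 47302) .leaf) (252623, 0, 14, 22688) (.node .leaf (252624, 0, 16, 101389) .leaf))))) (252625, 0, 11, 12900) (.node (.node (.node (.node (.node .leaf (252628, 0, 17, 5207) .leaf) (252629, 0, 17, 150905) (.node .leaf (252632, 0, 14, 164310) .leaf)) (252633, 0, 17, 55544) (.node (.node .leaf (252636, 0, 16, 233654) .leaf) (252637, 0, 16, 174053) (.node .leaf (252642, 0, 18, 166084) .leaf))) (252643, 0, 14, 53738) (.node (.node (.node .leaf (252646, 0, 17, 63449) .leaf) (252647, 0, 15, 95949) (.node .leaf (252650, 0, 16, 156248) .leaf)) (252651, 0, 15, 15222) (.node (.node .leaf (252654, 0, 15, 242483) .leaf) (252655, 0, 13, 148587) (.node .leaf (252656, 0, 16, 202304) .leaf)))) (252657, 0, 15, 85870) (.node (.node (.node (.node .leaf (252660, 0, 14, 92509) .leaf) (252661, 0, 18, 209011) (.node .leaf (252664, 0, 16, 41568) .leaf)) (252665, 0, 15, 16902) (.node (.node .leaf (252668, 0, 17, 39747) .leaf) (252669, 0, 14, 252655)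 (.node .leaf (252674, 0, 13, 64206) .leaf))) (252675, 0, 18, 7139) (.node (.node (.node .leaf (252678, 0, 17, 165331) .leaf) (252679, 0, 17, 8896) (.node .leaf (252682, 0, 18, 4178) .leaf)) (252683, 0, 17, 149884) (.node (.node .leaf (252686, 0, 16, 159567) .leaf) (252687, 0, 15, 13921) (.node .leaf (252688, 0, 14, 250869) .leaf))))))

/-- part of the orbit tree -/
def itp7_363 : Tree := (.node (.node (.node (.node (.node (.node .leaf (252692, 0, 13, 203607) .leaf) (252693, 0, 16, 199344) (.node .leaf (252696, 0, 17, 128621) .leaf)) (252697, 0, 12, 251896) (.node (.node .leaf (252700, 0, 15, 118606) .leaf) (252701, 0, 17, 108773) (.node .leaf (252706, 0, 16, 100292) .leaf))) (252707, 0, 13, 200726) (.node (.node (.node .leaf (252710, 0, 18, 260313) .leaf) (252711, 0, 16, 106999) (.node .leaf (252714, 0, 16, 120296) .leaf)) (252715, 0, 18, 79246) (.node (.node .leaf (252718, 0, 18, 126155) .leaf) (252719, 0, 16, 68781) (.node .leaf (252720, 0, 15, 6464) .leaf)))) (252721, 0, 14, 147566) (.node (.node (.node (.node .leaf (252724,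 0, 13, 57635) .leaf) (252725, 0, 15, 325) (.node .leaf (252728, 0, 13, 62428) .leaf)) (252729, 0, 17, 174834) (.node (.node .leaf (252732, 0, 16, 181435) .leaf) (252733, 0, 16, 140509) (.node .leaf (252738, 0, 16, 233731) .leaf))) (252739, 0, 17, 225637) (.node (.node (.node .leaf (252742, 0, 16, 187737) .leaf) (252743, 0, 18, 215110) (.node .leaf (252746, 0, 14, 111771) .leaf)) (252747, 0, 16, 135670) (.node (.node .leaf (252750, 0, 14, 101816) .leaf) (252751, 0, 15, 28395) (.node .leaf (252752, 0, 7, 47475) .leaf))))) (252753, 0, 15, 222702) (.node (.node (.node (.node (.node .leaf (252756, 0, 17, 213981) .leaf) (252757, 0, 16, 72435) (.node .leaf (252760, 0, 17, 120412) .leaf)) (252761, 0, 15, 162957) (.node (.node .leaf (252764, 0, 14, 239937) .leaf) (252765, 0, 15, 148910) (.node .leaf (252770, 0, 11, 39670) .leaf))) (252771, 0, 18, 231008) (.node (.node (.node .leaf (252774, 0, 16, 41941) .leaf) (252775, 0, 17, 17331) (.node .leaf (252778, 0, 16, 180078) .leaf)) (252779, 0, 14, 224508) (.node (.node .leaf (252782, 0,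 15, 215759) .leaf) (252783, 0, 17, 70625) (.node .leaf (252784, 0, 16, 16842) .leaf)))) (252785, 0, 17, 217824) (.node (.node (.node (.node .leaf (252788, 0, 17, 147159) .leaf) (252789, 0, 14, 26617) (.node .leaf (252792, 0, 15, 104222) .leaf)) (252793, 0, 17, 193144) (.node (.node .leaf (252796, 0, 16, 110141) .leaf) (252797, 0, 15, 85595) (.node .leaf (252802, 0, 14, 215719) .leaf))) (252803, 0, 13, 70537) (.node (.node (.node .leaf (252806, 0, 18, 79290) .leaf) (252807, 0, 16, 224404) (.node .leaf (252810, 0, 17, 237627) .leaf)) (252811, 0, 17, 129301) (.node (.node .leaf (252814, 0, 17, 28724) .leaf) (252815, 0, 15, 36946) (.node .leaf (252816, 0, 15, 185379) .leaf))))))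

/-- part of the orbit tree -/
def itp7_364 : Tree := (.node (.node (.node (.node (.node (.node .leaf (252820, 0, 16, 97756) .leaf) (252821, 0, 18, 105914) (.node .leaf (252824, 0, 15, 221543) .leaf)) (252825, 0, 15, 229633) (.node (.node .leaf (252828, 0, 15, 16802) .leaf) (252829, 0, 15, 243746) (.node .leaf (252834, 0, 14, 92026) .leaf))) (252835, 0, 17, 28291) (.node (.node (.node .leaf (252838, 0, 17, 89689) .leaf) (252839, 0, 15, 114239) (.node .leaf (252842, 0, 17, 187697) .leaf)) (252843, 0, 16, 238212) (.node (.node .leaf (252846, 0, 17, 41516) .leaf) (252847, 0, 13, 195330) (.node .leaf (252848, 0, 16, 239913) .leaf)))) (252849, 0, 16, 175980) (.node (.node (.node (.node .leaf (252852, 0, 18, 120372) .leaf) (252853, 0, 16, 169551) (.node .leaf (252856, 0, 15, 213941) .leaf)) (252857, 0, 17, 35572) (.node (.node .leaf (252860, 0, 14, 81064) .leaf) (252861, 0, 15, 46039) (.node .leaf (252866, 0, 17, 67081) .leaf))) (252867, 0, 13, 124527) (.node (.node (.node .leaf (252870, 0, 18, 93488) .leaf) (252871, 0, 16, 209950)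 (.node .leaf (252874, 0, 19, 260273) .leaf)) (252875, 0, 15, 246775) (.node (.node .leaf (252878, 0, 15, 203442) .leaf) (252879, 0, 12, 260820) (.node .leaf (252880, 0, 16, 142969) .leaf))))) (252881, 0, 13, 183839) (.node (.node (.node (.node (.node .leaf (252884, 0, 16, 137050) .leaf) (252885, 0, 18, 194364) (.node .leaf (252888, 0, 15, 157237) .leaf)) (252889, 0, 16, 16155) (.node (.node .leaf (252892, 0, 17, 12994) .leaf) (252893, 0, 18, 53924) (.node .leaf (252898, 0, 17, 134652) .leaf))) (252899, 0, 16, 191898) (.node (.node (.node .leaf (252902, 0, 15, 4154) .leaf) (252903, 0, 14, 149780) (.node .leaf (252906, 0, 12, 10340) .leaf)) (252907, 0, 14, 51202) (.node (.node .leaf (252910, 0, 16, 64166) .leaf) (252911, 0, 18, 172936) (.node .leaf (252912, 0, 16, 258467) .leaf)))) (252913, 0, 12, 116202) (.node (.node (.node (.node .leaf (252916, 0, 12, 102078) .leaf) (252917, 0, 14, 251792) (.node .leaf (252920, 0, 17, 203583) .leaf)) (252921, 0, 17, 82449) (.node (.node .leaf (252924, 0, 17, 211255) .leaf) (252925, 0, 16,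 212236) (.node .leaf (252929, 0, 15, 173225) .leaf))) (252931, 0, 15, 167759) (.node (.node (.node .leaf (252933, 0, 16, 56244) .leaf) (252935, 0, 18, 177772) (.node .leaf (252937, 0, 17, 129778) .leaf)) (252939, 0, 15, 108103) (.node (.node .leaf (252941, 0, 14, 115665) .leaf) (252943, 0, 18, 252250) (.node .leaf (252944, 0, 9, 83801) .leaf))))))

/-- part of the orbit tree -/
def itp7_365 : Tree := (.node itp7_361 (252561, 0, 15, 132845) itp7_362)

/-- part of the orbit tree -/
def itp7_366 : Tree := (.node itp7_363 (252817, 0, 16, 107673) itp7_364)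

/-- part of the orbit tree -/
def itp7_367 : Tree := (.node (.node (.node (.node (.node (.node .leaf (252948, 0, 16, 62572) .leaf) (252950, 0, 19, 203806) (.node .leaf (252952, 0, 19, 221889) .leaf)) (252954, 0, 15, 144100) (.node (.node .leaf (252956, 0, 16, 7920) .leaf) (252958, 0, 19, 259714) (.node .leaf (252961, 0, 13, 54431) .leaf))) (252963, 0, 11, 99514) (.node (.node (.node .leaf (252965, 0, 16, 108222) .leaf) (252967, 0, 15, 114073) (.node .leaf (252969, 0, 17, 192775) .leaf)) (252971, 0, 17, 237858) (.node (.node .leaf (252973, 0, 18, 182308) .leaf) (252975, 0, 16, 235521) (.node .leaf (252976, 0, 17, 150700) .leaf)))) (252978, 0, 17, 203913) (.node (.node (.node (.node .leaf (252980, 0, 17, 161167) .leaf) (252982, 0, 15, 206250) (.node .leaf (252984, 0, 16, 26932) .leaf)) (252986, 0, 14, 80145) (.node (.node .leaf (252988, 0, 15, 91130) .leaf) (252990, 0, 18, 166792) (.node .leaf (252993, 0, 18, 46572) .leaf))) (252995, 0, 17, 70737) (.node (.node (.node .leaf (252997, 0, 17, 33598) .leaf) (252999, 0, 16, 122090)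 (.node .leaf (253001, 0, 17, 136895) .leaf)) (253003, 0, 14, 245841) (.node (.node .leaf (253005, 0, 16, 27042) .leaf) (253007, 0, 15, 260466) (.node .leaf (253008, 0, 16, 185339) .leaf))))) (253010, 0, 15, 80777) (.node (.node (.node (.node (.node .leaf (253012, 0, 14, 136444) .leaf) (253014, 0, 8, 214233) (.node .leaf (253016, 0, 16, 145767) .leaf)) (253018, 0, 16, 88162) (.node (.node .leaf (253020, 0, 18, 12644) .leaf) (253022, 0, 18, 241160) (.node .leaf (253025, 0, 17, 229673) .leaf))) (253027, 0, 13, 26971) (.node (.node (.node .leaf (253029, 0, 16, 231226) .leaf) (253031, 0, 17, 186143) (.node .leaf (253033, 0, 15, 105345) .leaf)) (253035, 0, 15, 33735) (.node (.node .leaf (253037, 0, 8, 107170) .leaf) (253039, 0, 16, 195802) (.node .leaf (253040, 0, 18, 241393) .leaf)))) (253042, 0, 18, 30223) (.node (.node (.node (.node .leaf (253044, 0, 14, 119276) .leaf) (253046, 0, 16, 20268) (.node .leaf (253048, 0, 15, 197554) .leaf)) (253050, 0, 15, 152471) (.node (.node .leaf (253052, 0, 10, 80752) .leaf) (253054, 0, 17, 158388)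 (.node .leaf (253057, 0, 15, 84064) .leaf))) (253059, 0, 14, 195762) (.node (.node (.node .leaf (253061, 0, 16, 224221) .leaf) (253063, 0, 17, 8550) (.node .leaf (253065, 0, 15, 224760) .leaf)) (253067, 0, 15, 146909) (.node (.node .leaf (253069, 0, 15, 229697) .leaf) (253071, 0, 16, 26931) (.node .leaf (253072, 0, 16, 249939) .leaf))))))

/-- part of the orbit tree -/
def itp7_368 : Tree := (.node (.node (.node (.node (.node (.node .leaf (253076, 0, 17, 256368) .leaf) (253078, 0, 17, 178517) (.node .leaf (253080, 0, 17, 119172) .leaf)) (253082, 0, 17, 145910) (.node (.node .leaf (253084, 0, 17, 241305) .leaf) (253086, 0, 18, 18155) (.node .leaf (253089, 0, 8, 27082) .leaf))) (253091, 0, 15, 229816) (.node (.node (.node .leaf (253093, 0, 18, 136919) .leaf) (253095, 0, 16, 207507) (.node .leaf (253097, 0, 17, 26125) .leaf)) (253099, 0, 17, 79400) (.node (.node .leaf (253101, 0, 17, 24366) .leaf) (253103, 0, 15, 70713) (.node .leaf (253104, 0, 15, 56230) .leaf)))) (253106, 0, 17, 101251) (.node (.node (.node (.node .leaf (253108,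 0, 16, 57989) .leaf) (253110, 0, 18, 119165) (.node .leaf (253112, 0, 17, 196158) .leaf)) (253114, 0, 18, 214268) (.node (.node .leaf (253116, 0, 16, 182045) .leaf) (253118, 0, 15, 80865) (.node .leaf (253121, 0, 16, 85066) .leaf))) (253123, 0, 17, 225987) (.node (.node (.node .leaf (253125, 0, 15, 138181) .leaf) (253127, 0, 12, 56101) (.node .leaf (253129, 0, 11, 108246) .leaf)) (253131, 0, 16, 151204) (.node (.node .leaf (253133, 0, 13, 15965) .leaf) (253135, 0, 14, 12729) (.node .leaf (253136, 0, 16, 91026) .leaf))))) (253138, 0, 15, 166880) (.node (.node (.node (.node (.node .leaf (253140, 0, 12, 203919) .leaf) (253142, 0, 14, 62717) (.node .leaf (253144, 0, 18, 100622) .leaf)) (253146, 0, 16, 249704) (.node (.node .leaf (253148, 0, 17, 259603) .leaf) (253150, 0, 14, 7777) (.node .leaf (253153, 0, 15, 76051) .leaf))) (253155, 0, 15, 31030) (.node (.node (.node .leaf (253157, 0, 17, 69680) .leaf) (253159, 0, 16, 16405) (.node .leaf (253161, 0, 16, 199819) .leaf)) (253163, 0, 15, 209838) (.node (.node .leaf (253165, 0, 15,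 210344) .leaf) (253167, 0, 19, 85171) (.node .leaf (253168, 0, 16, 241952) .leaf)))) (253170, 0, 11, 259818) (.node (.node (.node (.node .leaf (253172, 0, 14, 231427) .leaf) (253174, 0, 15, 186406) (.node .leaf (253176, 0, 16, 103608) .leaf)) (253178, 0, 17, 203894) (.node (.node .leaf (253180, 0, 14, 109979) .leaf) (253182, 0, 13, 90987) (.node .leaf (253185, 0, 15, 148298) .leaf))) (253187, 0, 13, 109368) (.node (.node (.node .leaf (253189, 0, 18, 15447) .leaf) (253191, 0, 15, 250917) (.node .leaf (253193, 0, 17, 153734) .leaf)) (253195, 0, 17, 198819) (.node (.node .leaf (253197, 0, 16, 156069) .leaf) (253199, 0, 16, 209280) (.node .leaf (253200, 0, 13, 189741) .leaf))))))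

/-- part of the orbit tree -/
def itp7_369 : Tree := (.node (.node (.node (.node (.node (.node .leaf (253204, 0, 16, 187406) .leaf) (253206, 0, 17, 261117) (.node .leaf (253208, 0, 14, 49333) .leaf)) (253210, 0, 18, 102544) (.node (.node .leaf (253212, 0, 17, 63894) .leaf) (253214, 0, 16, 201057) (.node .leaf (253217, 0, 17, 227051) .leaf))) (253219, 0, 16, 141006) (.node (.node (.node .leaf (253221, 0, 18, 82269) .leaf) (253223, 0, 13, 139245) (.node .leaf (253225, 0, 17, 251100) .leaf)) (253227, 0, 14, 854) (.node (.node .leaf (253229, 0, 16, 109505) .leaf) (253231, 0, 17, 148403) (.node .leaf (253232, 0, 15, 126680) .leaf)))) (253234, 0, 15, 48893) (.node (.node (.node (.node .leaf (253236, 0, 14, 120827) .leaf) (253238, 0, 18, 34782) (.node .leaf (253240, 0, 18, 260868) .leaf)) (253242, 0, 13, 170853) (.node (.node .leaf (253244, 0, 14, 258659) .leaf) (253246, 0, 16, 158827) (.node .leaf (253249, 0, 16, 202648) .leaf))) (253251, 0, 16, 149437) (.node (.node (.node .leaf (253253, 0, 15, 208571) .leaf) (253255, 0, 16, 163486)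 (.node .leaf (253257, 0, 15, 192860) .leaf)) (253259, 0, 17, 71982) (.node (.node .leaf (253261, 0, 17, 68387) .leaf) (253263, 0, 15, 23302) (.node .leaf (253264, 0, 15, 144408) .leaf))))) (253266, 0, 16, 121962) (.node (.node (.node (.node (.node .leaf (253268, 0, 15, 19205) .leaf) (253270, 0, 15, 59053) (.node .leaf (253272, 0, 18, 240179) .leaf)) (253274, 0, 16, 195094) (.node (.node .leaf (253276, 0, 17, 41369) .leaf) (253278, 0, 14, 181045) (.node .leaf (253281, 0, 16, 222922) .leaf))) (253283, 0, 15, 36536) (.node (.node (.node .leaf (253285, 0, 15, 72151) .leaf) (253287, 0, 17, 95595) (.node .leaf (253289, 0, 14, 232534) .leaf)) (253291, 0, 17, 223696) (.node (.node .leaf (253293, 0, 15, 131286) .leaf) (253295, 0, 16, 138041) (.node .leaf (253296, 0, 14, 215314) .leaf)))) (253298, 0, 18, 251003) (.node (.node (.node (.node .leaf (253300, 0, 16, 79375) .leaf) (253302, 0, 19, 257368) (.node .leaf (253304, 0, 17, 41414) .leaf)) (253306, 0, 18, 127459) (.node (.node .leaf (253308, 0, 17, 122003) .leaf) (253310, 0, 17, 116928)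 (.node .leaf (253313, 0, 15, 190996) .leaf))) (253315, 0, 17, 138065) (.node (.node (.node .leaf (253317, 0, 16, 232510) .leaf) (253319, 0, 18, 230162) (.node .leaf (253321, 0, 17, 53132) .leaf)) (253323, 0, 17, 192973) (.node (.node .leaf (253325, 0, 17, 63151) .leaf) (253327, 0, 12, 108170) (.node .leaf (253328, 0, 16, 29223) .leaf))))))

/-- part of the orbit tree -/
def itp7_370 : Tree := (.node (.node (.node (.node (.node (.node .leaf (253332, 0, 17, 238566) .leaf) (253334, 0, 16, 19348) (.node .leaf (253336, 0, 16, 153535) .leaf)) (253338, 0, 17, 187925) (.node (.node .leaf (253340, 0, 11, 215418) .leaf) (253342, 0, 16, 212665) (.node .leaf (253345, 0, 17, 123361) .leaf))) (253347, 0, 18, 45508) (.node (.node (.node .leaf (253349, 0, 16, 121026) .leaf) (253351, 0, 17, 35047) (.node .leaf (253353, 0, 17, 25781) .leaf)) (253355, 0, 17, 169052) (.node (.node .leaf (253357, 0, 17, 138152) .leaf) (253359, 0, 16, 127962) (.node .leaf (253360, 0, 18, 41457) .leaf)))) (253362, 0, 18, 141815) (.node (.node (.node (.node .leaf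 (253364, 0, 17, 188140) .leaf) (253366, 0, 17, 135380) (.node .leaf (253368, 0, 17, 89162) .leaf)) (253370, 0, 18, 3183) (.node (.node .leaf (253372, 0, 16, 91497) .leaf) (253374, 0, 17, 121858) (.node .leaf (253377, 0, 17, 109481) .leaf))) (253379, 0, 18, 53431) (.node (.node (.node .leaf (253381, 0, 14, 113073) .leaf) (253383, 0, 17, 59796) (.node .leaf (253385, 0, 15, 82229) .leaf)) (253387, 0, 17, 193839) (.node (.node .leaf (253389, 0, 17, 212520) .leaf) (253391, 0, 14, 183308) (.node .leaf (253392, 0, 15, 99441) .leaf))))) (253394, 0, 17, 149636) (.node (.node (.node (.node (.node .leaf (253396, 0, 15, 205186) .leaf) (253398, 0, 17, 4894) (.node .leaf (253400, 0, 12, 93933) .leaf)) (253402, 0, 17, 27932) (.node (.node .leaf (253404, 0, 12, 201200) .leaf) (253406, 0, 16, 63874) (.node .leaf (253409, 0, 15, 166759) .leaf))) (253411, 0, 17, 252738) (.node (.node (.node .leaf (253413, 0, 16, 174526) .leaf) (253415, 0, 18, 82380) (.node .leaf (253417, 0, 18, 15423) .leaf)) (253419, 0, 17, 130778) (.node (.node .leaf (253421,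 0, 16, 148258) .leaf) (253423, 0, 16, 116729) (.node .leaf (253424, 0, 12, 63867) .leaf)))) (253426, 0, 17, 82801) (.node (.node (.node (.node .leaf (253428, 0, 19, 10871) .leaf) (253430, 0, 13, 93716) (.node .leaf (253432, 0, 17, 145100) .leaf)) (253434, 0, 16, 222953) (.node (.node .leaf (253436, 0, 17, 158970) .leaf) (253438, 0, 14, 221130) (.node .leaf (253440, 0, 13, 63659) .leaf))) (253441, 0, 16, 172421) (.node (.node (.node .leaf (253442, 0, 18, 148313) .leaf) (253443, 0, 17, 172863) (.node .leaf (253444, 0, 17, 165814) .leaf)) (253445, 0, 18, 248377) (.node (.node .leaf (253446, 0, 16, 94148) .leaf) (253447, 0, 15, 170524) .leaf)))))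

/-- part of the orbit tree -/
def itp7_371 : Tree := (.node itp7_367 (253074, 0, 18, 163958) itp7_368)

/-- part of the orbit tree -/
def itp7_372 : Tree := (.node itp7_369 (253330, 0, 12, 144521) itp7_370)

/-- part of the orbit tree -/
def itp7_373 : Tree := (.node itp7_365 (252689, 0, 15, 209811) itp7_366)

/-- part of the orbit tree -/
def itp7_374 : Tree := (.node itp7_371 (253202, 0, 16, 242952) itp7_372)

/-- part of the orbit tree -/
def itp7_375 : Tree := (.node itp7_359 (251925, 0, 17, 33972) itp7_360)

/-- part of the orbit tree -/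
def itp7_376 : Tree := (.node itp7_373 (252946, 0, 17, 6012) itp7_374)

/-- part of the orbit tree -/
def itp7_377 : Tree := (.node itp7_345 (250389, 0, 10, 186072) itp7_346)

/-- part of the orbit tree -/
def itp7_378 : Tree := (.node itp7_375 (252433, 0, 16, 252551) itp7_376)

/-- part of the orbit tree -/
def itp7_379 : Tree := (.node itp7_315 (247322, 0, 14, 95642) itp7_316)

/-- part of the orbit tree -/
def itp7_380 : Tree := (.node itp7_377 (251410, 0, 12, 74512) itp7_378)

/-- part of the orbit tree -/
def itp7_381 : Tree := (.node (.node (.node (.node (.node (.node .leaf (253449, 0, 16, 150297) .leaf) (253450, 0, 18, 26305) (.node .leaf (253451, 0, 14, 107371) .leaf)) (253452, 0, 15, 69575) (.node (.node .leaf (253453, 0, 17, 126881) .leaf) (253454, 0, 18, 99672) (.node .leaf (253455, 0, 17, 49028) .leaf))) (253472, 0, 16, 6281) (.node (.node (.node .leaf (253473, 0, 17, 253071) .leaf) (253474, 0, 17, 84140) (.node .leaf (253475, 0, 16, 108746) .leaf)) (253476, 0, 14, 260796) (.node (.node .leaf (253477, 0, 16, 107410)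 .leaf) (253478, 0, 13, 4814) (.node .leaf (253479, 0, 16, 102889) .leaf)))) (253480, 0, 15, 146705) (.node (.node (.node (.node .leaf (253481, 0, 17, 187767) .leaf) (253482, 0, 17, 165711) (.node .leaf (253483, 0, 14, 232786) .leaf)) (253484, 0, 19, 200736) (.node (.node .leaf (253485, 0, 14, 189524) .leaf) (253486, 0, 13, 218135) (.node .leaf (253487, 0, 16, 172412) .leaf))) (253504, 0, 13, 31226) (.node (.node (.node .leaf (253505, 0, 16, 194831) .leaf) (253506, 0, 16, 215123) (.node .leaf (253507, 0, 18, 117177) .leaf)) (253508, 0, 17, 16601) (.node (.node .leaf (253509, 0, 16, 34322) .leaf) (253510, 0, 11, 69884) (.node .leaf (253511, 0, 16, 127130) .leaf))))) (253512, 0, 16, 19133) (.node (.node (.node (.node (.node .leaf (253513, 0, 12, 136083) .leaf) (253514, 0, 16, 238287) (.node .leaf (253515, 0, 17, 130017) .leaf)) (253516, 0, 16, 156993) (.node (.node .leaf (253517, 0, 16, 27790) .leaf) (253518, 0, 17, 210276) (.node .leaf (253519, 0, 16, 230652) .leaf))) (253536, 0, 15, 122155) (.node (.node (.node .leaf (253537,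 0, 18, 230405) .leaf) (253538, 0, 12, 139818) (.node .leaf (253539, 0, 17, 27767) .leaf)) (253540, 0, 14, 215852) (.node (.node .leaf (253541, 0, 16, 129816) .leaf) (253542, 0, 14, 137993) (.node .leaf (253543, 0, 18, 195439) .leaf)))) (253544, 0, 14, 79799) (.node (.node (.node (.node .leaf (253545, 0, 14, 112625) .leaf) (253546, 0, 15, 188357) (.node .leaf (253547, 0, 17, 59348) .leaf)) (253548, 0, 16, 215210) (.node (.node .leaf (253549, 0, 18, 70020) .leaf) (253550, 0, 19, 16017) (.node .leaf (253551, 0, 16, 57079) .leaf))) (253568, 0, 16, 215234) (.node (.node (.node .leaf (253569, 0, 16, 70124) .leaf) (253570, 0, 15, 54355) (.node .leaf (253571, 0, 17, 13365) .leaf)) (253572, 0, 15, 79839) (.node (.node .leaf (253573, 0, 17, 89395) .leaf) (253574, 0, 16, 188333) (.node .leaf (253575, 0, 11, 34435) .leaf))))))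

/-- part of the orbit tree -/
def itp7_382 : Tree := (.node (.node (.node (.node (.node (.node .leaf (253577, 0, 16, 213384) .leaf) (253578, 0, 6, 192971) (.node .leaf (253579, 0, 16, 135597) .leaf)) (253580, 0, 17, 235725) (.node (.node .leaf (253581, 0, 16, 230509) .leaf) (253582, 0, 15, 144689) (.node .leaf (253583, 0, 17, 141454) .leaf))) (253600, 0, 13, 144840) (.node (.node (.node .leaf (253601, 0, 17, 159717) .leaf) (253602, 0, 17, 253862) (.node .leaf (253603, 0, 16, 212928) .leaf)) (253604, 0, 15, 19157) (.node (.node .leaf (253605, 0, 14, 153286) .leaf) (253606, 0, 14, 238247) (.node .leaf (253607, 0, 14, 129929) .leaf)))) (253608, 0, 17, 43547) (.node (.node (.node (.node .leaf (253609, 0, 15, 19069) .leaf) (253610, 0, 12, 79654) (.node .leaf (253611, 0, 16, 72280) .leaf)) (253612, 0, 18, 37688) (.node (.node .leaf (253613, 0, 15, 29534) .leaf) (253614, 0, 15, 115485) (.node .leaf (253615, 0, 18, 74619) .leaf))) (253632, 0, 15, 200776) (.node (.node (.node .leaf (253633, 0, 14, 84326) .leaf) (253634, 0, 15, 63546)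 (.node .leaf (253635, 0, 17, 172308) .leaf)) (253636, 0, 16, 186323) (.node (.node .leaf (253637, 0, 12, 145333) .leaf) (253638, 0, 15, 165671) (.node .leaf (253639, 0, 14, 56841) .leaf))))) (253640, 0, 12, 260820) (.node (.node (.node (.node (.node .leaf (253641, 0, 17, 107514) .leaf) (253642, 0, 12, 105293) (.node .leaf (253643, 0, 17, 97067) .leaf)) (253644, 0, 15, 99785) (.node (.node .leaf (253645, 0, 17, 253159) .leaf) (253646, 0, 17, 159163) (.node .leaf (253647, 0, 16, 13461) .leaf))) (253664, 0, 17, 124165) (.node (.node (.node .leaf (253665, 0, 16, 13420) .leaf) (253666, 0, 14, 99632) (.node .leaf (253667, 0, 16, 21830) .leaf)) (253668, 0, 14, 4703) (.node (.node .leaf (253669, 0, 15, 80960) .leaf) (253670, 0, 15, 260653) (.node .leaf (253671, 0, 14, 27749) .leaf)))) (253672, 0, 14, 165854) (.node (.node (.node (.node .leaf (253673, 0, 15, 57072) .leaf) (253674, 0, 17, 94124) (.node .leaf (253675, 0, 16, 210562) .leaf)) (253676, 0, 16, 260542) (.node (.node .leaf (253677, 0, 15, 172525) .leaf) (253678, 0, 19, 200881)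 (.node .leaf (253679, 0, 16, 84383) .leaf))) (253696, 0, 15, 45320) (.node (.node (.node .leaf (253697, 0, 16, 20846) .leaf) (253698, 0, 14, 123181) (.node .leaf (253699, 0, 14, 65867) .leaf)) (253700, 0, 15, 34859) (.node (.node .leaf (253701, 0, 16, 26701) .leaf) (253702, 0, 13, 100391) (.node .leaf (253703, 0, 18, 79976) .leaf))))))

/-- part of the orbit tree -/
def itp7_383 : Tree := (.node (.node (.node (.node (.node (.node .leaf (253705, 0, 17, 175354) .leaf) (253706, 0, 18, 246965) (.node .leaf (253707, 0, 17, 83080) .leaf)) (253708, 0, 15, 175539) (.node (.node .leaf (253709, 0, 13, 54247) .leaf) (253710, 0, 13, 90811) (.node .leaf (253711, 0, 8, 211861) .leaf))) (253728, 0, 17, 90690) (.node (.node (.node .leaf (253729, 0, 15, 219803) .leaf) (253730, 0, 15, 191192) (.node .leaf (253731, 0, 13, 133822) .leaf)) (253732, 0, 17, 230366) (.node (.node .leaf (253733, 0, 14, 83057) .leaf) (253734, 0, 16, 185339) (.node .leaf (253735, 0, 17, 175107) .leaf)))) (253736, 0, 14, 100574) (.node (.node (.node (.node .leaf (253737,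 0, 15, 98051) .leaf) (253738, 0, 17, 53056) (.node .leaf (253739, 0, 17, 14722) .leaf)) (253740, 0, 17, 108102) (.node (.node .leaf (253741, 0, 17, 110317) .leaf) (253742, 0, 17, 8113) (.node .leaf (253743, 0, 16, 5637) .leaf))) (253760, 0, 18, 18370) (.node (.node (.node .leaf (253761, 0, 12, 138988) .leaf) (253762, 0, 17, 241584) (.node .leaf (253763, 0, 15, 158669) .leaf)) (253764, 0, 16, 254637) (.node (.node .leaf (253765, 0, 14, 25073) .leaf) (253766, 0, 14, 176776) (.node .leaf (253767, 0, 15, 231811) .leaf))))) (253768, 0, 17, 44382) (.node (.node (.node (.node (.node .leaf (253769, 0, 8, 193648) .leaf) (253770, 0, 18, 214316) (.node .leaf (253771, 0, 14, 20053) .leaf)) (253772, 0, 16, 116533) (.node (.node .leaf (253773, 0, 16, 75603) .leaf) (253774, 0, 13, 80433) (.node .leaf (253775, 0, 18, 221983) .leaf))) (253792, 0, 17, 53371) (.node (.node (.node .leaf (253793, 0, 17, 12317) .leaf) (253794, 0, 15, 98398) (.node .leaf (253795, 0, 14, 35732) .leaf)) (253796, 0, 18, 59736) (.node (.node .leaf (253797, 0, 16, 2366)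 .leaf) (253798, 0, 16, 44455) (.node .leaf (253799, 0, 15, 88347) .leaf)))) (253800, 0, 14, 194019) (.node (.node (.node (.node .leaf (253801, 0, 16, 231802) .leaf) (253802, 0, 15, 145446) (.node .leaf (253803, 0, 17, 214432) .leaf)) (253804, 0, 15, 241481) (.node (.node .leaf (253805, 0, 9, 142502) .leaf) (253806, 0, 15, 236773) (.node .leaf (253807, 0, 17, 228483) .leaf))) (253824, 0, 16, 241441) (.node (.node (.node .leaf (253825, 0, 17, 128527) .leaf) (253826, 0, 12, 226855) (.node .leaf (253827, 0, 15, 235073) .leaf)) (253828, 0, 14, 118844) (.node (.node .leaf (253829, 0, 14, 196423) .leaf) (253830, 0, 16, 216836) (.node .leaf (253831, 0, 12, 24928) .leaf))))))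

/-- part of the orbit tree -/
def itp7_384 : Tree := (.node (.node (.node (.node (.node (.node .leaf (253833, 0, 17, 58364) .leaf) (253834, 0, 18, 86975) (.node .leaf (253835, 0, 15, 111577) .leaf)) (253836, 0, 15, 15033) (.node (.node .leaf (253837, 0, 18, 56031) .leaf) (253838, 0, 18, 185042) (.node .leaf (253839, 0, 19, 35836) .leaf))) (253856, 0, 15, 77303) (.node (.node (.node .leaf (253857, 0, 14, 118161) .leaf) (253858, 0, 17, 80473) (.node .leaf (253859, 0, 17, 222071) .leaf)) (253860, 0, 15, 70868) (.node (.node .leaf (253861, 0, 14, 128178) .leaf) (253862, 0, 16, 17649) (.node .leaf (253863, 0, 14, 42135) .leaf)))) (253864, 0, 17, 145591) (.node (.node (.node (.node .leaf (253865, 0, 12, 256009) .leaf) (253866, 0, 15, 118981) (.node .leaf (253867, 0, 18, 178220) .leaf)) (253868, 0, 16, 209228) (.node (.node .leaf (253869, 0, 15, 138884) .leaf) (253870, 0, 17, 156009) (.node .leaf (253871, 0, 17, 128758) .leaf))) (253888, 0, 16, 260011) (.node (.node (.node .leaf (253889, 0, 16, 110213) .leaf) (253890, 0, 15, 7329)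 (.node .leaf (253891, 0, 16, 149239) .leaf)) (253892, 0, 15, 95655) (.node (.node .leaf (253893, 0, 17, 250264) .leaf) (253894, 0, 13, 9602) (.node .leaf (253895, 0, 14, 14826) .leaf))))) (253896, 0, 17, 223516) (.node (.node (.node (.node (.node .leaf (253897, 0, 14, 82969) .leaf) (253898, 0, 15, 62789) (.node .leaf (253899, 0, 13, 175211) .leaf)) (253900, 0, 16, 90666) (.node (.node .leaf (253901, 0, 16, 211716) .leaf) (253902, 0, 12, 131098) (.node .leaf (253903, 0, 15, 188540) .leaf))) (253920, 0, 18, 149361) (.node (.node (.node .leaf (253921, 0, 15, 173847) .leaf) (253922, 0, 17, 90835) (.node .leaf (253923, 0, 16, 211965) .leaf)) (253924, 0, 17, 163410) (.node (.node .leaf (253925, 0, 16, 175250) .leaf) (253926, 0, 17, 208503) (.node .leaf (253927, 0, 16, 83168) .leaf)))) (253928, 0, 16, 155709) (.node (.node (.node (.node .leaf (253929, 0, 11, 33423) .leaf) (253930, 0, 17, 100431) (.node .leaf (253931, 0, 18, 250209) .leaf)) (253932, 0, 18, 23498) (.node (.node .leaf (253933, 0, 19, 48044) .leaf) (253934, 0, 17, 68591)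 (.node .leaf (253935, 0, 16, 125833) .leaf))) (253953, 0, 13, 228848) (.node (.node (.node .leaf (253954, 0, 16, 136304) .leaf) (253956, 0, 16, 238773) (.node .leaf (253959, 0, 15, 143939) .leaf)) (253960, 0, 15, 112654) (.node (.node .leaf (253963, 0, 18, 42946) .leaf) (253965, 0, 17, 77997) (.node .leaf (253966, 0, 19, 33265) .leaf))))))

/-- part of the orbit tree -/
def itp7_385 : Tree := (.node itp7_381 (253576, 0, 14, 238174) itp7_382)

/-- part of the orbit tree -/
def itp7_386 : Tree := (.node itp7_383 (253832, 0, 17, 922) itp7_384)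

/-- part of the orbit tree -/
def itp7_387 : Tree := (.node (.node (.node (.node (.node (.node .leaf (253970, 0, 18, 25222) .leaf) (253972, 0, 19, 122080) (.node .leaf (253975, 0, 18, 17589) .leaf)) (253976, 0, 14, 221288) (.node (.node .leaf (253979, 0, 16, 184628) .leaf) (253981, 0, 16, 214619) (.node .leaf (253982, 0, 14, 174429) .leaf))) (253985, 0, 13, 30213) (.node (.node (.node .leaf (253986, 0, 16, 116294) .leaf) (253988, 0, 17, 196117) (.node .leaf (253991, 0, 17, 216905) .leaf)) (253992, 0, 17, 177147) (.node (.node .leaf (253995, 0, 18, 121544) .leaf) (253997, 0, 16, 158398) (.node .leaf (253998, 0, 15, 252669) .leaf)))) (254001, 0, 16, 44752) (.node (.node (.node (.node .leaf (254002, 0, 17, 73612) .leaf) (254004, 0, 18, 35043) (.node .leaf (254007, 0, 18, 80319) .leaf)) (254008, 0, 15, 52142) (.node (.node .leaf (254011, 0, 17, 240702) .leaf) (254013, 0, 15, 4843) (.node .leaf (254014, 0, 12, 107176) .leaf))) (254017, 0, 17, 261542) (.node (.node (.node .leaf (254018, 0, 12, 108341) .leaf) (254020, 0, 17, 52787)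 (.node .leaf (254023, 0, 16, 158409) .leaf)) (254024, 0, 16, 85524) (.node (.node .leaf (254027, 0, 16, 65352) .leaf) (254029, 0, 17, 134093) (.node .leaf (254030, 0, 15, 55675) .leaf))))) (254033, 0, 17, 159523) (.node (.node (.node (.node (.node .leaf (254034, 0, 18, 253792) .leaf) (254036, 0, 11, 177766) (.node .leaf (254039, 0, 16, 7231) .leaf)) (254040, 0, 17, 43741) (.node (.node .leaf (254043, 0, 14, 72350) .leaf) (254045, 0, 16, 204497) (.node .leaf (254046, 0, 16, 176013) .leaf))) (254049, 0, 15, 164012) (.node (.node (.node .leaf (254050, 0, 16, 175296) .leaf) (254052, 0, 17, 173727) (.node .leaf (254055, 0, 17, 161157) .leaf)) (254056, 0, 18, 121213) (.node (.node .leaf (254059, 0, 17, 98882) .leaf) (254061, 0, 18, 65592) (.node .leaf (254062, 0, 16, 107633) .leaf)))) (254065, 0, 17, 63066) (.node (.node (.node (.node .leaf (254066, 0, 16, 54421) .leaf) (254068, 0, 16, 53353) (.node .leaf (254071, 0, 15, 90421) .leaf)) (254072, 0, 14, 237864) (.node (.node .leaf (254075, 0, 18, 259252) .leaf) (254077, 0, 15, 227437)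 (.node .leaf (254078, 0, 14, 182318) .leaf))) (254081, 0, 18, 125690) (.node (.node (.node .leaf (254082, 0, 17, 23225) .leaf) (254084, 0, 15, 13174) (.node .leaf (254087, 0, 14, 33788) .leaf)) (254088, 0, 17, 208644) (.node (.node .leaf (254091, 0, 17, 171847) .leaf) (254093, 0, 16, 259649) (.node .leaf (254094, 0, 13, 209304) .leaf))))))

/-- part of the orbit tree -/
def itp7_388 : Tree := (.node (.node (.node (.node (.node (.node .leaf (254098, 0, 16, 140012) .leaf) (254100, 0, 16, 148864) (.node .leaf (254103, 0, 15, 259292) .leaf)) (254104, 0, 16, 53249) (.node (.node .leaf (254107, 0, 17, 59154) .leaf) (254109, 0, 16, 63026) (.node .leaf (254110, 0, 14, 83822) .leaf))) (254113, 0, 17, 92239) (.node (.node (.node .leaf (254114, 0, 17, 55571) .leaf) (254116, 0, 17, 145482) (.node .leaf (254119, 0, 14, 65312) .leaf)) (254120, 0, 17, 252925) (.node (.node .leaf (254123, 0, 12, 158369) .leaf) (254125, 0, 15, 64948) (.node .leaf (254126, 0, 14, 85495) .leaf)))) (254129, 0, 17, 204473) (.node (.node (.node (.node .leaf (254130,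 0, 16, 76057) .leaf) (254132, 0, 17, 211082) (.node .leaf (254135, 0, 17, 166358) .leaf)) (254136, 0, 16, 154788) (.node (.node .leaf (254139, 0, 15, 257255) .leaf) (254141, 0, 17, 165345) (.node .leaf (254142, 0, 16, 210338) .leaf))) (254145, 0, 15, 163964) (.node (.node (.node .leaf (254146, 0, 17, 208959) .leaf) (254148, 0, 17, 27644) (.node .leaf (254151, 0, 18, 121504) .leaf)) (254152, 0, 13, 196221) (.node (.node .leaf (254155, 0, 16, 128449) .leaf) (254157, 0, 12, 40135) (.node .leaf (254158, 0, 13, 76932) .leaf))))) (254161, 0, 15, 63529) (.node (.node (.node (.node (.node .leaf (254162, 0, 15, 232037) .leaf) (254164, 0, 14, 8556) (.node .leaf (254167, 0, 17, 240726) .leaf)) (254168, 0, 13, 34955) (.node (.node .leaf (254171, 0, 15, 80343) .leaf) (254173, 0, 18, 44728) (.node .leaf (254174, 0, 15, 218321) .leaf))) (254177, 0, 15, 101257) (.node (.node (.node .leaf (254178, 0, 14, 15306) .leaf) (254180, 0, 16, 71414) (.node .leaf (254183, 0, 15, 57999) .leaf)) (254184, 0, 16, 216695) (.node (.node .leaf (254187, 0, 17,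 196148) .leaf) (254189, 0, 16, 238916) (.node .leaf (254190, 0, 16, 141169) .leaf)))) (254193, 0, 14, 259036) (.node (.node (.node (.node .leaf (254194, 0, 15, 148383) .leaf) (254196, 0, 14, 207513) (.node .leaf (254199, 0, 16, 184668) .leaf)) (254200, 0, 17, 128385) (.node (.node .leaf (254203, 0, 12, 17629) .leaf) (254205, 0, 16, 126823) (.node .leaf (254206, 0, 17, 24356) .leaf))) (254209, 0, 16, 57220) (.node (.node (.node .leaf (254210, 0, 16, 193427) .leaf) (254212, 0, 15, 222460) (.node .leaf (254215, 0, 18, 112258) .leaf)) (254216, 0, 14, 127357) (.node (.node .leaf (254219, 0, 16, 16417) .leaf) (254221, 0, 16, 181055) (.node .leaf (254222, 0, 13, 26130) .leaf))))))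

/-- part of the orbit tree -/
def itp7_389 : Tree := (.node (.node (.node (.node (.node (.node .leaf (254226, 0, 15, 34149) .leaf) (254228, 0, 15, 163476) (.node .leaf (254231, 0, 13, 249559) .leaf)) (254232, 0, 14, 231307) (.node (.node .leaf (254235, 0, 8, 145111) .leaf) (254237, 0, 15, 238008) (.node .leaf (254238, 0, 15, 135396) .leaf))) (254241, 0, 15, 250993) (.node (.node (.node .leaf (254242, 0, 18, 233113) .leaf) (254244, 0, 15, 199988) (.node .leaf (254247, 0, 13, 239786) .leaf)) (254248, 0, 18, 35959) (.node (.node .leaf (254251, 0, 16, 81195) .leaf) (254253, 0, 15, 116938) (.node .leaf (254254, 0, 16, 30857) .leaf)))) (254257, 0, 15, 109604) (.node (.node (.node (.node .leaf (254258, 0, 16, 7271) .leaf) (254260, 0, 15, 28416) (.node .leaf (254263, 0, 13, 50466) .leaf)) (254264, 0, 17, 195201) (.node (.node .leaf (254267, 0, 16, 216029) .leaf) (254269, 0, 17, 241823) (.node .leaf (254270, 0, 16, 224750) .leaf))) (254273, 0, 16, 242946) (.node (.node (.node .leaf (254274, 0, 11, 174873) .leaf) (254276, 0, 13, 224327)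 (.node .leaf (254279, 0, 18, 187396) .leaf)) (254280, 0, 18, 109047) (.node (.node .leaf (254283, 0, 15, 49343) .leaf) (254285, 0, 14, 102340) (.node .leaf (254286, 0, 17, 16024) .leaf))))) (254289, 0, 15, 93363) (.node (.node (.node (.node (.node .leaf (254290, 0, 16, 56815) .leaf) (254292, 0, 16, 84608) (.node .leaf (254295, 0, 18, 64476) .leaf)) (254296, 0, 17, 253697) (.node (.node .leaf (254299, 0, 16, 178410) .leaf) (254301, 0, 14, 260402) (.node .leaf (254302, 0, 15, 149614) .leaf))) (254305, 0, 16, 48887) (.node (.node (.node .leaf (254306, 0, 11, 251411) .leaf) (254308, 0, 15, 26546) (.node .leaf (254311, 0, 18, 120817) .leaf)) (254312, 0, 15, 162569) (.node (.node .leaf (254315, 0, 17, 91553) .leaf) (254317, 0, 15, 172620) (.node .leaf (254318, 0, 17, 82834) .leaf)))) (254321, 0, 17, 4537) (.node (.node (.node (.node .leaf (254322, 0, 17, 227041) .leaf) (254324, 0, 15, 139239) (.node .leaf (254327, 0, 17, 100054) .leaf)) (254328, 0, 18, 172555) (.node (.node .leaf (254331, 0, 18, 111391) .leaf) (254333, 0, 13, 55833)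 (.node .leaf (254334, 0, 16, 92762) .leaf))) (254337, 0, 13, 149646) (.node (.node (.node .leaf (254338, 0, 17, 260301) .leaf) (254340, 0, 16, 54421) (.node .leaf (254343, 0, 13, 205192) .leaf)) (254344, 0, 16, 147732) (.node (.node .leaf (254347, 0, 14, 81203) .leaf) (254349, 0, 15, 157479) (.node .leaf (254350, 0, 18, 251515) .leaf))))))

/-- part of the orbit tree -/
def itp7_390 : Tree := (.node (.node (.node (.node (.node (.node .leaf (254354, 0, 16, 210188) .leaf) (254356, 0, 14, 172643) (.node .leaf (254359, 0, 17, 88541) .leaf)) (254360, 0, 16, 193829) (.node (.node .leaf (254363, 0, 13, 214374) .leaf) (254365, 0, 12, 142432) (.node .leaf (254366, 0, 13, 236579) .leaf))) (254369, 0, 18, 82811) (.node (.node (.node .leaf (254370, 0, 17, 16112) .leaf) (254372, 0, 14, 105022) (.node .leaf (254375, 0, 16, 6339) .leaf)) (254376, 0, 11, 211998) (.node (.node .leaf (254379, 0, 13, 167234) .leaf) (254381, 0, 17, 221120) (.node .leaf (254382, 0, 15, 174961) .leaf)))) (254385, 0, 17, 211758) (.node (.node (.node (.node .leaf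 (254386, 0, 15, 149510) .leaf) (254388, 0, 17, 253801) (.node .leaf (254391, 0, 18, 159285) .leaf)) (254392, 0, 15, 130768) (.node (.node .leaf (254395, 0, 18, 64436) .leaf) (254397, 0, 17, 75669) (.node .leaf (254398, 0, 17, 56711) .leaf))) (254401, 0, 11, 43564) (.node (.node (.node .leaf (254402, 0, 15, 72560) .leaf) (254404, 0, 14, 129869) (.node .leaf (254407, 0, 17, 81219) .leaf)) (254408, 0, 13, 137630) (.node (.node .leaf (254411, 0, 17, 239810) .leaf) (254413, 0, 14, 212659) (.node .leaf (254414, 0, 16, 233201) .leaf))))) (254417, 0, 14, 219741) (.node (.node (.node (.node (.node .leaf (254418, 0, 15, 191006) .leaf) (254420, 0, 18, 195305) (.node .leaf (254423, 0, 18, 215989) .leaf)) (254424, 0, 12, 106403) (.node (.node .leaf (254427, 0, 14, 122420) .leaf) (254429, 0, 19, 18779) (.node .leaf (254430, 0, 17, 129031) .leaf))) (254433, 0, 17, 120614) (.node (.node (.node .leaf (254434, 0, 16, 235966) .leaf) (254436, 0, 15, 127253) (.node .leaf (254439, 0, 15, 16457) .leaf)) (254440, 0, 16, 60419) (.node (.node .leaf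 (254443, 0, 17, 89152) .leaf) (254445, 0, 17, 13638) (.node .leaf (254446, 0, 14, 99589) .leaf)))) (254449, 0, 17, 20904) (.node (.node (.node (.node .leaf (254450, 0, 15, 135308) .leaf) (254452, 0, 17, 231395) (.node .leaf (254455, 0, 17, 80046) .leaf)) (254456, 0, 19, 169046) (.node (.node .leaf (254459, 0, 18, 41790) .leaf) (254461, 0, 16, 150803) (.node .leaf (254462, 0, 14, 261456) .leaf))) (254464, 0, 15, 242150) (.node (.node (.node .leaf (254465, 0, 15, 217472) .leaf) (254470, 0, 17, 186592) (.node .leaf (254471, 0, 15, 145263) .leaf)) (254474, 0, 16, 195520) (.node (.node .leaf (254475, 0, 16, 9277) .leaf) (254476, 0, 19, 224431) .leaf)))))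

/-- part of the orbit tree -/
def itp7_391 : Tree := (.node itp7_387 (254097, 0, 13, 234159) itp7_388)

/-- part of the orbit tree -/
def itp7_392 : Tree := (.node itp7_389 (254353, 0, 17, 164944) itp7_390)

/-- part of the orbit tree -/
def itp7_393 : Tree := (.node itp7_385 (253704, 0, 18, 62932) itp7_386)

/-- part of the orbit tree -/
def itp7_394 : Tree := (.node itp7_391 (254225, 0, 17, 174033) itp7_392)

/-- part of the orbit tree -/
def itp7_395 : Tree := (.node (.node (.node (.node (.node (.node .leaf (254480, 0, 16, 233432) .leaf) (254481, 0, 17, 76245) (.node .leaf (254486, 0, 16, 137399) .leaf)) (254487, 0, 17, 16793) (.node (.node .leaf (254490, 0, 14, 36150) .leaf) (254491, 0, 15, 185368) (.node .leaf (254492, 0, 11, 251144) .leaf))) (254493, 0, 15, 213879) (.node (.node (.node .leaf (254496, 0, 17, 47635) .leaf) (254497, 0, 17, 23157) (.node .leaf (254502, 0, 13, 119573) .leaf)) (254503, 0, 13, 78707) (.node (.node .leaf (254506, 0, 16, 231114) .leaf) (254507, 0, 14, 208840) (.node .leaf (254508, 0, 14, 173736)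 .leaf)))) (254509, 0, 15, 149198) (.node (.node (.node (.node .leaf (254512, 0, 16, 180806) .leaf) (254513, 0, 13, 139808) (.node .leaf (254518, 0, 17, 240448) .leaf)) (254519, 0, 16, 81043) (.node (.node .leaf (254522, 0, 17, 127036) .leaf) (254523, 0, 18, 87965) (.node .leaf (254524, 0, 16, 26451) .leaf))) (254525, 0, 15, 16027) (.node (.node (.node .leaf (254528, 0, 15, 56160) .leaf) (254529, 0, 15, 15110) (.node .leaf (254534, 0, 16, 111206) .leaf)) (254535, 0, 15, 86528) (.node (.node .leaf (254538, 0, 16, 172874) .leaf) (254539, 0, 17, 216763) (.node .leaf (254540, 0, 16, 209957) .leaf))))) (254541, 0, 17, 141245) (.node (.node (.node (.node (.node .leaf (254544, 0, 16, 172853) .leaf) (254545, 0, 15, 102012) (.node .leaf (254550, 0, 15, 147517) .leaf)) (254551, 0, 13, 6419) (.node (.node .leaf (254554, 0, 15, 120456) .leaf) (254555, 0, 15, 167058) (.node .leaf (254556, 0, 11, 82643) .leaf))) (254557, 0, 16, 24552) (.node (.node (.node .leaf (254560, 0, 15, 250005) .leaf) (254561, 0, 17, 165248) (.node .leaf (254566, 0,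 16, 178579) .leaf)) (254567, 0, 14, 154101) (.node (.node .leaf (254570, 0, 14, 253504) .leaf) (254571, 0, 16, 17742) (.node .leaf (254572, 0, 18, 117806) .leaf)))) (254573, 0, 16, 4097) (.node (.node (.node (.node .leaf (254576, 0, 14, 174680) .leaf) (254577, 0, 12, 62326) (.node .leaf (254582, 0, 15, 49606) .leaf)) (254583, 0, 19, 8608) (.node (.node .leaf (254586, 0, 17, 187773) .leaf) (254587, 0, 18, 258456) (.node .leaf (254588, 0, 16, 242811) .leaf))) (254589, 0, 16, 157431) (.node (.node (.node .leaf (254592, 0, 19, 149831) .leaf) (254593, 0, 17, 116362) (.node .leaf (254598, 0, 16, 253480) .leaf)) (254599, 0, 16, 100102) (.node (.node .leaf (254602, 0, 17, 84905) .leaf) (254603, 0, 15, 201351) (.node .leaf (254604, 0, 19, 211543) .leaf))))))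

/-- part of the orbit tree -/
def itp7_396 : Tree := (.node (.node (.node (.node (.node (.node .leaf (254608, 0, 13, 220857) .leaf) (254609, 0, 13, 157343) (.node .leaf (254614, 0, 12, 108766) .leaf)) (254615, 0, 15, 186329) (.node (.node .leaf (254618, 0, 17, 11012) .leaf) (254619, 0, 13, 52066) (.node .leaf (254620, 0, 17, 174640) .leaf))) (254621, 0, 18, 62238) (.node (.node (.node .leaf (254624, 0, 16, 142617) .leaf) (254625, 0, 17, 183679) (.node .leaf (254630, 0, 11, 214047) .leaf)) (254631, 0, 16, 238713) (.node (.node .leaf (254634, 0, 17, 13987) .leaf) (254635, 0, 16, 112834) (.node .leaf (254636, 0, 16, 12706) .leaf)))) (254637, 0, 15, 53700) (.node (.node (.node (.node .leaf (254640, 0, 16, 21836) .leaf) (254641, 0, 16, 46378) (.node .leaf (254646, 0, 18, 80970) .leaf)) (254647, 0, 14, 121900) (.node (.node .leaf (254650, 0, 11, 205041) .leaf) (254651, 0, 14, 245911) (.node .leaf (254652, 0, 18, 150007) .leaf))) (254653, 0, 16, 101908) (.node (.node (.node .leaf (254656, 0, 15, 135629) .leaf) (254657, 0, 16, 175116)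 (.node .leaf (254662, 0, 17, 231074) .leaf)) (254663, 0, 12, 247050) (.node (.node .leaf (254666, 0, 15, 80343) .leaf) (254667, 0, 17, 215565) (.node .leaf (254668, 0, 17, 33868) .leaf))))) (254669, 0, 16, 187746) (.node (.node (.node (.node (.node .leaf (254672, 0, 15, 26427) .leaf) (254673, 0, 16, 54361) (.node .leaf (254678, 0, 18, 89401) .leaf)) (254679, 0, 16, 114015) (.node (.node .leaf (254682, 0, 14, 213378) .leaf) (254683, 0, 16, 81147) (.node .leaf (254684, 0, 14, 141444) .leaf))) (254685, 0, 15, 182498) (.node (.node (.node .leaf (254688, 0, 14, 224455) .leaf) (254689, 0, 14, 79337) (.node .leaf (254694, 0, 17, 195496) .leaf)) (254695, 0, 16, 41606) (.node (.node .leaf (254698, 0, 17, 28201) .leaf) (254699, 0, 17, 184900) (.node .leaf (254700, 0, 16, 129350) .leaf)))) (254701, 0, 14, 244546) (.node (.node (.node (.node .leaf (254704, 0, 15, 72241) .leaf) (254705, 0, 13, 213791) (.node .leaf (254710, 0, 16, 153292) .leaf)) (254711, 0, 17, 177834) (.node (.node .leaf (254714, 0, 13, 19063) .leaf) (254715, 0, 18, 43537)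 (.node .leaf (254716, 0, 14, 233392) .leaf))) (254717, 0, 17, 115479) (.node (.node (.node .leaf (254720, 0, 14, 73421) .leaf) (254721, 0, 15, 62452) (.node .leaf (254726, 0, 17, 96916) .leaf)) (254727, 0, 16, 105202) (.node (.node .leaf (254730, 0, 17, 222767) .leaf) (254731, 0, 14, 17677) (.node .leaf (254732, 0, 18, 232268) .leaf))))))

/-- part of the orbit tree -/
def itp7_397 : Tree := (.node (.node (.node (.node (.node (.node .leaf (254736, 0, 16, 158663) .leaf) (254737, 0, 17, 78101) (.node .leaf (254742, 0, 15, 196436) .leaf)) (254743, 0, 16, 42618) (.node (.node .leaf (254746, 0, 17, 27349) .leaf) (254747, 0, 17, 144379) (.node .leaf (254748, 0, 18, 30588) .leaf))) (254749, 0, 16, 38682) (.node (.node (.node .leaf (254752, 0, 18, 25543) .leaf) (254753, 0, 10, 260097) (.node .leaf (254758, 0, 15, 160097) .leaf)) (254759, 0, 14, 168199) (.node (.node .leaf (254762, 0, 17, 221481) .leaf) (254763, 0, 14, 79879) (.node .leaf (254764, 0, 16, 66780) .leaf)))) (254765, 0, 16, 44904) (.node (.node (.node (.node .leaf (254768,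 0, 17, 90162) .leaf) (254769, 0, 14, 98388) (.node .leaf (254774, 0, 16, 2356) .leaf)) (254775, 0, 16, 121712) (.node (.node .leaf (254778, 0, 17, 136591) .leaf) (254779, 0, 16, 216817) (.node .leaf (254780, 0, 15, 228489) .leaf))) (254781, 0, 14, 236783) (.node (.node (.node .leaf (254784, 0, 17, 83527) .leaf) (254785, 0, 17, 235890) (.node .leaf (254790, 0, 19, 53544) .leaf)) (254791, 0, 15, 165894) (.node (.node .leaf (254794, 0, 18, 148649) .leaf) (254795, 0, 13, 60623) (.node .leaf (254796, 0, 15, 91567) .leaf))))) (254797, 0, 15, 99785) (.node (.node (.node (.node (.node .leaf (254800, 0, 17, 65857) .leaf) (254801, 0, 14, 92575) (.node .leaf (254806, 0, 16, 174046) .leaf)) (254807, 0, 12, 34849) (.node (.node .leaf (254810, 0, 16, 12895) .leaf) (254811, 0, 14, 158577) (.node .leaf (254812, 0, 17, 204282) .leaf))) (254813, 0, 17, 261150) (.node (.node (.node .leaf (254816, 0, 16, 29409) .leaf) (254817, 0, 18, 37511) (.node .leaf (254822, 0, 17, 109602) .leaf)) (254823, 0, 17, 129921) (.node (.node .leaf (254826, 0, 14,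 198492) .leaf) (254827, 0, 16, 90253) (.node .leaf (254828, 0, 18, 175820) .leaf)))) (254829, 0, 17, 167484) (.node (.node (.node (.node .leaf (254832, 0, 12, 133812) .leaf) (254833, 0, 16, 5269) (.node .leaf (254838, 0, 18, 252628) .leaf)) (254839, 0, 14, 99322) (.node (.node .leaf (254842, 0, 17, 85845) .leaf) (254843, 0, 15, 106351) (.node .leaf (254844, 0, 18, 55354) .leaf))) (254845, 0, 15, 164116) (.node (.node (.node .leaf (254848, 0, 15, 175780) .leaf) (254849, 0, 14, 63370) (.node .leaf (254854, 0, 16, 257438) .leaf)) (254855, 0, 19, 90341) (.node (.node .leaf (254858, 0, 18, 109642) .leaf) (254859, 0, 16, 69955) (.node .leaf (254860, 0, 16, 15141) .leaf))))))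

/-- part of the orbit tree -/
def itp7_398 : Tree := (.node (.node (.node (.node (.node (.node .leaf (254864, 0, 19, 64717) .leaf) (254865, 0, 18, 164220) (.node .leaf (254870, 0, 15, 103883) .leaf)) (254871, 0, 14, 202259) (.node (.node .leaf (254874, 0, 17, 252604) .leaf) (254875, 0, 17, 99218) (.node .leaf (254876, 0, 15, 188534) .leaf))) (254877, 0, 16, 131088) (.node (.node (.node .leaf (254880, 0, 14, 102253) .leaf) (254881, 0, 18, 100992) (.node .leaf (254886, 0, 15, 58987) .leaf)) (254887, 0, 13, 1549) (.node (.node .leaf (254890, 0, 17, 195280) .leaf) (254891, 0, 10, 165998) (.node .leaf (254892, 0, 14, 83503) .leaf)))) (254893, 0, 17, 226224) (.node (.node (.node (.node .leaf (254896, 0, 16, 259896) .leaf) (254897, 0, 14, 202590) (.node .leaf (254902, 0, 15, 171582) .leaf)) (254903, 0, 15, 163416) (.node (.node .leaf (254906, 0, 16, 174006) .leaf) (254907, 0, 16, 25315) (.node .leaf (254908, 0, 13, 125827) .leaf))) (254909, 0, 17, 68581) (.node (.node (.node .leaf (254912, 0, 9, 126494) .leaf) (254913, 0, 16, 69240)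 (.node .leaf (254918, 0, 15, 221505) .leaf)) (254919, 0, 14, 79983) (.node (.node .leaf (254922, 0, 12, 128192) .leaf) (254923, 0, 17, 241134) (.node .leaf (254924, 0, 15, 25519) .leaf))))) (254925, 0, 15, 201411) (.node (.node (.node (.node (.node .leaf (254928, 0, 14, 32984) .leaf) (254929, 0, 16, 186870) (.node .leaf (254934, 0, 18, 196429) .leaf)) (254935, 0, 10, 216729) (.node (.node .leaf (254938, 0, 18, 229942) .leaf) (254939, 0, 16, 912) (.node .leaf (254940, 0, 17, 101104) .leaf))) (254941, 0, 17, 92822) (.node (.node (.node .leaf (254944, 0, 17, 232228) .leaf) (254945, 0, 18, 132493) (.node .leaf (254950, 0, 16, 232685) .leaf)) (254951, 0, 17, 224395) (.node (.node .leaf (254954, 0, 18, 35274) .leaf) (254955, 0, 17, 94256) (.node .leaf (254956, 0, 17, 73381) .leaf)))) (254957, 0, 15, 214923) (.node (.node (.node (.node .leaf (254960, 0, 17, 130514) .leaf) (254961, 0, 14, 238844) (.node .leaf (254966, 0, 17, 128184) .leaf)) (254967, 0, 19, 70878) (.node (.node .leaf (254970, 0, 17, 196412) .leaf) (254971, 0, 17, 198757)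 (.node .leaf (254972, 0, 18, 164101) .leaf))) (254973, 0, 16, 78205) (.node (.node (.node .leaf (254976, 0, 19, 193014) .leaf) (254978, 0, 16, 251675) (.node .leaf (254981, 0, 18, 186309) .leaf)) (254983, 0, 12, 200286) (.node (.node .leaf (254985, 0, 11, 17088) .leaf) (254987, 0, 18, 70373) (.node .leaf (254988, 0, 16, 25719) .leaf))))))

/-- part of the orbit tree -/
def itp7_399 : Tree := (.node itp7_395 (254605, 0, 17, 165352) itp7_396)

/-- part of the orbit tree -/
def itp7_400 : Tree := (.node itp7_397 (254861, 0, 17, 156171) itp7_398)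

/-- part of the orbit tree -/
def itp7_401 : Tree := (.node (.node (.node (.node (.node (.node .leaf (254992, 0, 11, 34560) .leaf) (254994, 0, 17, 225138) (.node .leaf (254997, 0, 18, 41267) .leaf)) (254999, 0, 18, 215361) (.node (.node .leaf (255001, 0, 16, 144562) .leaf) (255003, 0, 13, 122048) (.node .leaf (255004, 0, 15, 135809) .leaf))) (255006, 0, 16, 242677) (.node (.node (.node .leaf (255008, 0, 17, 101579) .leaf) (255010, 0, 16, 25742) (.node .leaf (255013, 0, 17, 87438) .leaf)) (255015, 0, 16, 17085) (.node (.node .leaf (255017, 0, 16, 215349) .leaf) (255019, 0, 17, 186172) (.node .leaf (255020, 0, 17, 72061) .leaf)))) (255022, 0, 15, 192783) (.node (.node (.node (.node .leaf (255024, 0, 14, 129546) .leaf) (255026, 0, 17, 135800) (.node .leaf (255029, 0, 14, 121913) .leaf)) (255031, 0, 16, 163326) (.node (.node .leaf (255033, 0, 12, 78176) .leaf) (255035, 0, 13, 41418) (.node .leaf (255036, 0, 19, 225163) .leaf))) (255038, 0, 14, 47104) (.node (.node (.node .leaf (255040, 0, 16, 174460) .leaf) (255042, 0, 10, 82190)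 (.node .leaf (255045, 0, 15, 79101) .leaf)) (255047, 0, 15, 91965) (.node (.node .leaf (255049, 0, 16, 6862) .leaf) (255051, 0, 17, 161891) (.node .leaf (255052, 0, 17, 15613) .leaf))))) (255054, 0, 18, 251023) (.node (.node (.node (.node (.node .leaf (255056, 0, 17, 234989) .leaf) (255058, 0, 16, 210936) (.node .leaf (255061, 0, 16, 216232) .leaf)) (255063, 0, 11, 138381) (.node (.node .leaf (255065, 0, 17, 158776) .leaf) (255067, 0, 17, 99402) (.node .leaf (255068, 0, 18, 100694) .leaf))) (255070, 0, 16, 107129) (.node (.node (.node .leaf (255072, 0, 13, 250998) .leaf) (255074, 0, 13, 15364) (.node .leaf (255077, 0, 16, 258629) .leaf)) (255079, 0, 18, 225069) (.node (.node .leaf (255081, 0, 16, 9139) .leaf) (255083, 0, 16, 167862) (.node .leaf (255084, 0, 18, 82423) .leaf)))) (255086, 0, 15, 109267) (.node (.node (.node (.node .leaf (255088, 0, 15, 107136) .leaf) (255090, 0, 14, 118333) (.node .leaf (255093, 0, 18, 18269) .leaf)) (255095, 0, 18, 158913) (.node (.node .leaf (255097, 0, 14, 154598) .leaf) (255099, 0, 15, 199619)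 (.node .leaf (255100, 0, 18, 210689) .leaf))) (255102, 0, 17, 57203) (.node (.node (.node .leaf (255104, 0, 16, 82335) .leaf) (255106, 0, 12, 81937) (.node .leaf (255109, 0, 12, 51569) .leaf)) (255111, 0, 17, 104788) (.node (.node .leaf (255113, 0, 16, 185802) .leaf) (255115, 0, 16, 6751) (.node .leaf (255116, 0, 18, 250910) .leaf))))))

/-- part of the orbit tree -/
def itp7_402 : Tree := (.node (.node (.node (.node (.node (.node .leaf (255120, 0, 16, 157793) .leaf) (255122, 0, 17, 211012) (.node .leaf (255125, 0, 17, 176420) .leaf)) (255127, 0, 15, 63784) (.node (.node .leaf (255129, 0, 15, 44447) .leaf) (255131, 0, 19, 158889) (.node .leaf (255132, 0, 15, 107240) .leaf))) (255134, 0, 18, 75007) (.node (.node (.node .leaf (255136, 0, 17, 203713) .leaf) (255138, 0, 16, 150500) (.node .leaf (255141, 0, 17, 246404) .leaf)) (255143, 0, 15, 168609) (.node (.node .leaf (255145, 0, 16, 122431) .leaf) (255147, 0, 16, 36378) (.node .leaf (255148, 0, 16, 174356) .leaf)))) (255150, 0, 17, 22367) (.node (.node (.node (.node .leaf (255152,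 0, 17, 91028) .leaf) (255154, 0, 18, 13233) (.node .leaf (255157, 0, 16, 158800) .leaf)) (255159, 0, 18, 60148) (.node (.node .leaf (255161, 0, 16, 63953) .leaf) (255163, 0, 17, 201123) (.node .leaf (255164, 0, 15, 229167) .leaf))) (255166, 0, 17, 210832) (.node (.node (.node .leaf (255168, 0, 17, 71957) .leaf) (255170, 0, 16, 141975) (.node .leaf (255173, 0, 14, 238583) .leaf)) (255175, 0, 15, 186196) (.node (.node .leaf (255177, 0, 17, 240295) .leaf) (255179, 0, 15, 17109) (.node .leaf (255180, 0, 12, 91657) .leaf))))) (255182, 0, 13, 25830) (.node (.node (.node (.node (.node .leaf (255184, 0, 16, 225251) .leaf) (255186, 0, 18, 21186) (.node .leaf (255189, 0, 18, 215504) .leaf)) (255191, 0, 18, 41378) (.node (.node .leaf (255193, 0, 14, 121937) .leaf) (255195, 0, 16, 144419) (.node .leaf (255196, 0, 16, 129634) .leaf))) (255198, 0, 13, 151161) (.node (.node (.node .leaf (255200, 0, 16, 28999) .leaf) (255202, 0, 17, 74082) (.node .leaf (255205, 0, 18, 16940) .leaf)) (255207, 0, 16, 240222) (.node (.node .leaf (255209, 0, 16,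 177337) .leaf) (255211, 0, 16, 255132) (.node .leaf (255212, 0, 17, 159228) .leaf)))) (255214, 0, 16, 72172) (.node (.node (.node (.node .leaf (255216, 0, 18, 133394) .leaf) (255218, 0, 16, 219447) (.node .leaf (255221, 0, 16, 144602) .leaf)) (255223, 0, 17, 229490) (.node (.node .leaf (255225, 0, 16, 41307) .leaf) (255227, 0, 13, 105673) (.node .leaf (255228, 0, 18, 34664) .leaf))) (255230, 0, 15, 83340) (.node (.node (.node .leaf (255232, 0, 17, 136725) .leaf) (255234, 0, 15, 130663) (.node .leaf (255237, 0, 14, 130063) .leaf)) (255239, 0, 16, 44074) (.node (.node .leaf (255241, 0, 18, 254132) .leaf) (255243, 0, 15, 176273) (.node .leaf (255244, 0, 13, 33684) .leaf))))))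

/-- part of the orbit tree -/
def itp7_403 : Tree := (.node (.node (.node (.node (.node (.node .leaf (255248, 0, 18, 24803) .leaf) (255250, 0, 18, 231569) (.node .leaf (255253, 0, 18, 18128) .leaf)) (255255, 0, 15, 185471) (.node (.node .leaf (255257, 0, 17, 185169) .leaf) (255259, 0, 11, 51396) (.node .leaf (255260, 0, 15, 193890) .leaf))) (255262, 0, 17, 72976) (.node (.node (.node .leaf (255264, 0, 13, 224031) .leaf) (255266, 0, 17, 229018) (.node .leaf (255269, 0, 7, 194554) .leaf)) (255271, 0, 16, 239583) (.node (.node .leaf (255273, 0, 17, 60225) .leaf) (255275, 0, 15, 143583) (.node .leaf (255276, 0, 16, 130718) .leaf)))) (255278, 0, 9, 90657) (.node (.node (.node (.node .leaf (255280, 0, 17, 22250) .leaf) (255282, 0, 18, 67279) (.node .leaf (255285, 0, 15, 80858) .leaf)) (255287, 0, 17, 122762) (.node (.node .leaf (255289, 0, 15, 241243) .leaf) (255291, 0, 13, 17961) (.node .leaf (255292, 0, 16, 150097) .leaf))) (255294, 0, 16, 203380) (.node (.node (.node .leaf (255296, 0, 16, 151500) .leaf) (255298, 0, 16, 108269)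 (.node .leaf (255301, 0, 18, 169609) .leaf)) (255303, 0, 12, 247468) (.node (.node .leaf (255305, 0, 13, 64813) .leaf) (255307, 0, 11, 121367) (.node .leaf (255308, 0, 13, 56094) .leaf))))) (255310, 0, 16, 209772) (.node (.node (.node (.node (.node .leaf (255312, 0, 14, 14233) .leaf) (255314, 0, 17, 92092) (.node .leaf (255317, 0, 16, 7770) .leaf)) (255319, 0, 17, 114425) (.node (.node .leaf (255321, 0, 15, 193127) .leaf) (255323, 0, 14, 91049) (.node .leaf (255324, 0, 15, 175592) .leaf))) (255326, 0, 17, 83354) (.node (.node (.node .leaf (255328, 0, 17, 83001) .leaf) (255330, 0, 17, 56295) (.node .leaf (255333, 0, 14, 105852) .leaf)) (255335, 0, 13, 64980) (.node (.node .leaf (255337, 0, 15, 229831) .leaf) (255339, 0, 17, 157781) (.node .leaf (255340, 0, 14, 108052) .leaf)))) (255342, 0, 17, 151142) (.node (.node (.node (.node .leaf (255344, 0, 6, 212076) .leaf) (255346, 0, 16, 158793) (.node .leaf (255349, 0, 18, 255273) .leaf)) (255351, 0, 15, 166690) (.node (.node .leaf (255353, 0, 15, 259793) .leaf) (255355, 0, 14, 43447)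 (.node .leaf (255356, 0, 16, 73943) .leaf))) (255358, 0, 17, 14480) (.node (.node (.node .leaf (255360, 0, 13, 108156) .leaf) (255362, 0, 17, 189029) (.node .leaf (255365, 0, 13, 98383) .leaf)) (255367, 0, 17, 157757) (.node (.node .leaf (255369, 0, 17, 96190) .leaf) (255371, 0, 14, 64956) (.node .leaf (255372, 0, 17, 110331) .leaf))))))

/-- part of the orbit tree -/
def itp7_404 : Tree := (.node (.node (.node (.node (.node (.node .leaf (255376, 0, 15, 117269) .leaf) (255378, 0, 13, 39472) (.node .leaf (255381, 0, 16, 259769) .leaf)) (255383, 0, 17, 17269) (.node (.node .leaf (255385, 0, 16, 90936) .leaf) (255387, 0, 15, 155598) (.node .leaf (255388, 0, 15, 251566) .leaf))) (255390, 0, 18, 165515) (.node (.node (.node .leaf (255392, 0, 15, 56182) .leaf) (255394, 0, 16, 209668) (.node .leaf (255397, 0, 14, 64837) .leaf)) (255399, 0, 14, 78037) (.node (.node .leaf (255401, 0, 13, 157892) .leaf) (255403, 0, 15, 207982) (.node .leaf (255404, 0, 17, 151287) .leaf)))) (255406, 0, 17, 259371) (.node (.node (.node (.node .leaf (255408,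 0, 18, 175488) .leaf) (255410, 0, 13, 83442) (.node .leaf (255413, 0, 15, 137381) .leaf)) (255415, 0, 15, 91073) (.node (.node .leaf (255417, 0, 16, 7730) .leaf) (255419, 0, 17, 259648) (.node .leaf (255420, 0, 17, 14337) .leaf))) (255422, 0, 15, 249971) (.node (.node (.node .leaf (255424, 0, 13, 55494) .leaf) (255426, 0, 18, 136836) (.node .leaf (255429, 0, 17, 387) .leaf)) (255431, 0, 12, 86438) (.node (.node .leaf (255433, 0, 17, 138552) .leaf) (255435, 0, 18, 216349) (.node .leaf (255436, 0, 14, 224119) .leaf))))) (255438, 0, 16, 33541) (.node (.node (.node (.node (.node .leaf (255440, 0, 16, 231424) .leaf) (255442, 0, 13, 24690) (.node .leaf (255445, 0, 15, 241203) .leaf)) (255447, 0, 15, 207347) (.node (.node .leaf (255449, 0, 16, 25965) .leaf) (255451, 0, 14, 79176) (.node .leaf (255452, 0, 16, 73089) .leaf))) (255454, 0, 15, 125965) (.node (.node (.node .leaf (255456, 0, 14, 33788) .leaf) (255458, 0, 16, 164630) (.node .leaf (255461, 0, 15, 42447) .leaf)) (255463, 0, 18, 154195) (.node (.node .leaf (255465, 0, 15, 143438)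 .leaf) (255467, 0, 17, 120892) (.node .leaf (255468, 0, 15, 136829) .leaf)))) (255470, 0, 14, 130575) (.node (.node (.node (.node .leaf (255472, 0, 13, 109414) .leaf) (255474, 0, 18, 73080) (.node .leaf (255477, 0, 15, 94755) .leaf)) (255479, 0, 15, 80715) (.node (.node .leaf (255481, 0, 14, 18104) .leaf) (255483, 0, 17, 241354) (.node .leaf (255484, 0, 13, 24715) .leaf))) (255486, 0, 17, 190456) (.node (.node (.node .leaf (255492, 0, 17, 35783) .leaf) (255493, 0, 18, 185065) (.node .leaf (255494, 0, 16, 246344) .leaf)) (255495, 0, 17, 205358) (.node (.node .leaf (255496, 0, 17, 138822) .leaf) (255497, 0, 17, 18280) .leaf)))))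

/-- part of the orbit tree -/
def itp7_405 : Tree := (.node itp7_401 (255118, 0, 12, 15468) itp7_402)

/-- part of the orbit tree -/
def itp7_406 : Tree := (.node itp7_403 (255374, 0, 15, 56207) itp7_404)

/-- part of the orbit tree -/
def itp7_407 : Tree := (.node itp7_399 (254733, 0, 16, 192335) itp7_400)

/-- part of the orbit tree -/
def itp7_408 : Tree := (.node itp7_405 (255246, 0, 15, 158164) itp7_406)

/-- part of the orbit tree -/
def itp7_409 : Tree := (.node itp7_393 (253969, 0, 17, 66981) itp7_394)

/-- part of the orbit tree -/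
def itp7_410 : Tree := (.node itp7_407 (254990, 0, 16, 117664) itp7_408)

/-- part of the orbit tree -/
def itp7_411 : Tree := (.node (.node (.node (.node (.node (.node .leaf (255499, 0, 15, 241434) .leaf) (255508, 0, 13, 195889) (.node .leaf (255509, 0, 17, 42015) .leaf)) (255510, 0, 18, 113181) (.node (.node .leaf (255511, 0, 16, 88699) .leaf) (255512, 0, 16, 26800) (.node .leaf (255513, 0, 15, 143774) .leaf))) (255514, 0, 18, 239270) (.node (.node (.node .leaf (255515, 0, 15, 121324) .leaf) (255524, 0, 16, 128717) (.node .leaf (255525, 0, 17, 241635) .leaf)) (255526, 0, 18, 51645) (.node (.node .leaf (255527, 0, 17, 18321) .leaf) (255528, 0, 17, 222028) (.node .leaf (255529, 0, 17, 222533) .leaf)))) (255530, 0, 13, 185606) (.node (.node (.node (.node .leaf (255531, 0, 15, 184848) .leaf) (255540, 0, 14, 229435) (.node .leaf (255541, 0, 16, 197035) .leaf)) (255542, 0, 16, 176616) (.node (.node .leaf (255543, 0, 15, 143719) .leaf) (255544, 0, 16, 71098) (.node .leaf (255545, 0, 17, 72976) .leaf))) (255546, 0, 17, 196040) (.node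 (.node (.node .leaf (255547, 0, 15, 42214) .leaf) (255556, 0, 17, 129259) (.node .leaf (255557, 0, 13, 71821) .leaf)) (255558, 0, 16, 211775) (.node (.node .leaf (255559, 0, 16, 18600) .leaf) (255560, 0, 18, 149196) (.node .leaf (255561, 0, 16, 197686) .leaf))))) (255562, 0, 15, 110270) (.node (.node (.node (.node (.node .leaf (255563, 0, 18, 152595) .leaf) (255572, 0, 16, 229566) (.node .leaf (255573, 0, 16, 221400) .leaf)) (255574, 0, 14, 85449) (.node (.node .leaf (255575, 0, 16, 143613) .leaf) (255576, 0, 15, 12346) (.node .leaf (255577, 0, 16, 97379) .leaf))) (255578, 0, 13, 251976) (.node (.node (.node .leaf (255579, 0, 16, 98662) .leaf) (255588, 0, 17, 110151) (.node .leaf (255589, 0, 16, 259945) .leaf)) (255590, 0, 16, 238395) (.node (.node .leaf (255591, 0, 18, 7963) .leaf) (255592, 0, 15, 61349) (.node .leaf (255593, 0, 19, 4035) .leaf)))) (255594, 0, 15, 114560) (.node (.node (.node (.node .leaf (255595, 0, 17, 90086) .leaf) (255604, 0, 15, 35659) (.node .leaf (255605, 0, 15, 27437) .leaf)) (255606, 0, 15, 12483)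 (.node (.node .leaf (255607, 0, 16, 80648) .leaf) (255608, 0, 17, 169968) (.node .leaf (255609, 0, 12, 161686) .leaf))) (255610, 0, 11, 173378) (.node (.node (.node .leaf (255611, 0, 16, 64620) .leaf) (255620, 0, 16, 1383) (.node .leaf (255621, 0, 15, 90752) .leaf)) (255622, 0, 15, 54236) (.node (.node .leaf (255623, 0, 16, 111908) .leaf) (255624, 0, 14, 110127) (.node .leaf (255625, 0, 16, 259841) .leaf))))))

/-- part of the orbit tree -/
def itp7_412 : Tree := (.node (.node (.node (.node (.node (.node .leaf (255627, 0, 16, 8051) .leaf) (255636, 0, 12, 85336) (.node .leaf (255637, 0, 17, 171348) .leaf)) (255638, 0, 14, 173354) (.node (.node .leaf (255639, 0, 17, 249201) .leaf) (255640, 0, 14, 24969) (.node .leaf (255641, 0, 12, 98807) .leaf))) (255642, 0, 17, 78252) (.node (.node (.node .leaf (255643, 0, 16, 119242) .leaf) (255652, 0, 16, 149156) (.node .leaf (255653, 0, 17, 8074) .leaf)) (255654, 0, 17, 155319) (.node (.node .leaf (255655, 0, 18, 260088) .leaf) (255656, 0, 14, 70185) (.node .leaf (255657, 0, 16, 166411)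 .leaf)))) (255658, 0, 16, 211799) (.node (.node (.node (.node .leaf (255659, 0, 14, 41578) .leaf) (255668, 0, 18, 95943) (.node .leaf (255669, 0, 16, 158076) .leaf)) (255670, 0, 18, 9954) (.node (.node .leaf (255671, 0, 18, 98574) .leaf) (255672, 0, 18, 173523) (.node .leaf (255673, 0, 17, 64765) .leaf))) (255674, 0, 16, 146009) (.node (.node (.node .leaf (255675, 0, 13, 201871) .leaf) (255684, 0, 8, 225249) (.node .leaf (255685, 0, 15, 80394) .leaf)) (255686, 0, 16, 35670) (.node (.node .leaf (255687, 0, 17, 188322) .leaf) (255688, 0, 15, 128677) (.node .leaf (255689, 0, 17, 103228) .leaf))))) (255690, 0, 16, 9087) (.node (.node (.node (.node (.node .leaf (255691, 0, 15, 49945) .leaf) (255700, 0, 9, 71122) (.node .leaf (255701, 0, 16, 128978) .leaf)) (255702, 0, 16, 196000) (.node (.node .leaf (255703, 0, 15, 42999) .leaf) (255704, 0, 14, 229459) (.node .leaf (255705, 0, 12, 256873) .leaf))) (255706, 0, 17, 154410) (.node (.node (.node .leaf (255707, 0, 18, 179020) .leaf) (255716, 0, 17, 138798) (.node .leaf (255717, 0, 17,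 33906) .leaf)) (255718, 0, 14, 128604) (.node (.node .leaf (255719, 0, 14, 241522) .leaf) (255720, 0, 14, 161967) (.node .leaf (255721, 0, 18, 184961) .leaf)))) (255722, 0, 16, 222173) (.node (.node (.node (.node .leaf (255723, 0, 18, 80627) .leaf) (255732, 0, 16, 26840) (.node .leaf (255733, 0, 16, 143862) .leaf)) (255734, 0, 19, 216164) (.node (.node .leaf (255735, 0, 6, 121220) .leaf) (255736, 0, 18, 250) (.node .leaf (255737, 0, 16, 57500) .leaf))) (255738, 0, 17, 70955) (.node (.node (.node .leaf (255739, 0, 14, 216069) .leaf) (255748, 0, 15, 27684) (.node .leaf (255749, 0, 18, 118911) .leaf)) (255750, 0, 17, 24636) (.node (.node .leaf (255751, 0, 18, 122232) .leaf) (255752, 0, 14, 194981) (.node .leaf (255753, 0, 10, 249028) .leaf))))))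

/-- part of the orbit tree -/
def itp7_413 : Tree := (.node (.node (.node (.node (.node (.node .leaf (255755, 0, 12, 215289) .leaf) (255764, 0, 16, 137938) (.node .leaf (255765, 0, 16, 17404) .leaf)) (255766, 0, 15, 127648) (.node (.node .leaf (255767, 0, 17, 240526) .leaf) (255768, 0, 17, 87287) (.node .leaf (255769, 0, 17, 111761) .leaf))) (255770, 0, 17, 1234) (.node (.node (.node .leaf (255771, 0, 16, 58548) .leaf) (255780, 0, 16, 69934) (.node .leaf (255781, 0, 19, 215040) .leaf)) (255782, 0, 15, 194908) (.node (.node .leaf (255783, 0, 18, 232367) .leaf) (255784, 0, 11, 10071) (.node .leaf (255785, 0, 14, 122241) .leaf)))) (255786, 0, 17, 27869) (.node (.node (.node (.node .leaf (255787, 0, 17, 104212) .leaf) (255796, 0, 14, 223192) (.node .leaf (255797, 0, 11, 81654) .leaf)) (255798, 0, 8, 36778) (.node (.node .leaf (255799, 0, 17, 127994) .leaf) (255800, 0, 16, 127577) (.node .leaf (255801, 0, 14, 240503) .leaf))) (255802, 0, 17, 200487) (.node (.node (.node .leaf (255803, 0, 15, 257857) .leaf) (255812, 0, 15, 13486)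 (.node .leaf (255813, 0, 18, 178937) .leaf)) (255814, 0, 18, 253148) (.node (.node .leaf (255815, 0, 16, 99826) .leaf) (255816, 0, 12, 17956) (.node .leaf (255817, 0, 16, 42562) .leaf))))) (255818, 0, 16, 71169) (.node (.node (.node (.node (.node .leaf (255819, 0, 14, 128615) .leaf) (255828, 0, 18, 148056) (.node .leaf (255829, 0, 15, 49836) .leaf)) (255830, 0, 17, 94959) (.node (.node .leaf (255831, 0, 15, 103049) .leaf) (255832, 0, 18, 55257) (.node .leaf (255833, 0, 18, 187927) .leaf))) (255834, 0, 17, 224852) (.node (.node (.node .leaf (255835, 0, 17, 233010) .leaf) (255844, 0, 16, 84388) (.node .leaf (255845, 0, 14, 200842) .leaf)) (255846, 0, 18, 172502) (.node (.node .leaf (255847, 0, 17, 63736) .leaf) (255848, 0, 17, 216529) (.node .leaf (255849, 0, 17, 99595) .leaf)))) (255850, 0, 18, 138740) (.node (.node (.node (.node .leaf (255851, 0, 14, 159097) .leaf) (255860, 0, 17, 207167) (.node .leaf (255861, 0, 15, 248153) .leaf)) (255862, 0, 19, 55072) (.node (.node .leaf (255863, 0, 15, 167438) .leaf) (255864, 0, 15, 109267)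 (.node .leaf (255865, 0, 16, 120290) .leaf))) (255866, 0, 15, 148129) (.node (.node (.node .leaf (255867, 0, 14, 34247) .leaf) (255876, 0, 17, 253005) (.node .leaf (255877, 0, 13, 214901) .leaf)) (255878, 0, 17, 13375) (.node (.node .leaf (255879, 0, 16, 158993) .leaf) (255880, 0, 14, 113576) (.node .leaf (255881, 0, 18, 89038) .leaf))))))

/-- part of the orbit tree -/
def itp7_414 : Tree := (.node (.node (.node (.node (.node (.node .leaf (255883, 0, 19, 63632) .leaf) (255892, 0, 16, 122694) (.node .leaf (255893, 0, 15, 258965) .leaf)) (255894, 0, 15, 36707) (.node (.node .leaf (255895, 0, 15, 28421) .leaf) (255896, 0, 17, 212794) (.node .leaf (255897, 0, 12, 91668) .leaf))) (255898, 0, 17, 55112) (.node (.node (.node .leaf (255899, 0, 18, 160702) .leaf) (255908, 0, 16, 44262) (.node .leaf (255909, 0, 18, 19584) .leaf)) (255910, 0, 15, 84277) (.node (.node .leaf (255911, 0, 12, 72869) .leaf) (255912, 0, 18, 176221) (.node .leaf (255913, 0, 16, 151611) .leaf)))) (255914, 0, 15, 254072) (.node (.node (.node (.node .leaf (255915,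 0, 12, 196638) .leaf) (255924, 0, 15, 185523) (.node .leaf (255925, 0, 14, 167583) .leaf)) (255926, 0, 10, 230550) (.node (.node .leaf (255927, 0, 17, 91885) .leaf) (255928, 0, 18, 51208) (.node .leaf (255929, 0, 18, 6942) .leaf))) (255930, 0, 16, 109122) (.node (.node (.node .leaf (255931, 0, 15, 258924) .leaf) (255940, 0, 13, 52629) (.node .leaf (255941, 0, 11, 122345) .leaf)) (255942, 0, 10, 27829) (.node (.node .leaf (255943, 0, 14, 144795) .leaf) (255944, 0, 18, 69958) (.node .leaf (255945, 0, 17, 143688) .leaf))))) (255946, 0, 12, 194868) (.node (.node (.node (.node (.node .leaf (255947, 0, 16, 221549) .leaf) (255956, 0, 18, 177600) (.node .leaf (255957, 0, 16, 240415) .leaf)) (255958, 0, 16, 255461) (.node (.node .leaf (255959, 0, 16, 17261) .leaf) (255960, 0, 16, 223152) (.node .leaf (255961, 0, 18, 18717) .leaf))) (255962, 0, 12, 129374) (.node (.node (.node .leaf (255963, 0, 16, 186092) .leaf) (255972, 0, 17, 195021) (.node .leaf (255973, 0, 14, 206342) .leaf)) (255974, 0, 16, 70079) (.node (.node .leaf (255975, 0,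 16, 215185) .leaf) (255976, 0, 18, 121563) (.node .leaf (255977, 0, 13, 144738) .leaf)))) (255978, 0, 19, 35582) (.node (.node (.node (.node .leaf (255979, 0, 16, 27288) .leaf) (255988, 0, 15, 36667) (.node .leaf (255989, 0, 17, 89683) .leaf)) (255990, 0, 15, 223049) (.node (.node .leaf (255991, 0, 17, 3702) .leaf) (255992, 0, 17, 137914) (.node .leaf (255993, 0, 15, 213736) .leaf))) (255994, 0, 16, 127688) (.node (.node (.node .leaf (255995, 0, 13, 240614) .leaf) (256000, 0, 17, 112957) (.node .leaf (256003, 0, 17, 2145) .leaf)) (256004, 0, 15, 247328) (.node (.node .leaf (256007, 0, 18, 161660) .leaf) (256009, 0, 11, 199311) (.node .leaf (256010, 0, 13, 179155) .leaf))))))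

/-- part of the orbit tree -/
def itp7_415 : Tree := (.node itp7_411 (255626, 0, 13, 149085) itp7_412)

/-- part of the orbit tree -/
def itp7_416 : Tree := (.node itp7_413 (255882, 0, 17, 172478) itp7_414)

/-- part of the orbit tree -/
def itp7_417 : Tree := (.node (.node (.node (.node (.node (.node .leaf (256014, 0, 11, 175892) .leaf) (256016, 0, 17, 236511) (.node .leaf (256019, 0, 16, 163479) .leaf)) (256020, 0, 17, 238332) (.node (.node .leaf (256023, 0, 16, 135871) .leaf) (256025, 0, 17, 97401) (.node .leaf (256026, 0, 17, 52517) .leaf))) (256029, 0, 16, 91906) (.node (.node (.node .leaf (256030, 0, 14, 55105) .leaf) (256032, 0, 14, 190591) (.node .leaf (256035, 0, 16, 219196) .leaf)) (256036, 0, 14, 178986) (.node (.node .leaf (256039, 0, 15, 221471) .leaf) (256041, 0, 19, 161669) (.node .leaf (256042, 0, 14, 105922) .leaf)))) (256045, 0, 18, 5282) (.node (.node (.node (.node .leaf (256046, 0, 15, 107745) .leaf) (256048, 0, 15, 176833) (.node .leaf (256051, 0, 17, 197533) .leaf)) (256052, 0, 13, 43273) (.node (.node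 .leaf (256055, 0, 16, 97408) .leaf) (256057, 0, 16, 371) (.node .leaf (256058, 0, 17, 110639) .leaf))) (256061, 0, 16, 163438) (.node (.node (.node .leaf (256062, 0, 17, 253108) .leaf) (256064, 0, 13, 166156) (.node .leaf (256067, 0, 17, 20715) .leaf)) (256068, 0, 17, 237226) (.node (.node .leaf (256071, 0, 16, 143350) .leaf) (256073, 0, 14, 19698) (.node .leaf (256074, 0, 14, 130225) .leaf))))) (256077, 0, 14, 77080) (.node (.node (.node (.node (.node .leaf (256078, 0, 18, 40004) .leaf) (256080, 0, 17, 61785) (.node .leaf (256083, 0, 13, 140829) .leaf)) (256084, 0, 16, 51322) (.node (.node .leaf (256087, 0, 13, 96313) .leaf) (256089, 0, 17, 144551) (.node .leaf (256090, 0, 18, 230628) .leaf))) (256093, 0, 16, 220142) (.node (.node (.node .leaf (256094, 0, 17, 191154) .leaf) (256096, 0, 17, 99065) (.node .leaf (256099, 0, 18, 77281) .leaf)) (256100, 0, 14, 113626) (.node (.node .leaf (256103, 0, 16, 2969) .leaf) (256105, 0, 17, 214791) (.node .leaf (256106, 0, 16, 237139) .leaf)))) (256109, 0, 15, 20498) (.node (.node (.node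 (.node .leaf (256110, 0, 13, 123214) .leaf) (256112, 0, 16, 191051) (.node .leaf (256115, 0, 18, 150255) .leaf)) (256116, 0, 16, 38230) (.node (.node .leaf (256119, 0, 17, 160716) .leaf) (256121, 0, 15, 23033) (.node .leaf (256122, 0, 19, 36625) .leaf))) (256125, 0, 16, 141028) (.node (.node (.node .leaf (256126, 0, 13, 46642) .leaf) (256128, 0, 17, 133460) (.node .leaf (256131, 0, 17, 243720) .leaf)) (256132, 0, 16, 216483) (.node (.node .leaf (256135, 0, 16, 196064) .leaf) (256137, 0, 15, 47846) (.node .leaf (256138, 0, 17, 317) .leaf))))))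

/-- part of the orbit tree -/
def itp7_418 : Tree := (.node (.node (.node (.node (.node (.node .leaf (256142, 0, 16, 226471) .leaf) (256144, 0, 16, 68821) (.node .leaf (256147, 0, 19, 48278) .leaf)) (256148, 0, 16, 131263) (.node (.node .leaf (256151, 0, 14, 34229) .leaf) (256153, 0, 18, 183312) (.node .leaf (256154, 0, 15, 162152) .leaf))) (256157, 0, 12, 45837) (.node (.node (.node .leaf (256158, 0, 11, 147531) .leaf) (256160, 0, 17, 226398) (.node .leaf (256163, 0, 16, 118582) .leaf)) (256164, 0, 16, 68419) (.node (.node .leaf (256167, 0, 14, 128533) .leaf) (256169, 0, 17, 178827) (.node .leaf (256170, 0, 18, 30384) .leaf)))) (256173, 0, 17, 243953) (.node (.node (.node (.node .leaf (256174, 0, 13, 209899) .leaf) (256176, 0, 14, 66216) (.node .leaf (256179, 0, 17, 46068) .leaf)) (256180, 0, 16, 146947) (.node (.node .leaf (256183, 0, 17, 183529) .leaf) (256185, 0, 15, 241946) (.node .leaf (256186, 0, 16, 94877) .leaf))) (256189, 0, 19, 118279) (.node (.node (.node .leaf (256190, 0, 17, 32603) .leaf) (256192, 0, 13, 152030)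 (.node .leaf (256195, 0, 16, 110149) .leaf)) (256196, 0, 15, 10021) (.node (.node .leaf (256199, 0, 18, 104294) .leaf) (256201, 0, 13, 57964) (.node .leaf (256202, 0, 15, 224187) .leaf))))) (256205, 0, 17, 189147) (.node (.node (.node (.node (.node .leaf (256206, 0, 16, 207917) .leaf) (256208, 0, 17, 10024) (.node .leaf (256211, 0, 17, 251408) .leaf)) (256212, 0, 14, 153653) (.node (.node .leaf (256215, 0, 17, 256361) .leaf) (256217, 0, 17, 41901) (.node .leaf (256218, 0, 12, 70638) .leaf))) (256221, 0, 10, 39566) (.node (.node (.node .leaf (256222, 0, 16, 76493) .leaf) (256224, 0, 15, 202227) (.node .leaf (256227, 0, 17, 173488) .leaf)) (256228, 0, 17, 86985) (.node (.node .leaf (256231, 0, 17, 171155) .leaf) (256233, 0, 13, 106342) (.node .leaf (256234, 0, 14, 11834) .leaf)))) (256237, 0, 16, 125230) (.node (.node (.node (.node .leaf (256238, 0, 13, 151847) .leaf) (256240, 0, 17, 93606) (.node .leaf (256243, 0, 17, 56805) .leaf)) (256244, 0, 11, 206143) (.node (.node .leaf (256247, 0, 16, 58566) .leaf) (256249, 0, 16, 256400)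 (.node .leaf (256250, 0, 19, 137243) .leaf))) (256253, 0, 16, 233851) (.node (.node (.node .leaf (256254, 0, 16, 10193) .leaf) (256256, 0, 12, 147966) (.node .leaf (256259, 0, 18, 61314) .leaf)) (256260, 0, 17, 205251) (.node (.node .leaf (256263, 0, 16, 247966) .leaf) (256265, 0, 16, 257388) (.node .leaf (256266, 0, 14, 154672) .leaf))))))

/-- part of the orbit tree -/
def itp7_419 : Tree := (.node (.node (.node (.node (.node (.node .leaf (256270, 0, 16, 9005) .leaf) (256272, 0, 15, 14763) (.node .leaf (256275, 0, 17, 100840) .leaf)) (256276, 0, 17, 136) (.node (.node .leaf (256279, 0, 18, 58985) .leaf) (256281, 0, 18, 105370) (.node .leaf (256282, 0, 16, 216086) .leaf))) (256285, 0, 14, 181622) (.node (.node (.node .leaf (256286, 0, 16, 226613) .leaf) (256288, 0, 16, 84491) (.node .leaf (256291, 0, 18, 64072) .leaf)) (256292, 0, 16, 154825) (.node (.node .leaf (256295, 0, 12, 50027) .leaf) (256297, 0, 18, 233461) (.node .leaf (256298, 0, 16, 147382) .leaf)))) (256301, 0, 16, 243414) (.node (.node (.node (.node .leaf (256302,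 0, 16, 132757) .leaf) (256304, 0, 18, 209502) (.node .leaf (256307, 0, 14, 164381) .leaf)) (256308, 0, 16, 199549) (.node (.node .leaf (256311, 0, 14, 179006) .leaf) (256313, 0, 9, 128928) (.node .leaf (256314, 0, 18, 18403) .leaf))) (256317, 0, 19, 118403) (.node (.node (.node .leaf (256318, 0, 14, 32448) .leaf) (256320, 0, 15, 76664) (.node .leaf (256323, 0, 14, 46856) .leaf)) (256324, 0, 18, 227657) (.node (.node .leaf (256327, 0, 17, 41496) .leaf) (256329, 0, 17, 243174) (.node .leaf (256330, 0, 18, 132282) .leaf))))) (256333, 0, 15, 251813) (.node (.node (.node (.node (.node .leaf (256334, 0, 15, 157670) .leaf) (256336, 0, 17, 225442) (.node .leaf (256339, 0, 17, 189294) .leaf)) (256340, 0, 14, 223758) (.node (.node .leaf (256343, 0, 12, 48867) .leaf) (256345, 0, 19, 115472) (.node .leaf (256346, 0, 17, 9872) .leaf))) (256349, 0, 16, 244749) (.node (.node (.node .leaf (256350, 0, 16, 134481) .leaf) (256352, 0, 18, 31582) (.node .leaf (256355, 0, 16, 117250) .leaf)) (256356, 0, 14, 132163) (.node (.node .leaf (256359, 0,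 16, 240109) .leaf) (256361, 0, 16, 58739) (.node .leaf (256362, 0, 15, 227760) .leaf)))) (256365, 0, 17, 56400) (.node (.node (.node (.node .leaf (256366, 0, 17, 93203) .leaf) (256368, 0, 16, 134568) (.node .leaf (256371, 0, 15, 125083) .leaf)) (256372, 0, 13, 29365) (.node (.node .leaf (256375, 0, 16, 119224) .leaf) (256377, 0, 14, 48666) (.node .leaf (256378, 0, 17, 69446) .leaf))) (256381, 0, 13, 180487) (.node (.node (.node .leaf (256382, 0, 15, 225371) .leaf) (256384, 0, 17, 55028) (.node .leaf (256387, 0, 16, 91831) .leaf)) (256388, 0, 16, 37290) (.node (.node .leaf (256391, 0, 13, 73974) .leaf) (256393, 0, 17, 23813) (.node .leaf (256394, 0, 14, 126041) .leaf))))))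

/-- part of the orbit tree -/
def itp7_420 : Tree := (.node (.node (.node (.node (.node (.node .leaf (256398, 0, 17, 236138) .leaf) (256400, 0, 15, 38977) (.node .leaf (256403, 0, 14, 204514) .leaf)) (256404, 0, 16, 190300) (.node (.node .leaf (256407, 0, 12, 218624) .leaf) (256409, 0, 17, 142323) (.node .leaf (256410, 0, 16, 236207) .leaf))) (256413, 0, 17, 21742) (.node (.node (.node .leaf (256414, 0, 16, 123455) .leaf) (256416, 0, 16, 253185) (.node .leaf (256419, 0, 17, 159042) .leaf)) (256420, 0, 17, 255010) (.node (.node .leaf (256423, 0, 13, 152673) .leaf) (256425, 0, 16, 73743) (.node .leaf (256426, 0, 16, 43196) .leaf)))) (256429, 0, 17, 220946) (.node (.node (.node (.node .leaf (256430, 0, 15, 37279) .leaf) (256432, 0, 14, 124235) (.node .leaf (256435, 0, 16, 5399) .leaf)) (256436, 0, 16, 236118) (.node (.node .leaf (256439, 0, 17, 142090) .leaf) (256441, 0, 15, 218873) (.node .leaf (256442, 0, 16, 190373) .leaf))) (256445, 0, 13, 219529) (.node (.node (.node .leaf (256446, 0, 8, 190922) .leaf) (256448, 0, 13, 244850)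 (.node .leaf (256451, 0, 6, 198497) .leaf)) (256452, 0, 15, 230737) (.node (.node .leaf (256455, 0, 18, 144658) .leaf) (256457, 0, 15, 96652) (.node .leaf (256458, 0, 18, 51663) .leaf))))) (256461, 0, 17, 162450) (.node (.node (.node (.node (.node .leaf (256462, 0, 18, 61676) .leaf) (256464, 0, 18, 115751) (.node .leaf (256467, 0, 17, 29796) .leaf)) (256468, 0, 15, 180182) (.node (.node .leaf (256471, 0, 17, 19783) .leaf) (256473, 0, 16, 197081) (.node .leaf (256474, 0, 11, 246309) .leaf))) (256477, 0, 17, 3172) (.node (.node (.node .leaf (256478, 0, 16, 113976) .leaf) (256480, 0, 16, 248631) (.node .leaf (256483, 0, 14, 162411) .leaf)) (256484, 0, 16, 111658) (.node (.node .leaf (256487, 0, 15, 81639) .leaf) (256489, 0, 18, 160377) (.node .leaf (256490, 0, 15, 246330) .leaf)))) (256493, 0, 17, 198552) (.node (.node (.node (.node .leaf (256494, 0, 18, 177860) .leaf) (256496, 0, 18, 184274) (.node .leaf (256499, 0, 18, 229265) .leaf)) (256500, 0, 18, 194289) (.node (.node .leaf (256503, 0, 18, 214706) .leaf) (256505, 0, 17,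 200307) (.node .leaf (256506, 0, 17, 113263) .leaf))) (256509, 0, 17, 94574) (.node (.node (.node .leaf (256510, 0, 14, 99148) .leaf) (256514, 0, 16, 152675) (.node .leaf (256515, 0, 17, 32697) .leaf)) (256518, 0, 17, 11134) (.node (.node .leaf (256519, 0, 17, 18074) .leaf) (256520, 0, 17, 87693) .leaf)))))

/-- part of the orbit tree -/
def itp7_421 : Tree := (.node itp7_417 (256141, 0, 15, 100445) itp7_418)

/-- part of the orbit tree -/
def itp7_422 : Tree := (.node itp7_419 (256397, 0, 15, 141865) itp7_420)

/-- part of the orbit tree -/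
def itp7_423 : Tree := (.node itp7_415 (255754, 0, 18, 162951) itp7_416)

/-- part of the orbit tree -/
def itp7_424 : Tree := (.node itp7_421 (256269, 0, 16, 48419) itp7_422)

/-- part of the orbit tree -/
def itp7_425 : Tree := (.node (.node (.node (.node (.node (.node .leaf (256524, 0, 18, 207248) .leaf) (256525, 0, 15, 94398) (.node .leaf (256530, 0, 13, 8853) .leaf)) (256531, 0, 16, 162747) (.node (.node .leaf (256534, 0, 8, 155016) .leaf) (256535, 0, 17, 1190) (.node .leaf (256536, 0, 16, 204923) .leaf))) (256537, 0, 15, 96597) (.node (.node (.node .leaf (256540, 0, 18, 89958) .leaf) (256541, 0, 17, 84850) (.node .leaf (256546, 0, 17, 234538) .leaf)) (256547, 0, 15, 226380) (.node (.node .leaf (256550, 0, 18, 240905) .leaf) (256551, 0, 17, 216431) (.node .leaf (256552, 0, 18, 57751) .leaf)))) (256553, 0, 17, 497) (.node (.node (.node (.node .leaf (256556, 0, 18, 152730) .leaf) (256557, 0, 16, 14546) (.node .leaf (256562, 0, 17, 90015) .leaf)) (256563, 0, 15, 198321) (.node (.node .leaf (256566, 0, 18, 204930) .leaf) (256567,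 0, 16, 79162) (.node .leaf (256568, 0, 13, 154993) .leaf))) (256569, 0, 12, 162212) (.node (.node (.node .leaf (256572, 0, 15, 8812) .leaf) (256573, 0, 17, 147591) (.node .leaf (256578, 0, 16, 134377) .leaf)) (256579, 0, 17, 21959) (.node (.node .leaf (256582, 0, 16, 248954) .leaf) (256583, 0, 15, 207900) (.node .leaf (256584, 0, 16, 69127) .leaf))))) (256585, 0, 16, 24706) (.node (.node (.node (.node (.node .leaf (256588, 0, 16, 225562) .leaf) (256589, 0, 17, 75828) (.node .leaf (256594, 0, 16, 101644) .leaf)) (256595, 0, 15, 140081) (.node (.node .leaf (256598, 0, 17, 111663) .leaf) (256599, 0, 17, 87113) (.node .leaf (256600, 0, 17, 227569) .leaf))) (256601, 0, 16, 74207) (.node (.node (.node .leaf (256604, 0, 16, 67564) .leaf) (256605, 0, 18, 220866) (.node .leaf (256610, 0, 18, 65196) .leaf)) (256611, 0, 15, 75981) (.node (.node .leaf (256614, 0, 11, 51087) .leaf) (256615, 0, 16, 10217) (.node .leaf (256616, 0, 12, 29453) .leaf)))) (256617, 0, 14, 224119) (.node (.node (.node (.node .leaf (256620, 0, 17, 134160) .leaf)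 (256621, 0, 17, 21822) (.node .leaf (256626, 0, 17, 67349) .leaf)) (256627, 0, 13, 157343) (.node (.node .leaf (256630, 0, 12, 180186) .leaf) (256631, 0, 16, 74022) (.node .leaf (256632, 0, 16, 132603) .leaf))) (256633, 0, 16, 70434) (.node (.node (.node .leaf (256636, 0, 13, 31462) .leaf) (256637, 0, 15, 140232) (.node .leaf (256642, 0, 17, 123914) .leaf)) (256643, 0, 16, 245028) (.node (.node .leaf (256646, 0, 15, 236311) .leaf) (256647, 0, 14, 184720) (.node .leaf (256648, 0, 14, 190180) .leaf))))))

/-- part of the orbit tree -/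
def itp7_426 : Tree := (.node (.node (.node (.node (.node (.node .leaf (256652, 0, 16, 83019) .leaf) (256653, 0, 14, 180439) (.node .leaf (256658, 0, 15, 28800) .leaf)) (256659, 0, 12, 37094) (.node (.node .leaf (256662, 0, 17, 18851) .leaf) (256663, 0, 17, 242895) (.node .leaf (256664, 0, 14, 36882) .leaf))) (256665, 0, 15, 255323) (.node (.node (.node .leaf (256668, 0, 11, 211998) .leaf) (256669, 0, 16, 253048) (.node .leaf (256674, 0, 16, 39168) .leaf)) (256675, 0, 16, 180270) (.node (.node .leaf (256678, 0, 14, 80387) .leaf) (256679, 0, 18, 121445) (.node .leaf (256680, 0, 16, 236526) .leaf)))) (256681, 0, 17, 115392) (.node (.node (.node (.node .leaf (256684, 0, 17, 124147) .leaf) (256685, 0, 14, 245213) (.node .leaf (256690, 0, 13, 192502) .leaf)) (256691, 0, 16, 236307) (.node (.node .leaf (256694, 0, 12, 213590) .leaf) (256695, 0, 15, 182725) (.node .leaf (256696, 0, 17, 3784) .leaf))) (256697, 0, 16, 61102) (.node (.node (.node .leaf (256700, 0, 13, 233989) .leaf) (256701, 0, 15, 117547) (.node .leaf (256706, 0, 14,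 90707) .leaf)) (256707, 0, 14, 98869) (.node (.node .leaf (256710, 0, 17, 88944) .leaf) (256711, 0, 16, 105139) (.node .leaf (256712, 0, 17, 137198) .leaf))))) (256713, 0, 16, 194440) (.node (.node (.node (.node (.node .leaf (256716, 0, 16, 143053) .leaf) (256717, 0, 14, 183979) (.node .leaf (256722, 0, 13, 248438) .leaf)) (256723, 0, 17, 260704) (.node (.node .leaf (256726, 0, 17, 205605) .leaf) (256727, 0, 18, 257093) (.node .leaf (256728, 0, 15, 28603) .leaf))) (256729, 0, 17, 36829) (.node (.node (.node .leaf (256732, 0, 16, 22168) .leaf) (256733, 0, 18, 46846) (.node .leaf (256738, 0, 17, 49546) .leaf)) (256739, 0, 16, 170148) (.node (.node .leaf (256742, 0, 19, 179863) .leaf) (256743, 0, 16, 59321) (.node .leaf (256744, 0, 17, 72731) .leaf)))) (256745, 0, 16, 105034) (.node (.node (.node (.node .leaf (256748, 0, 15, 113785) .leaf) (256749, 0, 16, 116062) (.node .leaf (256754, 0, 17, 178044) .leaf)) (256755, 0, 17, 61010) (.node (.node .leaf (256758, 0, 15, 51297) .leaf) (256759, 0, 15, 168271) (.node .leaf (256760, 0,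 18, 112018) .leaf))) (256761, 0, 17, 257212) (.node (.node (.node .leaf (256764, 0, 13, 220525) .leaf) (256765, 0, 15, 245003) (.node .leaf (256770, 0, 16, 212395) .leaf)) (256771, 0, 18, 60078) (.node (.node .leaf (256774, 0, 17, 197768) .leaf) (256775, 0, 17, 255214) (.node .leaf (256776, 0, 16, 110958) .leaf))))))

/-- part of the orbit tree -/
def itp7_427 : Tree := (.node (.node (.node (.node (.node (.node .leaf (256780, 0, 17, 28981) .leaf) (256781, 0, 18, 104285) (.node .leaf (256786, 0, 17, 83454) .leaf)) (256787, 0, 10, 107928) (.node (.node .leaf (256790, 0, 15, 97501) .leaf) (256791, 0, 14, 105659) (.node .leaf (256792, 0, 15, 247704) .leaf))) (256793, 0, 16, 106166) (.node (.node (.node .leaf (256796, 0, 17, 112773) .leaf) (256797, 0, 14, 254379) (.node .leaf (256802, 0, 16, 249482) .leaf)) (256803, 0, 16, 54840) (.node (.node .leaf (256806, 0, 18, 3965) .leaf) (256807, 0, 16, 61211) (.node .leaf (256808, 0, 17, 213987) .leaf)))) (256809, 0, 18, 238469) (.node (.node (.node (.node .leaf (256812, 0, 15, 228032) .leaf)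 (256813, 0, 10, 59991) (.node .leaf (256818, 0, 17, 151051) .leaf)) (256819, 0, 14, 175725) (.node (.node .leaf (256822, 0, 18, 161576) .leaf) (256823, 0, 17, 169806) (.node .leaf (256824, 0, 15, 178834) .leaf))) (256825, 0, 14, 58300) (.node (.node (.node .leaf (256828, 0, 17, 66197) .leaf) (256829, 0, 18, 171169) (.node .leaf (256834, 0, 19, 191242) .leaf)) (256835, 0, 11, 46923) (.node (.node .leaf (256838, 0, 17, 28174) .leaf) (256839, 0, 14, 36456) (.node .leaf (256840, 0, 17, 205456) .leaf))))) (256841, 0, 13, 246518) (.node (.node (.node (.node (.node .leaf (256844, 0, 17, 203699) .leaf) (256845, 0, 11, 118743) (.node .leaf (256850, 0, 16, 40444) .leaf)) (256851, 0, 14, 181458) (.node (.node .leaf (256854, 0, 17, 136795) .leaf) (256855, 0, 16, 48079) (.node .leaf (256856, 0, 17, 237330) .leaf))) (256857, 0, 14, 116284) (.node (.node (.node .leaf (256860, 0, 14, 91110) .leaf) (256861, 0, 14, 99200) (.node .leaf (256866, 0, 14, 220376) .leaf)) (256867, 0, 14, 118574) (.node (.node .leaf (256870, 0, 18, 125213) .leaf) (256871,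 0, 16, 230813) (.node .leaf (256872, 0, 13, 38126) .leaf)))) (256873, 0, 11, 51459) (.node (.node (.node (.node .leaf (256876, 0, 14, 191475) .leaf) (256877, 0, 15, 61472) (.node .leaf (256882, 0, 18, 74893) .leaf)) (256883, 0, 17, 244184) (.node (.node .leaf (256886, 0, 16, 237547) .leaf) (256887, 0, 17, 116421) (.node .leaf (256888, 0, 16, 188952) .leaf))) (256889, 0, 13, 47926) (.node (.node (.node .leaf (256892, 0, 14, 157715) .leaf) (256893, 0, 15, 166005) (.node .leaf (256898, 0, 16, 109217) .leaf)) (256899, 0, 14, 219847) (.node (.node .leaf (256902, 0, 16, 228596) .leaf) (256903, 0, 16, 95204) (.node .leaf (256904, 0, 15, 188188) .leaf))))))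

/-- part of the orbit tree -/
def itp7_428 : Tree := (.node (.node (.node (.node (.node (.node .leaf (256908, 0, 17, 32282) .leaf) (256909, 0, 8, 132697) (.node .leaf (256914, 0, 18, 250612) .leaf)) (256915, 0, 16, 209554) (.node (.node .leaf (256918, 0, 16, 256983) .leaf) (256919, 0, 16, 199601) (.node .leaf (256920, 0, 17, 42825) .leaf))) (256921, 0, 14, 18223) (.node (.node (.node .leaf (256924, 0, 12, 40554) .leaf) (256925, 0, 14, 20930) (.node .leaf (256930, 0, 15, 32483) .leaf)) (256931, 0, 17, 147762) (.node (.node .leaf (256934, 0, 17, 131582) .leaf) (256935, 0, 17, 161809) (.node .leaf (256936, 0, 14, 120041) .leaf)))) (256937, 0, 15, 75043) (.node (.node (.node (.node .leaf (256940, 0, 15, 126410) .leaf) (256941, 0, 13, 69036) (.node .leaf (256946, 0, 16, 55553) .leaf)) (256947, 0, 16, 14695) (.node (.node .leaf (256950, 0, 18, 30472) .leaf) (256951, 0, 12, 142886) (.node .leaf (256952, 0, 15, 240828) .leaf))) (256953, 0, 17, 218069) (.node (.node (.node .leaf (256956, 0, 17, 234911) .leaf) (256957, 0, 17, 226809)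 (.node .leaf (256962, 0, 18, 88931) .leaf)) (256963, 0, 16, 139329) (.node (.node .leaf (256966, 0, 18, 194820) .leaf) (256967, 0, 17, 97616) (.node .leaf (256968, 0, 15, 112026) .leaf))))) (256969, 0, 18, 87548) (.node (.node (.node (.node (.node .leaf (256972, 0, 17, 101561) .leaf) (256973, 0, 14, 163774) (.node .leaf (256978, 0, 16, 47218) .leaf)) (256979, 0, 14, 95419) (.node (.node .leaf (256982, 0, 17, 33105) .leaf) (256983, 0, 15, 24887) (.node .leaf (256984, 0, 15, 249295) .leaf))) (256985, 0, 14, 208297) (.node (.node (.node .leaf (256988, 0, 16, 259308) .leaf) (256989, 0, 12, 201866) (.node .leaf (256994, 0, 16, 117714) .leaf)) (256995, 0, 16, 163655) (.node (.node .leaf (256998, 0, 14, 153972) .leaf) (256999, 0, 17, 70295) (.node .leaf (257000, 0, 17, 205959) .leaf)))) (257001, 0, 16, 155145) (.node (.node (.node (.node .leaf (257004, 0, 17, 88986) .leaf) (257005, 0, 15, 197300) (.node .leaf (257010, 0, 16, 151711) .leaf)) (257011, 0, 16, 2481) (.node (.node .leaf (257014, 0, 14, 12162) .leaf) (257015, 0, 18, 161452)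 (.node .leaf (257016, 0, 15, 86641) .leaf))) (257017, 0, 17, 199519) (.node (.node (.node .leaf (257020, 0, 17, 208236) .leaf) (257021, 0, 18, 8063) (.node .leaf (257025, 0, 18, 60903) .leaf)) (257027, 0, 16, 84321) (.node (.node .leaf (257029, 0, 15, 168698) .leaf) (257031, 0, 15, 94274) (.node .leaf (257032, 0, 15, 187578) .leaf))))))

/-- part of the orbit tree -/
def itp7_429 : Tree := (.node itp7_425 (256649, 0, 18, 49098) itp7_426)

/-- part of the orbit tree -/
def itp7_430 : Tree := (.node itp7_427 (256905, 0, 16, 22569) itp7_428)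

/-- part of the orbit tree -/
def itp7_431 : Tree := (.node (.node (.node (.node (.node (.node .leaf (257036, 0, 17, 189849) .leaf) (257038, 0, 18, 248122) (.node .leaf (257041, 0, 17, 170769) .leaf)) (257043, 0, 18, 95075) (.node (.node .leaf (257045, 0, 14, 153650) .leaf) (257047, 0, 15, 198679) (.node .leaf (257048, 0, 15, 10403) .leaf))) (257050, 0, 18, 245969) (.node (.node (.node .leaf (257052, 0, 15, 40396) .leaf) (257054, 0, 16, 118249) (.node .leaf (257057, 0, 17, 201393) .leaf)) (257059, 0, 17, 148116) (.node (.node .leaf (257061, 0, 16, 207762) .leaf) (257063, 0, 14, 1922) (.node .leaf (257064, 0, 16, 205663) .leaf)))) (257066, 0, 16, 52013) (.node (.node (.node (.node .leaf (257068, 0, 11, 126572) .leaf) (257070, 0, 18, 177200) (.node .leaf (257073, 0, 16, 255515) .leaf)) (257075, 0, 15, 15041) (.node (.node .leaf (257077, 0, 14, 104710) .leaf) (257079, 0, 15, 994) (.node .leaf (257080, 0, 15, 241434) .leaf))) (257082, 0, 17, 179675) (.node (.node (.node .leaf (257084, 0, 15, 207540) .leaf) (257086, 0, 16, 181788)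 (.node .leaf (257089, 0, 14, 226242) .leaf)) (257091, 0, 10, 140263) (.node (.node .leaf (257093, 0, 17, 215777) .leaf) (257095, 0, 18, 74242) (.node .leaf (257096, 0, 15, 112188) .leaf))))) (257098, 0, 16, 58905) (.node (.node (.node (.node (.node .leaf (257100, 0, 16, 102175) .leaf) (257102, 0, 15, 233904) (.node .leaf (257105, 0, 16, 181147) .leaf)) (257107, 0, 16, 76777) (.node (.node .leaf (257109, 0, 14, 48262) .leaf) (257111, 0, 18, 25233) (.node .leaf (257112, 0, 16, 249449) .leaf))) (257114, 0, 16, 235611) (.node (.node (.node .leaf (257116, 0, 16, 259914) .leaf) (257118, 0, 17, 173935) (.node .leaf (257121, 0, 16, 30775) .leaf)) (257123, 0, 13, 139285) (.node (.node .leaf (257125, 0, 17, 16660) .leaf) (257127, 0, 14, 69937) (.node .leaf (257128, 0, 18, 228309) .leaf)))) (257130, 0, 16, 257516) (.node (.node (.node (.node .leaf (257132, 0, 16, 66760) .leaf) (257134, 0, 15, 191674) (.node .leaf (257137, 0, 13, 245393) .leaf)) (257139, 0, 19, 22243) (.node (.node .leaf (257141, 0, 11, 145729) .leaf) (257143, 0, 16, 223588)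 (.node .leaf (257144, 0, 14, 68899) .leaf))) (257146, 0, 17, 103865) (.node (.node (.node .leaf (257148, 0, 18, 64703) .leaf) (257150, 0, 16, 39500) (.node .leaf (257153, 0, 17, 167502) .leaf)) (257155, 0, 18, 46588) (.node (.node .leaf (257157, 0, 17, 74387) .leaf) (257159, 0, 13, 255816) (.node .leaf (257160, 0, 18, 19376) .leaf))))))

/-- part of the orbit tree -/
def itp7_432 : Tree := (.node (.node (.node (.node (.node (.node .leaf (257164, 0, 15, 233761) .leaf) (257166, 0, 17, 74422) (.node .leaf (257169, 0, 14, 63003) .leaf)) (257171, 0, 17, 108094) (.node (.node .leaf (257173, 0, 16, 53048) .leaf) (257175, 0, 13, 106269) (.node .leaf (257176, 0, 13, 235722) .leaf))) (257178, 0, 16, 222144) (.node (.node (.node .leaf (257180, 0, 15, 124887) .leaf) (257182, 0, 17, 219875) (.node .leaf (257185, 0, 15, 139396) .leaf)) (257187, 0, 14, 116982) (.node (.node .leaf (257189, 0, 17, 113816) .leaf) (257191, 0, 17, 60605) (.node .leaf (257192, 0, 12, 37686) .leaf)))) (257194, 0, 18, 228164) (.node (.node (.node (.node .leaf (257196,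 0, 16, 191531) .leaf) (257198, 0, 15, 141635) (.node .leaf (257201, 0, 15, 261614) .leaf)) (257203, 0, 18, 175563) (.node (.node .leaf (257205, 0, 17, 246989) .leaf) (257207, 0, 15, 114973) (.node .leaf (257208, 0, 14, 79888) .leaf))) (257210, 0, 13, 69042) (.node (.node (.node .leaf (257212, 0, 16, 65843) .leaf) (257214, 0, 18, 20758) (.node .leaf (257217, 0, 16, 124104) .leaf)) (257219, 0, 15, 46317) (.node (.node .leaf (257221, 0, 15, 122347) .leaf) (257223, 0, 13, 36302) (.node .leaf (257224, 0, 15, 112310) .leaf))))) (257226, 0, 9, 160019) (.node (.node (.node (.node (.node .leaf (257228, 0, 16, 202773) .leaf) (257230, 0, 17, 8665) (.node .leaf (257233, 0, 17, 236701) .leaf)) (257235, 0, 17, 170880) (.node (.node .leaf (257237, 0, 16, 239038) .leaf) (257239, 0, 17, 58525) (.node .leaf (257240, 0, 15, 245824) .leaf))) (257242, 0, 15, 2374) (.node (.node (.node .leaf (257244, 0, 15, 114525) .leaf) (257246, 0, 19, 153391) (.node .leaf (257249, 0, 17, 192317) .leaf)) (257251, 0, 16, 245528) (.node (.node .leaf (257253, 0,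 18, 185886) .leaf) (257255, 0, 14, 230971) (.node .leaf (257256, 0, 14, 52156) .leaf)))) (257258, 0, 16, 96998) (.node (.node (.node (.node .leaf (257260, 0, 19, 177313) .leaf) (257262, 0, 16, 82885) (.node .leaf (257265, 0, 17, 38760) .leaf)) (257267, 0, 13, 116557) (.node (.node .leaf (257269, 0, 16, 44619) .leaf) (257271, 0, 14, 130670) (.node .leaf (257272, 0, 18, 179530) .leaf))) (257274, 0, 18, 197299) (.node (.node (.node .leaf (257276, 0, 16, 49751) .leaf) (257278, 0, 18, 207397) (.node .leaf (257281, 0, 16, 2564) .leaf)) (257283, 0, 16, 254582) (.node (.node .leaf (257285, 0, 18, 161049) .leaf) (257287, 0, 14, 105835) (.node .leaf (257288, 0, 16, 97998) .leaf))))))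

/-- part of the orbit tree -/
def itp7_433 : Tree := (.node (.node (.node (.node (.node (.node .leaf (257292, 0, 15, 50859) .leaf) (257294, 0, 16, 6088) (.node .leaf (257297, 0, 11, 163058) .leaf)) (257299, 0, 15, 103552) (.node (.node .leaf (257301, 0, 17, 1007) .leaf) (257303, 0, 15, 256925) (.node .leaf (257304, 0, 17, 53056) .leaf))) (257306, 0, 16, 206642) (.node (.node (.node .leaf (257308, 0, 18, 176221) .leaf) (257310, 0, 17, 88111) (.node .leaf (257313, 0, 14, 96014) .leaf)) (257315, 0, 16, 123104) (.node (.node .leaf (257317, 0, 18, 198675) .leaf) (257319, 0, 17, 57441) (.node .leaf (257320, 0, 9, 246972) .leaf)))) (257322, 0, 16, 206110) (.node (.node (.node (.node .leaf (257324, 0, 14, 150552) .leaf) (257326, 0, 17, 203837) (.node .leaf (257329, 0, 17, 182416) .leaf)) (257331, 0, 17, 59786) (.node (.node .leaf (257333, 0, 15, 98021) .leaf) (257335, 0, 13, 169623) (.node .leaf (257336, 0, 12, 3438) .leaf))) (257338, 0, 15, 154168) (.node (.node (.node .leaf (257340, 0, 13, 249175) .leaf) (257342, 0, 16, 9509) (.node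 .leaf (257345, 0, 18, 21134) .leaf)) (257347, 0, 14, 98707) (.node (.node .leaf (257349, 0, 17, 59541) .leaf) (257351, 0, 17, 112816) (.node .leaf (257352, 0, 16, 188732) .leaf))))) (257354, 0, 16, 214125) (.node (.node (.node (.node (.node .leaf (257356, 0, 17, 142699) .leaf) (257358, 0, 15, 228686) (.node .leaf (257361, 0, 16, 140408) .leaf)) (257363, 0, 17, 117770) (.node (.node .leaf (257365, 0, 16, 168128) .leaf) (257367, 0, 16, 245989) (.node .leaf (257368, 0, 18, 38858) .leaf))) (257370, 0, 17, 229304) (.node (.node (.node .leaf (257372, 0, 17, 21822) .leaf) (257374, 0, 17, 65701) (.node .leaf (257377, 0, 15, 77700) .leaf)) (257379, 0, 17, 166502) (.node (.node .leaf (257381, 0, 17, 254816) .leaf) (257383, 0, 10, 176965) (.node .leaf (257384, 0, 16, 73661) .leaf)))) (257386, 0, 13, 29764) (.node (.node (.node (.node .leaf (257388, 0, 15, 123691) .leaf) (257390, 0, 16, 30395) (.node .leaf (257393, 0, 16, 107030) .leaf)) (257395, 0, 12, 62003) (.node (.node .leaf (257397, 0, 18, 105269) .leaf) (257399, 0, 13, 183837) (.node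 .leaf (257400, 0, 18, 125632) .leaf))) (257402, 0, 17, 145357) (.node (.node (.node .leaf (257404, 0, 16, 220875) .leaf) (257406, 0, 18, 32175) (.node .leaf (257409, 0, 15, 76858) .leaf)) (257411, 0, 16, 31775) (.node (.node .leaf (257413, 0, 13, 70937) .leaf) (257415, 0, 11, 142594) (.node .leaf (257416, 0, 16, 256452) .leaf))))))

/-- part of the orbit tree -/
def itp7_434 : Tree := (.node (.node (.node (.node (.node (.node .leaf (257420, 0, 16, 227010) .leaf) (257422, 0, 14, 164034) (.node .leaf (257425, 0, 16, 218223) .leaf)) (257427, 0, 14, 132170) (.node (.node .leaf (257429, 0, 17, 224588) .leaf) (257431, 0, 17, 146793) (.node .leaf (257432, 0, 16, 102801) .leaf))) (257434, 0, 15, 38747) (.node (.node (.node .leaf (257436, 0, 17, 65588) .leaf) (257438, 0, 15, 190534) (.node .leaf (257441, 0, 14, 182119) .leaf)) (257443, 0, 14, 227306) (.node (.node .leaf (257445, 0, 12, 138988) .leaf) (257447, 0, 13, 217096) (.node .leaf (257448, 0, 10, 57905) .leaf)))) (257450, 0, 14, 236711) (.node (.node (.node (.node .leaf (257452,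 0, 17, 134088) .leaf) (257454, 0, 13, 101175) (.node .leaf (257457, 0, 16, 45457) .leaf)) (257459, 0, 16, 69567) (.node (.node .leaf (257461, 0, 14, 183948) .leaf) (257463, 0, 14, 79516) (.node .leaf (257464, 0, 14, 170596) .leaf))) (257466, 0, 13, 248385) (.node (.node (.node .leaf (257468, 0, 18, 32062) .leaf) (257470, 0, 16, 258914) (.node .leaf (257473, 0, 17, 254695) .leaf)) (257475, 0, 16, 202393) (.node (.node .leaf (257477, 0, 16, 163743) .leaf) (257479, 0, 19, 208826) (.node .leaf (257480, 0, 15, 86357) .leaf))))) (257482, 0, 17, 119655) (.node (.node (.node (.node (.node .leaf (257484, 0, 15, 47713) .leaf) (257486, 0, 17, 50746) (.node .leaf (257489, 0, 16, 16105) .leaf)) (257491, 0, 17, 93900) (.node (.node .leaf (257493, 0, 17, 1994) .leaf) (257495, 0, 17, 894) (.node .leaf (257496, 0, 16, 195351) .leaf))) (257498, 0, 16, 53201) (.node (.node (.node .leaf (257500, 0, 13, 88254) .leaf) (257502, 0, 16, 234001) (.node .leaf (257505, 0, 17, 85321) .leaf)) (257507, 0, 17, 96159) (.node (.node .leaf (257509, 0, 17, 57584)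 .leaf) (257511, 0, 16, 9295) (.node .leaf (257512, 0, 16, 231607) .leaf)))) (257514, 0, 18, 186514) (.node (.node (.node (.node .leaf (257516, 0, 15, 242068) .leaf) (257518, 0, 16, 188849) (.node .leaf (257521, 0, 13, 210204) .leaf)) (257523, 0, 16, 196969) (.node (.node .leaf (257525, 0, 16, 169478) .leaf) (257527, 0, 16, 97908) (.node .leaf (257528, 0, 14, 154281) .leaf))) (257530, 0, 15, 41159) (.node (.node (.node .leaf (257532, 0, 16, 117185) .leaf) (257534, 0, 13, 39396) (.node .leaf (257536, 0, 15, 54610) .leaf)) (257537, 0, 17, 13620) (.node (.node .leaf (257538, 0, 16, 99703) .leaf) (257539, 0, 16, 91409) .leaf)))))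

/-- part of the orbit tree -/
def itp7_435 : Tree := (.node itp7_431 (257162, 0, 17, 72597) itp7_432)

/-- part of the orbit tree -/
def itp7_436 : Tree := (.node itp7_433 (257418, 0, 16, 178657) itp7_434)

/-- part of the orbit tree -/
def itp7_437 : Tree := (.node itp7_429 (256777, 0, 14, 256064) itp7_430)

/-- part of the orbit tree -/
def itp7_438 : Tree := (.node itp7_435 (257290, 0, 16, 12011) itp7_436)

/-- part of the orbit tree -/
def itp7_439 : Tree := (.node itp7_423 (256013, 0, 16, 204631) itp7_424)

/-- part of the orbit tree -/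
def itp7_440 : Tree := (.node itp7_437 (257034, 0, 15, 232607) itp7_438)

/-- part of the orbit tree -/
def itp7_441 : Tree := (.node itp7_409 (254477, 0, 12, 79233) itp7_410)

/-- part of the orbit tree -/
def itp7_442 : Tree := (.node itp7_439 (256521, 0, 17, 200611) itp7_440)

/-- part of the orbit tree -/
def itp7_443 : Tree := (.node (.node (.node (.node (.node (.node .leaf (257541, 0, 11, 169942) .leaf) (257542, 0, 16, 206474) (.node .leaf (257543, 0, 16, 89138) .leaf)) (257552, 0, 15, 50963) (.node (.node .leaf (257553, 0, 17, 150881) .leaf) (257554, 0, 12, 261410) (.node .leaf (257555, 0, 15, 95823) .leaf))) (257556, 0, 13, 168996) (.node (.node (.node .leaf (257557, 0, 16, 57632) .leaf) (257558, 0, 11, 246785) (.node .leaf (257559, 0, 11, 205927) .leaf)) (257568, 0, 15, 253607) (.node (.node .leaf (257569, 0, 18, 103873) .leaf) (257570, 0, 16, 9373) (.node .leaf (257571, 0, 17, 163251) .leaf)))) (257572, 0, 18, 111602) (.node (.node (.node (.node .leaf (257573, 0, 17, 256732) .leaf) (257574, 0, 16, 178081) (.node .leaf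 (257575, 0, 16, 686) .leaf)) (257584, 0, 18, 108274) (.node (.node .leaf (257585, 0, 17, 254775) .leaf) (257586, 0, 17, 63191) (.node .leaf (257587, 0, 17, 5809) .leaf))) (257588, 0, 16, 106449) (.node (.node (.node .leaf (257589, 0, 17, 105514) .leaf) (257590, 0, 15, 11638) (.node .leaf (257591, 0, 15, 160856) .leaf)) (257600, 0, 14, 190831) (.node (.node .leaf (257601, 0, 11, 45121) .leaf) (257602, 0, 18, 192497) (.node .leaf (257603, 0, 17, 135063) .leaf))))) (257604, 0, 16, 38514) (.node (.node (.node (.node (.node .leaf (257605, 0, 16, 184156) .leaf) (257606, 0, 16, 228864) (.node .leaf (257607, 0, 15, 145076) .leaf)) (257616, 0, 16, 116609) (.node (.node .leaf (257617, 0, 14, 75751) .leaf) (257618, 0, 15, 38820) (.node .leaf (257619, 0, 16, 77509) .leaf))) (257620, 0, 14, 188548) (.node (.node (.node .leaf (257621, 0, 12, 47530) .leaf) (257622, 0, 15, 44679) (.node .leaf (257623, 0, 12, 217560) .leaf)) (257632, 0, 11, 46113) (.node (.node .leaf (257633, 0, 18, 118091) .leaf) (257634, 0, 16, 123908) (.node .leaf (257635,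 0, 18, 66658) .leaf)))) (257636, 0, 17, 36098) (.node (.node (.node (.node .leaf (257637, 0, 14, 28004) .leaf) (257638, 0, 17, 122151) (.node .leaf (257639, 0, 17, 81217) .leaf)) (257648, 0, 17, 123539) (.node (.node .leaf (257649, 0, 13, 142354) .leaf) (257650, 0, 18, 236625) (.node .leaf (257651, 0, 17, 228407) .leaf))) (257652, 0, 16, 236942) (.node (.node (.node .leaf (257653, 0, 16, 115872) .leaf) (257654, 0, 16, 238962) (.node .leaf (257655, 0, 15, 142546) .leaf)) (257664, 0, 16, 65932) (.node (.node .leaf (257665, 0, 11, 172606) .leaf) (257666, 0, 15, 190974) (.node .leaf (257667, 0, 12, 258587) .leaf))))))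

/-- part of the orbit tree -/
def itp7_444 : Tree := (.node (.node (.node (.node (.node (.node .leaf (257669, 0, 17, 170781) .leaf) (257670, 0, 17, 38627) (.node .leaf (257671, 0, 18, 184269) .leaf)) (257680, 0, 17, 227194) (.node (.node .leaf (257681, 0, 18, 77396) .leaf) (257682, 0, 16, 40712) (.node .leaf (257683, 0, 14, 100942) .leaf))) (257684, 0, 17, 814) (.node (.node (.node .leaf (257685, 0, 16, 58184) .leaf) (257686, 0, 15, 188437) (.node .leaf (257687, 0, 17, 47419) .leaf)) (257696, 0, 16, 31878) (.node (.node .leaf (257697, 0, 17, 109003) .leaf) (257698, 0, 14, 234740) (.node .leaf (257699, 0, 17, 118234) .leaf)))) (257700, 0, 16, 94350) (.node (.node (.node (.node .leaf (257701, 0, 14, 102632) .leaf) (257702, 0, 12, 125929) (.node .leaf (257703, 0, 13, 49357) .leaf)) (257712, 0, 15, 209400) (.node (.node .leaf (257713, 0, 8, 250270) .leaf) (257714, 0, 12, 123394) (.node .leaf (257715, 0, 15, 244524) .leaf))) (257716, 0, 16, 198875) (.node (.node (.node .leaf (257717, 0, 14, 142403) .leaf) (257718, 0, 16, 236831)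 (.node .leaf (257719, 0, 15, 115761) .leaf)) (257728, 0, 17, 88326) (.node (.node .leaf (257729, 0, 16, 116920) .leaf) (257730, 0, 15, 30971) (.node .leaf (257731, 0, 14, 59482) .leaf))))) (257732, 0, 16, 206363) (.node (.node (.node (.node (.node .leaf (257733, 0, 12, 98101) .leaf) (257734, 0, 15, 52841) (.node .leaf (257735, 0, 15, 41406) .leaf)) (257744, 0, 16, 217227) (.node (.node .leaf (257745, 0, 16, 95966) .leaf) (257746, 0, 17, 131246) (.node .leaf (257747, 0, 18, 171692) .leaf))) (257748, 0, 16, 223656) (.node (.node (.node .leaf (257749, 0, 11, 199107) .leaf) (257750, 0, 17, 145805) (.node .leaf (257751, 0, 16, 186859) .leaf)) (257760, 0, 16, 140075) (.node (.node .leaf (257761, 0, 16, 181069) .leaf) (257762, 0, 17, 226062) (.node .leaf (257763, 0, 16, 103760) .leaf)))) (257764, 0, 15, 137736) (.node (.node (.node (.node .leaf (257765, 0, 16, 575) .leaf) (257766, 0, 13, 215597) (.node .leaf (257767, 0, 16, 240203) .leaf)) (257776, 0, 16, 23422) (.node (.node .leaf (257777, 0, 18, 47896) .leaf) (257778, 0, 16, 68443)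 (.node .leaf (257779, 0, 16, 254886) .leaf))) (257780, 0, 18, 11751) (.node (.node (.node .leaf (257781, 0, 16, 160969) .leaf) (257782, 0, 11, 78456) (.node .leaf (257783, 0, 14, 105659) .leaf)) (257792, 0, 14, 227110) (.node (.node .leaf (257793, 0, 16, 235328) .leaf) (257794, 0, 18, 114292) (.node .leaf (257795, 0, 18, 255834) .leaf))))))

/-- part of the orbit tree -/
def itp7_445 : Tree := (.node (.node (.node (.node (.node (.node .leaf (257797, 0, 14, 159797) .leaf) (257798, 0, 12, 138784) (.node .leaf (257799, 0, 16, 104519) .leaf)) (257808, 0, 14, 8432) (.node (.node .leaf (257809, 0, 16, 162270) .leaf) (257810, 0, 16, 247938) (.node .leaf (257811, 0, 19, 48944) .leaf))) (257812, 0, 18, 155629) (.node (.node (.node .leaf (257813, 0, 17, 1731) .leaf) (257814, 0, 16, 112543) (.node .leaf (257815, 0, 9, 257713) .leaf)) (257824, 0, 16, 31955) (.node (.node .leaf (257825, 0, 13, 94754) .leaf) (257826, 0, 15, 50046) (.node .leaf (257827, 0, 15, 170576) .leaf)))) (257828, 0, 16, 17904) (.node (.node (.node (.node .leaf (257829,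 0, 17, 199999) .leaf) (257830, 0, 15, 179299) (.node .leaf (257831, 0, 15, 128435) .leaf)) (257840, 0, 16, 89594) (.node (.node .leaf (257841, 0, 14, 189664) .leaf) (257842, 0, 12, 218275) (.node .leaf (257843, 0, 17, 60582) .leaf))) (257844, 0, 18, 146853) (.node (.node (.node .leaf (257845, 0, 17, 97225) .leaf) (257846, 0, 13, 51861) (.node .leaf (257847, 0, 16, 232934) .leaf)) (257856, 0, 16, 134796) (.node (.node .leaf (257857, 0, 14, 22434) .leaf) (257858, 0, 17, 124670) (.node .leaf (257859, 0, 17, 110051) .leaf))))) (257860, 0, 14, 29073) (.node (.node (.node (.node (.node .leaf (257861, 0, 14, 50405) .leaf) (257862, 0, 17, 236003) (.node .leaf (257863, 0, 16, 114893) .leaf)) (257872, 0, 14, 30842) (.node (.node .leaf (257873, 0, 17, 139604) .leaf) (257874, 0, 13, 210384) (.node .leaf (257875, 0, 11, 117030) .leaf))) (257876, 0, 15, 154838) (.node (.node (.node .leaf (257877, 0, 13, 24137) .leaf) (257878, 0, 18, 126741) (.node .leaf (257879, 0, 17, 257173) .leaf)) (257888, 0, 17, 226182) (.node (.node .leaf (257889,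 0, 15, 76456) .leaf) (257890, 0, 15, 149104) (.node .leaf (257891, 0, 17, 173590) .leaf)))) (257892, 0, 16, 208758) (.node (.node (.node (.node .leaf (257893, 0, 13, 249616) .leaf) (257894, 0, 17, 163667) (.node .leaf (257895, 0, 17, 48583) .leaf)) (257904, 0, 17, 66928) (.node (.node .leaf (257905, 0, 16, 101990) .leaf) (257906, 0, 18, 191746) (.node .leaf (257907, 0, 18, 46124) .leaf))) (257908, 0, 12, 87843) (.node (.node (.node .leaf (257909, 0, 17, 112453) .leaf) (257910, 0, 18, 1798) (.node .leaf (257911, 0, 16, 183089) .leaf)) (257920, 0, 13, 124527) (.node (.node .leaf (257921, 0, 16, 65610) .leaf) (257922, 0, 17, 134685) (.node .leaf (257923, 0, 16, 22323) .leaf))))))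

/-- part of the orbit tree -/
def itp7_446 : Tree := (.node (.node (.node (.node (.node (.node .leaf (257925, 0, 17, 114780) .leaf) (257926, 0, 18, 35114) (.node .leaf (257927, 0, 13, 141358) .leaf)) (257936, 0, 14, 235641) (.node (.node .leaf (257937, 0, 17, 117175) .leaf) (257938, 0, 14, 182364) (.node .leaf (257939, 0, 15, 139717) .leaf))) (257940, 0, 16, 237914) (.node (.node (.node .leaf (257941, 0, 14, 213308) .leaf) (257942, 0, 9, 192895) (.node .leaf (257943, 0, 16, 24280) .leaf)) (257952, 0, 14, 39781) (.node (.node .leaf (257953, 0, 14, 180811) .leaf) (257954, 0, 15, 244732) (.node .leaf (257955, 0, 18, 220058) .leaf)))) (257956, 0, 18, 189560) (.node (.node (.node (.node .leaf (257957, 0, 16, 48470) .leaf) (257958, 0, 13, 230111) (.node .leaf (257959, 0, 18, 221881) .leaf)) (257968, 0, 14, 37772) (.node (.node .leaf (257969, 0, 18, 29674) .leaf) (257970, 0, 15, 67041) (.node .leaf (257971, 0, 14, 74703) .leaf))) (257972, 0, 16, 43695) (.node (.node (.node .leaf (257973, 0, 16, 19145) .leaf) (257974, 0, 15, 228092)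 (.node .leaf (257975, 0, 15, 72428) .leaf)) (257984, 0, 17, 114405) (.node (.node .leaf (257985, 0, 16, 158412) .leaf) (257986, 0, 17, 153239) (.node .leaf (257987, 0, 17, 4025) .leaf))))) (257988, 0, 13, 246264) (.node (.node (.node (.node (.node .leaf (257989, 0, 15, 152559) .leaf) (257990, 0, 15, 254892) (.node .leaf (257991, 0, 16, 197578) .leaf)) (258000, 0, 16, 62207) (.node (.node .leaf (258001, 0, 16, 4761) .leaf) (258002, 0, 12, 107226) (.node .leaf (258003, 0, 15, 82620) .leaf))) (258004, 0, 9, 52188) (.node (.node (.node .leaf (258005, 0, 16, 257568) .leaf) (258006, 0, 12, 155516) (.node .leaf (258007, 0, 15, 97183) .leaf)) (258016, 0, 18, 50159) (.node (.node .leaf (258017, 0, 14, 170689) .leaf) (258018, 0, 16, 207773) (.node .leaf (258019, 0, 12, 94899) .leaf)))) (258020, 0, 17, 112764) (.node (.node (.node (.node .leaf (258021, 0, 16, 88090) .leaf) (258022, 0, 12, 87168) (.node .leaf (258023, 0, 16, 2111) .leaf)) (258032, 0, 17, 260362) (.node (.node .leaf (258033, 0, 16, 203116) .leaf) (258034, 0, 15, 174383)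 (.node .leaf (258035, 0, 16, 149833) .leaf))) (258036, 0, 18, 51716) (.node (.node (.node .leaf (258037, 0, 16, 204879) .leaf) (258038, 0, 18, 167948) (.node .leaf (258039, 0, 15, 97112) .leaf)) (258048, 0, 15, 166020) (.node (.node .leaf (258051, 0, 17, 106283) .leaf) (258053, 0, 16, 2116) (.node .leaf (258054, 0, 15, 112920) .leaf))))))

/-- part of the orbit tree -/
def itp7_447 : Tree := (.node itp7_443 (257668, 0, 16, 162683) itp7_444)

/-- part of the orbit tree -/
def itp7_448 : Tree := (.node itp7_445 (257924, 0, 17, 235890) itp7_446)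

/-- part of the orbit tree -/
def itp7_449 : Tree := (.node (.node (.node (.node (.node (.node .leaf (258059, 0, 14, 73055) .leaf) (258061, 0, 16, 29785) (.node .leaf (258062, 0, 16, 115738) .leaf)) (258064, 0, 15, 61649) (.node (.node .leaf (258067, 0, 16, 82066) .leaf) (258069, 0, 16, 163506) (.node .leaf (258070, 0, 18, 104919) .leaf))) (258072, 0, 15, 176669) (.node (.node (.node .leaf (258075, 0, 17, 197441) .leaf) (258077, 0, 11, 134156) (.node .leaf (258078, 0, 14, 244815) .leaf)) (258080, 0, 17, 99185) (.node (.node .leaf (258083, 0, 16, 13106) .leaf) (258085, 0, 17, 95566) (.node .leaf (258086, 0, 16, 50194) .leaf)))) (258088, 0, 18, 239337) (.node (.node (.node (.node .leaf (258091, 0, 12, 2237) .leaf) (258093, 0, 16, 106450) (.node .leaf (258094, 0, 15, 11918) .leaf)) (258096, 0, 10, 260900) (.node (.node .leaf (258099, 0, 16, 169175) .leaf) (258101, 0, 19, 205409) (.node .leaf (258102, 0, 17, 168482) .leaf))) (258104, 0, 17, 122556) (.node (.node (.node .leaf (258107, 0, 17, 28415) .leaf) (258109, 0, 16, 67577)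 (.node .leaf (258110, 0, 13, 153720) .leaf)) (258112, 0, 12, 123394) (.node (.node .leaf (258115, 0, 13, 116641) .leaf) (258117, 0, 16, 80711) (.node .leaf (258118, 0, 18, 35588) .leaf))))) (258120, 0, 16, 247706) (.node (.node (.node (.node (.node .leaf (258123, 0, 15, 161753) .leaf) (258125, 0, 18, 204511) (.node .leaf (258126, 0, 16, 68366) .leaf)) (258128, 0, 15, 236119) (.node (.node .leaf (258131, 0, 17, 141844) .leaf) (258133, 0, 16, 213778) (.node .leaf (258134, 0, 17, 235364) .leaf))) (258136, 0, 15, 114639) (.node (.node (.node .leaf (258139, 0, 16, 3980) .leaf) (258141, 0, 14, 183460) (.node .leaf (258142, 0, 14, 228856) .leaf)) (258144, 0, 14, 68599) (.node (.node .leaf (258147, 0, 15, 47787) .leaf) (258149, 0, 15, 77252) (.node .leaf (258150, 0, 13, 229617) .leaf)))) (258152, 0, 9, 52335) (.node (.node (.node (.node .leaf (258155, 0, 13, 20535) .leaf) (258157, 0, 18, 5418) (.node .leaf (258158, 0, 17, 30212) .leaf)) (258160, 0, 15, 37282) (.node (.node .leaf (258163, 0, 10, 74209) .leaf) (258165, 0, 16, 219954)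 (.node .leaf (258166, 0, 13, 129188) .leaf))) (258168, 0, 19, 177210) (.node (.node (.node .leaf (258171, 0, 17, 140993) .leaf) (258173, 0, 17, 242094) (.node .leaf (258174, 0, 15, 253244) .leaf)) (258176, 0, 18, 237086) (.node (.node .leaf (258179, 0, 13, 110541) .leaf) (258181, 0, 13, 243757) (.node .leaf (258182, 0, 18, 133489) .leaf))))))

/-- part of the orbit tree -/
def itp7_450 : Tree := (.node (.node (.node (.node (.node (.node .leaf (258187, 0, 18, 232021) .leaf) (258189, 0, 17, 189267) (.node .leaf (258190, 0, 12, 189421) .leaf)) (258192, 0, 16, 125160) (.node (.node .leaf (258195, 0, 18, 22964) .leaf) (258197, 0, 12, 118491) (.node .leaf (258198, 0, 17, 200413) .leaf))) (258200, 0, 15, 66164) (.node (.node (.node .leaf (258203, 0, 18, 45864) .leaf) (258205, 0, 16, 74823) (.node .leaf (258206, 0, 18, 76613) .leaf)) (258208, 0, 14, 201851) (.node (.node .leaf (258211, 0, 15, 217672) .leaf) (258213, 0, 16, 249150) (.node .leaf (258214, 0, 14, 163197) .leaf)))) (258216, 0, 14, 133512) (.node (.node (.node (.node .leaf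 (258219, 0, 18, 243924) .leaf) (258221, 0, 17, 125094) (.node .leaf (258222, 0, 15, 22757) .leaf)) (258224, 0, 15, 38370) (.node (.node .leaf (258227, 0, 9, 56429) .leaf) (258229, 0, 18, 111979) (.node .leaf (258230, 0, 17, 1320) .leaf))) (258232, 0, 18, 32638) (.node (.node (.node .leaf (258235, 0, 16, 195061) .leaf) (258237, 0, 14, 233715) (.node .leaf (258238, 0, 18, 139440) .leaf)) (258240, 0, 18, 247444) (.node (.node .leaf (258243, 0, 15, 181579) .leaf) (258245, 0, 15, 254119) (.node .leaf (258246, 0, 15, 138254) .leaf))))) (258248, 0, 13, 207880) (.node (.node (.node (.node (.node .leaf (258251, 0, 17, 171348) .leaf) (258253, 0, 18, 100821) (.node .leaf (258254, 0, 17, 14742) .leaf)) (258256, 0, 13, 110690) (.node (.node .leaf (258259, 0, 16, 318) .leaf) (258261, 0, 17, 104017) (.node .leaf (258262, 0, 17, 25691) .leaf))) (258264, 0, 14, 88830) (.node (.node (.node .leaf (258267, 0, 18, 170118) .leaf) (258269, 0, 16, 97485) (.node .leaf (258270, 0, 18, 147907) .leaf)) (258272, 0, 16, 179102) (.node (.node .leaf (258275,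 0, 16, 118462) .leaf) (258277, 0, 15, 42936) (.node .leaf (258278, 0, 17, 208113) .leaf)))) (258280, 0, 15, 151810) (.node (.node (.node (.node .leaf (258283, 0, 17, 254046) .leaf) (258285, 0, 17, 161585) (.node .leaf (258286, 0, 14, 247405) .leaf)) (258288, 0, 17, 52584) (.node (.node .leaf (258291, 0, 18, 243435) .leaf) (258293, 0, 15, 188397) (.node .leaf (258294, 0, 17, 225198) .leaf))) (258296, 0, 16, 10228) (.node (.node (.node .leaf (258299, 0, 14, 103283) .leaf) (258301, 0, 17, 455) (.node .leaf (258302, 0, 18, 110747) .leaf)) (258304, 0, 15, 51604) (.node (.node .leaf (258307, 0, 17, 96456) .leaf) (258309, 0, 16, 127925) (.node .leaf (258310, 0, 17, 17398) .leaf))))))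

/-- part of the orbit tree -/
def itp7_451 : Tree := (.node (.node (.node (.node (.node (.node .leaf (258315, 0, 15, 180011) .leaf) (258317, 0, 16, 1339) (.node .leaf (258318, 0, 18, 111719) .leaf)) (258320, 0, 14, 180066) (.node (.node .leaf (258323, 0, 17, 200254) .leaf) (258325, 0, 17, 232416) (.node .leaf (258326, 0, 13, 146339) .leaf))) (258328, 0, 15, 96061) (.node (.node (.node .leaf (258331, 0, 17, 255138) .leaf) (258333, 0, 17, 160717) (.node .leaf (258334, 0, 15, 7739) .leaf)) (258336, 0, 16, 139525) (.node (.node .leaf (258339, 0, 17, 1474) .leaf) (258341, 0, 13, 103085) (.node .leaf (258342, 0, 18, 9201) .leaf)))) (258344, 0, 17, 89602) (.node (.node (.node (.node .leaf (258347, 0, 15, 111838) .leaf) (258349, 0, 17, 56792) (.node .leaf (258350, 0, 10, 93595) .leaf)) (258352, 0, 16, 246376) (.node (.node .leaf (258355, 0, 18, 160564) .leaf) (258357, 0, 15, 32789) (.node .leaf (258358, 0, 14, 77910) .leaf))) (258360, 0, 18, 207092) (.node (.node (.node .leaf (258363, 0, 17, 170408) .leaf) (258365, 0, 17, 200391)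 (.node .leaf (258366, 0, 18, 180123) .leaf)) (258368, 0, 17, 147574) (.node (.node .leaf (258371, 0, 18, 73794) .leaf) (258373, 0, 15, 170291) (.node .leaf (258374, 0, 17, 67185) .leaf))))) (258376, 0, 19, 26094) (.node (.node (.node (.node (.node .leaf (258379, 0, 18, 120237) .leaf) (258381, 0, 16, 48299) (.node .leaf (258382, 0, 17, 68840) .leaf)) (258384, 0, 15, 14371) (.node (.node .leaf (258387, 0, 20, 100448) .leaf) (258389, 0, 17, 57702) (.node .leaf (258390, 0, 15, 225415) .leaf))) (258392, 0, 17, 138683) (.node (.node (.node .leaf (258395, 0, 15, 241144) .leaf) (258397, 0, 16, 181502) (.node .leaf (258398, 0, 13, 226493) .leaf)) (258400, 0, 18, 84867) (.node (.node .leaf (258403, 0, 17, 23880) .leaf) (258405, 0, 14, 117287) (.node .leaf (258406, 0, 16, 31611) .leaf)))) (258408, 0, 14, 224795) (.node (.node (.node (.node .leaf (258411, 0, 16, 187992) .leaf) (258413, 0, 19, 73915) (.node .leaf (258414, 0, 17, 37351) .leaf)) (258416, 0, 15, 209878) (.node (.node .leaf (258419, 0, 14, 164757) .leaf) (258421, 0, 13, 256659)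 (.node .leaf (258422, 0, 16, 154320) .leaf))) (258424, 0, 15, 71246) (.node (.node (.node .leaf (258427, 0, 16, 180514) .leaf) (258429, 0, 18, 118539) (.node .leaf (258430, 0, 17, 32584) .leaf)) (258432, 0, 16, 227837) (.node (.node .leaf (258435, 0, 14, 134585) .leaf) (258437, 0, 15, 221134) (.node .leaf (258438, 0, 18, 185596) .leaf))))))

/-- part of the orbit tree -/
def itp7_452 : Tree := (.node (.node (.node (.node (.node (.node .leaf (258443, 0, 15, 10273) .leaf) (258445, 0, 13, 82215) (.node .leaf (258446, 0, 17, 61796) .leaf)) (258448, 0, 16, 69387) (.node (.node .leaf (258451, 0, 14, 48727) .leaf) (258453, 0, 17, 72938) (.node .leaf (258454, 0, 17, 39012) .leaf))) (258456, 0, 17, 124311) (.node (.node (.node .leaf (258459, 0, 13, 21707) .leaf) (258461, 0, 17, 115620) (.node .leaf (258462, 0, 15, 29432) .leaf)) (258464, 0, 17, 132343) (.node (.node .leaf (258467, 0, 15, 243115) .leaf) (258469, 0, 16, 139972) (.node .leaf (258470, 0, 14, 234392) .leaf)))) (258472, 0, 17, 192107) (.node (.node (.node (.node .leaf (258475,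 0, 9, 205780) .leaf) (258477, 0, 13, 150226) (.node .leaf (258478, 0, 16, 227588) .leaf)) (258480, 0, 18, 29185) (.node (.node .leaf (258483, 0, 15, 115549) .leaf) (258485, 0, 16, 21554) (.node .leaf (258486, 0, 16, 124270) .leaf))) (258488, 0, 16, 60354) (.node (.node (.node .leaf (258491, 0, 16, 88961) .leaf) (258493, 0, 17, 48814) (.node .leaf (258494, 0, 16, 99012) .leaf)) (258496, 0, 16, 205175) (.node (.node .leaf (258499, 0, 15, 91967) .leaf) (258501, 0, 15, 198468) (.node .leaf (258502, 0, 15, 114298) .leaf))))) (258504, 0, 15, 193252) (.node (.node (.node (.node (.node .leaf (258507, 0, 17, 162487) .leaf) (258509, 0, 14, 142241) (.node .leaf (258510, 0, 14, 154756) .leaf)) (258512, 0, 13, 87937) (.node (.node .leaf (258515, 0, 17, 204650) .leaf) (258517, 0, 15, 94642) (.node .leaf (258518, 0, 16, 49390) .leaf))) (258520, 0, 17, 113949) (.node (.node (.node .leaf (258523, 0, 14, 3137) .leaf) (258525, 0, 12, 21492) (.node .leaf (258526, 0, 17, 123831) .leaf)) (258528, 0, 16, 253065) (.node (.node .leaf (258531, 0, 15,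 257313) .leaf) (258533, 0, 16, 198092) (.node .leaf (258534, 0, 18, 177551) .leaf)))) (258536, 0, 15, 177889) (.node (.node (.node (.node .leaf (258539, 0, 18, 198589) .leaf) (258541, 0, 16, 73812) (.node .leaf (258542, 0, 15, 205198) .leaf)) (258544, 0, 17, 10891) (.node (.node .leaf (258547, 0, 18, 105431) .leaf) (258549, 0, 11, 97689) (.node .leaf (258550, 0, 15, 52698) .leaf))) (258552, 0, 13, 229700) (.node (.node (.node .leaf (258555, 0, 17, 94539) .leaf) (258557, 0, 10, 58916) (.node .leaf (258558, 0, 14, 87928) .leaf)) (258562, 0, 17, 246569) (.node (.node .leaf (258563, 0, 16, 201911) .leaf) (258564, 0, 14, 152646) .leaf)))))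

/-- part of the orbit tree -/
def itp7_453 : Tree := (.node itp7_449 (258184, 0, 16, 226434) itp7_450)

/-- part of the orbit tree -/
def itp7_454 : Tree := (.node itp7_451 (258440, 0, 15, 104546) itp7_452)

/-- part of the orbit tree -/
def itp7_455 : Tree := (.node itp7_447 (257796, 0, 15, 216581) itp7_448)

/-- part of the orbit tree -/
def itp7_456 : Tree := (.node itp7_453 (258312, 0, 16, 200552) itp7_454)

/-- part of the orbit tree -/
def itp7_457 : Tree := (.node (.node (.node (.node (.node (.node .leaf (258570, 0, 17, 119113) .leaf) (258571, 0, 15, 94363) (.node .leaf (258572, 0, 18, 47183) .leaf)) (258573, 0, 16, 59380) (.node (.node .leaf (258578, 0, 15, 101508) .leaf) (258579, 0, 18, 93410) (.node .leaf (258580, 0, 17, 58754) .leaf))) (258581, 0, 15, 1508) (.node (.node (.node .leaf (258586, 0, 17, 239900) .leaf) (258587, 0, 11, 215418) (.node .leaf (258588, 0, 16, 180250) .leaf)) (258589, 0, 16, 139388) (.node (.node .leaf (258594, 0, 17, 65316) .leaf) (258595, 0, 14, 8002) (.node .leaf (258596, 0, 15, 207180)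 .leaf)))) (258597, 0, 15, 95812) (.node (.node (.node (.node .leaf (258602, 0, 17, 187068) .leaf) (258603, 0, 9, 3473) (.node .leaf (258604, 0, 16, 246736) .leaf)) (258605, 0, 17, 105214) (.node (.node .leaf (258610, 0, 14, 165745) .leaf) (258611, 0, 17, 157463) (.node .leaf (258612, 0, 16, 257655) .leaf))) (258613, 0, 17, 200209) (.node (.node (.node .leaf (258618, 0, 13, 8777) .leaf) (258619, 0, 18, 17039) (.node .leaf (258620, 0, 13, 117743) .leaf)) (258621, 0, 16, 257032) (.node (.node .leaf (258626, 0, 13, 236451) .leaf) (258627, 0, 15, 115341) (.node .leaf (258628, 0, 16, 128849) .leaf))))) (258629, 0, 15, 21986) (.node (.node (.node (.node (.node .leaf (258634, 0, 16, 225599) .leaf) (258635, 0, 15, 75793) (.node .leaf (258636, 0, 18, 250569) .leaf)) (258637, 0, 17, 209583) (.node (.node .leaf (258642, 0, 15, 189954) .leaf) (258643, 0, 16, 242811) (.node .leaf (258644, 0, 17, 31290) .leaf))) (258645, 0, 17, 140052) (.node (.node (.node .leaf (258650, 0, 16, 50074) .leaf) (258651, 0, 12, 9212) (.node .leaf (258652, 0,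 17, 109212) .leaf)) (258653, 0, 16, 182664) (.node (.node .leaf (258658, 0, 16, 234914) .leaf) (258659, 0, 13, 226756) (.node .leaf (258660, 0, 16, 195748) .leaf)))) (258661, 0, 16, 76008) (.node (.node (.node (.node .leaf (258666, 0, 13, 110650) .leaf) (258667, 0, 14, 86108) (.node .leaf (258668, 0, 17, 55612) .leaf)) (258669, 0, 9, 14682) (.node (.node .leaf (258674, 0, 17, 126455) .leaf) (258675, 0, 18, 182641) (.node .leaf (258676, 0, 15, 67376) .leaf))) (258677, 0, 17, 25751) (.node (.node (.node .leaf (258682, 0, 14, 247919) .leaf) (258683, 0, 12, 206857) (.node .leaf (258684, 0, 18, 126380) .leaf)) (258685, 0, 17, 147727) (.node (.node .leaf (258690, 0, 18, 29504) .leaf) (258691, 0, 15, 141934) (.node .leaf (258692, 0, 16, 2781) .leaf))))))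

/-- part of the orbit tree -/
def itp7_458 : Tree := (.node (.node (.node (.node (.node (.node .leaf (258698, 0, 17, 214595) .leaf) (258699, 0, 10, 239141) (.node .leaf (258700, 0, 14, 143173) .leaf)) (258701, 0, 15, 184099) (.node (.node .leaf (258706, 0, 14, 132534) .leaf) (258707, 0, 18, 261096) (.node .leaf (258708, 0, 17, 160392) .leaf))) (258709, 0, 6, 117751) (.node (.node (.node .leaf (258714, 0, 15, 192298) .leaf) (258715, 0, 16, 46596) (.node .leaf (258716, 0, 13, 22288) .leaf)) (258717, 0, 10, 46966) (.node (.node .leaf (258722, 0, 17, 69194) .leaf) (258723, 0, 17, 218980) (.node .leaf (258724, 0, 10, 196904) .leaf)))) (258725, 0, 18, 254286) (.node (.node (.node (.node .leaf (258730, 0, 15, 124118) .leaf) (258731, 0, 18, 44496) (.node .leaf (258732, 0, 13, 74928) .leaf)) (258733, 0, 16, 115926) (.node (.node .leaf (258738, 0, 14, 227516) .leaf) (258739, 0, 15, 74130) (.node .leaf (258740, 0, 17, 96637) .leaf))) (258741, 0, 18, 46845) (.node (.node (.node .leaf (258746, 0, 15, 234016) .leaf) (258747, 0, 12, 117518)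 (.node .leaf (258748, 0, 18, 220389) .leaf)) (258749, 0, 17, 244867) (.node (.node .leaf (258754, 0, 13, 133469) .leaf) (258755, 0, 14, 160484) (.node .leaf (258756, 0, 15, 113829) .leaf))))) (258757, 0, 15, 255371) (.node (.node (.node (.node (.node .leaf (258762, 0, 14, 49494) .leaf) (258763, 0, 16, 52387) (.node .leaf (258764, 0, 17, 83395) .leaf)) (258765, 0, 18, 107941) (.node (.node .leaf (258770, 0, 17, 154940) .leaf) (258771, 0, 17, 1042) (.node .leaf (258772, 0, 15, 71694) .leaf))) (258773, 0, 15, 129128) (.node (.node (.node .leaf (258778, 0, 17, 178080) .leaf) (258779, 0, 17, 177398) (.node .leaf (258780, 0, 17, 205007) .leaf)) (258781, 0, 13, 253424) (.node (.node .leaf (258786, 0, 14, 66216) .leaf) (258787, 0, 16, 200686) (.node .leaf (258788, 0, 17, 49583) .leaf)))) (258789, 0, 15, 35784) (.node (.node (.node (.node .leaf (258794, 0, 17, 206640) .leaf) (258795, 0, 15, 247638) (.node .leaf (258796, 0, 14, 11059) .leaf)) (258797, 0, 18, 175696) (.node (.node .leaf (258802, 0, 13, 204854) .leaf) (258803, 0, 17, 96536)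 (.node .leaf (258804, 0, 15, 136187) .leaf))) (258805, 0, 15, 193437) (.node (.node (.node .leaf (258810, 0, 16, 248490) .leaf) (258811, 0, 17, 114435) (.node .leaf (258812, 0, 13, 155077) .leaf)) (258813, 0, 18, 54789) (.node (.node .leaf (258818, 0, 11, 206026) .leaf) (258819, 0, 14, 46787) (.node .leaf (258820, 0, 16, 81827) .leaf))))))

/-- part of the orbit tree -/
def itp7_459 : Tree := (.node (.node (.node (.node (.node (.node .leaf (258826, 0, 17, 249430) .leaf) (258827, 0, 17, 168795) (.node .leaf (258828, 0, 18, 203323) .leaf)) (258829, 0, 17, 23) (.node (.node .leaf (258834, 0, 17, 143088) .leaf) (258835, 0, 18, 183958) (.node .leaf (258836, 0, 16, 50515) .leaf))) (258837, 0, 15, 171133) (.node (.node (.node .leaf (258842, 0, 17, 112800) .leaf) (258843, 0, 16, 60174) (.node .leaf (258844, 0, 17, 12239) .leaf)) (258845, 0, 17, 98824) (.node (.node .leaf (258850, 0, 16, 220496) .leaf) (258851, 0, 18, 245046) (.node .leaf (258852, 0, 17, 144470) .leaf)))) (258853, 0, 12, 104321) (.node (.node (.node (.node .leaf (258858,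 0, 17, 176988) .leaf) (258859, 0, 17, 104622) (.node .leaf (258860, 0, 15, 4558) .leaf)) (258861, 0, 16, 97565) (.node (.node .leaf (258866, 0, 17, 75013) .leaf) (258867, 0, 16, 161304) (.node .leaf (258868, 0, 14, 112729) .leaf))) (258869, 0, 18, 254327) (.node (.node (.node .leaf (258874, 0, 17, 196765) .leaf) (258875, 0, 13, 254203) (.node .leaf (258876, 0, 13, 158107) .leaf)) (258877, 0, 18, 199659) (.node (.node .leaf (258882, 0, 17, 212003) .leaf) (258883, 0, 17, 75118) (.node .leaf (258884, 0, 16, 191279) .leaf))))) (258885, 0, 17, 177475) (.node (.node (.node (.node (.node .leaf (258890, 0, 18, 235228) .leaf) (258891, 0, 14, 118770) (.node .leaf (258892, 0, 15, 131507) .leaf)) (258893, 0, 16, 22685) (.node (.node .leaf (258898, 0, 18, 68278) .leaf) (258899, 0, 14, 218008) (.node .leaf (258900, 0, 14, 40409) .leaf))) (258901, 0, 17, 52502) (.node (.node (.node .leaf (258906, 0, 15, 122922) .leaf) (258907, 0, 16, 229768) (.node .leaf (258908, 0, 16, 133352) .leaf)) (258909, 0, 15, 190606) (.node (.node .leaf (258914,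 0, 15, 131402) .leaf) (258915, 0, 16, 55216) (.node .leaf (258916, 0, 17, 89808) .leaf)))) (258917, 0, 18, 118539) (.node (.node (.node (.node .leaf (258922, 0, 16, 191446) .leaf) (258923, 0, 16, 193064) (.node .leaf (258924, 0, 14, 228168) .leaf)) (258925, 0, 15, 75159) (.node (.node .leaf (258930, 0, 15, 30652) .leaf) (258931, 0, 15, 142994) (.node .leaf (258932, 0, 16, 206469) .leaf))) (258933, 0, 16, 244221) (.node (.node (.node .leaf (258938, 0, 17, 40224) .leaf) (258939, 0, 15, 35453) (.node .leaf (258940, 0, 15, 68175) .leaf)) (258941, 0, 17, 123771) (.node (.node .leaf (258946, 0, 18, 180655) .leaf) (258947, 0, 16, 183693) (.node .leaf (258948, 0, 16, 239785) .leaf))))))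

/-- part of the orbit tree -/
def itp7_460 : Tree := (.node (.node (.node (.node (.node (.node .leaf (258954, 0, 15, 58423) .leaf) (258955, 0, 14, 141073) (.node .leaf (258956, 0, 16, 101681) .leaf)) (258957, 0, 18, 241790) (.node (.node .leaf (258962, 0, 12, 47610) .leaf) (258963, 0, 8, 47995) (.node .leaf (258964, 0, 14, 226618) .leaf))) (258965, 0, 14, 76820) (.node (.node (.node .leaf (258970, 0, 14, 171106) .leaf) (258971, 0, 17, 162820) (.node .leaf (258972, 0, 17, 259428) .leaf)) (258973, 0, 17, 116360) (.node (.node .leaf (258978, 0, 17, 125353) .leaf) (258979, 0, 18, 76348) (.node .leaf (258980, 0, 13, 41820) .leaf)))) (258981, 0, 14, 17210) (.node (.node (.node (.node .leaf (258986, 0, 16, 66357) .leaf) (258987, 0, 15, 200612) (.node .leaf (258988, 0, 18, 165572) .leaf)) (258989, 0, 16, 183668) (.node (.node .leaf (258994, 0, 13, 237407) .leaf) (258995, 0, 19, 217705) (.node .leaf (258996, 0, 14, 187145) .leaf))) (258997, 0, 15, 20766) (.node (.node (.node .leaf (259002, 0, 14, 226755) .leaf) (259003, 0, 15, 96241)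 (.node .leaf (259004, 0, 17, 65169) .leaf)) (259005, 0, 17, 7927) (.node (.node .leaf (259010, 0, 17, 52265) .leaf) (259011, 0, 16, 169223) (.node .leaf (259012, 0, 16, 49711) .leaf))))) (259013, 0, 13, 8777) (.node (.node (.node (.node (.node .leaf (259018, 0, 17, 9909) .leaf) (259019, 0, 15, 224983) (.node .leaf (259020, 0, 15, 190391) .leaf)) (259021, 0, 12, 256244) (.node (.node .leaf (259026, 0, 17, 178911) .leaf) (259027, 0, 16, 58353) (.node .leaf (259028, 0, 15, 178810) .leaf))) (259029, 0, 16, 154140) (.node (.node (.node .leaf (259034, 0, 15, 128740) .leaf) (259035, 0, 17, 2413) (.node .leaf (259036, 0, 13, 247596) .leaf)) (259037, 0, 14, 32644) (.node (.node .leaf (259042, 0, 16, 110883) .leaf) (259043, 0, 15, 147642) (.node .leaf (259044, 0, 15, 9804) .leaf)))) (259045, 0, 15, 163682) (.node (.node (.node (.node .leaf (259050, 0, 17, 89023) .leaf) (259051, 0, 16, 197265) (.node .leaf (259052, 0, 16, 52432) .leaf)) (259053, 0, 16, 169470) (.node (.node .leaf (259058, 0, 17, 247765) .leaf) (259059, 0, 17, 106235)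 (.node .leaf (259060, 0, 18, 110991) .leaf))) (259061, 0, 17, 2452) (.node (.node (.node .leaf (259066, 0, 15, 208201) .leaf) (259067, 0, 12, 95335) (.node .leaf (259068, 0, 18, 234519) .leaf)) (259069, 0, 18, 58120) (.node (.node .leaf (259073, 0, 15, 225866) .leaf) (259075, 0, 16, 168671) (.node .leaf (259076, 0, 17, 89246) .leaf))))))

/-- part of the orbit tree -/
def itp7_461 : Tree := (.node itp7_457 (258693, 0, 14, 244993) itp7_458)

/-- part of the orbit tree -/
def itp7_462 : Tree := (.node itp7_459 (258949, 0, 18, 215247) itp7_460)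

/-- part of the orbit tree -/
def itp7_463 : Tree := (.node (.node (.node (.node (.node (.node .leaf (259081, 0, 16, 88018) .leaf) (259083, 0, 17, 161859) (.node .leaf (259084, 0, 16, 102039) .leaf)) (259086, 0, 16, 155248) (.node (.node .leaf (259089, 0, 14, 68127) .leaf) (259091, 0, 13, 58409) (.node .leaf (259092, 0, 14, 119642) .leaf))) (259094, 0, 15, 49690) (.node (.node (.node .leaf (259097, 0, 16, 208775) .leaf) (259099, 0, 16, 163746) (.node .leaf (259100, 0, 15, 246004) .leaf)) (259102, 0, 17, 173799) (.node (.node .leaf (259105, 0, 17, 1959) .leaf) (259107, 0, 17, 258005) (.node .leaf (259108, 0, 18, 41210) .leaf)))) (259110, 0, 14, 127199) (.node (.node (.node (.node .leaf (259113, 0, 13, 154663) .leaf) (259115, 0, 16, 197961) (.node .leaf (259116, 0, 17, 165218) .leaf)) (259118, 0, 14, 251207) (.node (.node .leaf (259121, 0, 15, 131562) .leaf) (259123, 0, 16, 104739) (.node .leaf (259124, 0, 18, 186543) .leaf))) (259126, 0, 15, 231562) (.node (.node (.node .leaf (259129, 0, 12, 170957) .leaf) (259131, 0, 15, 95167)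 (.node .leaf (259132, 0, 17, 179710) .leaf)) (259134, 0, 12, 109842) (.node (.node .leaf (259137, 0, 16, 6348) .leaf) (259139, 0, 17, 182869) (.node .leaf (259140, 0, 15, 49545) .leaf))))) (259142, 0, 17, 191590) (.node (.node (.node (.node (.node .leaf (259145, 0, 13, 116923) .leaf) (259147, 0, 15, 224625) (.node .leaf (259148, 0, 16, 126600) .leaf)) (259150, 0, 18, 242740) (.node (.node .leaf (259153, 0, 15, 218321) .leaf) (259155, 0, 15, 48291) (.node .leaf (259156, 0, 14, 226018) .leaf))) (259158, 0, 16, 39568) (.node (.node (.node .leaf (259161, 0, 18, 17665) .leaf) (259163, 0, 16, 22079) (.node .leaf (259164, 0, 16, 235646) .leaf)) (259166, 0, 16, 117857) (.node (.node .leaf (259169, 0, 16, 201529) .leaf) (259171, 0, 15, 243551) (.node .leaf (259172, 0, 17, 248444) .leaf)))) (259174, 0, 17, 170585) (.node (.node (.node (.node .leaf (259177, 0, 17, 79521) .leaf) (259179, 0, 15, 220611) (.node .leaf (259180, 0, 15, 37762) .leaf)) (259182, 0, 13, 228336) (.node (.node .leaf (259185, 0, 16, 93036) .leaf) (259187, 0, 17, 115113)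 (.node .leaf (259188, 0, 17, 135144) .leaf))) (259190, 0, 18, 57868) (.node (.node (.node .leaf (259193, 0, 18, 216820) .leaf) (259195, 0, 15, 76597) (.node .leaf (259196, 0, 17, 235441) .leaf)) (259198, 0, 14, 68870) (.node (.node .leaf (259201, 0, 18, 124224) .leaf) (259203, 0, 16, 46437) (.node .leaf (259204, 0, 15, 80901) .leaf))))))

/-- part of the orbit tree -/
def itp7_464 : Tree := (.node (.node (.node (.node (.node (.node .leaf (259209, 0, 18, 139352) .leaf) (259211, 0, 14, 168189) (.node .leaf (259212, 0, 15, 132715) .leaf)) (259214, 0, 18, 126489) (.node (.node .leaf (259217, 0, 15, 236821) .leaf) (259219, 0, 13, 218176) (.node .leaf (259220, 0, 17, 39425) .leaf))) (259222, 0, 17, 136309) (.node (.node (.node .leaf (259225, 0, 14, 22190) .leaf) (259227, 0, 15, 245468) (.node .leaf (259228, 0, 12, 90568) .leaf)) (259230, 0, 17, 235759) (.node (.node .leaf (259233, 0, 17, 243662) .leaf) (259235, 0, 13, 245392) (.node .leaf (259236, 0, 15, 233981) .leaf)))) (259238, 0, 15, 223189) (.node (.node (.node (.node .leaf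 (259241, 0, 16, 52013) .leaf) (259243, 0, 18, 46368) (.node .leaf (259244, 0, 17, 228193) .leaf)) (259246, 0, 16, 82509) (.node (.node .leaf (259249, 0, 17, 38624) .leaf) (259251, 0, 14, 141642) (.node .leaf (259252, 0, 17, 20389) .leaf))) (259254, 0, 17, 135033) (.node (.node (.node .leaf (259257, 0, 18, 76708) .leaf) (259259, 0, 16, 181206) (.node .leaf (259260, 0, 14, 158269) .leaf)) (259262, 0, 15, 189925) (.node (.node .leaf (259265, 0, 16, 167878) .leaf) (259267, 0, 17, 96828) (.node .leaf (259268, 0, 11, 153219) .leaf))))) (259270, 0, 16, 89103) (.node (.node (.node (.node (.node .leaf (259273, 0, 18, 43614) .leaf) (259275, 0, 16, 102560) (.node .leaf (259276, 0, 14, 155361) .leaf)) (259278, 0, 15, 112275) (.node (.node .leaf (259281, 0, 16, 58552) .leaf) (259283, 0, 13, 108470) (.node .leaf (259284, 0, 18, 49803) .leaf))) (259286, 0, 17, 98035) (.node (.node (.node .leaf (259289, 0, 17, 184843) .leaf) (259291, 0, 15, 255574) (.node .leaf (259292, 0, 14, 133966) .leaf)) (259294, 0, 18, 220011) (.node (.node .leaf (259297,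 0, 15, 99379) .leaf) (259299, 0, 18, 1846) (.node .leaf (259300, 0, 16, 89462) .leaf)))) (259302, 0, 17, 8453) (.node (.node (.node (.node .leaf (259305, 0, 17, 198104) .leaf) (259307, 0, 14, 192910) (.node .leaf (259308, 0, 15, 227566) .leaf)) (259310, 0, 17, 141515) (.node (.node .leaf (259313, 0, 16, 104882) .leaf) (259315, 0, 15, 160192) (.node .leaf (259316, 0, 17, 206115) .leaf))) (259318, 0, 14, 153587) (.node (.node (.node .leaf (259321, 0, 15, 121342) .leaf) (259323, 0, 15, 170844) (.node .leaf (259324, 0, 15, 87325) .leaf)) (259326, 0, 17, 179567) (.node (.node .leaf (259329, 0, 5, 53310) .leaf) (259331, 0, 14, 98331) (.node .leaf (259332, 0, 16, 2427) .leaf))))))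

/-- part of the orbit tree -/
def itp7_465 : Tree := (.node (.node (.node (.node (.node (.node .leaf (259337, 0, 16, 193958) .leaf) (259339, 0, 9, 171936) (.node .leaf (259340, 0, 17, 142563) .leaf)) (259342, 0, 16, 178579) (.node (.node .leaf (259345, 0, 16, 256952) .leaf) (259347, 0, 16, 970) (.node .leaf (259348, 0, 15, 160046) .leaf))) (259350, 0, 17, 9721) (.node (.node (.node .leaf (259353, 0, 13, 196900) .leaf) (259355, 0, 14, 122326) (.node .leaf (259356, 0, 16, 206615) .leaf)) (259358, 0, 14, 66707) (.node (.node .leaf (259361, 0, 16, 252875) .leaf) (259363, 0, 14, 166894) (.node .leaf (259364, 0, 14, 197262) .leaf)))) (259366, 0, 16, 152235) (.node (.node (.node (.node .leaf (259369, 0, 17, 130643) .leaf) (259371, 0, 16, 44662) (.node .leaf (259372, 0, 18, 75542) .leaf)) (259374, 0, 17, 246937) (.node (.node .leaf (259377, 0, 15, 107422) .leaf) (259379, 0, 16, 97984) (.node .leaf (259380, 0, 16, 176257) .leaf))) (259382, 0, 15, 88307) (.node (.node (.node .leaf (259385, 0, 18, 230918) .leaf) (259387, 0, 19, 185891)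 (.node .leaf (259388, 0, 16, 220995) .leaf)) (259390, 0, 16, 111215) (.node (.node .leaf (259393, 0, 14, 244408) .leaf) (259395, 0, 16, 142774) (.node .leaf (259396, 0, 15, 222205) .leaf))))) (259398, 0, 15, 134021) (.node (.node (.node (.node (.node .leaf (259401, 0, 17, 106272) .leaf) (259403, 0, 15, 182058) (.node .leaf (259404, 0, 15, 67947) .leaf)) (259406, 0, 17, 188697) (.node (.node .leaf (259409, 0, 15, 242482) .leaf) (259411, 0, 15, 23360) (.node .leaf (259412, 0, 16, 234753) .leaf))) (259414, 0, 18, 19341) (.node (.node (.node .leaf (259417, 0, 16, 255861) .leaf) (259419, 0, 15, 178000) (.node .leaf (259420, 0, 14, 229277) .leaf)) (259422, 0, 16, 38895) (.node (.node .leaf (259425, 0, 16, 45389) .leaf) (259427, 0, 15, 123240) (.node .leaf (259428, 0, 16, 26632) .leaf)))) (259430, 0, 17, 79917) (.node (.node (.node (.node .leaf (259433, 0, 13, 21074) .leaf) (259435, 0, 17, 247024) (.node .leaf (259436, 0, 17, 29793) .leaf)) (259438, 0, 14, 236563) (.node (.node .leaf (259441, 0, 15, 182552) .leaf) (259443, 0, 18,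 75338) (.node .leaf (259444, 0, 14, 190475) .leaf))) (259446, 0, 18, 65657) (.node (.node (.node .leaf (259449, 0, 15, 60544) .leaf) (259451, 0, 15, 113829) (.node .leaf (259452, 0, 16, 131735) .leaf)) (259454, 0, 16, 125669) (.node (.node .leaf (259457, 0, 17, 149300) .leaf) (259459, 0, 16, 116053) (.node .leaf (259460, 0, 14, 133908) .leaf))))))

/-- part of the orbit tree -/
def itp7_466 : Tree := (.node (.node (.node (.node (.node (.node .leaf (259465, 0, 16, 182203) .leaf) (259467, 0, 13, 77769) (.node .leaf (259468, 0, 17, 48105) .leaf)) (259470, 0, 17, 125900) (.node (.node .leaf (259473, 0, 16, 23505) .leaf) (259475, 0, 15, 242595) (.node .leaf (259476, 0, 10, 58916) .leaf))) (259478, 0, 18, 234896) (.node (.node (.node .leaf (259481, 0, 16, 45389) .leaf) (259483, 0, 17, 219455) (.node .leaf (259484, 0, 15, 38782) .leaf)) (259486, 0, 16, 234393) (.node (.node .leaf (259489, 0, 17, 85185) .leaf) (259491, 0, 16, 7396) (.node .leaf (259492, 0, 16, 103812) .leaf)))) (259494, 0, 14, 40556) (.node (.node (.node (.node .leaf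 (259497, 0, 18, 244401) .leaf) (259499, 0, 17, 21187) (.node .leaf (259500, 0, 13, 236674) .leaf)) (259502, 0, 16, 29936) (.node (.node .leaf (259505, 0, 17, 210068) .leaf) (259507, 0, 18, 183977) (.node .leaf (259508, 0, 17, 257489) .leaf))) (259510, 0, 12, 179700) (.node (.node (.node .leaf (259513, 0, 12, 69900) .leaf) (259515, 0, 18, 140341) (.node .leaf (259516, 0, 17, 116809) .leaf)) (259518, 0, 16, 39020) (.node (.node .leaf (259521, 0, 16, 161197) .leaf) (259523, 0, 19, 105951) (.node .leaf (259524, 0, 18, 128247) .leaf))))) (259526, 0, 14, 113644) (.node (.node (.node (.node (.node .leaf (259529, 0, 14, 171825) .leaf) (259531, 0, 14, 153615) (.node .leaf (259532, 0, 16, 250223) .leaf)) (259534, 0, 16, 86384) (.node (.node .leaf (259537, 0, 12, 859) .leaf) (259539, 0, 15, 132546) (.node .leaf (259540, 0, 17, 9576) .leaf))) (259542, 0, 14, 249114) (.node (.node (.node .leaf (259545, 0, 18, 59847) .leaf) (259547, 0, 17, 197045) (.node .leaf (259548, 0, 16, 108858) .leaf)) (259550, 0, 17, 206726) (.node (.node .leaf (259553,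 0, 17, 140871) .leaf) (259555, 0, 16, 57557) (.node .leaf (259556, 0, 14, 196354) .leaf)))) (259558, 0, 17, 241447) (.node (.node (.node (.node .leaf (259561, 0, 18, 991) .leaf) (259563, 0, 18, 2633) (.node .leaf (259564, 0, 14, 55962) .leaf)) (259566, 0, 19, 11386) (.node (.node .leaf (259569, 0, 17, 24082) .leaf) (259571, 0, 15, 69175) (.node .leaf (259572, 0, 16, 88162) .leaf))) (259574, 0, 12, 176144) (.node (.node (.node .leaf (259577, 0, 18, 162698) .leaf) (259579, 0, 15, 207791) (.node .leaf (259580, 0, 15, 111358) .leaf)) (259582, 0, 18, 154252) (.node (.node .leaf (259584, 0, 17, 206511) .leaf) (259585, 0, 16, 98177) .leaf)))))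

/-- part of the orbit tree -/
def itp7_467 : Tree := (.node itp7_463 (259206, 0, 15, 27680) itp7_464)

/-- part of the orbit tree -/
def itp7_468 : Tree := (.node itp7_465 (259462, 0, 17, 123750) itp7_466)

/-- part of the orbit tree -/
def itp7_469 : Tree := (.node itp7_461 (258821, 0, 10, 122821) itp7_462)

/-- part of the orbit tree -/
def itp7_470 : Tree := (.node itp7_467 (259334, 0, 17, 152335) itp7_468)

/-- part of the orbit tree -/
def itp7_471 : Tree := (.node itp7_455 (258056, 0, 12, 50411) itp7_456)

/-- part of the orbit tree -/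
def itp7_472 : Tree := (.node itp7_469 (259078, 0, 10, 195370) itp7_470)

/-- part of the orbit tree -/
def itp7_473 : Tree := (.node (.node (.node (.node (.node (.node .leaf (259587, 0, 15, 134687) .leaf) (259592, 0, 14, 105412) (.node .leaf (259593, 0, 18, 97186) .leaf)) (259594, 0, 16, 9281) (.node (.node .leaf (259595, 0, 18, 163183) .leaf) (259600, 0, 16, 86105) (.node .leaf (259601, 0, 12, 199031) .leaf))) (259602, 0, 16, 38444) (.node (.node (.node .leaf (259603, 0, 16, 57605) .leaf) (259608, 0, 10, 113349) (.node .leaf (259609, 0, 18, 197623) .leaf)) (259610, 0, 13, 177076) (.node (.node .leaf (259611, 0, 16, 2969) .leaf) (259616, 0, 17, 46505) (.node .leaf (259617, 0, 17, 21967) .leaf)))) (259618, 0, 17, 124300) (.node (.node (.node (.node .leaf (259619, 0, 17, 67050) .leaf) (259624, 0, 18, 167985) (.node .leaf (259625, 0, 13, 159831) .leaf)) (259626, 0, 15, 88395) (.node (.node .leaf (259627, 0, 17, 204914) .leaf) (259632, 0, 15, 11603) (.node .leaf (259633, 0, 14, 160893) .leaf))) (259634, 0, 18, 247073) (.node (.node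 (.node .leaf (259635, 0, 17, 228799) .leaf) (259640, 0, 16, 51151) (.node .leaf (259641, 0, 16, 171745) .leaf)) (259642, 0, 13, 112705) (.node (.node .leaf (259643, 0, 15, 95891) .leaf) (259648, 0, 16, 54490) (.node .leaf (259649, 0, 15, 75531) .leaf))))) (259650, 0, 16, 99583) (.node (.node (.node (.node (.node .leaf (259651, 0, 15, 184185) .leaf) (259656, 0, 18, 234681) (.node .leaf (259657, 0, 16, 118167) .leaf)) (259658, 0, 15, 237927) (.node (.node .leaf (259659, 0, 17, 140773) .leaf) (259664, 0, 15, 67795) (.node .leaf (259665, 0, 14, 150761) .leaf))) (259666, 0, 16, 261290) (.node (.node (.node .leaf (259667, 0, 9, 47503) .leaf) (259672, 0, 11, 35095) (.node .leaf (259673, 0, 17, 244577) .leaf)) (259674, 0, 16, 133693) (.node (.node .leaf (259675, 0, 15, 21267) .leaf) (259680, 0, 17, 253743) (.node .leaf (259681, 0, 17, 212809) .leaf)))) (259682, 0, 16, 167690) (.node (.node (.node (.node .leaf (259683, 0, 15, 159596) .leaf) (259688, 0, 10, 129719) (.node .leaf (259689, 0, 17, 45213) .leaf)) (259690, 0, 16, 43666) (.node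 (.node .leaf (259691, 0, 18, 219375) .leaf) (259696, 0, 14, 30169) (.node .leaf (259697, 0, 17, 83740) .leaf))) (259698, 0, 14, 236971) (.node (.node (.node .leaf (259699, 0, 12, 115845) .leaf) (259704, 0, 19, 230114) (.node .leaf (259705, 0, 16, 181867) .leaf)) (259706, 0, 13, 227127) (.node (.node .leaf (259707, 0, 17, 77337) .leaf) (259712, 0, 17, 38598) (.node .leaf (259713, 0, 14, 117040) .leaf))))))

/-- part of the orbit tree -/
def itp7_474 : Tree := (.node (.node (.node (.node (.node (.node .leaf (259715, 0, 15, 75674) .leaf) (259720, 0, 15, 31834) (.node .leaf (259721, 0, 13, 257192) .leaf)) (259722, 0, 17, 154859) (.node (.node .leaf (259723, 0, 15, 179341) .leaf) (259728, 0, 15, 217347) (.node .leaf (259729, 0, 14, 242021) .leaf))) (259730, 0, 18, 131366) (.node (.node (.node .leaf (259731, 0, 15, 188736) .leaf) (259736, 0, 16, 95387) (.node .leaf (259737, 0, 15, 103677) .leaf)) (259738, 0, 11, 9406) (.node (.node .leaf (259739, 0, 18, 50392) .leaf) (259744, 0, 16, 139939) (.node .leaf (259745, 0, 14, 242402) .leaf))))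 (259746, 0, 14, 132030) (.node (.node (.node (.node .leaf (259747, 0, 13, 23184) .leaf) (259752, 0, 12, 65872) (.node .leaf (259753, 0, 18, 219262) .leaf)) (259754, 0, 14, 190754) (.node (.node .leaf (259755, 0, 17, 45068) .leaf) (259760, 0, 16, 236858) (.node .leaf (259761, 0, 15, 115732) .leaf))) (259762, 0, 15, 30024) (.node (.node (.node .leaf (259763, 0, 18, 125621) .leaf) (259768, 0, 15, 163694) (.node .leaf (259769, 0, 15, 77448) .leaf)) (259770, 0, 13, 40916) (.node (.node .leaf (259771, 0, 18, 182010) .leaf) (259776, 0, 16, 148432) (.node .leaf (259777, 0, 17, 172982) .leaf))))) (259778, 0, 14, 201717) (.node (.node (.node (.node (.node .leaf (259779, 0, 9, 258963) .leaf) (259784, 0, 17, 26184) (.node .leaf (259785, 0, 16, 163326) .leaf)) (259786, 0, 14, 79469) (.node (.node .leaf (259787, 0, 15, 103820) .leaf) (259792, 0, 15, 178362) (.node .leaf (259793, 0, 14, 56291) .leaf))) (259794, 0, 18, 93088) (.node (.node (.node .leaf (259795, 0, 16, 199142) .leaf) (259800, 0, 14, 138781) (.node .leaf (259801, 0, 15, 2824)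 .leaf)) (259802, 0, 16, 113236) (.node (.node .leaf (259803, 0, 15, 241246) .leaf) (259808, 0, 14, 84005) (.node .leaf (259809, 0, 13, 256616) .leaf)))) (259810, 0, 18, 6144) (.node (.node (.node (.node .leaf (259811, 0, 18, 63590) .leaf) (259816, 0, 16, 88538) (.node .leaf (259817, 0, 14, 196852) .leaf)) (259818, 0, 10, 146840) (.node (.node .leaf (259819, 0, 15, 187902) .leaf) (259824, 0, 17, 209008) (.node .leaf (259825, 0, 16, 105630) .leaf))) (259826, 0, 16, 155733) (.node (.node (.node .leaf (259827, 0, 17, 161004) .leaf) (259832, 0, 8, 208684) (.node .leaf (259833, 0, 17, 95746) .leaf)) (259834, 0, 17, 17869) (.node (.node .leaf (259835, 0, 16, 42411) .leaf) (259840, 0, 16, 246092) (.node .leaf (259841, 0, 15, 104546) .leaf))))))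

/-- part of the orbit tree -/
def itp7_475 : Tree := (.node (.node (.node (.node (.node (.node .leaf (259843, 0, 12, 159760) .leaf) (259848, 0, 17, 207824) (.node .leaf (259849, 0, 17, 186838) .leaf)) (259850, 0, 17, 50082) (.node (.node .leaf (259851, 0, 12, 231923) .leaf) (259856, 0, 18, 112570) (.node .leaf (259857, 0, 16, 164891) .leaf))) (259858, 0, 17, 155592) (.node (.node (.node .leaf (259859, 0, 16, 250942) .leaf) (259864, 0, 17, 89382) (.node .leaf (259865, 0, 15, 41347) .leaf)) (259866, 0, 18, 177492) (.node (.node .leaf (259867, 0, 17, 60538) .leaf) (259872, 0, 12, 202717) (.node .leaf (259873, 0, 15, 260027) .leaf)))) (259874, 0, 16, 149496) (.node (.node (.node (.node .leaf (259875, 0, 17, 173982) .leaf) (259880, 0, 14, 153306) (.node .leaf (259881, 0, 15, 4084) .leaf)) (259882, 0, 16, 25184) (.node (.node .leaf (259883, 0, 18, 33286) .leaf) (259888, 0, 16, 51888) (.node .leaf (259889, 0, 14, 102382) .leaf))) (259890, 0, 18, 205506) (.node (.node (.node .leaf (259891, 0, 14, 97260) .leaf) (259896, 0, 15, 215568)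 (.node .leaf (259897, 0, 17, 240246) .leaf)) (259898, 0, 16, 247902) (.node (.node .leaf (259899, 0, 16, 195155) .leaf) (259904, 0, 16, 235974) (.node .leaf (259905, 0, 17, 114920) .leaf))))) (259906, 0, 16, 29108) (.node (.node (.node (.node (.node .leaf (259907, 0, 15, 141466) .leaf) (259912, 0, 15, 226138) (.node .leaf (259913, 0, 17, 76404) .leaf)) (259914, 0, 15, 787) (.node (.node .leaf (259915, 0, 18, 180742) .leaf) (259920, 0, 15, 126768) (.node .leaf (259921, 0, 13, 126621) .leaf))) (259922, 0, 17, 24286) (.node (.node (.node .leaf (259923, 0, 16, 48824) .leaf) (259928, 0, 15, 66988) (.node .leaf (259929, 0, 17, 220290) .leaf)) (259930, 0, 17, 162630) (.node (.node .leaf (259931, 0, 18, 170784) .leaf) (259936, 0, 15, 32091) (.node .leaf (259937, 0, 14, 48610) .leaf)))) (259938, 0, 12, 68798) (.node (.node (.node (.node .leaf (259939, 0, 17, 118040) .leaf) (259944, 0, 16, 134736) (.node .leaf (259945, 0, 15, 178341) .leaf)) (259946, 0, 14, 124450) (.node (.node .leaf (259947, 0, 18, 256128) .leaf) (259952, 0, 17, 132366)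 (.node .leaf (259953, 0, 9, 183060) .leaf))) (259954, 0, 16, 218411) (.node (.node (.node .leaf (259955, 0, 17, 74598) .leaf) (259960, 0, 18, 8342) (.node .leaf (259961, 0, 16, 49392) .leaf)) (259962, 0, 17, 94387) (.node (.node .leaf (259963, 0, 17, 102613) .leaf) (259968, 0, 15, 28965) (.node .leaf (259969, 0, 13, 141323) .leaf))))))

/-- part of the orbit tree -/
def itp7_476 : Tree := (.node (.node (.node (.node (.node (.node .leaf (259971, 0, 15, 114809) .leaf) (259976, 0, 12, 39865) (.node .leaf (259977, 0, 13, 180887) .leaf)) (259978, 0, 18, 226251) (.node (.node .leaf (259979, 0, 19, 76517) .leaf) (259984, 0, 18, 133075) (.node .leaf (259985, 0, 12, 4881) .leaf))) (259986, 0, 17, 126881) (.node (.node (.node .leaf (259987, 0, 13, 243343) .leaf) (259992, 0, 19, 191823) (.node .leaf (259993, 0, 18, 46177) .leaf)) (259994, 0, 16, 231114) (.node (.node .leaf (259995, 0, 18, 222892) .leaf) (260000, 0, 12, 98519) (.node .leaf (260001, 0, 16, 90289) .leaf)))) (260002, 0, 16, 53490) (.node (.node (.node (.node .leaf (260003,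 0, 16, 48499) .leaf) (260008, 0, 16, 124595) (.node .leaf (260009, 0, 17, 214313) .leaf)) (260010, 0, 16, 134849) (.node (.node .leaf (260011, 0, 15, 136460) .leaf) (260016, 0, 18, 228057) (.node .leaf (260017, 0, 16, 74743) .leaf))) (260018, 0, 17, 37547) (.node (.node (.node .leaf (260019, 0, 17, 183173) .leaf) (260024, 0, 17, 233541) (.node .leaf (260025, 0, 16, 81276) .leaf)) (260026, 0, 16, 30775) (.node (.node .leaf (260027, 0, 14, 139545) .leaf) (260032, 0, 17, 123300) (.node .leaf (260033, 0, 16, 159873) .leaf))))) (260034, 0, 18, 246237) (.node (.node (.node (.node (.node .leaf (260035, 0, 17, 104691) .leaf) (260040, 0, 15, 49971) (.node .leaf (260041, 0, 18, 205914) .leaf)) (260042, 0, 16, 168985) (.node (.node .leaf (260043, 0, 15, 160895) .leaf) (260048, 0, 16, 155481) (.node .leaf (260049, 0, 16, 1655) .leaf))) (260050, 0, 18, 182740) (.node (.node (.node .leaf (260051, 0, 12, 257541) .leaf) (260056, 0, 17, 113769) (.node .leaf (260057, 0, 16, 89103) .leaf)) (260058, 0, 16, 89527) (.node (.node .leaf (260059, 0,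 14, 197785) .leaf) (260064, 0, 17, 87205) (.node .leaf (260065, 0, 18, 133687) .leaf)))) (260066, 0, 15, 179415) (.node (.node (.node (.node .leaf (260067, 0, 16, 58873) .leaf) (260072, 0, 16, 114233) (.node .leaf (260073, 0, 13, 12207) .leaf)) (260074, 0, 17, 153163) (.node (.node .leaf (260075, 0, 11, 3941) .leaf) (260080, 0, 17, 37380) (.node .leaf (260081, 0, 16, 97149) .leaf))) (260082, 0, 17, 115233) (.node (.node (.node .leaf (260083, 0, 11, 168719) .leaf) (260088, 0, 17, 178076) (.node .leaf (260089, 0, 14, 102881) .leaf)) (260090, 0, 19, 8381) (.node (.node .leaf (260091, 0, 17, 198623) .leaf) (260097, 0, 9, 143974) (.node .leaf (260098, 0, 15, 230202) .leaf))))))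

/-- part of the orbit tree -/
def itp7_477 : Tree := (.node itp7_473 (259714, 0, 18, 31091) itp7_474)

/-- part of the orbit tree -/
def itp7_478 : Tree := (.node itp7_475 (259970, 0, 16, 235863) itp7_476)

/-- part of the orbit tree -/
def itp7_479 : Tree := (.node (.node (.node (.node (.node (.node .leaf (260102, 0, 16, 106398) .leaf) (260105, 0, 17, 144230) (.node .leaf (260106, 0, 16, 230181) .leaf)) (260109, 0, 16, 133701) (.node (.node .leaf (260110, 0, 14, 71355) .leaf) (260113, 0, 17, 159403) (.node .leaf (260114, 0, 15, 253672) .leaf))) (260117, 0, 15, 146317) (.node (.node (.node .leaf (260118, 0, 17, 255947) .leaf) (260121, 0, 17, 19251) (.node .leaf (260122, 0, 17, 129904) .leaf)) (260125, 0, 18, 184593) (.node (.node .leaf (260126, 0, 16, 115283) .leaf) (260129, 0, 16, 216940) (.node .leaf (260130, 0, 15, 196144) .leaf)))) (260133, 0, 15, 77937) (.node (.node (.node (.node .leaf (260134, 0, 13, 169067) .leaf) (260137, 0, 14, 239088) (.node .leaf (260138, 0, 10, 136364) .leaf)) (260141, 0, 18, 65968) (.node (.node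 .leaf (260142, 0, 16, 27569) .leaf) (260145, 0, 17, 91486) (.node .leaf (260146, 0, 15, 35014) .leaf))) (260149, 0, 16, 89213) (.node (.node (.node .leaf (260150, 0, 15, 60478) .leaf) (260153, 0, 13, 213190) (.node .leaf (260154, 0, 16, 192645) .leaf)) (260157, 0, 17, 240667) (.node (.node .leaf (260158, 0, 17, 182694) .leaf) (260161, 0, 16, 228472) (.node .leaf (260162, 0, 17, 252848) .leaf))))) (260165, 0, 15, 214363) (.node (.node (.node (.node (.node .leaf (260166, 0, 16, 107693) .leaf) (260169, 0, 18, 88544) (.node .leaf (260170, 0, 16, 209196) .leaf)) (260173, 0, 11, 65389) (.node (.node .leaf (260174, 0, 17, 53376) .leaf) (260177, 0, 14, 7194) (.node .leaf (260178, 0, 16, 46190) .leaf))) (260181, 0, 13, 81166) (.node (.node (.node .leaf (260182, 0, 18, 36173) .leaf) (260185, 0, 12, 205237) (.node .leaf (260186, 0, 18, 168438) .leaf)) (260189, 0, 18, 166299) (.node (.node .leaf (260190, 0, 14, 174293) .leaf) (260193, 0, 15, 202726) (.node .leaf (260194, 0, 15, 116686) .leaf)))) (260197, 0, 16, 92411) (.node (.node (.node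 (.node .leaf (260198, 0, 16, 55719) .leaf) (260201, 0, 13, 152085) (.node .leaf (260202, 0, 16, 254550) .leaf)) (260205, 0, 17, 158518) (.node (.node .leaf (260206, 0, 15, 252789) .leaf) (260209, 0, 15, 90384) (.node .leaf (260210, 0, 14, 53324) .leaf))) (260213, 0, 18, 204301) (.node (.node (.node .leaf (260214, 0, 16, 175953) .leaf) (260217, 0, 17, 10816) (.node .leaf (260218, 0, 14, 15056) .leaf)) (260221, 0, 14, 4963) (.node (.node .leaf (260222, 0, 19, 107296) .leaf) (260225, 0, 19, 98831) (.node .leaf (260226, 0, 17, 13139) .leaf))))))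

/-- part of the orbit tree -/
def itp7_480 : Tree := (.node (.node (.node (.node (.node (.node .leaf (260230, 0, 17, 150606) .leaf) (260233, 0, 17, 42092) (.node .leaf (260234, 0, 17, 70703) .leaf)) (260237, 0, 16, 40271) (.node (.node .leaf (260238, 0, 16, 173778) .leaf) (260241, 0, 16, 259321) (.node .leaf (260242, 0, 16, 84450) .leaf))) (260245, 0, 16, 49282) (.node (.node (.node .leaf (260246, 0, 17, 94401) .leaf) (260249, 0, 17, 204389) (.node .leaf (260250, 0, 11, 175929) .leaf)) (260253, 0, 16, 90488) (.node (.node .leaf (260254, 0, 17, 53284) .leaf) (260257, 0, 18, 100865) (.node .leaf (260258, 0, 16, 14914) .leaf)))) (260261, 0, 17, 163864) (.node (.node (.node (.node .leaf (260262, 0, 11, 209220) .leaf) (260265, 0, 16, 5529) (.node .leaf (260266, 0, 14, 139226) .leaf)) (260269, 0, 18, 158340) (.node (.node .leaf (260270, 0, 15, 141049) .leaf) (260273, 0, 18, 258644) (.node .leaf (260274, 0, 17, 211119) .leaf))) (260277, 0, 11, 63214) (.node (.node (.node .leaf (260278, 0, 16, 83890) .leaf) (260281, 0, 16, 156527)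 (.node .leaf (260282, 0, 15, 250419) .leaf)) (260285, 0, 16, 7282) (.node (.node .leaf (260286, 0, 17, 109870) .leaf) (260289, 0, 16, 125810) (.node .leaf (260290, 0, 15, 23345) .leaf))))) (260293, 0, 9, 239000) (.node (.node (.node (.node (.node .leaf (260294, 0, 13, 25106) .leaf) (260297, 0, 15, 249578) (.node .leaf (260298, 0, 13, 33093) .leaf)) (260301, 0, 16, 216836) (.node (.node .leaf (260302, 0, 14, 149386) .leaf) (260305, 0, 15, 240755) (.node .leaf (260306, 0, 16, 138543) .leaf))) (260309, 0, 16, 119662) (.node (.node (.node .leaf (260310, 0, 14, 25138) .leaf) (260313, 0, 17, 112319) (.node .leaf (260314, 0, 15, 1788) .leaf)) (260317, 0, 17, 80370) (.node (.node .leaf (260318, 0, 16, 16351) .leaf) (260321, 0, 16, 42895) (.node .leaf (260322, 0, 18, 217284) .leaf)))) (260325, 0, 18, 186514) (.node (.node (.node (.node .leaf (260326, 0, 14, 223719) .leaf) (260329, 0, 13, 19731) (.node .leaf (260330, 0, 18, 95580) .leaf)) (260333, 0, 13, 143886) (.node (.node .leaf (260334, 0, 8, 85119) .leaf) (260337, 0, 13, 184697)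 (.node .leaf (260338, 0, 15, 221221) .leaf))) (260341, 0, 12, 44644) (.node (.node (.node .leaf (260342, 0, 17, 70066) .leaf) (260345, 0, 15, 146405) (.node .leaf (260346, 0, 17, 199945) .leaf)) (260349, 0, 18, 164969) (.node (.node .leaf (260350, 0, 16, 209962) .leaf) (260353, 0, 17, 242826) (.node .leaf (260354, 0, 14, 132297) .leaf))))))

/-- part of the orbit tree -/
def itp7_481 : Tree := (.node (.node (.node (.node (.node (.node .leaf (260358, 0, 13, 72644) .leaf) (260361, 0, 19, 102674) (.node .leaf (260362, 0, 16, 8529) .leaf)) (260365, 0, 17, 16388) (.node (.node .leaf (260366, 0, 13, 127320) .leaf) (260369, 0, 13, 117983) (.node .leaf (260370, 0, 16, 70191) .leaf))) (260373, 0, 17, 187502) (.node (.node (.node .leaf (260374, 0, 15, 224562) .leaf) (260377, 0, 18, 256327) (.node .leaf (260378, 0, 15, 153860) .leaf)) (260381, 0, 17, 249956) (.node (.node .leaf (260382, 0, 15, 155687) .leaf) (260385, 0, 16, 239759) (.node .leaf (260386, 0, 15, 137683) .leaf)))) (260389, 0, 16, 120722) (.node (.node (.node (.node .leaf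 (260390, 0, 18, 79391) .leaf) (260393, 0, 16, 213523) (.node .leaf (260394, 0, 15, 193359) .leaf)) (260397, 0, 13, 81166) (.node (.node .leaf (260398, 0, 15, 35922) .leaf) (260401, 0, 15, 122489) (.node .leaf (260402, 0, 13, 28453) .leaf))) (260405, 0, 15, 196105) (.node (.node (.node .leaf (260406, 0, 17, 216650) .leaf) (260409, 0, 17, 79077) (.node .leaf (260410, 0, 17, 34233) .leaf)) (260413, 0, 15, 56209) (.node (.node .leaf (260414, 0, 15, 93138) .leaf) (260417, 0, 16, 56844) (.node .leaf (260418, 0, 14, 212051) .leaf))))) (260421, 0, 15, 61970) (.node (.node (.node (.node (.node .leaf (260422, 0, 15, 87916) .leaf) (260425, 0, 11, 195476) (.node .leaf (260426, 0, 17, 251599) .leaf)) (260429, 0, 17, 180919) (.node (.node .leaf (260430, 0, 13, 109010) .leaf) (260433, 0, 15, 64505) (.node .leaf (260434, 0, 17, 202266) .leaf))) (260437, 0, 16, 171898) (.node (.node (.node .leaf (260438, 0, 16, 208697) .leaf) (260441, 0, 13, 33729) (.node .leaf (260442, 0, 16, 78722) .leaf)) (260445, 0, 17, 47842) (.node (.node .leaf (260446,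 0, 16, 68257) .leaf) (260449, 0, 16, 251385) (.node .leaf (260450, 0, 15, 147801) .leaf)))) (260453, 0, 16, 257242) (.node (.node (.node (.node .leaf (260454, 0, 17, 15940) .leaf) (260457, 0, 17, 203417) (.node .leaf (260458, 0, 14, 16418) .leaf)) (260461, 0, 16, 91524) (.node (.node .leaf (260462, 0, 15, 54488) .leaf) (260465, 0, 18, 109996) (.node .leaf (260466, 0, 14, 7663) .leaf))) (260469, 0, 15, 260590) (.node (.node (.node .leaf (260470, 0, 13, 149682) .leaf) (260473, 0, 17, 93295) (.node .leaf (260474, 0, 14, 145527) .leaf)) (260477, 0, 12, 201586) (.node (.node .leaf (260478, 0, 16, 172590) .leaf) (260481, 0, 16, 91628) (.node .leaf (260482, 0, 15, 37827) .leaf))))))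

/-- part of the orbit tree -/
def itp7_482 : Tree := (.node (.node (.node (.node (.node (.node .leaf (260486, 0, 16, 175021) .leaf) (260489, 0, 16, 198168) (.node .leaf (260490, 0, 15, 15916) .leaf)) (260493, 0, 10, 212795) (.node (.node .leaf (260494, 0, 13, 147761) .leaf) (260497, 0, 18, 201498) (.node .leaf (260498, 0, 14, 191382) .leaf))) (260501, 0, 16, 93191) (.node (.node (.node .leaf (260502, 0, 17, 185013) .leaf) (260505, 0, 17, 260486) (.node .leaf (260506, 0, 16, 149722) .leaf)) (260509, 0, 14, 83822) (.node (.node .leaf (260510, 0, 13, 14279) .leaf) (260513, 0, 17, 141429) (.node .leaf (260514, 0, 16, 235574) .leaf)))) (260517, 0, 14, 135510) (.node (.node (.node (.node .leaf (260518, 0, 18, 237845) .leaf) (260521, 0, 16, 62074) (.node .leaf (260522, 0, 15, 114094) .leaf)) (260525, 0, 17, 167271) (.node (.node .leaf (260526, 0, 15, 212027) .leaf) (260529, 0, 18, 159248) (.node .leaf (260530, 0, 15, 122979) .leaf))) (260533, 0, 16, 26883) (.node (.node (.node .leaf (260534, 0, 16, 106577) .leaf) (260537, 0, 17,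 165004) (.node .leaf (260538, 0, 13, 210384) .leaf)) (260541, 0, 19, 64401) (.node (.node .leaf (260542, 0, 15, 261336) .leaf) (260545, 0, 14, 149766) (.node .leaf (260546, 0, 15, 35898) .leaf))))) (260549, 0, 15, 159781) (.node (.node (.node (.node (.node .leaf (260550, 0, 17, 193319) .leaf) (260553, 0, 14, 120826) (.node .leaf (260554, 0, 16, 26278) .leaf)) (260557, 0, 16, 21949) (.node (.node .leaf (260558, 0, 17, 137659) .leaf) (260561, 0, 17, 12627) (.node .leaf (260562, 0, 17, 98576) .leaf))) (260565, 0, 13, 2160) (.node (.node (.node .leaf (260566, 0, 13, 34257) .leaf) (260569, 0, 17, 237836) (.node .leaf (260570, 0, 18, 135248) .leaf)) (260573, 0, 18, 142824) (.node (.node .leaf (260574, 0, 14, 236971) .leaf) (260577, 0, 14, 16492) (.node .leaf (260578, 0, 16, 62128) .leaf)))) (260581, 0, 17, 147313) (.node (.node (.node (.node .leaf (260582, 0, 15, 233005) .leaf) (260585, 0, 14, 43760) (.node .leaf (260586, 0, 19, 72620) .leaf)) (260589, 0, 18, 185837) (.node (.node .leaf (260590, 0, 14, 192011) .leaf) (260593, 0,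 16, 145050) (.node .leaf (260594, 0, 17, 231366) .leaf))) (260597, 0, 18, 197509) (.node (.node (.node .leaf (260598, 0, 12, 129243) .leaf) (260601, 0, 15, 73534) (.node .leaf (260602, 0, 14, 224602) .leaf)) (260605, 0, 15, 75293) (.node (.node .leaf (260606, 0, 15, 38494) .leaf) (260608, 0, 14, 56040) .leaf)))))

/-- part of the orbit tree -/
def itp7_483 : Tree := (.node itp7_479 (260229, 0, 17, 261394) itp7_480)

/-- part of the orbit tree -/
def itp7_484 : Tree := (.node itp7_481 (260485, 0, 17, 72355) itp7_482)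

/-- part of the orbit tree -/
def itp7_485 : Tree := (.node itp7_477 (259842, 0, 16, 85005) itp7_478)

/-- part of the orbit tree -/
def itp7_486 : Tree := (.node itp7_483 (260357, 0, 17, 43672) itp7_484)

/-- part of the orbit tree -/
def itp7_487 : Tree := (.node (.node (.node (.node (.node (.node .leaf (260612, 0, 16, 58315) .leaf) (260613, 0, 17, 18519) (.node .leaf (260616, 0, 15, 196464) .leaf)) (260617, 0, 17, 187862) (.node (.node .leaf (260620, 0, 17, 181843) .leaf) (260621, 0, 16, 140853) (.node .leaf (260624, 0, 17, 172733) .leaf))) (260625, 0, 11, 148187) (.node (.node (.node .leaf (260628, 0, 14, 170910) .leaf) (260629, 0, 15, 162808) (.node .leaf (260632, 0, 16, 34597) .leaf)) (260633, 0, 16, 43808) (.node (.node .leaf (260636, 0, 13, 48646) .leaf) (260637, 0, 13, 185405) (.node .leaf (260640, 0, 18, 250141) .leaf)))) (260641, 0, 16, 209275) (.node (.node (.node (.node .leaf (260644, 0, 17, 224371) .leaf) (260645, 0, 17, 79197) (.node .leaf (260648, 0, 18, 129522) .leaf)) (260649, 0, 16, 237788) (.node (.node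 .leaf (260652, 0, 14, 231151) .leaf) (260653, 0, 14, 77248) (.node .leaf (260656, 0, 17, 108872) .leaf))) (260657, 0, 14, 84270) (.node (.node (.node .leaf (260660, 0, 17, 72325) .leaf) (260661, 0, 15, 213931) (.node .leaf (260664, 0, 18, 232656) .leaf)) (260665, 0, 15, 224438) (.node (.node .leaf (260668, 0, 18, 243187) .leaf) (260669, 0, 16, 239927) (.node .leaf (260672, 0, 12, 241774) .leaf))))) (260673, 0, 13, 217096) (.node (.node (.node (.node (.node .leaf (260676, 0, 17, 150003) .leaf) (260677, 0, 18, 4317) (.node .leaf (260680, 0, 15, 103926) .leaf)) (260681, 0, 17, 95632) (.node (.node .leaf (260684, 0, 17, 109781) .leaf) (260685, 0, 18, 64065) (.node .leaf (260688, 0, 18, 147480) .leaf))) (260689, 0, 16, 6454) (.node (.node (.node .leaf (260692, 0, 17, 127256) .leaf) (260693, 0, 16, 70014) (.node .leaf (260696, 0, 15, 257443) .leaf)) (260697, 0, 15, 62378) (.node (.node .leaf (260700, 0, 17, 251008) .leaf) (260701, 0, 17, 167095) (.node .leaf (260704, 0, 16, 84964) .leaf)))) (260705, 0, 17, 201418) (.node (.node (.node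 (.node .leaf (260708, 0, 16, 210169) .leaf) (260709, 0, 17, 93655) (.node .leaf (260712, 0, 12, 106872) .leaf)) (260713, 0, 17, 163429) (.node (.node .leaf (260716, 0, 17, 253541) .leaf) (260717, 0, 15, 149318) (.node .leaf (260720, 0, 17, 181198) .leaf))) (260721, 0, 13, 140200) (.node (.node (.node .leaf (260724, 0, 15, 195309) .leaf) (260725, 0, 15, 203553) (.node .leaf (260728, 0, 18, 58966) .leaf)) (260729, 0, 16, 1584) (.node (.node .leaf (260732, 0, 17, 108691) .leaf) (260733, 0, 18, 258493) (.node .leaf (260736, 0, 17, 151010) .leaf))))))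

/-- part of the orbit tree -/
def itp7_488 : Tree := (.node (.node (.node (.node (.node (.node .leaf (260740, 0, 18, 160961) .leaf) (260741, 0, 18, 260158) (.node .leaf (260744, 0, 13, 210065) .leaf)) (260745, 0, 17, 34844) (.node (.node .leaf (260748, 0, 14, 84876) .leaf) (260749, 0, 17, 201378) (.node .leaf (260752, 0, 17, 13751) .leaf))) (260753, 0, 16, 258517) (.node (.node (.node .leaf (260756, 0, 17, 251878) .leaf) (260757, 0, 15, 60658) (.node .leaf (260760, 0, 12, 82535) .leaf)) (260761, 0, 16, 192585) (.node (.node .leaf (260764, 0, 15, 141580) .leaf) (260765, 0, 16, 182634) (.node .leaf (260768, 0, 18, 172807) .leaf)))) (260769, 0, 16, 64041) (.node (.node (.node (.node .leaf (260772, 0, 15, 56346) .leaf) (260773, 0, 14, 106322) (.node .leaf (260776, 0, 17, 222095) .leaf)) (260777, 0, 15, 230377) (.node (.node .leaf (260780, 0, 17, 13958) .leaf) (260781, 0, 18, 244426) (.node .leaf (260784, 0, 8, 212546) .leaf))) (260785, 0, 15, 253476) (.node (.node (.node .leaf (260788, 0, 6, 198497) .leaf) (260789, 0, 17, 62402)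 (.node .leaf (260792, 0, 17, 16237) .leaf)) (260793, 0, 17, 129980) (.node (.node .leaf (260796, 0, 13, 74489) .leaf) (260797, 0, 17, 115359) (.node .leaf (260800, 0, 19, 231047) .leaf))))) (260801, 0, 16, 122793) (.node (.node (.node (.node (.node .leaf (260804, 0, 14, 129434) .leaf) (260805, 0, 13, 130593) (.node .leaf (260808, 0, 16, 224283) .leaf)) (260809, 0, 18, 254618) (.node (.node .leaf (260812, 0, 15, 211935) .leaf) (260813, 0, 13, 215592) (.node .leaf (260816, 0, 14, 127089) .leaf))) (260817, 0, 16, 245591) (.node (.node (.node .leaf (260820, 0, 11, 222738) .leaf) (260821, 0, 18, 120386) (.node .leaf (260824, 0, 17, 96937) .leaf)) (260825, 0, 16, 105167) (.node (.node .leaf (260828, 0, 17, 222704) .leaf) (260829, 0, 12, 107500) (.node .leaf (260832, 0, 16, 195469) .leaf)))) (260833, 0, 18, 41635) (.node (.node (.node (.node .leaf (260836, 0, 14, 136626) .leaf) (260837, 0, 13, 187838) (.node .leaf (260840, 0, 17, 135441) .leaf)) (260841, 0, 15, 18495) (.node (.node .leaf (260844, 0, 14, 28172) .leaf) (260845, 0, 13,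 145186) (.node .leaf (260848, 0, 17, 21700) .leaf))) (260849, 0, 12, 46242) (.node (.node (.node .leaf (260852, 0, 17, 193126) .leaf) (260853, 0, 17, 43848) (.node .leaf (260856, 0, 18, 26599) .leaf)) (260857, 0, 14, 147145) (.node (.node .leaf (260860, 0, 14, 149631) .leaf) (260861, 0, 14, 16852) (.node .leaf (260864, 0, 18, 35207) .leaf))))))

/-- part of the orbit tree -/
def itp7_489 : Tree := (.node (.node (.node (.node (.node (.node .leaf (260868, 0, 17, 194202) .leaf) (260869, 0, 19, 44980) (.node .leaf (260872, 0, 15, 25371) .leaf)) (260873, 0, 15, 114018) (.node (.node .leaf (260876, 0, 17, 138246) .leaf) (260877, 0, 16, 99393) (.node .leaf (260880, 0, 14, 65737) .leaf))) (260881, 0, 16, 123055) (.node (.node (.node .leaf (260884, 0, 17, 80362) .leaf) (260885, 0, 17, 186690) (.node .leaf (260888, 0, 16, 206161) .leaf)) (260889, 0, 19, 247095) (.node (.node .leaf (260892, 0, 16, 27376) .leaf) (260893, 0, 17, 261140) (.node .leaf (260896, 0, 18, 128141) .leaf)))) (260897, 0, 16, 241059) (.node (.node (.node (.node .leaf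 (260900, 0, 9, 232336) .leaf) (260901, 0, 11, 43564) (.node .leaf (260904, 0, 18, 73233) .leaf)) (260905, 0, 18, 177815) (.node (.node .leaf (260908, 0, 17, 159698) .leaf) (260909, 0, 17, 79906) (.node .leaf (260912, 0, 18, 230011) .leaf))) (260913, 0, 17, 121685) (.node (.node (.node .leaf (260916, 0, 15, 143903) .leaf) (260917, 0, 14, 184953) (.node .leaf (260920, 0, 15, 11940) .leaf)) (260921, 0, 16, 78281) (.node (.node .leaf (260924, 0, 14, 6023) .leaf) (260925, 0, 14, 216788) (.node .leaf (260928, 0, 19, 53517) .leaf))))) (260929, 0, 16, 62076) (.node (.node (.node (.node (.node .leaf (260932, 0, 16, 11065) .leaf) (260933, 0, 16, 63294) (.node .leaf (260936, 0, 17, 15249) .leaf)) (260937, 0, 13, 156351) (.node (.node .leaf (260940, 0, 16, 134817) .leaf) (260941, 0, 15, 7586) (.node .leaf (260944, 0, 15, 158287) .leaf))) (260945, 0, 16, 65237) (.node (.node (.node .leaf (260948, 0, 15, 55526) .leaf) (260949, 0, 17, 164296) (.node .leaf (260952, 0, 16, 20439) .leaf)) (260953, 0, 17, 5193) (.node (.node .leaf (260956, 0,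 16, 30452) .leaf) (260957, 0, 16, 158548) (.node .leaf (260960, 0, 16, 109575) .leaf)))) (260961, 0, 17, 260489) (.node (.node (.node (.node .leaf (260964, 0, 16, 205004) .leaf) (260965, 0, 14, 245930) (.node .leaf (260968, 0, 16, 83611) .leaf)) (260969, 0, 16, 204725) (.node (.node .leaf (260972, 0, 17, 66900) .leaf) (260973, 0, 14, 124210) (.node .leaf (260976, 0, 16, 90554) .leaf))) (260977, 0, 18, 98780) (.node (.node (.node .leaf (260980, 0, 17, 108012) .leaf) (260981, 0, 17, 112895) (.node .leaf (260984, 0, 14, 209005) .leaf)) (260985, 0, 17, 238660) (.node (.node .leaf (260988, 0, 16, 228609) .leaf) (260989, 0, 16, 202334) (.node .leaf (260992, 0, 18, 211438) .leaf))))))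

/-- part of the orbit tree -/
def itp7_490 : Tree := (.node (.node (.node (.node (.node (.node .leaf (260996, 0, 19, 120501) .leaf) (260997, 0, 15, 204765) (.node .leaf (261000, 0, 15, 250738) .leaf)) (261001, 0, 16, 207464) (.node (.node .leaf (261004, 0, 17, 258861) .leaf) (261005, 0, 15, 259393) (.node .leaf (261008, 0, 17, 85784) .leaf))) (261009, 0, 16, 227237) (.node (.node (.node .leaf (261012, 0, 17, 208901) .leaf) (261013, 0, 16, 92459) (.node .leaf (261016, 0, 17, 107908) .leaf)) (261017, 0, 15, 86589) (.node (.node .leaf (261020, 0, 18, 101240) .leaf) (261021, 0, 11, 99255) (.node .leaf (261024, 0, 14, 189539) .leaf)))) (261025, 0, 14, 7626) (.node (.node (.node (.node .leaf (261028, 0, 14, 15353) .leaf) (261029, 0, 15, 156375) (.node .leaf (261032, 0, 17, 49659) .leaf)) (261033, 0, 16, 63318) (.node (.node .leaf (261036, 0, 16, 53605) .leaf) (261037, 0, 17, 6334) (.node .leaf (261040, 0, 17, 39990) .leaf))) (261041, 0, 14, 158524) (.node (.node (.node .leaf (261044, 0, 13, 42261) .leaf) (261045, 0, 16, 5153) (.node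 .leaf (261048, 0, 13, 178606) .leaf)) (261049, 0, 15, 154056) (.node (.node .leaf (261052, 0, 17, 163981) .leaf) (261053, 0, 16, 65213) (.node .leaf (261056, 0, 17, 221540) .leaf))))) (261057, 0, 16, 79946) (.node (.node (.node (.node (.node .leaf (261060, 0, 15, 179251) .leaf) (261061, 0, 14, 214871) (.node .leaf (261064, 0, 16, 232440) .leaf)) (261065, 0, 18, 119510) (.node (.node .leaf (261068, 0, 16, 128229) .leaf) (261069, 0, 16, 241099) (.node .leaf (261072, 0, 14, 64837) .leaf))) (261073, 0, 16, 216764) (.node (.node (.node .leaf (261076, 0, 16, 50278) .leaf) (261077, 0, 14, 9216) (.node .leaf (261080, 0, 19, 186589) .leaf)) (261081, 0, 18, 145595) (.node (.node .leaf (261084, 0, 18, 188926) .leaf) (261085, 0, 17, 121661) (.node .leaf (261088, 0, 15, 138350) .leaf)))) (261089, 0, 18, 93827) (.node (.node (.node (.node .leaf (261092, 0, 18, 25459) .leaf) (261093, 0, 12, 146013) (.node .leaf (261096, 0, 17, 194290) .leaf)) (261097, 0, 16, 215835) (.node (.node .leaf (261100, 0, 16, 234078) .leaf) (261101, 0, 18, 184513)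 (.node .leaf (261104, 0, 16, 27288) .leaf))) (261105, 0, 15, 144310) (.node (.node (.node .leaf (261108, 0, 17, 136581) .leaf) (261109, 0, 17, 19627) (.node .leaf (261112, 0, 18, 119592) .leaf)) (261113, 0, 18, 186666) (.node (.node .leaf (261116, 0, 16, 196377) .leaf) (261117, 0, 16, 68205) (.node .leaf (261120, 0, 17, 222908) .leaf))))))

/-- part of the orbit tree -/
def itp7_491 : Tree := (.node itp7_487 (260737, 0, 15, 100131) itp7_488)

/-- part of the orbit tree -/
def itp7_492 : Tree := (.node itp7_489 (260993, 0, 16, 90304) itp7_490)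

/-- part of the orbit tree -/
def itp7_493 : Tree := (.node (.node (.node (.node (.node (.node .leaf (261124, 0, 16, 120083) .leaf) (261126, 0, 17, 192979) (.node .leaf (261128, 0, 14, 232480) .leaf)) (261130, 0, 14, 25682) (.node (.node .leaf (261132, 0, 17, 127805) .leaf) (261134, 0, 15, 172206) (.node .leaf (261136, 0, 16, 69706) .leaf))) (261138, 0, 15, 194616) (.node (.node (.node .leaf (261140, 0, 16, 225111) .leaf) (261142, 0, 12, 195939) (.node .leaf (261144, 0, 16, 111101) .leaf)) (261146, 0, 17, 57816) (.node (.node .leaf (261148, 0, 14, 100574) .leaf) (261150, 0, 16, 28089) (.node .leaf (261152, 0, 18, 138166) .leaf)))) (261154, 0, 16, 243680) (.node (.node (.node (.node .leaf (261156, 0, 17, 25771) .leaf) (261158, 0, 16, 232665) (.node .leaf (261160, 0, 15, 192810) .leaf)) (261162, 0, 14, 72024) (.node (.node .leaf (261164, 0, 14, 64382) .leaf) (261166, 0, 17, 109403) (.node .leaf (261168, 0, 16, 27968) .leaf))) (261170, 0, 17, 230706) (.node (.node (.node .leaf (261172, 0, 16, 42675) .leaf) (261174, 0, 18, 129583)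 (.node .leaf (261176, 0, 14, 34780) .leaf)) (261178, 0, 17, 225198) (.node (.node .leaf (261180, 0, 14, 164651) .leaf) (261182, 0, 16, 69811) (.node .leaf (261184, 0, 15, 212534) .leaf))))) (261186, 0, 16, 54852) (.node (.node (.node (.node (.node .leaf (261188, 0, 15, 180117) .leaf) (261190, 0, 15, 257968) (.node .leaf (261192, 0, 16, 41774) .leaf)) (261194, 0, 16, 127755) (.node (.node .leaf (261196, 0, 18, 109495) .leaf) (261198, 0, 16, 117288) (.node .leaf (261200, 0, 14, 65251) .leaf))) (261202, 0, 15, 172210) (.node (.node (.node .leaf (261204, 0, 17, 51136) .leaf) (261206, 0, 18, 57263) (.node .leaf (261208, 0, 16, 187259) .leaf)) (261210, 0, 17, 150062) (.node (.node .leaf (261212, 0, 16, 189016) .leaf) (261214, 0, 17, 242301) (.node .leaf (261216, 0, 17, 101699) .leaf)))) (261218, 0, 14, 109390) (.node (.node (.node (.node .leaf (261220, 0, 16, 111712) .leaf) (261222, 0, 16, 250963) (.node .leaf (261224, 0, 16, 174496) .leaf)) (261226, 0, 16, 194814) (.node (.node .leaf (261228, 0, 15, 233976) .leaf) (261230, 0, 16,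 180701) (.node .leaf (261232, 0, 11, 13770) .leaf))) (261234, 0, 17, 173363) (.node (.node (.node .leaf (261236, 0, 18, 248885) .leaf) (261238, 0, 16, 171024) (.node .leaf (261240, 0, 15, 57174) .leaf)) (261242, 0, 15, 32939) (.node (.node .leaf (261244, 0, 18, 125357) .leaf) (261246, 0, 14, 84025) (.node .leaf (261248, 0, 17, 54997) .leaf))))))

/-- part of the orbit tree -/
def itp7_494 : Tree := (.node (.node (.node (.node (.node (.node .leaf (261252, 0, 17, 213529) .leaf) (261254, 0, 17, 135740) (.node .leaf (261256, 0, 13, 15433) .leaf)) (261258, 0, 13, 250939) (.node (.node .leaf (261260, 0, 15, 92033) .leaf) (261262, 0, 18, 109350) (.node .leaf (261264, 0, 16, 172067) .leaf))) (261266, 0, 7, 21322) (.node (.node (.node .leaf (261268, 0, 14, 80460) .leaf) (261270, 0, 18, 27241) (.node .leaf (261272, 0, 18, 206583) .leaf)) (261274, 0, 14, 107213) (.node (.node .leaf (261276, 0, 12, 13730) .leaf) (261278, 0, 16, 253392) (.node .leaf (261280, 0, 14, 109535) .leaf)))) (261282, 0, 16, 148397) (.node (.node (.node (.node .leaf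 (261284, 0, 15, 251074) .leaf) (261286, 0, 18, 15536) (.node .leaf (261288, 0, 14, 152919) .leaf)) (261290, 0, 15, 198002) (.node (.node .leaf (261292, 0, 16, 158836) .leaf) (261294, 0, 16, 54828) (.node .leaf (261296, 0, 18, 253225) .leaf))) (261298, 0, 14, 13659) (.node (.node (.node .leaf (261300, 0, 16, 143801) .leaf) (261302, 0, 15, 221596) (.node .leaf (261304, 0, 16, 210869) .leaf)) (261306, 0, 17, 97575) (.node (.node .leaf (261308, 0, 16, 5153) .leaf) (261310, 0, 18, 82948) (.node .leaf (261312, 0, 15, 36447) .leaf))))) (261314, 0, 17, 222765) (.node (.node (.node (.node (.node .leaf (261316, 0, 19, 192834) .leaf) (261318, 0, 14, 71984) (.node .leaf (261320, 0, 17, 144420) .leaf)) (261322, 0, 14, 222209) (.node (.node .leaf (261324, 0, 16, 138206) .leaf) (261326, 0, 16, 127916) (.node .leaf (261328, 0, 18, 194729) .leaf))) (261330, 0, 17, 69851) (.node (.node (.node .leaf (261332, 0, 16, 34740) .leaf) (261334, 0, 18, 225222) (.node .leaf (261336, 0, 14, 135733) .leaf)) (261338, 0, 16, 72788) (.node (.node .leaf (261340,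 0, 15, 30034) .leaf) (261342, 0, 16, 75127) (.node .leaf (261344, 0, 17, 203337) .leaf)))) (261346, 0, 17, 138023) (.node (.node (.node (.node .leaf (261348, 0, 18, 205674) .leaf) (261350, 0, 16, 160591) (.node .leaf (261352, 0, 17, 81873) .leaf)) (261354, 0, 15, 28660) (.node (.node .leaf (261356, 0, 13, 67314) .leaf) (261358, 0, 17, 22231) (.node .leaf (261360, 0, 15, 230819) .leaf))) (261362, 0, 16, 28113) (.node (.node (.node .leaf (261364, 0, 15, 129726) .leaf) (261366, 0, 18, 2842) (.node .leaf (261368, 0, 17, 225087) .leaf)) (261370, 0, 16, 137121) (.node (.node .leaf (261372, 0, 16, 69666) .leaf) (261374, 0, 10, 142978) (.node .leaf (261376, 0, 15, 151108) .leaf))))))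

/-- part of the orbit tree -/
def itp7_495 : Tree := (.node (.node (.node (.node (.node (.node .leaf (261380, 0, 13, 161639) .leaf) (261382, 0, 16, 206658) (.node .leaf (261384, 0, 14, 27612) .leaf)) (261386, 0, 14, 33713) (.node (.node .leaf (261388, 0, 19, 70878) .leaf) (261390, 0, 17, 195756) (.node .leaf (261392, 0, 14, 128937) .leaf))) (261394, 0, 16, 139227) (.node (.node (.node .leaf (261396, 0, 17, 3890) .leaf) (261398, 0, 18, 24774) (.node .leaf (261400, 0, 18, 73013) .leaf)) (261402, 0, 17, 213932) (.node (.node .leaf (261404, 0, 14, 221736) .leaf) (261406, 0, 18, 35418) (.node .leaf (261408, 0, 17, 83377) .leaf)))) (261410, 0, 11, 5524) (.node (.node (.node (.node .leaf (261412, 0, 15, 97426) .leaf) (261414, 0, 16, 11447) (.node .leaf (261416, 0, 14, 221225) .leaf)) (261418, 0, 17, 130747) (.node (.node .leaf (261420, 0, 16, 219402) .leaf) (261422, 0, 15, 229798) (.node .leaf (261424, 0, 18, 212452) .leaf))) (261426, 0, 14, 159169) (.node (.node (.node .leaf (261428, 0, 16, 193982) .leaf) (261430, 0, 16, 73164)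 (.node .leaf (261432, 0, 15, 24639) .leaf)) (261434, 0, 16, 18521) (.node (.node .leaf (261436, 0, 17, 74079) .leaf) (261438, 0, 17, 29050) (.node .leaf (261440, 0, 18, 252373) .leaf))))) (261442, 0, 14, 12711) (.node (.node (.node (.node (.node .leaf (261444, 0, 16, 73185) .leaf) (261446, 0, 15, 151226) (.node .leaf (261448, 0, 12, 209737) .leaf)) (261450, 0, 18, 56123) (.node (.node .leaf (261452, 0, 12, 85076) .leaf) (261454, 0, 18, 157788) (.node .leaf (261456, 0, 13, 110371) .leaf))) (261458, 0, 15, 149329) (.node (.node (.node .leaf (261460, 0, 16, 222644) .leaf) (261462, 0, 16, 14412) (.node .leaf (261464, 0, 16, 96527) .leaf)) (261466, 0, 16, 175565) (.node (.node .leaf (261468, 0, 17, 81964) .leaf) (261470, 0, 15, 53968) (.node .leaf (261472, 0, 17, 173279) .leaf)))) (261474, 0, 14, 85165) (.node (.node (.node (.node .leaf (261476, 0, 13, 136724) .leaf) (261478, 0, 18, 214577) (.node .leaf (261480, 0, 17, 151107) .leaf)) (261482, 0, 13, 88714) (.node (.node .leaf (261484, 0, 13, 13196) .leaf) (261486, 0, 14, 252204)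 (.node .leaf (261488, 0, 16, 53801) .leaf))) (261490, 0, 18, 67399) (.node (.node (.node .leaf (261492, 0, 14, 175412) .leaf) (261494, 0, 13, 83270) (.node .leaf (261496, 0, 17, 160506) .leaf)) (261498, 0, 18, 250055) (.node (.node .leaf (261500, 0, 17, 150489) .leaf) (261502, 0, 14, 203772) (.node .leaf (261504, 0, 17, 55630) .leaf))))))

/-- part of the orbit tree -/
def itp7_496 : Tree := (.node (.node (.node (.node (.node (.node .leaf (261508, 0, 14, 151083) .leaf) (261510, 0, 17, 110664) (.node .leaf (261512, 0, 15, 56234) .leaf)) (261514, 0, 16, 209880) (.node (.node .leaf (261516, 0, 18, 181749) .leaf) (261518, 0, 17, 85189) (.node .leaf (261520, 0, 15, 172315) .leaf))) (261522, 0, 17, 110514) (.node (.node (.node .leaf (261524, 0, 17, 170040) .leaf) (261526, 0, 15, 250031) (.node .leaf (261528, 0, 16, 175452) .leaf)) (261530, 0, 18, 83246) (.node (.node .leaf (261532, 0, 17, 53825) .leaf) (261534, 0, 16, 211507) (.node .leaf (261536, 0, 17, 85052) .leaf)))) (261538, 0, 13, 173134) (.node (.node (.node (.node .leaf (261540,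 0, 15, 209697) .leaf) (261542, 0, 16, 179133) (.node .leaf (261544, 0, 16, 108192) .leaf)) (261546, 0, 16, 151250) (.node (.node .leaf (261548, 0, 17, 118272) .leaf) (261550, 0, 17, 12751) (.node .leaf (261552, 0, 10, 109294) .leaf))) (261554, 0, 15, 64203) (.node (.node (.node .leaf (261556, 0, 14, 83415) .leaf) (261558, 0, 17, 175525) (.node .leaf (261560, 0, 16, 233334) .leaf)) (261562, 0, 18, 14372) (.node (.node .leaf (261564, 0, 16, 110411) .leaf) (261566, 0, 10, 149305) (.node .leaf (261568, 0, 12, 27068) .leaf))))) (261570, 0, 12, 189421) (.node (.node (.node (.node (.node .leaf (261572, 0, 14, 136865) .leaf) (261574, 0, 16, 187086) (.node .leaf (261576, 0, 17, 33568) .leaf)) (261578, 0, 17, 50805) (.node (.node .leaf (261580, 0, 17, 195645) .leaf) (261582, 0, 19, 65366) (.node .leaf (261584, 0, 17, 139082) .leaf))) (261586, 0, 14, 128824) (.node (.node (.node .leaf (261588, 0, 19, 127678) .leaf) (261590, 0, 16, 41627) (.node .leaf (261592, 0, 12, 257541) .leaf)) (261594, 0, 14, 73124) (.node (.node .leaf (261596, 0,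 17, 251686) .leaf) (261598, 0, 16, 165635) (.node .leaf (261600, 0, 17, 47165) .leaf)))) (261602, 0, 17, 124952) (.node (.node (.node (.node .leaf (261604, 0, 17, 33054) .leaf) (261606, 0, 15, 119099) (.node .leaf (261608, 0, 17, 130602) .leaf)) (261610, 0, 12, 136792) (.node (.node .leaf (261612, 0, 15, 173190) .leaf) (261614, 0, 14, 259235) (.node .leaf (261616, 0, 12, 180328) .leaf))) (261618, 0, 17, 35378) (.node (.node (.node .leaf (261620, 0, 16, 194891) .leaf) (261622, 0, 17, 193839) (.node .leaf (261624, 0, 16, 231644) .leaf)) (261626, 0, 17, 24750) (.node (.node .leaf (261628, 0, 15, 56531) .leaf) (261630, 0, 16, 139187) .leaf)))))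

/-- part of the orbit tree -/
def itp7_497 : Tree := (.node itp7_493 (261250, 0, 16, 212647) itp7_494)

/-- part of the orbit tree -/
def itp7_498 : Tree := (.node itp7_495 (261506, 0, 15, 252228) itp7_496)

/-- part of the orbit tree -/
def itp7_499 : Tree := (.node itp7_491 (260865, 0, 17, 235770) itp7_492)

/-- part of the orbit tree -/
def itp7_500 : Tree := (.node itp7_497 (261378, 0, 16, 26925) itp7_498)

/-- part of the orbit tree -/
def itp7_501 : Tree := (.node itp7_485 (260101, 0, 16, 19835) itp7_486)

/-- part of the orbit tree -/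
def itp7_502 : Tree := (.node itp7_499 (261122, 0, 15, 36558) itp7_500)

/-- part of the orbit tree -/
def itp7_503 : Tree := (.node itp7_471 (258565, 0, 17, 3432) itp7_472)

/-- part of the orbit tree -/
def itp7_504 : Tree := (.node itp7_501 (260609, 0, 16, 14990) itp7_502)

/-- part of the orbit tree -/
def itp7_505 : Tree := (.node itp7_441 (255498, 0, 13, 122611) itp7_442)

/-- part of the orbit tree -/
def itp7_506 : Tree := (.node itp7_503 (259586, 0, 17, 52957) itp7_504)

/-- part of the orbit tree -/
def itp7_507 : Tree := (.node itp7_379 (249364, 0, 16, 74549) itp7_380)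

/-- part of the orbit tree -/
def itp7_508 : Tree := (.node itp7_505 (257540, 0, 17, 60529) itp7_506)

/-- part of the orbit tree -/
def itp7_509 : Tree := (.node itp7_253 (237096, 0, 15, 187540) itp7_254)

/-- part of the orbit tree -/
def itp7_510 : Tree := (.node itp7_507 (253448, 0, 18, 4663) itp7_508)

/-- part of the orbit tree -/
def itr_7 : Tree := (.node itp7_509 (245264, 0, 15, 219536) itp7_510)

end Cfsg.Agent.Lib.Helper28.J3IsoData
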