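import Cfsg.Agent.Lib.Helper28.J3IsoData0
import Cfsg.Agent.Lib.Helper28.J3IsoData1
import Cfsg.Agent.Lib.Helper28.J3IsoData2
import Cfsg.Agent.Lib.Helper28.J3IsoData3
import Cfsg.Agent.Lib.Helper28.J3IsoData4
import Cfsg.Agent.Lib.Helper28.J3IsoData5
import Cfsg.Agent.Lib.Helper28.J3IsoData6
import Cfsg.Agent.Lib.Helper28.J3IsoData7

/-!
# The orbit of the triple cover of `J₃` on isotropic vectors

A Schreier tree for the orbit of the vector `e₀ + e₁` (130815 vectors: all nonzero isotropic
vectors).  Each entry holds the key of the vector, a dummy code, its depth and the key of its parent.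
Generated by a script.
-/

set_option autoImplicit false

namespace Cfsg.Agent.Lib.Helper28.J3IsoData

open Cfsg.Agent.Lib.Helper28.BSGSMat (Tree)

/-- the base vector `e₀ + e₁` -/
def ib : ℕ := 3

/-- the orbit tree -/
def IT : Tree := (.node (.node (.node itr_0 (32672, 0, 18, 152036) itr_1) (65344, 0, 14, 180264) (.node itr_2 (98080, 0, 17, 17829) itr_3)) (130688, 0, 16, 258954) (.node (.node itr_4 (163488, 0, 16, 178241) itr_5) (196160, 0, 10, 141709) (.node itr_6 (228896, 0, 17, 217782) itr_7)))

end Cfsg.Agent.Lib.Helper28.J3IsoData
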