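import Cfsg.Agent.Lib.Helper28.BSGSF4

/-!
# The orbit of the triple cover of `J₃` on isotropic vectors: part 0 of the orbit tree

Generated by a script.
-/

set_option autoImplicit false

namespace Cfsg.Agent.Lib.Helper28.J3IsoData

open Cfsg.Agent.Lib.Helper28.BSGSMat (Tree)

/-- part of the orbit tree -/
def itp0_1 : Tree := (.node (.node (.node (.node (.node (.node .leaf (3, 0, 0, 3) .leaf) (5, 0, 15, 55621) (.node .leaf (6, 0, 16, 104303) .leaf)) (9, 0, 16, 177074) (.node (.node .leaf (10, 0, 18, 226749) .leaf) (12, 0, 15, 169345) (.node .leaf (15, 0, 16, 206045) .leaf))) (17, 0, 19, 170035) (.node (.node (.node .leaf (18, 0, 13, 206960) .leaf) (20, 0, 18, 147830) (.node .leaf (23, 0, 16, 258357) .leaf)) (24, 0, 13, 24013) (.node (.node .leaf (27, 0, 12, 208182) .leaf) (29, 0, 8, 33928) (.node .leaf (30, 0, 17, 199429) .leaf)))) (33, 0, 17, 205860) (.node (.node (.node (.node .leaf (34, 0, 16, 154576) .leaf) (36, 0, 16, 209622) (.node .leaf (39, 0, 18, 164501) .leaf)) (40, 0, 14, 77421)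 (.node (.node .leaf (43, 0, 17, 40494) .leaf) (45, 0, 14, 111013) (.node .leaf (46, 0, 17, 18283) .leaf))) (48, 0, 13, 95136) (.node (.node (.node .leaf (51, 0, 15, 178848) .leaf) (53, 0, 18, 109285) (.node .leaf (54, 0, 17, 171155) .leaf)) (57, 0, 15, 243294) (.node (.node .leaf (58, 0, 18, 2322) .leaf) (60, 0, 16, 106109) (.node .leaf (63, 0, 15, 188248) .leaf))))) (65, 0, 17, 131492) (.node (.node (.node (.node (.node .leaf (66, 0, 16, 146083) .leaf) (68, 0, 14, 141207) (.node .leaf (71, 0, 13, 235211) .leaf)) (72, 0, 17, 85790) (.node (.node .leaf (75, 0, 18, 65373) .leaf) (77, 0, 16, 37925) (.node .leaf (78, 0, 17, 9752) .leaf))) (80, 0, 15, 142972) (.node (.node (.node .leaf (83, 0, 14, 41616) .leaf) (85, 0, 17, 133199) (.node .leaf (86, 0, 17, 243987) .leaf)) (89, 0, 16, 251693) (.node (.node .leaf (90, 0, 17, 76946) .leaf) (92, 0, 15, 48125) (.node .leaf (95, 0, 16, 68257) .leaf)))) (96, 0, 16, 24947) (.node (.node (.node (.node .leaf (99, 0, 13, 38108) .leaf) (101, 0, 15, 66483) (.node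 .leaf (102, 0, 18, 45807) .leaf)) (105, 0, 17, 235058) (.node (.node .leaf (106, 0, 16, 201934) .leaf) (108, 0, 19, 241665) (.node .leaf (111, 0, 18, 131421) .leaf))) (113, 0, 18, 194880) (.node (.node (.node .leaf (114, 0, 17, 47876) .leaf) (116, 0, 15, 139269) (.node .leaf (119, 0, 15, 40247) .leaf)) (120, 0, 16, 15550) (.node (.node .leaf (123, 0, 14, 101629) .leaf) (125, 0, 17, 58875) (.node .leaf (126, 0, 15, 142981) .leaf))))))

/-- part of the orbit tree -/
def itp0_2 : Tree := (.node (.node (.node (.node (.node (.node .leaf (130, 0, 13, 247599) .leaf) (132, 0, 19, 175657) (.node .leaf (135, 0, 15, 204394) .leaf)) (136, 0, 16, 45714) (.node (.node .leaf (139, 0, 13, 191401) .leaf) (141, 0, 17, 228550) (.node .leaf (142, 0, 15, 121748) .leaf))) (144, 0, 16, 61279) (.node (.node (.node .leaf (147, 0, 9, 30659) .leaf) (149, 0, 18, 123052) (.node .leaf (150, 0, 13, 20976) .leaf)) (153, 0, 14, 141985) (.node (.node .leaf (154, 0, 16, 181361) .leaf) (156, 0, 16, 193508) (.node .leaf (159,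 0, 18, 188994) .leaf)))) (160, 0, 16, 105727) (.node (.node (.node (.node .leaf (163, 0, 17, 228415) .leaf) (165, 0, 14, 191312) (.node .leaf (166, 0, 12, 62969) .leaf)) (169, 0, 15, 219393) (.node (.node .leaf (170, 0, 17, 118669) .leaf) (172, 0, 15, 229444) (.node .leaf (175, 0, 15, 125374) .leaf))) (177, 0, 15, 189115) (.node (.node (.node .leaf (178, 0, 15, 177295) .leaf) (180, 0, 15, 181384) (.node .leaf (183, 0, 16, 226772) .leaf)) (184, 0, 18, 114994) (.node (.node .leaf (187, 0, 15, 122965) .leaf) (189, 0, 17, 71799) (.node .leaf (190, 0, 17, 116326) .leaf))))) (192, 0, 15, 130444) (.node (.node (.node (.node (.node .leaf (195, 0, 18, 19919) .leaf) (197, 0, 12, 249552) (.node .leaf (198, 0, 16, 163724) .leaf)) (201, 0, 15, 88913) (.node (.node .leaf (202, 0, 11, 165937) .leaf) (204, 0, 14, 254263) (.node .leaf (207, 0, 16, 52286) .leaf))) (209, 0, 17, 222655) (.node (.node (.node .leaf (210, 0, 16, 161383) .leaf) (212, 0, 15, 254216) (.node .leaf (215, 0, 17, 151636) .leaf)) (216, 0,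 17, 106561) (.node (.node .leaf (219, 0, 17, 4098) .leaf) (221, 0, 18, 86714) (.node .leaf (222, 0, 17, 58342) .leaf)))) (225, 0, 16, 136735) (.node (.node (.node (.node .leaf (226, 0, 14, 239196) .leaf) (228, 0, 18, 60148) (.node .leaf (231, 0, 17, 89000) .leaf)) (232, 0, 16, 163701) (.node (.node .leaf (235, 0, 14, 249385) .leaf) (237, 0, 12, 153926) (.node .leaf (238, 0, 18, 256026) .leaf))) (240, 0, 17, 58143) (.node (.node (.node .leaf (243, 0, 18, 81519) .leaf) (245, 0, 14, 22377) (.node .leaf (246, 0, 17, 95344) .leaf)) (249, 0, 16, 150482) (.node (.node .leaf (250, 0, 17, 261009) .leaf) (252, 0, 18, 168599) (.node .leaf (255, 0, 17, 247746) .leaf))))))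

/-- part of the orbit tree -/
def itp0_3 : Tree := (.node (.node (.node (.node (.node (.node .leaf (258, 0, 15, 193105) .leaf) (260, 0, 16, 170238) (.node .leaf (263, 0, 17, 207266) .leaf)) (264, 0, 16, 3455) (.node (.node .leaf (267, 0, 15, 113699) .leaf) (269, 0, 16, 89769) (.node .leaf (270, 0, 16, 61162) .leaf))) (272, 0, 17, 121377) (.node (.node (.node .leaf (275, 0, 16, 204873) .leaf) (277, 0, 17, 177958) (.node .leaf (278, 0, 17, 45863) .leaf)) (281, 0, 16, 204767) (.node (.node .leaf (282, 0, 12, 103419) .leaf) (284, 0, 15, 247450) (.node .leaf (287, 0, 16, 112072) .leaf)))) (288, 0, 15, 43393) (.node (.node (.node (.node .leaf (291, 0, 17, 72130) .leaf) (293, 0, 16, 28868) (.node .leaf (294, 0, 17, 3462) .leaf)) (297, 0, 17, 158847) (.node (.node .leaf (298, 0, 16, 252988) .leaf) (300, 0, 16, 200552) (.node .leaf (303, 0, 16, 179764) .leaf))) (305, 0, 17, 143794) (.node (.node (.node .leaf (306, 0, 17, 229873) .leaf) (308, 0, 18, 103170) (.node .leaf (311, 0, 17, 219316) .leaf))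 (312, 0, 17, 198275) (.node (.node .leaf (315, 0, 16, 178143) .leaf) (317, 0, 16, 11529) (.node .leaf (318, 0, 15, 168428) .leaf))))) (320, 0, 15, 49001) (.node (.node (.node (.node (.node .leaf (323, 0, 12, 96433) .leaf) (325, 0, 14, 4535) (.node .leaf (326, 0, 15, 106996) .leaf)) (329, 0, 13, 134412) (.node (.node .leaf (330, 0, 18, 245127) .leaf) (332, 0, 17, 185417) (.node .leaf (335, 0, 18, 236468) .leaf))) (337, 0, 19, 37041) (.node (.node (.node .leaf (338, 0, 17, 74221) .leaf) (340, 0, 15, 46722) (.node .leaf (343, 0, 13, 67550) .leaf)) (344, 0, 14, 140035) (.node (.node .leaf (347, 0, 18, 234079) .leaf) (349, 0, 13, 19578) (.node .leaf (350, 0, 16, 242796) .leaf)))) (353, 0, 12, 236365) (.node (.node (.node (.node .leaf (354, 0, 16, 168738) .leaf) (356, 0, 18, 245118) (.node .leaf (359, 0, 17, 134178) .leaf)) (360, 0, 16, 124575) (.node (.node .leaf (363, 0, 14, 22236) .leaf) (365, 0, 16, 81882) (.node .leaf (366, 0, 16, 49040) .leaf))) (368, 0, 11, 113490) (.node (.node (.node .leaf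 (371, 0, 15, 132553) .leaf) (373, 0, 16, 90647) (.node .leaf (374, 0, 10, 140282) .leaf)) (377, 0, 17, 67367) (.node (.node .leaf (378, 0, 16, 46715) .leaf) (380, 0, 15, 239593) (.node .leaf (383, 0, 14, 137130) .leaf))))))

/-- part of the orbit tree -/
def itp0_4 : Tree := (.node (.node (.node (.node (.node (.node .leaf (387, 0, 16, 190166) .leaf) (389, 0, 17, 225721) (.node .leaf (390, 0, 12, 23672) .leaf)) (393, 0, 15, 123960) (.node (.node .leaf (394, 0, 17, 21860) .leaf) (396, 0, 16, 207301) (.node .leaf (399, 0, 16, 29527) .leaf))) (401, 0, 16, 240973) (.node (.node (.node .leaf (402, 0, 17, 138510) .leaf) (404, 0, 16, 226312) (.node .leaf (407, 0, 17, 192317) .leaf)) (408, 0, 17, 92339) (.node (.node .leaf (411, 0, 18, 55536) .leaf) (413, 0, 14, 126419) (.node .leaf (414, 0, 17, 437) .leaf)))) (417, 0, 18, 29614) (.node (.node (.node (.node .leaf (418, 0, 12, 224942) .leaf) (420, 0, 16, 133032) (.node .leaf (423, 0, 17, 243691) .leaf)) (424, 0, 19, 180252) (.node (.node .leaf (427,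 0, 17, 225600) .leaf) (429, 0, 16, 49750) (.node .leaf (430, 0, 18, 218995) .leaf))) (432, 0, 17, 23670) (.node (.node (.node .leaf (435, 0, 10, 128669) .leaf) (437, 0, 16, 31301) (.node .leaf (438, 0, 16, 117529) .leaf)) (441, 0, 16, 164640) (.node (.node .leaf (442, 0, 14, 209763) .leaf) (444, 0, 17, 154213) (.node .leaf (447, 0, 18, 227499) .leaf))))) (449, 0, 16, 180126) (.node (.node (.node (.node (.node .leaf (450, 0, 15, 59250) .leaf) (452, 0, 16, 157403) (.node .leaf (455, 0, 16, 49473) .leaf)) (456, 0, 16, 255388) (.node (.node .leaf (459, 0, 15, 152768) .leaf) (461, 0, 17, 41765) (.node .leaf (462, 0, 13, 160499) .leaf))) (464, 0, 13, 96758) (.node (.node (.node .leaf (467, 0, 18, 51370) .leaf) (469, 0, 16, 90053) (.node .leaf (470, 0, 15, 85675) .leaf)) (473, 0, 17, 189011) (.node (.node .leaf (474, 0, 16, 217616) .leaf) (476, 0, 16, 146198) (.node .leaf (479, 0, 16, 154923) .leaf)))) (480, 0, 14, 87053) (.node (.node (.node (.node .leaf (483, 0, 16, 246614) .leaf) (485, 0, 15, 101704)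 (.node .leaf (486, 0, 15, 255333) .leaf)) (489, 0, 16, 49592) (.node (.node .leaf (490, 0, 17, 139696) .leaf) (492, 0, 15, 59275) (.node .leaf (495, 0, 14, 194805) .leaf))) (497, 0, 16, 248894) (.node (.node (.node .leaf (498, 0, 17, 162941) .leaf) (500, 0, 18, 202107) (.node .leaf (503, 0, 13, 173368) .leaf)) (504, 0, 16, 68032) (.node (.node .leaf (507, 0, 15, 89916) .leaf) (509, 0, 16, 118917) (.node .leaf (510, 0, 16, 96527) .leaf))))))

/-- part of the orbit tree -/
def itp0_5 : Tree := (.node itp0_1 (129, 0, 14, 161644) itp0_2)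

/-- part of the orbit tree -/
def itp0_6 : Tree := (.node itp0_3 (384, 0, 14, 79230) itp0_4)

/-- part of the orbit tree -/
def itp0_7 : Tree := (.node (.node (.node (.node (.node (.node .leaf (515, 0, 15, 105523) .leaf) (516, 0, 17, 5459) (.node .leaf (517, 0, 16, 8991) .leaf)) (520, 0, 17, 133608) (.node (.node .leaf (521, 0, 16, 190862) .leaf) (526, 0, 17, 221422) (.node .leaf (527, 0, 12, 229512) .leaf))) (528, 0, 16, 152613) (.node (.node (.node .leaf (529, 0, 16, 177219) .leaf) (534, 0, 17, 255157) (.node .leaf (535, 0, 16, 253253) .leaf)) (538, 0, 17, 94516) (.node (.node .leaf (539, 0, 14, 206874) .leaf) (540, 0, 18, 18590) (.node .leaf (541, 0, 18, 43256) .leaf)))) (544, 0, 17, 206725) (.node (.node (.node (.node .leaf (545, 0, 14, 247779) .leaf) (550, 0, 7, 151171) (.node .leaf (551, 0, 13, 175845) .leaf)) (554, 0, 15, 162504) (.node (.node .leaf (555, 0, 16, 9190) .leaf) (556, 0, 14, 257447) (.node .leaf (557, 0, 16, 121688) .leaf))) (562, 0, 14, 59042) (.node (.node (.node .leaf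 (563, 0, 19, 180108) .leaf) (564, 0, 18, 91891) (.node .leaf (565, 0, 16, 99989) .leaf)) (568, 0, 17, 227912) (.node (.node .leaf (569, 0, 15, 114018) .leaf) (574, 0, 17, 136014) (.node .leaf (575, 0, 15, 193320) .leaf))))) (576, 0, 13, 23974) (.node (.node (.node (.node (.node .leaf (577, 0, 18, 132232) .leaf) (582, 0, 18, 143344) (.node .leaf (583, 0, 18, 234471) .leaf)) (586, 0, 19, 221000) (.node (.node .leaf (587, 0, 16, 54061) .leaf) (588, 0, 8, 182311) (.node .leaf (589, 0, 8, 37129) .leaf))) (594, 0, 15, 28294) (.node (.node (.node .leaf (595, 0, 17, 236044) .leaf) (596, 0, 16, 67456) (.node .leaf (597, 0, 17, 134499) .leaf)) (600, 0, 12, 203579) (.node (.node .leaf (601, 0, 17, 260957) .leaf) (606, 0, 16, 218787) (.node .leaf (607, 0, 13, 168539) .leaf)))) (610, 0, 16, 182494) (.node (.node (.node (.node .leaf (611, 0, 17, 130368) .leaf) (612, 0, 13, 29728) (.node .leaf (613, 0, 18, 37958) .leaf)) (616, 0, 15, 117296) (.node (.node .leaf (617, 0, 15, 166141) .leaf) (622, 0, 15, 23903)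 (.node .leaf (623, 0, 16, 132209) .leaf))) (624, 0, 16, 218714) (.node (.node (.node .leaf (625, 0, 18, 69492) .leaf) (630, 0, 17, 220240) (.node .leaf (631, 0, 17, 38939) .leaf)) (634, 0, 15, 82155) (.node (.node .leaf (635, 0, 18, 134554) .leaf) (636, 0, 15, 10733) (.node .leaf (637, 0, 18, 51595) .leaf))))))

/-- part of the orbit tree -/
def itp0_8 : Tree := (.node (.node (.node (.node (.node (.node .leaf (641, 0, 17, 154396) .leaf) (646, 0, 12, 139818) (.node .leaf (647, 0, 12, 209434) .leaf)) (650, 0, 15, 118471) (.node (.node .leaf (651, 0, 16, 77473) .leaf) (652, 0, 17, 42945) (.node .leaf (653, 0, 14, 18343) .leaf))) (658, 0, 17, 103178) (.node (.node (.node .leaf (659, 0, 16, 29423) .leaf) (660, 0, 16, 244910) (.node .leaf (661, 0, 17, 6762) .leaf)) (664, 0, 17, 190135) (.node (.node .leaf (665, 0, 13, 225281) .leaf) (670, 0, 18, 48704) (.node .leaf (671, 0, 14, 225239) .leaf)))) (674, 0, 12, 57514) (.node (.node (.node (.node .leaf (675, 0, 15, 204) .leaf) (676, 0, 16, 46930) (.node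 .leaf (677, 0, 16, 92618) .leaf)) (680, 0, 20, 139987) (.node (.node .leaf (681, 0, 15, 226673) .leaf) (686, 0, 15, 195601) (.node .leaf (687, 0, 18, 126098) .leaf))) (688, 0, 16, 248026) (.node (.node (.node .leaf (689, 0, 14, 207036) .leaf) (694, 0, 16, 76246) (.node .leaf (695, 0, 15, 225528) .leaf)) (698, 0, 16, 48487) (.node (.node .leaf (699, 0, 17, 124281) .leaf) (700, 0, 14, 142136) (.node .leaf (701, 0, 17, 29206) .leaf))))) (706, 0, 13, 1469) (.node (.node (.node (.node (.node .leaf (707, 0, 16, 25023) .leaf) (708, 0, 14, 125151) (.node .leaf (709, 0, 17, 67769) .leaf)) (712, 0, 16, 198483) (.node (.node .leaf (713, 0, 16, 89725) .leaf) (718, 0, 17, 167996) (.node .leaf (719, 0, 16, 51474) .leaf))) (720, 0, 16, 240041) (.node (.node (.node .leaf (721, 0, 18, 246295) .leaf) (726, 0, 17, 180399) (.node .leaf (727, 0, 15, 152952) .leaf)) (730, 0, 13, 56340) (.node (.node .leaf (731, 0, 16, 15474) .leaf) (732, 0, 18, 111890) (.node .leaf (733, 0, 18, 87958) .leaf)))) (736, 0, 14, 168133)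 (.node (.node (.node (.node .leaf (737, 0, 17, 146031) .leaf) (742, 0, 15, 242447) (.node .leaf (743, 0, 18, 89732) .leaf)) (746, 0, 14, 102955) (.node (.node .leaf (747, 0, 18, 248581) .leaf) (748, 0, 17, 50866) (.node .leaf (749, 0, 16, 154730) .leaf))) (754, 0, 12, 200257) (.node (.node (.node .leaf (755, 0, 16, 87919) .leaf) (756, 0, 18, 39807) (.node .leaf (757, 0, 12, 49152) .leaf)) (760, 0, 16, 3247) (.node (.node .leaf (761, 0, 17, 152961) .leaf) (766, 0, 16, 257730) (.node .leaf (767, 0, 14, 200356) .leaf))))))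

/-- part of the orbit tree -/
def itp0_9 : Tree := (.node (.node (.node (.node (.node (.node .leaf (769, 0, 13, 179169) .leaf) (774, 0, 16, 190210) (.node .leaf (775, 0, 16, 208014) .leaf)) (778, 0, 14, 253985) (.node (.node .leaf (779, 0, 17, 112911) .leaf) (780, 0, 15, 103103) (.node .leaf (781, 0, 18, 94937) .leaf))) (786, 0, 16, 42612) (.node (.node (.node .leaf (787, 0, 14, 206181) .leaf) (788, 0, 18, 60196) (.node .leaf (789, 0, 16, 77588) .leaf)) (792, 0, 12, 163493) (.node (.node .leaf (793, 0, 17, 209839) .leaf) (798, 0, 18, 178895) (.node .leaf (799, 0, 10, 110820) .leaf)))) (802, 0, 11, 120276) (.node (.node (.node (.node .leaf (803, 0, 14, 79282) .leaf) (804, 0, 14, 254168) (.node .leaf (805, 0, 10, 23732) .leaf)) (808, 0, 17, 172137) (.node (.node .leaf (809, 0, 16, 207991) .leaf) (814, 0, 16, 57910) (.node .leaf (815, 0, 15, 207113) .leaf))) (816, 0, 15, 256307) (.node (.node (.node .leaf (817, 0, 17, 110621) .leaf) (822, 0, 15, 163420) (.node .leaf (823, 0, 16, 226500) .leaf))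 (826, 0, 18, 100377) (.node (.node .leaf (827, 0, 15, 176883) .leaf) (828, 0, 16, 97458) (.node .leaf (829, 0, 18, 206236) .leaf))))) (834, 0, 16, 217655) (.node (.node (.node (.node (.node .leaf (835, 0, 13, 68377) .leaf) (836, 0, 14, 181592) (.node .leaf (837, 0, 18, 15815) .leaf)) (840, 0, 16, 20697) (.node (.node .leaf (841, 0, 15, 139644) .leaf) (846, 0, 17, 116662) (.node .leaf (847, 0, 15, 215162) .leaf))) (848, 0, 15, 183475) (.node (.node (.node .leaf (849, 0, 16, 162993) .leaf) (854, 0, 13, 259537) (.node .leaf (855, 0, 13, 202167) .leaf)) (858, 0, 17, 125290) (.node (.node .leaf (859, 0, 11, 235379) .leaf) (860, 0, 18, 32876) (.node .leaf (861, 0, 13, 24586) .leaf)))) (864, 0, 16, 116559) (.node (.node (.node (.node .leaf (865, 0, 16, 200465) .leaf) (870, 0, 12, 165489) (.node .leaf (871, 0, 16, 133390) .leaf)) (874, 0, 18, 181665) (.node (.node .leaf (875, 0, 18, 31404) .leaf) (876, 0, 13, 127948) (.node .leaf (877, 0, 15, 70570) .leaf))) (882, 0, 16, 50951) (.node (.node (.node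 .leaf (883, 0, 16, 10081) .leaf) (884, 0, 16, 110081) (.node .leaf (885, 0, 15, 85607) .leaf)) (888, 0, 16, 219941) (.node (.node .leaf (889, 0, 18, 217820) .leaf) (894, 0, 16, 183370) (.node .leaf (895, 0, 13, 146394) .leaf))))))

/-- part of the orbit tree -/
def itp0_10 : Tree := (.node (.node (.node (.node (.node (.node .leaf (899, 0, 15, 189434) .leaf) (900, 0, 16, 77243) (.node .leaf (901, 0, 16, 114763) .leaf)) (904, 0, 13, 243770) (.node (.node .leaf (905, 0, 17, 253168) .leaf) (910, 0, 17, 143189) (.node .leaf (911, 0, 15, 177654) .leaf))) (912, 0, 15, 74832) (.node (.node (.node .leaf (913, 0, 17, 228734) .leaf) (918, 0, 18, 45887) (.node .leaf (919, 0, 16, 190993) .leaf)) (922, 0, 16, 5350) (.node (.node .leaf (923, 0, 17, 32656) .leaf) (924, 0, 18, 242129) (.node .leaf (925, 0, 15, 125183) .leaf)))) (928, 0, 16, 135931) (.node (.node (.node (.node .leaf (929, 0, 17, 30338) .leaf) (934, 0, 15, 243907) (.node .leaf (935, 0, 17, 123373) .leaf)) (938, 0, 15, 77122) (.node (.node .leaf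 (939, 0, 15, 100128) .leaf) (940, 0, 15, 47661) (.node .leaf (941, 0, 17, 60966) .leaf))) (946, 0, 17, 241960) (.node (.node (.node .leaf (947, 0, 17, 124934) .leaf) (948, 0, 17, 21389) (.node .leaf (949, 0, 18, 46059) .leaf)) (952, 0, 15, 46022) (.node (.node .leaf (953, 0, 18, 191208) .leaf) (958, 0, 17, 74921) (.node .leaf (959, 0, 13, 247382) .leaf))))) (960, 0, 16, 160648) (.node (.node (.node (.node (.node .leaf (961, 0, 14, 86786) .leaf) (966, 0, 13, 171331) (.node .leaf (967, 0, 17, 50285) .leaf)) (970, 0, 15, 67125) (.node (.node .leaf (971, 0, 17, 152044) .leaf) (972, 0, 17, 106413) (.node .leaf (973, 0, 18, 247427) .leaf))) (978, 0, 15, 169128) (.node (.node (.node .leaf (979, 0, 10, 113566) .leaf) (980, 0, 15, 13054) (.node .leaf (981, 0, 17, 88809) .leaf)) (984, 0, 18, 104006) (.node (.node .leaf (985, 0, 16, 249704) .leaf) (990, 0, 16, 214851) (.node .leaf (991, 0, 17, 239397) .leaf)))) (994, 0, 14, 10328) (.node (.node (.node (.node .leaf (995, 0, 14, 247418) .leaf) (996, 0,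 17, 82270) (.node .leaf (997, 0, 15, 151829) .leaf)) (1000, 0, 15, 220645) (.node (.node .leaf (1001, 0, 17, 245123) .leaf) (1006, 0, 11, 199381) (.node .leaf (1007, 0, 16, 87035) .leaf))) (1008, 0, 14, 464) (.node (.node (.node .leaf (1009, 0, 16, 254030) .leaf) (1014, 0, 10, 157998) (.node .leaf (1015, 0, 16, 249745) .leaf)) (1018, 0, 14, 30101) (.node (.node .leaf (1019, 0, 18, 88592) .leaf) (1020, 0, 14, 169041) .leaf)))))

/-- part of the orbit tree -/
def itp0_11 : Tree := (.node itp0_7 (640, 0, 16, 179066) itp0_8)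

/-- part of the orbit tree -/
def itp0_12 : Tree := (.node itp0_9 (898, 0, 14, 47828) itp0_10)

/-- part of the orbit tree -/
def itp0_13 : Tree := (.node itp0_5 (257, 0, 17, 213522) itp0_6)

/-- part of the orbit tree -/
def itp0_14 : Tree := (.node itp0_11 (768, 0, 15, 58063) itp0_12)

/-- part of the orbit tree -/
def itp0_15 : Tree := (.node (.node (.node (.node (.node (.node .leaf (1025, 0, 16, 87258) .leaf) (1027, 0, 18, 43755) (.node .leaf (1028, 0, 16, 94953) .leaf)) (1030, 0, 18, 170651) (.node (.node .leaf (1032, 0, 17, 212784) .leaf) (1034, 0, 11, 159509) (.node .leaf (1037, 0, 16, 255605) .leaf))) (1039, 0, 14, 177744) (.node (.node (.node .leaf (1040, 0, 14, 221949) .leaf) (1042, 0, 16, 144088) (.node .leaf (1045, 0, 14, 89393) .leaf)) (1047, 0, 13, 191389) (.node (.node .leaf (1049, 0, 15, 247984) .leaf) (1051, 0, 16, 63270) (.node .leaf (1052, 0, 13, 257667) .leaf)))) (1054, 0, 15, 1777) (.node (.node (.node (.node .leaf (1056, 0, 16, 135517) .leaf) (1058, 0, 17, 213368) (.node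 .leaf (1061, 0, 14, 153293) .leaf)) (1063, 0, 16, 235581) (.node (.node .leaf (1065, 0, 18, 49996) .leaf) (1067, 0, 16, 207678) (.node .leaf (1068, 0, 15, 3558) .leaf))) (1070, 0, 17, 199949) (.node (.node (.node .leaf (1073, 0, 17, 155430) .leaf) (1075, 0, 18, 121163) (.node .leaf (1076, 0, 14, 162069) .leaf)) (1078, 0, 17, 65550) (.node (.node .leaf (1080, 0, 14, 60564) .leaf) (1082, 0, 14, 203957) (.node .leaf (1085, 0, 15, 51879) .leaf))))) (1087, 0, 14, 247280) (.node (.node (.node (.node (.node .leaf (1088, 0, 17, 218494) .leaf) (1090, 0, 18, 204811) (.node .leaf (1093, 0, 17, 174443) .leaf)) (1095, 0, 14, 260430) (.node (.node .leaf (1097, 0, 14, 46544) .leaf) (1099, 0, 18, 134846) (.node .leaf (1100, 0, 16, 114943) .leaf))) (1102, 0, 17, 81072) (.node (.node (.node .leaf (1105, 0, 15, 228006) .leaf) (1107, 0, 17, 112696) (.node .leaf (1108, 0, 17, 220309) .leaf)) (1110, 0, 18, 46311) (.node (.node .leaf (1112, 0, 15, 142819) .leaf) (1114, 0, 17, 228806) (.node .leaf (1117, 0, 15, 126759)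 .leaf)))) (1119, 0, 13, 132949) (.node (.node (.node (.node .leaf (1121, 0, 16, 105405) .leaf) (1123, 0, 16, 235816) (.node .leaf (1124, 0, 14, 22377) .leaf)) (1126, 0, 11, 4829) (.node (.node .leaf (1128, 0, 17, 180968) .leaf) (1130, 0, 17, 134758) (.node .leaf (1133, 0, 18, 189659) .leaf))) (1135, 0, 14, 186147) (.node (.node (.node .leaf (1136, 0, 6, 24194) .leaf) (1138, 0, 17, 243440) (.node .leaf (1141, 0, 18, 30897) .leaf)) (1143, 0, 19, 233667) (.node (.node .leaf (1145, 0, 14, 116336) .leaf) (1147, 0, 16, 38485) (.node .leaf (1148, 0, 16, 183043) .leaf))))))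

/-- part of the orbit tree -/
def itp0_16 : Tree := (.node (.node (.node (.node (.node (.node .leaf (1152, 0, 15, 48541) .leaf) (1154, 0, 15, 218607) (.node .leaf (1157, 0, 14, 39854) .leaf)) (1159, 0, 17, 226268) (.node (.node .leaf (1161, 0, 18, 134703) .leaf) (1163, 0, 17, 124509) (.node .leaf (1164, 0, 17, 102681) .leaf))) (1166, 0, 13, 49468) (.node (.node (.node .leaf (1169, 0, 14, 71057) .leaf) (1171, 0, 18, 17844) (.node .leaf (1172, 0, 16, 46198) .leaf)) (1174, 0, 17, 40177) (.node (.node .leaf (1176, 0, 16, 139767) .leaf) (1178, 0, 17, 117125) (.node .leaf (1181, 0, 17, 198954) .leaf)))) (1183, 0, 17, 126902) (.node (.node (.node (.node .leaf (1185, 0, 18, 26161) .leaf) (1187, 0, 16, 79380) (.node .leaf (1188, 0, 18, 245642) .leaf)) (1190, 0, 16, 22520) (.node (.node .leaf (1192, 0, 16, 173007) .leaf) (1194, 0, 17, 180857) (.node .leaf (1197, 0, 10, 162442) .leaf))) (1199, 0, 13, 207535) (.node (.node (.node .leaf (1200, 0, 16, 196098) .leaf) (1202, 0, 15, 24083) (.node .leaf (1205,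 0, 15, 233554) .leaf)) (1207, 0, 15, 30752) (.node (.node .leaf (1209, 0, 15, 15356) .leaf) (1211, 0, 14, 93145) (.node .leaf (1212, 0, 17, 74720) .leaf))))) (1214, 0, 11, 183186) (.node (.node (.node (.node (.node .leaf (1217, 0, 15, 179257) .leaf) (1219, 0, 16, 87115) (.node .leaf (1220, 0, 19, 56839) .leaf)) (1222, 0, 18, 94840) (.node (.node .leaf (1224, 0, 17, 3979) .leaf) (1226, 0, 16, 255993) (.node .leaf (1229, 0, 14, 10680) .leaf))) (1231, 0, 17, 216028) (.node (.node (.node .leaf (1232, 0, 12, 171889) .leaf) (1234, 0, 16, 249684) (.node .leaf (1237, 0, 16, 177618) .leaf)) (1239, 0, 18, 202257) (.node (.node .leaf (1241, 0, 17, 8275) .leaf) (1243, 0, 13, 247841) (.node .leaf (1244, 0, 15, 1632) .leaf)))) (1246, 0, 13, 257554) (.node (.node (.node (.node .leaf (1248, 0, 17, 104477) .leaf) (1250, 0, 17, 159855) (.node .leaf (1253, 0, 14, 210324) .leaf)) (1255, 0, 16, 153180) (.node (.node .leaf (1257, 0, 15, 207791) .leaf) (1259, 0, 18, 30986) (.node .leaf (1260, 0, 15, 200092) .leaf)))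 (1262, 0, 14, 41039) (.node (.node (.node .leaf (1265, 0, 16, 112581) .leaf) (1267, 0, 17, 155575) (.node .leaf (1268, 0, 15, 109991) .leaf)) (1270, 0, 17, 64898) (.node (.node .leaf (1272, 0, 16, 241948) .leaf) (1274, 0, 17, 188729) (.node .leaf (1277, 0, 15, 223321) .leaf))))))

/-- part of the orbit tree -/
def itp0_17 : Tree := (.node (.node (.node (.node (.node (.node .leaf (1280, 0, 17, 178396) .leaf) (1282, 0, 17, 256249) (.node .leaf (1285, 0, 15, 248868) .leaf)) (1287, 0, 17, 209340) (.node (.node .leaf (1289, 0, 15, 32034) .leaf) (1291, 0, 12, 77063) (.node .leaf (1292, 0, 18, 98198) .leaf))) (1294, 0, 19, 169956) (.node (.node (.node .leaf (1297, 0, 12, 247247) .leaf) (1299, 0, 16, 11709) (.node .leaf (1300, 0, 19, 254972) .leaf)) (1302, 0, 17, 108943) (.node (.node .leaf (1304, 0, 17, 189713) .leaf) (1306, 0, 16, 171535) (.node .leaf (1309, 0, 12, 146516) .leaf)))) (1311, 0, 13, 224369) (.node (.node (.node (.node .leaf (1313, 0, 17, 86863) .leaf) (1315, 0, 15, 206401) (.node .leaf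 (1316, 0, 15, 100874) .leaf)) (1318, 0, 17, 55855) (.node (.node .leaf (1320, 0, 16, 163201) .leaf) (1322, 0, 16, 103923) (.node .leaf (1325, 0, 18, 154546) .leaf))) (1327, 0, 14, 139217) (.node (.node (.node .leaf (1328, 0, 18, 248700) .leaf) (1330, 0, 15, 170841) (.node .leaf (1333, 0, 15, 201273) .leaf)) (1335, 0, 17, 208810) (.node (.node .leaf (1337, 0, 15, 69250) .leaf) (1339, 0, 15, 113195) (.node .leaf (1340, 0, 16, 120775) .leaf))))) (1342, 0, 12, 34786) (.node (.node (.node (.node (.node .leaf (1345, 0, 13, 78396) .leaf) (1347, 0, 15, 25113) (.node .leaf (1348, 0, 17, 125817) .leaf)) (1350, 0, 15, 47964) (.node (.node .leaf (1352, 0, 17, 219137) .leaf) (1354, 0, 16, 174055) (.node .leaf (1357, 0, 17, 228914) .leaf))) (1359, 0, 16, 163490) (.node (.node (.node .leaf (1360, 0, 15, 115819) .leaf) (1362, 0, 12, 195114) (.node .leaf (1365, 0, 14, 226122) .leaf)) (1367, 0, 16, 133674) (.node (.node .leaf (1369, 0, 18, 227289) .leaf) (1371, 0, 16, 16340) (.node .leaf (1372, 0, 16, 112308)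 .leaf)))) (1374, 0, 16, 47512) (.node (.node (.node (.node .leaf (1376, 0, 17, 186799) .leaf) (1378, 0, 14, 75749) (.node .leaf (1381, 0, 18, 190884) .leaf)) (1383, 0, 15, 217295) (.node (.node .leaf (1385, 0, 17, 7249) .leaf) (1387, 0, 18, 234583) (.node .leaf (1388, 0, 18, 23062) .leaf))) (1390, 0, 18, 242276) (.node (.node (.node .leaf (1393, 0, 16, 188495) .leaf) (1395, 0, 17, 67645) (.node .leaf (1396, 0, 14, 39129) .leaf)) (1398, 0, 16, 116988) (.node (.node .leaf (1400, 0, 16, 21501) .leaf) (1402, 0, 17, 250951) (.node .leaf (1405, 0, 14, 154919) .leaf))))))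

/-- part of the orbit tree -/
def itp0_18 : Tree := (.node (.node (.node (.node (.node (.node .leaf (1409, 0, 15, 53168) .leaf) (1411, 0, 18, 106389) (.node .leaf (1412, 0, 12, 140643) .leaf)) (1414, 0, 15, 118033) (.node (.node .leaf (1416, 0, 15, 133710) .leaf) (1418, 0, 16, 219280) (.node .leaf (1421, 0, 18, 185099) .leaf))) (1423, 0, 17, 230190) (.node (.node (.node .leaf (1424, 0, 15, 142472) .leaf) (1426, 0, 18, 198566) (.node .leaf (1429, 0, 18, 133819) .leaf)) (1431, 0, 16, 123593) (.node (.node .leaf (1433, 0, 16, 40762) .leaf) (1435, 0, 16, 227144) (.node .leaf (1436, 0, 13, 47369) .leaf)))) (1438, 0, 18, 217467) (.node (.node (.node (.node .leaf (1440, 0, 16, 75636) .leaf) (1442, 0, 16, 184070) (.node .leaf (1445, 0, 15, 65863) .leaf)) (1447, 0, 11, 175427) (.node (.node .leaf (1449, 0, 17, 123357) .leaf) (1451, 0, 17, 45560) (.node .leaf (1452, 0, 13, 242421) .leaf))) (1454, 0, 16, 23175) (.node (.node (.node .leaf (1457, 0, 16, 113680) .leaf) (1459, 0, 15, 188638) (.node .leaf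 (1460, 0, 17, 91477) .leaf)) (1462, 0, 15, 13680) (.node (.node .leaf (1464, 0, 13, 227822) .leaf) (1466, 0, 16, 141771) (.node .leaf (1469, 0, 12, 237739) .leaf))))) (1471, 0, 17, 192654) (.node (.node (.node (.node (.node .leaf (1472, 0, 19, 756) .leaf) (1474, 0, 16, 256646) (.node .leaf (1477, 0, 17, 236565) .leaf)) (1479, 0, 18, 249013) (.node (.node .leaf (1481, 0, 16, 98478) .leaf) (1483, 0, 17, 53387) (.node .leaf (1484, 0, 17, 88555) .leaf))) (1486, 0, 17, 2510) (.node (.node (.node .leaf (1489, 0, 16, 122211) .leaf) (1491, 0, 17, 247134) (.node .leaf (1492, 0, 16, 2847) .leaf)) (1494, 0, 17, 21507) (.node (.node .leaf (1496, 0, 16, 202909) .leaf) (1498, 0, 15, 149688) (.node .leaf (1501, 0, 15, 178349) .leaf)))) (1503, 0, 16, 168445) (.node (.node (.node (.node .leaf (1505, 0, 16, 206544) .leaf) (1507, 0, 17, 130790) (.node .leaf (1508, 0, 14, 30598) .leaf)) (1510, 0, 16, 59537) (.node (.node .leaf (1512, 0, 14, 158525) .leaf) (1514, 0, 17, 211736) (.node .leaf (1517, 0, 16, 176760)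 .leaf))) (1519, 0, 17, 254557) (.node (.node (.node .leaf (1520, 0, 16, 145136) .leaf) (1522, 0, 15, 222933) (.node .leaf (1525, 0, 17, 208699) .leaf)) (1527, 0, 16, 51017) (.node (.node .leaf (1529, 0, 15, 113338) .leaf) (1531, 0, 16, 107307) (.node .leaf (1532, 0, 14, 105609) .leaf))))))

/-- part of the orbit tree -/
def itp0_19 : Tree := (.node itp0_15 (1150, 0, 15, 20240) itp0_16)

/-- part of the orbit tree -/
def itp0_20 : Tree := (.node itp0_17 (1407, 0, 14, 236988) itp0_18)

/-- part of the orbit tree -/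
def itp0_21 : Tree := (.node (.node (.node (.node (.node (.node .leaf (1536, 0, 17, 198872) .leaf) (1537, 0, 16, 120510) (.node .leaf (1538, 0, 12, 57514) .leaf)) (1539, 0, 16, 34459) (.node (.node .leaf (1548, 0, 16, 207459) .leaf) (1549, 0, 12, 248325) (.node .leaf (1550, 0, 12, 162374) .leaf))) (1551, 0, 15, 11269) (.node (.node (.node .leaf (1556, 0, 15, 227246) .leaf) (1557, 0, 14, 235464) (.node .leaf (1558, 0, 12, 141195) .leaf)) (1559, 0, 17, 182253) (.node (.node .leaf (1560, 0, 17, 92949) .leaf) (1561, 0, 15, 101235) (.node .leaf (1562, 0, 18, 163008) .leaf)))) (1563, 0, 17, 9710) (.node (.node (.node (.node .leaf (1572, 0, 14, 2767) .leaf) (1573, 0, 16, 189544) (.node .leaf (1574, 0, 17, 254653) .leaf)) (1575, 0, 13, 242765) (.node (.node .leaf (1576, 0, 17, 6325) .leaf) (1577, 0, 18, 50784) (.node .leaf (1578, 0, 18, 84112) .leaf))) (1579, 0, 15, 208402) (.node (.node (.node .leaf (1584, 0, 15, 17784) .leaf) (1585, 0, 17, 42270) (.node .leaf (1586, 0, 16, 71005) .leaf)) (1587, 0,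 17, 111224) (.node (.node .leaf (1596, 0, 14, 169637) .leaf) (1597, 0, 18, 53131) (.node .leaf (1598, 0, 16, 98007) .leaf))))) (1599, 0, 17, 206841) (.node (.node (.node (.node (.node .leaf (1604, 0, 15, 157053) .leaf) (1605, 0, 16, 226913) (.node .leaf (1606, 0, 14, 182077) .leaf)) (1607, 0, 15, 251198) (.node (.node .leaf (1608, 0, 15, 244430) .leaf) (1609, 0, 17, 123872) (.node .leaf (1610, 0, 17, 21180) .leaf))) (1611, 0, 15, 134034) (.node (.node (.node .leaf (1616, 0, 16, 9227) .leaf) (1617, 0, 16, 229258) (.node .leaf (1618, 0, 19, 95278) .leaf)) (1619, 0, 16, 103496) (.node (.node .leaf (1628, 0, 15, 145584) .leaf) (1629, 0, 12, 186582) (.node .leaf (1630, 0, 11, 23383) .leaf)))) (1631, 0, 16, 231667) (.node (.node (.node (.node .leaf (1632, 0, 14, 87979) .leaf) (1633, 0, 15, 112589) (.node .leaf (1634, 0, 17, 1934) .leaf)) (1635, 0, 15, 59368) (.node (.node .leaf (1644, 0, 10, 47321) .leaf) (1645, 0, 13, 188919) (.node .leaf (1646, 0, 14, 138037) .leaf))) (1647, 0, 14, 195411) (.node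 (.node (.node .leaf (1652, 0, 13, 202461) .leaf) (1653, 0, 12, 32157) (.node .leaf (1654, 0, 17, 149240) .leaf)) (1655, 0, 15, 173726) (.node (.node .leaf (1656, 0, 18, 45362) .leaf) (1657, 0, 15, 125440) (.node .leaf (1658, 0, 12, 23107) .leaf))))))

/-- part of the orbit tree -/
def itp0_22 : Tree := (.node (.node (.node (.node (.node (.node .leaf (1668, 0, 15, 182188) .leaf) (1669, 0, 14, 40578) (.node .leaf (1670, 0, 18, 77790) .leaf)) (1671, 0, 18, 141490) (.node (.node .leaf (1672, 0, 17, 99402) .leaf) (1673, 0, 15, 133891) (.node .leaf (1674, 0, 15, 54383) .leaf))) (1675, 0, 18, 13321) (.node (.node (.node .leaf (1680, 0, 15, 121223) .leaf) (1681, 0, 16, 80353) (.node .leaf (1682, 0, 17, 75317) .leaf)) (1683, 0, 15, 27076) (.node (.node .leaf (1692, 0, 17, 23494) .leaf) (1693, 0, 16, 131816) (.node .leaf (1694, 0, 17, 169241) .leaf)))) (1695, 0, 17, 161151) (.node (.node (.node (.node .leaf (1696, 0, 16, 116155) .leaf) (1697, 0, 16, 19009) (.node .leaf (1698, 0, 16, 129538) .leaf)) (1699,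 0, 16, 72292) (.node (.node .leaf (1708, 0, 15, 177820) .leaf) (1709, 0, 13, 153338) (.node .leaf (1710, 0, 17, 47176) .leaf))) (1711, 0, 14, 188774) (.node (.node (.node .leaf (1716, 0, 17, 117840) .leaf) (1717, 0, 16, 234878) (.node .leaf (1718, 0, 14, 244596) .leaf)) (1719, 0, 17, 32012) (.node (.node .leaf (1720, 0, 14, 219601) .leaf) (1721, 0, 17, 6028) (.node .leaf (1722, 0, 15, 45475) .leaf))))) (1723, 0, 13, 190605) (.node (.node (.node (.node (.node .leaf (1728, 0, 15, 57403) .leaf) (1729, 0, 16, 11058) (.node .leaf (1730, 0, 16, 198729) .leaf)) (1731, 0, 16, 86375) (.node (.node .leaf (1740, 0, 13, 186351) .leaf) (1741, 0, 17, 11412) (.node .leaf (1742, 0, 17, 231370) .leaf))) (1743, 0, 17, 247014) (.node (.node (.node .leaf (1748, 0, 18, 166434) .leaf) (1749, 0, 15, 158276) (.node .leaf (1750, 0, 17, 197026) .leaf)) (1751, 0, 17, 88204) (.node (.node .leaf (1752, 0, 12, 162897) .leaf) (1753, 0, 16, 9599) (.node .leaf (1754, 0, 17, 103459) .leaf)))) (1755, 0, 14, 75482) (.node (.node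 (.node (.node .leaf (1764, 0, 15, 254508) .leaf) (1765, 0, 15, 203236) (.node .leaf (1766, 0, 18, 2654) .leaf)) (1767, 0, 16, 149953) (.node (.node .leaf (1768, 0, 17, 124217) .leaf) (1769, 0, 16, 208515) (.node .leaf (1770, 0, 16, 46364) .leaf))) (1771, 0, 15, 21882) (.node (.node (.node .leaf (1776, 0, 18, 112884) .leaf) (1777, 0, 14, 111337) (.node .leaf (1778, 0, 17, 59601) .leaf)) (1779, 0, 16, 154267) (.node (.node .leaf (1788, 0, 14, 238671) .leaf) (1789, 0, 18, 206696) (.node .leaf (1790, 0, 15, 193642) .leaf))))))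

/-- part of the orbit tree -/
def itp0_23 : Tree := (.node (.node (.node (.node (.node (.node .leaf (1796, 0, 17, 102438) .leaf) (1797, 0, 17, 151017) (.node .leaf (1798, 0, 17, 161876) .leaf)) (1799, 0, 16, 204236) (.node (.node .leaf (1800, 0, 12, 198055) .leaf) (1801, 0, 17, 20818) (.node .leaf (1802, 0, 18, 60885) .leaf))) (1803, 0, 15, 177403) (.node (.node (.node .leaf (1808, 0, 16, 104909) .leaf) (1809, 0, 17, 245987) (.node .leaf (1810, 0, 15, 113884) .leaf)) (1811, 0, 18, 89274) (.node (.node .leaf (1820, 0, 17, 192578) .leaf) (1821, 0, 17, 135204) (.node .leaf (1822, 0, 17, 58430) .leaf)))) (1823, 0, 15, 212993) (.node (.node (.node (.node .leaf (1824, 0, 16, 106329) .leaf) (1825, 0, 16, 51999) (.node .leaf (1826, 0, 14, 96835) .leaf)) (1827, 0, 15, 12058) (.node (.node .leaf (1836, 0, 16, 1968) .leaf) (1837, 0, 18, 222084) (.node .leaf (1838, 0, 16, 185287) .leaf))) (1839, 0, 16, 144289) (.node (.node (.node .leaf (1844, 0, 17, 253487) .leaf) (1845, 0, 12, 212553) (.node .leaf (1846,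 0, 17, 95144) .leaf)) (1847, 0, 17, 159340) (.node (.node .leaf (1848, 0, 14, 115348) .leaf) (1849, 0, 15, 74482) (.node .leaf (1850, 0, 16, 37553) .leaf))))) (1851, 0, 16, 114439) (.node (.node (.node (.node (.node .leaf (1856, 0, 17, 130602) .leaf) (1857, 0, 14, 126623) (.node .leaf (1858, 0, 17, 44559) .leaf)) (1859, 0, 15, 132845) (.node (.node .leaf (1868, 0, 14, 254609) .leaf) (1869, 0, 17, 228126) (.node .leaf (1870, 0, 18, 176820) .leaf))) (1871, 0, 16, 37740) (.node (.node (.node .leaf (1876, 0, 18, 245596) .leaf) (1877, 0, 17, 220986) (.node .leaf (1878, 0, 10, 192377) .leaf)) (1879, 0, 17, 134918) (.node (.node .leaf (1880, 0, 16, 107495) .leaf) (1881, 0, 17, 82817) (.node .leaf (1882, 0, 16, 181161) .leaf)))) (1883, 0, 16, 5028) (.node (.node (.node (.node .leaf (1892, 0, 15, 46502) .leaf) (1893, 0, 17, 142490) (.node .leaf (1894, 0, 18, 236761) .leaf)) (1895, 0, 17, 66810) (.node (.node .leaf (1896, 0, 16, 53319) .leaf) (1897, 0, 12, 30985) (.node .leaf (1898, 0, 13, 98402) .leaf)))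 (1899, 0, 15, 90116) (.node (.node (.node .leaf (1904, 0, 15, 48205) .leaf) (1905, 0, 16, 28140) (.node .leaf (1906, 0, 18, 122287) .leaf)) (1907, 0, 11, 68881) (.node (.node .leaf (1916, 0, 18, 141772) .leaf) (1917, 0, 18, 160087) (.node .leaf (1918, 0, 16, 115134) .leaf))))))

/-- part of the orbit tree -/
def itp0_24 : Tree := (.node (.node (.node (.node (.node (.node .leaf (1920, 0, 16, 934) .leaf) (1921, 0, 17, 132732) (.node .leaf (1922, 0, 13, 243488) .leaf)) (1923, 0, 17, 126478) (.node (.node .leaf (1932, 0, 17, 139037) .leaf) (1933, 0, 17, 196475) (.node .leaf (1934, 0, 16, 216888) .leaf))) (1935, 0, 16, 228239) (.node (.node (.node .leaf (1940, 0, 17, 22201) .leaf) (1941, 0, 17, 135063) (.node .leaf (1942, 0, 13, 245451) .leaf)) (1943, 0, 16, 124901) (.node (.node .leaf (1944, 0, 14, 181048) .leaf) (1945, 0, 18, 39446) (.node .leaf (1946, 0, 16, 69198) .leaf)))) (1947, 0, 17, 225892) (.node (.node (.node (.node .leaf (1956, 0, 15, 220485) .leaf) (1957, 0, 16, 250134) (.node .leaf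 (1958, 0, 15, 155989) .leaf)) (1959, 0, 16, 164147) (.node (.node .leaf (1960, 0, 18, 77259) .leaf) (1961, 0, 15, 118189) (.node .leaf (1962, 0, 17, 32238) .leaf))) (1963, 0, 17, 40328) (.node (.node (.node .leaf (1968, 0, 15, 94214) .leaf) (1969, 0, 16, 68992) (.node .leaf (1970, 0, 15, 8227) .leaf)) (1971, 0, 17, 189938) (.node (.node .leaf (1980, 0, 18, 114991) .leaf) (1981, 0, 16, 235521) (.node .leaf (1982, 0, 14, 141661) .leaf))))) (1983, 0, 16, 28787) (.node (.node (.node (.node (.node .leaf (1988, 0, 17, 161989) .leaf) (1989, 0, 16, 8683) (.node .leaf (1990, 0, 17, 102583) .leaf)) (1991, 0, 18, 248217) (.node (.node .leaf (1992, 0, 15, 60740) .leaf) (1993, 0, 18, 109790) (.node .leaf (1994, 0, 16, 7325) .leaf))) (1995, 0, 17, 89112) (.node (.node (.node .leaf (2000, 0, 15, 160046) .leaf) (2001, 0, 13, 127251) (.node .leaf (2002, 0, 11, 104796) .leaf)) (2003, 0, 18, 245874) (.node (.node .leaf (2012, 0, 12, 200142) .leaf) (2013, 0, 11, 257448) (.node .leaf (2014, 0, 16, 155115) .leaf))))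 (2015, 0, 10, 87539) (.node (.node (.node (.node .leaf (2016, 0, 14, 25301) .leaf) (2017, 0, 14, 205820) (.node .leaf (2018, 0, 15, 78576) .leaf)) (2019, 0, 16, 52110) (.node (.node .leaf (2028, 0, 12, 257875) .leaf) (2029, 0, 15, 171528) (.node .leaf (2030, 0, 14, 208459) .leaf))) (2031, 0, 17, 249389) (.node (.node (.node .leaf (2036, 0, 14, 140195) .leaf) (2037, 0, 16, 181189) (.node .leaf (2038, 0, 17, 170827) .leaf)) (2039, 0, 17, 49765) (.node (.node .leaf (2040, 0, 15, 16152) .leaf) (2041, 0, 14, 114582) .leaf)))))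

/-- part of the orbit tree -/
def itp0_25 : Tree := (.node itp0_21 (1659, 0, 15, 65646) itp0_22)

/-- part of the orbit tree -/
def itp0_26 : Tree := (.node itp0_23 (1919, 0, 15, 205170) itp0_24)

/-- part of the orbit tree -/
def itp0_27 : Tree := (.node itp0_19 (1279, 0, 15, 51766) itp0_20)

/-- part of the orbit tree -/
def itp0_28 : Tree := (.node itp0_25 (1791, 0, 17, 136204) itp0_26)

/-- part of the orbit tree -/
def itp0_29 : Tree := (.node itp0_13 (514, 0, 16, 97365) itp0_14)

/-- part of the orbit tree -/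
def itp0_30 : Tree := (.node itp0_27 (1534, 0, 13, 161019) itp0_28)

/-- part of the orbit tree -/
def itp0_31 : Tree := (.node (.node (.node (.node (.node (.node .leaf (2043, 0, 18, 102235) .leaf) (2049, 0, 16, 138257) (.node .leaf (2050, 0, 16, 240973) .leaf)) (2053, 0, 14, 173913) (.node (.node .leaf (2054, 0, 18, 202522) .leaf) (2056, 0, 8, 44963) (.node .leaf (2059, 0, 15, 73471) .leaf))) (2060, 0, 19, 184510) (.node (.node (.node .leaf (2063, 0, 12, 119524) .leaf) (2064, 0, 17, 144329) (.node .leaf (2067, 0, 17, 230037) .leaf)) (2068, 0, 16, 16234) (.node (.node .leaf (2071, 0, 18, 130440) .leaf) (2073, 0, 16, 181175) (.node .leaf (2074, 0, 16, 78119) .leaf)))) (2077, 0, 16, 196454) (.node (.node (.node (.node .leaf (2078, 0, 17, 215767) .leaf) (2080, 0, 16, 95721) (.node .leaf (2083, 0, 15, 35177) .leaf)) (2084, 0, 16, 214824) (.node (.node .leaf (2087, 0, 15, 64649) .leaf) (2089, 0, 17, 232327) (.node .leaf (2090, 0, 15, 146139) .leaf))) (2093, 0, 14, 128154) (.node (.node (.node .leaf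 (2094, 0, 17, 17862) .leaf) (2097, 0, 17, 257498) (.node .leaf (2098, 0, 14, 42673) .leaf)) (2101, 0, 18, 251129) (.node (.node .leaf (2102, 0, 15, 156858) .leaf) (2104, 0, 16, 75812) (.node .leaf (2107, 0, 18, 136451) .leaf))))) (2108, 0, 17, 69895) (.node (.node (.node (.node (.node .leaf (2111, 0, 15, 41284) .leaf) (2112, 0, 15, 70810) (.node .leaf (2115, 0, 17, 109801) .leaf)) (2116, 0, 15, 77241) (.node (.node .leaf (2119, 0, 18, 40442) .leaf) (2121, 0, 14, 175623) (.node .leaf (2122, 0, 16, 204635) .leaf))) (2125, 0, 17, 256071) (.node (.node (.node .leaf (2126, 0, 16, 153604) .leaf) (2129, 0, 14, 12909) (.node .leaf (2130, 0, 16, 146666) .leaf)) (2133, 0, 17, 150896) (.node (.node .leaf (2134, 0, 15, 132553) .leaf) (2136, 0, 17, 164319) (.node .leaf (2139, 0, 16, 63764) .leaf)))) (2140, 0, 16, 94324) (.node (.node (.node (.node .leaf (2143, 0, 16, 49207) .leaf) (2145, 0, 16, 211345) (.node .leaf (2146, 0, 14, 166093) .leaf)) (2149, 0, 11, 181802) (.node (.node .leaf (2150, 0, 15, 226921)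 .leaf) (2152, 0, 17, 15095) (.node .leaf (2155, 0, 17, 101044) .leaf))) (2156, 0, 16, 980) (.node (.node (.node .leaf (2159, 0, 15, 111511) .leaf) (2160, 0, 12, 26426) (.node .leaf (2163, 0, 16, 120697) .leaf)) (2164, 0, 16, 24089) (.node (.node .leaf (2167, 0, 18, 126554) .leaf) (2169, 0, 16, 108027) (.node .leaf (2170, 0, 15, 201351) .leaf))))))

/-- part of the orbit tree -/
def itp0_32 : Tree := (.node (.node (.node (.node (.node (.node .leaf (2174, 0, 16, 158650) .leaf) (2176, 0, 19, 59670) (.node .leaf (2179, 0, 16, 88405) .leaf)) (2180, 0, 15, 53301) (.node (.node .leaf (2183, 0, 15, 15127) .leaf) (2185, 0, 14, 83684) (.node .leaf (2186, 0, 17, 63416) .leaf))) (2189, 0, 16, 211449) (.node (.node (.node .leaf (2190, 0, 14, 238984) .leaf) (2193, 0, 16, 160037) (.node .leaf (2194, 0, 18, 246118) .leaf)) (2197, 0, 15, 149510) (.node (.node .leaf (2198, 0, 16, 260165) .leaf) (2200, 0, 18, 46299) (.node .leaf (2203, 0, 13, 66712) .leaf)))) (2204, 0, 16, 36344) (.node (.node (.node (.node .leaf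 (2207, 0, 17, 81339) .leaf) (2209, 0, 18, 197253) (.node .leaf (2210, 0, 18, 176838) .leaf)) (2213, 0, 16, 211878) (.node (.node .leaf (2214, 0, 18, 204595) .leaf) (2216, 0, 16, 116603) (.node .leaf (2219, 0, 16, 30520) .leaf))) (2220, 0, 17, 130648) (.node (.node (.node .leaf (2223, 0, 18, 109697) .leaf) (2224, 0, 17, 65194) (.node .leaf (2227, 0, 12, 10997) .leaf)) (2228, 0, 18, 164279) (.node (.node .leaf (2231, 0, 16, 5078) .leaf) (2233, 0, 17, 150808) (.node .leaf (2234, 0, 16, 261188) .leaf))))) (2237, 0, 11, 222827) (.node (.node (.node (.node (.node .leaf (2238, 0, 14, 185896) .leaf) (2241, 0, 13, 222198) (.node .leaf (2242, 0, 14, 17838) .leaf)) (2245, 0, 14, 219861) (.node (.node .leaf (2246, 0, 14, 146099) .leaf) (2248, 0, 17, 214848) (.node .leaf (2251, 0, 14, 194076) .leaf))) (2252, 0, 17, 79965) (.node (.node (.node .leaf (2255, 0, 15, 35073) .leaf) (2256, 0, 18, 121642) (.node .leaf (2259, 0, 15, 19334) .leaf)) (2260, 0, 16, 238647) (.node (.node .leaf (2263, 0, 16, 136555) .leaf)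 (2265, 0, 16, 212539) (.node .leaf (2266, 0, 18, 167544) .leaf)))) (2269, 0, 18, 71557) (.node (.node (.node (.node .leaf (2270, 0, 15, 178011) .leaf) (2272, 0, 13, 184534) (.node .leaf (2275, 0, 16, 221578) .leaf)) (2276, 0, 18, 45003) (.node (.node .leaf (2279, 0, 16, 65797) .leaf) (2281, 0, 16, 150939) (.node .leaf (2282, 0, 13, 261592) .leaf))) (2285, 0, 18, 160952) (.node (.node (.node .leaf (2286, 0, 17, 240933) .leaf) (2289, 0, 15, 196366) (.node .leaf (2290, 0, 17, 216658) .leaf)) (2293, 0, 17, 32787) (.node (.node .leaf (2294, 0, 16, 235830) .leaf) (2296, 0, 14, 54696) (.node .leaf (2299, 0, 18, 130528) .leaf))))))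

/-- part of the orbit tree -/
def itp0_33 : Tree := (.node (.node (.node (.node (.node (.node .leaf (2303, 0, 16, 230141) .leaf) (2304, 0, 17, 41692) (.node .leaf (2307, 0, 17, 70528) .leaf)) (2308, 0, 14, 124235) (.node (.node .leaf (2311, 0, 17, 21768) .leaf) (2313, 0, 16, 203158) (.node .leaf (2314, 0, 15, 237618) .leaf))) (2317, 0, 14, 204981) (.node (.node (.node .leaf (2318, 0, 17, 168182) .leaf) (2321, 0, 14, 36100) (.node .leaf (2322, 0, 17, 80984) .leaf)) (2325, 0, 16, 193049) (.node (.node .leaf (2326, 0, 16, 183611) .leaf) (2328, 0, 17, 98725) (.node .leaf (2331, 0, 13, 12774) .leaf)))) (2332, 0, 16, 112774) (.node (.node (.node (.node .leaf (2335, 0, 15, 2245) .leaf) (2337, 0, 16, 231160) (.node .leaf (2338, 0, 17, 231352) .leaf)) (2341, 0, 16, 134872) (.node (.node .leaf (2342, 0, 18, 18617) .leaf) (2344, 0, 15, 61957) (.node .leaf (2347, 0, 17, 33814) .leaf))) (2348, 0, 17, 215639) (.node (.node (.node .leaf (2351, 0, 15, 195339) .leaf) (2352, 0, 14, 239904) (.node .leaf (2355,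 0, 10, 73611) .leaf)) (2356, 0, 15, 38635) (.node (.node .leaf (2359, 0, 17, 75432) .leaf) (2361, 0, 16, 158262) (.node .leaf (2362, 0, 14, 43982) .leaf))))) (2365, 0, 16, 152341) (.node (.node (.node (.node (.node .leaf (2366, 0, 15, 185555) .leaf) (2369, 0, 17, 172920) (.node .leaf (2370, 0, 16, 255691) .leaf)) (2373, 0, 19, 56421) (.node (.node .leaf (2374, 0, 14, 93497) .leaf) (2376, 0, 15, 4298) (.node .leaf (2379, 0, 14, 106902) .leaf))) (2380, 0, 18, 43605) (.node (.node (.node .leaf (2383, 0, 17, 253579) .leaf) (2384, 0, 16, 52923) (.node .leaf (2387, 0, 18, 212476) .leaf)) (2388, 0, 16, 62397) (.node (.node .leaf (2391, 0, 14, 83931) .leaf) (2393, 0, 16, 16146) (.node .leaf (2394, 0, 13, 101966) .leaf)))) (2397, 0, 9, 143974) (.node (.node (.node (.node .leaf (2398, 0, 11, 229925) .leaf) (2400, 0, 16, 100188) (.node .leaf (2403, 0, 12, 13824) .leaf)) (2404, 0, 17, 260161) (.node (.node .leaf (2407, 0, 15, 13435) .leaf) (2409, 0, 16, 227557) (.node .leaf (2410, 0, 14, 165298) .leaf)))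 (2413, 0, 16, 213446) (.node (.node (.node .leaf (2414, 0, 16, 64175) .leaf) (2417, 0, 16, 108676) (.node .leaf (2418, 0, 18, 169323) .leaf)) (2421, 0, 16, 251801) (.node (.node .leaf (2422, 0, 10, 157381) .leaf) (2424, 0, 17, 123094) (.node .leaf (2427, 0, 15, 174698) .leaf))))))

/-- part of the orbit tree -/
def itp0_34 : Tree := (.node (.node (.node (.node (.node (.node .leaf (2431, 0, 16, 27062) .leaf) (2433, 0, 17, 240388) (.node .leaf (2434, 0, 14, 64199) .leaf)) (2437, 0, 17, 210054) (.node (.node .leaf (2438, 0, 17, 165338) .leaf) (2440, 0, 15, 260137) (.node .leaf (2443, 0, 17, 57017) .leaf))) (2444, 0, 16, 100148) (.node (.node (.node .leaf (2447, 0, 14, 13928) .leaf) (2448, 0, 16, 78647) (.node .leaf (2451, 0, 15, 54559) .leaf)) (2452, 0, 16, 203614) (.node (.node .leaf (2455, 0, 14, 47703) .leaf) (2457, 0, 17, 259785) (.node .leaf (2458, 0, 16, 149130) .leaf)))) (2461, 0, 16, 108780) (.node (.node (.node (.node .leaf (2462, 0, 15, 163753) .leaf) (2464, 0, 15, 16535) (.node .leaf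 (2467, 0, 17, 253667) .leaf)) (2468, 0, 18, 4258) (.node (.node .leaf (2471, 0, 17, 107006) .leaf) (2473, 0, 16, 56333) (.node .leaf (2474, 0, 17, 210218) .leaf))) (2477, 0, 14, 172816) (.node (.node (.node .leaf (2478, 0, 17, 201292) .leaf) (2481, 0, 15, 186532) (.node .leaf (2482, 0, 18, 258363) .leaf)) (2485, 0, 14, 188807) (.node (.node .leaf (2486, 0, 17, 217540) .leaf) (2488, 0, 10, 62421) (.node .leaf (2491, 0, 17, 109849) .leaf))))) (2492, 0, 17, 167112) (.node (.node (.node (.node (.node .leaf (2495, 0, 17, 212372) .leaf) (2496, 0, 15, 215615) (.node .leaf (2499, 0, 16, 195427) .leaf)) (2500, 0, 17, 6343) (.node (.node .leaf (2503, 0, 13, 33918) .leaf) (2505, 0, 18, 189466) (.node .leaf (2506, 0, 19, 18641) .leaf))) (2509, 0, 16, 187705) (.node (.node (.node .leaf (2510, 0, 16, 224634) .leaf) (2513, 0, 16, 222695) (.node .leaf (2514, 0, 18, 185531) .leaf)) (2517, 0, 18, 164084) (.node (.node .leaf (2518, 0, 17, 43942) .leaf) (2520, 0, 16, 31785) (.node .leaf (2523, 0, 18, 26377) .leaf))))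 (2524, 0, 15, 239944) (.node (.node (.node (.node .leaf (2527, 0, 11, 128329) .leaf) (2529, 0, 15, 28187) (.node .leaf (2530, 0, 17, 162356) .leaf)) (2533, 0, 15, 258900) (.node (.node .leaf (2534, 0, 15, 237658) .leaf) (2536, 0, 14, 69513) (.node .leaf (2539, 0, 18, 49098) .leaf))) (2540, 0, 17, 41652) (.node (.node (.node .leaf (2543, 0, 14, 34537) .leaf) (2544, 0, 17, 16835) (.node .leaf (2547, 0, 15, 57863) .leaf)) (2548, 0, 17, 93031) (.node (.node .leaf (2551, 0, 16, 233346) .leaf) (2553, 0, 12, 193137) (.node .leaf (2554, 0, 16, 141305) .leaf))))))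

/-- part of the orbit tree -/
def itp0_35 : Tree := (.node itp0_31 (2173, 0, 17, 170983) itp0_32)

/-- part of the orbit tree -/
def itp0_36 : Tree := (.node itp0_33 (2428, 0, 15, 121333) itp0_34)

/-- part of the orbit tree -/
def itp0_37 : Tree := (.node (.node (.node (.node (.node (.node .leaf (2558, 0, 16, 80944) .leaf) (2560, 0, 17, 152172) (.node .leaf (2561, 0, 16, 176650) .leaf)) (2564, 0, 15, 147214) (.node (.node .leaf (2565, 0, 14, 26144) .leaf) (2570, 0, 17, 213757) (.node .leaf (2571, 0, 17, 116663) .leaf))) (2574, 0, 15, 81376) (.node (.node (.node .leaf (2575, 0, 16, 222414) .leaf) (2578, 0, 18, 96796) (.node .leaf (2579, 0, 16, 105082) .leaf)) (2582, 0, 17, 82751) (.node (.node .leaf (2583, 0, 13, 129188) .leaf) (2584, 0, 17, 187513) (.node .leaf (2585, 0, 17, 34135) .leaf)))) (2588, 0, 16, 41828) (.node (.node (.node (.node .leaf (2589, 0, 17, 186084) .leaf) (2594, 0, 17, 185707) (.node .leaf (2595, 0, 17, 35909) .leaf)) (2598, 0, 14, 43638) (.node (.node .leaf (2599, 0, 16,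 53497) .leaf) (2600, 0, 17, 228353) (.node .leaf (2601, 0, 17, 236647) .leaf))) (2604, 0, 17, 214306) (.node (.node (.node .leaf (2605, 0, 16, 238916) .leaf) (2608, 0, 15, 205260) (.node .leaf (2609, 0, 15, 70337) .leaf)) (2612, 0, 17, 79090) (.node (.node .leaf (2613, 0, 18, 260233) .leaf) (2618, 0, 17, 18689) (.node .leaf (2619, 0, 17, 135215) .leaf))))) (2622, 0, 15, 144924) (.node (.node (.node (.node (.node .leaf (2623, 0, 16, 36148) .leaf) (2626, 0, 15, 26831) (.node .leaf (2627, 0, 15, 108997) .leaf)) (2630, 0, 16, 102390) (.node (.node .leaf (2631, 0, 18, 251608) .leaf) (2632, 0, 15, 61957) (.node .leaf (2633, 0, 17, 174891) .leaf))) (2636, 0, 17, 167192) (.node (.node (.node .leaf (2637, 0, 16, 246839) .leaf) (2640, 0, 16, 213183) (.node .leaf (2641, 0, 12, 237785) .leaf)) (2644, 0, 16, 227740) (.node (.node .leaf (2645, 0, 17, 236026) .leaf) (2650, 0, 16, 13570) (.node .leaf (2651, 0, 16, 210351) .leaf)))) (2654, 0, 17, 201628) (.node (.node (.node (.node .leaf (2655, 0, 19, 84658)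 .leaf) (2656, 0, 17, 144159) (.node .leaf (2657, 0, 16, 185209) .leaf)) (2660, 0, 16, 133692) (.node (.node .leaf (2661, 0, 15, 191066) .leaf) (2666, 0, 17, 157565) (.node .leaf (2667, 0, 15, 108228) .leaf))) (2670, 0, 16, 98177) (.node (.node (.node .leaf (2671, 0, 16, 106471) .leaf) (2674, 0, 16, 64279) (.node .leaf (2675, 0, 16, 172601) .leaf)) (2678, 0, 18, 164874) (.node (.node .leaf (2679, 0, 13, 56612) .leaf) (2680, 0, 16, 260601) (.node .leaf (2681, 0, 17, 106711) .leaf))))))

/-- part of the orbit tree -/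
def itp0_38 : Tree := (.node (.node (.node (.node (.node (.node .leaf (2685, 0, 16, 253898) .leaf) (2690, 0, 16, 6152) (.node .leaf (2691, 0, 15, 95525) .leaf)) (2694, 0, 16, 109664) (.node (.node .leaf (2695, 0, 15, 84998) .leaf) (2696, 0, 17, 188670) (.node .leaf (2697, 0, 12, 82888) .leaf))) (2700, 0, 17, 186845) (.node (.node (.node .leaf (2701, 0, 14, 212181) .leaf) (2704, 0, 16, 99980) (.node .leaf (2705, 0, 17, 154965) .leaf)) (2708, 0, 16, 164880) (.node (.node .leaf (2709, 0, 16, 106687) .leaf) (2714, 0, 18, 164962) (.node .leaf (2715, 0, 16, 76008) .leaf)))) (2718, 0, 17, 64383) (.node (.node (.node (.node .leaf (2719, 0, 15, 172625) .leaf) (2720, 0, 17, 167280) (.node .leaf (2721, 0, 17, 208629) .leaf)) (2724, 0, 18, 62061) (.node (.node .leaf (2725, 0, 15, 202710) .leaf) (2730, 0, 16, 102302) (.node .leaf (2731, 0, 16, 251568) .leaf))) (2734, 0, 14, 258179) (.node (.node (.node .leaf (2735, 0, 17, 25195) .leaf) (2738, 0, 19, 59107) (.node .leaf (2739, 0, 15, 1669) .leaf)) (2742,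 0, 16, 93417) (.node (.node .leaf (2743, 0, 15, 210375) .leaf) (2744, 0, 16, 234334) (.node .leaf (2745, 0, 16, 226104) .leaf))))) (2748, 0, 17, 159239) (.node (.node (.node (.node (.node .leaf (2749, 0, 16, 215579) .leaf) (2752, 0, 15, 241632) (.node .leaf (2753, 0, 17, 216966) .leaf)) (2756, 0, 17, 235203) (.node (.node .leaf (2757, 0, 17, 233155) .leaf) (2762, 0, 16, 55901) (.node .leaf (2763, 0, 17, 14907) .leaf))) (2766, 0, 16, 58238) (.node (.node (.node .leaf (2767, 0, 13, 792) .leaf) (2770, 0, 17, 34704) (.node .leaf (2771, 0, 13, 28506) .leaf)) (2774, 0, 13, 18793) (.node (.node .leaf (2775, 0, 11, 135239) .leaf) (2776, 0, 18, 258605) (.node .leaf (2777, 0, 16, 201291) .leaf)))) (2780, 0, 17, 248590) (.node (.node (.node (.node .leaf (2781, 0, 15, 207720) .leaf) (2786, 0, 14, 81288) (.node .leaf (2787, 0, 17, 70742) .leaf)) (2790, 0, 13, 118035) (.node (.node .leaf (2791, 0, 16, 72635) .leaf) (2792, 0, 14, 147302) (.node .leaf (2793, 0, 17, 26184) .leaf))) (2796, 0, 18, 178350) (.node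 (.node (.node .leaf (2797, 0, 8, 153800) .leaf) (2800, 0, 16, 41740) (.node .leaf (2801, 0, 17, 195106) .leaf)) (2804, 0, 16, 187409) (.node (.node .leaf (2805, 0, 16, 132357) .leaf) (2810, 0, 15, 109053) (.node .leaf (2811, 0, 18, 84379) .leaf))))))

/-- part of the orbit tree -/
def itp0_39 : Tree := (.node (.node (.node (.node (.node (.node .leaf (2815, 0, 16, 231377) .leaf) (2818, 0, 15, 216962) (.node .leaf (2819, 0, 15, 71340) .leaf)) (2822, 0, 17, 77983) (.node (.node .leaf (2823, 0, 17, 223665) .leaf) (2824, 0, 14, 251264) (.node .leaf (2825, 0, 19, 210406) .leaf))) (2828, 0, 13, 143985) (.node (.node (.node .leaf (2829, 0, 18, 27487) .leaf) (2832, 0, 16, 184582) (.node .leaf (2833, 0, 18, 34856) .leaf)) (2836, 0, 15, 242030) (.node (.node .leaf (2837, 0, 17, 194357) .leaf) (2842, 0, 17, 65008) (.node .leaf (2843, 0, 16, 232134) .leaf)))) (2846, 0, 14, 50387) (.node (.node (.node (.node .leaf (2847, 0, 15, 9397) .leaf) (2848, 0, 16, 195565) (.node .leaf (2849, 0, 17, 138123) .leaf))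 (2852, 0, 16, 239079) (.node (.node .leaf (2853, 0, 17, 139944) .leaf) (2858, 0, 18, 186388) (.node .leaf (2859, 0, 17, 93750) .leaf))) (2862, 0, 16, 42761) (.node (.node (.node .leaf (2863, 0, 15, 87829) .leaf) (2866, 0, 16, 119709) (.node .leaf (2867, 0, 16, 138576) .leaf)) (2870, 0, 18, 146275) (.node (.node .leaf (2871, 0, 14, 25165) .leaf) (2872, 0, 16, 173600) (.node .leaf (2873, 0, 16, 149062) .leaf))))) (2876, 0, 15, 171779) (.node (.node (.node (.node (.node .leaf (2877, 0, 18, 221347) .leaf) (2880, 0, 16, 65402) (.node .leaf (2881, 0, 16, 173652) .leaf)) (2884, 0, 17, 172989) (.node (.node .leaf (2885, 0, 18, 55625) .leaf) (2890, 0, 16, 126755) (.node .leaf (2891, 0, 16, 69445) .leaf))) (2894, 0, 16, 98953) (.node (.node (.node .leaf (2895, 0, 15, 79462) .leaf) (2898, 0, 16, 111342) (.node .leaf (2899, 0, 16, 211152) .leaf)) (2902, 0, 17, 204515) (.node (.node .leaf (2903, 0, 17, 93099) .leaf) (2904, 0, 15, 156432) (.node .leaf (2905, 0, 17, 14910) .leaf)))) (2908, 0, 15, 196208)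 (.node (.node (.node (.node .leaf (2909, 0, 13, 138774) .leaf) (2914, 0, 16, 158210) (.node .leaf (2915, 0, 17, 8488) .leaf)) (2918, 0, 11, 63597) (.node (.node .leaf (2919, 0, 15, 150577) .leaf) (2920, 0, 18, 92396) (.node .leaf (2921, 0, 13, 209346) .leaf))) (2924, 0, 15, 232912) (.node (.node (.node .leaf (2925, 0, 16, 224694) .leaf) (2928, 0, 15, 256318) (.node .leaf (2929, 0, 13, 109992) .leaf)) (2932, 0, 17, 101275) (.node (.node .leaf (2933, 0, 16, 209019) .leaf) (2938, 0, 17, 40067) (.node .leaf (2939, 0, 17, 31973) .leaf))))))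

/-- part of the orbit tree -/
def itp0_40 : Tree := (.node (.node (.node (.node (.node (.node .leaf (2943, 0, 17, 17862) .leaf) (2944, 0, 11, 222994) (.node .leaf (2945, 0, 18, 231284) .leaf)) (2948, 0, 13, 220721) (.node (.node .leaf (2949, 0, 17, 209322) .leaf) (2954, 0, 17, 4783) (.node .leaf (2955, 0, 16, 62153) .leaf))) (2958, 0, 18, 11148) (.node (.node (.node .leaf (2959, 0, 15, 52202) .leaf) (2962, 0, 15, 166173) (.node .leaf (2963, 0, 18, 44804) .leaf)) (2966, 0, 14, 30273) (.node (.node .leaf (2967, 0, 16, 38439) .leaf) (2968, 0, 17, 101363) (.node .leaf (2969, 0, 15, 250589) .leaf)))) (2972, 0, 17, 197628) (.node (.node (.node (.node .leaf (2973, 0, 17, 110016) .leaf) (2978, 0, 17, 99041) (.node .leaf (2979, 0, 13, 252879) .leaf)) (2982, 0, 15, 67041) (.node (.node .leaf (2983, 0, 16, 124295) .leaf) (2984, 0, 16, 163855) (.node .leaf (2985, 0, 16, 55585) .leaf))) (2988, 0, 15, 159836) (.node (.node (.node .leaf (2989, 0, 14, 167994) .leaf) (2992, 0, 8, 7269) (.node .leaf (2993,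 0, 14, 193748) .leaf)) (2996, 0, 17, 142737) (.node (.node .leaf (2997, 0, 16, 14934) .leaf) (3002, 0, 16, 90383) (.node .leaf (3003, 0, 17, 98665) .leaf))))) (3006, 0, 14, 90518) (.node (.node (.node (.node (.node .leaf (3007, 0, 14, 211128) .leaf) (3010, 0, 15, 42849) (.node .leaf (3011, 0, 17, 196175) .leaf)) (3014, 0, 16, 91282) (.node (.node .leaf (3015, 0, 17, 33106) .leaf) (3016, 0, 14, 141324) (.node .leaf (3017, 0, 17, 182378) .leaf))) (3020, 0, 16, 135471) (.node (.node (.node .leaf (3021, 0, 18, 192841) .leaf) (3024, 0, 15, 161217) (.node .leaf (3025, 0, 17, 221387) .leaf)) (3028, 0, 19, 150754) (.node (.node .leaf (3029, 0, 15, 175236) .leaf) (3034, 0, 15, 65660) (.node .leaf (3035, 0, 16, 122906) .leaf)))) (3038, 0, 14, 80223) (.node (.node (.node (.node .leaf (3039, 0, 17, 138552) .leaf) (3040, 0, 17, 143897) (.node .leaf (3041, 0, 18, 27447) .leaf)) (3044, 0, 16, 19716) (.node (.node .leaf (3045, 0, 18, 253732) .leaf) (3050, 0, 16, 78071) (.node .leaf (3051, 0, 19, 37818) .leaf)))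 (3054, 0, 16, 217066) (.node (.node (.node .leaf (3055, 0, 14, 43673) .leaf) (3058, 0, 17, 11793) (.node .leaf (3059, 0, 15, 128435) .leaf)) (3062, 0, 15, 119680) (.node (.node .leaf (3063, 0, 16, 232110) .leaf) (3064, 0, 13, 44659) .leaf)))))

/-- part of the orbit tree -/
def itp0_41 : Tree := (.node itp0_37 (2684, 0, 17, 153585) itp0_38)

/-- part of the orbit tree -/
def itp0_42 : Tree := (.node itp0_39 (2942, 0, 16, 166261) itp0_40)

/-- part of the orbit tree -/
def itp0_43 : Tree := (.node itp0_35 (2300, 0, 16, 144289) itp0_36)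

/-- part of the orbit tree -/
def itp0_44 : Tree := (.node itp0_41 (2814, 0, 17, 102622) itp0_42)

/-- part of the orbit tree -/
def itp0_45 : Tree := (.node (.node (.node (.node (.node (.node .leaf (3068, 0, 18, 221839) .leaf) (3069, 0, 15, 34880) (.node .leaf (3072, 0, 12, 222388) .leaf)) (3074, 0, 14, 41145) (.node (.node .leaf (3076, 0, 11, 220567) .leaf) (3078, 0, 16, 134578) (.node .leaf (3081, 0, 8, 129913) .leaf))) (3083, 0, 15, 61807) (.node (.node (.node .leaf (3085, 0, 16, 104553) .leaf) (3087, 0, 17, 51276) (.node .leaf (3089, 0, 17, 130183) .leaf)) (3091, 0, 18, 36705) (.node (.node .leaf (3093, 0, 15, 71694) .leaf) (3095, 0, 16, 192636) (.node .leaf (3096, 0, 16, 211321) .leaf)))) (3098, 0, 16, 158044) (.node (.node (.node (.node .leaf (3100, 0, 14, 196698) .leaf) (3102, 0, 14, 17358) (.node .leaf (3105, 0, 16, 27887) .leaf)) (3107, 0, 13, 230557) (.node (.node .leaf (3109, 0, 16, 46596) .leaf) (3111, 0, 15, 129920) (.node .leaf (3112, 0, 14, 150233) .leaf))) (3114, 0, 14, 203516)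 (.node (.node (.node .leaf (3116, 0, 14, 160762) .leaf) (3118, 0, 12, 205791) (.node .leaf (3120, 0, 17, 17207) .leaf)) (3122, 0, 17, 240453) (.node (.node .leaf (3124, 0, 16, 146474) .leaf) (3126, 0, 16, 228882) (.node .leaf (3129, 0, 14, 53994) .leaf))))) (3131, 0, 17, 71927) (.node (.node (.node (.node (.node .leaf (3133, 0, 17, 60361) .leaf) (3135, 0, 14, 113644) (.node .leaf (3137, 0, 13, 84335) .leaf)) (3139, 0, 15, 114289) (.node (.node .leaf (3141, 0, 18, 210546) .leaf) (3143, 0, 17, 100178) (.node .leaf (3144, 0, 13, 260829) .leaf))) (3146, 0, 16, 228239) (.node (.node (.node .leaf (3148, 0, 16, 99776) .leaf) (3150, 0, 16, 213676) (.node .leaf (3152, 0, 16, 91831) .leaf)) (3154, 0, 12, 167621) (.node (.node .leaf (3156, 0, 13, 203178) .leaf) (3158, 0, 17, 204641) (.node .leaf (3161, 0, 14, 45977) .leaf)))) (3163, 0, 10, 15735) (.node (.node (.node (.node .leaf (3165, 0, 15, 35514) .leaf) (3167, 0, 17, 148074) (.node .leaf (3168, 0, 11, 198087) .leaf)) (3170, 0, 15, 99641) (.node (.node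 .leaf (3172, 0, 16, 4694) .leaf) (3174, 0, 18, 158913) (.node .leaf (3177, 0, 17, 114745) .leaf))) (3179, 0, 14, 36892) (.node (.node (.node .leaf (3181, 0, 15, 129306) .leaf) (3183, 0, 17, 84374) (.node .leaf (3185, 0, 15, 105972) .leaf)) (3187, 0, 19, 109281) (.node (.node .leaf (3189, 0, 18, 15758) .leaf) (3191, 0, 18, 62706) (.node .leaf (3192, 0, 14, 219146) .leaf))))))

/-- part of the orbit tree -/
def itp0_46 : Tree := (.node (.node (.node (.node (.node (.node .leaf (3196, 0, 17, 221481) .leaf) (3198, 0, 15, 143628) (.node .leaf (3201, 0, 18, 70616) .leaf)) (3203, 0, 13, 17405) (.node (.node .leaf (3205, 0, 15, 76539) .leaf) (3207, 0, 15, 210659) (.node .leaf (3208, 0, 15, 4670) .leaf))) (3210, 0, 13, 165379) (.node (.node (.node .leaf (3212, 0, 14, 159011) .leaf) (3214, 0, 15, 99665) (.node .leaf (3216, 0, 17, 232427) .leaf)) (3218, 0, 16, 91686) (.node (.node .leaf (3220, 0, 16, 242376) .leaf) (3222, 0, 14, 203067) (.node .leaf (3225, 0, 15, 15846) .leaf)))) (3227, 0, 14, 251284)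 (.node (.node (.node (.node .leaf (3229, 0, 17, 96054) .leaf) (3231, 0, 17, 10003) (.node .leaf (3232, 0, 13, 99752) .leaf)) (3234, 0, 18, 159194) (.node (.node .leaf (3236, 0, 14, 180584) .leaf) (3238, 0, 13, 233805) (.node .leaf (3241, 0, 17, 210458) .leaf))) (3243, 0, 14, 56936) (.node (.node (.node .leaf (3245, 0, 18, 84231) .leaf) (3247, 0, 15, 87219) (.node .leaf (3249, 0, 16, 24696) .leaf)) (3251, 0, 15, 147970) (.node (.node .leaf (3253, 0, 15, 22875) .leaf) (3255, 0, 16, 15647) (.node .leaf (3256, 0, 18, 203202) .leaf))))) (3258, 0, 17, 259491) (.node (.node (.node (.node (.node .leaf (3260, 0, 14, 171173) .leaf) (3262, 0, 17, 167597) (.node .leaf (3264, 0, 16, 41000) .leaf)) (3266, 0, 15, 215130) (.node (.node .leaf (3268, 0, 16, 172059) .leaf) (3270, 0, 14, 258110) (.node .leaf (3273, 0, 18, 23750) .leaf))) (3275, 0, 17, 68835) (.node (.node (.node .leaf (3277, 0, 16, 26085) .leaf) (3279, 0, 16, 230645) (.node .leaf (3281, 0, 14, 36848) .leaf)) (3283, 0, 14, 223106) (.node (.node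 .leaf (3285, 0, 13, 192749) .leaf) (3287, 0, 16, 71839) (.node .leaf (3288, 0, 14, 181493) .leaf)))) (3290, 0, 16, 119856) (.node (.node (.node (.node .leaf (3292, 0, 16, 196054) .leaf) (3294, 0, 17, 241139) (.node .leaf (3297, 0, 16, 230412) .leaf)) (3299, 0, 16, 27774) (.node (.node .leaf (3301, 0, 17, 84872) .leaf) (3303, 0, 13, 7085) (.node .leaf (3304, 0, 16, 243541) .leaf))) (3306, 0, 13, 190320) (.node (.node (.node .leaf (3308, 0, 18, 233078) .leaf) (3310, 0, 15, 187987) (.node .leaf (3312, 0, 15, 256664) .leaf)) (3314, 0, 17, 178877) (.node (.node .leaf (3316, 0, 18, 250811) .leaf) (3318, 0, 16, 164766) (.node .leaf (3321, 0, 17, 77670) .leaf))))))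

/-- part of the orbit tree -/
def itp0_47 : Tree := (.node (.node (.node (.node (.node (.node .leaf (3325, 0, 15, 223099) .leaf) (3327, 0, 9, 36617) (.node .leaf (3329, 0, 18, 128518) .leaf)) (3331, 0, 17, 95875) (.node (.node .leaf (3333, 0, 18, 8069) .leaf) (3335, 0, 17, 85920) (.node .leaf (3336, 0, 17, 214452) .leaf))) (3338, 0, 16, 242557) (.node (.node (.node .leaf (3340, 0, 17, 80553) .leaf) (3342, 0, 16, 232030) (.node .leaf (3344, 0, 16, 179861) .leaf)) (3346, 0, 16, 257712) (.node (.node .leaf (3348, 0, 17, 165814) .leaf) (3350, 0, 17, 20145) (.node .leaf (3353, 0, 13, 223852) .leaf)))) (3355, 0, 18, 33310) (.node (.node (.node (.node .leaf (3357, 0, 16, 16968) .leaf) (3359, 0, 16, 70253) (.node .leaf (3360, 0, 17, 184866) .leaf)) (3362, 0, 17, 80464) (.node (.node .leaf (3364, 0, 16, 259094) .leaf) (3366, 0, 16, 214349) (.node .leaf (3369, 0, 14, 24976) .leaf))) (3371, 0, 15, 231906) (.node (.node (.node .leaf (3373, 0, 13, 78312) .leaf) (3375, 0, 14, 25037) (.node .leaf (3377,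 0, 17, 196090) .leaf)) (3379, 0, 16, 1315) (.node (.node .leaf (3381, 0, 17, 33511) .leaf) (3383, 0, 15, 223893) (.node .leaf (3384, 0, 17, 20040) .leaf))))) (3386, 0, 17, 180445) (.node (.node (.node (.node (.node .leaf (3388, 0, 15, 240091) .leaf) (3390, 0, 15, 121127) (.node .leaf (3392, 0, 17, 260002) .leaf)) (3394, 0, 14, 195683) (.node (.node .leaf (3396, 0, 17, 100543) .leaf) (3398, 0, 16, 181568) (.node .leaf (3401, 0, 16, 92600) .leaf))) (3403, 0, 17, 175202) (.node (.node (.node .leaf (3405, 0, 18, 86171) .leaf) (3407, 0, 15, 54143) (.node .leaf (3409, 0, 15, 78965) .leaf)) (3411, 0, 17, 12296) (.node (.node .leaf (3413, 0, 17, 108391) .leaf) (3415, 0, 19, 151317) (.node .leaf (3416, 0, 16, 258443) .leaf)))) (3418, 0, 15, 164794) (.node (.node (.node (.node .leaf (3420, 0, 17, 247976) .leaf) (3422, 0, 17, 64679) (.node .leaf (3425, 0, 17, 18389) .leaf)) (3427, 0, 13, 71664) (.node (.node .leaf (3429, 0, 13, 175259) .leaf) (3431, 0, 16, 83177) (.node .leaf (3432, 0, 16, 155700) .leaf)))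 (3434, 0, 16, 250382) (.node (.node (.node .leaf (3436, 0, 17, 7977) .leaf) (3438, 0, 11, 256813) (.node .leaf (3440, 0, 12, 64606) .leaf)) (3442, 0, 17, 201772) (.node (.node .leaf (3444, 0, 18, 164675) .leaf) (3446, 0, 17, 92977) (.node .leaf (3449, 0, 17, 6680) .leaf))))))

/-- part of the orbit tree -/
def itp0_48 : Tree := (.node (.node (.node (.node (.node (.node .leaf (3453, 0, 12, 12529) .leaf) (3455, 0, 15, 252035) (.node .leaf (3456, 0, 17, 152010) .leaf)) (3458, 0, 15, 259891) (.node (.node .leaf (3460, 0, 17, 155740) .leaf) (3462, 0, 16, 100398) (.node .leaf (3465, 0, 17, 175347) .leaf))) (3467, 0, 17, 115729) (.node (.node (.node .leaf (3469, 0, 15, 54254) .leaf) (3471, 0, 14, 211868) (.node .leaf (3473, 0, 8, 51705) .leaf)) (3475, 0, 17, 252139) (.node (.node .leaf (3477, 0, 17, 151428) .leaf) (3479, 0, 18, 108534) (.node .leaf (3480, 0, 14, 164651) .leaf)))) (3482, 0, 16, 220194) (.node (.node (.node (.node .leaf (3484, 0, 17, 144676) .leaf) (3486, 0, 15, 201796) (.node .leaf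 (3489, 0, 17, 211813) .leaf)) (3491, 0, 15, 54039) (.node (.node .leaf (3493, 0, 13, 83064) .leaf) (3495, 0, 16, 175114) (.node .leaf (3496, 0, 14, 100567) .leaf))) (3498, 0, 17, 155813) (.node (.node (.node .leaf (3500, 0, 17, 260042) .leaf) (3502, 0, 14, 136865) (.node .leaf (3504, 0, 18, 201917) .leaf)) (3506, 0, 15, 160335) (.node (.node .leaf (3508, 0, 17, 203593) .leaf) (3510, 0, 16, 164818) (.node .leaf (3513, 0, 15, 108303) .leaf))))) (3515, 0, 16, 47025) (.node (.node (.node (.node (.node .leaf (3517, 0, 18, 251922) .leaf) (3519, 0, 12, 12384) (.node .leaf (3521, 0, 17, 138981) .leaf)) (3523, 0, 18, 35599) (.node (.node .leaf (3525, 0, 16, 25080) .leaf) (3527, 0, 15, 231818) (.node .leaf (3528, 0, 14, 204500) .leaf))) (3530, 0, 16, 214309) (.node (.node (.node .leaf (3532, 0, 16, 206839) .leaf) (3534, 0, 14, 80440) (.node .leaf (3536, 0, 14, 143677) .leaf)) (3538, 0, 15, 121167) (.node (.node .leaf (3540, 0, 11, 227898) .leaf) (3542, 0, 15, 239186) (.node .leaf (3545, 0, 11, 33423)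 .leaf)))) (3547, 0, 14, 223997) (.node (.node (.node (.node .leaf (3549, 0, 17, 195986) .leaf) (3551, 0, 17, 71136) (.node .leaf (3552, 0, 17, 143545) .leaf)) (3554, 0, 16, 185011) (.node (.node .leaf (3556, 0, 17, 214492) .leaf) (3558, 0, 14, 219583) (.node .leaf (3561, 0, 17, 231795) .leaf))) (3563, 0, 17, 107874) (.node (.node (.node .leaf (3565, 0, 17, 52324) .leaf) (3567, 0, 11, 105537) (.node .leaf (3569, 0, 13, 70937) .leaf)) (3571, 0, 13, 195947) (.node (.node .leaf (3573, 0, 15, 223748) .leaf) (3575, 0, 17, 33398) (.node .leaf (3576, 0, 16, 239275) .leaf))))))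

/-- part of the orbit tree -/
def itp0_49 : Tree := (.node itp0_45 (3194, 0, 12, 133167) itp0_46)

/-- part of the orbit tree -/
def itp0_50 : Tree := (.node itp0_47 (3451, 0, 17, 108446) itp0_48)

/-- part of the orbit tree -/
def itp0_51 : Tree := (.node (.node (.node (.node (.node (.node .leaf (3580, 0, 15, 152663) .leaf) (3582, 0, 16, 197746) (.node .leaf (3592, 0, 9, 93532) .leaf)) (3593, 0, 15, 101690) (.node (.node .leaf (3594, 0, 17, 20233) .leaf) (3595, 0, 16, 56607) (.node .leaf (3596, 0, 16, 120934) .leaf))) (3597, 0, 18, 229704) (.node (.node (.node .leaf (3598, 0, 18, 1114) .leaf) (3599, 0, 18, 58428) (.node .leaf (3600, 0, 13, 80657) .leaf)) (3601, 0, 13, 119031) (.node (.node .leaf (3602, 0, 16, 24756) .leaf) (3603, 0, 15, 32978) (.node .leaf (3604, 0, 17, 68018) .leaf)))) (3605, 0, 15, 72994) (.node (.node (.node (.node .leaf (3606, 0, 17, 22935) .leaf) (3607, 0, 18, 193872) (.node .leaf (3616, 0, 15, 143597) .leaf)) (3617, 0, 17, 27075) (.node (.node .leaf (3618, 0, 14, 70420)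 .leaf) (3619, 0, 18, 127858) (.node .leaf (3620, 0, 17, 31250) .leaf))) (3621, 0, 16, 136926) (.node (.node (.node .leaf (3622, 0, 14, 239490) .leaf) (3623, 0, 18, 117329) (.node .leaf (3640, 0, 19, 44167) .leaf)) (3641, 0, 15, 193961) (.node (.node .leaf (3642, 0, 16, 214261) .leaf) (3643, 0, 18, 110271) (.node .leaf (3644, 0, 16, 10207) .leaf))))) (3645, 0, 16, 35508) (.node (.node (.node (.node (.node .leaf (3646, 0, 17, 80872) .leaf) (3647, 0, 19, 221894) (.node .leaf (3648, 0, 17, 202093) .leaf)) (3649, 0, 17, 49700) (.node (.node .leaf (3650, 0, 15, 64799) .leaf) (3651, 0, 18, 102913) (.node .leaf (3652, 0, 17, 92784) .leaf))) (3653, 0, 15, 64263) (.node (.node (.node .leaf (3654, 0, 12, 84804) .leaf) (3655, 0, 17, 109346) (.node .leaf (3672, 0, 16, 32655) .leaf)) (3673, 0, 16, 249897) (.node (.node .leaf (3674, 0, 15, 156021) .leaf) (3675, 0, 15, 118732) (.node .leaf (3676, 0, 14, 259610) .leaf)))) (3677, 0, 18, 42698) (.node (.node (.node (.node .leaf (3678, 0, 15, 7784) .leaf) (3679,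 0, 15, 149318) (.node .leaf (3688, 0, 19, 164603) .leaf)) (3689, 0, 16, 126025) (.node (.node .leaf (3690, 0, 18, 92809) .leaf) (3691, 0, 18, 209831) (.node .leaf (3692, 0, 18, 79116) .leaf))) (3693, 0, 17, 173256) (.node (.node (.node .leaf (3694, 0, 19, 202132) .leaf) (3695, 0, 17, 85178) (.node .leaf (3696, 0, 17, 7825) .leaf)) (3697, 0, 15, 149439) (.node (.node .leaf (3698, 0, 17, 455) .leaf) (3699, 0, 13, 110541) (.node .leaf (3700, 0, 18, 156044) .leaf))))))

/-- part of the orbit tree -/
def itp0_52 : Tree := (.node (.node (.node (.node (.node (.node .leaf (3702, 0, 16, 100862) .leaf) (3703, 0, 18, 55426) (.node .leaf (3712, 0, 15, 64910) .leaf)) (3713, 0, 15, 81832) (.node (.node .leaf (3714, 0, 15, 36843) .leaf) (3715, 0, 17, 28557) (.node .leaf (3716, 0, 18, 124653) .leaf))) (3717, 0, 14, 67211) (.node (.node (.node .leaf (3718, 0, 18, 92897) .leaf) (3719, 0, 14, 22190) (.node .leaf (3736, 0, 16, 156132) .leaf)) (3737, 0, 16, 90725) (.node (.node .leaf (3738, 0, 16, 53798) .leaf)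 (3739, 0, 15, 12864) (.node .leaf (3740, 0, 15, 113440) .leaf)))) (3741, 0, 17, 88902) (.node (.node (.node (.node .leaf (3742, 0, 16, 259723) .leaf) (3743, 0, 18, 2915) (.node .leaf (3752, 0, 17, 92696) .leaf)) (3753, 0, 16, 209718) (.node (.node .leaf (3754, 0, 16, 106886) .leaf) (3755, 0, 16, 82400) (.node .leaf (3756, 0, 18, 51328) .leaf))) (3757, 0, 14, 85035) (.node (.node (.node .leaf (3758, 0, 17, 64887) .leaf) (3759, 0, 16, 173145) (.node .leaf (3760, 0, 15, 259698) .leaf)) (3761, 0, 17, 19464) (.node (.node .leaf (3762, 0, 15, 130123) .leaf) (3763, 0, 17, 72749) (.node .leaf (3764, 0, 17, 100719) .leaf))))) (3765, 0, 17, 29995) (.node (.node (.node (.node (.node .leaf (3766, 0, 18, 155933) .leaf) (3767, 0, 13, 14387) (.node .leaf (3784, 0, 16, 20376) .leaf)) (3785, 0, 18, 28854) (.node (.node .leaf (3786, 0, 16, 239594) .leaf) (3787, 0, 14, 73875) (.node .leaf (3788, 0, 16, 43507) .leaf))) (3789, 0, 15, 18837) (.node (.node (.node .leaf (3790, 0, 16, 129494) .leaf) (3791, 0, 16, 229849)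 (.node .leaf (3792, 0, 15, 52509) .leaf)) (3793, 0, 14, 11643) (.node (.node .leaf (3794, 0, 17, 105784) .leaf) (3795, 0, 13, 221870) (.node .leaf (3796, 0, 15, 44271) .leaf)))) (3797, 0, 16, 193985) (.node (.node (.node (.node .leaf (3798, 0, 15, 107547) .leaf) (3799, 0, 17, 73139) (.node .leaf (3808, 0, 16, 120846) .leaf)) (3809, 0, 17, 89819) (.node (.node .leaf (3810, 0, 16, 61080) .leaf) (3811, 0, 15, 26962) (.node .leaf (3812, 0, 14, 100254) .leaf))) (3813, 0, 18, 92152) (.node (.node (.node .leaf (3814, 0, 15, 55227) .leaf) (3815, 0, 16, 136783) (.node .leaf (3832, 0, 17, 214116) .leaf)) (3833, 0, 12, 73034) (.node (.node .leaf (3834, 0, 13, 45909) .leaf) (3835, 0, 11, 21299) (.node .leaf (3836, 0, 15, 121427) .leaf))))))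

/-- part of the orbit tree -/
def itp0_53 : Tree := (.node (.node (.node (.node (.node (.node .leaf (3838, 0, 16, 35446) .leaf) (3839, 0, 14, 27152) (.node .leaf (3840, 0, 17, 240132) .leaf)) (3841, 0, 13, 127786) (.node (.node .leaf (3842, 0, 13, 17014) .leaf) (3843, 0, 15, 88819) (.node .leaf (3844, 0, 17, 54163) .leaf))) (3845, 0, 13, 232503) (.node (.node (.node .leaf (3846, 0, 13, 99254) .leaf) (3847, 0, 16, 91088) (.node .leaf (3864, 0, 16, 46973) .leaf)) (3865, 0, 14, 225088) (.node (.node .leaf (3866, 0, 15, 187932) .leaf) (3867, 0, 16, 34610) (.node .leaf (3868, 0, 17, 215411) .leaf)))) (3869, 0, 18, 69725) (.node (.node (.node (.node .leaf (3870, 0, 15, 122491) .leaf) (3871, 0, 15, 81437) (.node .leaf (3880, 0, 18, 115933) .leaf)) (3881, 0, 18, 74939) (.node (.node .leaf (3882, 0, 15, 120288) .leaf) (3883, 0, 18, 29854) (.node .leaf (3884, 0, 18, 130558) .leaf))) (3885, 0, 15, 73112) (.node (.node (.node .leaf (3886, 0, 17, 240381) .leaf) (3887, 0, 16, 127955) (.node .leaf (3888,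 0, 15, 104720) .leaf)) (3889, 0, 15, 96630) (.node (.node .leaf (3890, 0, 16, 215434) .leaf) (3891, 0, 17, 10579) (.node .leaf (3892, 0, 15, 106547) .leaf))))) (3893, 0, 14, 82005) (.node (.node (.node (.node (.node .leaf (3894, 0, 18, 79511) .leaf) (3895, 0, 14, 4208) (.node .leaf (3912, 0, 16, 202770) .leaf)) (3913, 0, 17, 83400) (.node (.node .leaf (3914, 0, 13, 62859) .leaf) (3915, 0, 16, 174414) (.node .leaf (3916, 0, 16, 91919) .leaf))) (3917, 0, 15, 212513) (.node (.node (.node .leaf (3918, 0, 18, 52392) .leaf) (3919, 0, 16, 54867) (.node .leaf (3920, 0, 18, 129123) .leaf)) (3921, 0, 16, 253270) (.node (.node .leaf (3922, 0, 18, 158730) .leaf) (3923, 0, 15, 18464) (.node .leaf (3924, 0, 15, 260965) .leaf)))) (3925, 0, 16, 74022) (.node (.node (.node (.node .leaf (3926, 0, 14, 37221) .leaf) (3927, 0, 11, 28931) (.node .leaf (3936, 0, 15, 35779) .leaf)) (3937, 0, 18, 54954) (.node (.node .leaf (3938, 0, 13, 92150) .leaf) (3939, 0, 17, 80768) (.node .leaf (3940, 0, 15, 61593) .leaf))) (3941,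 0, 10, 174519) (.node (.node (.node .leaf (3942, 0, 9, 123589) .leaf) (3943, 0, 18, 66211) (.node .leaf (3960, 0, 15, 5102) .leaf)) (3961, 0, 14, 13928) (.node (.node .leaf (3962, 0, 14, 99883) .leaf) (3963, 0, 15, 91725) (.node .leaf (3964, 0, 15, 158963) .leaf))))))

/-- part of the orbit tree -/
def itp0_54 : Tree := (.node (.node (.node (.node (.node (.node .leaf (3966, 0, 16, 114440) .leaf) (3967, 0, 17, 89966) (.node .leaf (3976, 0, 18, 22562) .leaf)) (3977, 0, 15, 47172) (.node (.node .leaf (3978, 0, 17, 67591) .leaf) (3979, 0, 16, 125025) (.node .leaf (3980, 0, 15, 167916) .leaf))) (3981, 0, 14, 33127) (.node (.node (.node .leaf (3982, 0, 17, 92062) .leaf) (3983, 0, 15, 119106) (.node .leaf (3984, 0, 18, 1519) .leaf)) (3985, 0, 14, 13749) (.node (.node .leaf (3986, 0, 14, 99561) .leaf) (3987, 0, 17, 112044) (.node .leaf (3988, 0, 12, 4998) .leaf)))) (3989, 0, 12, 150184) (.node (.node (.node (.node .leaf (3990, 0, 16, 93417) .leaf) (3991, 0, 12, 107226) (.node .leaf (4000, 0, 15, 95823)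 .leaf)) (4001, 0, 12, 212553) (.node (.node .leaf (4002, 0, 16, 9834) .leaf) (4003, 0, 17, 50700) (.node .leaf (4004, 0, 18, 202874) .leaf))) (4005, 0, 17, 110346) (.node (.node (.node .leaf (4006, 0, 17, 8009) .leaf) (4007, 0, 17, 65327) (.node .leaf (4024, 0, 14, 76674) .leaf)) (4025, 0, 16, 107043) (.node (.node .leaf (4026, 0, 15, 31655) .leaf) (4027, 0, 16, 39873) (.node .leaf (4028, 0, 17, 99344) .leaf))))) (4029, 0, 17, 253246) (.node (.node (.node (.node (.node .leaf (4030, 0, 15, 17028) .leaf) (4031, 0, 17, 13644) (.node .leaf (4032, 0, 16, 71484) .leaf)) (4033, 0, 16, 128858) (.node (.node .leaf (4034, 0, 17, 18201) .leaf) (4035, 0, 18, 127931) (.node .leaf (4036, 0, 17, 146938) .leaf))) (4037, 0, 16, 118393) (.node (.node (.node .leaf (4038, 0, 16, 32314) .leaf) (4039, 0, 15, 232614) (.node .leaf (4056, 0, 17, 188045) .leaf)) (4057, 0, 16, 109207) (.node (.node .leaf (4058, 0, 14, 6868) .leaf) (4059, 0, 14, 225233) (.node .leaf (4060, 0, 11, 95186) .leaf)))) (4061, 0, 15, 103348)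 (.node (.node (.node (.node .leaf (4062, 0, 16, 9207) .leaf) (4063, 0, 15, 50065) (.node .leaf (4072, 0, 19, 120177) .leaf)) (4073, 0, 16, 232543) (.node (.node .leaf (4074, 0, 15, 146691) .leaf) (4075, 0, 17, 25645) (.node .leaf (4076, 0, 17, 240236) .leaf))) (4077, 0, 14, 57364) (.node (.node (.node .leaf (4078, 0, 18, 16926) .leaf) (4079, 0, 15, 110641) (.node .leaf (4080, 0, 16, 25756) .leaf)) (4081, 0, 16, 69685) (.node (.node .leaf (4082, 0, 14, 41321) .leaf) (4083, 0, 17, 194631) .leaf)))))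

/-- part of the orbit tree -/
def itp0_55 : Tree := (.node itp0_51 (3701, 0, 16, 14498) itp0_52)

/-- part of the orbit tree -/
def itp0_56 : Tree := (.node itp0_53 (3965, 0, 17, 3915) itp0_54)

/-- part of the orbit tree -/
def itp0_57 : Tree := (.node itp0_49 (3323, 0, 17, 32579) itp0_50)

/-- part of the orbit tree -/
def itp0_58 : Tree := (.node itp0_55 (3837, 0, 17, 80437) itp0_56)

/-- part of the orbit tree -/
def itp0_59 : Tree := (.node itp0_43 (2557, 0, 17, 241305) itp0_44)

/-- part of the orbit tree -/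
def itp0_60 : Tree := (.node itp0_57 (3578, 0, 16, 20185) itp0_58)

/-- part of the orbit tree -/
def itp0_61 : Tree := (.node itp0_29 (1021, 0, 17, 130293) itp0_30)

/-- part of the orbit tree -/
def itp0_62 : Tree := (.node itp0_59 (3065, 0, 19, 244682) itp0_60)

/-- part of the orbit tree -/
def itp0_63 : Tree := (.node (.node (.node (.node (.node (.node .leaf (4085, 0, 14, 48601) .leaf) (4086, 0, 16, 69018) (.node .leaf (4087, 0, 12, 126460) .leaf)) (4097, 0, 15, 232283) (.node (.node .leaf (4098, 0, 16, 145927) .leaf) (4100, 0, 17, 241000) (.node .leaf (4103, 0, 17, 138292) .leaf))) (4105, 0, 16, 250092) (.node (.node (.node .leaf (4106, 0, 15, 184475) .leaf) (4108, 0, 16, 199081) (.node .leaf (4111, 0, 16, 178666) .leaf)) (4112, 0, 14, 238723) (.node (.node .leaf (4115, 0, 16, 187652) .leaf) (4117, 0, 19, 242690) (.node .leaf (4118, 0, 11, 144364) .leaf)))) (4120, 0, 17, 216607) (.node (.node (.node (.node .leaf (4123, 0, 15, 63644) .leaf) (4125, 0, 17, 102810) (.node .leaf (4126, 0,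 16, 186736) .leaf)) (4128, 0, 13, 138983) (.node (.node .leaf (4131, 0, 15, 241316) .leaf) (4133, 0, 16, 182178) (.node .leaf (4134, 0, 14, 79888) .leaf))) (4136, 0, 17, 15231) (.node (.node (.node .leaf (4139, 0, 18, 101180) .leaf) (4141, 0, 13, 57914) (.node .leaf (4142, 0, 18, 86649) .leaf)) (4145, 0, 18, 34516) (.node (.node .leaf (4146, 0, 18, 78331) .leaf) (4148, 0, 16, 42644) (.node .leaf (4151, 0, 17, 71624) .leaf))))) (4153, 0, 17, 27195) (.node (.node (.node (.node (.node .leaf (4154, 0, 14, 121703) .leaf) (4156, 0, 17, 19464) (.node .leaf (4159, 0, 14, 130388) .leaf)) (4160, 0, 16, 163732) (.node (.node .leaf (4163, 0, 18, 15267) .leaf) (4165, 0, 15, 173777) (.node .leaf (4166, 0, 14, 7568) .leaf))) (4168, 0, 17, 23052) (.node (.node (.node .leaf (4171, 0, 13, 125519) .leaf) (4173, 0, 17, 33609) (.node .leaf (4174, 0, 9, 63244) .leaf)) (4177, 0, 18, 59303) (.node (.node .leaf (4178, 0, 17, 88036) .leaf) (4180, 0, 18, 16098) (.node .leaf (4183, 0, 13, 12872) .leaf)))) (4185, 0, 15,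 85947) (.node (.node (.node (.node .leaf (4186, 0, 14, 225916) .leaf) (4188, 0, 17, 138106) (.node .leaf (4191, 0, 14, 55508) .leaf)) (4193, 0, 16, 103431) (.node (.node .leaf (4194, 0, 14, 9284) .leaf) (4196, 0, 17, 166120) (.node .leaf (4199, 0, 11, 211380) .leaf))) (4201, 0, 17, 148551) (.node (.node (.node .leaf (4202, 0, 15, 259355) .leaf) (4204, 0, 16, 156276) (.node .leaf (4207, 0, 10, 186521) .leaf)) (4208, 0, 13, 199732) (.node (.node .leaf (4211, 0, 19, 179319) .leaf) (4213, 0, 17, 173872) (.node .leaf (4214, 0, 15, 156978) .leaf))))))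

/-- part of the orbit tree -/
def itp0_64 : Tree := (.node (.node (.node (.node (.node (.node .leaf (4219, 0, 17, 252611) .leaf) (4221, 0, 17, 127209) (.node .leaf (4222, 0, 16, 261360) .leaf)) (4224, 0, 16, 156188) (.node (.node .leaf (4227, 0, 18, 143963) .leaf) (4229, 0, 18, 148527) (.node .leaf (4230, 0, 17, 191262) .leaf))) (4232, 0, 16, 166016) (.node (.node (.node .leaf (4235, 0, 17, 6083) .leaf) (4237, 0, 11, 97989) (.node .leaf (4238, 0, 17, 52870) .leaf)) (4241, 0, 17, 150980) (.node (.node .leaf (4242, 0, 16, 43624) .leaf) (4244, 0, 16, 115566) (.node .leaf (4247, 0, 14, 29485) .leaf)))) (4249, 0, 14, 212915) (.node (.node (.node (.node .leaf (4250, 0, 16, 167920) .leaf) (4252, 0, 19, 164203) (.node .leaf (4255, 0, 14, 153269) .leaf)) (4257, 0, 11, 27019) (.node (.node .leaf (4258, 0, 17, 63332) .leaf) (4260, 0, 17, 45262) (.node .leaf (4263, 0, 13, 53591) .leaf))) (4265, 0, 17, 150547) (.node (.node (.node .leaf (4266, 0, 15, 261200) .leaf) (4268, 0, 16, 101015) (.node .leaf (4271,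 0, 15, 206101) .leaf)) (4272, 0, 17, 92640) (.node (.node .leaf (4275, 0, 12, 213499) .leaf) (4277, 0, 15, 85971) (.node .leaf (4278, 0, 17, 235710) .leaf))))) (4280, 0, 16, 99196) (.node (.node (.node (.node (.node .leaf (4283, 0, 18, 91235) .leaf) (4285, 0, 14, 3429) (.node .leaf (4286, 0, 12, 5139) .leaf)) (4289, 0, 15, 25528) (.node (.node .leaf (4290, 0, 6, 112827) .leaf) (4292, 0, 15, 53693) (.node .leaf (4295, 0, 17, 128215) .leaf))) (4297, 0, 15, 142688) (.node (.node (.node .leaf (4298, 0, 14, 236835) .leaf) (4300, 0, 16, 193573) (.node .leaf (4303, 0, 14, 73291) .leaf)) (4304, 0, 12, 19552) (.node (.node .leaf (4307, 0, 13, 204936) .leaf) (4309, 0, 13, 149902) (.node .leaf (4310, 0, 16, 121615) .leaf)))) (4312, 0, 17, 46419) (.node (.node (.node (.node .leaf (4315, 0, 16, 66832) .leaf) (4317, 0, 17, 32975) (.node .leaf (4318, 0, 16, 78227) .leaf)) (4320, 0, 17, 254827) (.node (.node .leaf (4323, 0, 18, 152360) .leaf) (4325, 0, 16, 221615) (.node .leaf (4326, 0, 16, 184563) .leaf)))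 (4328, 0, 16, 240896) (.node (.node (.node .leaf (4331, 0, 17, 138332) .leaf) (4333, 0, 13, 232243) (.node .leaf (4334, 0, 15, 45045) .leaf)) (4337, 0, 13, 223300) (.node (.node .leaf (4338, 0, 17, 51995) .leaf) (4340, 0, 16, 216695) (.node .leaf (4343, 0, 16, 4702) .leaf))))))

/-- part of the orbit tree -/
def itp0_65 : Tree := (.node (.node (.node (.node (.node (.node .leaf (4346, 0, 17, 192131) .leaf) (4348, 0, 16, 238827) (.node .leaf (4351, 0, 12, 136631) .leaf)) (4352, 0, 16, 178022) (.node (.node .leaf (4355, 0, 10, 198437) .leaf) (4357, 0, 17, 70565) (.node .leaf (4358, 0, 16, 41721) .leaf))) (4360, 0, 19, 37630) (.node (.node (.node .leaf (4363, 0, 14, 74429) .leaf) (4365, 0, 18, 19387) (.node .leaf (4366, 0, 17, 130040) .leaf)) (4369, 0, 15, 72270) (.node (.node .leaf (4370, 0, 17, 106262) .leaf) (4372, 0, 17, 81021) (.node .leaf (4375, 0, 9, 36129) .leaf)))) (4377, 0, 16, 127186) (.node (.node (.node (.node .leaf (4378, 0, 16, 16782) .leaf) (4380, 0, 13, 185224) (.node .leaf (4383,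 0, 15, 26557) .leaf)) (4385, 0, 16, 89333) (.node (.node .leaf (4386, 0, 16, 237806) .leaf) (4388, 0, 18, 145281) (.node .leaf (4391, 0, 18, 13811) .leaf))) (4393, 0, 16, 195374) (.node (.node (.node .leaf (4394, 0, 16, 182574) .leaf) (4396, 0, 17, 237608) (.node .leaf (4399, 0, 13, 135275) .leaf)) (4400, 0, 18, 246982) (.node (.node .leaf (4403, 0, 16, 233270) .leaf) (4405, 0, 15, 204163) (.node .leaf (4406, 0, 17, 175552) .leaf))))) (4408, 0, 17, 185590) (.node (.node (.node (.node (.node .leaf (4411, 0, 15, 20765) .leaf) (4413, 0, 17, 193221) (.node .leaf (4414, 0, 16, 34904) .leaf)) (4417, 0, 14, 209970) (.node (.node .leaf (4418, 0, 15, 36293) .leaf) (4420, 0, 13, 124099) (.node .leaf (4423, 0, 16, 172893) .leaf))) (4425, 0, 15, 202782) (.node (.node (.node .leaf (4426, 0, 16, 174173) .leaf) (4428, 0, 17, 260253) (.node .leaf (4431, 0, 15, 160024) .leaf)) (4432, 0, 10, 239029) (.node (.node .leaf (4435, 0, 15, 136694) .leaf) (4437, 0, 16, 228592) (.node .leaf (4438, 0, 15, 183475) .leaf))))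 (4440, 0, 12, 98349) (.node (.node (.node (.node .leaf (4443, 0, 15, 12398) .leaf) (4445, 0, 15, 251717) (.node .leaf (4446, 0, 15, 59691) .leaf)) (4448, 0, 12, 4118) (.node (.node .leaf (4451, 0, 17, 222806) .leaf) (4453, 0, 16, 134992) (.node .leaf (4454, 0, 17, 100217) .leaf))) (4456, 0, 17, 62349) (.node (.node (.node .leaf (4459, 0, 17, 84950) .leaf) (4461, 0, 13, 56505) (.node .leaf (4462, 0, 16, 105099) .leaf)) (4465, 0, 12, 20006) (.node (.node .leaf (4466, 0, 18, 130661) .leaf) (4468, 0, 17, 38755) (.node .leaf (4471, 0, 15, 108705) .leaf))))))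

/-- part of the orbit tree -/
def itp0_66 : Tree := (.node (.node (.node (.node (.node (.node .leaf (4474, 0, 17, 252925) .leaf) (4476, 0, 16, 176891) (.node .leaf (4479, 0, 17, 82493) .leaf)) (4481, 0, 18, 49162) (.node (.node .leaf (4482, 0, 14, 94281) .leaf) (4484, 0, 16, 64226) (.node .leaf (4487, 0, 13, 108812) .leaf))) (4489, 0, 17, 13901) (.node (.node (.node .leaf (4490, 0, 14, 218577) .leaf) (4492, 0, 17, 4222) (.node .leaf (4495, 0, 16, 106786) .leaf)) (4496, 0, 16, 153657) (.node (.node .leaf (4499, 0, 13, 82517) .leaf) (4501, 0, 17, 54586) (.node .leaf (4502, 0, 15, 91238) .leaf)))) (4504, 0, 12, 6549) (.node (.node (.node (.node .leaf (4507, 0, 16, 108745) .leaf) (4509, 0, 17, 42212) (.node .leaf (4510, 0, 19, 70823) .leaf)) (4512, 0, 11, 207769) (.node (.node .leaf (4515, 0, 18, 170970) .leaf) (4517, 0, 16, 253638) (.node .leaf (4518, 0, 18, 159642) .leaf))) (4520, 0, 15, 69121) (.node (.node (.node .leaf (4523, 0, 16, 172853) .leaf) (4525, 0, 16, 210010) (.node .leaf (4526,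 0, 16, 26375) .leaf)) (4529, 0, 15, 111530) (.node (.node .leaf (4530, 0, 18, 1001) .leaf) (4532, 0, 16, 258334) (.node .leaf (4535, 0, 13, 55980) .leaf))))) (4537, 0, 16, 212401) (.node (.node (.node (.node (.node .leaf (4538, 0, 15, 167149) .leaf) (4540, 0, 16, 216951) (.node .leaf (4543, 0, 16, 174814) .leaf)) (4544, 0, 18, 215786) (.node (.node .leaf (4547, 0, 15, 195241) .leaf) (4549, 0, 17, 195398) (.node .leaf (4550, 0, 15, 215578) .leaf))) (4552, 0, 15, 145385) (.node (.node (.node .leaf (4555, 0, 17, 57137) .leaf) (4557, 0, 15, 112183) (.node .leaf (4558, 0, 14, 1652) .leaf)) (4561, 0, 16, 119513) (.node (.node .leaf (4562, 0, 17, 214001) .leaf) (4564, 0, 17, 185502) (.node .leaf (4567, 0, 14, 48095) .leaf)))) (4569, 0, 16, 137265) (.node (.node (.node (.node .leaf (4570, 0, 18, 149250) .leaf) (4572, 0, 18, 146946) (.node .leaf (4575, 0, 14, 233310) .leaf)) (4577, 0, 16, 129361) (.node (.node .leaf (4578, 0, 18, 18445) .leaf) (4580, 0, 16, 122722) (.node .leaf (4583, 0, 17, 28222)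 .leaf))) (4585, 0, 16, 70605) (.node (.node (.node .leaf (4586, 0, 15, 210082) .leaf) (4588, 0, 18, 155044) (.node .leaf (4591, 0, 14, 33954) .leaf)) (4592, 0, 14, 145738) (.node (.node .leaf (4595, 0, 18, 231689) .leaf) (4597, 0, 15, 188431) (.node .leaf (4598, 0, 16, 16870) .leaf))))))

/-- part of the orbit tree -/
def itp0_67 : Tree := (.node itp0_63 (4216, 0, 12, 76204) itp0_64)

/-- part of the orbit tree -/
def itp0_68 : Tree := (.node itp0_65 (4473, 0, 15, 54610) itp0_66)

/-- part of the orbit tree -/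
def itp0_69 : Tree := (.node (.node (.node (.node (.node (.node .leaf (4603, 0, 18, 109713) .leaf) (4605, 0, 14, 72230) (.node .leaf (4606, 0, 13, 95700) .leaf)) (4608, 0, 14, 120665) (.node (.node .leaf (4609, 0, 18, 121092) .leaf) (4614, 0, 14, 20580) (.node .leaf (4615, 0, 16, 45058) .leaf))) (4616, 0, 19, 81349) (.node (.node (.node .leaf (4617, 0, 13, 261276) .leaf) (4622, 0, 14, 161276) (.node .leaf (4623, 0, 14, 193412) .leaf)) (4626, 0, 15, 135442) (.node (.node .leaf (4627, 0, 17, 135411) .leaf) (4628, 0, 16, 227348) (.node .leaf (4629, 0, 18, 231324) .leaf)))) (4634, 0, 19, 41793) (.node (.node (.node (.node .leaf (4635, 0, 17, 54508) .leaf) (4636, 0, 17, 78894) (.node .leaf (4637, 0, 17, 114154) .leaf)) (4642, 0, 16, 213537) (.node (.node .leaf (4643, 0, 14, 72463) .leaf) (4644, 0, 16, 134068) (.node .leaf (4645, 0, 15, 35936) .leaf))) (4650, 0, 17, 83754) (.node (.node (.node .leaf (4651, 0, 12, 127379) .leaf) (4652, 0, 18, 147410) (.node .leaf (4653, 0, 17, 26364) .leaf)) (4656,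 0, 16, 187557) (.node (.node .leaf (4657, 0, 16, 34187) .leaf) (4662, 0, 17, 74692) (.node .leaf (4663, 0, 17, 70372) .leaf))))) (4664, 0, 18, 159578) (.node (.node (.node (.node (.node .leaf (4665, 0, 15, 28439) .leaf) (4670, 0, 14, 198236) (.node .leaf (4671, 0, 17, 129144) .leaf)) (4674, 0, 17, 197569) (.node (.node .leaf (4675, 0, 14, 254887) .leaf) (4676, 0, 15, 158407) (.node .leaf (4677, 0, 17, 109024) .leaf))) (4682, 0, 13, 167229) (.node (.node (.node .leaf (4683, 0, 15, 116287) .leaf) (4684, 0, 16, 20319) (.node .leaf (4685, 0, 14, 82812) .leaf)) (4688, 0, 17, 260389) (.node (.node .leaf (4689, 0, 10, 52183) .leaf) (4694, 0, 15, 159306) (.node .leaf (4695, 0, 16, 14180) .leaf)))) (4696, 0, 14, 134697) (.node (.node (.node (.node .leaf (4697, 0, 13, 84631) .leaf) (4702, 0, 15, 165078) (.node .leaf (4703, 0, 13, 231241) .leaf)) (4704, 0, 15, 88081) (.node (.node .leaf (4705, 0, 18, 112759) .leaf) (4710, 0, 17, 12567) (.node .leaf (4711, 0, 16, 53617) .leaf))) (4712, 0, 17, 6213) (.node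 (.node (.node .leaf (4713, 0, 15, 147819) .leaf) (4718, 0, 15, 136335) (.node .leaf (4719, 0, 16, 193769) .leaf)) (4722, 0, 19, 93277) (.node (.node .leaf (4723, 0, 18, 210291) .leaf) (4724, 0, 15, 64306) (.node .leaf (4725, 0, 18, 260353) .leaf))))))

/-- part of the orbit tree -/
def itp0_70 : Tree := (.node (.node (.node (.node (.node (.node .leaf (4731, 0, 14, 46495) .leaf) (4732, 0, 17, 4526) (.node .leaf (4733, 0, 17, 122009) .leaf)) (4738, 0, 17, 196173) (.node (.node .leaf (4739, 0, 17, 138795) .leaf) (4740, 0, 16, 6189) (.node .leaf (4741, 0, 16, 147715) .leaf))) (4746, 0, 17, 56277) (.node (.node (.node .leaf (4747, 0, 18, 15283) .leaf) (4748, 0, 12, 111315) (.node .leaf (4749, 0, 16, 175007) .leaf)) (4752, 0, 16, 4550) (.node (.node .leaf (4753, 0, 13, 79451) .leaf) (4758, 0, 18, 48955) (.node .leaf (4759, 0, 13, 253831) .leaf)))) (4760, 0, 15, 258981) (.node (.node (.node (.node .leaf (4761, 0, 15, 201667) .leaf) (4766, 0, 18, 93237) (.node .leaf (4767, 0, 16, 162501) .leaf)) (4768,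 0, 15, 203322) (.node (.node .leaf (4769, 0, 14, 17915) .leaf) (4774, 0, 13, 167253) (.node .leaf (4775, 0, 15, 54395) .leaf))) (4776, 0, 15, 258214) (.node (.node (.node .leaf (4777, 0, 17, 108936) .leaf) (4782, 0, 17, 157641) (.node .leaf (4783, 0, 16, 199013) .leaf)) (4786, 0, 16, 232941) (.node (.node .leaf (4787, 0, 17, 224651) .leaf) (4788, 0, 14, 201681) (.node .leaf (4789, 0, 16, 132237) .leaf))))) (4794, 0, 18, 159266) (.node (.node (.node (.node (.node .leaf (4795, 0, 13, 83987) .leaf) (4796, 0, 18, 260429) (.node .leaf (4797, 0, 17, 8469) .leaf)) (4800, 0, 17, 50414) (.node (.node .leaf (4801, 0, 14, 26260) .leaf) (4806, 0, 18, 239829) (.node .leaf (4807, 0, 13, 127483) .leaf))) (4808, 0, 18, 185638) (.node (.node (.node .leaf (4809, 0, 14, 131344) .leaf) (4814, 0, 12, 231536) (.node .leaf (4815, 0, 16, 72551) .leaf)) (4818, 0, 17, 237886) (.node (.node .leaf (4819, 0, 18, 199928) .leaf) (4820, 0, 17, 144977) (.node .leaf (4821, 0, 18, 157182) .leaf)))) (4826, 0, 15, 215970) (.node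 (.node (.node (.node .leaf (4827, 0, 17, 76128) .leaf) (4828, 0, 18, 187597) (.node .leaf (4829, 0, 10, 34275) .leaf)) (4834, 0, 17, 43714) (.node (.node .leaf (4835, 0, 17, 193516) .leaf) (4836, 0, 14, 81325) (.node .leaf (4837, 0, 16, 202334) .leaf))) (4842, 0, 16, 16478) (.node (.node (.node .leaf (4843, 0, 14, 23232) .leaf) (4844, 0, 12, 120625) (.node .leaf (4845, 0, 15, 78790) .leaf)) (4848, 0, 17, 112462) (.node (.node .leaf (4849, 0, 16, 224616) .leaf) (4854, 0, 18, 56904) (.node .leaf (4855, 0, 14, 195079) .leaf))))))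

/-- part of the orbit tree -/
def itp0_71 : Tree := (.node (.node (.node (.node (.node (.node .leaf (4857, 0, 14, 231412) .leaf) (4862, 0, 14, 18869) (.node .leaf (4863, 0, 17, 135323) .leaf)) (4866, 0, 10, 248627) (.node (.node .leaf (4867, 0, 14, 207701) .leaf) (4868, 0, 16, 216999) (.node .leaf (4869, 0, 14, 148051) .leaf))) (4874, 0, 17, 143956) (.node (.node (.node .leaf (4875, 0, 18, 27514) .leaf) (4876, 0, 13, 238907) (.node .leaf (4877, 0, 16, 26571) .leaf)) (4880, 0, 16, 58179) (.node (.node .leaf (4881, 0, 11, 805) .leaf) (4886, 0, 17, 184611) (.node .leaf (4887, 0, 17, 92707) .leaf)))) (4888, 0, 16, 181979) (.node (.node (.node (.node .leaf (4889, 0, 14, 140989) .leaf) (4894, 0, 16, 146367) (.node .leaf (4895, 0, 17, 217019) .leaf)) (4896, 0, 18, 102627) (.node (.node .leaf (4897, 0, 16, 94341) .leaf) (4902, 0, 17, 63973) (.node .leaf (4903, 0, 16, 6531) .leaf))) (4904, 0, 12, 243067) (.node (.node (.node .leaf (4905, 0, 16, 196098) .leaf) (4910, 0, 14, 187517) (.node .leaf (4911,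 0, 15, 146459) .leaf)) (4914, 0, 17, 119604) (.node (.node .leaf (4915, 0, 17, 153845) .leaf) (4916, 0, 15, 17499) (.node .leaf (4917, 0, 16, 138613) .leaf))))) (4922, 0, 11, 40203) (.node (.node (.node (.node (.node .leaf (4923, 0, 13, 32109) .leaf) (4924, 0, 16, 44743) (.node .leaf (4925, 0, 13, 194537) .leaf)) (4928, 0, 16, 92208) (.node (.node .leaf (4929, 0, 16, 70134) .leaf) (4934, 0, 19, 65375) (.node .leaf (4935, 0, 14, 173681) .leaf))) (4936, 0, 16, 250888) (.node (.node (.node .leaf (4937, 0, 15, 210030) .leaf) (4942, 0, 15, 5571) (.node .leaf (4943, 0, 15, 150765) .leaf)) (4946, 0, 16, 186848) (.node (.node .leaf (4947, 0, 16, 145798) .leaf) (4948, 0, 17, 241894) (.node .leaf (4949, 0, 17, 217216) .leaf)))) (4954, 0, 14, 64632) (.node (.node (.node (.node .leaf (4955, 0, 16, 148742) .leaf) (4956, 0, 16, 103806) (.node .leaf (4957, 0, 16, 250473) .leaf)) (4962, 0, 13, 261448) (.node (.node .leaf (4963, 0, 13, 215590) .leaf) (4964, 0, 13, 158247) (.node .leaf (4965, 0, 16, 13065) .leaf)))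 (4970, 0, 17, 102360) (.node (.node (.node .leaf (4971, 0, 18, 85754) .leaf) (4972, 0, 16, 59102) (.node .leaf (4973, 0, 15, 1720) .leaf)) (4976, 0, 18, 33328) (.node (.node .leaf (4977, 0, 17, 15074) .leaf) (4982, 0, 14, 259235) (.node .leaf (4983, 0, 14, 68432) .leaf))))))

/-- part of the orbit tree -/
def itp0_72 : Tree := (.node (.node (.node (.node (.node (.node .leaf (4985, 0, 13, 53374) .leaf) (4990, 0, 11, 204351) (.node .leaf (4991, 0, 18, 208584) .leaf)) (4992, 0, 15, 3100) (.node (.node .leaf (4993, 0, 17, 55805) .leaf) (4998, 0, 11, 91418) (.node .leaf (4999, 0, 17, 85650) .leaf))) (5000, 0, 15, 158287) (.node (.node (.node .leaf (5001, 0, 16, 182754) .leaf) (5006, 0, 17, 213122) (.node .leaf (5007, 0, 16, 107534) .leaf)) (5010, 0, 16, 204375) (.node (.node .leaf (5011, 0, 17, 83833) .leaf) (5012, 0, 16, 166200) (.node .leaf (5013, 0, 16, 175372) .leaf)))) (5018, 0, 17, 259275) (.node (.node (.node (.node .leaf (5019, 0, 15, 110053) .leaf) (5020, 0, 16, 26866) (.node .leaf (5021,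 0, 16, 34964) .leaf)) (5026, 0, 17, 153548) (.node (.node .leaf (5027, 0, 15, 150661) .leaf) (5028, 0, 15, 212682) (.node .leaf (5029, 0, 13, 252906) .leaf))) (5034, 0, 15, 65335) (.node (.node (.node .leaf (5035, 0, 16, 37426) .leaf) (5036, 0, 16, 92248) (.node .leaf (5037, 0, 19, 129844) .leaf)) (5040, 0, 14, 98236) (.node (.node .leaf (5041, 0, 16, 250369) .leaf) (5046, 0, 15, 7232) (.node .leaf (5047, 0, 17, 148846) .leaf))))) (5048, 0, 17, 90547) (.node (.node (.node (.node (.node .leaf (5049, 0, 17, 244290) .leaf) (5054, 0, 17, 63196) (.node .leaf (5055, 0, 14, 185156) .leaf)) (5058, 0, 18, 77867) (.node (.node .leaf (5059, 0, 17, 223493) .leaf) (5060, 0, 15, 42820) (.node .leaf (5061, 0, 17, 245727) .leaf))) (5066, 0, 12, 121527) (.node (.node (.node .leaf (5067, 0, 16, 230297) .leaf) (5068, 0, 16, 96801) (.node .leaf (5069, 0, 15, 105031) .leaf)) (5072, 0, 14, 44719) (.node (.node .leaf (5073, 0, 14, 130729) .leaf) (5078, 0, 15, 80320) (.node .leaf (5079, 0, 17, 38831) .leaf)))) (5080,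 0, 16, 17459) (.node (.node (.node (.node .leaf (5081, 0, 15, 252721) .leaf) (5086, 0, 16, 119644) (.node .leaf (5087, 0, 13, 176695) .leaf)) (5088, 0, 18, 28015) (.node (.node .leaf (5089, 0, 17, 130173) .leaf) (5094, 0, 16, 66665) (.node .leaf (5095, 0, 19, 27410) .leaf))) (5096, 0, 17, 217039) (.node (.node (.node .leaf (5097, 0, 18, 71393) .leaf) (5102, 0, 14, 205297) (.node .leaf (5103, 0, 14, 33166) .leaf)) (5106, 0, 14, 214303) (.node (.node .leaf (5107, 0, 18, 238969) .leaf) (5108, 0, 17, 240824) .leaf)))))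

/-- part of the orbit tree -/
def itp0_73 : Tree := (.node itp0_69 (4730, 0, 17, 100033) itp0_70)

/-- part of the orbit tree -/
def itp0_74 : Tree := (.node itp0_71 (4984, 0, 16, 173992) itp0_72)

/-- part of the orbit tree -/
def itp0_75 : Tree := (.node itp0_67 (4345, 0, 18, 220864) itp0_68)

/-- part of the orbit tree -/
def itp0_76 : Tree := (.node itp0_73 (4856, 0, 16, 122586) itp0_74)

/-- part of the orbit tree -/
def itp0_77 : Tree := (.node (.node (.node (.node (.node (.node .leaf (5114, 0, 12, 90247) .leaf) (5115, 0, 14, 98529) (.node .leaf (5116, 0, 16, 214564) .leaf)) (5117, 0, 18, 59879) (.node (.node .leaf (5120, 0, 14, 188289) .leaf) (5122, 0, 17, 90015) (.node .leaf (5125, 0, 17, 55039) .leaf))) (5127, 0, 16, 100058) (.node (.node (.node .leaf (5128, 0, 13, 144669) .leaf) (5130, 0, 16, 227847) (.node .leaf (5133, 0, 18, 135982) .leaf)) (5135, 0, 17, 129884) (.node (.node .leaf (5137, 0, 15, 169865) .leaf) (5139, 0, 11, 71723) (.node .leaf (5140, 0, 17, 185962) .leaf)))) (5142,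 0, 18, 204521) (.node (.node (.node (.node .leaf (5145, 0, 12, 45585) .leaf) (5147, 0, 17, 123444) (.node .leaf (5148, 0, 20, 27476) .leaf)) (5150, 0, 15, 119940) (.node (.node .leaf (5153, 0, 15, 129957) .leaf) (5155, 0, 15, 177164) (.node .leaf (5156, 0, 18, 122262) .leaf))) (5158, 0, 14, 159049) (.node (.node (.node .leaf (5161, 0, 14, 69945) .leaf) (5163, 0, 16, 37268) (.node .leaf (5164, 0, 17, 79626) .leaf)) (5166, 0, 15, 188280) (.node (.node .leaf (5168, 0, 17, 97306) .leaf) (5170, 0, 18, 146447) (.node .leaf (5173, 0, 18, 107871) .leaf))))) (5175, 0, 14, 62842) (.node (.node (.node (.node (.node .leaf (5176, 0, 15, 219522) .leaf) (5178, 0, 18, 133543) (.node .leaf (5181, 0, 17, 71890) .leaf)) (5183, 0, 15, 184546) (.node (.node .leaf (5185, 0, 16, 56869) .leaf) (5187, 0, 13, 185727) (.node .leaf (5188, 0, 11, 220191) .leaf))) (5190, 0, 14, 200804) (.node (.node (.node .leaf (5193, 0, 16, 13497) .leaf) (5195, 0, 17, 253131) (.node .leaf (5196, 0, 15, 96647) .leaf)) (5198, 0, 19, 260856)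 (.node (.node .leaf (5200, 0, 15, 73065) .leaf) (5202, 0, 14, 203151) (.node .leaf (5205, 0, 17, 55246) .leaf)))) (5207, 0, 16, 212924) (.node (.node (.node (.node .leaf (5208, 0, 17, 7009) .leaf) (5210, 0, 18, 157908) (.node .leaf (5213, 0, 16, 15698) .leaf)) (5215, 0, 17, 176529) (.node (.node .leaf (5216, 0, 14, 28361) .leaf) (5218, 0, 18, 81644) (.node .leaf (5221, 0, 17, 46988) .leaf))) (5223, 0, 9, 124841) (.node (.node (.node .leaf (5224, 0, 18, 200861) .leaf) (5226, 0, 18, 63727) (.node .leaf (5229, 0, 18, 210606) .leaf)) (5231, 0, 13, 57052) (.node (.node .leaf (5233, 0, 16, 194298) .leaf) (5235, 0, 17, 15787) (.node .leaf (5236, 0, 14, 143295) .leaf))))))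

/-- part of the orbit tree -/
def itp0_78 : Tree := (.node (.node (.node (.node (.node (.node .leaf (5241, 0, 16, 54114) .leaf) (5243, 0, 16, 99143) (.node .leaf (5244, 0, 15, 203126) .leaf)) (5246, 0, 17, 61700) (.node (.node .leaf (5249, 0, 18, 210630) .leaf) (5251, 0, 14, 57012) (.node .leaf (5252, 0, 15, 172435) .leaf))) (5254, 0, 17, 63623) (.node (.node (.node .leaf (5257, 0, 17, 253018) .leaf) (5259, 0, 17, 13352) (.node .leaf (5260, 0, 16, 33803) .leaf)) (5262, 0, 17, 119854) (.node (.node .leaf (5264, 0, 14, 57573) .leaf) (5266, 0, 17, 110784) (.node .leaf (5269, 0, 15, 212781) .leaf)))) (5271, 0, 13, 55135) (.node (.node (.node (.node .leaf (5272, 0, 17, 181629) .leaf) (5274, 0, 17, 7152) (.node .leaf (5277, 0, 18, 138296) .leaf)) (5279, 0, 18, 216093) (.node (.node .leaf (5280, 0, 17, 103237) .leaf) (5282, 0, 17, 50016) (.node .leaf (5285, 0, 16, 84480) .leaf))) (5287, 0, 16, 253091) (.node (.node (.node .leaf (5288, 0, 14, 243421) .leaf) (5290, 0, 15, 190200) (.node .leaf (5293,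 0, 15, 225176) .leaf)) (5295, 0, 16, 210495) (.node (.node .leaf (5297, 0, 16, 199542) .leaf) (5299, 0, 16, 251208) (.node .leaf (5300, 0, 15, 6921) .leaf))))) (5302, 0, 16, 258939) (.node (.node (.node (.node (.node .leaf (5305, 0, 16, 55206) .leaf) (5307, 0, 17, 212948) (.node .leaf (5308, 0, 17, 61845) .leaf)) (5310, 0, 14, 42894) (.node (.node .leaf (5312, 0, 17, 79714) .leaf) (5314, 0, 15, 41491) (.node .leaf (5317, 0, 17, 76659) .leaf))) (5319, 0, 16, 31574) (.node (.node (.node .leaf (5320, 0, 18, 251822) .leaf) (5322, 0, 18, 144780) (.node .leaf (5325, 0, 15, 200427) .leaf)) (5327, 0, 16, 136127) (.node (.node .leaf (5329, 0, 13, 71866) .leaf) (5331, 0, 16, 192712) (.node .leaf (5332, 0, 16, 242496) .leaf)))) (5334, 0, 18, 186107) (.node (.node (.node (.node .leaf (5337, 0, 14, 127526) .leaf) (5339, 0, 7, 137812) (.node .leaf (5340, 0, 15, 119829) .leaf)) (5342, 0, 16, 50941) (.node (.node .leaf (5345, 0, 17, 136006) .leaf) (5347, 0, 18, 215424) (.node .leaf (5348, 0, 15, 144757) .leaf)))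 (5350, 0, 15, 122119) (.node (.node (.node .leaf (5353, 0, 17, 195034) .leaf) (5355, 0, 15, 70056) (.node .leaf (5356, 0, 18, 188393) .leaf)) (5358, 0, 13, 79771) (.node (.node .leaf (5360, 0, 15, 33174) .leaf) (5362, 0, 16, 119219) (.node .leaf (5365, 0, 18, 137901) .leaf))))))

/-- part of the orbit tree -/
def itp0_79 : Tree := (.node (.node (.node (.node (.node (.node .leaf (5368, 0, 17, 185858) .leaf) (5370, 0, 17, 259115) (.node .leaf (5373, 0, 17, 163147) .leaf)) (5375, 0, 16, 71747) (.node (.node .leaf (5377, 0, 16, 216488) .leaf) (5379, 0, 18, 231742) (.node .leaf (5380, 0, 13, 234733) .leaf))) (5382, 0, 15, 241421) (.node (.node (.node .leaf (5385, 0, 16, 92208) .leaf) (5387, 0, 11, 14357) (.node .leaf (5388, 0, 14, 44515) .leaf)) (5390, 0, 17, 214417) (.node (.node .leaf (5392, 0, 17, 20116) .leaf) (5394, 0, 16, 239334) (.node .leaf (5397, 0, 17, 68830) .leaf)))) (5399, 0, 15, 23803) (.node (.node (.node (.node .leaf (5400, 0, 16, 41992) .leaf) (5402, 0, 15, 172070) (.node .leaf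 (5405, 0, 17, 207174) .leaf)) (5407, 0, 18, 223817) (.node (.node .leaf (5408, 0, 17, 42555) .leaf) (5410, 0, 17, 44314) (.node .leaf (5413, 0, 18, 32638) .leaf))) (5415, 0, 12, 77659) (.node (.node (.node .leaf (5416, 0, 11, 164771) .leaf) (5418, 0, 17, 18310) (.node .leaf (5421, 0, 18, 154342) .leaf)) (5423, 0, 14, 199363) (.node (.node .leaf (5425, 0, 16, 223920) .leaf) (5427, 0, 18, 224813) (.node .leaf (5428, 0, 15, 216195) .leaf))))) (5430, 0, 17, 42225) (.node (.node (.node (.node (.node .leaf (5433, 0, 18, 229420) .leaf) (5435, 0, 12, 84917) (.node .leaf (5436, 0, 15, 49877) .leaf)) (5438, 0, 17, 20077) (.node (.node .leaf (5440, 0, 16, 51016) .leaf) (5442, 0, 10, 104301) (.node .leaf (5445, 0, 17, 7693) .leaf))) (5447, 0, 17, 110249) (.node (.node (.node .leaf (5448, 0, 14, 189136) .leaf) (5450, 0, 13, 242421) (.node .leaf (5453, 0, 18, 175175) .leaf)) (5455, 0, 16, 224176) (.node (.node .leaf (5457, 0, 15, 155515) .leaf) (5459, 0, 16, 200542) (.node .leaf (5460, 0, 19, 165438) .leaf))))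 (5462, 0, 14, 98673) (.node (.node (.node (.node .leaf (5465, 0, 16, 31459) .leaf) (5467, 0, 17, 76486) (.node .leaf (5468, 0, 17, 164767) .leaf)) (5470, 0, 18, 127875) (.node (.node .leaf (5473, 0, 11, 208091) .leaf) (5475, 0, 15, 163070) (.node .leaf (5476, 0, 14, 90879) .leaf))) (5478, 0, 16, 166541) (.node (.node (.node .leaf (5481, 0, 16, 67907) .leaf) (5483, 0, 12, 149026) (.node .leaf (5484, 0, 18, 118790) .leaf)) (5486, 0, 17, 32803) (.node (.node .leaf (5488, 0, 17, 92948) .leaf) (5490, 0, 16, 164710) (.node .leaf (5493, 0, 16, 93613) .leaf))))))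

/-- part of the orbit tree -/
def itp0_80 : Tree := (.node (.node (.node (.node (.node (.node .leaf (5496, 0, 16, 233840) .leaf) (5498, 0, 13, 180565) (.node .leaf (5501, 0, 16, 108475) .leaf)) (5503, 0, 18, 137232) (.node (.node .leaf (5504, 0, 17, 100363) .leaf) (5506, 0, 17, 155769) (.node .leaf (5509, 0, 14, 123777) .leaf))) (5511, 0, 17, 149066) (.node (.node (.node .leaf (5512, 0, 18, 90775) .leaf) (5514, 0, 18, 151417) (.node .leaf (5517, 0, 15, 247321) .leaf)) (5519, 0, 16, 169532) (.node (.node .leaf (5521, 0, 15, 238327) .leaf) (5523, 0, 17, 151457) (.node .leaf (5524, 0, 10, 228274) .leaf)))) (5526, 0, 16, 142231) (.node (.node (.node (.node .leaf (5529, 0, 15, 85327) .leaf) (5531, 0, 19, 55114) (.node .leaf (5532, 0, 15, 93052) .leaf)) (5534, 0, 15, 164622) (.node (.node .leaf (5537, 0, 13, 175151) .leaf) (5539, 0, 17, 229746) (.node .leaf (5540, 0, 16, 133138) .leaf))) (5542, 0, 18, 90734) (.node (.node (.node .leaf (5545, 0, 18, 149171) .leaf) (5547, 0, 16, 110273) (.node .leaf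 (5548, 0, 17, 155776) .leaf)) (5550, 0, 13, 97711) (.node (.node .leaf (5552, 0, 15, 18788) .leaf) (5554, 0, 15, 93061) (.node .leaf (5557, 0, 16, 36897) .leaf))))) (5559, 0, 18, 85430) (.node (.node (.node (.node (.node .leaf (5560, 0, 18, 158972) .leaf) (5562, 0, 14, 212185) (.node .leaf (5565, 0, 16, 177593) .leaf)) (5567, 0, 16, 255388) (.node (.node .leaf (5569, 0, 16, 231855) .leaf) (5571, 0, 14, 253953) (.node .leaf (5572, 0, 18, 158049) .leaf))) (5574, 0, 17, 211268) (.node (.node (.node .leaf (5577, 0, 18, 222003) .leaf) (5579, 0, 15, 116121) (.node .leaf (5580, 0, 13, 19705) .leaf)) (5582, 0, 10, 44402) (.node (.node .leaf (5584, 0, 18, 10263) .leaf) (5586, 0, 14, 96306) (.node .leaf (5589, 0, 15, 229444) .leaf)))) (5591, 0, 16, 26678) (.node (.node (.node (.node .leaf (5592, 0, 17, 216299) .leaf) (5594, 0, 18, 220586) (.node .leaf (5597, 0, 12, 223960) .leaf)) (5599, 0, 14, 230639) (.node (.node .leaf (5600, 0, 18, 89015) .leaf) (5602, 0, 16, 2962) (.node .leaf (5605, 0, 17, 35768)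 .leaf))) (5607, 0, 15, 53975) (.node (.node (.node .leaf (5608, 0, 18, 18199) .leaf) (5610, 0, 15, 142858) (.node .leaf (5613, 0, 16, 24868) .leaf)) (5615, 0, 18, 231766) (.node (.node .leaf (5617, 0, 17, 246660) .leaf) (5619, 0, 16, 168865) (.node .leaf (5620, 0, 13, 203457) .leaf))))))

/-- part of the orbit tree -/
def itp0_81 : Tree := (.node itp0_77 (5238, 0, 11, 7064) itp0_78)

/-- part of the orbit tree -/
def itp0_82 : Tree := (.node itp0_79 (5495, 0, 17, 173397) itp0_80)

/-- part of the orbit tree -/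
def itp0_83 : Tree := (.node (.node (.node (.node (.node (.node .leaf (5625, 0, 15, 26831) .leaf) (5627, 0, 17, 46649) (.node .leaf (5628, 0, 17, 81753) .leaf)) (5630, 0, 15, 239246) (.node (.node .leaf (5636, 0, 16, 42416) .leaf) (5637, 0, 15, 64143) (.node .leaf (5638, 0, 17, 84684) .leaf))) (5639, 0, 15, 109226) (.node (.node (.node .leaf (5644, 0, 16, 20268) .leaf) (5645, 0, 15, 136706) (.node .leaf (5646, 0, 16, 239454) .leaf)) (5647, 0, 18, 130672) (.node (.node .leaf (5648, 0, 19, 44123) .leaf) (5649, 0, 15, 193909) (.node .leaf (5650, 0, 16, 199610) .leaf)))) (5651, 0, 17, 72967) (.node (.node (.node (.node .leaf (5656, 0, 14, 18119) .leaf) (5657, 0, 19, 139241) (.node .leaf (5658, 0, 15, 77346) .leaf)) (5659, 0, 17, 128923) (.node (.node .leaf (5664, 0, 17, 206911) .leaf) (5665, 0, 17, 130697) (.node .leaf (5666, 0, 13, 161818) .leaf))) (5667, 0, 14, 136955) (.node (.node (.node .leaf (5672, 0, 18, 69031) .leaf) (5673, 0, 17, 126401) (.node .leaf (5674, 0, 13, 23938) .leaf)) (5675,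 0, 19, 48612) (.node (.node .leaf (5684, 0, 17, 241228) .leaf) (5685, 0, 18, 128866) (.node .leaf (5686, 0, 16, 14700) .leaf))))) (5687, 0, 14, 55562) (.node (.node (.node (.node (.node .leaf (5692, 0, 18, 216273) .leaf) (5693, 0, 16, 73214) (.node .leaf (5694, 0, 15, 138484) .leaf)) (5695, 0, 17, 195730) (.node (.node .leaf (5696, 0, 17, 164391) .leaf) (5697, 0, 14, 239914) (.node .leaf (5698, 0, 13, 92757) .leaf))) (5699, 0, 16, 194831) (.node (.node (.node .leaf (5704, 0, 16, 157883) .leaf) (5705, 0, 16, 101554) (.node .leaf (5706, 0, 15, 98505) .leaf)) (5707, 0, 13, 56471) (.node (.node .leaf (5716, 0, 18, 67642) .leaf) (5717, 0, 15, 53986) (.node .leaf (5718, 0, 14, 22559) .leaf)))) (5719, 0, 15, 211600) (.node (.node (.node (.node .leaf (5724, 0, 15, 155984) .leaf) (5725, 0, 17, 14462) (.node .leaf (5726, 0, 17, 163207) .leaf)) (5727, 0, 17, 249868) (.node (.node .leaf (5732, 0, 17, 31642) .leaf) (5733, 0, 14, 252190) (.node .leaf (5734, 0, 16, 157762) .leaf))) (5735, 0, 18, 117721) (.node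 (.node (.node .leaf (5740, 0, 15, 155138) .leaf) (5741, 0, 18, 209794) (.node .leaf (5742, 0, 18, 200231) .leaf)) (5743, 0, 12, 257601) (.node (.node .leaf (5744, 0, 14, 146156) .leaf) (5745, 0, 14, 187018) (.node .leaf (5746, 0, 12, 156073) .leaf))))))

/-- part of the orbit tree -/
def itp0_84 : Tree := (.node (.node (.node (.node (.node (.node .leaf (5752, 0, 11, 90951) .leaf) (5753, 0, 19, 65298) (.node .leaf (5754, 0, 15, 85841) .leaf)) (5755, 0, 5, 110391) (.node (.node .leaf (5760, 0, 16, 177344) .leaf) (5761, 0, 15, 209898) (.node .leaf (5762, 0, 16, 164534) .leaf))) (5763, 0, 16, 56216) (.node (.node (.node .leaf (5768, 0, 16, 98392) .leaf) (5769, 0, 16, 252278) (.node .leaf (5770, 0, 14, 115069) .leaf)) (5771, 0, 15, 74011) (.node (.node .leaf (5780, 0, 17, 90927) .leaf) (5781, 0, 17, 211457) (.node .leaf (5782, 0, 17, 166749) .leaf)))) (5783, 0, 12, 83445) (.node (.node (.node (.node .leaf (5788, 0, 17, 184366) .leaf) (5789, 0, 15, 250013) (.node .leaf (5790, 0, 17, 229387) .leaf))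 (5791, 0, 12, 221293) (.node (.node .leaf (5796, 0, 16, 99862) .leaf) (5797, 0, 17, 91760) (.node .leaf (5798, 0, 11, 98465) .leaf))) (5799, 0, 18, 13909) (.node (.node (.node .leaf (5804, 0, 18, 238478) .leaf) (5805, 0, 13, 56161) (.node .leaf (5806, 0, 19, 92733) .leaf)) (5807, 0, 16, 136141) (.node (.node .leaf (5808, 0, 13, 247648) .leaf) (5809, 0, 16, 206598) (.node .leaf (5810, 0, 13, 169797) .leaf))))) (5811, 0, 17, 249956) (.node (.node (.node (.node (.node .leaf (5816, 0, 16, 123640) .leaf) (5817, 0, 12, 53898) (.node .leaf (5818, 0, 17, 45789) .leaf)) (5819, 0, 16, 21179) (.node (.node .leaf (5828, 0, 15, 216403) .leaf) (5829, 0, 10, 67331) (.node .leaf (5830, 0, 13, 42273) .leaf))) (5831, 0, 15, 22310) (.node (.node (.node .leaf (5836, 0, 15, 246525) .leaf) (5837, 0, 15, 205467) (.node .leaf (5838, 0, 17, 168664) .leaf)) (5839, 0, 17, 136851) (.node (.node .leaf (5840, 0, 16, 239123) .leaf) (5841, 0, 14, 214645) (.node .leaf (5842, 0, 14, 44234) .leaf)))) (5843, 0, 16, 136784) (.node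 (.node (.node (.node .leaf (5848, 0, 16, 99211) .leaf) (5849, 0, 15, 91117) (.node .leaf (5850, 0, 16, 54190) .leaf)) (5851, 0, 15, 139128) (.node (.node .leaf (5856, 0, 14, 20292) .leaf) (5857, 0, 15, 144853) (.node .leaf (5858, 0, 16, 230806) .leaf))) (5859, 0, 17, 130584) (.node (.node (.node .leaf (5864, 0, 18, 42456) .leaf) (5865, 0, 18, 195830) (.node .leaf (5866, 0, 14, 106510) .leaf)) (5867, 0, 15, 70788) (.node (.node .leaf (5876, 0, 18, 38085) .leaf) (5877, 0, 18, 139137) (.node .leaf (5878, 0, 18, 115936) .leaf))))))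

/-- part of the orbit tree -/
def itp0_85 : Tree := (.node (.node (.node (.node (.node (.node .leaf (5884, 0, 12, 44083) .leaf) (5885, 0, 15, 151867) (.node .leaf (5886, 0, 18, 214081) .leaf)) (5887, 0, 13, 196894) (.node (.node .leaf (5888, 0, 16, 146766) .leaf) (5889, 0, 17, 221656) (.node .leaf (5890, 0, 2, 184731) .leaf))) (5891, 0, 17, 143869) (.node (.node (.node .leaf (5896, 0, 16, 107558) .leaf) (5897, 0, 17, 36604) (.node .leaf (5898, 0, 18, 81824) .leaf)) (5899, 0, 18, 5221) (.node (.node .leaf (5908, 0, 17, 114888) .leaf) (5909, 0, 12, 73902) (.node .leaf (5910, 0, 17, 37101) .leaf)))) (5911, 0, 18, 28811) (.node (.node (.node (.node .leaf (5916, 0, 15, 255312) .leaf) (5917, 0, 18, 34583) (.node .leaf (5918, 0, 18, 177525) .leaf)) (5919, 0, 17, 152851) (.node (.node .leaf (5924, 0, 17, 81753) .leaf) (5925, 0, 16, 222839) (.node .leaf (5926, 0, 15, 186155) .leaf))) (5927, 0, 15, 36357) (.node (.node (.node .leaf (5932, 0, 16, 169712) .leaf) (5933, 0, 18, 232683) (.node .leaf (5934,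 0, 18, 146871) .leaf)) (5935, 0, 15, 25753) (.node (.node .leaf (5936, 0, 17, 79538) .leaf) (5937, 0, 16, 225180) (.node .leaf (5938, 0, 15, 238139) .leaf))))) (5939, 0, 16, 213597) (.node (.node (.node (.node (.node .leaf (5944, 0, 14, 121902) .leaf) (5945, 0, 12, 14304) (.node .leaf (5946, 0, 15, 144476) .leaf)) (5947, 0, 15, 92101) (.node (.node .leaf (5956, 0, 19, 53787) .leaf) (5957, 0, 15, 12925) (.node .leaf (5958, 0, 16, 98878) .leaf))) (5959, 0, 16, 90712) (.node (.node (.node .leaf (5964, 0, 16, 61509) .leaf) (5965, 0, 17, 174443) (.node .leaf (5966, 0, 17, 239526) .leaf)) (5967, 0, 18, 82201) (.node (.node .leaf (5968, 0, 15, 168813) .leaf) (5969, 0, 14, 150044) (.node .leaf (5970, 0, 15, 246600) .leaf)))) (5971, 0, 17, 205614) (.node (.node (.node (.node .leaf (5976, 0, 13, 46837) .leaf) (5977, 0, 13, 172160) (.node .leaf (5978, 0, 14, 201180) .leaf)) (5979, 0, 16, 67254) (.node (.node .leaf (5984, 0, 13, 254157) .leaf) (5985, 0, 12, 196779) (.node .leaf (5986, 0, 17, 61628) .leaf)))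 (5987, 0, 13, 174482) (.node (.node (.node .leaf (5992, 0, 16, 258642) .leaf) (5993, 0, 17, 109436) (.node .leaf (5994, 0, 16, 6688) .leaf)) (5995, 0, 15, 148238) (.node (.node .leaf (6004, 0, 16, 106939) .leaf) (6005, 0, 14, 82397) (.node .leaf (6006, 0, 18, 63831) .leaf))))))

/-- part of the orbit tree -/
def itp0_86 : Tree := (.node (.node (.node (.node (.node (.node .leaf (6012, 0, 16, 261049) .leaf) (6013, 0, 15, 222277) (.node .leaf (6014, 0, 17, 5067) .leaf)) (6015, 0, 15, 144480) (.node (.node .leaf (6020, 0, 14, 258618) .leaf) (6021, 0, 15, 118769) (.node .leaf (6022, 0, 13, 32690) .leaf))) (6023, 0, 13, 40916) (.node (.node (.node .leaf (6028, 0, 16, 199183) .leaf) (6029, 0, 13, 82312) (.node .leaf (6030, 0, 15, 61652) .leaf)) (6031, 0, 15, 174586) (.node (.node .leaf (6032, 0, 17, 261073) .leaf) (6033, 0, 16, 107263) (.node .leaf (6034, 0, 15, 147140) .leaf)))) (6035, 0, 15, 188066) (.node (.node (.node (.node .leaf (6040, 0, 15, 84857) .leaf) (6041, 0, 16, 84067) (.node .leaf (6042,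 0, 16, 7004) .leaf)) (6043, 0, 18, 172049) (.node (.node .leaf (6048, 0, 12, 61485) .leaf) (6049, 0, 16, 174339) (.node .leaf (6050, 0, 15, 216420) .leaf))) (6051, 0, 17, 82289) (.node (.node (.node .leaf (6056, 0, 16, 14553) .leaf) (6057, 0, 13, 55487) (.node .leaf (6058, 0, 15, 258755) .leaf)) (6059, 0, 16, 100506) (.node (.node .leaf (6068, 0, 15, 63942) .leaf) (6069, 0, 14, 48209) (.node .leaf (6070, 0, 17, 201140) .leaf))))) (6071, 0, 18, 84122) (.node (.node (.node (.node (.node .leaf (6076, 0, 15, 4954) .leaf) (6077, 0, 17, 170441) (.node .leaf (6078, 0, 18, 207242) .leaf)) (6079, 0, 16, 107014) (.node (.node .leaf (6080, 0, 14, 162866) .leaf) (6081, 0, 17, 171092) (.node .leaf (6082, 0, 18, 207895) .leaf))) (6083, 0, 16, 248945) (.node (.node (.node .leaf (6088, 0, 15, 22954) .leaf) (6089, 0, 16, 222751) (.node .leaf (6090, 0, 16, 67983) .leaf)) (6091, 0, 14, 125417) (.node (.node .leaf (6100, 0, 15, 15684) .leaf) (6101, 0, 14, 230760) (.node .leaf (6102, 0, 16, 93537) .leaf)))) (6103,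 0, 15, 27930) (.node (.node (.node (.node .leaf (6108, 0, 16, 79578) .leaf) (6109, 0, 13, 194746) (.node .leaf (6110, 0, 12, 215289) .leaf)) (6111, 0, 16, 239775) (.node (.node .leaf (6116, 0, 15, 85732) .leaf) (6117, 0, 15, 110210) (.node .leaf (6118, 0, 13, 7873) .leaf))) (6119, 0, 14, 65191) (.node (.node (.node .leaf (6124, 0, 18, 146726) .leaf) (6125, 0, 15, 25608) (.node .leaf (6126, 0, 13, 146265) .leaf)) (6127, 0, 18, 232570) (.node (.node .leaf (6128, 0, 18, 200594) .leaf) (6129, 0, 16, 34687) .leaf)))))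

/-- part of the orbit tree -/
def itp0_87 : Tree := (.node itp0_83 (5747, 0, 17, 232111) itp0_84)

/-- part of the orbit tree -/
def itp0_88 : Tree := (.node itp0_85 (6007, 0, 14, 172153) itp0_86)

/-- part of the orbit tree -/
def itp0_89 : Tree := (.node itp0_81 (5367, 0, 17, 127711) itp0_82)

/-- part of the orbit tree -/
def itp0_90 : Tree := (.node itp0_87 (5879, 0, 15, 129011) itp0_88)

/-- part of the orbit tree -/
def itp0_91 : Tree := (.node itp0_75 (4600, 0, 15, 80917) itp0_76)

/-- part of the orbit tree -/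
def itp0_92 : Tree := (.node itp0_89 (5622, 0, 16, 216082) itp0_90)

/-- part of the orbit tree -/
def itp0_93 : Tree := (.node (.node (.node (.node (.node (.node .leaf (6131, 0, 16, 180177) .leaf) (6136, 0, 17, 144589) (.node .leaf (6137, 0, 17, 117356) .leaf)) (6138, 0, 16, 31279) (.node (.node .leaf (6139, 0, 17, 230801) .leaf) (6144, 0, 17, 104266) (.node .leaf (6147, 0, 17, 187213) .leaf))) (6148, 0, 14, 256087) (.node (.node (.node .leaf (6151, 0, 18, 189038) .leaf) (6152, 0, 15, 85654) (.node .leaf (6155, 0, 16, 65237) .leaf)) (6156, 0, 19, 197323) (.node (.node .leaf (6159, 0, 15, 177047) .leaf) (6161, 0, 17, 112786) (.node .leaf (6162, 0, 16, 17278) .leaf)))) (6165, 0, 17, 247695) (.node (.node (.node (.node .leaf (6166, 0, 16, 31325) .leaf) (6169, 0, 17, 251557) (.node .leaf (6170, 0, 18, 157414) .leaf)) (6173, 0, 17, 208147) (.node (.node .leaf (6174, 0, 15, 171087) .leaf) (6177, 0, 15, 177006) (.node .leaf (6178, 0, 14, 78046) .leaf))) (6181, 0, 16, 47550) (.node (.node (.node .leaf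 (6182, 0, 16, 97583) .leaf) (6185, 0, 14, 173317) (.node .leaf (6186, 0, 14, 256174) .leaf)) (6189, 0, 15, 9967) (.node (.node .leaf (6190, 0, 16, 207973) .leaf) (6192, 0, 15, 171190) (.node .leaf (6195, 0, 18, 239853) .leaf))))) (6196, 0, 16, 58283) (.node (.node (.node (.node (.node .leaf (6199, 0, 17, 86775) .leaf) (6200, 0, 14, 161322) (.node .leaf (6203, 0, 17, 247670) .leaf)) (6204, 0, 15, 1045) (.node (.node .leaf (6207, 0, 14, 112747) .leaf) (6209, 0, 18, 235246) (.node .leaf (6210, 0, 18, 86445) .leaf))) (6213, 0, 16, 125427) (.node (.node (.node .leaf (6214, 0, 16, 92302) .leaf) (6217, 0, 16, 181366) (.node .leaf (6218, 0, 15, 226357) .leaf)) (6221, 0, 17, 195925) (.node (.node .leaf (6222, 0, 17, 216342) .leaf) (6224, 0, 17, 244022) (.node .leaf (6227, 0, 16, 248222) .leaf)))) (6228, 0, 15, 116267) (.node (.node (.node (.node .leaf (6231, 0, 15, 258237) .leaf) (6232, 0, 17, 218026) (.node .leaf (6235, 0, 17, 189174) .leaf)) (6236, 0, 16, 76983) (.node (.node .leaf (6239, 0, 19, 40427)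 .leaf) (6240, 0, 16, 199293) (.node .leaf (6243, 0, 15, 178750) .leaf))) (6244, 0, 17, 209758) (.node (.node (.node .leaf (6247, 0, 16, 164637) .leaf) (6248, 0, 15, 22614) (.node .leaf (6251, 0, 17, 40870) .leaf)) (6252, 0, 17, 141131) (.node (.node .leaf (6255, 0, 15, 235031) .leaf) (6257, 0, 16, 40210) (.node .leaf (6258, 0, 18, 8717) .leaf))))))

/-- part of the orbit tree -/
def itp0_94 : Tree := (.node (.node (.node (.node (.node (.node .leaf (6262, 0, 18, 6958) .leaf) (6265, 0, 17, 243670) (.node .leaf (6266, 0, 13, 116434) .leaf)) (6269, 0, 15, 133267) (.node (.node .leaf (6270, 0, 18, 147126) .leaf) (6273, 0, 16, 32269) (.node .leaf (6274, 0, 12, 44065) .leaf))) (6277, 0, 14, 131344) (.node (.node (.node .leaf (6278, 0, 14, 38146) .leaf) (6281, 0, 15, 38033) (.node .leaf (6282, 0, 12, 166329) .leaf)) (6285, 0, 16, 196825) (.node (.node .leaf (6286, 0, 16, 176282) .leaf) (6288, 0, 17, 20949) (.node .leaf (6291, 0, 16, 144402) .leaf)))) (6292, 0, 17, 245106) (.node (.node (.node (.node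 .leaf (6295, 0, 16, 134449) .leaf) (6296, 0, 16, 47945) (.node .leaf (6299, 0, 15, 4490) .leaf)) (6300, 0, 16, 181332) (.node (.node .leaf (6303, 0, 18, 10409) .leaf) (6304, 0, 16, 194545) (.node .leaf (6307, 0, 16, 214962) .leaf))) (6308, 0, 15, 75060) (.node (.node (.node .leaf (6311, 0, 17, 229009) .leaf) (6312, 0, 13, 53865) (.node .leaf (6315, 0, 16, 90666) .leaf)) (6316, 0, 16, 60234) (.node (.node .leaf (6319, 0, 16, 32500) .leaf) (6321, 0, 16, 226801) (.node .leaf (6322, 0, 15, 181421) .leaf))))) (6325, 0, 16, 68332) (.node (.node (.node (.node (.node .leaf (6326, 0, 18, 48048) .leaf) (6329, 0, 17, 150106) (.node .leaf (6330, 0, 17, 260633) .leaf)) (6333, 0, 18, 122992) (.node (.node .leaf (6334, 0, 16, 20780) .leaf) (6336, 0, 15, 163753) (.node .leaf (6339, 0, 15, 206529) .leaf))) (6340, 0, 16, 180) (.node (.node (.node .leaf (6343, 0, 16, 204770) .leaf) (6344, 0, 17, 169269) (.node .leaf (6347, 0, 16, 66393) .leaf)) (6348, 0, 15, 59944) (.node (.node .leaf (6351, 0, 15, 80506) .leaf)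 (6353, 0, 17, 151665) (.node .leaf (6354, 0, 16, 254253) .leaf)))) (6357, 0, 16, 12140) (.node (.node (.node (.node .leaf (6358, 0, 15, 100305) .leaf) (6361, 0, 18, 178925) (.node .leaf (6362, 0, 10, 236394) .leaf)) (6365, 0, 16, 135690) (.node (.node .leaf (6366, 0, 17, 95404) .leaf) (6369, 0, 18, 88973) (.node .leaf (6370, 0, 18, 60113) .leaf))) (6373, 0, 17, 82994) (.node (.node (.node .leaf (6374, 0, 17, 62577) .leaf) (6377, 0, 17, 219273) (.node .leaf (6378, 0, 15, 190666) .leaf)) (6381, 0, 14, 249356) (.node (.node .leaf (6382, 0, 14, 163664) .leaf) (6384, 0, 18, 95317) (.node .leaf (6387, 0, 16, 50441) .leaf))))))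

/-- part of the orbit tree -/
def itp0_95 : Tree := (.node (.node (.node (.node (.node (.node .leaf (6391, 0, 17, 178708) .leaf) (6392, 0, 18, 106185) (.node .leaf (6395, 0, 14, 12181) .leaf)) (6396, 0, 16, 129433) (.node (.node .leaf (6399, 0, 16, 151688) .leaf) (6401, 0, 17, 10524) (.node .leaf (6402, 0, 16, 104799) .leaf))) (6405, 0, 15, 4159) (.node (.node (.node .leaf (6406, 0, 15, 106620) .leaf) (6409, 0, 17, 246555) (.node .leaf (6410, 0, 15, 160327) .leaf)) (6413, 0, 18, 113670) (.node (.node .leaf (6414, 0, 16, 3418) .leaf) (6416, 0, 12, 198239) (.node .leaf (6419, 0, 12, 196972) .leaf)))) (6420, 0, 16, 96578) (.node (.node (.node (.node .leaf (6423, 0, 18, 51230) .leaf) (6424, 0, 16, 257219) (.node .leaf (6427, 0, 16, 74996) .leaf)) (6428, 0, 16, 103390) (.node (.node .leaf (6431, 0, 18, 73175) .leaf) (6432, 0, 16, 246415) (.node .leaf (6435, 0, 13, 160460) .leaf))) (6436, 0, 17, 261036) (.node (.node (.node .leaf (6439, 0, 15, 150511) .leaf) (6440, 0, 16, 59199) (.node .leaf (6443,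 0, 17, 87651) .leaf)) (6444, 0, 14, 122420) (.node (.node .leaf (6447, 0, 17, 28279) .leaf) (6449, 0, 16, 88764) (.node .leaf (6450, 0, 15, 103207) .leaf))))) (6453, 0, 13, 91039) (.node (.node (.node (.node (.node .leaf (6454, 0, 15, 54236) .leaf) (6457, 0, 18, 229156) (.node .leaf (6458, 0, 17, 96699) .leaf)) (6461, 0, 17, 178170) (.node (.node .leaf (6462, 0, 17, 198310) .leaf) (6464, 0, 14, 238588) (.node .leaf (6467, 0, 14, 39295) .leaf))) (6468, 0, 17, 218942) (.node (.node (.node .leaf (6471, 0, 16, 190050) .leaf) (6472, 0, 17, 115391) (.node .leaf (6475, 0, 15, 13863) .leaf)) (6476, 0, 16, 245154) (.node (.node .leaf (6479, 0, 18, 3844) .leaf) (6481, 0, 13, 67579) (.node .leaf (6482, 0, 16, 46759) .leaf)))) (6485, 0, 17, 66284) (.node (.node (.node (.node .leaf (6486, 0, 14, 45743) .leaf) (6489, 0, 16, 204375) (.node .leaf (6490, 0, 17, 175636) .leaf)) (6493, 0, 17, 206708) (.node (.node .leaf (6494, 0, 18, 140070) .leaf) (6497, 0, 17, 18543) (.node .leaf (6498, 0, 17, 129068) .leaf)))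 (6501, 0, 17, 29466) (.node (.node (.node .leaf (6502, 0, 12, 115270) .leaf) (6505, 0, 16, 159223) (.node .leaf (6506, 0, 18, 253364) .leaf)) (6509, 0, 14, 39302) (.node (.node .leaf (6510, 0, 12, 75994) .leaf) (6512, 0, 16, 184412) (.node .leaf (6515, 0, 16, 221215) .leaf))))))

/-- part of the orbit tree -/
def itp0_96 : Tree := (.node (.node (.node (.node (.node (.node .leaf (6519, 0, 15, 126366) .leaf) (6520, 0, 16, 62916) (.node .leaf (6523, 0, 16, 83335) .leaf)) (6524, 0, 13, 46686) (.node (.node .leaf (6527, 0, 16, 67330) .leaf) (6528, 0, 16, 180416) (.node .leaf (6531, 0, 15, 225692) .leaf))) (6532, 0, 16, 157523) (.node (.node (.node .leaf (6535, 0, 15, 251664) .leaf) (6536, 0, 17, 31720) (.node .leaf (6539, 0, 17, 117675) .leaf)) (6540, 0, 16, 21825) (.node (.node .leaf (6543, 0, 17, 127624) .leaf) (6545, 0, 16, 50755) (.node .leaf (6546, 0, 15, 95744) .leaf)))) (6549, 0, 11, 65376) (.node (.node (.node (.node .leaf (6550, 0, 12, 74073) .leaf) (6553, 0, 16, 189403) (.node .leaf (6554,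 0, 14, 218008) .leaf)) (6557, 0, 15, 31385) (.node (.node .leaf (6558, 0, 14, 223931) .leaf) (6561, 0, 16, 112099) (.node .leaf (6562, 0, 17, 1440) .leaf))) (6565, 0, 14, 101568) (.node (.node (.node .leaf (6566, 0, 15, 15491) .leaf) (6569, 0, 16, 69240) (.node .leaf (6570, 0, 15, 48932) .leaf)) (6573, 0, 17, 239960) (.node (.node .leaf (6574, 0, 17, 180281) .leaf) (6576, 0, 18, 208336) (.node .leaf (6579, 0, 17, 171411) .leaf))))) (6580, 0, 17, 201971) (.node (.node (.node (.node (.node .leaf (6583, 0, 17, 173232) .leaf) (6584, 0, 16, 67656) (.node .leaf (6587, 0, 18, 37116) .leaf)) (6588, 0, 14, 78187) (.node (.node .leaf (6591, 0, 15, 33064) .leaf) (6593, 0, 18, 49508) (.node .leaf (6594, 0, 18, 94264) .leaf))) (6597, 0, 13, 179833) (.node (.node (.node .leaf (6598, 0, 18, 200485) .leaf) (6601, 0, 14, 11256) (.node .leaf (6602, 0, 16, 105124) .leaf)) (6605, 0, 16, 247851) (.node (.node .leaf (6606, 0, 13, 161896) .leaf) (6608, 0, 17, 61116) (.node .leaf (6611, 0, 15, 195808) .leaf)))) (6612,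 0, 17, 226688) (.node (.node (.node (.node .leaf (6615, 0, 14, 205053) .leaf) (6616, 0, 17, 1056) (.node .leaf (6619, 0, 12, 55672) .leaf)) (6620, 0, 14, 162621) (.node (.node .leaf (6623, 0, 16, 57435) .leaf) (6624, 0, 15, 147203) (.node .leaf (6627, 0, 18, 152604) .leaf))) (6628, 0, 14, 105053) (.node (.node (.node .leaf (6631, 0, 17, 11009) .leaf) (6632, 0, 17, 6811) (.node .leaf (6635, 0, 14, 109272) .leaf)) (6636, 0, 16, 9144) (.node (.node .leaf (6639, 0, 12, 103419) .leaf) (6641, 0, 16, 248472) (.node .leaf (6642, 0, 17, 162756) .leaf))))))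

/-- part of the orbit tree -/
def itp0_97 : Tree := (.node itp0_93 (6261, 0, 18, 109421) itp0_94)

/-- part of the orbit tree -/
def itp0_98 : Tree := (.node itp0_95 (6516, 0, 18, 23746) itp0_96)

/-- part of the orbit tree -/
def itp0_99 : Tree := (.node (.node (.node (.node (.node (.node .leaf (6646, 0, 18, 1241) .leaf) (6649, 0, 15, 204804) (.node .leaf (6650, 0, 17, 209643) .leaf)) (6653, 0, 18, 89881) (.node (.node .leaf (6654, 0, 18, 199624) .leaf) (6658, 0, 17, 137051) (.node .leaf (6659, 0, 17, 194365) .leaf))) (6662, 0, 16, 1289) (.node (.node (.node .leaf (6663, 0, 13, 154663) .leaf) (6666, 0, 14, 12995) (.node .leaf (6667, 0, 16, 51622) .leaf)) (6670, 0, 7, 61333) (.node (.node .leaf (6671, 0, 12, 177851) .leaf) (6672, 0, 17, 255120) (.node .leaf (6673, 0, 18, 114110) .leaf)))) (6676, 0, 17, 105357) (.node (.node (.node (.node .leaf (6677, 0, 13, 124526) .leaf) (6680, 0, 16, 203443) (.node .leaf (6681, 0, 18, 87842) .leaf)) (6684, 0, 14, 205712) (.node (.node .leaf (6685, 0, 17,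 206911) .leaf) (6688, 0, 15, 61292) (.node .leaf (6689, 0, 16, 44269) .leaf))) (6692, 0, 16, 168049) (.node (.node (.node .leaf (6693, 0, 17, 38350) .leaf) (6696, 0, 15, 157971) (.node .leaf (6697, 0, 16, 166261) .leaf)) (6700, 0, 17, 162541) (.node (.node .leaf (6701, 0, 18, 9155) .leaf) (6706, 0, 17, 94696) (.node .leaf (6707, 0, 13, 230557) .leaf))))) (6710, 0, 14, 220632) (.node (.node (.node (.node (.node .leaf (6711, 0, 17, 88027) .leaf) (6714, 0, 15, 105332) (.node .leaf (6715, 0, 13, 246362) .leaf)) (6718, 0, 17, 255081) (.node (.node .leaf (6719, 0, 17, 113991) .leaf) (6720, 0, 17, 117484) (.node .leaf (6721, 0, 12, 52638) .leaf))) (6724, 0, 8, 5339) (.node (.node (.node .leaf (6725, 0, 17, 62653) .leaf) (6728, 0, 15, 73840) (.node .leaf (6729, 0, 15, 190470) .leaf)) (6732, 0, 18, 221037) (.node (.node .leaf (6733, 0, 13, 67139) .leaf) (6738, 0, 14, 198024) (.node .leaf (6739, 0, 15, 255470) .leaf)))) (6742, 0, 10, 212139) (.node (.node (.node (.node .leaf (6743, 0, 14, 253133) .leaf)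 (6746, 0, 17, 48884) (.node .leaf (6747, 0, 16, 114806) .leaf)) (6750, 0, 16, 71987) (.node (.node .leaf (6751, 0, 15, 129365) .leaf) (6754, 0, 17, 161320) (.node .leaf (6755, 0, 17, 67258) .leaf))) (6758, 0, 14, 73865) (.node (.node (.node .leaf (6759, 0, 17, 227751) .leaf) (6762, 0, 16, 242952) (.node .leaf (6763, 0, 18, 125990) .leaf)) (6766, 0, 15, 117269) (.node (.node .leaf (6767, 0, 14, 35573) .leaf) (6768, 0, 16, 180496) (.node .leaf (6769, 0, 17, 38974) .leaf))))))

/-- part of the orbit tree -/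
def itp0_100 : Tree := (.node (.node (.node (.node (.node (.node .leaf (6773, 0, 15, 190243) .leaf) (6776, 0, 17, 228288) (.node .leaf (6777, 0, 16, 236454) .leaf)) (6780, 0, 18, 213731) (.node (.node .leaf (6781, 0, 16, 238213) .leaf) (6784, 0, 15, 118900) (.node .leaf (6785, 0, 14, 31521) .leaf))) (6788, 0, 16, 23826) (.node (.node (.node .leaf (6789, 0, 18, 67889) .leaf) (6792, 0, 15, 259564) (.node .leaf (6793, 0, 17, 37309) .leaf)) (6796, 0, 16, 249039) (.node (.node .leaf (6797, 0, 17, 208041) .leaf) (6802, 0, 15, 194564) (.node .leaf (6803, 0, 17, 137314) .leaf)))) (6806, 0, 15, 115606) (.node (.node (.node (.node .leaf (6807, 0, 14, 139585) .leaf) (6810, 0, 18, 218647) (.node .leaf (6811, 0, 16, 69433) .leaf)) (6814, 0, 17, 58559) (.node (.node .leaf (6815, 0, 18, 1241) .leaf) (6818, 0, 18, 46967) (.node .leaf (6819, 0, 15, 224194) .leaf))) (6822, 0, 17, 182378) (.node (.node (.node .leaf (6823, 0, 19, 217825) .leaf) (6826, 0, 16, 24043) (.node .leaf (6827, 0, 14, 85594) .leaf)) (6830,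 0, 16, 140022) (.node (.node .leaf (6831, 0, 15, 31704) .leaf) (6832, 0, 14, 76275) (.node .leaf (6833, 0, 18, 17330) .leaf))))) (6836, 0, 17, 39671) (.node (.node (.node (.node (.node .leaf (6837, 0, 17, 69568) .leaf) (6840, 0, 17, 115567) (.node .leaf (6841, 0, 17, 157226) .leaf)) (6844, 0, 13, 244850) (.node (.node .leaf (6845, 0, 16, 124252) .leaf) (6850, 0, 18, 103159) (.node .leaf (6851, 0, 16, 199345) .leaf))) (6854, 0, 19, 250868) (.node (.node (.node .leaf (6855, 0, 16, 111812) .leaf) (6858, 0, 17, 118607) (.node .leaf (6859, 0, 17, 205125) .leaf)) (6862, 0, 15, 128620) (.node (.node .leaf (6863, 0, 19, 89688) .leaf) (6864, 0, 18, 49831) (.node .leaf (6865, 0, 13, 8897) .leaf)))) (6868, 0, 13, 160622) (.node (.node (.node (.node .leaf (6869, 0, 16, 7138) .leaf) (6872, 0, 15, 59119) (.node .leaf (6873, 0, 18, 132953) .leaf)) (6876, 0, 15, 187932) (.node (.node .leaf (6877, 0, 17, 147066) .leaf) (6880, 0, 15, 110855) (.node .leaf (6881, 0, 17, 86369) .leaf))) (6884, 0, 13, 96402) (.node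 (.node (.node .leaf (6885, 0, 13, 205244) .leaf) (6888, 0, 15, 234655) (.node .leaf (6889, 0, 16, 111677) .leaf)) (6892, 0, 12, 102926) (.node (.node .leaf (6893, 0, 15, 248608) .leaf) (6898, 0, 16, 170251) (.node .leaf (6899, 0, 13, 49189) .leaf))))))

/-- part of the orbit tree -/
def itp0_101 : Tree := (.node (.node (.node (.node (.node (.node .leaf (6903, 0, 13, 147506) .leaf) (6906, 0, 16, 160663) (.node .leaf (6907, 0, 12, 23689) .leaf)) (6910, 0, 14, 3210) (.node (.node .leaf (6911, 0, 15, 26026) .leaf) (6912, 0, 17, 95621) (.node .leaf (6913, 0, 18, 208043) .leaf))) (6916, 0, 13, 56361) (.node (.node (.node .leaf (6917, 0, 16, 86966) .leaf) (6920, 0, 16, 180370) (.node .leaf (6921, 0, 14, 139508) .leaf)) (6924, 0, 16, 194993) (.node (.node .leaf (6925, 0, 17, 137687) .leaf) (6930, 0, 17, 60161) (.node .leaf (6931, 0, 19, 176687) .leaf)))) (6934, 0, 17, 168988) (.node (.node (.node (.node .leaf (6935, 0, 14, 52530) .leaf) (6938, 0, 15, 413) (.node .leaf (6939, 0, 16, 153779) .leaf))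 (6942, 0, 17, 119233) (.node (.node .leaf (6943, 0, 15, 10158) .leaf) (6946, 0, 17, 254205) (.node .leaf (6947, 0, 17, 113107) .leaf))) (6950, 0, 17, 165881) (.node (.node (.node .leaf (6951, 0, 14, 247502) .leaf) (6954, 0, 14, 199265) (.node .leaf (6955, 0, 17, 86863) .leaf)) (6958, 0, 17, 41569) (.node (.node .leaf (6959, 0, 15, 207954) .leaf) (6960, 0, 18, 163449) (.node .leaf (6961, 0, 11, 10071) .leaf))))) (6964, 0, 15, 110473) (.node (.node (.node (.node (.node .leaf (6965, 0, 16, 153674) .leaf) (6968, 0, 13, 169189) (.node .leaf (6969, 0, 15, 52683) .leaf)) (6972, 0, 18, 231953) (.node (.node .leaf (6973, 0, 14, 223863) .leaf) (6978, 0, 17, 181629) (.node .leaf (6979, 0, 16, 40019) .leaf))) (6982, 0, 16, 47712) (.node (.node (.node .leaf (6983, 0, 17, 189262) .leaf) (6986, 0, 18, 64049) (.node .leaf (6987, 0, 15, 6743) .leaf)) (6990, 0, 17, 20732) (.node (.node .leaf (6991, 0, 14, 9076) .leaf) (6992, 0, 14, 220153) (.node .leaf (6993, 0, 15, 71615) .leaf)))) (6996, 0, 15, 74980) (.node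 (.node (.node (.node .leaf (6997, 0, 16, 77468) .leaf) (7000, 0, 14, 242021) (.node .leaf (7001, 0, 15, 209447) .leaf)) (7004, 0, 15, 118392) (.node (.node .leaf (7005, 0, 18, 235350) .leaf) (7008, 0, 13, 20485) (.node .leaf (7009, 0, 16, 25631) .leaf))) (7012, 0, 16, 48474) (.node (.node (.node .leaf (7013, 0, 16, 23868) .leaf) (7016, 0, 14, 172513) (.node .leaf (7017, 0, 17, 147847) .leaf)) (7020, 0, 16, 181636) (.node (.node .leaf (7021, 0, 15, 40106) .leaf) (7026, 0, 17, 240649) (.node .leaf (7027, 0, 11, 235439) .leaf))))))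

/-- part of the orbit tree -/
def itp0_102 : Tree := (.node (.node (.node (.node (.node (.node .leaf (7031, 0, 18, 125106) .leaf) (7034, 0, 14, 100753) (.node .leaf (7035, 0, 16, 228659) .leaf)) (7038, 0, 17, 219904) (.node (.node .leaf (7039, 0, 16, 86228) .leaf) (7042, 0, 18, 205349) (.node .leaf (7043, 0, 16, 226480) .leaf))) (7046, 0, 17, 217731) (.node (.node (.node .leaf (7047, 0, 16, 68525) .leaf) (7050, 0, 17, 67517) (.node .leaf (7051, 0, 16, 237100) .leaf)) (7054, 0, 16, 243743) (.node (.node .leaf (7055, 0, 16, 123185) .leaf) (7056, 0, 18, 2645) (.node .leaf (7057, 0, 18, 59955) .leaf)))) (7060, 0, 15, 13174) (.node (.node (.node (.node .leaf (7061, 0, 8, 38185) .leaf) (7064, 0, 10, 143309) (.node .leaf (7065, 0, 17, 184235) .leaf)) (7068, 0, 16, 136942) (.node (.node .leaf (7069, 0, 17, 32693) .leaf) (7072, 0, 13, 243942) (.node .leaf (7073, 0, 12, 123336) .leaf))) (7076, 0, 17, 116731) (.node (.node (.node .leaf (7077, 0, 17, 106672) .leaf) (7080, 0, 17, 220269) (.node .leaf (7081,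 0, 16, 68436) .leaf)) (7084, 0, 17, 222542) (.node (.node .leaf (7085, 0, 12, 226377) .leaf) (7090, 0, 16, 140898) (.node .leaf (7091, 0, 11, 32588) .leaf))))) (7094, 0, 16, 157862) (.node (.node (.node (.node (.node .leaf (7095, 0, 14, 166080) .leaf) (7098, 0, 17, 183550) (.node .leaf (7099, 0, 18, 38011) .leaf)) (7102, 0, 14, 46051) (.node (.node .leaf (7103, 0, 15, 191181) .leaf) (7104, 0, 16, 171366) (.node .leaf (7105, 0, 17, 50248) .leaf))) (7108, 0, 17, 57979) (.node (.node (.node .leaf (7109, 0, 17, 115139) .leaf) (7112, 0, 18, 161786) (.node .leaf (7113, 0, 18, 253304) .leaf)) (7116, 0, 16, 197693) (.node (.node .leaf (7117, 0, 18, 255067) .leaf) (7122, 0, 16, 197602) (.node .leaf (7123, 0, 17, 88780) .leaf)))) (7126, 0, 14, 97535) (.node (.node (.node (.node .leaf (7127, 0, 15, 190899) .leaf) (7130, 0, 16, 256382) (.node .leaf (7131, 0, 15, 110672) .leaf)) (7134, 0, 17, 11341) (.node (.node .leaf (7135, 0, 19, 52267) .leaf) (7138, 0, 15, 213846) (.node .leaf (7139, 0, 17, 238384)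 .leaf))) (7142, 0, 11, 161539) (.node (.node (.node .leaf (7143, 0, 17, 236051) .leaf) (7146, 0, 16, 57986) (.node .leaf (7147, 0, 18, 179116) .leaf)) (7150, 0, 14, 90093) (.node (.node .leaf (7151, 0, 17, 114571) .leaf) (7152, 0, 16, 27430) .leaf)))))

/-- part of the orbit tree -/
def itp0_103 : Tree := (.node itp0_99 (6772, 0, 18, 92027) itp0_100)

/-- part of the orbit tree -/
def itp0_104 : Tree := (.node itp0_101 (7030, 0, 17, 242076) itp0_102)

/-- part of the orbit tree -/
def itp0_105 : Tree := (.node itp0_97 (6388, 0, 16, 252929) itp0_98)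

/-- part of the orbit tree -/
def itp0_106 : Tree := (.node itp0_103 (6902, 0, 17, 172116) itp0_104)

/-- part of the orbit tree -/
def itp0_107 : Tree := (.node (.node (.node (.node (.node (.node .leaf (7156, 0, 14, 256391) .leaf) (7157, 0, 16, 45667) (.node .leaf (7160, 0, 17, 151230) .leaf)) (7161, 0, 17, 175832) (.node (.node .leaf (7164, 0, 17, 161693) .leaf) (7165, 0, 16, 88629) (.node .leaf (7169, 0, 15, 168384) .leaf))) (7171, 0, 18, 207842) (.node (.node (.node .leaf (7173, 0, 14, 174307) .leaf) (7175, 0, 7, 87295) (.node .leaf (7177, 0, 13, 10508) .leaf)) (7179, 0, 16, 246142) (.node (.node .leaf (7181, 0, 16, 153105) .leaf) (7183, 0, 16, 114275) (.node .leaf (7184, 0, 16, 2547) .leaf)))) (7186, 0, 17, 197690) (.node (.node (.node (.node .leaf (7188, 0, 17, 12496) .leaf) (7190, 0, 17, 97063) (.node .leaf (7192, 0, 17, 142443) .leaf)) (7194, 0, 13, 257702) (.node (.node .leaf (7196, 0, 16, 162249) .leaf) (7198, 0, 16, 102843) (.node .leaf (7200, 0, 16, 96851) .leaf))) (7202, 0, 16,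 10870) (.node (.node (.node .leaf (7204, 0, 16, 82800) .leaf) (7206, 0, 15, 159963) (.node .leaf (7208, 0, 18, 199976) .leaf)) (7210, 0, 16, 58714) (.node (.node .leaf (7212, 0, 18, 94773) .leaf) (7214, 0, 17, 145101) (.node .leaf (7217, 0, 15, 247916) .leaf))))) (7219, 0, 11, 8222) (.node (.node (.node (.node (.node .leaf (7221, 0, 16, 112497) .leaf) (7223, 0, 12, 166758) (.node .leaf (7225, 0, 17, 205552) .leaf)) (7227, 0, 12, 38877) (.node (.node .leaf (7229, 0, 17, 130779) .leaf) (7231, 0, 15, 44798) (.node .leaf (7232, 0, 14, 180788) .leaf))) (7234, 0, 15, 19205) (.node (.node (.node .leaf (7236, 0, 17, 74243) .leaf) (7238, 0, 16, 218459) (.node .leaf (7240, 0, 17, 141480) .leaf)) (7242, 0, 17, 114906) (.node (.node .leaf (7244, 0, 18, 22453) .leaf) (7246, 0, 15, 153534) (.node .leaf (7249, 0, 16, 230163) .leaf)))) (7251, 0, 17, 66974) (.node (.node (.node (.node .leaf (7253, 0, 18, 244272) .leaf) (7255, 0, 16, 190997) (.node .leaf (7257, 0, 17, 132976) .leaf)) (7259, 0, 17, 126722) (.node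 (.node .leaf (7261, 0, 15, 106408) .leaf) (7263, 0, 18, 233503) (.node .leaf (7265, 0, 14, 124432) .leaf))) (7267, 0, 18, 237718) (.node (.node (.node .leaf (7269, 0, 7, 235789) .leaf) (7271, 0, 15, 235957) (.node .leaf (7273, 0, 14, 54571) .leaf)) (7275, 0, 15, 99598) (.node (.node .leaf (7277, 0, 15, 226193) .leaf) (7279, 0, 13, 39907) (.node .leaf (7280, 0, 15, 26752) .leaf))))))

/-- part of the orbit tree -/
def itp0_108 : Tree := (.node (.node (.node (.node (.node (.node .leaf (7284, 0, 17, 243413) .leaf) (7286, 0, 12, 65926) (.node .leaf (7288, 0, 17, 74580) .leaf)) (7290, 0, 15, 204093) (.node (.node .leaf (7292, 0, 17, 160827) .leaf) (7294, 0, 14, 46139) (.node .leaf (7296, 0, 13, 76503) .leaf))) (7298, 0, 18, 180901) (.node (.node (.node .leaf (7300, 0, 14, 218570) .leaf) (7302, 0, 16, 102314) (.node .leaf (7304, 0, 16, 114763) .leaf)) (7306, 0, 17, 141369) (.node (.node .leaf (7308, 0, 15, 195095) .leaf) (7310, 0, 14, 22308) (.node .leaf (7313, 0, 17, 163487) .leaf)))) (7315, 0,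 18, 208570) (.node (.node (.node (.node .leaf (7317, 0, 12, 149436) .leaf) (7319, 0, 16, 37472) (.node .leaf (7321, 0, 16, 23303) .leaf)) (7323, 0, 17, 68386) (.node (.node .leaf (7325, 0, 15, 233614) .leaf) (7327, 0, 11, 78337) (.node .leaf (7329, 0, 14, 134899) .leaf))) (7331, 0, 17, 154906) (.node (.node (.node .leaf (7333, 0, 16, 209948) .leaf) (7335, 0, 12, 235932) (.node .leaf (7337, 0, 15, 189551) .leaf)) (7339, 0, 18, 30850) (.node (.node .leaf (7341, 0, 18, 70020) .leaf) (7343, 0, 16, 16801) (.node .leaf (7344, 0, 16, 139563) .leaf))))) (7346, 0, 18, 50473) (.node (.node (.node (.node (.node .leaf (7348, 0, 15, 24118) .leaf) (7350, 0, 18, 243268) (.node .leaf (7352, 0, 12, 241812) .leaf)) (7354, 0, 17, 188593) (.node (.node .leaf (7356, 0, 17, 231863) .leaf) (7358, 0, 14, 220376) (.node .leaf (7361, 0, 17, 224332) .leaf))) (7363, 0, 13, 146537) (.node (.node (.node .leaf (7365, 0, 14, 87150) .leaf) (7367, 0, 12, 179228) (.node .leaf (7369, 0, 15, 246255) .leaf)) (7371, 0, 16, 10653)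 (.node (.node .leaf (7373, 0, 13, 94455) .leaf) (7375, 0, 17, 8402) (.node .leaf (7376, 0, 17, 197803) .leaf)))) (7378, 0, 16, 42074) (.node (.node (.node (.node .leaf (7380, 0, 17, 118108) .leaf) (7382, 0, 12, 168900) (.node .leaf (7384, 0, 16, 257591) .leaf)) (7386, 0, 17, 1605) (.node (.node .leaf (7388, 0, 16, 256196) .leaf) (7390, 0, 17, 162136) (.node .leaf (7392, 0, 12, 3927) .leaf))) (7394, 0, 14, 120826) (.node (.node (.node .leaf (7396, 0, 15, 48892) .leaf) (7398, 0, 16, 126681) (.node .leaf (7400, 0, 16, 58827) .leaf)) (7402, 0, 15, 200121) (.node (.node .leaf (7404, 0, 17, 170710) .leaf) (7406, 0, 16, 248641) (.node .leaf (7409, 0, 15, 139244) .leaf))))))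

/-- part of the orbit tree -/
def itp0_109 : Tree := (.node (.node (.node (.node (.node (.node .leaf (7413, 0, 12, 141007) .leaf) (7415, 0, 16, 227050) (.node .leaf (7417, 0, 14, 14964) .leaf)) (7419, 0, 18, 92753) (.node (.node .leaf (7421, 0, 12, 177422) .leaf) (7423, 0, 14, 89468) (.node .leaf (7424, 0, 16, 163165) .leaf))) (7426, 0, 16, 103727) (.node (.node (.node .leaf (7428, 0, 14, 576) .leaf) (7430, 0, 14, 47828) (.node .leaf (7432, 0, 16, 259658) .leaf)) (7434, 0, 17, 98227) (.node (.node .leaf (7436, 0, 16, 249705) .leaf) (7438, 0, 15, 196782) (.node .leaf (7441, 0, 16, 216033) .leaf)))) (7443, 0, 17, 113399) (.node (.node (.node (.node .leaf (7445, 0, 15, 11672) .leaf) (7447, 0, 13, 140007) (.node .leaf (7449, 0, 17, 93817) .leaf)) (7451, 0, 16, 86123) (.node (.node .leaf (7453, 0, 15, 87898) .leaf) (7455, 0, 16, 1919) (.node .leaf (7457, 0, 14, 145473) .leaf))) (7459, 0, 17, 176395) (.node (.node (.node .leaf (7461, 0, 12, 206436) .leaf) (7463, 0, 15, 52758) (.node .leaf (7465,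 0, 18, 7641) .leaf)) (7467, 0, 16, 85500) (.node (.node .leaf (7469, 0, 18, 249080) .leaf) (7471, 0, 15, 95455) (.node .leaf (7472, 0, 18, 41074) .leaf))))) (7474, 0, 16, 171731) (.node (.node (.node (.node (.node .leaf (7476, 0, 16, 39249) .leaf) (7478, 0, 17, 57806) (.node .leaf (7480, 0, 17, 165354) .leaf)) (7482, 0, 17, 160847) (.node (.node .leaf (7484, 0, 18, 179401) .leaf) (7486, 0, 17, 2898) (.node .leaf (7489, 0, 16, 153906) .leaf))) (7491, 0, 18, 234635) (.node (.node (.node .leaf (7493, 0, 18, 155665) .leaf) (7495, 0, 19, 125846) (.node .leaf (7497, 0, 15, 31914) .leaf)) (7499, 0, 17, 76943) (.node (.node .leaf (7501, 0, 17, 190840) .leaf) (7503, 0, 16, 65802) (.node .leaf (7504, 0, 14, 21281) .leaf)))) (7506, 0, 17, 244563) (.node (.node (.node (.node .leaf (7508, 0, 17, 142396) .leaf) (7510, 0, 15, 108551) (.node .leaf (7512, 0, 13, 189593) .leaf)) (7514, 0, 18, 242876) (.node (.node .leaf (7516, 0, 15, 181920) .leaf) (7518, 0, 16, 232863) (.node .leaf (7520, 0, 17, 111265) .leaf)))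 (7522, 0, 15, 57988) (.node (.node (.node .leaf (7524, 0, 17, 101250) .leaf) (7526, 0, 16, 184242) (.node .leaf (7528, 0, 17, 242241) .leaf)) (7530, 0, 17, 23091) (.node (.node .leaf (7532, 0, 17, 118108) .leaf) (7534, 0, 16, 196159) (.node .leaf (7537, 0, 17, 227077) .leaf))))))

/-- part of the orbit tree -/
def itp0_110 : Tree := (.node (.node (.node (.node (.node (.node .leaf (7541, 0, 17, 67608) .leaf) (7543, 0, 16, 148372) (.node .leaf (7545, 0, 17, 236953) .leaf)) (7547, 0, 18, 30187) (.node (.node .leaf (7549, 0, 17, 79401) .leaf) (7551, 0, 16, 26124) (.node .leaf (7553, 0, 15, 234522) .leaf))) (7555, 0, 12, 31848) (.node (.node (.node .leaf (7557, 0, 17, 236957) .leaf) (7559, 0, 15, 131957) (.node .leaf (7561, 0, 16, 98598) .leaf)) (7563, 0, 16, 38644) (.node (.node .leaf (7565, 0, 16, 65947) .leaf) (7567, 0, 16, 59424) (.node .leaf (7568, 0, 13, 244674) .leaf)))) (7570, 0, 17, 21424) (.node (.node (.node (.node .leaf (7572, 0, 16, 66990) .leaf) (7574, 0, 16, 21899) (.node .leaf (7576,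 0, 15, 217438) .leaf)) (7578, 0, 14, 47404) (.node (.node .leaf (7580, 0, 13, 204854) .leaf) (7582, 0, 14, 159763) (.node .leaf (7584, 0, 16, 20269) .leaf))) (7586, 0, 14, 73480) (.node (.node (.node .leaf (7588, 0, 15, 184099) .leaf) (7590, 0, 16, 75307) (.node .leaf (7592, 0, 16, 23202) .leaf)) (7594, 0, 15, 211600) (.node (.node .leaf (7596, 0, 15, 140735) .leaf) (7598, 0, 16, 197555) (.node .leaf (7601, 0, 15, 186142) .leaf))))) (7603, 0, 16, 227220) (.node (.node (.node (.node (.node .leaf (7605, 0, 15, 188667) .leaf) (7607, 0, 17, 67721) (.node .leaf (7609, 0, 14, 30074) .leaf)) (7611, 0, 11, 107171) (.node (.node .leaf (7613, 0, 15, 133735) .leaf) (7615, 0, 16, 105344) (.node .leaf (7616, 0, 16, 11870) .leaf))) (7618, 0, 18, 163276) (.node (.node (.node .leaf (7620, 0, 16, 6013) .leaf) (7622, 0, 15, 83800) (.node .leaf (7624, 0, 17, 98082) .leaf)) (7626, 0, 13, 169808) (.node (.node .leaf (7628, 0, 15, 144101) .leaf) (7630, 0, 18, 59469) (.node .leaf (7633, 0, 16, 113254) .leaf)))) (7635,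 0, 18, 152084) (.node (.node (.node (.node .leaf (7637, 0, 17, 247163) .leaf) (7639, 0, 16, 11529) (.node .leaf (7641, 0, 17, 37877) .leaf)) (7643, 0, 5, 115664) (.node (.node .leaf (7645, 0, 17, 208871) .leaf) (7647, 0, 16, 129779) (.node .leaf (7649, 0, 14, 247245) .leaf))) (7651, 0, 16, 88552) (.node (.node (.node .leaf (7653, 0, 16, 52871) .leaf) (7655, 0, 16, 175307) (.node .leaf (7657, 0, 15, 122965) .leaf)) (7659, 0, 13, 111476) (.node (.node .leaf (7661, 0, 15, 121206) .leaf) (7663, 0, 13, 35155) (.node .leaf (7664, 0, 18, 171586) .leaf))))))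

/-- part of the orbit tree -/
def itp0_111 : Tree := (.node itp0_107 (7282, 0, 15, 80037) itp0_108)

/-- part of the orbit tree -/
def itp0_112 : Tree := (.node itp0_109 (7539, 0, 16, 40823) itp0_110)

/-- part of the orbit tree -/
def itp0_113 : Tree := (.node (.node (.node (.node (.node (.node .leaf (7668, 0, 15, 57695) .leaf) (7670, 0, 18, 13560) (.node .leaf (7672, 0, 15, 160990) .leaf)) (7674, 0, 17, 105644) (.node (.node .leaf (7676, 0, 18, 3011) .leaf) (7678, 0, 15, 254897) (.node .leaf (7680, 0, 17, 155094) .leaf))) (7681, 0, 16, 50876) (.node (.node (.node .leaf (7682, 0, 16, 96224) .leaf) (7683, 0, 16, 208590) (.node .leaf (7684, 0, 17, 156917) .leaf)) (7685, 0, 17, 165011) (.node (.node .leaf (7686, 0, 17, 210128) .leaf) (7687, 0, 19, 251062) (.node .leaf (7688, 0, 15, 30798) .leaf)))) (7689, 0, 18, 38952) (.node (.node (.node (.node .leaf (7690, 0, 14, 105852) .leaf) (7691, 0, 16, 116749) (.node .leaf (7692, 0, 16, 16749) .leaf)) (7693, 0, 16, 152381) (.node (.node .leaf (7694,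 0, 18, 69960) .leaf) (7695, 0, 15, 127278) (.node .leaf (7728, 0, 17, 103534) .leaf))) (7729, 0, 12, 249152) (.node (.node (.node .leaf (7730, 0, 15, 163411) .leaf) (7731, 0, 17, 9522) (.node .leaf (7732, 0, 16, 202581) .leaf)) (7733, 0, 15, 259891) (.node (.node .leaf (7734, 0, 14, 769) .leaf) (7735, 0, 17, 173846) (.node .leaf (7736, 0, 18, 98034) .leaf))))) (7737, 0, 18, 125832) (.node (.node (.node (.node (.node .leaf (7738, 0, 17, 169600) .leaf) (7739, 0, 14, 53166) (.node .leaf (7740, 0, 16, 78541) .leaf)) (7741, 0, 17, 88257) (.node (.node .leaf (7742, 0, 17, 59805) .leaf) (7743, 0, 13, 176307) (.node .leaf (7760, 0, 18, 45550) .leaf))) (7761, 0, 16, 190656) (.node (.node (.node .leaf (7762, 0, 14, 219548) .leaf) (7763, 0, 10, 65714) (.node .leaf (7764, 0, 15, 226854) .leaf)) (7765, 0, 12, 38877) (.node (.node .leaf (7766, 0, 12, 140803) .leaf) (7767, 0, 17, 229295) (.node .leaf (7768, 0, 17, 92829) .leaf)))) (7769, 0, 15, 131676) (.node (.node (.node (.node .leaf (7770, 0, 15, 242432)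 .leaf) (7771, 0, 15, 125486) (.node .leaf (7772, 0, 18, 86974) .leaf)) (7773, 0, 16, 32065) (.node (.node .leaf (7774, 0, 16, 117789) .leaf) (7775, 0, 16, 58365) (.node .leaf (7776, 0, 13, 146597) .leaf))) (7777, 0, 13, 123708) (.node (.node (.node .leaf (7778, 0, 17, 21088) .leaf) (7779, 0, 14, 133966) (.node .leaf (7780, 0, 15, 132486) .leaf)) (7781, 0, 16, 236577) (.node (.node .leaf (7782, 0, 17, 142717) .leaf) (7783, 0, 18, 29779) (.node .leaf (7784, 0, 14, 217230) .leaf))))))

/-- part of the orbit tree -/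
def itp0_114 : Tree := (.node (.node (.node (.node (.node (.node .leaf (7786, 0, 16, 84248) .leaf) (7787, 0, 16, 188882) (.node .leaf (7788, 0, 11, 8222) .leaf)) (7789, 0, 12, 227005) (.node (.node .leaf (7790, 0, 17, 182241) .leaf) (7791, 0, 13, 40655) (.node .leaf (7824, 0, 17, 219405) .leaf))) (7825, 0, 16, 152303) (.node (.node (.node .leaf (7826, 0, 15, 45439) .leaf) (7827, 0, 17, 190545) (.node .leaf (7828, 0, 15, 75280) .leaf)) (7829, 0, 13, 229182) (.node (.node .leaf (7830, 0, 16, 252815) .leaf) (7831, 0, 16, 38732) (.node .leaf (7832, 0, 17, 242577) .leaf)))) (7833, 0, 15, 125631) (.node (.node (.node (.node .leaf (7834, 0, 18, 116532) .leaf) (7835, 0, 16, 131789) (.node .leaf (7836, 0, 17, 117900) .leaf)) (7837, 0, 16, 234914) (.node (.node .leaf (7838, 0, 16, 130583) .leaf) (7839, 0, 16, 73329) (.node .leaf (7840, 0, 17, 246057) .leaf))) (7841, 0, 16, 134111) (.node (.node (.node .leaf (7842, 0, 16, 168204) .leaf) (7843, 0, 14, 123821) (.node .leaf (7844, 0, 17, 260106) .leaf))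 (7845, 0, 16, 202860) (.node (.node .leaf (7846, 0, 14, 174127) .leaf) (7847, 0, 15, 236720) (.node .leaf (7848, 0, 17, 47213) .leaf))))) (7849, 0, 16, 188739) (.node (.node (.node (.node (.node .leaf (7850, 0, 19, 46228) .leaf) (7851, 0, 16, 21746) (.node .leaf (7852, 0, 17, 122258) .leaf)) (7853, 0, 16, 81396) (.node (.node .leaf (7854, 0, 19, 77570) .leaf) (7855, 0, 16, 28113) (.node .leaf (7872, 0, 15, 237658) .leaf))) (7873, 0, 12, 213052) (.node (.node (.node .leaf (7874, 0, 15, 171779) .leaf) (7875, 0, 17, 135193) (.node .leaf (7876, 0, 15, 198764) .leaf)) (7877, 0, 15, 86338) (.node (.node .leaf (7878, 0, 14, 57374) .leaf) (7879, 0, 17, 141626) (.node .leaf (7880, 0, 15, 105965) .leaf)))) (7881, 0, 16, 91556) (.node (.node (.node (.node .leaf (7882, 0, 15, 161183) .leaf) (7883, 0, 16, 11441) (.node .leaf (7884, 0, 15, 113889) .leaf)) (7885, 0, 17, 89223) (.node (.node .leaf (7886, 0, 17, 2690) .leaf) (7887, 0, 14, 152492) (.node .leaf (7920, 0, 15, 162957) .leaf))) (7921, 0, 16, 9635)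 (.node (.node (.node .leaf (7922, 0, 16, 103679) .leaf) (7923, 0, 18, 222137) (.node .leaf (7924, 0, 16, 912) .leaf)) (7925, 0, 15, 154302) (.node (.node .leaf (7926, 0, 16, 244476) .leaf) (7927, 0, 16, 111308) (.node .leaf (7928, 0, 14, 63074) .leaf))))))

/-- part of the orbit tree -/
def itp0_115 : Tree := (.node (.node (.node (.node (.node (.node .leaf (7930, 0, 14, 97891) .leaf) (7931, 0, 19, 83489) (.node .leaf (7932, 0, 18, 59660) .leaf)) (7933, 0, 17, 12071) (.node (.node .leaf (7934, 0, 14, 196990) .leaf) (7935, 0, 14, 98050) (.node .leaf (7952, 0, 15, 3719) .leaf))) (7953, 0, 15, 223121) (.node (.node (.node .leaf (7954, 0, 17, 255733) .leaf) (7955, 0, 13, 114651) (.node .leaf (7956, 0, 17, 160154) .leaf)) (7957, 0, 14, 220850) (.node (.node .leaf (7958, 0, 15, 104936) .leaf) (7959, 0, 16, 134807) (.node .leaf (7960, 0, 13, 107119) .leaf)))) (7961, 0, 15, 179509) (.node (.node (.node (.node .leaf (7962, 0, 17, 199785) .leaf) (7963, 0, 17, 87367) (.node .leaf (7964, 0, 18, 170758)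 .leaf)) (7965, 0, 16, 97066) (.node (.node .leaf (7966, 0, 18, 52073) .leaf) (7967, 0, 16, 207450) (.node .leaf (7968, 0, 18, 193623) .leaf))) (7969, 0, 18, 136241) (.node (.node (.node .leaf (7970, 0, 18, 60681) .leaf) (7971, 0, 17, 177191) (.node .leaf (7972, 0, 16, 183668) .leaf)) (7973, 0, 18, 142610) (.node (.node .leaf (7974, 0, 15, 236881) .leaf) (7975, 0, 15, 228663) (.node .leaf (7976, 0, 15, 53711) .leaf))))) (7977, 0, 16, 112329) (.node (.node (.node (.node (.node .leaf (7978, 0, 17, 98794) .leaf) (7979, 0, 13, 90508) (.node .leaf (7980, 0, 17, 102650) .leaf)) (7981, 0, 18, 2186) (.node (.node .leaf (7982, 0, 16, 161928) .leaf) (7983, 0, 17, 88239) (.node .leaf (8000, 0, 16, 139515) .leaf))) (8001, 0, 18, 31189) (.node (.node (.node .leaf (8002, 0, 13, 247041) .leaf) (8003, 0, 17, 233895) (.node .leaf (8004, 0, 17, 24550) .leaf)) (8005, 0, 16, 150625) (.node (.node .leaf (8006, 0, 16, 243604) .leaf) (8007, 0, 16, 203844) (.node .leaf (8008, 0, 16, 182887) .leaf)))) (8009, 0, 16,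 37705) (.node (.node (.node (.node .leaf (8010, 0, 17, 74261) .leaf) (8011, 0, 17, 65791) (.node .leaf (8012, 0, 17, 46458) .leaf)) (8013, 0, 15, 191572) (.node (.node .leaf (8014, 0, 13, 121274) .leaf) (8015, 0, 15, 80348) (.node .leaf (8048, 0, 16, 76551) .leaf))) (8049, 0, 13, 198370) (.node (.node (.node .leaf (8050, 0, 18, 177825) .leaf) (8051, 0, 15, 39515) (.node .leaf (8052, 0, 15, 253863) .leaf)) (8053, 0, 18, 212929) (.node (.node .leaf (8054, 0, 13, 48232) .leaf) (8055, 0, 16, 189766) (.node .leaf (8056, 0, 17, 115484) .leaf))))))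

/-- part of the orbit tree -/
def itp0_116 : Tree := (.node (.node (.node (.node (.node (.node .leaf (8058, 0, 19, 37689) .leaf) (8059, 0, 18, 28871) (.node .leaf (8060, 0, 14, 129599) .leaf)) (8061, 0, 18, 72281) (.node (.node .leaf (8062, 0, 17, 22260) .leaf) (8063, 0, 17, 135130) (.node .leaf (8064, 0, 17, 116760) .leaf))) (8065, 0, 18, 233782) (.node (.node (.node .leaf (8066, 0, 16, 145549) .leaf) (8067, 0, 17, 31044) (.node .leaf (8068, 0, 15, 243461) .leaf)) (8069, 0, 17, 126507) (.node (.node .leaf (8070, 0, 14, 24439) .leaf) (8071, 0, 8, 132697) (.node .leaf (8072, 0, 16, 74372) .leaf)))) (8073, 0, 16, 228266) (.node (.node (.node (.node .leaf (8074, 0, 16, 7445) .leaf) (8075, 0, 13, 37848) (.node .leaf (8076, 0, 18, 95251) .leaf)) (8077, 0, 13, 103541) (.node (.node .leaf (8078, 0, 18, 9270) .leaf) (8079, 0, 16, 191685) (.node .leaf (8112, 0, 14, 181220) .leaf))) (8113, 0, 16, 195438) (.node (.node (.node .leaf (8114, 0, 12, 215853) .leaf) (8115, 0, 18, 225976) (.node .leaf (8116,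 0, 16, 139819) .leaf)) (8117, 0, 17, 180813) (.node (.node .leaf (8118, 0, 16, 218251) .leaf) (8119, 0, 17, 69029) (.node .leaf (8120, 0, 18, 16016) .leaf))))) (8121, 0, 14, 28758) (.node (.node (.node (.node (.node .leaf (8122, 0, 18, 93877) .leaf) (8123, 0, 14, 235556) (.node .leaf (8124, 0, 13, 22117) .leaf)) (8125, 0, 17, 134987) (.node (.node .leaf (8126, 0, 18, 87958) .leaf) (8127, 0, 17, 112624) (.node .leaf (8144, 0, 17, 162427) .leaf))) (8145, 0, 17, 114506) (.node (.node (.node .leaf (8146, 0, 14, 207454) .leaf) (8147, 0, 13, 248376) (.node .leaf (8148, 0, 16, 104825) .leaf)) (8149, 0, 16, 245847) (.node (.node .leaf (8150, 0, 16, 201597) .leaf) (8151, 0, 17, 258843) (.node .leaf (8152, 0, 15, 24547) .leaf)))) (8153, 0, 15, 49029) (.node (.node (.node (.node .leaf (8154, 0, 15, 69574) .leaf) (8155, 0, 16, 126880) (.node .leaf (8156, 0, 15, 95205) .leaf)) (8157, 0, 16, 207563) (.node (.node .leaf (8158, 0, 17, 79589) .leaf) (8159, 0, 18, 49849) (.node .leaf (8160, 0, 16, 199131) .leaf)))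 (8161, 0, 14, 256445) (.node (.node (.node .leaf (8162, 0, 17, 198122) .leaf) (8163, 0, 18, 178584) (.node .leaf (8164, 0, 15, 209144) .leaf)) (8165, 0, 17, 250014) (.node (.node .leaf (8166, 0, 18, 97015) .leaf) (8167, 0, 18, 164027) .leaf)))))

/-- part of the orbit tree -/
def itp0_117 : Tree := (.node itp0_113 (7785, 0, 14, 68000) itp0_114)

/-- part of the orbit tree -/
def itp0_118 : Tree := (.node itp0_115 (8057, 0, 18, 74618) itp0_116)

/-- part of the orbit tree -/
def itp0_119 : Tree := (.node itp0_111 (7411, 0, 16, 248061) itp0_112)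

/-- part of the orbit tree -/
def itp0_120 : Tree := (.node itp0_117 (7929, 0, 17, 5636) itp0_118)

/-- part of the orbit tree -/
def itp0_121 : Tree := (.node itp0_105 (6645, 0, 15, 112005) itp0_106)

/-- part of the orbit tree -/
def itp0_122 : Tree := (.node itp0_119 (7666, 0, 15, 3547) itp0_120)

/-- part of the orbit tree -/
def itp0_123 : Tree := (.node itp0_91 (5109, 0, 17, 128406) itp0_92)

/-- part of the orbit tree -/
def itp0_124 : Tree := (.node itp0_121 (7153, 0, 16, 35648) itp0_122)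

/-- part of the orbit tree -/
def itp0_125 : Tree := (.node itp0_61 (2042, 0, 16, 94013) itp0_62)

/-- part of the orbit tree -/
def itp0_126 : Tree := (.node itp0_123 (6130, 0, 16, 79395) itp0_124)

/-- part of the orbit tree -/
def itp0_127 : Tree := (.node (.node (.node (.node (.node (.node .leaf (8169, 0, 17, 117797) .leaf) (8170, 0, 16, 31846) (.node .leaf (8171, 0, 15, 112216) .leaf)) (8172, 0, 13, 71008) (.node (.node .leaf (8173, 0, 17, 8503) .leaf) (8174, 0, 17, 102507) (.node .leaf (8175, 0, 14, 42275) .leaf))) (8193, 0, 17, 115221) (.node (.node (.node .leaf (8194, 0, 15, 230169) .leaf) (8196, 0, 17, 123942) (.node .leaf (8199, 0, 15, 21882) .leaf)) (8200, 0, 17, 63140) (.node (.node .leaf (8203, 0, 17, 83687) .leaf) (8205, 0, 14, 12257) (.node .leaf (8206, 0, 16, 106402) .leaf)))) (8209, 0, 15, 19215) (.node (.node (.node (.node .leaf (8210, 0, 17, 129868) .leaf) (8212, 0, 15, 37450) (.node .leaf (8215, 0, 18, 140172) .leaf)) (8216, 0, 15, 167665) (.node (.node .leaf (8219, 0,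 16, 212658) .leaf) (8221, 0, 17, 153524) (.node .leaf (8222, 0, 10, 36926) .leaf))) (8224, 0, 18, 190001) (.node (.node (.node .leaf (8227, 0, 14, 218989) .leaf) (8229, 0, 16, 65932) (.node .leaf (8230, 0, 14, 225630) .leaf)) (8233, 0, 17, 204087) (.node (.node .leaf (8234, 0, 17, 124127) .leaf) (8236, 0, 17, 29616) (.node .leaf (8239, 0, 16, 160817) .leaf))))) (8240, 0, 16, 237724) (.node (.node (.node (.node (.node .leaf (8243, 0, 19, 74139) .leaf) (8245, 0, 16, 227801) (.node .leaf (8246, 0, 18, 182682) .leaf)) (8249, 0, 18, 140149) (.node (.node .leaf (8250, 0, 11, 54561) .leaf) (8252, 0, 14, 113703) (.node .leaf (8255, 0, 16, 242714) .leaf))) (8256, 0, 17, 246705) (.node (.node (.node .leaf (8259, 0, 13, 2553) .leaf) (8261, 0, 17, 90367) (.node .leaf (8262, 0, 17, 152798) .leaf)) (8265, 0, 16, 94211) (.node (.node .leaf (8266, 0, 16, 183303) .leaf) (8268, 0, 18, 238849) (.node .leaf (8271, 0, 14, 59244) .leaf)))) (8272, 0, 15, 246255) (.node (.node (.node (.node .leaf (8275, 0, 16, 160172)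 .leaf) (8277, 0, 18, 202922) (.node .leaf (8278, 0, 16, 8744) .leaf)) (8281, 0, 16, 198389) (.node (.node .leaf (8282, 0, 17, 46162) .leaf) (8284, 0, 16, 204998) (.node .leaf (8287, 0, 16, 168346) .leaf))) (8289, 0, 17, 59285) (.node (.node (.node .leaf (8290, 0, 15, 254570) .leaf) (8292, 0, 13, 166764) (.node .leaf (8295, 0, 17, 211759) .leaf)) (8296, 0, 15, 38871) (.node (.node .leaf (8299, 0, 15, 255355) .leaf) (8301, 0, 16, 160276) (.node .leaf (8302, 0, 15, 246600) .leaf))))))

/-- part of the orbit tree -/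
def itp0_128 : Tree := (.node (.node (.node (.node (.node (.node .leaf (8306, 0, 16, 204863) .leaf) (8308, 0, 15, 178000) (.node .leaf (8311, 0, 17, 82810) .leaf)) (8312, 0, 16, 8913) (.node (.node .leaf (8315, 0, 15, 103309) .leaf) (8317, 0, 17, 145095) (.node .leaf (8318, 0, 12, 112062) .leaf))) (8320, 0, 17, 17462) (.node (.node (.node .leaf (8323, 0, 14, 128117) .leaf) (8325, 0, 17, 40307) (.node .leaf (8326, 0, 16, 77104) .leaf)) (8329, 0, 17, 164296) (.node (.node .leaf (8330, 0, 16, 207292) .leaf) (8332, 0, 15, 179923) (.node .leaf (8335, 0, 15, 200591) .leaf)))) (8336, 0, 15, 146531) (.node (.node (.node (.node .leaf (8339, 0, 14, 232480) .leaf) (8341, 0, 15, 162711) (.node .leaf (8342, 0, 17, 218469) .leaf)) (8345, 0, 11, 63901) (.node (.node .leaf (8346, 0, 15, 89930) .leaf) (8348, 0, 11, 51237) (.node .leaf (8351, 0, 11, 102555) .leaf))) (8353, 0, 15, 200566) (.node (.node (.node .leaf (8354, 0, 16, 179754) .leaf) (8356, 0, 17, 227040) (.node .leaf (8359, 0, 16, 181923) .leaf)) (8360,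 0, 14, 92763) (.node (.node .leaf (8363, 0, 15, 3480) .leaf) (8365, 0, 16, 105207) (.node .leaf (8366, 0, 14, 861) .leaf))))) (8369, 0, 16, 96640) (.node (.node (.node (.node (.node .leaf (8370, 0, 14, 51420) .leaf) (8372, 0, 15, 69301) (.node .leaf (8375, 0, 14, 61167) .leaf)) (8376, 0, 15, 248370) (.node (.node .leaf (8379, 0, 17, 162670) .leaf) (8381, 0, 18, 248651) (.node .leaf (8382, 0, 15, 154973) .leaf))) (8385, 0, 16, 142070) (.node (.node (.node .leaf (8386, 0, 17, 163477) .leaf) (8388, 0, 16, 202643) (.node .leaf (8391, 0, 16, 245145) .leaf)) (8392, 0, 18, 39236) (.node (.node .leaf (8395, 0, 15, 75800) .leaf) (8397, 0, 9, 119405) (.node .leaf (8398, 0, 14, 25134) .leaf)))) (8401, 0, 16, 23552) (.node (.node (.node (.node .leaf (8402, 0, 16, 1728) .leaf) (8404, 0, 14, 94150) (.node .leaf (8407, 0, 14, 57221) .leaf)) (8408, 0, 16, 192434) (.node (.node .leaf (8411, 0, 15, 181054) .leaf) (8413, 0, 17, 182657) (.node .leaf (8414, 0, 17, 137851) .leaf))) (8416, 0, 14, 9541) (.node (.node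 (.node .leaf (8419, 0, 13, 49038) .leaf) (8421, 0, 17, 64512) (.node .leaf (8422, 0, 16, 39357) .leaf)) (8425, 0, 17, 245088) (.node (.node .leaf (8426, 0, 18, 217336) .leaf) (8428, 0, 18, 145918) (.node .leaf (8431, 0, 15, 231869) .leaf))))))

/-- part of the orbit tree -/
def itp0_129 : Tree := (.node (.node (.node (.node (.node (.node .leaf (8435, 0, 17, 182648) .leaf) (8437, 0, 17, 164949) (.node .leaf (8438, 0, 19, 209942) .leaf)) (8441, 0, 17, 39150) (.node (.node .leaf (8442, 0, 17, 75949) .leaf) (8444, 0, 18, 16811) (.node .leaf (8447, 0, 18, 23801) .leaf))) (8448, 0, 17, 94536) (.node (.node (.node .leaf (8451, 0, 18, 183684) .leaf) (8453, 0, 16, 108557) (.node .leaf (8454, 0, 15, 191415) .leaf)) (8457, 0, 15, 118634) (.node (.node .leaf (8458, 0, 14, 32310) .leaf) (8460, 0, 17, 125273) (.node .leaf (8463, 0, 15, 187824) .leaf)))) (8464, 0, 10, 68142) (.node (.node (.node (.node .leaf (8467, 0, 16, 47986) .leaf) (8469, 0, 16, 249944) (.node .leaf (8470, 0, 14, 40257) .leaf)) (8473,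 0, 15, 117987) (.node (.node .leaf (8474, 0, 17, 133312) .leaf) (8476, 0, 15, 71078) (.node .leaf (8479, 0, 18, 143091) .leaf))) (8481, 0, 17, 170715) (.node (.node (.node .leaf (8482, 0, 18, 125344) .leaf) (8484, 0, 16, 32463) (.node .leaf (8487, 0, 15, 259037) .leaf)) (8488, 0, 16, 24357) (.node (.node .leaf (8491, 0, 15, 126822) .leaf) (8493, 0, 16, 183677) (.node .leaf (8494, 0, 16, 79395) .leaf))))) (8497, 0, 15, 142858) (.node (.node (.node (.node (.node .leaf (8498, 0, 11, 86733) .leaf) (8500, 0, 16, 15307) (.node .leaf (8503, 0, 16, 244069) .leaf)) (8504, 0, 16, 40376) (.node (.node .leaf (8507, 0, 17, 77028) .leaf) (8509, 0, 19, 196149) (.node .leaf (8510, 0, 17, 216694) .leaf))) (8513, 0, 16, 97660) (.node (.node (.node .leaf (8514, 0, 15, 52256) .leaf) (8516, 0, 13, 88911) (.node .leaf (8519, 0, 15, 234158) .leaf)) (8520, 0, 16, 15958) (.node (.node .leaf (8523, 0, 17, 163730) .leaf) (8525, 0, 17, 256253) (.node .leaf (8526, 0, 17, 154017) .leaf)))) (8529, 0, 15, 199562) (.node (.node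 (.node (.node .leaf (8530, 0, 15, 78782) .leaf) (8532, 0, 17, 23224) (.node .leaf (8535, 0, 18, 125691) .leaf)) (8536, 0, 17, 112696) (.node (.node .leaf (8539, 0, 17, 259648) .leaf) (8541, 0, 14, 105995) (.node .leaf (8542, 0, 15, 208645) .leaf))) (8544, 0, 19, 69691) (.node (.node (.node .leaf (8547, 0, 16, 256004) .leaf) (8549, 0, 15, 117118) (.node .leaf (8550, 0, 16, 31037) .leaf)) (8553, 0, 15, 251333) (.node (.node .leaf (8554, 0, 14, 157062) .leaf) (8556, 0, 13, 52441) (.node .leaf (8559, 0, 18, 97669) .leaf))))))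

/-- part of the orbit tree -/
def itp0_130 : Tree := (.node (.node (.node (.node (.node (.node .leaf (8563, 0, 15, 106226) .leaf) (8565, 0, 17, 2461) (.node .leaf (8566, 0, 14, 131432) .leaf)) (8569, 0, 18, 171036) (.node (.node .leaf (8570, 0, 17, 208192) .leaf) (8572, 0, 15, 178735) (.node .leaf (8575, 0, 17, 199539) .leaf))) (8577, 0, 14, 198180) (.node (.node (.node .leaf (8578, 0, 16, 206019) .leaf) (8580, 0, 11, 177068) (.node .leaf (8583, 0, 13, 197360) .leaf)) (8584, 0, 17, 9773) (.node (.node .leaf (8587, 0, 16, 29593) .leaf) (8589, 0, 16, 72351) (.node .leaf (8590, 0, 16, 110914) .leaf)))) (8593, 0, 14, 97905) (.node (.node (.node (.node .leaf (8594, 0, 18, 52786) .leaf) (8596, 0, 17, 50522) (.node .leaf (8599, 0, 14, 95238) .leaf)) (8600, 0, 17, 151771) (.node (.node .leaf (8603, 0, 14, 254343) .leaf) (8605, 0, 18, 221898) (.node .leaf (8606, 0, 17, 184969) .leaf))) (8608, 0, 18, 111035) (.node (.node (.node .leaf (8611, 0, 16, 89588) .leaf) (8613, 0, 18, 13554) (.node .leaf (8614,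 0, 17, 9940) .leaf)) (8617, 0, 16, 197129) (.node (.node .leaf (8618, 0, 18, 176981) .leaf) (8620, 0, 17, 205882) (.node .leaf (8623, 0, 17, 213327) .leaf))))) (8624, 0, 15, 247629) (.node (.node (.node (.node (.node .leaf (8627, 0, 17, 161297) .leaf) (8629, 0, 15, 150695) (.node .leaf (8630, 0, 16, 151586) .leaf)) (8633, 0, 16, 95487) (.node (.node .leaf (8634, 0, 16, 122975) .leaf) (8636, 0, 9, 35161) (.node .leaf (8639, 0, 18, 80154) .leaf))) (8640, 0, 14, 36036) (.node (.node (.node .leaf (8643, 0, 17, 81031) .leaf) (8645, 0, 15, 21889) (.node .leaf (8646, 0, 15, 66388) .leaf)) (8649, 0, 15, 149818) (.node (.node .leaf (8650, 0, 18, 260473) .leaf) (8652, 0, 15, 131514) (.node .leaf (8655, 0, 17, 241894) .leaf)))) (8656, 0, 14, 189133) (.node (.node (.node (.node .leaf (8659, 0, 15, 218001) .leaf) (8661, 0, 16, 181502) (.node .leaf (8662, 0, 16, 236951) .leaf)) (8665, 0, 16, 20863) (.node (.node .leaf (8666, 0, 16, 122915) .leaf) (8668, 0, 17, 59434) (.node .leaf (8671, 0, 16, 88169) .leaf)))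 (8673, 0, 16, 241695) (.node (.node (.node .leaf (8674, 0, 16, 131395) .leaf) (8676, 0, 15, 245266) (.node .leaf (8679, 0, 17, 141168) .leaf)) (8680, 0, 17, 66477) (.node (.node .leaf (8683, 0, 15, 45809) .leaf) (8685, 0, 14, 75166) (.node .leaf (8686, 0, 13, 38082) .leaf))))))

/-- part of the orbit tree -/
def itp0_131 : Tree := (.node itp0_127 (8305, 0, 17, 168291) itp0_128)

/-- part of the orbit tree -/
def itp0_132 : Tree := (.node itp0_129 (8560, 0, 15, 12206) itp0_130)

/-- part of the orbit tree -/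
def itp0_133 : Tree := (.node (.node (.node (.node (.node (.node .leaf (8690, 0, 10, 44865) .leaf) (8692, 0, 15, 116295) (.node .leaf (8695, 0, 17, 30212) .leaf)) (8696, 0, 17, 226651) (.node (.node .leaf (8699, 0, 19, 158399) .leaf) (8701, 0, 15, 197561) (.node .leaf (8702, 0, 13, 188980) .leaf))) (8704, 0, 13, 196428) (.node (.node (.node .leaf (8705, 0, 15, 139050) .leaf) (8710, 0, 17, 235082) (.node .leaf (8711, 0, 18, 226860) .leaf)) (8714, 0, 16, 40185) (.node (.node .leaf (8715, 0, 16, 181719) .leaf) (8716, 0, 14, 68502) (.node .leaf (8717, 0, 17, 217784) .leaf)))) (8720, 0, 14, 34585) (.node (.node (.node (.node .leaf (8721, 0, 15, 242127) .leaf) (8726, 0, 13, 32654) (.node .leaf (8727, 0, 18, 140960) .leaf)) (8730, 0, 11, 258724) (.node (.node .leaf (8731, 0, 18, 201410) .leaf) (8732, 0, 19, 170914) (.node .leaf (8733, 0, 15, 74830) .leaf))) (8738, 0, 17, 68463) (.node (.node (.node .leaf (8739, 0, 15, 217665) .leaf) (8740, 0, 16, 118170) (.node .leaf (8741, 0, 14, 181550) .leaf))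 (8744, 0, 15, 250145) (.node (.node .leaf (8745, 0, 16, 20655) .leaf) (8750, 0, 16, 178215) (.node .leaf (8751, 0, 14, 116672) .leaf))))) (8754, 0, 17, 228761) (.node (.node (.node (.node (.node .leaf (8755, 0, 14, 146607) .leaf) (8756, 0, 14, 243151) (.node .leaf (8757, 0, 17, 218537) .leaf)) (8760, 0, 16, 32631) (.node (.node .leaf (8761, 0, 16, 140889) .leaf) (8766, 0, 17, 124952) (.node .leaf (8767, 0, 16, 8212) .leaf))) (8770, 0, 17, 50671) (.node (.node (.node .leaf (8771, 0, 16, 9609) .leaf) (8772, 0, 16, 113024) (.node .leaf (8773, 0, 15, 254126) .leaf)) (8776, 0, 16, 207873) (.node (.node .leaf (8777, 0, 12, 95535) .leaf) (8782, 0, 13, 179054) (.node .leaf (8783, 0, 15, 145714) .leaf)))) (8786, 0, 15, 179642) (.node (.node (.node (.node .leaf (8787, 0, 18, 311) .leaf) (8788, 0, 18, 249718) (.node .leaf (8789, 0, 17, 104024) .leaf)) (8792, 0, 15, 88823) (.node (.node .leaf (8793, 0, 17, 75873) .leaf) (8798, 0, 18, 52632) (.node .leaf (8799, 0, 14, 169142) .leaf))) (8800, 0, 15, 171583)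 (.node (.node (.node .leaf (8801, 0, 12, 163417) .leaf) (8806, 0, 18, 259897) (.node .leaf (8807, 0, 17, 95702) .leaf)) (8810, 0, 17, 113017) (.node (.node .leaf (8811, 0, 17, 254039) .leaf) (8812, 0, 14, 11798) (.node .leaf (8813, 0, 15, 25314) .leaf))))))

/-- part of the orbit tree -/
def itp0_134 : Tree := (.node (.node (.node (.node (.node (.node .leaf (8817, 0, 17, 1548) .leaf) (8822, 0, 14, 88590) (.node .leaf (8823, 0, 16, 197408) .leaf)) (8826, 0, 7, 249743) (.node (.node .leaf (8827, 0, 17, 104097) .leaf) (8828, 0, 16, 195281) (.node .leaf (8829, 0, 14, 462) .leaf))) (8834, 0, 18, 247308) (.node (.node (.node .leaf (8835, 0, 16, 106274) .leaf) (8836, 0, 16, 20837) (.node .leaf (8837, 0, 16, 45315) .leaf)) (8840, 0, 18, 50402) (.node (.node .leaf (8841, 0, 15, 175544) .leaf) (8846, 0, 18, 86925) (.node .leaf (8847, 0, 18, 246974) .leaf)))) (8850, 0, 19, 110842) (.node (.node (.node (.node .leaf (8851, 0, 16, 256468) .leaf) (8852, 0, 14, 10133) (.node .leaf (8853, 0, 12, 182614) .leaf))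 (8856, 0, 16, 176660) (.node (.node .leaf (8857, 0, 15, 54765) .leaf) (8862, 0, 14, 89229) (.node .leaf (8863, 0, 15, 113899) .leaf))) (8864, 0, 16, 86900) (.node (.node (.node .leaf (8865, 0, 18, 199258) .leaf) (8870, 0, 18, 133813) (.node .leaf (8871, 0, 17, 171317) .leaf)) (8874, 0, 17, 5646) (.node (.node .leaf (8875, 0, 19, 63080) .leaf) (8876, 0, 18, 98056) (.node .leaf (8877, 0, 15, 106459) .leaf))))) (8880, 0, 16, 206210) (.node (.node (.node (.node (.node .leaf (8881, 0, 15, 129920) .leaf) (8886, 0, 16, 29408) (.node .leaf (8887, 0, 14, 60355) .leaf)) (8890, 0, 12, 10092) (.node (.node .leaf (8891, 0, 16, 163394) .leaf) (8892, 0, 17, 110595) (.node .leaf (8893, 0, 16, 255803) .leaf))) (8896, 0, 16, 30452) (.node (.node (.node .leaf (8897, 0, 12, 254630) .leaf) (8902, 0, 15, 123291) (.node .leaf (8903, 0, 15, 166816) .leaf)) (8906, 0, 18, 226330) (.node (.node .leaf (8907, 0, 18, 38683) .leaf) (8908, 0, 17, 73339) (.node .leaf (8909, 0, 13, 130589) .leaf)))) (8912, 0, 13, 131074) (.node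 (.node (.node (.node .leaf (8913, 0, 15, 105203) .leaf) (8918, 0, 16, 235373) (.node .leaf (8919, 0, 12, 62453) .leaf)) (8922, 0, 17, 66284) (.node (.node .leaf (8923, 0, 15, 192334) .leaf) (8924, 0, 16, 38275) (.node .leaf (8925, 0, 15, 183469) .leaf))) (8930, 0, 16, 189324) (.node (.node (.node .leaf (8931, 0, 16, 47778) .leaf) (8932, 0, 16, 12310) (.node .leaf (8933, 0, 14, 53360) .leaf)) (8936, 0, 16, 123234) (.node (.node .leaf (8937, 0, 14, 243788) .leaf) (8942, 0, 16, 30221) (.node .leaf (8943, 0, 18, 239053) .leaf))))))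

/-- part of the orbit tree -/
def itp0_135 : Tree := (.node (.node (.node (.node (.node (.node .leaf (8947, 0, 18, 246051) .leaf) (8948, 0, 17, 149571) (.node .leaf (8949, 0, 19, 174117) .leaf)) (8952, 0, 15, 21752) (.node (.node .leaf (8953, 0, 17, 118458) .leaf) (8958, 0, 15, 131323) (.node .leaf (8959, 0, 13, 122264) .leaf))) (8962, 0, 14, 37254) (.node (.node (.node .leaf (8963, 0, 16, 60795) .leaf) (8964, 0, 15, 91163) (.node .leaf (8965, 0, 16, 221127) .leaf)) (8968, 0, 17, 234344) (.node (.node .leaf (8969, 0, 13, 235718) .leaf) (8974, 0, 17, 132103) (.node .leaf (8975, 0, 14, 192960) .leaf)))) (8978, 0, 13, 190320) (.node (.node (.node (.node .leaf (8979, 0, 16, 48734) .leaf) (8980, 0, 17, 203854) (.node .leaf (8981, 0, 15, 76081) .leaf)) (8984, 0, 12, 65781) (.node (.node .leaf (8985, 0, 17, 123027) .leaf) (8990, 0, 18, 29425) (.node .leaf (8991, 0, 15, 142303) .leaf))) (8992, 0, 14, 153293) (.node (.node (.node .leaf (8993, 0, 16, 24016) .leaf) (8998, 0, 17, 212939) (.node .leaf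 (8999, 0, 16, 253869) .leaf)) (9002, 0, 17, 74608) (.node (.node .leaf (9003, 0, 16, 220990) .leaf) (9004, 0, 15, 37247) (.node .leaf (9005, 0, 15, 43536) .leaf))))) (9008, 0, 17, 11928) (.node (.node (.node (.node (.node .leaf (9009, 0, 16, 52990) .leaf) (9014, 0, 16, 83870) (.node .leaf (9015, 0, 16, 244809) .leaf)) (9018, 0, 16, 219941) (.node (.node .leaf (9019, 0, 16, 244547) .leaf) (9020, 0, 14, 190345) (.node .leaf (9021, 0, 14, 48807) .leaf))) (9024, 0, 17, 145342) (.node (.node (.node .leaf (9025, 0, 15, 96336) .leaf) (9030, 0, 12, 177681) (.node .leaf (9031, 0, 15, 245470) .leaf)) (9034, 0, 18, 9104) (.node (.node .leaf (9035, 0, 17, 162494) .leaf) (9036, 0, 19, 11013) (.node .leaf (9037, 0, 16, 52067) .leaf)))) (9040, 0, 18, 20459) (.node (.node (.node (.node .leaf (9041, 0, 17, 44941) .leaf) (9046, 0, 17, 75501) (.node .leaf (9047, 0, 17, 170441) .leaf)) (9050, 0, 14, 211542) (.node (.node .leaf (9051, 0, 14, 3144) .leaf) (9052, 0, 17, 152400) (.node .leaf (9053, 0, 16, 176950)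 .leaf))) (9058, 0, 16, 27758) (.node (.node (.node .leaf (9059, 0, 10, 257320) .leaf) (9060, 0, 17, 66920) (.node .leaf (9061, 0, 13, 124174) .leaf)) (9064, 0, 12, 177896) (.node (.node .leaf (9065, 0, 17, 260533) .leaf) (9070, 0, 16, 159957) (.node .leaf (9071, 0, 17, 96425) .leaf))))))

/-- part of the orbit tree -/
def itp0_136 : Tree := (.node (.node (.node (.node (.node (.node .leaf (9075, 0, 12, 105438) .leaf) (9076, 0, 13, 228669) (.node .leaf (9077, 0, 17, 3249) .leaf)) (9080, 0, 15, 49182) (.node (.node .leaf (9081, 0, 17, 98784) .leaf) (9086, 0, 17, 87921) (.node .leaf (9087, 0, 15, 59622) .leaf))) (9088, 0, 15, 248370) (.node (.node (.node .leaf (9089, 0, 19, 207444) .leaf) (9094, 0, 12, 89842) (.node .leaf (9095, 0, 17, 148306) .leaf)) (9098, 0, 16, 49039) (.node (.node .leaf (9099, 0, 15, 103005) .leaf) (9100, 0, 18, 154652) (.node .leaf (9101, 0, 16, 1330) .leaf)))) (9104, 0, 17, 111207) (.node (.node (.node (.node .leaf (9105, 0, 15, 58949) .leaf) (9110, 0, 13, 56161) (.node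 .leaf (9111, 0, 17, 94506) .leaf)) (9114, 0, 16, 182234) (.node (.node .leaf (9115, 0, 17, 255147) .leaf) (9116, 0, 17, 241372) (.node .leaf (9117, 0, 17, 160708) .leaf))) (9122, 0, 17, 154853) (.node (.node (.node .leaf (9123, 0, 18, 1483) .leaf) (9124, 0, 14, 63716) (.node .leaf (9125, 0, 13, 6274) .leaf)) (9128, 0, 18, 89611) (.node (.node .leaf (9129, 0, 10, 198437) .leaf) (9134, 0, 19, 51556) (.node .leaf (9135, 0, 17, 168010) .leaf))))) (9138, 0, 18, 256439) (.node (.node (.node (.node (.node .leaf (9139, 0, 15, 199121) .leaf) (9140, 0, 15, 114044) (.node .leaf (9141, 0, 17, 155863) .leaf)) (9144, 0, 15, 39946) (.node (.node .leaf (9145, 0, 13, 94675) .leaf) (9150, 0, 17, 180114) (.node .leaf (9151, 0, 17, 59068) .leaf))) (9154, 0, 11, 227685) (.node (.node (.node .leaf (9155, 0, 17, 69879) .leaf) (9156, 0, 16, 192010) (.node .leaf (9157, 0, 16, 46884) .leaf)) (9160, 0, 16, 31627) (.node (.node .leaf (9161, 0, 16, 157002) .leaf) (9166, 0, 17, 257066) (.node .leaf (9167, 0, 15, 243146)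 .leaf)))) (9170, 0, 18, 231620) (.node (.node (.node (.node .leaf (9171, 0, 16, 223394) .leaf) (9172, 0, 17, 39164) (.node .leaf (9173, 0, 17, 180690) .leaf)) (9176, 0, 15, 134525) (.node (.node .leaf (9177, 0, 13, 21587) .leaf) (9182, 0, 16, 236050) (.node .leaf (9183, 0, 9, 115516) .leaf))) (9184, 0, 16, 240449) (.node (.node (.node .leaf (9185, 0, 15, 215847) .leaf) (9190, 0, 15, 180807) (.node .leaf (9191, 0, 12, 139809) .leaf)) (9194, 0, 16, 57084) (.node (.node .leaf (9195, 0, 15, 47069) .leaf) (9196, 0, 16, 227740) .leaf)))))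

/-- part of the orbit tree -/
def itp0_137 : Tree := (.node itp0_133 (8816, 0, 15, 52577) itp0_134)

/-- part of the orbit tree -/
def itp0_138 : Tree := (.node itp0_135 (9074, 0, 14, 136251) itp0_136)

/-- part of the orbit tree -/
def itp0_139 : Tree := (.node itp0_131 (8432, 0, 13, 227364) itp0_132)

/-- part of the orbit tree -/
def itp0_140 : Tree := (.node itp0_137 (8946, 0, 15, 38266) itp0_138)

/-- part of the orbit tree -/
def itp0_141 : Tree := (.node (.node (.node (.node (.node (.node .leaf (9200, 0, 16, 119572) .leaf) (9201, 0, 17, 115653) (.node .leaf (9206, 0, 18, 47634) .leaf)) (9207, 0, 15, 21674) (.node (.node .leaf (9210, 0, 16, 38917) .leaf) (9211, 0, 16, 180523) (.node .leaf (9212, 0, 11, 69482) .leaf))) (9213, 0, 15, 218692) (.node (.node (.node .leaf (9216, 0, 13, 38607) .leaf) (9218, 0, 17, 170417) (.node .leaf (9221, 0, 18, 200913) .leaf)) (9223, 0, 16, 147700) (.node (.node .leaf (9225, 0, 16, 68714) .leaf) (9227, 0, 15, 23631) (.node .leaf (9228, 0, 16, 131918) .leaf))))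 (9230, 0, 15, 125756) (.node (.node (.node (.node .leaf (9232, 0, 14, 111041) .leaf) (9234, 0, 15, 57828) (.node .leaf (9237, 0, 16, 181770) .leaf)) (9239, 0, 17, 77432) (.node (.node .leaf (9241, 0, 16, 21387) .leaf) (9243, 0, 17, 140314) (.node .leaf (9244, 0, 17, 30136) .leaf))) (9246, 0, 14, 237002) (.node (.node (.node .leaf (9249, 0, 19, 8711) .leaf) (9251, 0, 13, 94754) (.node .leaf (9252, 0, 17, 234712) .leaf)) (9254, 0, 15, 31914) (.node (.node .leaf (9256, 0, 18, 190457) .leaf) (9258, 0, 17, 190763) (.node .leaf (9261, 0, 13, 75626) .leaf))))) (9263, 0, 14, 184088) (.node (.node (.node (.node (.node .leaf (9265, 0, 18, 154194) .leaf) (9267, 0, 16, 142447) (.node .leaf (9268, 0, 16, 123438) .leaf)) (9270, 0, 17, 250674) (.node (.node .leaf (9272, 0, 18, 40876) .leaf) (9274, 0, 15, 118665) (.node .leaf (9277, 0, 15, 18153) .leaf))) (9279, 0, 12, 71372) (.node (.node (.node .leaf (9281, 0, 15, 17268) .leaf) (9283, 0, 14, 98073) (.node .leaf (9284, 0, 13, 39473) .leaf)) (9286, 0, 16,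 117268) (.node (.node .leaf (9288, 0, 16, 165514) .leaf) (9290, 0, 18, 249003) (.node .leaf (9293, 0, 15, 746) .leaf)))) (9295, 0, 15, 256664) (.node (.node (.node (.node .leaf (9297, 0, 17, 57757) .leaf) (9299, 0, 17, 199151) (.node .leaf (9300, 0, 15, 189028) .leaf)) (9302, 0, 17, 242241) (.node (.node .leaf (9304, 0, 16, 65247) .leaf) (9306, 0, 15, 113245) (.node .leaf (9309, 0, 17, 160796) .leaf))) (9311, 0, 18, 96191) (.node (.node (.node .leaf (9312, 0, 14, 111439) .leaf) (9314, 0, 16, 154429) (.node .leaf (9317, 0, 15, 103804) .leaf)) (9319, 0, 18, 163086) (.node (.node .leaf (9321, 0, 16, 93465) .leaf) (9323, 0, 17, 59535) (.node .leaf (9324, 0, 16, 111708) .leaf))))))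

/-- part of the orbit tree -/
def itp0_142 : Tree := (.node (.node (.node (.node (.node (.node .leaf (9328, 0, 17, 118962) .leaf) (9330, 0, 18, 11723) (.node .leaf (9333, 0, 19, 68087) .leaf)) (9335, 0, 14, 3064) (.node (.node .leaf (9337, 0, 17, 202060) .leaf) (9339, 0, 13, 171641) (.node .leaf (9340, 0, 15, 86072) .leaf))) (9342, 0, 16, 178250) (.node (.node (.node .leaf (9345, 0, 14, 114424) .leaf) (9347, 0, 14, 61149) (.node .leaf (9348, 0, 16, 88507) .leaf)) (9350, 0, 17, 14232) (.node (.node .leaf (9352, 0, 17, 228102) .leaf) (9354, 0, 17, 9288) (.node .leaf (9357, 0, 18, 238147) .leaf)))) (9359, 0, 17, 193126) (.node (.node (.node (.node .leaf (9361, 0, 18, 199038) .leaf) (9363, 0, 13, 169608) (.node .leaf (9364, 0, 17, 204776) .leaf)) (9366, 0, 15, 51007) (.node (.node .leaf (9368, 0, 17, 113356) .leaf) (9370, 0, 18, 21366) (.node .leaf (9373, 0, 15, 121366) .leaf))) (9375, 0, 17, 35379) (.node (.node (.node .leaf (9376, 0, 11, 152939) .leaf) (9378, 0, 17, 197966) (.node .leaf (9381,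 0, 16, 163231) .leaf)) (9383, 0, 16, 252939) (.node (.node .leaf (9385, 0, 15, 59422) .leaf) (9387, 0, 17, 114864) (.node .leaf (9388, 0, 15, 18896) .leaf))))) (9390, 0, 15, 72181) (.node (.node (.node (.node (.node .leaf (9392, 0, 18, 11610) .leaf) (9394, 0, 15, 97563) (.node .leaf (9397, 0, 14, 2921) .leaf)) (9399, 0, 17, 107614) (.node (.node .leaf (9401, 0, 15, 171752) .leaf) (9403, 0, 16, 95898) (.node .leaf (9404, 0, 17, 143749) .leaf))) (9406, 0, 10, 221600) (.node (.node (.node .leaf (9408, 0, 15, 144408) .leaf) (9410, 0, 15, 38494) (.node .leaf (9413, 0, 16, 191837) .leaf)) (9415, 0, 17, 245112) (.node (.node .leaf (9417, 0, 15, 118174) .leaf) (9419, 0, 16, 106947) (.node .leaf (9420, 0, 15, 10403) .leaf)))) (9422, 0, 17, 96390) (.node (.node (.node (.node .leaf (9424, 0, 16, 67802) .leaf) (9426, 0, 18, 72808) (.node .leaf (9429, 0, 14, 38152) .leaf)) (9431, 0, 17, 116013) (.node (.node .leaf (9433, 0, 16, 166323) .leaf) (9435, 0, 16, 21274) (.node .leaf (9436, 0, 17, 151798) .leaf)))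 (9438, 0, 18, 196819) (.node (.node (.node .leaf (9441, 0, 16, 23048) .leaf) (9443, 0, 16, 36782) (.node .leaf (9444, 0, 15, 67278) .leaf)) (9446, 0, 14, 22251) (.node (.node .leaf (9448, 0, 15, 203381) .leaf) (9450, 0, 14, 150096) (.node .leaf (9453, 0, 15, 184201) .leaf))))))

/-- part of the orbit tree -/
def itp0_143 : Tree := (.node (.node (.node (.node (.node (.node .leaf (9457, 0, 18, 239582) .leaf) (9459, 0, 13, 115852) (.node .leaf (9460, 0, 17, 229019) .leaf)) (9462, 0, 14, 143038) (.node (.node .leaf (9464, 0, 16, 40780) .leaf) (9466, 0, 18, 12805) (.node .leaf (9469, 0, 17, 47487) .leaf))) (9471, 0, 17, 60224) (.node (.node (.node .leaf (9473, 0, 17, 35718) .leaf) (9475, 0, 14, 121763) (.node .leaf (9476, 0, 17, 134705) .leaf)) (9478, 0, 12, 124483) (.node (.node .leaf (9480, 0, 17, 39856) .leaf) (9482, 0, 14, 226242) (.node .leaf (9485, 0, 14, 48515) .leaf)))) (9487, 0, 16, 247576) (.node (.node (.node (.node .leaf (9489, 0, 18, 193491) .leaf) (9491, 0, 18, 238582) (.node .leaf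 (9492, 0, 17, 141974) .leaf)) (9494, 0, 17, 228019) (.node (.node .leaf (9496, 0, 13, 13869) .leaf) (9498, 0, 17, 91656) (.node .leaf (9501, 0, 14, 183157) .leaf))) (9503, 0, 15, 114509) (.node (.node (.node .leaf (9504, 0, 14, 68646) .leaf) (9506, 0, 14, 189524) (.node .leaf (9509, 0, 15, 244048) .leaf)) (9511, 0, 16, 180839) (.node (.node .leaf (9513, 0, 13, 245652) .leaf) (9515, 0, 17, 22502) (.node .leaf (9516, 0, 16, 97454) .leaf))))) (9518, 0, 16, 11403) (.node (.node (.node (.node (.node .leaf (9520, 0, 13, 228048) .leaf) (9522, 0, 16, 37538) (.node .leaf (9525, 0, 18, 220387) .leaf)) (9527, 0, 16, 37152) (.node (.node .leaf (9529, 0, 18, 117090) .leaf) (9531, 0, 18, 139536) (.node .leaf (9532, 0, 16, 197883) .leaf))) (9534, 0, 17, 152798) (.node (.node (.node .leaf (9536, 0, 17, 196966) .leaf) (9538, 0, 16, 246228) (.node .leaf (9541, 0, 13, 3989) .leaf)) (9543, 0, 15, 165894) (.node (.node .leaf (9545, 0, 9, 115864) .leaf) (9547, 0, 16, 94822) (.node .leaf (9548, 0, 17, 73181) .leaf))))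 (9550, 0, 15, 87125) (.node (.node (.node (.node .leaf (9552, 0, 16, 96563) .leaf) (9554, 0, 19, 112418) (.node .leaf (9557, 0, 16, 106614) .leaf)) (9559, 0, 15, 61523) (.node (.node .leaf (9561, 0, 15, 60642) .leaf) (9563, 0, 15, 197776) (.node .leaf (9564, 0, 14, 51921) .leaf))) (9566, 0, 16, 144813) (.node (.node (.node .leaf (9569, 0, 15, 200066) .leaf) (9571, 0, 18, 58864) (.node .leaf (9572, 0, 18, 13232) .leaf)) (9574, 0, 17, 50115) (.node (.node .leaf (9576, 0, 16, 143115) .leaf) (9578, 0, 15, 153154) (.node .leaf (9581, 0, 18, 194126) .leaf))))))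

/-- part of the orbit tree -/
def itp0_144 : Tree := (.node (.node (.node (.node (.node (.node .leaf (9585, 0, 15, 168608) .leaf) (9587, 0, 15, 246405) (.node .leaf (9588, 0, 17, 150501) .leaf)) (9590, 0, 14, 203712) (.node (.node .leaf (9592, 0, 15, 248006) .leaf) (9594, 0, 16, 8372) (.node .leaf (9597, 0, 17, 257781) .leaf))) (9599, 0, 15, 122430) (.node (.node (.node .leaf (9600, 0, 15, 195818) .leaf) (9602, 0, 12, 10551) (.node .leaf (9605, 0, 19, 140719) .leaf)) (9607, 0, 18, 3844) (.node (.node .leaf (9609, 0, 15, 14612) .leaf) (9611, 0, 18, 170629) (.node .leaf (9612, 0, 17, 57425) .leaf)))) (9614, 0, 15, 179382) (.node (.node (.node (.node .leaf (9616, 0, 16, 33983) .leaf) (9618, 0, 18, 155585) (.node .leaf (9621, 0, 10, 102784) .leaf)) (9623, 0, 15, 162290) (.node (.node .leaf (9625, 0, 15, 147777) .leaf) (9627, 0, 15, 201060) (.node .leaf (9628, 0, 17, 169988) .leaf))) (9630, 0, 13, 247841) (.node (.node (.node .leaf (9633, 0, 15, 71545) .leaf) (9635, 0, 15, 18268) (.node .leaf (9636,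 0, 17, 118332) .leaf)) (9638, 0, 18, 40473) (.node (.node .leaf (9640, 0, 18, 153299) .leaf) (9642, 0, 15, 164514) (.node .leaf (9645, 0, 15, 199618) .leaf))))) (9647, 0, 16, 104594) (.node (.node (.node (.node (.node .leaf (9649, 0, 13, 225068) .leaf) (9651, 0, 15, 97253) (.node .leaf (9652, 0, 18, 177572) .leaf)) (9654, 0, 16, 89558) (.node (.node .leaf (9656, 0, 17, 8229) .leaf) (9658, 0, 17, 64247) (.node .leaf (9661, 0, 13, 1558) .leaf))) (9663, 0, 18, 257636) (.node (.node (.node .leaf (9665, 0, 15, 114913) .leaf) (9667, 0, 14, 141459) (.node .leaf (9668, 0, 18, 110415) .leaf)) (9670, 0, 17, 65386) (.node (.node .leaf (9672, 0, 17, 226131) .leaf) (9674, 0, 17, 39713) (.node .leaf (9677, 0, 15, 223921) .leaf)))) (9679, 0, 15, 48402) (.node (.node (.node (.node .leaf (9681, 0, 16, 200287) .leaf) (9683, 0, 17, 155258) (.node .leaf (9684, 0, 15, 233508) .leaf)) (9686, 0, 16, 165695) (.node (.node .leaf (9688, 0, 17, 66981) .leaf) (9690, 0, 17, 191959) (.node .leaf (9693, 0, 17, 70372) .leaf)))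 (9695, 0, 14, 183268) (.node (.node (.node .leaf (9696, 0, 17, 171417) .leaf) (9698, 0, 16, 68791) (.node .leaf (9701, 0, 13, 180982) .leaf)) (9703, 0, 14, 201977) (.node (.node .leaf (9705, 0, 16, 22631) .leaf) (9707, 0, 17, 245509) (.node .leaf (9708, 0, 16, 33058) .leaf))))))

/-- part of the orbit tree -/
def itp0_145 : Tree := (.node itp0_141 (9326, 0, 18, 52924) itp0_142)

/-- part of the orbit tree -/
def itp0_146 : Tree := (.node itp0_143 (9583, 0, 17, 239211) itp0_144)

/-- part of the orbit tree -/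
def itp0_147 : Tree := (.node (.node (.node (.node (.node (.node .leaf (9712, 0, 14, 37427) .leaf) (9714, 0, 14, 112105) (.node .leaf (9717, 0, 14, 15497) .leaf)) (9719, 0, 18, 220274) (.node (.node .leaf (9721, 0, 16, 139314) .leaf) (9723, 0, 17, 117235) (.node .leaf (9724, 0, 18, 194935) .leaf))) (9726, 0, 17, 239954) (.node (.node (.node .leaf (9732, 0, 13, 253127) .leaf) (9733, 0, 11, 212129) (.node .leaf (9734, 0, 14, 167138) .leaf)) (9735, 0, 15, 220578) (.node (.node .leaf (9736, 0, 16, 114812) .leaf) (9737, 0, 11, 139345) (.node .leaf (9738, 0, 16, 233741) .leaf)))) (9739, 0, 17, 116771) (.node (.node (.node (.node .leaf (9748, 0, 14, 39432) .leaf) (9749, 0, 13, 83188) (.node .leaf (9750, 0, 19, 62647) .leaf)) (9751, 0, 14, 5329) (.node (.node .leaf (9752, 0, 16, 135049) .leaf) (9753, 0, 16, 219215) (.node .leaf (9754, 0, 17, 124923) .leaf))) (9755, 0, 16, 245461) (.node (.node (.node .leaf (9760, 0, 16, 126697) .leaf) (9761, 0, 18, 243655) (.node .leaf (9762, 0, 16, 114228) .leaf))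 (9763, 0, 16, 24501) (.node (.node .leaf (9772, 0, 16, 193194) .leaf) (9773, 0, 16, 74310) (.node .leaf (9774, 0, 19, 37658) .leaf))))) (9775, 0, 14, 213737) (.node (.node (.node (.node (.node .leaf (9776, 0, 15, 169540) .leaf) (9777, 0, 14, 161314) (.node .leaf (9778, 0, 16, 28781) .leaf)) (9779, 0, 14, 206343) (.node (.node .leaf (9788, 0, 16, 69022) .leaf) (9789, 0, 18, 27289) (.node .leaf (9790, 0, 15, 189932) .leaf))) (9791, 0, 17, 80572) (.node (.node (.node .leaf (9792, 0, 18, 36706) .leaf) (9793, 0, 14, 28420) (.node .leaf (9794, 0, 16, 205595) .leaf)) (9795, 0, 17, 96821) (.node (.node .leaf (9804, 0, 14, 168921) .leaf) (9805, 0, 15, 160703) (.node .leaf (9806, 0, 17, 112282) .leaf)))) (9807, 0, 16, 205722) (.node (.node (.node (.node .leaf (9808, 0, 15, 179615) .leaf) (9809, 0, 15, 137041) (.node .leaf (9810, 0, 15, 87533) .leaf)) (9811, 0, 18, 214900) (.node (.node .leaf (9820, 0, 17, 10270) .leaf) (9821, 0, 17, 3050) (.node .leaf (9822, 0, 18, 245868) .leaf))) (9823, 0, 16, 104770)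 (.node (.node (.node .leaf (9828, 0, 18, 248190) .leaf) (9829, 0, 17, 220626) (.node .leaf (9830, 0, 17, 191889) .leaf)) (9831, 0, 16, 161826) (.node (.node .leaf (9832, 0, 16, 106767) .leaf) (9833, 0, 18, 198097) (.node .leaf (9834, 0, 15, 177293) .leaf))))))

/-- part of the orbit tree -/
def itp0_148 : Tree := (.node (.node (.node (.node (.node (.node .leaf (9844, 0, 17, 114568) .leaf) (9845, 0, 18, 255654) (.node .leaf (9846, 0, 14, 153594) .leaf)) (9847, 0, 13, 30114) (.node (.node .leaf (9848, 0, 18, 252250) .leaf) (9849, 0, 14, 211260) (.node .leaf (9850, 0, 18, 166271) .leaf))) (9851, 0, 18, 157977) (.node (.node (.node .leaf (9856, 0, 11, 94958) .leaf) (9857, 0, 15, 96932) (.node .leaf (9858, 0, 17, 52216) .leaf)) (9859, 0, 15, 49837) (.node (.node .leaf (9868, 0, 14, 112139) .leaf) (9869, 0, 17, 233011) (.node .leaf (9870, 0, 11, 155257) .leaf)))) (9871, 0, 18, 1879) (.node (.node (.node (.node .leaf (9872, 0, 16, 199355) .leaf) (9873, 0, 17, 199762) (.node .leaf (9874, 0, 14, 154270)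 .leaf)) (9875, 0, 16, 178936) (.node (.node .leaf (9884, 0, 12, 71168) .leaf) (9885, 0, 17, 104915) (.node .leaf (9886, 0, 17, 17957) .leaf))) (9887, 0, 17, 42563) (.node (.node (.node .leaf (9892, 0, 16, 147512) .leaf) (9893, 0, 16, 161971) (.node .leaf (9894, 0, 17, 248303) .leaf)) (9895, 0, 17, 102593) (.node (.node .leaf (9896, 0, 15, 177180) .leaf) (9897, 0, 18, 48357) (.node .leaf (9898, 0, 16, 89198) .leaf))))) (9899, 0, 15, 126144) (.node (.node (.node (.node (.node .leaf (9908, 0, 19, 14445) .leaf) (9909, 0, 16, 3653) (.node .leaf (9910, 0, 14, 92232) .leaf)) (9911, 0, 16, 255543) (.node (.node .leaf (9912, 0, 16, 140502) .leaf) (9913, 0, 18, 181424) (.node .leaf (9914, 0, 18, 207512) .leaf))) (9915, 0, 12, 95158) (.node (.node (.node .leaf (9924, 0, 14, 139595) .leaf) (9925, 0, 11, 180525) (.node .leaf (9926, 0, 12, 225646) .leaf)) (9927, 0, 15, 233736) (.node (.node .leaf (9928, 0, 13, 15856) .leaf) (9929, 0, 17, 56726) (.node .leaf (9930, 0, 18, 31214) .leaf)))) (9931, 0, 16, 101811)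 (.node (.node (.node (.node .leaf (9940, 0, 16, 22814) .leaf) (9941, 0, 15, 47480) (.node .leaf (9942, 0, 18, 39577) .leaf)) (9943, 0, 16, 181175) (.node (.node .leaf (9944, 0, 17, 148901) .leaf) (9945, 0, 15, 173507) (.node .leaf (9946, 0, 17, 202112) .leaf))) (9947, 0, 16, 22070) (.node (.node (.node .leaf (9952, 0, 16, 70557) .leaf) (9953, 0, 16, 127995) (.node .leaf (9954, 0, 17, 17336) .leaf)) (9955, 0, 17, 41950) (.node (.node .leaf (9964, 0, 15, 200486) .leaf) (9965, 0, 14, 182949) (.node .leaf (9966, 0, 17, 155395) .leaf))))))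

/-- part of the orbit tree -/
def itp0_149 : Tree := (.node (.node (.node (.node (.node (.node .leaf (9968, 0, 18, 224200) .leaf) (9969, 0, 17, 232366) (.node .leaf (9970, 0, 15, 235662) .leaf)) (9971, 0, 12, 115104) (.node (.node .leaf (9980, 0, 16, 189821) .leaf) (9981, 0, 15, 48211) (.node .leaf (9982, 0, 17, 68879) .leaf))) (9983, 0, 16, 50992) (.node (.node (.node .leaf (9984, 0, 16, 29696) .leaf) (9985, 0, 17, 142638) (.node .leaf (9986, 0, 14, 71605) .leaf)) (9987, 0, 16, 128979) (.node (.node .leaf (9996, 0, 16, 154411) .leaf) (9997, 0, 17, 179021) (.node .leaf (9998, 0, 14, 199438) .leaf)))) (9999, 0, 13, 217309) (.node (.node (.node (.node .leaf (10000, 0, 14, 131830) .leaf) (10001, 0, 16, 188323) (.node .leaf (10002, 0, 16, 125572) .leaf)) (10003, 0, 16, 242602) (.node (.node .leaf (10012, 0, 16, 38775) .leaf) (10013, 0, 17, 183897) (.node .leaf (10014, 0, 17, 229125) .leaf))) (10015, 0, 14, 103229) (.node (.node (.node .leaf (10020, 0, 16, 226839) .leaf) (10021, 0, 14, 77625) (.node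 .leaf (10022, 0, 12, 140643) .leaf)) (10023, 0, 15, 181509) (.node (.node .leaf (10024, 0, 16, 123798) .leaf) (10025, 0, 14, 244408) (.node .leaf (10026, 0, 16, 14808) .leaf))))) (10027, 0, 18, 55742) (.node (.node (.node (.node (.node .leaf (10036, 0, 18, 65761) .leaf) (10037, 0, 11, 126325) (.node .leaf (10038, 0, 18, 190611) .leaf)) (10039, 0, 18, 45501) (.node (.node .leaf (10040, 0, 17, 234848) .leaf) (10041, 0, 13, 117838) (.node .leaf (10042, 0, 16, 147853) .leaf))) (10043, 0, 16, 140348) (.node (.node (.node .leaf (10052, 0, 12, 201781) .leaf) (10053, 0, 16, 259155) (.node .leaf (10054, 0, 12, 113637) .leaf)) (10055, 0, 18, 173174) (.node (.node .leaf (10056, 0, 17, 50710) .leaf) (10057, 0, 16, 125160) (.node .leaf (10058, 0, 16, 22699) .leaf)))) (10059, 0, 17, 96074) (.node (.node (.node (.node .leaf (10068, 0, 16, 93280) .leaf) (10069, 0, 15, 162895) (.node .leaf (10070, 0, 18, 249107) .leaf)) (10071, 0, 10, 56355) (.node (.node .leaf (10072, 0, 13, 176352) .leaf) (10073, 0, 13, 233661)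 (.node .leaf (10074, 0, 16, 139518) .leaf))) (10075, 0, 10, 197052) (.node (.node (.node .leaf (10080, 0, 17, 86400) .leaf) (10081, 0, 15, 50821) (.node .leaf (10082, 0, 14, 95942) .leaf)) (10083, 0, 11, 57564) (.node (.node .leaf (10092, 0, 11, 246785) .leaf) (10093, 0, 16, 105775) (.node .leaf (10094, 0, 17, 223869) .leaf))))))

/-- part of the orbit tree -/
def itp0_150 : Tree := (.node (.node (.node (.node (.node (.node .leaf (10096, 0, 13, 206710) .leaf) (10097, 0, 18, 97880) (.node .leaf (10098, 0, 16, 200339) .leaf)) (10099, 0, 17, 257781) (.node (.node .leaf (10108, 0, 13, 16909) .leaf) (10109, 0, 15, 256985) (.node .leaf (10110, 0, 17, 154245) .leaf))) (10111, 0, 16, 939) (.node (.node (.node .leaf (10116, 0, 16, 113524) .leaf) (10117, 0, 15, 133599) (.node .leaf (10118, 0, 17, 244124) .leaf)) (10119, 0, 15, 219642) (.node (.node .leaf (10120, 0, 14, 62722) .leaf) (10121, 0, 12, 96219) (.node .leaf (10122, 0, 18, 50823) .leaf)))) (10123, 0, 18, 171945) (.node (.node (.node (.node .leaf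 (10132, 0, 17, 249218) .leaf) (10133, 0, 13, 103596) (.node .leaf (10134, 0, 15, 9712) .leaf)) (10135, 0, 13, 163038) (.node (.node .leaf (10136, 0, 13, 167255) .leaf) (10137, 0, 14, 159025) (.node .leaf (10138, 0, 18, 176241) .leaf))) (10139, 0, 17, 59743) (.node (.node (.node .leaf (10144, 0, 13, 178531) .leaf) (10145, 0, 16, 80649) (.node .leaf (10146, 0, 16, 35658) .leaf)) (10147, 0, 13, 27436) (.node (.node .leaf (10156, 0, 18, 11490) .leaf) (10157, 0, 17, 206770) (.node .leaf (10158, 0, 14, 169969) .leaf))))) (10159, 0, 15, 105918) (.node (.node (.node (.node (.node .leaf (10160, 0, 10, 53141) .leaf) (10161, 0, 17, 213852) (.node .leaf (10162, 0, 12, 193311) .leaf)) (10163, 0, 17, 136057) (.node (.node .leaf (10172, 0, 13, 154132) .leaf) (10173, 0, 18, 90087) (.node .leaf (10174, 0, 15, 61348) .leaf))) (10175, 0, 18, 256840) (.node (.node (.node .leaf (10176, 0, 15, 113180) .leaf) (10177, 0, 11, 88698) (.node .leaf (10178, 0, 16, 29841) .leaf)) (10179, 0, 15, 142783) (.node (.node .leaf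 (10188, 0, 17, 239271) .leaf) (10189, 0, 14, 214721) (.node .leaf (10190, 0, 17, 188688) .leaf)))) (10191, 0, 15, 47166) (.node (.node (.node (.node .leaf (10192, 0, 17, 125461) .leaf) (10193, 0, 15, 242491) (.node .leaf (10194, 0, 16, 131687) .leaf)) (10195, 0, 18, 23369) (.node (.node .leaf (10204, 0, 12, 229268) .leaf) (10205, 0, 14, 81556) (.node .leaf (10206, 0, 16, 36567) .leaf))) (10207, 0, 15, 184008) (.node (.node (.node .leaf (10212, 0, 14, 40692) .leaf) (10213, 0, 16, 182234) (.node .leaf (10214, 0, 11, 226950) .leaf)) (10215, 0, 15, 77736) (.node (.node .leaf (10216, 0, 16, 38001) .leaf) (10217, 0, 15, 29719) .leaf)))))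

/-- part of the orbit tree -/
def itp0_151 : Tree := (.node itp0_147 (9835, 0, 18, 4428) itp0_148)

/-- part of the orbit tree -/
def itp0_152 : Tree := (.node itp0_149 (10095, 0, 16, 231963) itp0_150)

/-- part of the orbit tree -/
def itp0_153 : Tree := (.node itp0_145 (9455, 0, 17, 168725) itp0_146)

/-- part of the orbit tree -/
def itp0_154 : Tree := (.node itp0_151 (9967, 0, 14, 180069) itp0_152)

/-- part of the orbit tree -/
def itp0_155 : Tree := (.node itp0_139 (8689, 0, 13, 116457) itp0_140)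

/-- part of the orbit tree -/
def itp0_156 : Tree := (.node itp0_153 (9710, 0, 16, 235830) itp0_154)

/-- part of the orbit tree -/
def itp0_157 : Tree := (.node (.node (.node (.node (.node (.node .leaf (10219, 0, 16, 74802) .leaf) (10228, 0, 15, 190466) (.node .leaf (10229, 0, 19, 4345) .leaf)) (10230, 0, 13, 106682) (.node (.node .leaf (10231, 0, 16, 82140) .leaf) (10232, 0, 14, 191524) (.node .leaf (10233, 0, 16, 140461) .leaf))) (10234, 0, 15, 244737) (.node (.node (.node .leaf (10235, 0, 13, 117983) .leaf) (10240, 0, 17, 44320) (.node .leaf (10243, 0, 17, 159576) .leaf)) (10244, 0, 18, 37891) (.node (.node .leaf (10247, 0, 16, 4165) .leaf) (10249, 0, 16, 157918) (.node .leaf (10250, 0, 15, 56554) .leaf)))) (10253, 0, 16, 201387) (.node (.node (.node (.node .leaf (10254, 0, 16, 173047) .leaf) (10256, 0, 16, 185717) (.node .leaf (10259, 0, 18, 6574) .leaf)) (10260, 0, 17, 251887) (.node (.node .leaf (10263, 0, 17, 157363) .leaf) (10265, 0, 17, 203584) (.node .leaf (10266, 0, 12, 174620)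 .leaf))) (10269, 0, 16, 91229) (.node (.node (.node .leaf (10270, 0, 16, 54529) .leaf) (10273, 0, 14, 214707) (.node .leaf (10274, 0, 16, 194288) .leaf)) (10277, 0, 19, 229264) (.node (.node .leaf (10278, 0, 17, 210017) .leaf) (10280, 0, 12, 149906) (.node .leaf (10283, 0, 15, 260302) .leaf))))) (10284, 0, 18, 113262) (.node (.node (.node (.node (.node .leaf (10287, 0, 17, 2605) .leaf) (10289, 0, 18, 167126) (.node .leaf (10290, 0, 15, 36517) .leaf)) (10293, 0, 16, 67525) (.node (.node .leaf (10294, 0, 13, 82583) .leaf) (10296, 0, 9, 16228) (.node .leaf (10299, 0, 17, 150363) .leaf))) (10300, 0, 15, 147577) (.node (.node (.node .leaf (10303, 0, 14, 258341) .leaf) (10305, 0, 13, 206784) (.node .leaf (10306, 0, 16, 28412) .leaf)) (10309, 0, 16, 237757) (.node (.node .leaf (10310, 0, 18, 175776) .leaf) (10312, 0, 14, 224274) (.node .leaf (10315, 0, 16, 21117) .leaf)))) (10316, 0, 13, 121629) (.node (.node (.node (.node .leaf (10319, 0, 16, 27486) .leaf) (10321, 0, 19, 239958) (.node .leaf (10322,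 0, 17, 137226) .leaf)) (10325, 0, 15, 120395) (.node (.node .leaf (10326, 0, 16, 55029) .leaf) (10328, 0, 13, 236139) (.node .leaf (10331, 0, 12, 43960) .leaf))) (10332, 0, 14, 238408) (.node (.node (.node .leaf (10335, 0, 16, 185509) .leaf) (10336, 0, 14, 195460) (.node .leaf (10339, 0, 14, 215768) .leaf)) (10340, 0, 11, 33945) (.node (.node .leaf (10343, 0, 15, 83251) .leaf) (10345, 0, 16, 18486) (.node .leaf (10346, 0, 16, 129386) .leaf))))))

/-- part of the orbit tree -/
def itp0_158 : Tree := (.node (.node (.node (.node (.node (.node .leaf (10350, 0, 17, 229581) .leaf) (10352, 0, 16, 36210) (.node .leaf (10355, 0, 16, 197701) .leaf)) (10356, 0, 16, 167205) (.node (.node .leaf (10359, 0, 11, 213811) .leaf) (10361, 0, 18, 147136) (.node .leaf (10362, 0, 11, 233372) .leaf))) (10365, 0, 17, 18651) (.node (.node (.node .leaf (10366, 0, 17, 127105) .leaf) (10369, 0, 15, 145219) (.node .leaf (10370, 0, 17, 223759) .leaf)) (10373, 0, 16, 18526) (.node (.node .leaf (10374, 0, 18, 129282) .leaf)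 (10376, 0, 13, 8114) (.node .leaf (10379, 0, 15, 79277) .leaf)))) (10380, 0, 16, 195564) (.node (.node (.node (.node .leaf (10383, 0, 18, 215728) .leaf) (10385, 0, 17, 16821) (.node .leaf (10386, 0, 17, 127209) .leaf)) (10389, 0, 12, 147112) (.node (.node .leaf (10390, 0, 10, 76665) .leaf) (10392, 0, 18, 193031) (.node .leaf (10395, 0, 16, 251812) .leaf))) (10396, 0, 17, 36122) (.node (.node (.node .leaf (10399, 0, 19, 257671) .leaf) (10400, 0, 16, 70503) (.node .leaf (10403, 0, 14, 41531) .leaf)) (10404, 0, 17, 67836) (.node (.node .leaf (10407, 0, 18, 47295) .leaf) (10409, 0, 17, 237781) (.node .leaf (10410, 0, 15, 148578) .leaf))))) (10413, 0, 15, 122824) (.node (.node (.node (.node (.node .leaf (10414, 0, 16, 28308) .leaf) (10416, 0, 16, 215434) (.node .leaf (10419, 0, 18, 185549) .leaf)) (10420, 0, 18, 225449) (.node (.node .leaf (10423, 0, 17, 180458) .leaf) (10425, 0, 18, 120355) (.node .leaf (10426, 0, 17, 15415) .leaf))) (10429, 0, 12, 111959) (.node (.node (.node .leaf (10430, 0,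 17, 137314) .leaf) (10432, 0, 18, 14055) (.node .leaf (10435, 0, 17, 100283) .leaf)) (10436, 0, 16, 150010) (.node (.node .leaf (10439, 0, 12, 260262) .leaf) (10441, 0, 17, 234834) (.node .leaf (10442, 0, 14, 140561) .leaf)))) (10445, 0, 18, 64072) (.node (.node (.node (.node .leaf (10446, 0, 14, 84756) .leaf) (10448, 0, 17, 207097) (.node .leaf (10451, 0, 17, 258381) .leaf)) (10452, 0, 15, 201178) (.node (.node .leaf (10455, 0, 16, 172441) .leaf) (10457, 0, 17, 62371) (.node .leaf (10458, 0, 15, 23876) .leaf))) (10461, 0, 17, 167102) (.node (.node (.node .leaf (10462, 0, 16, 212450) .leaf) (10465, 0, 15, 201411) (.node .leaf (10466, 0, 15, 172959) .leaf)) (10469, 0, 16, 93662) (.node (.node .leaf (10470, 0, 15, 56450) .leaf) (10472, 0, 14, 32449) (.node .leaf (10475, 0, 14, 4141) .leaf))))))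

/-- part of the orbit tree -/
def itp0_159 : Tree := (.node (.node (.node (.node (.node (.node .leaf (10479, 0, 17, 159536) .leaf) (10481, 0, 17, 91189) (.node .leaf (10482, 0, 17, 95017) .leaf)) (10485, 0, 15, 64073) (.node (.node .leaf (10486, 0, 18, 174708) .leaf) (10488, 0, 16, 132756) (.node .leaf (10491, 0, 16, 157403) .leaf))) (10492, 0, 17, 108698) (.node (.node (.node .leaf (10495, 0, 17, 233460) .leaf) (10497, 0, 13, 257842) (.node .leaf (10498, 0, 16, 53653) .leaf)) (10501, 0, 16, 204756) (.node (.node .leaf (10502, 0, 18, 175752) .leaf) (10504, 0, 18, 76492) (.node .leaf (10507, 0, 13, 39567) .leaf)))) (10508, 0, 12, 109670) (.node (.node (.node (.node .leaf (10511, 0, 14, 41900) .leaf) (10513, 0, 16, 202303) (.node .leaf (10514, 0, 14, 173923) .leaf)) (10517, 0, 16, 92450) (.node (.node .leaf (10518, 0, 18, 55422) .leaf) (10520, 0, 7, 107917) (.node .leaf (10523, 0, 14, 5329) .leaf))) (10524, 0, 16, 224186) (.node (.node (.node .leaf (10527, 0, 17, 158668) .leaf) (10528, 0, 16,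 148717) (.node .leaf (10531, 0, 12, 111842) .leaf)) (10532, 0, 17, 15746) (.node (.node .leaf (10535, 0, 16, 101036) .leaf) (10537, 0, 17, 63327) (.node .leaf (10538, 0, 17, 83459) .leaf))))) (10541, 0, 15, 194684) (.node (.node (.node (.node (.node .leaf (10542, 0, 13, 215103) .leaf) (10544, 0, 15, 12827) (.node .leaf (10547, 0, 16, 99143) .leaf)) (10548, 0, 14, 150790) (.node (.node .leaf (10551, 0, 11, 259476) .leaf) (10553, 0, 18, 164265) (.node .leaf (10554, 0, 16, 67913) .leaf))) (10557, 0, 17, 65204) (.node (.node (.node .leaf (10558, 0, 17, 77930) .leaf) (10560, 0, 16, 221549) (.node .leaf (10563, 0, 15, 184369) .leaf)) (10564, 0, 18, 73328) (.node (.node .leaf (10567, 0, 15, 126130) .leaf) (10569, 0, 14, 119519) (.node .leaf (10570, 0, 17, 25475) .leaf)))) (10573, 0, 17, 170255) (.node (.node (.node (.node .leaf (10574, 0, 15, 207180) .leaf) (10576, 0, 16, 138631) (.node .leaf (10579, 0, 16, 241092) .leaf)) (10580, 0, 16, 223366) (.node (.node .leaf (10583, 0, 18, 186842) .leaf) (10585,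 0, 17, 55417) (.node .leaf (10586, 0, 17, 92218) .leaf))) (10589, 0, 14, 121652) (.node (.node (.node .leaf (10590, 0, 16, 86297) .leaf) (10593, 0, 18, 233025) (.node .leaf (10594, 0, 18, 146946) .leaf)) (10597, 0, 14, 243554) (.node (.node .leaf (10598, 0, 16, 232200) .leaf) (10600, 0, 14, 84927) (.node .leaf (10603, 0, 13, 64508) .leaf))))))

/-- part of the orbit tree -/
def itp0_160 : Tree := (.node (.node (.node (.node (.node (.node .leaf (10607, 0, 17, 80058) .leaf) (10609, 0, 16, 128532) (.node .leaf (10610, 0, 15, 18007) .leaf)) (10613, 0, 15, 19618) (.node (.node .leaf (10614, 0, 14, 32628) .leaf) (10616, 0, 15, 209898) (.node .leaf (10619, 0, 18, 164777) .leaf))) (10620, 0, 18, 199369) (.node (.node (.node .leaf (10623, 0, 16, 178826) .leaf) (10624, 0, 17, 104542) (.node .leaf (10627, 0, 16, 80082) .leaf)) (10628, 0, 17, 194195) (.node (.node .leaf (10631, 0, 15, 214991) .leaf) (10633, 0, 17, 220576) (.node .leaf (10634, 0, 17, 191971) .leaf)))) (10637, 0, 17, 17697) (.node (.node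 (.node (.node .leaf (10638, 0, 16, 128125) .leaf) (10640, 0, 17, 196472) (.node .leaf (10643, 0, 16, 216612) .leaf)) (10644, 0, 15, 252200) (.node (.node .leaf (10647, 0, 18, 158059) .leaf) (10649, 0, 17, 75253) (.node .leaf (10650, 0, 15, 38326) .leaf))) (10653, 0, 15, 72918) (.node (.node (.node .leaf (10654, 0, 15, 230027) .leaf) (10657, 0, 16, 241066) (.node .leaf (10658, 0, 19, 246670) .leaf)) (10661, 0, 14, 119479) (.node (.node .leaf (10662, 0, 16, 25579) .leaf) (10664, 0, 16, 46643) (.node .leaf (10667, 0, 16, 44868) .leaf))))) (10668, 0, 16, 36624) (.node (.node (.node (.node (.node .leaf (10671, 0, 18, 184409) .leaf) (10673, 0, 18, 2968) (.node .leaf (10674, 0, 16, 27136) .leaf)) (10677, 0, 18, 12987) (.node (.node .leaf (10678, 0, 14, 136477) .leaf) (10680, 0, 13, 183910) (.node .leaf (10683, 0, 14, 186802) .leaf))) (10684, 0, 15, 71667) (.node (.node (.node .leaf (10687, 0, 17, 42671) .leaf) (10689, 0, 16, 135870) (.node .leaf (10690, 0, 16, 211318) .leaf)) (10693, 0, 17, 63287)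 (.node (.node .leaf (10694, 0, 14, 83563) .leaf) (10696, 0, 14, 15256) (.node .leaf (10699, 0, 17, 101060) .leaf)))) (10700, 0, 15, 61027) (.node (.node (.node (.node .leaf (10703, 0, 16, 89632) .leaf) (10705, 0, 18, 27371) (.node .leaf (10706, 0, 15, 85888) .leaf)) (10709, 0, 14, 164289) (.node (.node .leaf (10710, 0, 15, 123787) .leaf) (10712, 0, 15, 175893) (.node .leaf (10715, 0, 16, 204630) .leaf))) (10716, 0, 17, 169526) (.node (.node (.node .leaf (10719, 0, 14, 206453) .leaf) (10720, 0, 17, 109582) (.node .leaf (10723, 0, 17, 18798) .leaf)) (10724, 0, 14, 114702) (.node (.node .leaf (10727, 0, 14, 156239) .leaf) (10729, 0, 12, 204732) (.node .leaf (10730, 0, 12, 175840) .leaf))))))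

/-- part of the orbit tree -/
def itp0_161 : Tree := (.node itp0_157 (10349, 0, 16, 145195) itp0_158)

/-- part of the orbit tree -/
def itp0_162 : Tree := (.node itp0_159 (10604, 0, 17, 94876) itp0_160)

/-- part of the orbit tree -/
def itp0_163 : Tree := (.node (.node (.node (.node (.node (.node .leaf (10734, 0, 17, 177587) .leaf) (10736, 0, 17, 252664) (.node .leaf (10739, 0, 13, 158628) .leaf)) (10740, 0, 17, 243803) (.node (.node .leaf (10743, 0, 17, 133144) .leaf) (10745, 0, 14, 92490) (.node .leaf (10746, 0, 16, 62661) .leaf))) (10749, 0, 17, 97701) (.node (.node (.node .leaf (10750, 0, 14, 52710) .leaf) (10754, 0, 14, 119157) (.node .leaf (10755, 0, 17, 158324) .leaf)) (10758, 0, 16, 125014) (.node (.node .leaf (10759, 0, 17, 67632) .leaf) (10760, 0, 17, 173256) (.node .leaf (10761, 0, 18, 92314) .leaf)))) (10764, 0, 17, 171499) (.node (.node (.node (.node .leaf (10765, 0, 15, 163213) .leaf) (10770, 0, 14, 239904) (.node .leaf (10771, 0, 19, 7298) .leaf)) (10774, 0, 13, 15025) (.node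 (.node .leaf (10775, 0, 17, 156575) .leaf) (10776, 0, 18, 83778) (.node .leaf (10777, 0, 18, 204396) .leaf))) (10780, 0, 16, 58814) (.node (.node (.node .leaf (10781, 0, 17, 1496) .leaf) (10784, 0, 15, 173602) (.node .leaf (10785, 0, 15, 223939) .leaf)) (10788, 0, 15, 55615) (.node (.node .leaf (10789, 0, 12, 218080) .leaf) (10794, 0, 11, 65304) (.node .leaf (10795, 0, 18, 8062) .leaf))))) (10798, 0, 14, 252881) (.node (.node (.node (.node (.node .leaf (10799, 0, 15, 99071) .leaf) (10800, 0, 18, 127728) (.node .leaf (10801, 0, 17, 166394) .leaf)) (10804, 0, 18, 176073) (.node (.node .leaf (10805, 0, 15, 63207) .leaf) (10810, 0, 17, 250426) (.node .leaf (10811, 0, 15, 157483) .leaf))) (10814, 0, 17, 109863) (.node (.node (.node .leaf (10815, 0, 16, 155144) .leaf) (10816, 0, 16, 230306) (.node .leaf (10817, 0, 15, 199600) .leaf)) (10820, 0, 17, 250613) (.node (.node .leaf (10821, 0, 14, 238993) .leaf) (10826, 0, 16, 40555) (.node .leaf (10827, 0, 15, 186466) .leaf)))) (10830, 0, 17, 196177) (.node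 (.node (.node (.node .leaf (10831, 0, 15, 18222) .leaf) (10832, 0, 18, 103299) (.node .leaf (10833, 0, 15, 95205) .leaf)) (10836, 0, 15, 109216) (.node (.node .leaf (10837, 0, 14, 84678) .leaf) (10842, 0, 17, 190014) (.node .leaf (10843, 0, 15, 44692) .leaf))) (10846, 0, 9, 188189) (.node (.node (.node .leaf (10847, 0, 16, 147323) .leaf) (10850, 0, 13, 110598) (.node .leaf (10851, 0, 18, 86112) .leaf)) (10854, 0, 17, 223687) (.node (.node .leaf (10855, 0, 17, 92483) .leaf) (10856, 0, 19, 181691) (.node .leaf (10857, 0, 15, 140765) .leaf))))))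

/-- part of the orbit tree -/
def itp0_164 : Tree := (.node (.node (.node (.node (.node (.node .leaf (10861, 0, 18, 143879) .leaf) (10866, 0, 18, 221228) (.node .leaf (10867, 0, 16, 80130) .leaf)) (10870, 0, 15, 73521) (.node (.node .leaf (10871, 0, 18, 200982) .leaf) (10872, 0, 17, 48622) (.node .leaf (10873, 0, 17, 146412) .leaf))) (10876, 0, 16, 33997) (.node (.node (.node .leaf (10877, 0, 16, 17649) .leaf) (10880, 0, 17, 136794) (.node .leaf (10881, 0, 16, 194108) .leaf)) (10884, 0, 17, 143225) (.node (.node .leaf (10885, 0, 16, 19826) .leaf) (10890, 0, 16, 223663) (.node .leaf (10891, 0, 16, 99201) .leaf)))) (10894, 0, 18, 71346) (.node (.node (.node (.node .leaf (10895, 0, 18, 216988) .leaf) (10896, 0, 17, 28175) (.node .leaf (10897, 0, 17, 17561) .leaf)) (10900, 0, 19, 25258) (.node (.node .leaf (10901, 0, 18, 146308) .leaf) (10906, 0, 17, 203698) (.node .leaf (10907, 0, 17, 261076) .leaf))) (10910, 0, 14, 205457) (.node (.node (.node .leaf (10911, 0, 16, 80234) .leaf) (10914, 0, 16,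 19850) (.node .leaf (10915, 0, 18, 42775) .leaf)) (10918, 0, 15, 29865) (.node (.node .leaf (10919, 0, 13, 186378) .leaf) (10920, 0, 15, 210999) (.node .leaf (10921, 0, 11, 251985) .leaf))))) (10924, 0, 17, 230346) (.node (.node (.node (.node (.node .leaf (10925, 0, 15, 121572) .leaf) (10930, 0, 13, 35023) (.node .leaf (10931, 0, 14, 185785) .leaf)) (10934, 0, 14, 194514) (.node (.node .leaf (10935, 0, 17, 44796) .leaf) (10936, 0, 17, 82018) (.node .leaf (10937, 0, 15, 106500) .leaf))) (10940, 0, 13, 96577) (.node (.node (.node .leaf (10941, 0, 11, 104743) .leaf) (10946, 0, 18, 11513) (.node .leaf (10947, 0, 18, 52383) .leaf)) (10950, 0, 19, 5594) (.node (.node .leaf (10951, 0, 17, 261514) .leaf) (10952, 0, 17, 219460) (.node .leaf (10953, 0, 15, 244002) .leaf)))) (10956, 0, 17, 173642) (.node (.node (.node (.node .leaf (10957, 0, 18, 229377) .leaf) (10962, 0, 17, 152748) (.node .leaf (10963, 0, 17, 259169) .leaf)) (10966, 0, 13, 159119) (.node (.node .leaf (10967, 0, 17, 101244) .leaf) (10968,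 0, 18, 176033) (.node .leaf (10969, 0, 16, 115063) .leaf))) (10972, 0, 17, 71730) (.node (.node (.node .leaf (10973, 0, 17, 129108) .leaf) (10976, 0, 17, 85697) (.node .leaf (10977, 0, 14, 169807) .leaf)) (10980, 0, 19, 151050) (.node (.node .leaf (10981, 0, 15, 175724) .leaf) (10986, 0, 17, 66196) (.node .leaf (10987, 0, 17, 5377) .leaf))))))

/-- part of the orbit tree -/
def itp0_165 : Tree := (.node (.node (.node (.node (.node (.node .leaf (10991, 0, 17, 158236) .leaf) (10992, 0, 15, 210999) (.node .leaf (10993, 0, 14, 90393) .leaf)) (10996, 0, 17, 83754) (.node (.node .leaf (10997, 0, 11, 54841) .leaf) (11002, 0, 15, 15065) (.node .leaf (11003, 0, 16, 236199) .leaf))) (11006, 0, 18, 148932) (.node (.node (.node .leaf (11007, 0, 15, 238468) .leaf) (11008, 0, 16, 212171) (.node .leaf (11009, 0, 16, 246594) .leaf)) (11012, 0, 16, 82902) (.node (.node .leaf (11013, 0, 18, 260705) .leaf) (11018, 0, 17, 22169) (.node .leaf (11019, 0, 15, 46847) .leaf)))) (11022, 0, 18, 28602) (.node (.node (.node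 (.node .leaf (11023, 0, 17, 6166) .leaf) (11024, 0, 18, 88945) (.node .leaf (11025, 0, 17, 201491) .leaf)) (11028, 0, 16, 210208) (.node (.node .leaf (11029, 0, 15, 93198) .leaf) (11034, 0, 17, 149715) (.node .leaf (11035, 0, 15, 4605) .leaf))) (11038, 0, 15, 137199) (.node (.node (.node .leaf (11039, 0, 16, 194441) .leaf) (11042, 0, 17, 108979) (.node .leaf (11043, 0, 16, 104594) .leaf)) (11046, 0, 15, 251566) (.node (.node .leaf (11047, 0, 17, 106929) .leaf) (11048, 0, 14, 174941) (.node .leaf (11049, 0, 18, 62067) .leaf))))) (11052, 0, 15, 144490) (.node (.node (.node (.node (.node .leaf (11053, 0, 17, 167278) .leaf) (11058, 0, 15, 253765) (.node .leaf (11059, 0, 13, 99947) .leaf)) (11062, 0, 15, 211330) (.node (.node .leaf (11063, 0, 14, 260470) .leaf) (11064, 0, 16, 29980) (.node .leaf (11065, 0, 15, 38266) .leaf))) (11068, 0, 17, 19519) (.node (.node (.node .leaf (11069, 0, 16, 64408) .leaf) (11074, 0, 13, 72071) (.node .leaf (11075, 0, 13, 185629) .leaf)) (11078, 0, 17, 193326) (.node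 (.node .leaf (11079, 0, 15, 114882) .leaf) (11080, 0, 17, 233181) (.node .leaf (11081, 0, 13, 167004) .leaf)))) (11084, 0, 17, 127424) (.node (.node (.node (.node .leaf (11085, 0, 17, 239854) .leaf) (11090, 0, 17, 195269) (.node .leaf (11091, 0, 16, 41963) .leaf)) (11094, 0, 15, 34264) (.node (.node .leaf (11095, 0, 17, 187638) .leaf) (11096, 0, 14, 5231) (.node .leaf (11097, 0, 13, 237829) .leaf))) (11100, 0, 16, 231222) (.node (.node (.node .leaf (11101, 0, 15, 122392) .leaf) (11104, 0, 14, 137547) (.node .leaf (11105, 0, 13, 16485) .leaf)) (11108, 0, 14, 228212) (.node (.node .leaf (11109, 0, 16, 236306) .leaf) (11114, 0, 16, 14314) (.node .leaf (11115, 0, 17, 213643) .leaf))))))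

/-- part of the orbit tree -/
def itp0_166 : Tree := (.node (.node (.node (.node (.node (.node .leaf (11119, 0, 17, 81302) .leaf) (11120, 0, 16, 28605) (.node .leaf (11121, 0, 16, 145043) .leaf)) (11124, 0, 18, 66337) (.node (.node .leaf (11125, 0, 17, 18830) .leaf) (11130, 0, 16, 224595) (.node .leaf (11131, 0, 7, 78973) .leaf))) (11134, 0, 16, 70222) (.node (.node (.node .leaf (11135, 0, 16, 215904) .leaf) (11138, 0, 10, 222416) (.node .leaf (11139, 0, 17, 81406) .leaf)) (11142, 0, 17, 56616) (.node (.node .leaf (11143, 0, 18, 213731) .leaf) (11144, 0, 17, 233910) (.node .leaf (11145, 0, 14, 225744) .leaf)))) (11148, 0, 17, 137507) (.node (.node (.node (.node .leaf (11149, 0, 14, 215283) .leaf) (11154, 0, 16, 171102) (.node .leaf (11155, 0, 16, 215816) .leaf)) (11158, 0, 17, 224571) (.node (.node .leaf (11159, 0, 17, 148763) .leaf) (11160, 0, 15, 135368) (.node .leaf (11161, 0, 18, 67973) .leaf))) (11164, 0, 17, 28629) (.node (.node (.node .leaf (11165, 0, 17, 77990) .leaf) (11168, 0, 17,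 180187) (.node .leaf (11169, 0, 15, 239750) .leaf)) (11172, 0, 15, 233141) (.node (.node .leaf (11173, 0, 15, 157342) .leaf) (11178, 0, 15, 117350) (.node .leaf (11179, 0, 16, 76288) .leaf))))) (11182, 0, 12, 35931) (.node (.node (.node (.node (.node .leaf (11183, 0, 16, 185717) .leaf) (11184, 0, 16, 231262) (.node .leaf (11185, 0, 17, 10216) .leaf)) (11188, 0, 17, 129091) (.node (.node .leaf (11189, 0, 17, 7883) .leaf) (11194, 0, 16, 242227) (.node .leaf (11195, 0, 16, 217685) .leaf))) (11198, 0, 17, 195245) (.node (.node (.node .leaf (11199, 0, 17, 224118) .leaf) (11200, 0, 16, 54312) (.node .leaf (11201, 0, 14, 167174) .leaf)) (11204, 0, 18, 174901) (.node (.node .leaf (11205, 0, 15, 61979) .leaf) (11210, 0, 17, 251590) (.node .leaf (11211, 0, 16, 84851) .leaf)))) (11214, 0, 17, 109019) (.node (.node (.node (.node .leaf (11215, 0, 14, 94800) .leaf) (11216, 0, 16, 42749) (.node .leaf (11217, 0, 18, 64496) .leaf)) (11220, 0, 18, 56771) (.node (.node .leaf (11221, 0, 14, 32696) .leaf) (11226,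 0, 17, 106544) (.node .leaf (11227, 0, 16, 260382) .leaf))) (11230, 0, 16, 256611) (.node (.node (.node .leaf (11231, 0, 16, 99843) .leaf) (11234, 0, 16, 34168) (.node .leaf (11235, 0, 15, 25886) .leaf)) (11238, 0, 18, 15949) (.node (.node .leaf (11239, 0, 17, 23613) .leaf) (11240, 0, 14, 82878) .leaf)))))

/-- part of the orbit tree -/
def itp0_167 : Tree := (.node itp0_163 (10860, 0, 14, 27433) itp0_164)

/-- part of the orbit tree -/
def itp0_168 : Tree := (.node itp0_165 (11118, 0, 19, 222392) itp0_166)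

/-- part of the orbit tree -/
def itp0_169 : Tree := (.node itp0_161 (10476, 0, 13, 18402) itp0_162)

/-- part of the orbit tree -/
def itp0_170 : Tree := (.node itp0_167 (10990, 0, 16, 13106) itp0_168)

/-- part of the orbit tree -/
def itp0_171 : Tree := (.node (.node (.node (.node (.node (.node .leaf (11244, 0, 15, 248294) .leaf) (11245, 0, 8, 91533) (.node .leaf (11250, 0, 17, 195885) .leaf)) (11251, 0, 18, 159368) (.node (.node .leaf (11254, 0, 17, 181262) .leaf) (11255, 0, 15, 140392) (.node .leaf (11256, 0, 13, 100496) .leaf))) (11257, 0, 16, 92406) (.node (.node (.node .leaf (11260, 0, 17, 84565) .leaf) (11261, 0, 15, 86485) (.node .leaf (11265, 0, 17, 88046) .leaf)) (11267, 0, 18, 1995) (.node (.node .leaf (11269, 0, 14, 93901) .leaf) (11271, 0, 16, 204209) (.node .leaf (11272, 0, 15, 234000) .leaf)))) (11274, 0, 15, 180789) (.node (.node (.node (.node .leaf (11276, 0, 16, 240435) .leaf) (11278, 0, 17, 110083) (.node .leaf (11281, 0, 16, 208827) .leaf)) (11283, 0, 17, 163742) (.node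 (.node .leaf (11285, 0, 17, 164661) .leaf) (11287, 0, 17, 149181) (.node .leaf (11288, 0, 18, 125509) .leaf))) (11290, 0, 16, 108520) (.node (.node (.node .leaf (11292, 0, 16, 12423) .leaf) (11294, 0, 12, 252149) (.node .leaf (11296, 0, 17, 110330) .leaf)) (11298, 0, 17, 149128) (.node (.node .leaf (11300, 0, 11, 165214) .leaf) (11302, 0, 14, 14741) (.node .leaf (11305, 0, 17, 204104) .leaf))))) (11307, 0, 17, 62778) (.node (.node (.node (.node (.node .leaf (11309, 0, 14, 16544) .leaf) (11311, 0, 16, 166439) (.node .leaf (11312, 0, 12, 50216) .leaf)) (11314, 0, 17, 12414) (.node (.node .leaf (11316, 0, 17, 108305) .leaf) (11318, 0, 17, 109870) (.node .leaf (11321, 0, 7, 93118) .leaf))) (11323, 0, 18, 217587) (.node (.node (.node .leaf (11325, 0, 14, 201891) .leaf) (11327, 0, 17, 223440) (.node .leaf (11328, 0, 14, 187662) .leaf)) (11330, 0, 14, 232747) (.node (.node .leaf (11332, 0, 16, 193639) .leaf) (11334, 0, 15, 72725) (.node .leaf (11337, 0, 17, 145608) .leaf)))) (11339, 0, 18, 118970)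 (.node (.node (.node (.node .leaf (11341, 0, 16, 8659) .leaf) (11343, 0, 13, 241575) (.node .leaf (11344, 0, 16, 42331) .leaf)) (11346, 0, 14, 71166) (.node (.node .leaf (11348, 0, 17, 40056) .leaf) (11350, 0, 17, 223971) (.node .leaf (11353, 0, 15, 20030) .leaf))) (11355, 0, 15, 209024) (.node (.node (.node .leaf (11357, 0, 16, 153990) .leaf) (11359, 0, 16, 121169) (.node .leaf (11361, 0, 16, 79517) .leaf)) (11363, 0, 17, 18220) (.node (.node .leaf (11365, 0, 12, 69566) .leaf) (11367, 0, 15, 145457) (.node .leaf (11368, 0, 17, 258915) .leaf))))))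

/-- part of the orbit tree -/
def itp0_172 : Tree := (.node (.node (.node (.node (.node (.node .leaf (11372, 0, 16, 222193) .leaf) (11374, 0, 12, 35715) (.node .leaf (11377, 0, 13, 121256) .leaf)) (11379, 0, 17, 143834) (.node (.node .leaf (11381, 0, 17, 227307) .leaf) (11383, 0, 17, 141262) (.node .leaf (11384, 0, 15, 101174) .leaf))) (11386, 0, 18, 56083) (.node (.node (.node .leaf (11388, 0, 16, 70919) .leaf) (11390, 0, 18, 195957) (.node .leaf (11392, 0, 17, 222105) .leaf)) (11394, 0, 17, 159911) (.node (.node .leaf (11396, 0, 16, 72836) .leaf) (11398, 0, 17, 193782) (.node .leaf (11401, 0, 12, 124284) .leaf)))) (11403, 0, 15, 46425) (.node (.node (.node (.node .leaf (11405, 0, 18, 121951) .leaf) (11407, 0, 16, 18244) (.node .leaf (11408, 0, 13, 88279) .leaf)) (11410, 0, 15, 195869) (.node (.node .leaf (11412, 0, 16, 90612) .leaf) (11414, 0, 18, 33280) (.node .leaf (11417, 0, 18, 236841) .leaf))) (11419, 0, 13, 20143) (.node (.node (.node .leaf (11421, 0, 17, 121280) .leaf) (11423, 0,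 16, 193583) (.node .leaf (11425, 0, 15, 18365) .leaf)) (11427, 0, 16, 241615) (.node (.node .leaf (11429, 0, 14, 145568) .leaf) (11431, 0, 16, 107031) (.node .leaf (11432, 0, 10, 134895) .leaf))))) (11434, 0, 18, 72829) (.node (.node (.node (.node (.node .leaf (11436, 0, 13, 35602) .leaf) (11438, 0, 18, 222048) (.node .leaf (11441, 0, 15, 143691) .leaf)) (11443, 0, 18, 121145) (.node (.node .leaf (11445, 0, 13, 20054) .leaf) (11447, 0, 15, 252482) (.node .leaf (11448, 0, 17, 30394) .leaf))) (11450, 0, 12, 223883) (.node (.node (.node .leaf (11452, 0, 17, 20377) .leaf) (11454, 0, 15, 73660) (.node .leaf (11457, 0, 15, 90685) .leaf)) (11459, 0, 16, 166479) (.node (.node .leaf (11461, 0, 15, 37697) .leaf) (11463, 0, 13, 115556) (.node .leaf (11464, 0, 18, 159644) .leaf)))) (11466, 0, 17, 14845) (.node (.node (.node (.node .leaf (11468, 0, 16, 153279) .leaf) (11470, 0, 16, 149216) (.node .leaf (11473, 0, 17, 184887) .leaf)) (11475, 0, 17, 229906) (.node (.node .leaf (11477, 0, 16, 191252) .leaf)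 (11479, 0, 15, 244529) (.node .leaf (11480, 0, 17, 6089) .leaf))) (11482, 0, 16, 83948) (.node (.node (.node .leaf (11484, 0, 17, 12010) .leaf) (11486, 0, 16, 12310) (.node .leaf (11488, 0, 12, 149017) .leaf)) (11490, 0, 17, 110187) (.node (.node .leaf (11492, 0, 16, 227538) .leaf) (11494, 0, 16, 250230) (.node .leaf (11497, 0, 18, 62891) .leaf))))))

/-- part of the orbit tree -/
def itp0_173 : Tree := (.node (.node (.node (.node (.node (.node .leaf (11501, 0, 16, 166582) .leaf) (11503, 0, 15, 90820) (.node .leaf (11504, 0, 16, 12527) .leaf)) (11506, 0, 16, 252061) (.node (.node .leaf (11508, 0, 18, 151538) .leaf) (11510, 0, 16, 108416) (.node .leaf (11513, 0, 17, 164701) .leaf))) (11515, 0, 16, 92975) (.node (.node (.node .leaf (11517, 0, 15, 247161) .leaf) (11519, 0, 16, 169308) (.node .leaf (11520, 0, 17, 136700) .leaf)) (11522, 0, 18, 214489) (.node (.node .leaf (11524, 0, 18, 142559) .leaf) (11526, 0, 19, 107388) (.node .leaf (11529, 0, 15, 53250) .leaf)))) (11531, 0, 15, 98343) (.node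 (.node (.node (.node .leaf (11533, 0, 18, 63676) .leaf) (11535, 0, 14, 112900) (.node .leaf (11536, 0, 16, 148197) .leaf)) (11538, 0, 14, 81292) (.node (.node .leaf (11540, 0, 15, 21642) .leaf) (11542, 0, 17, 66735) (.node .leaf (11545, 0, 15, 61783) .leaf))) (11547, 0, 15, 260210) (.node (.node (.node .leaf (11549, 0, 14, 167498) .leaf) (11551, 0, 16, 246097) (.node .leaf (11553, 0, 18, 200759) .leaf)) (11555, 0, 15, 63557) (.node (.node .leaf (11557, 0, 18, 116556) .leaf) (11559, 0, 15, 165720) (.node .leaf (11560, 0, 17, 107397) .leaf))))) (11562, 0, 17, 158644) (.node (.node (.node (.node (.node .leaf (11564, 0, 17, 197298) .leaf) (11566, 0, 18, 152215) (.node .leaf (11569, 0, 15, 91841) .leaf)) (11571, 0, 14, 185887) (.node (.node .leaf (11573, 0, 15, 245529) .leaf) (11575, 0, 15, 61870) (.node .leaf (11576, 0, 14, 82884) .leaf))) (11578, 0, 18, 5089) (.node (.node (.node .leaf (11580, 0, 13, 96999) .leaf) (11582, 0, 17, 147996) (.node .leaf (11585, 0, 15, 106268) .leaf)) (11587, 0, 18,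 122309) (.node (.node .leaf (11589, 0, 18, 108095) .leaf) (11591, 0, 14, 63002) (.node .leaf (11592, 0, 18, 219874) .leaf)))) (11594, 0, 17, 224887) (.node (.node (.node (.node .leaf (11596, 0, 17, 194840) .leaf) (11598, 0, 11, 69994) (.node .leaf (11601, 0, 15, 17217) .leaf)) (11603, 0, 14, 178028) (.node (.node .leaf (11605, 0, 16, 253546) .leaf) (11607, 0, 17, 119854) (.node .leaf (11608, 0, 15, 192755) .leaf))) (11610, 0, 17, 29330) (.node (.node (.node .leaf (11612, 0, 16, 36846) .leaf) (11614, 0, 15, 223132) (.node .leaf (11616, 0, 16, 160911) .leaf)) (11618, 0, 15, 205994) (.node (.node .leaf (11620, 0, 19, 150956) .leaf) (11622, 0, 16, 34556) (.node .leaf (11625, 0, 16, 238113) .leaf))))))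

/-- part of the orbit tree -/
def itp0_174 : Tree := (.node (.node (.node (.node (.node (.node .leaf (11629, 0, 16, 122172) .leaf) (11631, 0, 17, 120951) (.node .leaf (11632, 0, 17, 3290) .leaf)) (11634, 0, 18, 36631) (.node (.node .leaf (11636, 0, 17, 13817) .leaf) (11638, 0, 14, 192522) (.node .leaf (11641, 0, 17, 182564) .leaf))) (11643, 0, 13, 146597) (.node (.node (.node .leaf (11645, 0, 16, 240586) .leaf) (11647, 0, 17, 17336) (.node .leaf (11649, 0, 18, 122196) .leaf)) (11651, 0, 15, 144678) (.node (.node .leaf (11653, 0, 18, 238153) .leaf) (11655, 0, 14, 68502) (.node .leaf (11656, 0, 13, 173934) .leaf)))) (11658, 0, 19, 34452) (.node (.node (.node (.node .leaf (11660, 0, 18, 171597) .leaf) (11662, 0, 16, 194953) (.node .leaf (11665, 0, 13, 137925) .leaf)) (11667, 0, 17, 17360) (.node (.node .leaf (11669, 0, 17, 140262) .leaf) (11671, 0, 16, 146637) (.node .leaf (11672, 0, 14, 71696) .leaf))) (11674, 0, 16, 192610) (.node (.node (.node .leaf (11676, 0, 17, 58904) .leaf) (11678, 0,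 13, 112189) (.node .leaf (11680, 0, 9, 231683) .leaf)) (11682, 0, 15, 186662) (.node (.node .leaf (11684, 0, 15, 34413) .leaf) (11686, 0, 16, 188421) (.node .leaf (11689, 0, 16, 85245) .leaf))))) (11691, 0, 16, 238256) (.node (.node (.node (.node (.node .leaf (11693, 0, 17, 144863) .leaf) (11695, 0, 18, 9723) (.node .leaf (11696, 0, 14, 36742) .leaf)) (11698, 0, 18, 41331) (.node (.node .leaf (11700, 0, 18, 116853) .leaf) (11702, 0, 14, 38992) (.node .leaf (11705, 0, 11, 146484) .leaf))) (11707, 0, 16, 156813) (.node (.node (.node .leaf (11709, 0, 15, 17193) .leaf) (11711, 0, 15, 155054) (.node .leaf (11712, 0, 17, 256112) .leaf)) (11714, 0, 17, 178261) (.node (.node .leaf (11716, 0, 14, 250195) .leaf) (11718, 0, 18, 164214) (.node .leaf (11721, 0, 16, 94018) .leaf)))) (11723, 0, 17, 165680) (.node (.node (.node (.node .leaf (11725, 0, 18, 200799) .leaf) (11727, 0, 13, 63533) (.node .leaf (11728, 0, 19, 102437) .leaf)) (11730, 0, 12, 49152) (.node (.node .leaf (11732, 0, 14, 251163) .leaf)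 (11734, 0, 15, 63779) (.node .leaf (11737, 0, 19, 203188) .leaf))) (11739, 0, 17, 61894) (.node (.node (.node .leaf (11741, 0, 15, 91817) .leaf) (11743, 0, 17, 146653) (.node .leaf (11745, 0, 15, 995) .leaf)) (11747, 0, 17, 200870) (.node (.node .leaf (11749, 0, 17, 15040) .leaf) (11751, 0, 17, 94139) (.node .leaf (11752, 0, 15, 150374) .leaf))))))

/-- part of the orbit tree -/
def itp0_175 : Tree := (.node itp0_171 (11370, 0, 17, 193694) itp0_172)

/-- part of the orbit tree -/
def itp0_176 : Tree := (.node itp0_173 (11627, 0, 18, 123220) itp0_174)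

/-- part of the orbit tree -/
def itp0_177 : Tree := (.node (.node (.node (.node (.node (.node .leaf (11756, 0, 15, 13435) .leaf) (11758, 0, 17, 241435) (.node .leaf (11761, 0, 14, 167458) .leaf)) (11763, 0, 16, 91728) (.node (.node .leaf (11765, 0, 14, 61759) .leaf) (11767, 0, 12, 203085) (.node .leaf (11768, 0, 16, 48712) .leaf))) (11770, 0, 15, 126573) (.node (.node (.node .leaf (11772, 0, 16, 34667) .leaf) (11774, 0, 16, 120654) (.node .leaf (11776, 0, 17, 105464) .leaf)) (11777, 0, 16, 97182) (.node (.node .leaf (11778, 0, 15, 212654) .leaf) (11779, 0, 17, 92032) (.node .leaf (11780, 0, 10, 107227) .leaf)))) (11781, 0, 18, 82621) (.node (.node (.node (.node .leaf (11782, 0, 16, 62206) .leaf) (11783, 0, 16, 202909) (.node .leaf (11792, 0, 17, 172074) .leaf)) (11793, 0, 16, 197579) (.node (.node .leaf (11794, 0, 16, 84056) .leaf) (11795, 0, 13, 201078) (.node .leaf (11796, 0, 16, 57143) .leaf))) (11797, 0, 15, 211688) (.node (.node (.node .leaf (11798, 0, 13, 166571) .leaf) (11799, 0, 14,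 93803) (.node .leaf (11816, 0, 16, 46485) .leaf)) (11817, 0, 16, 22003) (.node (.node .leaf (11818, 0, 17, 174392) .leaf) (11819, 0, 18, 67030) (.node .leaf (11820, 0, 19, 36022) .leaf))))) (11821, 0, 17, 92025) (.node (.node (.node (.node (.node .leaf (11822, 0, 17, 122003) .leaf) (11823, 0, 14, 167691) (.node .leaf (11832, 0, 16, 183744) .leaf)) (11833, 0, 17, 142758) (.node (.node .leaf (11834, 0, 13, 237029) .leaf) (11835, 0, 17, 165600) (.node .leaf (11836, 0, 17, 193763) .leaf))) (11837, 0, 17, 136325) (.node (.node (.node .leaf (11838, 0, 10, 238790) .leaf) (11839, 0, 17, 63997) (.node .leaf (11848, 0, 15, 25802) .leaf)) (11849, 0, 14, 146916) (.node (.node .leaf (11850, 0, 16, 232632) .leaf) (11851, 0, 16, 120214) (.node .leaf (11852, 0, 17, 60869) .leaf)))) (11853, 0, 16, 3491) (.node (.node (.node (.node .leaf (11854, 0, 15, 127909) .leaf) (11855, 0, 13, 240267) (.node .leaf (11864, 0, 15, 175283) .leaf)) (11865, 0, 17, 150741) (.node (.node .leaf (11866, 0, 15, 129614) .leaf) (11867,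 0, 15, 204016) (.node .leaf (11868, 0, 12, 169360) .leaf))) (11869, 0, 17, 144399) (.node (.node (.node .leaf (11870, 0, 15, 230739) .leaf) (11871, 0, 18, 206291) (.node .leaf (11872, 0, 18, 127836) .leaf)) (11873, 0, 19, 72429) (.node (.node .leaf (11874, 0, 16, 43694) .leaf) (11875, 0, 17, 16896) (.node .leaf (11876, 0, 17, 232513) .leaf))))))

/-- part of the orbit tree -/
def itp0_178 : Tree := (.node (.node (.node (.node (.node (.node .leaf (11878, 0, 16, 25651) .leaf) (11879, 0, 15, 29675) (.node .leaf (11888, 0, 18, 230110) .leaf)) (11889, 0, 14, 221880) (.node (.node .leaf (11890, 0, 14, 185083) .leaf) (11891, 0, 14, 144029) (.node .leaf (11892, 0, 10, 129719) .leaf))) (11893, 0, 16, 220059) (.node (.node (.node .leaf (11894, 0, 19, 135877) .leaf) (11895, 0, 17, 134078) (.node .leaf (11912, 0, 17, 76138) .leaf)) (11913, 0, 17, 117004) (.node (.node .leaf (11914, 0, 17, 25691) .leaf) (11915, 0, 18, 146805) (.node .leaf (11916, 0, 14, 69705) .leaf)))) (11917, 0, 17, 240154) (.node (.node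 (.node (.node .leaf (11918, 0, 14, 16492) .leaf) (11919, 0, 18, 17000) (.node .leaf (11928, 0, 16, 129759) .leaf)) (11929, 0, 16, 238577) (.node (.node .leaf (11930, 0, 17, 135853) .leaf) (11931, 0, 17, 19331) (.node .leaf (11932, 0, 17, 230850) .leaf))) (11933, 0, 13, 122092) (.node (.node (.node .leaf (11934, 0, 16, 28080) .leaf) (11935, 0, 14, 144542) (.node .leaf (11936, 0, 14, 138175) .leaf)) (11937, 0, 16, 59233) (.node (.node .leaf (11938, 0, 15, 127949) .leaf) (11939, 0, 15, 112452) (.node .leaf (11940, 0, 14, 15908) .leaf))))) (11941, 0, 14, 56898) (.node (.node (.node (.node (.node .leaf (11942, 0, 18, 93697) .leaf) (11943, 0, 15, 120318) (.node .leaf (11952, 0, 14, 163666) .leaf)) (11953, 0, 18, 171828) (.node (.node .leaf (11954, 0, 16, 208759) .leaf) (11955, 0, 17, 121877) (.node .leaf (11956, 0, 16, 149105) .leaf))) (11957, 0, 11, 19322) (.node (.node (.node .leaf (11958, 0, 17, 202324) .leaf) (11959, 0, 16, 238344) (.node .leaf (11968, 0, 15, 212543) .leaf)) (11969, 0, 16, 34322)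 (.node (.node .leaf (11970, 0, 14, 54861) .leaf) (11971, 0, 16, 120375) (.node .leaf (11972, 0, 17, 24407) .leaf)))) (11973, 0, 18, 48945) (.node (.node (.node (.node .leaf (11974, 0, 11, 174416) .leaf) (11975, 0, 17, 126740) (.node .leaf (11984, 0, 17, 84169) .leaf)) (11985, 0, 16, 196167) (.node (.node .leaf (11986, 0, 14, 216580) .leaf) (11987, 0, 13, 63893) (.node .leaf (11988, 0, 18, 141058) .leaf))) (11989, 0, 17, 93946) (.node (.node (.node .leaf (11990, 0, 17, 227111) .leaf) (11991, 0, 15, 165512) (.node .leaf (12008, 0, 16, 83993) .leaf)) (12009, 0, 18, 108671) (.node (.node .leaf (12010, 0, 16, 6204) .leaf) (12011, 0, 15, 202997) (.node .leaf (12012, 0, 15, 94522) .leaf))))))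

/-- part of the orbit tree -/
def itp0_179 : Tree := (.node (.node (.node (.node (.node (.node .leaf (12014, 0, 10, 212678) .leaf) (12015, 0, 17, 49529) (.node .leaf (12024, 0, 15, 208972) .leaf)) (12025, 0, 12, 165489) (.node (.node .leaf (12026, 0, 18, 155753) .leaf) (12027, 0, 16, 163855) (.node .leaf (12028, 0, 18, 199023) .leaf))) (12029, 0, 17, 256265) (.node (.node (.node .leaf (12030, 0, 12, 153930) .leaf) (12031, 0, 18, 178476) (.node .leaf (12040, 0, 18, 7188) .leaf)) (12041, 0, 16, 164493) (.node (.node .leaf (12042, 0, 15, 85041) .leaf) (12043, 0, 15, 92927) (.node .leaf (12044, 0, 17, 9527) .leaf)))) (12045, 0, 11, 64912) (.node (.node (.node (.node .leaf (12046, 0, 18, 85196) .leaf) (12047, 0, 19, 103796) (.node .leaf (12056, 0, 15, 156737) .leaf)) (12057, 0, 16, 62587) (.node (.node .leaf (12058, 0, 14, 210020) .leaf) (12059, 0, 17, 250882) (.node .leaf (12060, 0, 17, 154978) .leaf))) (12061, 0, 12, 166758) (.node (.node (.node .leaf (12062, 0, 17, 200007) .leaf) (12063, 0,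 15, 257313) (.node .leaf (12064, 0, 15, 85045) .leaf)) (12065, 0, 15, 119327) (.node (.node .leaf (12066, 0, 14, 25180) .leaf) (12067, 0, 17, 33338) (.node .leaf (12068, 0, 16, 68442) .leaf))))) (12069, 0, 14, 92678) (.node (.node (.node (.node (.node .leaf (12070, 0, 17, 23423) .leaf) (12071, 0, 16, 164468) (.node .leaf (12080, 0, 16, 215596) .leaf)) (12081, 0, 15, 91117) (.node (.node .leaf (12082, 0, 15, 137737) .leaf) (12083, 0, 16, 166815) (.node .leaf (12084, 0, 17, 83422) .leaf))) (12085, 0, 15, 204016) (.node (.node (.node .leaf (12086, 0, 18, 140074) .leaf) (12087, 0, 16, 62594) (.node .leaf (12096, 0, 16, 86794) .leaf)) (12097, 0, 15, 143515) (.node (.node .leaf (12098, 0, 15, 229831) .leaf) (12099, 0, 16, 58185) (.node .leaf (12100, 0, 16, 92713) .leaf)))) (12101, 0, 18, 100943) (.node (.node (.node (.node .leaf (12102, 0, 17, 130778) .leaf) (12103, 0, 15, 239604) (.node .leaf (12112, 0, 16, 207711) .leaf)) (12113, 0, 17, 248633) (.node (.node .leaf (12114, 0, 14, 162682) .leaf)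 (12115, 0, 15, 241183) (.node .leaf (12116, 0, 16, 24670) .leaf))) (12117, 0, 16, 145776) (.node (.node (.node .leaf (12118, 0, 12, 148057) .leaf) (12119, 0, 17, 119042) (.node .leaf (12136, 0, 17, 32103) .leaf)) (12137, 0, 14, 239373) (.node (.node .leaf (12138, 0, 10, 136785) .leaf) (12139, 0, 17, 118052) (.node .leaf (12140, 0, 15, 229694) .leaf))))))

/-- part of the orbit tree -/
def itp0_180 : Tree := (.node (.node (.node (.node (.node (.node .leaf (12142, 0, 18, 26956) .leaf) (12143, 0, 12, 143458) (.node .leaf (12152, 0, 14, 132402) .leaf)) (12153, 0, 16, 119291) (.node (.node .leaf (12154, 0, 10, 218391) .leaf) (12155, 0, 17, 243057) (.node .leaf (12156, 0, 18, 146449) .leaf))) (12157, 0, 17, 241382) (.node (.node (.node .leaf (12158, 0, 18, 139194) .leaf) (12159, 0, 16, 18068) (.node .leaf (12160, 0, 16, 229718) .leaf)) (12161, 0, 15, 120952) (.node (.node .leaf (12162, 0, 13, 130723) .leaf) (12163, 0, 19, 143370) (.node .leaf (12164, 0, 18, 38821) .leaf)))) (12165, 0, 9, 30659) (.node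 (.node (.node (.node .leaf (12166, 0, 16, 136761) .leaf) (12167, 0, 16, 20247) (.node .leaf (12176, 0, 9, 128928) .leaf)) (12177, 0, 15, 145077) (.node (.node .leaf (12178, 0, 16, 139218) .leaf) (12179, 0, 16, 222864) (.node .leaf (12180, 0, 14, 231613) .leaf))) (12181, 0, 13, 135062) (.node (.node (.node .leaf (12182, 0, 11, 245717) .leaf) (12183, 0, 15, 145889) (.node .leaf (12200, 0, 11, 136896) .leaf)) (12201, 0, 16, 90253) (.node (.node .leaf (12202, 0, 13, 53454) .leaf) (12203, 0, 18, 239516) (.node .leaf (12204, 0, 16, 113096) .leaf))))) (12205, 0, 17, 88494) (.node (.node (.node (.node (.node .leaf (12206, 0, 14, 59885) .leaf) (12207, 0, 12, 120961) (.node .leaf (12216, 0, 16, 24630) .leaf)) (12217, 0, 16, 145688) (.node (.node .leaf (12218, 0, 17, 231492) .leaf) (12219, 0, 17, 149757) (.node .leaf (12220, 0, 16, 246173) .leaf))) (12221, 0, 15, 205307) (.node (.node (.node .leaf (12222, 0, 17, 168376) .leaf) (12223, 0, 15, 241271) (.node .leaf (12232, 0, 15, 209728) .leaf)) (12233,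 0, 17, 66046) (.node (.node .leaf (12234, 0, 13, 56114) .leaf) (12235, 0, 16, 20955) (.node .leaf (12236, 0, 14, 121019) .leaf)))) (12237, 0, 12, 202099) (.node (.node (.node (.node .leaf (12238, 0, 18, 173103) .leaf) (12239, 0, 16, 64769) (.node .leaf (12248, 0, 18, 235981) .leaf)) (12249, 0, 11, 203928) (.node (.node .leaf (12250, 0, 13, 175556) .leaf) (12251, 0, 14, 141710) (.node .leaf (12252, 0, 16, 237806) .leaf))) (12253, 0, 18, 213128) (.node (.node (.node .leaf (12254, 0, 15, 53977) .leaf) (12255, 0, 17, 135341) (.node .leaf (12256, 0, 16, 53237) .leaf)) (12257, 0, 13, 65016) (.node (.node .leaf (12258, 0, 15, 85156) .leaf) (12259, 0, 17, 98230) .leaf)))))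

/-- part of the orbit tree -/
def itp0_181 : Tree := (.node itp0_177 (11877, 0, 12, 120175) itp0_178)

/-- part of the orbit tree -/
def itp0_182 : Tree := (.node itp0_179 (12141, 0, 16, 42018) itp0_180)

/-- part of the orbit tree -/
def itp0_183 : Tree := (.node itp0_175 (11499, 0, 18, 204249) itp0_176)

/-- part of the orbit tree -/
def itp0_184 : Tree := (.node itp0_181 (12013, 0, 14, 102748) itp0_182)

/-- part of the orbit tree -/
def itp0_185 : Tree := (.node itp0_169 (10733, 0, 14, 198128) itp0_170)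

/-- part of the orbit tree -/
def itp0_186 : Tree := (.node itp0_183 (11754, 0, 18, 107284) itp0_184)

/-- part of the orbit tree -/
def itp0_187 : Tree := (.node itp0_155 (9197, 0, 14, 73906) itp0_156)

/-- part of the orbit tree -/
def itp0_188 : Tree := (.node itp0_185 (11241, 0, 16, 203408) itp0_186)

/-- part of the orbit tree -/
def itp0_189 : Tree := (.node (.node (.node (.node (.node (.node .leaf (12261, 0, 14, 5808) .leaf) (12262, 0, 16, 108275) (.node .leaf (12263, 0, 13, 83605) .leaf)) (12272, 0, 17, 178080) (.node (.node .leaf (12273, 0, 18, 166670) .leaf) (12274, 0, 14, 255877) (.node .leaf (12275, 0, 16, 91004) .leaf))) (12276, 0, 17, 167555) (.node (.node (.node .leaf (12277, 0, 19, 159461) .leaf) (12278, 0, 15, 253606) (.node .leaf (12279, 0, 17, 212672) .leaf)) (12288, 0, 18, 149838) (.node (.node .leaf (12291, 0, 15, 161389) .leaf) (12293, 0, 16, 159613) (.node .leaf (12294, 0, 18, 175912) .leaf)))) (12296, 0, 16, 173010) (.node (.node (.node (.node .leaf (12299, 0, 16, 201358)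 .leaf) (12301, 0, 17, 165345) (.node .leaf (12302, 0, 15, 210109) .leaf)) (12304, 0, 16, 16312) (.node (.node .leaf (12307, 0, 19, 102116) .leaf) (12309, 0, 13, 91966) (.node .leaf (12310, 0, 15, 108759) .leaf))) (12312, 0, 13, 54564) (.node (.node (.node .leaf (12315, 0, 15, 142240) .leaf) (12317, 0, 16, 62231) (.node .leaf (12318, 0, 16, 193253) .leaf)) (12321, 0, 16, 11709) (.node (.node .leaf (12322, 0, 15, 56374) .leaf) (12324, 0, 16, 62712) (.node .leaf (12327, 0, 17, 64005) .leaf))))) (12329, 0, 16, 133157) (.node (.node (.node (.node (.node .leaf (12330, 0, 17, 243814) .leaf) (12332, 0, 13, 106949) (.node .leaf (12335, 0, 15, 4249) .leaf)) (12337, 0, 15, 203676) (.node (.node .leaf (12338, 0, 15, 174784) .leaf) (12340, 0, 11, 212399) (.node .leaf (12343, 0, 15, 212206) .leaf))) (12345, 0, 12, 28784) (.node (.node (.node .leaf (12346, 0, 14, 114739) .leaf) (12348, 0, 16, 43317) (.node .leaf (12351, 0, 8, 72054) .leaf)) (12353, 0, 18, 19662) (.node (.node .leaf (12354, 0, 14, 130189)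 .leaf) (12356, 0, 17, 38283) (.node .leaf (12359, 0, 14, 122757) .leaf)))) (12361, 0, 15, 41590) (.node (.node (.node (.node .leaf (12362, 0, 15, 70442) .leaf) (12364, 0, 16, 176147) (.node .leaf (12367, 0, 17, 79129) .leaf)) (12369, 0, 16, 144539) (.node (.node .leaf (12370, 0, 18, 233280) .leaf) (12372, 0, 17, 191966) (.node .leaf (12375, 0, 13, 220573) .leaf))) (12377, 0, 11, 4355) (.node (.node (.node .leaf (12378, 0, 17, 222684) .leaf) (12380, 0, 15, 193203) (.node .leaf (12383, 0, 17, 96261) .leaf)) (12384, 0, 11, 224462) (.node (.node .leaf (12387, 0, 15, 136990) .leaf) (12389, 0, 19, 228888) (.node .leaf (12390, 0, 17, 195489) .leaf))))))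

/-- part of the orbit tree -/
def itp0_190 : Tree := (.node (.node (.node (.node (.node (.node .leaf (12395, 0, 16, 12934) .leaf) (12397, 0, 14, 88960) (.node .leaf (12398, 0, 14, 60355) .leaf)) (12400, 0, 18, 72248) (.node (.node .leaf (12403, 0, 16, 43876) .leaf) (12405, 0, 16, 67149) (.node .leaf (12406, 0, 15, 46606) .leaf))) (12408, 0, 17, 127140) (.node (.node (.node .leaf (12411, 0, 15, 150227) .leaf) (12413, 0, 15, 120471) (.node .leaf (12414, 0, 16, 26571) .leaf)) (12417, 0, 16, 110914) (.node (.node .leaf (12418, 0, 17, 135509) .leaf) (12420, 0, 16, 92167) (.node .leaf (12423, 0, 15, 55364) .leaf)))) (12425, 0, 17, 234714) (.node (.node (.node (.node .leaf (12426, 0, 14, 195529) .leaf) (12428, 0, 17, 216479) (.node .leaf (12431, 0, 14, 196060) .leaf)) (12433, 0, 16, 120575) (.node (.node .leaf (12434, 0, 13, 26531) .leaf) (12436, 0, 17, 200786) (.node .leaf (12439, 0, 17, 16784) .leaf))) (12441, 0, 15, 80995) (.node (.node (.node .leaf (12442, 0, 17, 36159) .leaf) (12444, 0, 14,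 72272) (.node .leaf (12447, 0, 16, 43788) .leaf)) (12448, 0, 17, 154321) (.node (.node .leaf (12451, 0, 16, 256658) .leaf) (12453, 0, 14, 41502) (.node .leaf (12454, 0, 17, 70466) .leaf))))) (12456, 0, 18, 28337) (.node (.node (.node (.node (.node .leaf (12459, 0, 16, 122861) .leaf) (12461, 0, 14, 42508) (.node .leaf (12462, 0, 18, 71247) .leaf)) (12464, 0, 15, 193243) (.node (.node .leaf (12467, 0, 16, 103111) .leaf) (12469, 0, 17, 64449) (.node .leaf (12470, 0, 12, 84866) .leaf))) (12472, 0, 18, 137287) (.node (.node (.node .leaf (12475, 0, 15, 243551) .leaf) (12477, 0, 18, 147060) (.node .leaf (12478, 0, 16, 233256) .leaf)) (12480, 0, 12, 146338) (.node (.node .leaf (12483, 0, 14, 4337) .leaf) (12485, 0, 14, 100254) (.node .leaf (12486, 0, 15, 14018) .leaf)))) (12488, 0, 18, 84785) (.node (.node (.node (.node .leaf (12491, 0, 15, 110201) .leaf) (12493, 0, 16, 51071) (.node .leaf (12494, 0, 16, 56414) .leaf)) (12496, 0, 16, 251739) (.node (.node .leaf (12499, 0, 18, 127924) .leaf) (12501,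 0, 13, 39602) (.node .leaf (12502, 0, 14, 76529) .leaf))) (12504, 0, 18, 212423) (.node (.node (.node .leaf (12507, 0, 18, 167067) .leaf) (12509, 0, 15, 203764) (.node .leaf (12510, 0, 13, 174760) .leaf)) (12513, 0, 16, 165257) (.node (.node .leaf (12514, 0, 13, 24690) .leaf) (12516, 0, 13, 67956) (.node .leaf (12519, 0, 17, 47415) .leaf))))))

/-- part of the orbit tree -/
def itp0_191 : Tree := (.node (.node (.node (.node (.node (.node .leaf (12522, 0, 13, 253513) .leaf) (12524, 0, 17, 149798) (.node .leaf (12527, 0, 15, 260218) .leaf)) (12529, 0, 11, 62335) (.node (.node .leaf (12530, 0, 15, 137255) .leaf) (12532, 0, 12, 54604) (.node .leaf (12535, 0, 15, 180578) .leaf))) (12537, 0, 16, 101884) (.node (.node (.node .leaf (12538, 0, 16, 15807) .leaf) (12540, 0, 17, 87225) (.node .leaf (12543, 0, 16, 102028) .leaf)) (12545, 0, 16, 33852) (.node (.node .leaf (12546, 0, 16, 83679) .leaf) (12548, 0, 15, 23929) (.node .leaf (12551, 0, 17, 90348) .leaf)))) (12553, 0, 17, 7455) (.node (.node (.node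 (.node .leaf (12554, 0, 17, 109635) .leaf) (12556, 0, 16, 15148) (.node .leaf (12559, 0, 15, 100976) .leaf)) (12561, 0, 17, 164213) (.node (.node .leaf (12562, 0, 14, 208937) .leaf) (12564, 0, 15, 173894) (.node .leaf (12567, 0, 16, 234863) .leaf))) (12569, 0, 17, 158697) (.node (.node (.node .leaf (12570, 0, 16, 92594) .leaf) (12572, 0, 14, 151002) (.node .leaf (12575, 0, 18, 261254) .leaf)) (12576, 0, 19, 250791) (.node (.node .leaf (12579, 0, 15, 188396) .leaf) (12581, 0, 11, 259476) (.node .leaf (12582, 0, 17, 148680) .leaf))))) (12584, 0, 15, 84535) (.node (.node (.node (.node (.node .leaf (12587, 0, 15, 64116) .leaf) (12589, 0, 16, 204552) (.node .leaf (12590, 0, 14, 175700) .leaf)) (12592, 0, 16, 71674) (.node (.node .leaf (12595, 0, 18, 42937) .leaf) (12597, 0, 17, 99170) (.node .leaf (12598, 0, 18, 12862) .leaf))) (12600, 0, 18, 209506) (.node (.node (.node .leaf (12603, 0, 16, 164385) .leaf) (12605, 0, 17, 256807) (.node .leaf (12606, 0, 15, 55458) .leaf)) (12608, 0, 17, 194087) (.node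 (.node .leaf (12611, 0, 15, 214907) .leaf) (12613, 0, 16, 184340) (.node .leaf (12614, 0, 16, 157658) .leaf)))) (12616, 0, 17, 76612) (.node (.node (.node (.node .leaf (12619, 0, 15, 241127) .leaf) (12621, 0, 18, 127489) (.node .leaf (12622, 0, 17, 232404) .leaf)) (12624, 0, 15, 95881) (.node (.node .leaf (12627, 0, 16, 50890) .leaf) (12629, 0, 14, 42722) (.node .leaf (12630, 0, 15, 71614) .leaf))) (12632, 0, 17, 217873) (.node (.node (.node .leaf (12635, 0, 15, 121617) .leaf) (12637, 0, 13, 19582) (.node .leaf (12638, 0, 15, 145943) .leaf)) (12641, 0, 9, 119299) (.node (.node .leaf (12642, 0, 15, 87308) .leaf) (12644, 0, 17, 128048) (.node .leaf (12647, 0, 15, 17772) .leaf))))))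

/-- part of the orbit tree -/
def itp0_192 : Tree := (.node (.node (.node (.node (.node (.node .leaf (12650, 0, 18, 225428) .leaf) (12652, 0, 17, 137618) (.node .leaf (12655, 0, 16, 240081) .leaf)) (12657, 0, 12, 171290) (.node (.node .leaf (12658, 0, 17, 208217) .leaf) (12660, 0, 19, 230086) (.node .leaf (12663, 0, 16, 259100) .leaf))) (12665, 0, 15, 47234) (.node (.node (.node .leaf (12666, 0, 17, 67777) .leaf) (12668, 0, 18, 223322) (.node .leaf (12671, 0, 17, 186630) .leaf)) (12672, 0, 16, 73412) (.node (.node .leaf (12675, 0, 15, 44952) .leaf) (12677, 0, 16, 80119) (.node .leaf (12678, 0, 16, 236118) .leaf)))) (12680, 0, 15, 54984) (.node (.node (.node (.node .leaf (12683, 0, 17, 17668) .leaf) (12685, 0, 15, 3981) (.node .leaf (12686, 0, 17, 114638) .leaf)) (12688, 0, 14, 223282) (.node (.node .leaf (12691, 0, 16, 80710) .leaf) (12693, 0, 16, 21056) (.node .leaf (12694, 0, 15, 123395) .leaf))) (12696, 0, 15, 230062) (.node (.node (.node .leaf (12699, 0, 15, 204510) .leaf) (12701, 0, 14,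 161752) (.node .leaf (12702, 0, 17, 247707) .leaf)) (12705, 0, 14, 146144) (.node (.node .leaf (12706, 0, 15, 232380) .leaf) (12708, 0, 15, 115078) (.node .leaf (12711, 0, 13, 241039) .leaf))))) (12713, 0, 17, 184444) (.node (.node (.node (.node (.node .leaf (12714, 0, 15, 221472) .leaf) (12716, 0, 17, 255006) (.node .leaf (12719, 0, 14, 214803) .leaf)) (12721, 0, 6, 19478) (.node (.node .leaf (12722, 0, 18, 184533) .leaf) (12724, 0, 16, 27173) (.node .leaf (12727, 0, 16, 133520) .leaf))) (12729, 0, 13, 42634) (.node (.node (.node .leaf (12730, 0, 19, 62797) .leaf) (12732, 0, 15, 105547) (.node .leaf (12735, 0, 16, 11272) .leaf)) (12737, 0, 13, 96688) (.node (.node .leaf (12738, 0, 15, 51699) .leaf) (12740, 0, 16, 106741) (.node .leaf (12743, 0, 15, 165903) .leaf)))) (12745, 0, 16, 259580) (.node (.node (.node (.node .leaf (12746, 0, 18, 148640) .leaf) (12748, 0, 15, 250831) (.node .leaf (12751, 0, 16, 144686) .leaf)) (12753, 0, 17, 197093) (.node (.node .leaf (12754, 0, 17, 55498) .leaf) (12756,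 0, 14, 85925) (.node .leaf (12759, 0, 17, 65273) .leaf))) (12761, 0, 16, 74877) (.node (.node (.node .leaf (12762, 0, 15, 12886) .leaf) (12764, 0, 16, 107833) (.node .leaf (12767, 0, 16, 19835) .leaf)) (12768, 0, 15, 168483) (.node (.node .leaf (12771, 0, 17, 205408) .leaf) (12773, 0, 15, 150374) (.node .leaf (12774, 0, 12, 260901) .leaf))))))

/-- part of the orbit tree -/
def itp0_193 : Tree := (.node itp0_189 (12392, 0, 17, 230994) itp0_190)

/-- part of the orbit tree -/
def itp0_194 : Tree := (.node itp0_191 (12649, 0, 14, 180439) itp0_192)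

/-- part of the orbit tree -/
def itp0_195 : Tree := (.node (.node (.node (.node (.node (.node .leaf (12779, 0, 13, 90244) .leaf) (12781, 0, 17, 63467) (.node .leaf (12782, 0, 15, 83639) .leaf)) (12784, 0, 17, 150962) (.node (.node .leaf (12787, 0, 16, 88629) .leaf) (12789, 0, 14, 158593) (.node .leaf (12790, 0, 17, 99184) .leaf))) (12792, 0, 15, 184302) (.node (.node (.node .leaf (12795, 0, 16, 229293) .leaf) (12797, 0, 17, 164125) (.node .leaf (12798, 0, 16, 208961) .leaf)) (12802, 0, 17, 178811) (.node (.node .leaf (12803, 0, 17, 154141) .leaf) (12804, 0, 17, 13183) (.node .leaf (12805, 0, 17, 158289) .leaf)))) (12810, 0, 18, 40931) (.node (.node (.node (.node .leaf (12811, 0, 16, 202658) .leaf) (12812, 0, 17, 55779) (.node .leaf (12813, 0, 13, 71299) .leaf)) (12818, 0, 17, 49710) (.node (.node .leaf (12819, 0, 17, 8776) .leaf) (12820, 0, 16, 148873) (.node .leaf (12821, 0, 13, 7335) .leaf))) (12826, 0, 14, 211066) (.node (.node (.node .leaf (12827, 0, 14, 133072) .leaf) (12828, 0, 15,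 175893) (.node .leaf (12829, 0, 12, 63035) .leaf)) (12832, 0, 18, 57771) (.node (.node .leaf (12833, 0, 16, 92230) .leaf) (12838, 0, 11, 173575) (.node .leaf (12839, 0, 15, 92363) .leaf))))) (12840, 0, 13, 252916) (.node (.node (.node (.node (.node .leaf (12841, 0, 16, 140373) .leaf) (12846, 0, 18, 240949) (.node .leaf (12847, 0, 15, 216403) .leaf)) (12848, 0, 16, 83870) (.node (.node .leaf (12849, 0, 11, 204464) .leaf) (12854, 0, 17, 258296) (.node .leaf (12855, 0, 15, 166367) .leaf))) (12856, 0, 14, 109826) (.node (.node (.node .leaf (12857, 0, 16, 23552) .leaf) (12862, 0, 17, 14957) (.node .leaf (12863, 0, 16, 79110) .leaf)) (12864, 0, 14, 32984) (.node (.node .leaf (12865, 0, 17, 24766) .leaf) (12870, 0, 17, 125406) (.node .leaf (12871, 0, 18, 68024) .leaf)))) (12872, 0, 12, 173376) (.node (.node (.node (.node .leaf (12873, 0, 15, 148774) .leaf) (12878, 0, 17, 248902) (.node .leaf (12879, 0, 17, 207904) .leaf)) (12880, 0, 17, 194701) (.node (.node .leaf (12881, 0, 19, 146224) .leaf) (12886,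 0, 14, 233867) (.node .leaf (12887, 0, 15, 225773) .leaf))) (12888, 0, 17, 56597) (.node (.node (.node .leaf (12889, 0, 18, 15731) .leaf) (12894, 0, 13, 111635) (.node .leaf (12895, 0, 15, 87157) .leaf)) (12898, 0, 16, 187144) (.node (.node .leaf (12899, 0, 17, 186558) .leaf) (12900, 0, 10, 242190) (.node .leaf (12901, 0, 14, 217704) .leaf))))))

/-- part of the orbit tree -/
def itp0_196 : Tree := (.node (.node (.node (.node (.node (.node .leaf (12907, 0, 17, 7926) .leaf) (12908, 0, 17, 130147) (.node .leaf (12909, 0, 13, 238925) .leaf)) (12914, 0, 16, 41821) (.node (.node .leaf (12915, 0, 16, 44616) .leaf) (12916, 0, 16, 117339) (.node .leaf (12917, 0, 12, 80167) .leaf))) (12922, 0, 17, 138746) (.node (.node (.node .leaf (12923, 0, 15, 157347) .leaf) (12924, 0, 18, 257987) (.node .leaf (12925, 0, 14, 119739) .leaf)) (12928, 0, 15, 97620) (.node (.node .leaf (12929, 0, 15, 105778) .leaf) (12934, 0, 15, 5202) (.node .leaf (12935, 0, 17, 62516) .leaf)))) (12936, 0, 18, 219340) (.node (.node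 (.node (.node .leaf (12937, 0, 16, 243882) .leaf) (12942, 0, 16, 143818) (.node .leaf (12943, 0, 12, 186582) .leaf)) (12944, 0, 13, 232189) (.node (.node .leaf (12945, 0, 14, 255335) .leaf) (12950, 0, 16, 138642) (.node .leaf (12951, 0, 16, 167009) .leaf))) (12952, 0, 17, 73881) (.node (.node (.node .leaf (12953, 0, 16, 114943) .leaf) (12958, 0, 18, 18847) (.node .leaf (12959, 0, 15, 44576) .leaf)) (12962, 0, 18, 206468) (.node (.node .leaf (12963, 0, 15, 247522) .leaf) (12964, 0, 15, 196124) (.node .leaf (12965, 0, 17, 176100) .leaf))))) (12970, 0, 16, 66332) (.node (.node (.node (.node (.node .leaf (12971, 0, 16, 123770) .leaf) (12972, 0, 14, 27162) (.node .leaf (12973, 0, 19, 35452) .leaf)) (12978, 0, 18, 89809) (.node (.node .leaf (12979, 0, 18, 114359) .leaf) (12980, 0, 15, 14295) (.node .leaf (12981, 0, 17, 184772) .leaf))) (12986, 0, 18, 228169) (.node (.node (.node .leaf (12987, 0, 17, 236335) .leaf) (12988, 0, 18, 25206) (.node .leaf (12989, 0, 16, 146264) .leaf)) (12994, 0, 16, 150771)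 (.node (.node .leaf (12995, 0, 13, 5597) .leaf) (12996, 0, 16, 252828) (.node .leaf (12997, 0, 16, 98994) .leaf)))) (13002, 0, 17, 90735) (.node (.node (.node (.node .leaf (13003, 0, 14, 98825) .leaf) (13004, 0, 14, 2921) (.node .leaf (13005, 0, 11, 92206) .leaf)) (13010, 0, 15, 81826) (.node (.node .leaf (13011, 0, 17, 156459) .leaf) (13012, 0, 15, 109930) (.node .leaf (13013, 0, 16, 46786) .leaf))) (13018, 0, 15, 203322) (.node (.node (.node .leaf (13019, 0, 17, 166327) .leaf) (13020, 0, 11, 83958) (.node .leaf (13021, 0, 16, 204504) .leaf)) (13024, 0, 14, 72743) (.node (.node .leaf (13025, 0, 15, 164005) .leaf) (13030, 0, 15, 85732) (.node .leaf (13031, 0, 15, 38215) .leaf))))))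

/-- part of the orbit tree -/
def itp0_197 : Tree := (.node (.node (.node (.node (.node (.node .leaf (13033, 0, 17, 252377) .leaf) (13038, 0, 16, 107640) (.node .leaf (13039, 0, 16, 176351) .leaf)) (13040, 0, 17, 222322) (.node (.node .leaf (13041, 0, 14, 230420) .leaf) (13046, 0, 16, 210962) (.node .leaf (13047, 0, 15, 90428) .leaf))) (13048, 0, 15, 148961) (.node (.node (.node .leaf (13049, 0, 17, 106892) .leaf) (13054, 0, 14, 10476) (.node .leaf (13055, 0, 15, 101280) .leaf)) (13056, 0, 18, 174977) (.node (.node .leaf (13057, 0, 16, 62127) .leaf) (13062, 0, 15, 212206) (.node .leaf (13063, 0, 9, 91584) .leaf)))) (13064, 0, 14, 147741) (.node (.node (.node (.node .leaf (13065, 0, 15, 167380) .leaf) (13070, 0, 15, 197812) (.node .leaf (13071, 0, 17, 102236) .leaf)) (13072, 0, 15, 143487) (.node (.node .leaf (13073, 0, 16, 184345) .leaf) (13078, 0, 18, 219513) (.node .leaf (13079, 0, 18, 243999) .leaf))) (13080, 0, 16, 5607) (.node (.node (.node .leaf (13081, 0, 17, 62849) .leaf) (13086, 0,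 19, 97505) (.node .leaf (13087, 0, 14, 105607) .leaf)) (13090, 0, 16, 16121) (.node (.node .leaf (13091, 0, 13, 157655) .leaf) (13092, 0, 15, 228092) (.node .leaf (13093, 0, 13, 236186) .leaf))))) (13098, 0, 14, 54373) (.node (.node (.node (.node (.node .leaf (13099, 0, 17, 167243) .leaf) (13100, 0, 16, 82698) (.node .leaf (13101, 0, 15, 203300) .leaf)) (13106, 0, 15, 149519) (.node (.node .leaf (13107, 0, 17, 4385) .leaf) (13108, 0, 14, 66217) (.node .leaf (13109, 0, 14, 99918) .leaf))) (13114, 0, 15, 151095) (.node (.node (.node .leaf (13115, 0, 15, 64445) .leaf) (13116, 0, 15, 206641) (.node .leaf (13117, 0, 17, 93394) .leaf)) (13122, 0, 16, 160393) (.node (.node .leaf (13123, 0, 16, 168687) .leaf) (13124, 0, 16, 203663) (.node .leaf (13125, 0, 17, 261097) .leaf)))) (13130, 0, 17, 22289) (.node (.node (.node (.node .leaf (13131, 0, 18, 239819) .leaf) (13132, 0, 15, 26250) (.node .leaf (13133, 0, 16, 122481) .leaf)) (13138, 0, 17, 224655) (.node (.node .leaf (13139, 0, 16, 79009) .leaf) (13140,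 0, 16, 91098) (.node .leaf (13141, 0, 17, 41934) .leaf))) (13146, 0, 15, 231187) (.node (.node (.node .leaf (13147, 0, 15, 184098) .leaf) (13148, 0, 16, 214594) (.node .leaf (13149, 0, 17, 239140) .leaf)) (13152, 0, 18, 10585) (.node (.node .leaf (13153, 0, 15, 51519) .leaf) (13158, 0, 15, 137582) (.node .leaf (13159, 0, 18, 16448) .leaf))))))

/-- part of the orbit tree -/
def itp0_198 : Tree := (.node (.node (.node (.node (.node (.node .leaf (13161, 0, 15, 81331) .leaf) (13166, 0, 18, 222663) (.node .leaf (13167, 0, 14, 230817) .leaf)) (13168, 0, 14, 151820) (.node (.node .leaf (13169, 0, 17, 176490) .leaf) (13174, 0, 14, 28568) (.node .leaf (13175, 0, 13, 252012) .leaf))) (13176, 0, 17, 70251) (.node (.node (.node .leaf (13177, 0, 16, 38130) .leaf) (13182, 0, 14, 34052) (.node .leaf (13183, 0, 16, 130548) .leaf)) (13186, 0, 15, 233221) (.node (.node .leaf (13187, 0, 16, 225123) .leaf) (13188, 0, 13, 222453) (.node .leaf (13189, 0, 16, 132709) .leaf)))) (13194, 0, 16, 109213) (.node (.node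 (.node (.node .leaf (13195, 0, 18, 84731) .leaf) (13196, 0, 12, 50075) (.node .leaf (13197, 0, 14, 120647) .leaf)) (13202, 0, 13, 34156) (.node (.node .leaf (13203, 0, 17, 187458) .leaf) (13204, 0, 16, 70147) (.node .leaf (13205, 0, 12, 215853) .leaf))) (13210, 0, 13, 28656) (.node (.node (.node .leaf (13211, 0, 11, 209582) .leaf) (13212, 0, 14, 179150) (.node .leaf (13213, 0, 15, 238001) .leaf)) (13216, 0, 17, 120021) (.node (.node .leaf (13217, 0, 11, 79027) .leaf) (13222, 0, 16, 127373) (.node .leaf (13223, 0, 16, 23989) .leaf))))) (13224, 0, 15, 35966) (.node (.node (.node (.node (.node .leaf (13225, 0, 15, 185680) .leaf) (13230, 0, 17, 170059) (.node .leaf (13231, 0, 15, 161837) .leaf)) (13232, 0, 17, 135188) (.node (.node .leaf (13233, 0, 17, 216294) .leaf) (13238, 0, 12, 181638) (.node .leaf (13239, 0, 17, 122453) .leaf))) (13240, 0, 12, 100632) (.node (.node (.node .leaf (13241, 0, 15, 92542) .leaf) (13246, 0, 14, 57374) (.node .leaf (13247, 0, 17, 120) .leaf)) (13248, 0, 15, 82786)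 (.node (.node .leaf (13249, 0, 17, 203340) .leaf) (13254, 0, 17, 56480) (.node .leaf (13255, 0, 17, 15558) .leaf)))) (13256, 0, 16, 109054) (.node (.node (.node (.node .leaf (13257, 0, 14, 258256) .leaf) (13262, 0, 17, 194872) (.node .leaf (13263, 0, 14, 157631) .leaf)) (13264, 0, 14, 210324) (.node (.node .leaf (13265, 0, 17, 93370) .leaf) (13270, 0, 17, 173301) (.node .leaf (13271, 0, 15, 64469) .leaf))) (13272, 0, 19, 253704) (.node (.node (.node .leaf (13273, 0, 14, 99878) .leaf) (13278, 0, 18, 149607) (.node .leaf (13279, 0, 15, 24843) .leaf)) (13282, 0, 17, 251418) (.node (.node .leaf (13283, 0, 15, 102196) .leaf) (13284, 0, 16, 165744) .leaf)))))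

/-- part of the orbit tree -/
def itp0_199 : Tree := (.node itp0_195 (12906, 0, 17, 65168) itp0_196)

/-- part of the orbit tree -/
def itp0_200 : Tree := (.node itp0_197 (13160, 0, 13, 134337) itp0_198)

/-- part of the orbit tree -/
def itp0_201 : Tree := (.node itp0_193 (12521, 0, 11, 159509) itp0_194)

/-- part of the orbit tree -/
def itp0_202 : Tree := (.node itp0_199 (13032, 0, 14, 211391) itp0_200)

/-- part of the orbit tree -/
def itp0_203 : Tree := (.node (.node (.node (.node (.node (.node .leaf (13290, 0, 12, 212102) .leaf) (13291, 0, 18, 91560) (.node .leaf (13292, 0, 14, 175081) .leaf)) (13293, 0, 13, 62151) (.node (.node .leaf (13298, 0, 17, 106732) .leaf) (13299, 0, 16, 260546) (.node .leaf (13300, 0, 15, 65317) .leaf))) (13301, 0, 18, 8003) (.node (.node (.node .leaf (13306, 0, 15, 242619) .leaf) (13307, 0, 14, 201566) (.node .leaf (13308, 0, 16, 187069) .leaf)) (13309, 0, 15, 146139) (.node (.node .leaf (13313, 0, 17, 204180) .leaf) (13315, 0, 16, 62950) (.node .leaf (13316,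 0, 16, 211879) .leaf)))) (13318, 0, 16, 243072) (.node (.node (.node (.node .leaf (13321, 0, 17, 6520) .leaf) (13323, 0, 18, 84317) (.node .leaf (13324, 0, 17, 250171) .leaf)) (13326, 0, 13, 102424) (.node (.node .leaf (13329, 0, 14, 93026) .leaf) (13331, 0, 18, 70800) (.node .leaf (13332, 0, 15, 40432) .leaf))) (13334, 0, 18, 118229) (.node (.node (.node .leaf (13337, 0, 18, 98814) .leaf) (13339, 0, 18, 209160) (.node .leaf (13340, 0, 15, 108493) .leaf)) (13342, 0, 15, 256077) (.node (.node .leaf (13344, 0, 17, 14768) .leaf) (13346, 0, 19, 250306) (.node .leaf (13349, 0, 18, 8067) .leaf))))) (13351, 0, 15, 24083) (.node (.node (.node (.node (.node .leaf (13352, 0, 16, 258795) .leaf) (13354, 0, 13, 211806) (.node .leaf (13357, 0, 16, 207790) .leaf)) (13359, 0, 17, 204141) (.node (.node .leaf (13360, 0, 17, 241446) .leaf) (13362, 0, 16, 196355) (.node .leaf (13365, 0, 16, 158069) .leaf))) (13367, 0, 11, 140870) (.node (.node (.node .leaf (13368, 0, 16, 101054) .leaf) (13370, 0, 16, 85416) (.node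 .leaf (13373, 0, 16, 87035) .leaf)) (13375, 0, 16, 93083) (.node (.node .leaf (13376, 0, 14, 112128) .leaf) (13378, 0, 16, 58917) (.node .leaf (13381, 0, 14, 80387) .leaf)))) (13383, 0, 17, 16224) (.node (.node (.node (.node .leaf (13384, 0, 14, 234392) .leaf) (13386, 0, 17, 138974) (.node .leaf (13389, 0, 16, 118943) .leaf)) (13391, 0, 16, 145645) (.node (.node .leaf (13392, 0, 15, 249429) .leaf) (13394, 0, 17, 33460) (.node .leaf (13397, 0, 17, 202512) .leaf))) (13399, 0, 18, 42119) (.node (.node (.node .leaf (13400, 0, 16, 125901) .leaf) (13402, 0, 17, 26664) (.node .leaf (13405, 0, 18, 239209) .leaf)) (13407, 0, 15, 25261) (.node (.node .leaf (13409, 0, 15, 155027) .leaf) (13411, 0, 16, 200118) (.node .leaf (13412, 0, 15, 165078) .leaf))))))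

/-- part of the orbit tree -/
def itp0_204 : Tree := (.node (.node (.node (.node (.node (.node .leaf (13417, 0, 17, 184968) .leaf) (13419, 0, 16, 80634) (.node .leaf (13420, 0, 15, 193723) .leaf)) (13422, 0, 14, 72905) (.node (.node .leaf (13425, 0, 17, 20194) .leaf) (13427, 0, 18, 239248) (.node .leaf (13428, 0, 16, 64643) .leaf))) (13430, 0, 16, 109734) (.node (.node (.node .leaf (13433, 0, 13, 42110) .leaf) (13435, 0, 14, 217211) (.node .leaf (13436, 0, 18, 33357) .leaf)) (13438, 0, 13, 223807) (.node (.node .leaf (13440, 0, 16, 193747) .leaf) (13442, 0, 17, 72865) (.node .leaf (13445, 0, 16, 185056) .leaf)))) (13447, 0, 17, 80530) (.node (.node (.node (.node .leaf (13448, 0, 15, 159252) .leaf) (13450, 0, 18, 128573) (.node .leaf (13453, 0, 18, 145532) .leaf)) (13455, 0, 18, 118798) (.node (.node .leaf (13456, 0, 16, 144345) .leaf) (13458, 0, 15, 222204) (.node .leaf (13461, 0, 15, 191132) .leaf))) (13463, 0, 16, 244409) (.node (.node (.node .leaf (13464, 0, 15, 5697) .leaf) (13466, 0,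 13, 229579) (.node .leaf (13469, 0, 14, 20106) .leaf)) (13471, 0, 14, 239352) (.node (.node .leaf (13473, 0, 13, 119031) .leaf) (13475, 0, 16, 145541) (.node .leaf (13476, 0, 18, 128708) .leaf))))) (13478, 0, 16, 138934) (.node (.node (.node (.node (.node .leaf (13481, 0, 15, 80491) .leaf) (13483, 0, 14, 184857) (.node .leaf (13484, 0, 16, 89282) .leaf)) (13486, 0, 14, 3303) (.node (.node .leaf (13489, 0, 16, 120906) .leaf) (13491, 0, 16, 20083) (.node .leaf (13492, 0, 14, 65807) .leaf))) (13494, 0, 16, 26688) (.node (.node (.node .leaf (13497, 0, 15, 261586) .leaf) (13499, 0, 19, 42223) (.node .leaf (13500, 0, 18, 223918) .leaf)) (13502, 0, 14, 160946) (.node (.node .leaf (13505, 0, 15, 62839) .leaf) (13507, 0, 15, 168265) (.node .leaf (13508, 0, 15, 202793) .leaf)))) (13510, 0, 18, 211766) (.node (.node (.node (.node .leaf (13513, 0, 16, 124148) .leaf) (13515, 0, 19, 46289) (.node .leaf (13516, 0, 13, 81329) .leaf)) (13518, 0, 17, 250282) (.node (.node .leaf (13521, 0, 17, 112953) .leaf)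 (13523, 0, 17, 93171) (.node .leaf (13524, 0, 19, 173490) .leaf))) (13526, 0, 12, 12377) (.node (.node (.node .leaf (13529, 0, 14, 157981) .leaf) (13531, 0, 16, 98671) (.node .leaf (13532, 0, 18, 151342) .leaf)) (13534, 0, 10, 108380) (.node (.node .leaf (13536, 0, 14, 250195) .leaf) (13538, 0, 13, 14625) (.node .leaf (13541, 0, 16, 259936) .leaf))))))

/-- part of the orbit tree -/
def itp0_205 : Tree := (.node (.node (.node (.node (.node (.node .leaf (13544, 0, 17, 211919) .leaf) (13546, 0, 17, 54205) (.node .leaf (13549, 0, 19, 185890) .leaf)) (13551, 0, 9, 230919) (.node (.node .leaf (13552, 0, 11, 108453) .leaf) (13554, 0, 17, 151511) (.node .leaf (13557, 0, 15, 98710) .leaf))) (13559, 0, 15, 158180) (.node (.node (.node .leaf (13560, 0, 17, 30514) .leaf) (13562, 0, 15, 173387) (.node .leaf (13565, 0, 18, 92938) .leaf)) (13567, 0, 15, 164728) (.node (.node .leaf (13568, 0, 16, 107353) .leaf) (13570, 0, 15, 150315) (.node .leaf (13573, 0, 16, 108471) .leaf)))) (13575, 0, 15, 159000) (.node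 (.node (.node (.node .leaf (13576, 0, 16, 220010) .leaf) (13578, 0, 17, 133967) (.node .leaf (13581, 0, 14, 94198) .leaf)) (13583, 0, 13, 165764) (.node (.node .leaf (13584, 0, 15, 251311) .leaf) (13586, 0, 17, 15837) (.node .leaf (13589, 0, 18, 253922) .leaf))) (13591, 0, 15, 7150) (.node (.node (.node .leaf (13592, 0, 16, 74559) .leaf) (13594, 0, 14, 55105) (.node .leaf (13597, 0, 16, 129658) .leaf)) (13599, 0, 17, 43615) (.node (.node .leaf (13601, 0, 16, 165757) .leaf) (13603, 0, 15, 93967) (.node .leaf (13604, 0, 18, 150564) .leaf))))) (13606, 0, 17, 84284) (.node (.node (.node (.node (.node .leaf (13609, 0, 14, 159201) .leaf) (13611, 0, 17, 99731) (.node .leaf (13612, 0, 12, 27068) .leaf)) (13614, 0, 16, 80281) (.node (.node .leaf (13617, 0, 16, 60724) .leaf) (13619, 0, 17, 203257) (.node .leaf (13620, 0, 16, 55224) .leaf))) (13622, 0, 17, 212938) (.node (.node (.node .leaf (13625, 0, 15, 6935) .leaf) (13627, 0, 18, 235657) (.node .leaf (13628, 0, 16, 15652) .leaf)) (13630, 0, 18, 251222)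 (.node (.node .leaf (13633, 0, 13, 193554) .leaf) (13635, 0, 16, 238647) (.node .leaf (13636, 0, 17, 142679) .leaf)))) (13638, 0, 16, 27836) (.node (.node (.node (.node .leaf (13641, 0, 15, 53642) .leaf) (13643, 0, 16, 98735) (.node .leaf (13644, 0, 16, 224850) .leaf)) (13646, 0, 17, 34336) (.node (.node .leaf (13649, 0, 15, 119819) .leaf) (13651, 0, 16, 146553) (.node .leaf (13652, 0, 15, 127544) .leaf))) (13654, 0, 18, 137802) (.node (.node (.node .leaf (13657, 0, 18, 174559) .leaf) (13659, 0, 13, 186085) (.node .leaf (13660, 0, 18, 71844) .leaf)) (13662, 0, 17, 204991) (.node (.node .leaf (13664, 0, 10, 73601) .leaf) (13666, 0, 15, 224939) (.node .leaf (13669, 0, 14, 116420) .leaf))))))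

/-- part of the orbit tree -/
def itp0_206 : Tree := (.node (.node (.node (.node (.node (.node .leaf (13672, 0, 16, 211481) .leaf) (13674, 0, 18, 230455) (.node .leaf (13677, 0, 17, 19062) .leaf)) (13679, 0, 17, 177017) (.node (.node .leaf (13680, 0, 14, 192559) .leaf) (13682, 0, 13, 145393) (.node .leaf (13685, 0, 13, 245393) .leaf))) (13687, 0, 10, 192180) (.node (.node (.node .leaf (13688, 0, 16, 82508) .leaf) (13690, 0, 12, 127681) (.node .leaf (13693, 0, 16, 105225) .leaf)) (13695, 0, 12, 52012) (.node (.node .leaf (13697, 0, 16, 199070) .leaf) (13699, 0, 17, 238188) (.node .leaf (13700, 0, 17, 27693) .leaf)))) (13702, 0, 17, 164094) (.node (.node (.node (.node .leaf (13705, 0, 14, 76806) .leaf) (13707, 0, 15, 215280) (.node .leaf (13708, 0, 15, 34481) .leaf)) (13710, 0, 17, 224963) (.node (.node .leaf (13713, 0, 18, 146664) .leaf) (13715, 0, 14, 8686) (.node .leaf (13716, 0, 18, 108686) .leaf))) (13718, 0, 13, 63659) (.node (.node (.node .leaf (13721, 0, 17, 218195) .leaf) (13723, 0,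 13, 132214) (.node .leaf (13724, 0, 14, 192583) .leaf)) (13726, 0, 18, 187699) (.node (.node .leaf (13728, 0, 16, 57869) .leaf) (13730, 0, 11, 111144) (.node .leaf (13733, 0, 14, 215049) .leaf))))) (13735, 0, 14, 93037) (.node (.node (.node (.node (.node .leaf (13736, 0, 16, 230566) .leaf) (13738, 0, 16, 235440) (.node .leaf (13741, 0, 16, 238229) .leaf)) (13743, 0, 16, 216821) (.node (.node .leaf (13744, 0, 14, 170584) .leaf) (13746, 0, 16, 192702) (.node .leaf (13749, 0, 13, 81663) .leaf))) (13751, 0, 16, 201528) (.node (.node (.node .leaf (13752, 0, 17, 49088) .leaf) (13754, 0, 16, 126949) (.node .leaf (13757, 0, 13, 26245) .leaf)) (13759, 0, 18, 146449) (.node (.node .leaf (13760, 0, 14, 33662) .leaf) (13762, 0, 16, 119643) (.node .leaf (13765, 0, 18, 159113) .leaf)))) (13767, 0, 16, 68126) (.node (.node (.node (.node .leaf (13768, 0, 18, 173798) .leaf) (13770, 0, 10, 259779) (.node .leaf (13773, 0, 15, 163747) .leaf)) (13775, 0, 15, 94055) (.node (.node .leaf (13776, 0, 15, 195371) .leaf)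 (13778, 0, 15, 251198) (.node .leaf (13781, 0, 17, 7039) .leaf))) (13783, 0, 18, 258829) (.node (.node (.node .leaf (13784, 0, 19, 57011) .leaf) (13786, 0, 17, 212898) (.node .leaf (13789, 0, 16, 61923) .leaf)) (13791, 0, 16, 203153) (.node (.node .leaf (13793, 0, 16, 94110) .leaf) (13795, 0, 11, 165868) (.node .leaf (13796, 0, 17, 242088) .leaf))))))

/-- part of the orbit tree -/
def itp0_207 : Tree := (.node itp0_203 (13414, 0, 17, 128597) itp0_204)

/-- part of the orbit tree -/
def itp0_208 : Tree := (.node itp0_205 (13671, 0, 16, 38625) itp0_206)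

/-- part of the orbit tree -/
def itp0_209 : Tree := (.node (.node (.node (.node (.node (.node .leaf (13801, 0, 18, 99586) .leaf) (13803, 0, 13, 159088) (.node .leaf (13804, 0, 13, 107313) .leaf)) (13806, 0, 15, 50197) (.node (.node .leaf (13809, 0, 17, 203112) .leaf) (13811, 0, 17, 61722) (.node .leaf (13812, 0, 16, 212827) .leaf))) (13814, 0, 15, 55081) (.node (.node (.node .leaf (13817, 0, 16, 210208) .leaf) (13819, 0, 15, 156933) (.node .leaf (13820, 0, 17, 251335) .leaf)) (13822, 0, 18, 179264) (.node (.node .leaf (13824, 0, 11, 82326) .leaf) (13825, 0, 14, 135312) (.node .leaf (13826, 0, 17, 237779) .leaf)))) (13827, 0, 14, 213173) (.node (.node (.node (.node .leaf (13832, 0, 17, 109322) .leaf) (13833, 0, 16, 258596) (.node .leaf (13834, 0, 16, 148344) .leaf)) (13835, 0, 11, 6742) (.node (.node .leaf (13840, 0, 17, 210784) .leaf) (13841, 0, 17, 26821) (.node .leaf (13842, 0, 14, 57106) .leaf))) (13843, 0, 14, 80096) (.node (.node (.node .leaf (13848, 0, 14, 175419) .leaf) (13849, 0,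 15, 150877) (.node .leaf (13850, 0, 18, 13710) .leaf)) (13851, 0, 16, 158880) (.node (.node .leaf (13860, 0, 16, 115232) .leaf) (13861, 0, 16, 74310) (.node .leaf (13862, 0, 14, 109555) .leaf))))) (13863, 0, 14, 258781) (.node (.node (.node (.node (.node .leaf (13868, 0, 16, 174365) .leaf) (13869, 0, 12, 198622) (.node .leaf (13870, 0, 14, 82287) .leaf)) (13871, 0, 11, 153595) (.node (.node .leaf (13876, 0, 11, 13687) .leaf) (13877, 0, 17, 219667) (.node .leaf (13878, 0, 16, 191056) .leaf))) (13879, 0, 14, 133686) (.node (.node (.node .leaf (13884, 0, 17, 106477) .leaf) (13885, 0, 19, 98187) (.node .leaf (13886, 0, 15, 53192) .leaf)) (13887, 0, 15, 12206) (.node (.node .leaf (13892, 0, 16, 107347) .leaf) (13893, 0, 16, 81711) (.node .leaf (13894, 0, 12, 62326) .leaf)))) (13895, 0, 17, 4880) (.node (.node (.node (.node .leaf (13900, 0, 15, 232605) .leaf) (13901, 0, 16, 222893) (.node .leaf (13902, 0, 17, 25839) .leaf)) (13903, 0, 16, 146881) (.node (.node .leaf (13908, 0, 17, 69879) .leaf) (13909,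 0, 17, 215513) (.node .leaf (13910, 0, 16, 166691) .leaf))) (13911, 0, 15, 158533) (.node (.node (.node .leaf (13916, 0, 16, 130718) .leaf) (13917, 0, 17, 238405) (.node .leaf (13918, 0, 15, 135705) .leaf)) (13919, 0, 18, 19255) (.node (.node .leaf (13920, 0, 13, 168325) .leaf) (13921, 0, 14, 146744) (.node .leaf (13922, 0, 15, 232548) .leaf))))))

/-- part of the orbit tree -/
def itp0_210 : Tree := (.node (.node (.node (.node (.node (.node .leaf (13928, 0, 13, 46109) .leaf) (13929, 0, 18, 186276) (.node .leaf (13930, 0, 15, 123960) .leaf)) (13931, 0, 15, 66654) (.node (.node .leaf (13936, 0, 18, 135904) .leaf) (13937, 0, 15, 19406) (.node .leaf (13938, 0, 16, 113141) .leaf))) (13939, 0, 17, 88467) (.node (.node (.node .leaf (13944, 0, 15, 194684) .leaf) (13945, 0, 14, 142382) (.node .leaf (13946, 0, 16, 69646) .leaf)) (13947, 0, 17, 228363) (.node (.node .leaf (13956, 0, 14, 36578) .leaf) (13957, 0, 16, 186316) (.node .leaf (13958, 0, 16, 222864) .leaf)))) (13959, 0, 15, 81854) (.node (.node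 (.node (.node .leaf (13964, 0, 14, 25726) .leaf) (13965, 0, 13, 146768) (.node .leaf (13966, 0, 18, 207714) .leaf)) (13967, 0, 18, 248580) (.node (.node .leaf (13972, 0, 17, 140938) .leaf) (13973, 0, 16, 41274) (.node .leaf (13974, 0, 17, 226991) .leaf))) (13975, 0, 16, 215368) (.node (.node (.node .leaf (13980, 0, 12, 135816) .leaf) (13981, 0, 13, 58228) (.node .leaf (13982, 0, 12, 86839) .leaf)) (13983, 0, 17, 111441) (.node (.node .leaf (13984, 0, 14, 224265) .leaf) (13985, 0, 17, 232559) (.node .leaf (13986, 0, 17, 25735) .leaf))))) (13987, 0, 16, 187466) (.node (.node (.node (.node (.node .leaf (13992, 0, 17, 84369) .leaf) (13993, 0, 17, 81735) (.node .leaf (13994, 0, 18, 6580) .leaf)) (13995, 0, 16, 186165) (.node (.node .leaf (14000, 0, 15, 70748) .leaf) (14001, 0, 16, 128058) (.node .leaf (14002, 0, 14, 135793) .leaf))) (14003, 0, 16, 19295) (.node (.node (.node .leaf (14008, 0, 17, 209348) .leaf) (14009, 0, 14, 250274) (.node .leaf (14010, 0, 12, 156129) .leaf)) (14011, 0, 17, 41411)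 (.node (.node .leaf (14016, 0, 17, 174453) .leaf) (14017, 0, 15, 61531) (.node .leaf (14018, 0, 14, 154975) .leaf)))) (14019, 0, 15, 202793) (.node (.node (.node (.node .leaf (14024, 0, 10, 76002) .leaf) (14025, 0, 16, 116868) (.node .leaf (14026, 0, 18, 109467) .leaf)) (14027, 0, 16, 39073) (.node (.node .leaf (14032, 0, 12, 95535) .leaf) (14033, 0, 17, 103753) (.node .leaf (14034, 0, 15, 9482) .leaf))) (14035, 0, 14, 50540) (.node (.node (.node .leaf (14040, 0, 18, 13599) .leaf) (14041, 0, 13, 241873) (.node .leaf (14042, 0, 16, 253293) .leaf)) (14043, 0, 18, 99395) (.node (.node .leaf (14052, 0, 15, 16300) .leaf) (14053, 0, 17, 57290) (.node .leaf (14054, 0, 16, 94089) .leaf))))))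

/-- part of the orbit tree -/
def itp0_211 : Tree := (.node (.node (.node (.node (.node (.node .leaf (14060, 0, 18, 137780) .leaf) (14061, 0, 18, 195154) (.node .leaf (14062, 0, 15, 174476) .leaf)) (14063, 0, 17, 240247) (.node (.node .leaf (14068, 0, 17, 149497) .leaf) (14069, 0, 11, 99514) (.node .leaf (14070, 0, 15, 202716) .leaf))) (14071, 0, 15, 158920) (.node (.node (.node .leaf (14076, 0, 16, 210696) .leaf) (14077, 0, 16, 33287) (.node .leaf (14078, 0, 14, 78404) .leaf)) (14079, 0, 19, 165460) (.node (.node .leaf (14084, 0, 15, 93089) .leaf) (14085, 0, 18, 101319) (.node .leaf (14086, 0, 17, 12570) .leaf)))) (14087, 0, 14, 56290) (.node (.node (.node (.node .leaf (14092, 0, 12, 209908) .leaf) (14093, 0, 14, 92890) (.node .leaf (14094, 0, 9, 56198) .leaf)) (14095, 0, 11, 196218) (.node (.node .leaf (14100, 0, 17, 110494) .leaf) (14101, 0, 13, 258962) (.node .leaf (14102, 0, 13, 148433) .leaf))) (14103, 0, 16, 7874) (.node (.node (.node .leaf (14108, 0, 18, 79468) .leaf) (14109, 0, 18,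 120330) (.node .leaf (14110, 0, 12, 26185) .leaf)) (14111, 0, 18, 62558) (.node (.node .leaf (14112, 0, 14, 56191) .leaf) (14113, 0, 15, 178449) (.node .leaf (14114, 0, 17, 198994) .leaf))))) (14115, 0, 17, 92707) (.node (.node (.node (.node (.node .leaf (14120, 0, 16, 31983) .leaf) (14121, 0, 17, 40073) (.node .leaf (14122, 0, 13, 252305) .leaf)) (14123, 0, 17, 98495) (.node (.node .leaf (14128, 0, 18, 175497) .leaf) (14129, 0, 11, 49476) (.node .leaf (14130, 0, 16, 83451) .leaf))) (14131, 0, 16, 102753) (.node (.node (.node .leaf (14136, 0, 17, 149269) .leaf) (14137, 0, 15, 7739) (.node .leaf (14138, 0, 15, 218271) .leaf)) (14139, 0, 17, 259657) (.node (.node .leaf (14144, 0, 16, 130815) .leaf) (14145, 0, 15, 186466) (.node .leaf (14146, 0, 16, 136845) .leaf)))) (14147, 0, 14, 20387) (.node (.node (.node (.node .leaf (14152, 0, 14, 7580) .leaf) (14153, 0, 17, 65018) (.node .leaf (14154, 0, 15, 195601) .leaf)) (14155, 0, 15, 110047) (.node (.node .leaf (14160, 0, 18, 231433) .leaf) (14161,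 0, 16, 41015) (.node .leaf (14162, 0, 16, 69748) .leaf))) (14163, 0, 16, 126994) (.node (.node (.node .leaf (14168, 0, 15, 221845) .leaf) (14169, 0, 16, 80827) (.node .leaf (14170, 0, 17, 35559) .leaf)) (14171, 0, 12, 185289) (.node (.node .leaf (14180, 0, 15, 68306) .leaf) (14181, 0, 16, 42438) (.node .leaf (14182, 0, 14, 23287) .leaf))))))

/-- part of the orbit tree -/
def itp0_212 : Tree := (.node (.node (.node (.node (.node (.node .leaf (14188, 0, 13, 136820) .leaf) (14189, 0, 14, 20314) (.node .leaf (14190, 0, 15, 163695) .leaf)) (14191, 0, 18, 171785) (.node (.node .leaf (14196, 0, 15, 35358) .leaf) (14197, 0, 14, 234209) (.node .leaf (14198, 0, 16, 221804) .leaf))) (14199, 0, 17, 180932) (.node (.node (.node .leaf (14204, 0, 16, 87839) .leaf) (14205, 0, 18, 112505) (.node .leaf (14206, 0, 15, 231664) .leaf)) (14207, 0, 17, 59228) (.node (.node .leaf (14208, 0, 18, 247176) .leaf) (14209, 0, 13, 206318) (.node .leaf (14210, 0, 14, 130670) .leaf)))) (14211, 0, 15, 161227) (.node (.node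 (.node (.node .leaf (14216, 0, 16, 122896) .leaf) (14217, 0, 15, 65654) (.node .leaf (14218, 0, 17, 45109) .leaf)) (14219, 0, 14, 20563) (.node (.node .leaf (14224, 0, 17, 114141) .leaf) (14225, 0, 15, 145860) (.node .leaf (14226, 0, 16, 60920) .leaf))) (14227, 0, 16, 119222) (.node (.node (.node .leaf (14232, 0, 16, 35446) .leaf) (14233, 0, 13, 227363) (.node .leaf (14234, 0, 16, 221700) .leaf)) (14235, 0, 16, 141318) (.node (.node .leaf (14244, 0, 18, 70667) .leaf) (14245, 0, 15, 5944) (.node .leaf (14246, 0, 18, 108411) .leaf))))) (14247, 0, 17, 83741) (.node (.node (.node (.node (.node .leaf (14252, 0, 15, 130711) .leaf) (14253, 0, 17, 144032) (.node .leaf (14254, 0, 17, 136933) .leaf)) (14255, 0, 17, 221829) (.node (.node .leaf (14260, 0, 14, 167691) .leaf) (14261, 0, 16, 80851) (.node .leaf (14262, 0, 11, 35471) .leaf))) (14263, 0, 16, 185249) (.node (.node (.node .leaf (14268, 0, 18, 43667) .leaf) (14269, 0, 17, 19189) (.node .leaf (14270, 0, 17, 24595) .leaf)) (14271, 0, 11, 72400)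 (.node (.node .leaf (14276, 0, 12, 38445) .leaf) (14277, 0, 12, 157861) (.node .leaf (14278, 0, 19, 252409) .leaf)))) (14279, 0, 12, 98519) (.node (.node (.node (.node .leaf (14284, 0, 16, 56087) .leaf) (14285, 0, 17, 164409) (.node .leaf (14286, 0, 16, 209765) .leaf)) (14287, 0, 9, 197622) (.node (.node .leaf (14292, 0, 17, 192120) .leaf) (14293, 0, 11, 7763) (.node .leaf (14294, 0, 17, 110351) .leaf))) (14295, 0, 14, 220731) (.node (.node (.node .leaf (14300, 0, 15, 175585) .leaf) (14301, 0, 18, 11142) (.node .leaf (14302, 0, 16, 83347) .leaf)) (14303, 0, 17, 97187) (.node (.node .leaf (14304, 0, 11, 209820) .leaf) (14305, 0, 18, 92850) .leaf)))))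

/-- part of the orbit tree -/
def itp0_213 : Tree := (.node itp0_209 (13923, 0, 19, 120138) itp0_210)

/-- part of the orbit tree -/
def itp0_214 : Tree := (.node itp0_211 (14183, 0, 16, 216500) itp0_212)

/-- part of the orbit tree -/
def itp0_215 : Tree := (.node itp0_207 (13543, 0, 14, 107423) itp0_208)

/-- part of the orbit tree -/
def itp0_216 : Tree := (.node itp0_213 (14055, 0, 17, 102383) itp0_214)

/-- part of the orbit tree -/
def itp0_217 : Tree := (.node itp0_201 (12776, 0, 18, 47035) itp0_202)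

/-- part of the orbit tree -/
def itp0_218 : Tree := (.node itp0_215 (13798, 0, 17, 188813) itp0_216)

/-- part of the orbit tree -/
def itp0_219 : Tree := (.node (.node (.node (.node (.node (.node .leaf (14307, 0, 15, 164544) .leaf) (14312, 0, 16, 252160) (.node .leaf (14313, 0, 15, 90373) .leaf)) (14314, 0, 15, 53574) (.node (.node .leaf (14315, 0, 18, 157788) .leaf) (14320, 0, 15, 122030) (.node .leaf (14321, 0, 16, 81096) .leaf))) (14322, 0, 15, 35979) (.node (.node (.node .leaf (14323, 0, 17, 62518) .leaf) (14328, 0, 15, 110582) (.node .leaf (14329, 0, 15, 259800) .leaf)) (14330, 0, 15, 149380) (.node (.node .leaf (14331, 0, 18, 149877) .leaf) (14337, 0, 16, 88148) (.node .leaf (14338, 0, 15, 123907) .leaf)))) (14341, 0, 17, 90487) (.node (.node (.node (.node .leaf (14342, 0, 17, 236318) .leaf) (14345, 0, 15, 49091) (.node .leaf (14346, 0, 13, 183695) .leaf)) (14349, 0, 15, 214255) (.node (.node .leaf (14350, 0, 18, 225666) .leaf) (14353, 0, 16, 204801) (.node .leaf (14354, 0, 17, 234229)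 .leaf))) (14357, 0, 10, 23732) (.node (.node (.node .leaf (14358, 0, 16, 126440) .leaf) (14361, 0, 17, 182581) (.node .leaf (14362, 0, 17, 46554) .leaf)) (14365, 0, 19, 46632) (.node (.node .leaf (14366, 0, 17, 67444) .leaf) (14368, 0, 13, 225659) (.node .leaf (14371, 0, 14, 197508) .leaf))))) (14372, 0, 17, 69222) (.node (.node (.node (.node (.node .leaf (14375, 0, 17, 211623) .leaf) (14376, 0, 18, 236519) (.node .leaf (14379, 0, 16, 75292) .leaf)) (14380, 0, 16, 124154) (.node (.node .leaf (14383, 0, 15, 21926) .leaf) (14384, 0, 14, 52114) (.node .leaf (14387, 0, 12, 46801) .leaf))) (14388, 0, 14, 62129) (.node (.node (.node .leaf (14391, 0, 15, 182732) .leaf) (14392, 0, 16, 192010) (.node .leaf (14395, 0, 15, 220745) .leaf)) (14396, 0, 15, 186153) (.node (.node .leaf (14399, 0, 15, 223082) .leaf) (14400, 0, 16, 152827) (.node .leaf (14403, 0, 15, 255399) .leaf)))) (14404, 0, 14, 191383) (.node (.node (.node (.node .leaf (14407, 0, 16, 105146) .leaf) (14408, 0, 17, 179815) (.node .leaf (14411,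 0, 8, 83823) .leaf)) (14412, 0, 15, 49530) (.node (.node .leaf (14415, 0, 18, 97868) .leaf) (14416, 0, 18, 43745) (.node .leaf (14419, 0, 16, 103249) .leaf))) (14420, 0, 18, 154896) (.node (.node (.node .leaf (14423, 0, 16, 74625) .leaf) (14424, 0, 18, 167801) (.node .leaf (14427, 0, 17, 212794) .leaf)) (14428, 0, 18, 178060) (.node (.node .leaf (14431, 0, 18, 198169) .leaf) (14433, 0, 12, 80167) (.node .leaf (14434, 0, 18, 49539) .leaf))))))

/-- part of the orbit tree -/
def itp0_220 : Tree := (.node (.node (.node (.node (.node (.node .leaf (14438, 0, 17, 179870) .leaf) (14441, 0, 17, 203967) (.node .leaf (14442, 0, 17, 11039) .leaf)) (14445, 0, 18, 206236) (.node (.node .leaf (14446, 0, 14, 169439) .leaf) (14449, 0, 16, 213362) (.node .leaf (14450, 0, 15, 192817) .leaf))) (14453, 0, 17, 227409) (.node (.node (.node .leaf (14454, 0, 17, 51304) .leaf) (14457, 0, 17, 91370) (.node .leaf (14458, 0, 14, 54441) .leaf)) (14461, 0, 15, 103336) (.node (.node .leaf (14462, 0, 16, 60810) .leaf) (14464,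 0, 18, 208696) (.node .leaf (14467, 0, 17, 171899) .leaf)))) (14468, 0, 18, 246533) (.node (.node (.node (.node .leaf (14471, 0, 18, 173656) .leaf) (14472, 0, 15, 68256) (.node .leaf (14475, 0, 17, 47843) .leaf)) (14476, 0, 18, 78723) (.node (.node .leaf (14479, 0, 18, 170181) .leaf) (14480, 0, 16, 87917) (.node .leaf (14483, 0, 12, 59182) .leaf))) (14484, 0, 18, 93774) (.node (.node (.node .leaf (14487, 0, 14, 1199) .leaf) (14488, 0, 17, 204914) (.node .leaf (14491, 0, 15, 168238) .leaf)) (14492, 0, 14, 216022) (.node (.node .leaf (14495, 0, 16, 60979) .leaf) (14497, 0, 17, 170044) (.node .leaf (14498, 0, 15, 95464) .leaf))))) (14501, 0, 12, 64904) (.node (.node (.node (.node (.node .leaf (14502, 0, 17, 87677) .leaf) (14505, 0, 18, 160416) (.node .leaf (14506, 0, 15, 217456) .leaf)) (14509, 0, 17, 186384) (.node (.node .leaf (14510, 0, 15, 113889) .leaf) (14513, 0, 13, 179454) (.node .leaf (14514, 0, 14, 90006) .leaf))) (14517, 0, 17, 165341) (.node (.node (.node .leaf (14518, 0, 17, 204939)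 .leaf) (14521, 0, 18, 39270) (.node .leaf (14522, 0, 18, 76069) .leaf)) (14525, 0, 16, 41029) (.node (.node .leaf (14526, 0, 15, 248343) .leaf) (14529, 0, 14, 245180) (.node .leaf (14530, 0, 13, 134368) .leaf)))) (14533, 0, 18, 115361) (.node (.node (.node (.node .leaf (14534, 0, 17, 76984) .leaf) (14537, 0, 14, 163904) (.node .leaf (14538, 0, 16, 208899) .leaf)) (14541, 0, 13, 178531) (.node (.node .leaf (14542, 0, 17, 39265) .leaf) (14545, 0, 19, 187789) (.node .leaf (14546, 0, 15, 31254) .leaf))) (14549, 0, 18, 189614) (.node (.node (.node .leaf (14550, 0, 17, 218349) .leaf) (14553, 0, 15, 74198) (.node .leaf (14554, 0, 17, 84054) .leaf)) (14557, 0, 16, 220875) (.node (.node .leaf (14558, 0, 15, 192407) .leaf) (14560, 0, 16, 39320) (.node .leaf (14563, 0, 15, 75972) .leaf))))))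

/-- part of the orbit tree -/
def itp0_221 : Tree := (.node (.node (.node (.node (.node (.node .leaf (14567, 0, 17, 182059) .leaf) (14568, 0, 15, 29444) (.node .leaf (14571, 0, 18, 56208) .leaf)) (14572, 0, 16, 86768) (.node (.node .leaf (14575, 0, 17, 58035) .leaf) (14576, 0, 13, 192366) (.node .leaf (14579, 0, 16, 220722) .leaf))) (14580, 0, 17, 69437) (.node (.node (.node .leaf (14583, 0, 16, 74031) .leaf) (14584, 0, 14, 201606) (.node .leaf (14587, 0, 17, 172997) .leaf)) (14588, 0, 16, 207525) (.node (.node .leaf (14591, 0, 15, 170726) .leaf) (14592, 0, 14, 137798) (.node .leaf (14595, 0, 18, 219854) .leaf)))) (14596, 0, 18, 140133) (.node (.node (.node (.node .leaf (14599, 0, 16, 234278) .leaf) (14600, 0, 14, 131342) (.node .leaf (14603, 0, 17, 102301) .leaf)) (14604, 0, 17, 32275) (.node (.node .leaf (14607, 0, 16, 112318) .leaf) (14608, 0, 14, 25107) (.node .leaf (14611, 0, 15, 76856) .leaf))) (14612, 0, 14, 23344) (.node (.node (.node .leaf (14615, 0, 18, 217893) .leaf) (14616, 0,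 16, 30712) (.node .leaf (14619, 0, 16, 260040) .leaf)) (14620, 0, 15, 163496) (.node (.node .leaf (14623, 0, 17, 244153) .leaf) (14625, 0, 12, 127445) (.node .leaf (14626, 0, 16, 32490) .leaf))))) (14629, 0, 14, 116982) (.node (.node (.node (.node (.node .leaf (14630, 0, 17, 131575) .leaf) (14633, 0, 18, 75050) (.node .leaf (14634, 0, 13, 38006) .leaf)) (14637, 0, 17, 257390) (.node (.node .leaf (14638, 0, 17, 154925) .leaf) (14641, 0, 14, 231808) (.node .leaf (14642, 0, 15, 133148) .leaf))) (14645, 0, 17, 241827) (.node (.node (.node .leaf (14646, 0, 16, 131296) .leaf) (14649, 0, 18, 109592) (.node .leaf (14650, 0, 13, 189056) .leaf)) (14653, 0, 16, 103739) (.node (.node .leaf (14654, 0, 16, 9592) .leaf) (14657, 0, 18, 59958) (.node .leaf (14658, 0, 18, 88938) .leaf)))) (14661, 0, 14, 169259) (.node (.node (.node (.node .leaf (14662, 0, 15, 205943) .leaf) (14665, 0, 18, 170) (.node .leaf (14666, 0, 17, 111094) .leaf)) (14669, 0, 16, 163767) (.node (.node .leaf (14670, 0, 14, 146526) .leaf)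 (14673, 0, 18, 256243) (.node .leaf (14674, 0, 16, 153776) .leaf))) (14677, 0, 13, 58333) (.node (.node (.node .leaf (14678, 0, 16, 86657) .leaf) (14681, 0, 17, 161372) (.node .leaf (14682, 0, 8, 32040) .leaf)) (14685, 0, 18, 2369) (.node (.node .leaf (14686, 0, 18, 112669) .leaf) (14688, 0, 16, 249362) (.node .leaf (14691, 0, 13, 163662) .leaf))))))

/-- part of the orbit tree -/
def itp0_222 : Tree := (.node (.node (.node (.node (.node (.node .leaf (14695, 0, 15, 83) .leaf) (14696, 0, 16, 24237) (.node .leaf (14699, 0, 16, 169426) .leaf)) (14700, 0, 15, 26510) (.node (.node .leaf (14703, 0, 16, 60111) .leaf) (14704, 0, 13, 112868) (.node .leaf (14707, 0, 11, 2488) .leaf))) (14708, 0, 13, 14915) (.node (.node (.node .leaf (14711, 0, 15, 161445) .leaf) (14712, 0, 18, 141048) (.node .leaf (14715, 0, 17, 235195) .leaf)) (14716, 0, 16, 139227) (.node (.node .leaf (14719, 0, 15, 241560) .leaf) (14721, 0, 15, 27946) (.node .leaf (14722, 0, 16, 122217) .leaf)))) (14725, 0, 18, 97736) (.node (.node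 (.node (.node .leaf (14726, 0, 15, 123978) .leaf) (14729, 0, 13, 149682) (.node .leaf (14730, 0, 14, 260337) .leaf)) (14733, 0, 17, 104276) (.node (.node .leaf (14734, 0, 17, 9736) .leaf) (14737, 0, 15, 95267) (.node .leaf (14738, 0, 15, 238908) .leaf))) (14741, 0, 13, 199486) (.node (.node (.node .leaf (14742, 0, 16, 236575) .leaf) (14745, 0, 18, 106175) (.node .leaf (14746, 0, 16, 98468) .leaf)) (14749, 0, 18, 2500) (.node (.node .leaf (14750, 0, 17, 113031) .leaf) (14752, 0, 17, 231097) (.node .leaf (14755, 0, 18, 145146) .leaf))))) (14756, 0, 16, 154092) (.node (.node (.node (.node (.node .leaf (14759, 0, 15, 256176) .leaf) (14760, 0, 17, 52333) (.node .leaf (14763, 0, 14, 4962) .leaf)) (14764, 0, 14, 104962) (.node (.node .leaf (14767, 0, 16, 10817) .leaf) (14768, 0, 16, 151559) (.node .leaf (14771, 0, 13, 20143) .leaf))) (14772, 0, 15, 12058) (.node (.node (.node .leaf (14775, 0, 17, 30604) .leaf) (14776, 0, 17, 178843) (.node .leaf (14779, 0, 16, 199623) .leaf)) (14780, 0, 14, 254551)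 (.node (.node .leaf (14783, 0, 18, 95450) .leaf) (14784, 0, 13, 255946) (.node .leaf (14787, 0, 18, 45613) .leaf)))) (14788, 0, 16, 253673) (.node (.node (.node (.node .leaf (14791, 0, 17, 159402) .leaf) (14792, 0, 14, 115282) (.node .leaf (14795, 0, 16, 29201) .leaf)) (14796, 0, 16, 235248) (.node (.node .leaf (14799, 0, 15, 19250) .leaf) (14800, 0, 17, 226695) (.node .leaf (14803, 0, 17, 12252) .leaf))) (14804, 0, 16, 68250) (.node (.node (.node .leaf (14807, 0, 14, 5887) .leaf) (14808, 0, 15, 237339) (.node .leaf (14811, 0, 13, 133700) .leaf)) (14812, 0, 15, 122886) (.node (.node .leaf (14815, 0, 15, 144231) .leaf) (14817, 0, 15, 3161) (.node .leaf (14818, 0, 15, 113690) .leaf))))))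

/-- part of the orbit tree -/
def itp0_223 : Tree := (.node itp0_219 (14437, 0, 16, 200642) itp0_220)

/-- part of the orbit tree -/
def itp0_224 : Tree := (.node itp0_221 (14692, 0, 16, 110863) itp0_222)

/-- part of the orbit tree -/
def itp0_225 : Tree := (.node (.node (.node (.node (.node (.node .leaf (14822, 0, 15, 99641) .leaf) (14825, 0, 17, 183753) (.node .leaf (14826, 0, 13, 235906) .leaf)) (14829, 0, 16, 135394) (.node (.node .leaf (14830, 0, 15, 66440) .leaf) (14833, 0, 14, 160780) (.node .leaf (14834, 0, 15, 123135) .leaf))) (14837, 0, 14, 143038) (.node (.node (.node .leaf (14838, 0, 14, 261484) .leaf) (14841, 0, 18, 20884) (.node .leaf (14842, 0, 11, 123351) .leaf)) (14845, 0, 16, 26807) (.node (.node .leaf (14846, 0, 14, 226686) .leaf) (14848, 0, 13, 133469) (.node .leaf (14849, 0, 16, 95268) .leaf)))) (14852, 0, 16, 30272) (.node (.node (.node (.node .leaf (14853, 0, 17, 85255) .leaf) (14856, 0, 14, 242138) (.node .leaf (14857, 0, 16, 47855) .leaf)) (14860, 0, 17, 231673) (.node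 (.node .leaf (14861, 0, 16, 223391) .leaf) (14864, 0, 16, 257047) (.node .leaf (14865, 0, 17, 140933) .leaf))) (14868, 0, 17, 251188) (.node (.node (.node .leaf (14869, 0, 18, 210258) .leaf) (14872, 0, 15, 38199) (.node .leaf (14873, 0, 16, 76265) .leaf)) (14876, 0, 15, 127148) (.node (.node .leaf (14877, 0, 15, 69834) .leaf) (14882, 0, 15, 249746) (.node .leaf (14883, 0, 17, 208884) .leaf))))) (14886, 0, 16, 259761) (.node (.node (.node (.node (.node .leaf (14887, 0, 11, 47638) .leaf) (14890, 0, 17, 30393) (.node .leaf (14891, 0, 16, 68204) .leaf)) (14894, 0, 18, 133540) (.node (.node .leaf (14895, 0, 18, 78671) .leaf) (14898, 0, 16, 112583) (.node .leaf (14899, 0, 15, 87969) .leaf))) (14902, 0, 17, 38350) (.node (.node (.node .leaf (14903, 0, 15, 93826) .leaf) (14906, 0, 18, 234079) (.node .leaf (14907, 0, 16, 225849) .leaf)) (14910, 0, 16, 32594) (.node (.node .leaf (14911, 0, 16, 215834) .leaf) (14914, 0, 15, 241377) (.node .leaf (14915, 0, 12, 216711) .leaf)))) (14918, 0, 17, 247480) (.node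 (.node (.node (.node .leaf (14919, 0, 14, 106390) .leaf) (14922, 0, 17, 101241) (.node .leaf (14923, 0, 15, 92959) .leaf)) (14926, 0, 15, 111194) (.node (.node .leaf (14927, 0, 18, 86588) .leaf) (14930, 0, 16, 249683) (.node .leaf (14931, 0, 17, 104061) .leaf))) (14934, 0, 15, 110670) (.node (.node (.node .leaf (14935, 0, 13, 69617) .leaf) (14938, 0, 16, 258860) (.node .leaf (14939, 0, 17, 201546) .leaf)) (14942, 0, 17, 88786) (.node (.node .leaf (14943, 0, 17, 197628) .leaf) (14944, 0, 16, 128305) (.node .leaf (14945, 0, 16, 70999) .leaf))))))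

/-- part of the orbit tree -/
def itp0_226 : Tree := (.node (.node (.node (.node (.node (.node .leaf (14949, 0, 16, 76916) .leaf) (14952, 0, 13, 250025) (.node .leaf (14953, 0, 15, 106351) .leaf)) (14956, 0, 15, 112988) (.node (.node .leaf (14957, 0, 16, 199148) .leaf) (14960, 0, 19, 88619) (.node .leaf (14961, 0, 18, 197381) .leaf))) (14964, 0, 13, 242759) (.node (.node (.node .leaf (14965, 0, 17, 218145) .leaf) (14968, 0, 17, 108796) (.node .leaf (14969, 0, 18, 84122) .leaf)) (14972, 0, 17, 102879) (.node (.node .leaf (14973, 0, 17, 104068) .leaf) (14978, 0, 16, 151878) (.node .leaf (14979, 0, 15, 176907) .leaf)))) (14982, 0, 16, 158286) (.node (.node (.node (.node .leaf (14983, 0, 17, 166440) .leaf) (14986, 0, 19, 30453) (.node .leaf (14987, 0, 13, 38547) .leaf)) (14990, 0, 15, 20438) (.node (.node .leaf (14991, 0, 15, 171497) .leaf) (14994, 0, 11, 10160) (.node .leaf (14995, 0, 16, 163486) .leaf))) (14998, 0, 18, 4635) (.node (.node (.node .leaf (14999, 0, 17, 62077) .leaf) (15002, 0,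 19, 52524) (.node .leaf (15003, 0, 14, 168962) .leaf)) (15006, 0, 18, 176689) (.node (.node .leaf (15007, 0, 17, 60191) .leaf) (15008, 0, 12, 2237) (.node .leaf (15009, 0, 18, 171280) .leaf))))) (15012, 0, 15, 178979) (.node (.node (.node (.node (.node .leaf (15013, 0, 16, 57869) .leaf) (15016, 0, 16, 11938) (.node .leaf (15017, 0, 16, 183619) .leaf)) (15020, 0, 18, 136198) (.node (.node .leaf (15021, 0, 17, 193632) .leaf) (15024, 0, 16, 176840) (.node .leaf (15025, 0, 12, 168078) .leaf))) (15028, 0, 16, 52693) (.node (.node (.node .leaf (15029, 0, 12, 169211) .leaf) (15032, 0, 17, 153684) (.node .leaf (15033, 0, 14, 46358) .leaf)) (15036, 0, 17, 10057) (.node (.node .leaf (15037, 0, 16, 163431) .leaf) (15040, 0, 16, 27086) (.node .leaf (15041, 0, 14, 243856) .leaf)))) (15044, 0, 16, 237219) (.node (.node (.node (.node .leaf (15045, 0, 15, 116621) .leaf) (15048, 0, 17, 150614) (.node .leaf (15049, 0, 16, 217612) .leaf)) (15052, 0, 17, 226367) (.node (.node .leaf (15053, 0, 18, 77073) .leaf)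 (15056, 0, 13, 235336) (.node .leaf (15057, 0, 16, 193021) .leaf))) (15060, 0, 17, 141496) (.node (.node (.node .leaf (15061, 0, 16, 182494) .leaf) (15064, 0, 17, 228820) (.node .leaf (15065, 0, 14, 54373) .leaf)) (15068, 0, 18, 3360) (.node (.node .leaf (15069, 0, 16, 220135) .leaf) (15074, 0, 16, 143902) (.node .leaf (15075, 0, 16, 77288) .leaf))))))

/-- part of the orbit tree -/
def itp0_227 : Tree := (.node (.node (.node (.node (.node (.node .leaf (15079, 0, 17, 217845) .leaf) (15082, 0, 14, 6022) (.node .leaf (15083, 0, 12, 116596) .leaf)) (15086, 0, 15, 11941) (.node (.node .leaf (15087, 0, 14, 52931) .leaf) (15090, 0, 16, 19019) (.node .leaf (15091, 0, 17, 219934) .leaf))) (15094, 0, 15, 29544) (.node (.node (.node .leaf (15095, 0, 16, 37646) .leaf) (15098, 0, 12, 125100) (.node .leaf (15099, 0, 16, 167861) .leaf)) (15102, 0, 17, 235441) (.node (.node .leaf (15103, 0, 17, 118431) .leaf) (15106, 0, 16, 67276) (.node .leaf (15107, 0, 18, 221154) .leaf)))) (15110, 0, 14, 227793) (.node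 (.node (.node (.node .leaf (15111, 0, 18, 73983) .leaf) (15114, 0, 16, 126032) (.node .leaf (15115, 0, 16, 107501) .leaf)) (15118, 0, 15, 96936) (.node (.node .leaf (15119, 0, 14, 105166) .leaf) (15122, 0, 15, 225338) (.node .leaf (15123, 0, 15, 76052) .leaf))) (15126, 0, 16, 75621) (.node (.node (.node .leaf (15127, 0, 14, 218633) .leaf) (15130, 0, 16, 211934) (.node .leaf (15131, 0, 12, 115592) .leaf)) (15134, 0, 18, 197373) (.node (.node .leaf (15135, 0, 14, 254619) .leaf) (15136, 0, 16, 81347) (.node .leaf (15137, 0, 16, 122277) .leaf))))) (15140, 0, 16, 66784) (.node (.node (.node (.node (.node .leaf (15141, 0, 15, 243079) .leaf) (15144, 0, 18, 227624) (.node .leaf (15145, 0, 18, 260157) .leaf)) (15148, 0, 15, 67125) (.node (.node .leaf (15149, 0, 17, 246046) .leaf) (15152, 0, 18, 124226) (.node .leaf (15153, 0, 14, 239088) .leaf))) (15156, 0, 15, 236127) (.node (.node (.node .leaf (15157, 0, 17, 236755) .leaf) (15160, 0, 17, 90126) (.node .leaf (15161, 0, 15, 218864) .leaf)) (15164, 0,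 17, 88365) (.node (.node .leaf (15165, 0, 17, 112971) .leaf) (15168, 0, 18, 89264) (.node .leaf (15169, 0, 16, 113878) .leaf)))) (15172, 0, 17, 51497) (.node (.node (.node (.node .leaf (15173, 0, 18, 167943) .leaf) (15176, 0, 17, 154792) (.node .leaf (15177, 0, 16, 1414) .leaf)) (15180, 0, 17, 213003) (.node (.node .leaf (15181, 0, 18, 237677) .leaf) (15184, 0, 12, 206053) (.node .leaf (15185, 0, 16, 170476) .leaf))) (15188, 0, 15, 204230) (.node (.node (.node .leaf (15189, 0, 17, 59121) .leaf) (15192, 0, 10, 10846) (.node .leaf (15193, 0, 14, 160624) .leaf)) (15196, 0, 18, 79966) (.node (.node .leaf (15197, 0, 15, 120888) .leaf) (15202, 0, 18, 198496) (.node .leaf (15203, 0, 15, 162402) .leaf))))))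

/-- part of the orbit tree -/
def itp0_228 : Tree := (.node (.node (.node (.node (.node (.node .leaf (15207, 0, 15, 1407) .leaf) (15210, 0, 16, 74488) (.node .leaf (15211, 0, 17, 168190) .leaf)) (15214, 0, 14, 72667) (.node (.node .leaf (15215, 0, 18, 61411) .leaf) (15218, 0, 12, 98101) (.node .leaf (15219, 0, 17, 3220) .leaf))) (15222, 0, 14, 10919) (.node (.node (.node .leaf (15223, 0, 13, 108144) .leaf) (15226, 0, 18, 219821) (.node .leaf (15227, 0, 17, 244427) .leaf)) (15230, 0, 18, 222094) (.node (.node .leaf (15231, 0, 16, 230376) .leaf) (15232, 0, 13, 89815) (.node .leaf (15233, 0, 17, 16730) .leaf)))) (15236, 0, 18, 205258) (.node (.node (.node (.node .leaf (15237, 0, 17, 30841) .leaf) (15240, 0, 15, 111691) (.node .leaf (15241, 0, 15, 156866) .leaf)) (15244, 0, 16, 179591) (.node (.node .leaf (15245, 0, 15, 103032) .leaf) (15248, 0, 17, 186729) (.node .leaf (15249, 0, 16, 94479) .leaf))) (15252, 0, 15, 188490) (.node (.node (.node .leaf (15253, 0, 14, 200210) .leaf) (15256, 0, 13,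 246461) (.node .leaf (15257, 0, 13, 105363) .leaf)) (15260, 0, 16, 114080) (.node (.node .leaf (15261, 0, 13, 255118) .leaf) (15266, 0, 17, 248751) (.node .leaf (15267, 0, 17, 103041) .leaf))))) (15270, 0, 15, 181199) (.node (.node (.node (.node (.node .leaf (15271, 0, 18, 257436) .leaf) (15274, 0, 18, 205107) (.node .leaf (15275, 0, 16, 16146) .leaf)) (15278, 0, 10, 58967) (.node (.node .leaf (15279, 0, 18, 198400) .leaf) (15282, 0, 17, 33465) (.node .leaf (15283, 0, 17, 25311) .leaf))) (15286, 0, 14, 48026) (.node (.node (.node .leaf (15287, 0, 16, 23548) .leaf) (15290, 0, 18, 88005) (.node .leaf (15291, 0, 15, 200427) .leaf)) (15294, 0, 11, 171522) (.node (.node .leaf (15295, 0, 16, 94710) .leaf) (15298, 0, 17, 192047) (.node .leaf (15299, 0, 8, 162809) .leaf)))) (15302, 0, 16, 37170) (.node (.node (.node (.node .leaf (15303, 0, 18, 182300) .leaf) (15306, 0, 13, 48647) (.node .leaf (15307, 0, 15, 23965) .leaf)) (15310, 0, 13, 31662) (.node (.node .leaf (15311, 0, 15, 26434) .leaf) (15314,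 0, 14, 39129) (.node .leaf (15315, 0, 16, 940) .leaf))) (15318, 0, 13, 56041) (.node (.node (.node .leaf (15319, 0, 16, 14991) .leaf) (15322, 0, 13, 29253) (.node .leaf (15323, 0, 17, 140852) .leaf)) (15326, 0, 16, 196465) (.node (.node .leaf (15327, 0, 14, 139031) .leaf) (15328, 0, 16, 31575) .leaf)))))

/-- part of the orbit tree -/
def itp0_229 : Tree := (.node itp0_225 (14948, 0, 16, 86976) itp0_226)

/-- part of the orbit tree -/
def itp0_230 : Tree := (.node itp0_227 (15206, 0, 16, 212547) itp0_228)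

/-- part of the orbit tree -/
def itp0_231 : Tree := (.node itp0_223 (14564, 0, 17, 190085) itp0_224)

/-- part of the orbit tree -/
def itp0_232 : Tree := (.node itp0_229 (15078, 0, 16, 133949) itp0_230)

/-- part of the orbit tree -/
def itp0_233 : Tree := (.node (.node (.node (.node (.node (.node .leaf (15332, 0, 14, 132170) .leaf) (15333, 0, 15, 23908) (.node .leaf (15336, 0, 16, 37323) .leaf)) (15337, 0, 16, 182501) (.node (.node .leaf (15340, 0, 16, 192214) .leaf) (15341, 0, 18, 146578) (.node .leaf (15344, 0, 18, 178202) .leaf))) (15345, 0, 17, 21647) (.node (.node (.node .leaf (15348, 0, 16, 164153) .leaf) (15349, 0, 17, 142226) (.node .leaf (15352, 0, 7, 190269) .leaf)) (15353, 0, 13, 48659) (.node (.node .leaf (15356, 0, 14, 38944) .leaf) (15357, 0, 16, 17607) (.node .leaf (15360, 0, 15, 65925) .leaf)))) (15362, 0, 12, 127679) (.node (.node (.node (.node .leaf (15364, 0, 12, 39865) .leaf) (15366, 0, 14, 117660) (.node .leaf (15368, 0, 18, 125721) .leaf)) (15370, 0, 17, 131947) (.node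 (.node .leaf (15372, 0, 16, 179745) .leaf) (15374, 0, 18, 31862) (.node .leaf (15376, 0, 18, 187087) .leaf))) (15378, 0, 16, 40705) (.node (.node (.node .leaf (15380, 0, 15, 189420) .leaf) (15382, 0, 17, 188444) (.node .leaf (15384, 0, 11, 65367) .leaf)) (15386, 0, 18, 110450) (.node (.node .leaf (15388, 0, 19, 123634) .leaf) (15390, 0, 17, 104017) (.node .leaf (15393, 0, 17, 140705) .leaf))))) (15395, 0, 17, 137516) (.node (.node (.node (.node (.node .leaf (15397, 0, 17, 225322) .leaf) (15399, 0, 16, 139279) (.node .leaf (15401, 0, 14, 184125) .leaf)) (15403, 0, 18, 75599) (.node (.node .leaf (15405, 0, 14, 45088) .leaf) (15407, 0, 17, 1431) (.node .leaf (15409, 0, 16, 78172) .leaf))) (15411, 0, 9, 24953) (.node (.node (.node .leaf (15413, 0, 14, 142410) .leaf) (15415, 0, 16, 22618) (.node .leaf (15417, 0, 16, 47563) .leaf)) (15419, 0, 11, 148705) (.node (.node .leaf (15421, 0, 16, 208359) .leaf) (15423, 0, 17, 163266) (.node .leaf (15425, 0, 15, 196641) .leaf)))) (15427, 0, 18, 59475) (.node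 (.node (.node (.node .leaf (15429, 0, 18, 201049) .leaf) (15431, 0, 17, 169806) (.node .leaf (15433, 0, 12, 69090) .leaf)) (15435, 0, 17, 719) (.node (.node .leaf (15437, 0, 15, 103840) .leaf) (15439, 0, 17, 163282) (.node .leaf (15441, 0, 12, 86063) .leaf))) (15443, 0, 16, 171685) (.node (.node (.node .leaf (15445, 0, 13, 92428) .leaf) (15447, 0, 17, 57784) (.node .leaf (15449, 0, 13, 226743) .leaf)) (15451, 0, 16, 140690) (.node (.node .leaf (15453, 0, 17, 254806) .leaf) (15455, 0, 17, 138417) (.node .leaf (15456, 0, 17, 50153) .leaf))))))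

/-- part of the orbit tree -/
def itp0_234 : Tree := (.node (.node (.node (.node (.node (.node .leaf (15460, 0, 16, 154392) .leaf) (15462, 0, 13, 109295) (.node .leaf (15464, 0, 13, 190065) .leaf)) (15466, 0, 12, 243284) (.node (.node .leaf (15468, 0, 11, 188242) .leaf) (15470, 0, 14, 233335) (.node .leaf (15472, 0, 16, 179132) .leaf))) (15474, 0, 15, 256921) (.node (.node (.node .leaf (15476, 0, 12, 164511) .leaf) (15478, 0, 12, 247196) (.node .leaf (15480, 0, 13, 178287) .leaf)) (15482, 0, 15, 118273) (.node (.node .leaf (15484, 0, 17, 51058) .leaf) (15486, 0, 18, 128802) (.node .leaf (15489, 0, 17, 59586) .leaf)))) (15491, 0, 14, 196784) (.node (.node (.node (.node .leaf (15493, 0, 17, 191701) .leaf) (15495, 0, 16, 98221) (.node .leaf (15497, 0, 13, 61550) .leaf)) (15499, 0, 18, 106571) (.node (.node .leaf (15501, 0, 16, 51533) .leaf) (15503, 0, 16, 104808) (.node .leaf (15505, 0, 16, 171572) .leaf))) (15507, 0, 18, 130438) (.node (.node (.node .leaf (15509, 0, 18, 38016) .leaf) (15511,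 0, 15, 199003) (.node .leaf (15513, 0, 13, 160936) .leaf)) (15515, 0, 14, 105690) (.node (.node .leaf (15517, 0, 15, 176408) .leaf) (15519, 0, 15, 254919) (.node .leaf (15520, 0, 18, 81509) .leaf))))) (15522, 0, 15, 28224) (.node (.node (.node (.node (.node .leaf (15524, 0, 11, 67398) .leaf) (15526, 0, 13, 22371) (.node .leaf (15528, 0, 17, 203773) .leaf)) (15530, 0, 16, 52744) (.node (.node .leaf (15532, 0, 12, 88423) .leaf) (15534, 0, 13, 160507) (.node .leaf (15536, 0, 17, 113168) .leaf))) (15538, 0, 17, 152162) (.node (.node (.node .leaf (15540, 0, 18, 247053) .leaf) (15542, 0, 17, 143158) (.node .leaf (15544, 0, 17, 91048) .leaf)) (15546, 0, 14, 178430) (.node (.node .leaf (15548, 0, 18, 88715) .leaf) (15550, 0, 15, 2734) (.node .leaf (15552, 0, 15, 89878) .leaf)))) (15554, 0, 16, 65812) (.node (.node (.node (.node .leaf (15556, 0, 16, 91701) .leaf) (15558, 0, 16, 228873) (.node .leaf (15560, 0, 14, 227982) .leaf)) (15562, 0, 16, 141995) (.node (.node .leaf (15564, 0, 13, 213933) .leaf)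 (15566, 0, 13, 234645) (.node .leaf (15568, 0, 17, 40848) .leaf))) (15570, 0, 15, 227298) (.node (.node (.node .leaf (15572, 0, 18, 188557) .leaf) (15574, 0, 11, 151109) (.node .leaf (15576, 0, 16, 66267) .leaf)) (15578, 0, 15, 236926) (.node (.node .leaf (15580, 0, 16, 80888) .leaf) (15582, 0, 14, 123491) (.node .leaf (15585, 0, 17, 118082) .leaf))))))

/-- part of the orbit tree -/
def itp0_235 : Tree := (.node (.node (.node (.node (.node (.node .leaf (15589, 0, 17, 167334) .leaf) (15591, 0, 15, 23085) (.node .leaf (15593, 0, 14, 75742) .leaf)) (15595, 0, 15, 184236) (.node (.node .leaf (15597, 0, 18, 219331) .leaf) (15599, 0, 13, 45233) (.node .leaf (15601, 0, 16, 52432) .leaf))) (15603, 0, 16, 21446) (.node (.node (.node .leaf (15605, 0, 14, 62963) .leaf) (15607, 0, 18, 142555) (.node .leaf (15609, 0, 17, 217384) .leaf)) (15611, 0, 18, 244077) (.node (.node .leaf (15613, 0, 16, 77365) .leaf) (15615, 0, 16, 229454) (.node .leaf (15617, 0, 18, 254088) .leaf)))) (15619, 0, 13, 22330) (.node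 (.node (.node (.node .leaf (15621, 0, 19, 252331) .leaf) (15623, 0, 17, 141351) (.node .leaf (15625, 0, 17, 218580) .leaf)) (15627, 0, 17, 38197) (.node (.node .leaf (15629, 0, 15, 76489) .leaf) (15631, 0, 17, 180923) (.node .leaf (15633, 0, 17, 117182) .leaf))) (15635, 0, 18, 51448) (.node (.node (.node .leaf (15637, 0, 17, 107006) .leaf) (15639, 0, 16, 24273) (.node .leaf (15641, 0, 16, 74530) .leaf)) (15643, 0, 18, 191840) (.node (.node .leaf (15645, 0, 18, 220223) .leaf) (15647, 0, 15, 46157) (.node .leaf (15648, 0, 16, 39788) .leaf))))) (15650, 0, 17, 88894) (.node (.node (.node (.node (.node .leaf (15652, 0, 15, 12856) .leaf) (15654, 0, 17, 90653) (.node .leaf (15656, 0, 17, 29168) .leaf)) (15658, 0, 13, 235906) (.node (.node .leaf (15660, 0, 17, 134893) .leaf) (15662, 0, 16, 124575) (.node .leaf (15664, 0, 16, 160590) .leaf))) (15666, 0, 12, 205675) (.node (.node (.node .leaf (15668, 0, 17, 150125) .leaf) (15670, 0, 18, 203336) (.node .leaf (15672, 0, 14, 22230) .leaf)) (15674, 0, 16,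 126836) (.node (.node .leaf (15676, 0, 17, 28661) .leaf) (15678, 0, 16, 81872) (.node .leaf (15680, 0, 18, 27240) .leaf)))) (15682, 0, 16, 153246) (.node (.node (.node (.node .leaf (15684, 0, 14, 246257) .leaf) (15686, 0, 17, 10627) (.node .leaf (15688, 0, 16, 87152) .leaf)) (15690, 0, 17, 179202) (.node (.node .leaf (15692, 0, 17, 207725) .leaf) (15694, 0, 17, 49951) (.node .leaf (15696, 0, 10, 135741) .leaf))) (15698, 0, 15, 213528) (.node (.node (.node .leaf (15700, 0, 16, 142110) .leaf) (15702, 0, 17, 155509) (.node .leaf (15704, 0, 16, 14245) .leaf)) (15706, 0, 16, 51956) (.node (.node .leaf (15708, 0, 17, 89499) .leaf) (15710, 0, 14, 177641) (.node .leaf (15713, 0, 13, 170696) .leaf))))))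

/-- part of the orbit tree -/
def itp0_236 : Tree := (.node (.node (.node (.node (.node (.node .leaf (15717, 0, 17, 243928) .leaf) (15719, 0, 16, 190717) (.node .leaf (15721, 0, 18, 159828) .leaf)) (15723, 0, 16, 62534) (.node (.node .leaf (15725, 0, 18, 3913) .leaf) (15727, 0, 16, 255803) (.node .leaf (15729, 0, 15, 60478) .leaf))) (15731, 0, 17, 43403) (.node (.node (.node .leaf (15733, 0, 18, 168739) .leaf) (15735, 0, 9, 97105) (.node .leaf (15737, 0, 16, 252982) .leaf)) (15739, 0, 17, 257744) (.node (.node .leaf (15741, 0, 19, 162239) .leaf) (15743, 0, 17, 102861) (.node .leaf (15744, 0, 16, 153103) .leaf)))) (15746, 0, 16, 51137) (.node (.node (.node (.node .leaf (15748, 0, 15, 10514) .leaf) (15750, 0, 17, 65250) (.node .leaf (15752, 0, 18, 179347) .leaf)) (15754, 0, 18, 87265) (.node (.node .leaf (15756, 0, 17, 50062) .leaf) (15758, 0, 17, 207868) (.node .leaf (15760, 0, 18, 8441) .leaf))) (15762, 0, 17, 180116) (.node (.node (.node .leaf (15764, 0, 16, 155620) .leaf) (15766, 0, 10,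 165559) (.node .leaf (15768, 0, 13, 117289) .leaf)) (15770, 0, 11, 205335) (.node (.node .leaf (15772, 0, 15, 177528) .leaf) (15774, 0, 16, 41775) (.node .leaf (15777, 0, 14, 94763) .leaf))))) (15779, 0, 15, 207954) (.node (.node (.node (.node (.node .leaf (15781, 0, 13, 199990) .leaf) (15783, 0, 17, 58692) (.node .leaf (15785, 0, 17, 23023) .leaf)) (15787, 0, 16, 159941) (.node (.node .leaf (15789, 0, 16, 255914) .leaf) (15791, 0, 18, 78057) (.node .leaf (15793, 0, 16, 197853) .leaf))) (15795, 0, 14, 60591) (.node (.node (.node .leaf (15797, 0, 18, 97216) .leaf) (15799, 0, 11, 93476) (.node .leaf (15801, 0, 12, 257601) .leaf)) (15803, 0, 15, 225695) (.node (.node .leaf (15805, 0, 14, 102748) .leaf) (15807, 0, 15, 162094) (.node .leaf (15809, 0, 15, 22443) .leaf)))) (15811, 0, 17, 216353) (.node (.node (.node (.node .leaf (15813, 0, 18, 141494) .leaf) (15815, 0, 17, 114884) (.node .leaf (15817, 0, 15, 14492) .leaf)) (15819, 0, 11, 218437) (.node (.node .leaf (15821, 0, 16, 180778) .leaf) (15823,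 0, 17, 76376) (.node .leaf (15825, 0, 16, 139613) .leaf))) (15827, 0, 18, 117039) (.node (.node (.node .leaf (15829, 0, 17, 24128) .leaf) (15831, 0, 16, 243250) (.node .leaf (15833, 0, 15, 147657) .leaf)) (15835, 0, 17, 74675) (.node (.node .leaf (15837, 0, 16, 46300) .leaf) (15839, 0, 15, 220334) (.node .leaf (15840, 0, 17, 226191) .leaf))))))

/-- part of the orbit tree -/
def itp0_237 : Tree := (.node itp0_233 (15458, 0, 18, 103372) itp0_234)

/-- part of the orbit tree -/
def itp0_238 : Tree := (.node itp0_235 (15715, 0, 15, 94906) itp0_236)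

/-- part of the orbit tree -/
def itp0_239 : Tree := (.node (.node (.node (.node (.node (.node .leaf (15844, 0, 16, 118708) .leaf) (15846, 0, 14, 189664) (.node .leaf (15848, 0, 14, 235795) .leaf)) (15850, 0, 13, 164650) (.node (.node .leaf (15852, 0, 16, 124430) .leaf) (15854, 0, 17, 134780) (.node .leaf (15856, 0, 12, 66937) .leaf))) (15858, 0, 16, 188135) (.node (.node (.node .leaf (15860, 0, 17, 227940) .leaf) (15862, 0, 17, 37398) (.node .leaf (15864, 0, 16, 109402) .leaf)) (15866, 0, 17, 64383) (.node (.node .leaf (15868, 0, 16, 103033) .leaf) (15870, 0, 17, 49756) (.node .leaf (15904, 0, 14, 31139) .leaf)))) (15905, 0, 18, 222585) (.node (.node (.node (.node .leaf (15906, 0, 19, 185658) .leaf) (15907, 0, 16, 144732) (.node .leaf (15908, 0, 13, 132798) .leaf)) (15909, 0, 18, 220250) (.node (.node .leaf (15910, 0, 17, 126668) .leaf) (15911, 0, 15, 134271) (.node .leaf (15912, 0, 16, 37695) .leaf))) (15913, 0, 14, 182801) (.node (.node (.node .leaf (15914, 0, 18, 61602) .leaf) (15915,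 0, 16, 4292) (.node .leaf (15916, 0, 14, 104868) .leaf)) (15917, 0, 16, 46348) (.node (.node .leaf (15918, 0, 15, 66640) .leaf) (15919, 0, 15, 10727) (.node .leaf (15920, 0, 11, 134997) .leaf))))) (15921, 0, 14, 73004) (.node (.node (.node (.node (.node .leaf (15922, 0, 15, 44399) .leaf) (15923, 0, 15, 245257) (.node .leaf (15924, 0, 17, 28744) .leaf)) (15925, 0, 17, 74767) (.node (.node .leaf (15926, 0, 15, 37964) .leaf) (15927, 0, 14, 114964) (.node .leaf (15928, 0, 10, 252114) .leaf))) (15929, 0, 15, 211124) (.node (.node (.node .leaf (15930, 0, 17, 69051) .leaf) (15931, 0, 17, 218261) (.node .leaf (15932, 0, 18, 254449) .leaf)) (15933, 0, 10, 197015) (.node (.node .leaf (15934, 0, 16, 176596) .leaf) (15935, 0, 16, 151986) (.node .leaf (15936, 0, 16, 89123) .leaf)))) (15937, 0, 15, 197901) (.node (.node (.node (.node .leaf (15938, 0, 16, 177233) .leaf) (15939, 0, 18, 152623) (.node .leaf (15940, 0, 16, 253263) .leaf)) (15941, 0, 15, 212265) (.node (.node .leaf (15942, 0, 16, 52044) .leaf)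 (15943, 0, 16, 168546) (.node .leaf (15944, 0, 11, 115188) .leaf))) (15945, 0, 15, 74130) (.node (.node (.node .leaf (15946, 0, 16, 155341) .leaf) (15947, 0, 17, 2019) (.node .leaf (15948, 0, 16, 248226) .leaf)) (15949, 0, 17, 102540) (.node (.node .leaf (15950, 0, 15, 8656) .leaf) (15951, 0, 17, 18580) (.node .leaf (15952, 0, 13, 105529) .leaf))))))

/-- part of the orbit tree -/
def itp0_240 : Tree := (.node (.node (.node (.node (.node (.node .leaf (15954, 0, 18, 49831) .leaf) (15955, 0, 17, 170889) (.node .leaf (15956, 0, 10, 107802) .leaf)) (15957, 0, 17, 199910) (.node (.node .leaf (15958, 0, 15, 179642) .leaf) (15959, 0, 14, 58516) (.node .leaf (15960, 0, 14, 245833) .leaf))) (15961, 0, 16, 104807) (.node (.node (.node .leaf (15962, 0, 18, 10299) .leaf) (15963, 0, 15, 160021) (.node .leaf (15964, 0, 19, 229506) .leaf)) (15965, 0, 12, 255610) (.node (.node .leaf (15966, 0, 17, 184487) .leaf) (15967, 0, 10, 3592) (.node .leaf (16000, 0, 16, 177344) .leaf)))) (16001, 0, 14, 60910) (.node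 (.node (.node (.node .leaf (16002, 0, 16, 89266) .leaf) (16003, 0, 14, 240035) (.node .leaf (16004, 0, 18, 52189) .leaf)) (16005, 0, 16, 180389) (.node (.node .leaf (16006, 0, 16, 225510) .leaf) (16007, 0, 12, 233600) (.node .leaf (16008, 0, 14, 15480) .leaf))) (16009, 0, 16, 56350) (.node (.node (.node .leaf (16010, 0, 16, 112174) .leaf) (16011, 0, 15, 257792) (.node .leaf (16012, 0, 17, 8513) .leaf)) (16013, 0, 16, 58685) (.node (.node .leaf (16014, 0, 17, 248115) .leaf) (16015, 0, 18, 111896) (.node .leaf (16016, 0, 17, 25013) .leaf))))) (16017, 0, 18, 170776) (.node (.node (.node (.node (.node .leaf (16018, 0, 16, 207428) .leaf) (16019, 0, 18, 95082) (.node .leaf (16020, 0, 18, 22678) .leaf)) (16021, 0, 17, 47344) (.node (.node .leaf (16022, 0, 15, 67763) .leaf) (16023, 0, 17, 125141) (.node .leaf (16024, 0, 16, 10410) .leaf))) (16025, 0, 18, 160132) (.node (.node (.node .leaf (16026, 0, 18, 201736) .leaf) (16027, 0, 14, 104950) (.node .leaf (16028, 0, 18, 163086) .leaf)) (16029, 0, 17,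 171368) (.node (.node .leaf (16030, 0, 16, 208171) .leaf) (16031, 0, 14, 249165) (.node .leaf (16096, 0, 17, 233792) .leaf)))) (16097, 0, 18, 170229) (.node (.node (.node (.node .leaf (16098, 0, 17, 207030) .leaf) (16099, 0, 14, 248016) (.node .leaf (16100, 0, 16, 126557) .leaf)) (16101, 0, 18, 243571) (.node (.node .leaf (16102, 0, 11, 132655) .leaf) (16103, 0, 17, 24321) (.node .leaf (16104, 0, 17, 228316) .leaf))) (16105, 0, 15, 74482) (.node (.node (.node .leaf (16106, 0, 16, 68910) .leaf) (16107, 0, 15, 182912) (.node .leaf (16108, 0, 16, 66753) .leaf)) (16109, 0, 13, 220655) (.node (.node .leaf (16110, 0, 16, 78861) .leaf) (16111, 0, 18, 119915) (.node .leaf (16112, 0, 16, 124854) .leaf))))))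

/-- part of the orbit tree -/
def itp0_241 : Tree := (.node (.node (.node (.node (.node (.node .leaf (16114, 0, 16, 86243) .leaf) (16115, 0, 17, 22250) (.node .leaf (16116, 0, 14, 14821) .leaf)) (16117, 0, 16, 55683) (.node (.node .leaf (16118, 0, 16, 28889) .leaf) (16119, 0, 17, 100774) (.node .leaf (16120, 0, 10, 68906) .leaf))) (16121, 0, 15, 181560) (.node (.node (.node .leaf (16122, 0, 16, 226683) .leaf) (16123, 0, 17, 234781) (.node .leaf (16124, 0, 17, 138365) .leaf)) (16125, 0, 13, 76569) (.node (.node .leaf (16126, 0, 13, 216152) .leaf) (16127, 0, 15, 181099) (.node .leaf (16128, 0, 15, 123722) .leaf)))) (16129, 0, 18, 249080) (.node (.node (.node (.node .leaf (16130, 0, 19, 163003) .leaf) (16131, 0, 16, 171229) (.node .leaf (16132, 0, 17, 236631) .leaf)) (16133, 0, 17, 116089) (.node (.node .leaf (16134, 0, 11, 148888) .leaf) (16135, 0, 17, 142603) (.node .leaf (16136, 0, 16, 68054) .leaf))) (16137, 0, 17, 125280) (.node (.node (.node .leaf (16138, 0, 15, 188836) .leaf) (16139, 0,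 18, 47429) (.node .leaf (16140, 0, 17, 227019) .leaf)) (16141, 0, 15, 118851) (.node (.node .leaf (16142, 0, 15, 24576) .leaf) (16143, 0, 17, 182167) (.node .leaf (16144, 0, 16, 234940) .leaf))))) (16145, 0, 15, 117906) (.node (.node (.node (.node (.node .leaf (16146, 0, 15, 1262) .leaf) (16147, 0, 19, 58504) (.node .leaf (16148, 0, 13, 125601) .leaf)) (16149, 0, 17, 242575) (.node (.node .leaf (16150, 0, 17, 131795) .leaf) (16151, 0, 17, 56747) (.node .leaf (16152, 0, 14, 225619) .leaf))) (16153, 0, 17, 233781) (.node (.node (.node .leaf (16154, 0, 12, 139638) .leaf) (16155, 0, 15, 183932) (.node .leaf (16156, 0, 15, 65597) .leaf)) (16157, 0, 14, 239638) (.node (.node .leaf (16158, 0, 15, 137301) .leaf) (16159, 0, 14, 45409) (.node .leaf (16224, 0, 16, 50890) .leaf)))) (16225, 0, 16, 241035) (.node (.node (.node (.node .leaf (16226, 0, 18, 208568) .leaf) (16227, 0, 16, 196014) (.node .leaf (16228, 0, 8, 226510) .leaf)) (16229, 0, 16, 234664) (.node (.node .leaf (16230, 0, 17, 140523) .leaf)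 (16231, 0, 15, 198795) (.node .leaf (16232, 0, 17, 92277) .leaf))) (16233, 0, 9, 100371) (.node (.node (.node .leaf (16234, 0, 15, 246820) .leaf) (16235, 0, 18, 55350) (.node .leaf (16236, 0, 16, 86358) .leaf)) (16237, 0, 16, 2661) (.node (.node .leaf (16238, 0, 14, 113465) .leaf) (16239, 0, 12, 57621) (.node .leaf (16240, 0, 16, 176188) .leaf))))))

/-- part of the orbit tree -/
def itp0_242 : Tree := (.node (.node (.node (.node (.node (.node .leaf (16242, 0, 18, 88142) .leaf) (16243, 0, 17, 34299) (.node .leaf (16244, 0, 16, 53025) .leaf)) (16245, 0, 15, 169487) (.node (.node .leaf (16246, 0, 17, 206675) .leaf) (16247, 0, 13, 97917) (.node .leaf (16248, 0, 18, 154272) .leaf))) (16249, 0, 18, 910) (.node (.node (.node .leaf (16250, 0, 16, 111314) .leaf) (16251, 0, 15, 172131) (.node .leaf (16252, 0, 14, 9661) .leaf)) (16253, 0, 14, 248165) (.node (.node .leaf (16254, 0, 15, 249295) .leaf) (16255, 0, 16, 103649) (.node .leaf (16288, 0, 15, 176225) .leaf)))) (16289, 0, 15, 96007) (.node (.node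 (.node (.node .leaf (16290, 0, 18, 254020) .leaf) (16291, 0, 14, 171893) (.node .leaf (16292, 0, 17, 86324) .leaf)) (16293, 0, 18, 157988) (.node (.node .leaf (16294, 0, 17, 252263) .leaf) (16295, 0, 11, 57448) (.node .leaf (16296, 0, 18, 38393) .leaf))) (16297, 0, 16, 30111) (.node (.node (.node .leaf (16298, 0, 14, 11463) .leaf) (16299, 0, 16, 161257) (.node .leaf (16300, 0, 14, 113576) .leaf)) (16301, 0, 17, 254598) (.node (.node .leaf (16302, 0, 16, 130303) .leaf) (16303, 0, 17, 2804) (.node .leaf (16304, 0, 17, 88287) .leaf))))) (16305, 0, 17, 197105) (.node (.node (.node (.node (.node .leaf (16306, 0, 17, 176301) .leaf) (16307, 0, 17, 59779) (.node .leaf (16308, 0, 15, 61719) .leaf)) (16309, 0, 13, 4465) (.node (.node .leaf (16310, 0, 15, 53168) .leaf) (16311, 0, 15, 169630) (.node .leaf (16312, 0, 15, 191916) .leaf))) (16313, 0, 13, 134602) (.node (.node (.node .leaf (16314, 0, 17, 245129) .leaf) (16315, 0, 11, 799) (.node .leaf (16316, 0, 15, 249182) .leaf)) (16317, 0, 15, 103536) (.node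 (.node .leaf (16318, 0, 17, 9516) .leaf) (16319, 0, 11, 222412) (.node .leaf (16320, 0, 18, 184594) .leaf)))) (16321, 0, 18, 143732) (.node (.node (.node (.node .leaf (16322, 0, 17, 123867) .leaf) (16323, 0, 13, 221521) (.node .leaf (16324, 0, 10, 190513) .leaf)) (16325, 0, 14, 142746) (.node (.node .leaf (16326, 0, 18, 243732) .leaf) (16327, 0, 16, 219250) (.node .leaf (16328, 0, 14, 188725) .leaf))) (16329, 0, 16, 47131) (.node (.node (.node .leaf (16330, 0, 16, 107695) .leaf) (16331, 0, 18, 217193) (.node .leaf (16332, 0, 16, 40488) .leaf)) (16333, 0, 14, 11727) (.node (.node .leaf (16334, 0, 18, 226906) .leaf) (16335, 0, 17, 77684) .leaf)))))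

/-- part of the orbit tree -/
def itp0_243 : Tree := (.node itp0_239 (15953, 0, 16, 95227) itp0_240)

/-- part of the orbit tree -/
def itp0_244 : Tree := (.node itp0_241 (16241, 0, 14, 59666) itp0_242)

/-- part of the orbit tree -/
def itp0_245 : Tree := (.node itp0_237 (15587, 0, 17, 140592) itp0_238)

/-- part of the orbit tree -/
def itp0_246 : Tree := (.node itp0_243 (16113, 0, 13, 57504) itp0_244)

/-- part of the orbit tree -/
def itp0_247 : Tree := (.node itp0_231 (14821, 0, 13, 13690) itp0_232)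

/-- part of the orbit tree -/
def itp0_248 : Tree := (.node itp0_245 (15842, 0, 18, 39933) itp0_246)

/-- part of the orbit tree -/
def itp0_249 : Tree := (.node itp0_217 (13285, 0, 17, 157462) itp0_218)

/-- part of the orbit tree -/
def itp0_250 : Tree := (.node itp0_247 (15329, 0, 18, 8233) itp0_248)

/-- part of the orbit tree -/
def itp0_251 : Tree := (.node itp0_187 (10218, 0, 15, 115796) itp0_188)

/-- part of the orbit tree -/
def itp0_252 : Tree := (.node itp0_249 (14306, 0, 17, 56302) itp0_250)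

/-- part of the orbit tree -/
def itp0_253 : Tree := (.node itp0_125 (4084, 0, 14, 23999) itp0_126)

/-- part of the orbit tree -/
def itp0_254 : Tree := (.node itp0_251 (12260, 0, 18, 56267) itp0_252)

/-- part of the orbit tree -/
def itp0_255 : Tree := (.node (.node (.node (.node (.node (.node .leaf (16337, 0, 16, 140401) .leaf) (16338, 0, 16, 234797) (.node .leaf (16339, 0, 18, 71940) .leaf)) (16340, 0, 15, 131650) (.node (.node .leaf (16341, 0, 18, 23404) .leaf) (16342, 0, 12, 114753) (.node .leaf (16343, 0, 16, 73767) .leaf))) (16344, 0, 17, 38851) (.node (.node (.node .leaf (16345, 0, 16, 158905) .leaf) (16346, 0, 17, 229297) (.node .leaf (16347, 0, 19, 75423) .leaf)) (16348, 0, 13, 177660) (.node (.node .leaf (16349, 0, 16, 152986) .leaf) (16350, 0, 14, 65708) (.node .leaf (16351, 0, 15, 219522) .leaf)))) (16385, 0, 17, 483) (.node (.node (.node (.node .leaf (16386, 0, 17, 111008) .leaf) (16388, 0, 16, 71587) (.node .leaf (16391, 0, 16, 92389) .leaf)) (16392, 0, 16, 181277) (.node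 (.node .leaf (16395, 0, 17, 144254) .leaf) (16397, 0, 17, 238609) (.node .leaf (16398, 0, 18, 240923) .leaf))) (16400, 0, 18, 73288) (.node (.node (.node .leaf (16403, 0, 18, 207251) .leaf) (16405, 0, 15, 147605) (.node .leaf (16406, 0, 13, 35111) .leaf)) (16409, 0, 17, 23598) (.node (.node .leaf (16410, 0, 15, 126061) .leaf) (16412, 0, 17, 232393) (.node .leaf (16415, 0, 17, 146069) .leaf))))) (16417, 0, 15, 19610) (.node (.node (.node (.node (.node .leaf (16418, 0, 13, 130502) .leaf) (16420, 0, 17, 250707) (.node .leaf (16423, 0, 15, 156432) .leaf)) (16424, 0, 17, 118760) (.node (.node .leaf (16427, 0, 17, 216692) .leaf) (16429, 0, 15, 71341) (.node .leaf (16430, 0, 16, 223303) .leaf))) (16432, 0, 15, 102949) (.node (.node (.node .leaf (16435, 0, 17, 119326) .leaf) (16437, 0, 16, 84832) (.node .leaf (16438, 0, 14, 64291) .leaf)) (16441, 0, 16, 219099) (.node (.node .leaf (16442, 0, 15, 190360) .leaf) (16444, 0, 16, 194243) (.node .leaf (16447, 0, 19, 147165) .leaf)))) (16448, 0, 17, 232195)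 (.node (.node (.node (.node .leaf (16451, 0, 13, 146240) .leaf) (16453, 0, 16, 202247) (.node .leaf (16454, 0, 15, 188933) .leaf)) (16457, 0, 14, 99206) (.node (.node .leaf (16458, 0, 16, 13018) .leaf) (16460, 0, 17, 107957) (.node .leaf (16463, 0, 14, 10235) .leaf))) (16465, 0, 17, 70448) (.node (.node (.node .leaf (16466, 0, 14, 175792) .leaf) (16468, 0, 15, 117365) (.node .leaf (16471, 0, 17, 166019) .leaf)) (16472, 0, 15, 251598) (.node (.node .leaf (16475, 0, 17, 157325) .leaf) (16477, 0, 17, 200587) (.node .leaf (16478, 0, 15, 15153) .leaf))))))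

/-- part of the orbit tree -/
def itp0_256 : Tree := (.node (.node (.node (.node (.node (.node .leaf (16483, 0, 15, 261218) .leaf) (16485, 0, 12, 158477) (.node .leaf (16486, 0, 18, 125424) .leaf)) (16489, 0, 10, 148744) (.node (.node .leaf (16490, 0, 16, 259403) .leaf) (16492, 0, 13, 55487) (.node .leaf (16495, 0, 17, 207886) .leaf))) (16497, 0, 17, 156390) (.node (.node (.node .leaf (16498, 0, 11, 250810) .leaf) (16500, 0, 11, 180608) (.node .leaf (16503, 0, 17, 259465) .leaf)) (16504, 0, 15, 56635) (.node (.node .leaf (16507, 0, 17, 93560) .leaf) (16509, 0, 16, 1150) (.node .leaf (16510, 0, 14, 83515) .leaf)))) (16512, 0, 15, 55511) (.node (.node (.node (.node .leaf (16515, 0, 17, 92555) .leaf) (16517, 0, 16, 65252) (.node .leaf (16518, 0, 15, 85944) .leaf)) (16521, 0, 18, 158565) (.node (.node .leaf (16522, 0, 18, 252473) .leaf) (16524, 0, 15, 150870) (.node .leaf (16527, 0, 15, 261130) .leaf))) (16529, 0, 17, 61116) (.node (.node (.node .leaf (16530, 0, 14, 83539) .leaf) (16532, 0, 16,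 14329) (.node .leaf (16535, 0, 14, 100282) .leaf)) (16536, 0, 18, 142146) (.node (.node .leaf (16539, 0, 18, 236289) .leaf) (16541, 0, 17, 156302) (.node .leaf (16542, 0, 15, 213572) .leaf))))) (16544, 0, 13, 97658) (.node (.node (.node (.node (.node .leaf (16547, 0, 17, 52537) .leaf) (16549, 0, 15, 99310) (.node .leaf (16550, 0, 16, 5244) .leaf)) (16553, 0, 14, 243844) (.node (.node .leaf (16554, 0, 17, 133319) .leaf) (16556, 0, 15, 208988) (.node .leaf (16559, 0, 15, 164096) .leaf))) (16561, 0, 14, 255305) (.node (.node (.node .leaf (16562, 0, 15, 15193) .leaf) (16564, 0, 15, 211980) (.node .leaf (16567, 0, 18, 166991) .leaf)) (16568, 0, 14, 73911) (.node (.node .leaf (16571, 0, 16, 37108) .leaf) (16573, 0, 18, 129522) (.node .leaf (16574, 0, 17, 18865) .leaf)))) (16577, 0, 13, 186739) (.node (.node (.node (.node .leaf (16578, 0, 12, 223279) .leaf) (16580, 0, 18, 75050) (.node .leaf (16583, 0, 14, 38249) .leaf)) (16584, 0, 16, 211345) (.node (.node .leaf (16587, 0, 18, 166354) .leaf) (16589,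 0, 14, 19698) (.node .leaf (16590, 0, 13, 130478) .leaf))) (16592, 0, 18, 222300) (.node (.node (.node .leaf (16595, 0, 18, 215031) .leaf) (16597, 0, 15, 184472) (.node .leaf (16598, 0, 15, 134490) .leaf)) (16601, 0, 16, 106914) (.node (.node .leaf (16602, 0, 17, 128069) .leaf) (16604, 0, 17, 96487) (.node .leaf (16607, 0, 17, 119414) .leaf))))))

/-- part of the orbit tree -/
def itp0_257 : Tree := (.node (.node (.node (.node (.node (.node .leaf (16610, 0, 17, 136485) .leaf) (16612, 0, 17, 229962) (.node .leaf (16615, 0, 15, 144150) .leaf)) (16616, 0, 11, 12900) (.node (.node .leaf (16619, 0, 17, 42647) .leaf) (16621, 0, 17, 60193) (.node .leaf (16622, 0, 17, 32932) .leaf))) (16624, 0, 15, 28585) (.node (.node (.node .leaf (16627, 0, 12, 122858) .leaf) (16629, 0, 17, 46828) (.node .leaf (16630, 0, 17, 138446) .leaf)) (16633, 0, 16, 79891) (.node (.node .leaf (16634, 0, 17, 35151) .leaf) (16636, 0, 17, 73248) (.node .leaf (16639, 0, 17, 246609) .leaf)))) (16640, 0, 16, 233309) (.node (.node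 (.node (.node .leaf (16643, 0, 12, 193458) .leaf) (16645, 0, 9, 236212) (.node .leaf (16646, 0, 15, 137266) .leaf)) (16649, 0, 16, 81135) (.node (.node .leaf (16650, 0, 16, 13900) .leaf) (16652, 0, 15, 89930) (.node .leaf (16655, 0, 17, 43904) .leaf))) (16657, 0, 15, 121794) (.node (.node (.node .leaf (16658, 0, 15, 27521) .leaf) (16660, 0, 16, 66183) (.node .leaf (16663, 0, 17, 145386) .leaf)) (16664, 0, 16, 204348) (.node (.node .leaf (16667, 0, 15, 41579) .leaf) (16669, 0, 15, 247673) (.node .leaf (16670, 0, 18, 161594) .leaf))))) (16672, 0, 15, 18436) (.node (.node (.node (.node (.node .leaf (16675, 0, 17, 213771) .leaf) (16677, 0, 13, 37185) (.node .leaf (16678, 0, 18, 73986) .leaf)) (16681, 0, 18, 16869) (.node (.node .leaf (16682, 0, 13, 127161) .leaf) (16684, 0, 17, 26582) (.node .leaf (16687, 0, 17, 120458) .leaf))) (16689, 0, 16, 184375) (.node (.node (.node .leaf (16690, 0, 15, 221300) .leaf) (16692, 0, 15, 133490) (.node .leaf (16695, 0, 16, 244017) .leaf)) (16696, 0, 17, 28221)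 (.node (.node .leaf (16699, 0, 18, 122721) .leaf) (16701, 0, 16, 52364) (.node .leaf (16702, 0, 12, 97487) .leaf)))) (16705, 0, 17, 51473) (.node (.node (.node (.node .leaf (16706, 0, 17, 96594) .leaf) (16708, 0, 16, 108746) (.node .leaf (16711, 0, 13, 6550) .leaf)) (16712, 0, 18, 134383) (.node (.node .leaf (16715, 0, 15, 244908) .leaf) (16717, 0, 13, 185770) (.node .leaf (16718, 0, 16, 174628) .leaf))) (16720, 0, 13, 106785) (.node (.node (.node .leaf (16723, 0, 17, 254305) .leaf) (16725, 0, 17, 100114) (.node .leaf (16726, 0, 18, 13902) .leaf)) (16729, 0, 13, 38108) (.node (.node .leaf (16730, 0, 16, 173007) .leaf) (16732, 0, 17, 19865) (.node .leaf (16735, 0, 17, 165372) .leaf))))))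

/-- part of the orbit tree -/
def itp0_258 : Tree := (.node (.node (.node (.node (.node (.node .leaf (16738, 0, 15, 160423) .leaf) (16740, 0, 15, 54720) (.node .leaf (16743, 0, 14, 91292) .leaf)) (16744, 0, 17, 147521) (.node (.node .leaf (16747, 0, 16, 46937) .leaf) (16749, 0, 15, 122463) (.node .leaf (16750, 0, 17, 28188) .leaf))) (16752, 0, 14, 56363) (.node (.node (.node .leaf (16755, 0, 10, 60052) .leaf) (16757, 0, 16, 64024) (.node .leaf (16758, 0, 12, 84804) .leaf)) (16761, 0, 17, 159641) (.node (.node .leaf (16762, 0, 13, 253637) .leaf) (16764, 0, 12, 149930) (.node .leaf (16767, 0, 17, 194095) .leaf)))) (16769, 0, 17, 157210) (.node (.node (.node (.node .leaf (16770, 0, 12, 34014) .leaf) (16772, 0, 17, 126424) (.node .leaf (16775, 0, 14, 258421) .leaf)) (16776, 0, 14, 54696) (.node (.node .leaf (16779, 0, 18, 147744) .leaf) (16781, 0, 18, 62363) (.node .leaf (16782, 0, 15, 170085) .leaf))) (16784, 0, 16, 149954) (.node (.node (.node .leaf (16787, 0, 16, 138477) .leaf) (16789, 0, 15,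 159729) (.node .leaf (16790, 0, 16, 253613) .leaf)) (16793, 0, 16, 64112) (.node (.node .leaf (16794, 0, 14, 84780) .leaf) (16796, 0, 15, 110613) (.node .leaf (16799, 0, 18, 86) .leaf))))) (16801, 0, 15, 147304) (.node (.node (.node (.node (.node .leaf (16802, 0, 14, 233259) .leaf) (16804, 0, 19, 189997) (.node .leaf (16807, 0, 14, 167039) .leaf)) (16808, 0, 16, 64150) (.node (.node .leaf (16811, 0, 17, 84693) .leaf) (16813, 0, 17, 9171) (.node .leaf (16814, 0, 11, 103312) .leaf))) (16816, 0, 14, 210120) (.node (.node (.node .leaf (16819, 0, 16, 165268) .leaf) (16821, 0, 16, 201467) (.node .leaf (16822, 0, 18, 172967) .leaf)) (16825, 0, 15, 100218) (.node (.node .leaf (16826, 0, 15, 13862) .leaf) (16828, 0, 16, 179168) (.node .leaf (16831, 0, 17, 199587) .leaf)))) (16832, 0, 17, 179837) (.node (.node (.node (.node .leaf (16835, 0, 16, 120546) .leaf) (16837, 0, 19, 16781) (.node .leaf (16838, 0, 10, 251771) .leaf)) (16841, 0, 17, 185356) (.node (.node .leaf (16842, 0, 15, 222544) .leaf) (16844,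 0, 17, 193087) (.node .leaf (16847, 0, 14, 213859) .leaf))) (16849, 0, 12, 18534) (.node (.node (.node .leaf (16850, 0, 16, 103949) .leaf) (16852, 0, 13, 28245) (.node .leaf (16855, 0, 17, 122633) .leaf)) (16856, 0, 18, 195540) (.node (.node .leaf (16859, 0, 18, 215688) .leaf) (16861, 0, 17, 146165) (.node .leaf (16862, 0, 14, 224443) .leaf))))))

/-- part of the orbit tree -/
def itp0_259 : Tree := (.node itp0_255 (16480, 0, 18, 150846) itp0_256)

/-- part of the orbit tree -/
def itp0_260 : Tree := (.node itp0_257 (16737, 0, 17, 246500) itp0_258)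

/-- part of the orbit tree -/
def itp0_261 : Tree := (.node (.node (.node (.node (.node (.node .leaf (16867, 0, 16, 44008) .leaf) (16869, 0, 17, 93389) (.node .leaf (16870, 0, 15, 36315) .leaf)) (16873, 0, 16, 239878) (.node (.node .leaf (16874, 0, 14, 180277) .leaf) (16876, 0, 17, 239923) (.node .leaf (16879, 0, 18, 137584) .leaf))) (16881, 0, 19, 79212) (.node (.node (.node .leaf (16882, 0, 17, 33840) .leaf) (16884, 0, 14, 70495) (.node .leaf (16887, 0, 17, 41475) .leaf)) (16888, 0, 16, 231134) (.node (.node .leaf (16891, 0, 17, 22534) .leaf) (16893, 0, 15, 237805) (.node .leaf (16894, 0, 17, 33091) .leaf)))) (16896, 0, 16, 52725) (.node (.node (.node (.node .leaf (16897, 0, 12, 79036) .leaf) (16902, 0, 14, 195325) (.node .leaf (16903, 0, 17, 41939) .leaf)) (16906, 0, 14, 243784) (.node (.node .leaf (16907, 0, 14, 144978) .leaf) (16908, 0, 15, 129043) (.node .leaf (16909, 0, 12, 237885) .leaf))) (16914, 0, 14, 255365) (.node (.node (.node .leaf (16915, 0, 15, 198115) .leaf) (16916, 0, 18,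 222329) (.node .leaf (16917, 0, 15, 158949) .leaf)) (16920, 0, 14, 127480) (.node (.node .leaf (16921, 0, 15, 239830) .leaf) (16926, 0, 17, 26263) (.node .leaf (16927, 0, 14, 72024) .leaf))))) (16928, 0, 18, 135320) (.node (.node (.node (.node (.node .leaf (16929, 0, 16, 18870) .leaf) (16934, 0, 16, 231415) (.node .leaf (16935, 0, 17, 151392) .leaf)) (16938, 0, 16, 46013) (.node (.node .leaf (16939, 0, 14, 21467) .leaf) (16940, 0, 17, 121531) (.node .leaf (16941, 0, 17, 80605) .leaf))) (16946, 0, 18, 61040) (.node (.node (.node .leaf (16947, 0, 15, 120626) .leaf) (16948, 0, 16, 100214) (.node .leaf (16949, 0, 17, 91920) .leaf)) (16952, 0, 18, 236493) (.node (.node .leaf (16953, 0, 18, 228267) .leaf) (16958, 0, 16, 193227) (.node .leaf (16959, 0, 17, 135853) .leaf)))) (16962, 0, 16, 56682) (.node (.node (.node (.node .leaf (16963, 0, 17, 164932) .leaf) (16964, 0, 18, 84485) (.node .leaf (16965, 0, 17, 201515) .leaf)) (16968, 0, 15, 253828) (.node (.node .leaf (16969, 0, 16, 90765) .leaf) (16974,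 0, 17, 149739) (.node .leaf (16975, 0, 17, 2955) .leaf))) (16976, 0, 17, 82926) (.node (.node (.node .leaf (16977, 0, 17, 81728) .leaf) (16982, 0, 16, 46624) (.node .leaf (16983, 0, 17, 167343) .leaf)) (16986, 0, 17, 174747) (.node (.node .leaf (16987, 0, 17, 6190) .leaf) (16988, 0, 12, 251503) (.node .leaf (16989, 0, 16, 102209) .leaf))))))

/-- part of the orbit tree -/
def itp0_262 : Tree := (.node (.node (.node (.node (.node (.node .leaf (16995, 0, 14, 260430) .leaf) (16996, 0, 12, 14095) (.node .leaf (16997, 0, 17, 159265) .leaf)) (17000, 0, 17, 166174) (.node (.node .leaf (17001, 0, 16, 158072) .leaf) (17006, 0, 15, 253976) (.node .leaf (17007, 0, 16, 93391) .leaf))) (17008, 0, 15, 185555) (.node (.node (.node .leaf (17009, 0, 18, 144565) .leaf) (17014, 0, 12, 245205) (.node .leaf (17015, 0, 17, 258213) .leaf)) (17018, 0, 17, 106862) (.node (.node .leaf (17019, 0, 17, 91428) .leaf) (17020, 0, 17, 51304) (.node .leaf (17021, 0, 17, 10254) .leaf)))) (17026, 0, 15, 199386) (.node (.node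 (.node (.node .leaf (17027, 0, 14, 256700) .leaf) (17028, 0, 14, 172774) (.node .leaf (17029, 0, 15, 164794) .leaf)) (17032, 0, 17, 14183) (.node (.node .leaf (17033, 0, 16, 40705) .leaf) (17038, 0, 15, 106504) (.node .leaf (17039, 0, 17, 128519) .leaf))) (17040, 0, 18, 8874) (.node (.node (.node .leaf (17041, 0, 17, 49868) .leaf) (17046, 0, 18, 212066) (.node .leaf (17047, 0, 13, 91468) .leaf)) (17050, 0, 17, 109027) (.node (.node .leaf (17051, 0, 19, 243569) .leaf) (17052, 0, 16, 146961) (.node .leaf (17053, 0, 18, 157602) .leaf))))) (17058, 0, 15, 149635) (.node (.node (.node (.node (.node .leaf (17059, 0, 16, 57673) .leaf) (17060, 0, 18, 92201) (.node .leaf (17061, 0, 17, 100431) .leaf)) (17064, 0, 17, 84589) (.node (.node .leaf (17065, 0, 14, 234740) .leaf) (17070, 0, 14, 138644) (.node .leaf (17071, 0, 17, 196082) .leaf))) (17072, 0, 17, 207199) (.node (.node (.node .leaf (17073, 0, 17, 248121) .leaf) (17078, 0, 18, 147816) (.node .leaf (17079, 0, 13, 172095) .leaf)) (17082, 0, 15, 54505)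 (.node (.node .leaf (17083, 0, 16, 167367) .leaf) (17084, 0, 16, 82822) (.node .leaf (17085, 0, 15, 203432) .leaf)))) (17088, 0, 10, 34161) (.node (.node (.node (.node .leaf (17089, 0, 15, 187487) .leaf) (17094, 0, 15, 70174) (.node .leaf (17095, 0, 15, 215856) .leaf)) (17098, 0, 15, 231327) (.node (.node .leaf (17099, 0, 17, 122545) .leaf) (17100, 0, 17, 208066) (.node .leaf (17101, 0, 19, 18910) .leaf))) (17106, 0, 17, 72693) (.node (.node (.node .leaf (17107, 0, 16, 194671) .leaf) (17108, 0, 17, 35994) (.node .leaf (17109, 0, 14, 185780) .leaf)) (17112, 0, 15, 93620) (.node (.node .leaf (17113, 0, 17, 16437) .leaf) (17118, 0, 16, 1202) (.node .leaf (17119, 0, 12, 120666) .leaf))))))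

/-- part of the orbit tree -/
def itp0_263 : Tree := (.node (.node (.node (.node (.node (.node .leaf (17121, 0, 17, 237909) .leaf) (17126, 0, 15, 28436) (.node .leaf (17127, 0, 16, 144954) .leaf)) (17130, 0, 14, 195221) (.node (.node .leaf (17131, 0, 16, 41915) .leaf) (17132, 0, 12, 224762) (.node .leaf (17133, 0, 14, 79060) .leaf))) (17138, 0, 16, 70652) (.node (.node (.node .leaf (17139, 0, 14, 147409) .leaf) (17140, 0, 17, 31482) (.node .leaf (17141, 0, 14, 239806) .leaf)) (17144, 0, 15, 222225) (.node (.node .leaf (17145, 0, 16, 165415) .leaf) (17150, 0, 11, 200519) (.node .leaf (17151, 0, 14, 257825) .leaf)))) (17154, 0, 17, 25091) (.node (.node (.node (.node .leaf (17155, 0, 17, 146221) .leaf) (17156, 0, 15, 218786) (.node .leaf (17157, 0, 17, 240706) .leaf)) (17160, 0, 15, 84505) (.node (.node .leaf (17161, 0, 15, 80323) .leaf) (17166, 0, 16, 8991) (.node .leaf (17167, 0, 17, 50041) .leaf))) (17168, 0, 17, 71636) (.node (.node (.node .leaf (17169, 0, 17, 128946) .leaf) (17174, 0, 12,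 32466) (.node .leaf (17175, 0, 17, 144070) .leaf)) (17178, 0, 13, 156265) (.node (.node .leaf (17179, 0, 18, 42823) .leaf) (17180, 0, 18, 223494) (.node .leaf (17181, 0, 15, 77864) .leaf))))) (17186, 0, 16, 73481) (.node (.node (.node (.node (.node .leaf (17187, 0, 15, 119863) .leaf) (17188, 0, 18, 34918) (.node .leaf (17189, 0, 13, 48433) .leaf)) (17192, 0, 15, 147948) (.node (.node .leaf (17193, 0, 14, 172426) .leaf) (17198, 0, 18, 232072) (.node .leaf (17199, 0, 17, 247948) .leaf))) (17200, 0, 14, 138273) (.node (.node (.node .leaf (17201, 0, 16, 195655) .leaf) (17206, 0, 18, 71394) (.node .leaf (17207, 0, 16, 234817) .leaf)) (17210, 0, 13, 230243) (.node (.node .leaf (17211, 0, 17, 100858) .leaf) (17212, 0, 17, 136204) (.node .leaf (17213, 0, 18, 57596) .leaf)))) (17216, 0, 15, 250619) (.node (.node (.node (.node .leaf (17217, 0, 14, 101333) .leaf) (17222, 0, 14, 148884) (.node .leaf (17223, 0, 18, 7354) .leaf)) (17226, 0, 17, 225466) (.node (.node .leaf (17227, 0, 16, 166203) .leaf) (17228,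 0, 17, 137660) (.node .leaf (17229, 0, 15, 204372) .leaf))) (17234, 0, 17, 150655) (.node (.node (.node .leaf (17235, 0, 14, 249105) .leaf) (17236, 0, 15, 252688) (.node .leaf (17237, 0, 16, 173079) .leaf)) (17240, 0, 17, 85649) (.node (.node .leaf (17241, 0, 12, 202687) .leaf) (17246, 0, 17, 78284) (.node .leaf (17247, 0, 17, 164048) .leaf))))))

/-- part of the orbit tree -/
def itp0_264 : Tree := (.node (.node (.node (.node (.node (.node .leaf (17249, 0, 14, 63199) .leaf) (17254, 0, 16, 211102) (.node .leaf (17255, 0, 17, 90544) .leaf)) (17258, 0, 16, 31567) (.node (.node .leaf (17259, 0, 16, 259121) .leaf) (17260, 0, 17, 70217) (.node .leaf (17261, 0, 15, 127535) .leaf))) (17266, 0, 11, 209269) (.node (.node (.node .leaf (17267, 0, 16, 92251) .leaf) (17268, 0, 14, 173594) (.node .leaf (17269, 0, 16, 110562) .leaf)) (17272, 0, 12, 13211) (.node (.node .leaf (17273, 0, 17, 158389) .leaf) (17278, 0, 15, 145977) (.node .leaf (17279, 0, 15, 261594) .leaf)))) (17280, 0, 9, 129163) (.node (.node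 (.node (.node .leaf (17281, 0, 16, 71917) .leaf) (17286, 0, 17, 109943) (.node .leaf (17287, 0, 13, 29163) .leaf)) (17290, 0, 17, 211190) (.node (.node .leaf (17291, 0, 16, 159056) .leaf) (17292, 0, 15, 255024) (.node .leaf (17293, 0, 14, 63159) .leaf))) (17298, 0, 17, 107676) (.node (.node (.node .leaf (17299, 0, 16, 261554) .leaf) (17300, 0, 16, 244221) (.node .leaf (17301, 0, 19, 158429) .leaf)) (17304, 0, 16, 107846) (.node (.node .leaf (17305, 0, 15, 65372) .leaf) (17310, 0, 16, 52288) (.node .leaf (17311, 0, 15, 11302) .leaf))))) (17312, 0, 16, 83730) (.node (.node (.node (.node (.node .leaf (17313, 0, 16, 204348) .leaf) (17318, 0, 18, 53373) (.node .leaf (17319, 0, 14, 166227) .leaf)) (17322, 0, 16, 148988) (.node (.node .leaf (17323, 0, 17, 91813) .leaf) (17324, 0, 16, 250515) (.node .leaf (17325, 0, 16, 101309) .leaf))) (17330, 0, 17, 121614) (.node (.node (.node .leaf (17331, 0, 16, 164024) .leaf) (17332, 0, 15, 45576) (.node .leaf (17333, 0, 18, 202711) .leaf)) (17336, 0, 16, 252792)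 (.node (.node .leaf (17337, 0, 18, 151253) .leaf) (17342, 0, 17, 247733) (.node .leaf (17343, 0, 19, 5433) .leaf)))) (17346, 0, 17, 246312) (.node (.node (.node (.node .leaf (17347, 0, 16, 119758) .leaf) (17348, 0, 17, 174894) (.node .leaf (17349, 0, 17, 17569) .leaf)) (17352, 0, 15, 46997) (.node (.node .leaf (17353, 0, 17, 184608) .leaf) (17358, 0, 13, 73569) (.node .leaf (17359, 0, 18, 214607) .leaf))) (17360, 0, 16, 136292) (.node (.node (.node .leaf (17361, 0, 16, 2622) .leaf) (17366, 0, 14, 230155) (.node .leaf (17367, 0, 16, 90936) .leaf)) (17370, 0, 15, 71306) (.node (.node .leaf (17371, 0, 16, 216996) .leaf) (17372, 0, 17, 33253) .leaf)))))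

/-- part of the orbit tree -/
def itp0_265 : Tree := (.node itp0_261 (16994, 0, 16, 106592) itp0_262)

/-- part of the orbit tree -/
def itp0_266 : Tree := (.node itp0_263 (17248, 0, 18, 176113) itp0_264)

/-- part of the orbit tree -/
def itp0_267 : Tree := (.node itp0_259 (16609, 0, 16, 238713) itp0_260)

/-- part of the orbit tree -/
def itp0_268 : Tree := (.node itp0_265 (17120, 0, 18, 129147) itp0_266)

/-- part of the orbit tree -/
def itp0_269 : Tree := (.node (.node (.node (.node (.node (.node .leaf (17378, 0, 17, 51677) .leaf) (17379, 0, 15, 10683) (.node .leaf (17380, 0, 17, 221317) .leaf)) (17381, 0, 18, 82109) (.node (.node .leaf (17384, 0, 15, 244832) .leaf) (17385, 0, 16, 220166) (.node .leaf (17390, 0, 17, 25195) .leaf))) (17391, 0, 14, 144640) (.node (.node (.node .leaf (17392, 0, 16, 223598) .leaf) (17393, 0, 17, 77888) (.node .leaf (17398, 0, 16, 166059) .leaf)) (17399, 0, 16, 42799) (.node (.node .leaf (17402, 0, 16, 27520) .leaf) (17403, 0, 17, 29814) (.node .leaf (17404,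 0, 15, 130326) .leaf)))) (17405, 0, 12, 239041) (.node (.node (.node (.node .leaf (17408, 0, 14, 25930) .leaf) (17410, 0, 16, 232760) (.node .leaf (17413, 0, 17, 74344) .leaf)) (17415, 0, 18, 240395) (.node (.node .leaf (17417, 0, 13, 212691) .leaf) (17419, 0, 17, 81546) (.node .leaf (17420, 0, 16, 255894) .leaf))) (17422, 0, 17, 71865) (.node (.node (.node .leaf (17425, 0, 17, 221982) .leaf) (17427, 0, 16, 238304) (.node .leaf (17428, 0, 13, 27809) .leaf)) (17430, 0, 18, 230611) (.node (.node .leaf (17432, 0, 9, 194848) .leaf) (17434, 0, 15, 63173) (.node .leaf (17437, 0, 18, 188179) .leaf))))) (17439, 0, 17, 12160) (.node (.node (.node (.node (.node .leaf (17440, 0, 18, 192728) .leaf) (17442, 0, 17, 192562) (.node .leaf (17445, 0, 16, 81523) .leaf)) (17447, 0, 14, 185857) (.node (.node .leaf (17449, 0, 17, 240626) .leaf) (17451, 0, 10, 17280) (.node .leaf (17452, 0, 19, 60515) .leaf))) (17454, 0, 16, 26035) (.node (.node (.node .leaf (17457, 0, 15, 79768) .leaf) (17459, 0, 15, 188394) (.node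 .leaf (17460, 0, 16, 45486) .leaf)) (17462, 0, 16, 123275) (.node (.node .leaf (17464, 0, 16, 175381) .leaf) (17466, 0, 11, 27736) (.node .leaf (17469, 0, 17, 238105) .leaf)))) (17471, 0, 13, 19051) (.node (.node (.node (.node .leaf (17473, 0, 16, 156910) .leaf) (17475, 0, 17, 205288) (.node .leaf (17476, 0, 17, 148189) .leaf)) (17478, 0, 16, 109231) (.node (.node .leaf (17480, 0, 19, 55132) .leaf) (17482, 0, 16, 123926) (.node .leaf (17485, 0, 15, 61807) .leaf))) (17487, 0, 15, 81235) (.node (.node (.node .leaf (17488, 0, 15, 59902) .leaf) (17490, 0, 12, 113115) (.node .leaf (17493, 0, 16, 12475) .leaf)) (17495, 0, 16, 99703) (.node (.node .leaf (17497, 0, 17, 63620) .leaf) (17499, 0, 14, 228389) (.node .leaf (17500, 0, 15, 57015) .leaf))))))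

/-- part of the orbit tree -/
def itp0_270 : Tree := (.node (.node (.node (.node (.node (.node .leaf (17505, 0, 15, 203236) .leaf) (17507, 0, 15, 61846) (.node .leaf (17508, 0, 17, 212951) .leaf)) (17510, 0, 17, 62296) (.node (.node .leaf (17512, 0, 13, 109142) .leaf) (17514, 0, 13, 148004) (.node .leaf (17517, 0, 15, 222851) .leaf))) (17519, 0, 16, 145062) (.node (.node (.node .leaf (17520, 0, 16, 210492) .leaf) (17522, 0, 18, 56910) (.node .leaf (17525, 0, 15, 211790) .leaf)) (17527, 0, 15, 63613) (.node (.node .leaf (17529, 0, 16, 99726) .leaf) (17531, 0, 17, 159228) (.node .leaf (17532, 0, 16, 107453) .leaf)))) (17534, 0, 17, 44693) (.node (.node (.node (.node .leaf (17537, 0, 16, 101389) .leaf) (17539, 0, 16, 156799) (.node .leaf (17540, 0, 14, 109118) .leaf)) (17542, 0, 16, 148044) (.node (.node .leaf (17544, 0, 14, 212927) .leaf) (17546, 0, 15, 6554) (.node .leaf (17549, 0, 16, 203148) .leaf))) (17551, 0, 18, 49375) (.node (.node (.node .leaf (17552, 0, 16, 70770) .leaf) (17554, 0,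 16, 150439) (.node .leaf (17557, 0, 17, 99814) .leaf)) (17559, 0, 16, 40210) (.node (.node .leaf (17561, 0, 16, 200807) .leaf) (17563, 0, 17, 63509) (.node .leaf (17564, 0, 13, 198857) .leaf))))) (17566, 0, 17, 56870) (.node (.node (.node (.node (.node .leaf (17569, 0, 16, 34740) .leaf) (17571, 0, 18, 203125) (.node .leaf (17572, 0, 15, 24305) .leaf)) (17574, 0, 15, 212806) (.node (.node .leaf (17576, 0, 17, 148149) .leaf) (17578, 0, 17, 109255) (.node .leaf (17581, 0, 16, 156806) .leaf))) (17583, 0, 16, 101620) (.node (.node (.node .leaf (17584, 0, 14, 57055) .leaf) (17586, 0, 15, 216994) (.node .leaf (17589, 0, 17, 63724) .leaf)) (17591, 0, 17, 235239) (.node (.node .leaf (17593, 0, 17, 159085) .leaf) (17595, 0, 17, 100956) (.node .leaf (17596, 0, 16, 150366) .leaf)))) (17598, 0, 19, 86809) (.node (.node (.node (.node .leaf (17600, 0, 17, 1697) .leaf) (17602, 0, 18, 26075) (.node .leaf (17605, 0, 14, 57316) .leaf)) (17607, 0, 15, 102337) (.node (.node .leaf (17609, 0, 14, 181087) .leaf) (17611,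 0, 16, 185961) (.node .leaf (17612, 0, 16, 137754) .leaf))) (17614, 0, 14, 192602) (.node (.node (.node .leaf (17617, 0, 16, 171666) .leaf) (17619, 0, 17, 18947) (.node .leaf (17620, 0, 15, 230466) .leaf)) (17622, 0, 17, 27696) (.node (.node .leaf (17624, 0, 18, 70083) .leaf) (17626, 0, 15, 68425) (.node .leaf (17629, 0, 11, 33321) .leaf))))))

/-- part of the orbit tree -/
def itp0_271 : Tree := (.node (.node (.node (.node (.node (.node .leaf (17632, 0, 16, 192675) .leaf) (17634, 0, 13, 154993) (.node .leaf (17637, 0, 18, 186000) .leaf)) (17639, 0, 15, 164916) (.node (.node .leaf (17641, 0, 17, 116906) .leaf) (17643, 0, 18, 240483) (.node .leaf (17644, 0, 16, 25890) .leaf))) (17646, 0, 12, 232784) (.node (.node (.node .leaf (17649, 0, 15, 188283) .leaf) (17651, 0, 14, 50498) (.node .leaf (17652, 0, 16, 194888) .leaf)) (17654, 0, 8, 7175) (.node (.node .leaf (17656, 0, 18, 217241) .leaf) (17658, 0, 15, 230587) (.node .leaf (17661, 0, 11, 19194) .leaf)))) (17663, 0, 15, 238216) (.node (.node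 (.node (.node .leaf (17665, 0, 17, 178495) .leaf) (17667, 0, 17, 256282) (.node .leaf (17668, 0, 16, 196020) .leaf)) (17670, 0, 17, 71110) (.node (.node .leaf (17672, 0, 13, 26677) .leaf) (17674, 0, 17, 77028) (.node .leaf (17677, 0, 13, 19974) .leaf))) (17679, 0, 15, 128417) (.node (.node (.node .leaf (17680, 0, 18, 8460) .leaf) (17682, 0, 17, 72749) (.node .leaf (17685, 0, 13, 63561) .leaf)) (17687, 0, 8, 80414) (.node (.node .leaf (17689, 0, 16, 189682) .leaf) (17691, 0, 18, 242903) (.node .leaf (17692, 0, 18, 146871) .leaf))))) (17694, 0, 14, 231852) (.node (.node (.node (.node (.node .leaf (17697, 0, 16, 111306) .leaf) (17699, 0, 15, 20223) (.node .leaf (17700, 0, 16, 93071) .leaf)) (17702, 0, 17, 26828) (.node (.node .leaf (17704, 0, 15, 70975) .leaf) (17706, 0, 14, 141073) (.node .leaf (17709, 0, 15, 78604) .leaf))) (17711, 0, 13, 196180) (.node (.node (.node .leaf (17712, 0, 14, 231765) .leaf) (17714, 0, 13, 24871) (.node .leaf (17717, 0, 17, 241510) .leaf)) (17719, 0, 17, 18196) (.node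 (.node .leaf (17721, 0, 15, 126727) .leaf) (17723, 0, 16, 48930) (.node .leaf (17724, 0, 19, 72916) .leaf)))) (17726, 0, 17, 26215) (.node (.node (.node (.node .leaf (17728, 0, 17, 55843) .leaf) (17730, 0, 17, 25594) (.node .leaf (17733, 0, 17, 64528) .leaf)) (17735, 0, 17, 201826) (.node (.node .leaf (17737, 0, 18, 158097) .leaf) (17739, 0, 16, 98787) (.node .leaf (17740, 0, 13, 208740) .leaf))) (17742, 0, 15, 108496) (.node (.node (.node .leaf (17745, 0, 15, 240620) .leaf) (17747, 0, 14, 195529) (.node .leaf (17748, 0, 17, 54216) .leaf)) (17750, 0, 13, 139916) (.node (.node .leaf (17752, 0, 13, 149065) .leaf) (17754, 0, 15, 15927) (.node .leaf (17757, 0, 17, 112471) .leaf))))))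

/-- part of the orbit tree -/
def itp0_272 : Tree := (.node (.node (.node (.node (.node (.node .leaf (17760, 0, 14, 145450) .leaf) (17762, 0, 12, 223247) (.node .leaf (17765, 0, 17, 98586) .leaf)) (17767, 0, 13, 158056) (.node (.node .leaf (17769, 0, 13, 64980) .leaf) (17771, 0, 17, 64745) (.node .leaf (17772, 0, 14, 209576) .leaf))) (17774, 0, 16, 95412) (.node (.node (.node .leaf (17777, 0, 19, 40985) .leaf) (17779, 0, 17, 127036) (.node .leaf (17780, 0, 18, 110274) .leaf)) (17782, 0, 18, 76153) (.node (.node .leaf (17784, 0, 14, 211779) .leaf) (17786, 0, 15, 54065) (.node .leaf (17789, 0, 16, 204144) .leaf)))) (17791, 0, 14, 257159) (.node (.node (.node (.node .leaf (17792, 0, 15, 52819) .leaf) (17794, 0, 16, 106102) (.node .leaf (17797, 0, 17, 201971) .leaf)) (17799, 0, 17, 64641) (.node (.node .leaf (17801, 0, 17, 98674) .leaf) (17803, 0, 14, 220040) (.node .leaf (17804, 0, 15, 108353) .leaf))) (17806, 0, 12, 230093) (.node (.node (.node .leaf (17809, 0, 14, 204056) .leaf) (17811, 0,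 18, 62826) (.node .leaf (17812, 0, 16, 211755) .leaf)) (17814, 0, 16, 253696) (.node (.node .leaf (17816, 0, 17, 37790) .leaf) (17818, 0, 16, 115643) (.node .leaf (17821, 0, 17, 100505) .leaf))))) (17823, 0, 17, 72446) (.node (.node (.node (.node (.node .leaf (17824, 0, 17, 151498) .leaf) (17826, 0, 16, 108472) (.node .leaf (17829, 0, 16, 204003) .leaf)) (17831, 0, 16, 150726) (.node (.node .leaf (17833, 0, 14, 64632) .leaf) (17835, 0, 10, 20605) (.node .leaf (17836, 0, 16, 121117) .leaf))) (17838, 0, 13, 35128) (.node (.node (.node .leaf (17841, 0, 17, 89493) .leaf) (17843, 0, 19, 3504) (.node .leaf (17844, 0, 17, 99536) .leaf)) (17846, 0, 17, 54517) (.node (.node .leaf (17848, 0, 14, 235627) .leaf) (17850, 0, 18, 182350) (.node .leaf (17853, 0, 14, 62867) .leaf)))) (17855, 0, 17, 135435) (.node (.node (.node (.node .leaf (17857, 0, 9, 78692) .leaf) (17859, 0, 17, 187158) (.node .leaf (17860, 0, 16, 70999) .leaf)) (17862, 0, 16, 183763) (.node (.node .leaf (17864, 0, 14, 229590) .leaf) (17866,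 0, 17, 26788) (.node .leaf (17869, 0, 16, 88072) .leaf))) (17871, 0, 15, 2093) (.node (.node (.node .leaf (17872, 0, 14, 72892) .leaf) (17874, 0, 17, 193742) (.node .leaf (17877, 0, 16, 67013) .leaf)) (17879, 0, 16, 185085) (.node (.node .leaf (17881, 0, 15, 203134) .leaf) (17883, 0, 16, 18300) (.node .leaf (17884, 0, 16, 231741) .leaf))))))

/-- part of the orbit tree -/
def itp0_273 : Tree := (.node itp0_269 (17502, 0, 18, 210629) itp0_270)

/-- part of the orbit tree -/
def itp0_274 : Tree := (.node itp0_271 (17759, 0, 13, 100360) itp0_272)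

/-- part of the orbit tree -/
def itp0_275 : Tree := (.node (.node (.node (.node (.node (.node .leaf (17889, 0, 15, 20294) .leaf) (17891, 0, 17, 73571) (.node .leaf (17892, 0, 15, 38403) .leaf)) (17894, 0, 18, 229423) (.node (.node .leaf (17896, 0, 11, 166584) .leaf) (17898, 0, 12, 252573) (.node .leaf (17901, 0, 16, 187375) .leaf))) (17903, 0, 16, 197592) (.node (.node (.node .leaf (17904, 0, 15, 186229) .leaf) (17906, 0, 18, 231876) (.node .leaf (17909, 0, 17, 134704) .leaf)) (17911, 0, 12, 220693) (.node (.node .leaf (17913, 0, 15, 184836) .leaf) (17915, 0, 13, 80502) (.node .leaf (17916, 0, 14, 52174) .leaf)))) (17918, 0, 16, 72773) (.node (.node (.node (.node .leaf (17924, 0, 10, 139131) .leaf) (17925, 0, 17, 18005) (.node .leaf (17926, 0, 15, 48731) .leaf)) (17927, 0, 16, 24125) (.node (.node .leaf (17928, 0, 16, 258757) .leaf) (17929, 0, 16, 201379) (.node .leaf (17930, 0, 17, 221832) .leaf))) (17931, 0, 14, 148102) (.node (.node (.node .leaf (17936, 0, 15, 136848) .leaf) (17937, 0,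 15, 216942) (.node .leaf (17938, 0, 18, 130786) .leaf)) (17939, 0, 15, 239564) (.node (.node .leaf (17948, 0, 15, 111539) .leaf) (17949, 0, 17, 86997) (.node .leaf (17950, 0, 15, 58262) .leaf))))) (17951, 0, 14, 78413) (.node (.node (.node (.node (.node .leaf (17956, 0, 11, 189835) .leaf) (17957, 0, 16, 80735) (.node .leaf (17958, 0, 17, 243118) .leaf)) (17959, 0, 16, 218568) (.node (.node .leaf (17960, 0, 18, 63792) .leaf) (17961, 0, 12, 241374) (.node .leaf (17962, 0, 15, 139138) .leaf))) (17963, 0, 19, 84339) (.node (.node (.node .leaf (17968, 0, 14, 224154) .leaf) (17969, 0, 16, 78516) (.node .leaf (17970, 0, 16, 128216) .leaf)) (17971, 0, 18, 70846) (.node (.node .leaf (17980, 0, 12, 178246) .leaf) (17981, 0, 18, 153632) (.node .leaf (17982, 0, 15, 136809) .leaf)))) (17983, 0, 17, 20295) (.node (.node (.node (.node .leaf (17984, 0, 17, 14572) .leaf) (17985, 0, 15, 155069) (.node .leaf (17986, 0, 14, 257534) .leaf)) (17987, 0, 17, 100784) (.node (.node .leaf (17996, 0, 18, 41312) .leaf)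 (17997, 0, 16, 16646) (.node .leaf (17998, 0, 17, 83231) .leaf))) (17999, 0, 10, 69923) (.node (.node (.node .leaf (18004, 0, 18, 64685) .leaf) (18005, 0, 16, 157737) (.node .leaf (18006, 0, 15, 252277) .leaf)) (18007, 0, 14, 85230) (.node (.node .leaf (18008, 0, 15, 173190) .leaf) (18009, 0, 14, 64936) (.node .leaf (18010, 0, 16, 241715) .leaf))))))

/-- part of the orbit tree -/
def itp0_276 : Tree := (.node (.node (.node (.node (.node (.node .leaf (18016, 0, 16, 112174) .leaf) (18017, 0, 15, 87624) (.node .leaf (18018, 0, 17, 58891) .leaf)) (18019, 0, 14, 1645) (.node (.node .leaf (18028, 0, 17, 249959) .leaf) (18029, 0, 18, 100681) (.node .leaf (18030, 0, 11, 14357) .leaf))) (18031, 0, 15, 137942) (.node (.node (.node .leaf (18036, 0, 16, 85005) .leaf) (18037, 0, 15, 202558) (.node .leaf (18038, 0, 16, 173183) .leaf)) (18039, 0, 18, 149275) (.node (.node .leaf (18040, 0, 18, 125923) .leaf) (18041, 0, 17, 98466) (.node .leaf (18042, 0, 17, 12798) .leaf)))) (18043, 0, 18, 23456) (.node (.node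 (.node (.node .leaf (18048, 0, 18, 213079) .leaf) (18049, 0, 14, 100641) (.node .leaf (18050, 0, 16, 14461) .leaf)) (18051, 0, 17, 155987) (.node (.node .leaf (18060, 0, 12, 83342) .leaf) (18061, 0, 13, 203936) (.node .leaf (18062, 0, 15, 175612) .leaf))) (18063, 0, 14, 60591) (.node (.node (.node .leaf (18068, 0, 15, 252388) .leaf) (18069, 0, 17, 123207) (.node .leaf (18070, 0, 16, 12694) .leaf)) (18071, 0, 17, 157880) (.node (.node .leaf (18072, 0, 16, 204186) .leaf) (18073, 0, 14, 202059) (.node .leaf (18074, 0, 16, 173079) .leaf))))) (18075, 0, 17, 64825) (.node (.node (.node (.node (.node .leaf (18080, 0, 17, 175365) .leaf) (18081, 0, 18, 43972) (.node .leaf (18082, 0, 15, 72583) .leaf)) (18083, 0, 17, 203865) (.node (.node .leaf (18092, 0, 19, 14468) .leaf) (18093, 0, 15, 156074) (.node .leaf (18094, 0, 16, 198460) .leaf))) (18095, 0, 18, 255834) (.node (.node (.node .leaf (18100, 0, 17, 173294) .leaf) (18101, 0, 17, 191154) (.node .leaf (18102, 0, 14, 85148) .leaf)) (18103, 0, 16, 202162)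 (.node (.node .leaf (18104, 0, 13, 5743) .leaf) (18105, 0, 11, 157761) (.node .leaf (18106, 0, 16, 252189) .leaf)))) (18107, 0, 15, 98355) (.node (.node (.node (.node .leaf (18116, 0, 15, 5106) .leaf) (18117, 0, 16, 241334) (.node .leaf (18118, 0, 17, 82903) .leaf)) (18119, 0, 13, 107441) (.node (.node .leaf (18120, 0, 16, 221721) .leaf) (18121, 0, 15, 192303) (.node .leaf (18122, 0, 18, 35435) .leaf))) (18123, 0, 15, 185157) (.node (.node (.node .leaf (18128, 0, 17, 152196) .leaf) (18129, 0, 16, 239453) (.node .leaf (18130, 0, 16, 136705) .leaf)) (18131, 0, 13, 254663) (.node (.node .leaf (18140, 0, 17, 224242) .leaf) (18141, 0, 16, 44633) (.node .leaf (18142, 0, 18, 73242) .leaf))))))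

/-- part of the orbit tree -/
def itp0_277 : Tree := (.node (.node (.node (.node (.node (.node .leaf (18148, 0, 18, 35474) .leaf) (18149, 0, 16, 260193) (.node .leaf (18150, 0, 16, 149538) .leaf)) (18151, 0, 16, 80846) (.node (.node .leaf (18152, 0, 17, 139027) .leaf) (18153, 0, 14, 124122) (.node .leaf (18154, 0, 18, 21657) .leaf))) (18155, 0, 17, 46335) (.node (.node (.node .leaf (18160, 0, 16, 33657) .leaf) (18161, 0, 16, 112919) (.node .leaf (18162, 0, 17, 2388) .leaf)) (18163, 0, 16, 59698) (.node (.node .leaf (18172, 0, 18, 136952) .leaf) (18173, 0, 14, 239020) (.node .leaf (18174, 0, 18, 130698) .leaf)))) (18175, 0, 9, 239524) (.node (.node (.node (.node .leaf (18176, 0, 17, 34693) .leaf) (18177, 0, 16, 169295) (.node .leaf (18178, 0, 15, 206092) .leaf)) (18179, 0, 17, 79577) (.node (.node .leaf (18188, 0, 17, 27026) .leaf) (18189, 0, 12, 35316) (.node .leaf (18190, 0, 15, 80311) .leaf))) (18191, 0, 16, 121297) (.node (.node (.node .leaf (18196, 0, 16, 36462) .leaf) (18197, 0, 16, 186176)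 (.node .leaf (18198, 0, 15, 91258) .leaf)) (18199, 0, 17, 99356) (.node (.node .leaf (18200, 0, 15, 141540) .leaf) (18201, 0, 16, 17089) (.node .leaf (18202, 0, 19, 227521) .leaf))))) (18203, 0, 16, 240307) (.node (.node (.node (.node (.node .leaf (18208, 0, 14, 98012) .leaf) (18209, 0, 16, 106170) (.node .leaf (18210, 0, 13, 12025) .leaf)) (18211, 0, 17, 19411) (.node (.node .leaf (18220, 0, 16, 221799) .leaf) (18221, 0, 16, 79392) (.node .leaf (18222, 0, 14, 143938) .leaf))) (18223, 0, 13, 184868) (.node (.node (.node .leaf (18228, 0, 14, 127844) .leaf) (18229, 0, 17, 253900) (.node .leaf (18230, 0, 15, 138006) .leaf)) (18231, 0, 19, 167913) (.node (.node .leaf (18232, 0, 16, 222949) .leaf) (18233, 0, 17, 115575) (.node .leaf (18234, 0, 14, 29492) .leaf)))) (18235, 0, 17, 37714) (.node (.node (.node (.node .leaf (18244, 0, 15, 75404) .leaf) (18245, 0, 16, 63804) (.node .leaf (18246, 0, 15, 84064) .leaf)) (18247, 0, 13, 201038) (.node (.node .leaf (18248, 0, 15, 13715) .leaf) (18249, 0, 16,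 158909) (.node .leaf (18250, 0, 15, 158226) .leaf))) (18251, 0, 15, 99535) (.node (.node (.node .leaf (18256, 0, 14, 223226) .leaf) (18257, 0, 17, 61655) (.node .leaf (18258, 0, 15, 145375) .leaf)) (18259, 0, 16, 202917) (.node (.node .leaf (18268, 0, 14, 15480) .leaf) (18269, 0, 17, 157014) (.node .leaf (18270, 0, 15, 11108) .leaf))))))

/-- part of the orbit tree -/
def itp0_278 : Tree := (.node (.node (.node (.node (.node (.node .leaf (18276, 0, 15, 253208) .leaf) (18277, 0, 17, 183583) (.node .leaf (18278, 0, 18, 228700) .leaf)) (18279, 0, 16, 236858) (.node (.node .leaf (18280, 0, 16, 12738) .leaf) (18281, 0, 14, 201143) (.node .leaf (18282, 0, 11, 172267) .leaf))) (18283, 0, 16, 63941) (.node (.node (.node .leaf (18288, 0, 15, 27663) .leaf) (18289, 0, 17, 35945) (.node .leaf (18290, 0, 16, 80938) .leaf)) (18291, 0, 16, 157103) (.node (.node .leaf (18300, 0, 15, 159924) .leaf) (18301, 0, 16, 202844) (.node .leaf (18302, 0, 15, 204945) .leaf)))) (18303, 0, 16, 61486) (.node (.node (.node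 (.node .leaf (18308, 0, 17, 56064) .leaf) (18309, 0, 17, 15206) (.node .leaf (18310, 0, 16, 172163) .leaf)) (18311, 0, 16, 63917) (.node (.node .leaf (18312, 0, 15, 253296) .leaf) (18313, 0, 14, 141277) (.node .leaf (18314, 0, 16, 235422) .leaf))) (18315, 0, 17, 158764) (.node (.node (.node .leaf (18320, 0, 17, 82202) .leaf) (18321, 0, 16, 162320) (.node .leaf (18322, 0, 15, 174440) .leaf)) (18323, 0, 15, 207413) (.node (.node .leaf (18332, 0, 14, 34509) .leaf) (18333, 0, 15, 101813) (.node .leaf (18334, 0, 15, 15593) .leaf))))) (18335, 0, 17, 157127) (.node (.node (.node (.node (.node .leaf (18340, 0, 16, 250101) .leaf) (18341, 0, 16, 158933) (.node .leaf (18342, 0, 17, 164048) .leaf)) (18343, 0, 13, 155830) (.node (.node .leaf (18344, 0, 13, 117838) .leaf) (18345, 0, 18, 76840) (.node .leaf (18346, 0, 15, 83976) .leaf))) (18347, 0, 15, 31757) (.node (.node (.node .leaf (18352, 0, 19, 15376) .leaf) (18353, 0, 12, 94693) (.node .leaf (18354, 0, 17, 250978) .leaf)) (18355, 0, 15, 8640) (.node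 (.node .leaf (18364, 0, 16, 232760) .leaf) (18365, 0, 14, 224606) (.node .leaf (18366, 0, 16, 82403) .leaf)))) (18367, 0, 16, 202957) (.node (.node (.node (.node .leaf (18368, 0, 15, 225126) .leaf) (18369, 0, 17, 223427) (.node .leaf (18370, 0, 17, 186496) .leaf)) (18371, 0, 16, 187962) (.node (.node .leaf (18380, 0, 17, 129767) .leaf) (18381, 0, 18, 95352) (.node .leaf (18382, 0, 16, 50235) .leaf))) (18383, 0, 18, 9309) (.node (.node (.node .leaf (18388, 0, 16, 117203) .leaf) (18389, 0, 16, 81827) (.node .leaf (18390, 0, 15, 39414) .leaf)) (18391, 0, 18, 186321) (.node (.node .leaf (18392, 0, 15, 127756) .leaf) (18393, 0, 18, 210190) .leaf)))))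

/-- part of the orbit tree -/
def itp0_279 : Tree := (.node itp0_275 (18011, 0, 15, 202202) itp0_276)

/-- part of the orbit tree -/
def itp0_280 : Tree := (.node itp0_277 (18271, 0, 17, 101668) itp0_278)

/-- part of the orbit tree -/
def itp0_281 : Tree := (.node itp0_273 (17631, 0, 18, 188290) itp0_274)

/-- part of the orbit tree -/
def itp0_282 : Tree := (.node itp0_279 (18143, 0, 17, 187054) itp0_280)

/-- part of the orbit tree -/
def itp0_283 : Tree := (.node itp0_267 (16864, 0, 16, 72372) itp0_268)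

/-- part of the orbit tree -/
def itp0_284 : Tree := (.node itp0_281 (17886, 0, 15, 167966) itp0_282)

/-- part of the orbit tree -/
def itp0_285 : Tree := (.node (.node (.node (.node (.node (.node .leaf (18395, 0, 15, 156971) .leaf) (18400, 0, 17, 135788) (.node .leaf (18401, 0, 16, 25398) .leaf)) (18402, 0, 12, 119669) (.node (.node .leaf (18403, 0, 17, 238384) .leaf) (18412, 0, 14, 172011) (.node .leaf (18413, 0, 17, 188099) .leaf))) (18414, 0, 16, 225183) (.node (.node (.node .leaf (18415, 0, 12, 208808) .leaf) (18420, 0, 14, 138119) (.node .leaf (18421, 0, 15, 17065) .leaf)) (18422, 0, 18, 127989) (.node (.node .leaf (18423, 0, 16, 240347) .leaf) (18424, 0, 16, 56989) (.node .leaf (18425, 0, 18, 16123) .leaf)))) (18426, 0, 15, 222836) (.node (.node (.node (.node .leaf (18427, 0, 14, 81754) .leaf) (18432, 0, 18, 171929) (.node .leaf (18435, 0, 15, 208858) .leaf)) (18436, 0, 14, 86684) (.node (.node .leaf (18439, 0, 18, 202489) .leaf) (18441, 0, 15, 23143) (.node .leaf (18442, 0, 13, 12143)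 .leaf))) (18445, 0, 17, 254254) (.node (.node (.node .leaf (18446, 0, 16, 151666) .leaf) (18449, 0, 17, 197209) (.node .leaf (18450, 0, 14, 112617) .leaf)) (18453, 0, 17, 16009) (.node (.node .leaf (18454, 0, 17, 52248) .leaf) (18456, 0, 14, 180820) (.node .leaf (18459, 0, 15, 225815) .leaf))))) (18460, 0, 14, 249590) (.node (.node (.node (.node (.node .leaf (18463, 0, 16, 215860) .leaf) (18464, 0, 14, 151691) (.node .leaf (18467, 0, 15, 9263) .leaf)) (18468, 0, 12, 12182) (.node (.node .leaf (18471, 0, 17, 7436) .leaf) (18473, 0, 16, 217490) (.node .leaf (18474, 0, 17, 86629) .leaf))) (18477, 0, 15, 223409) (.node (.node (.node .leaf (18478, 0, 14, 186610) .leaf) (18481, 0, 16, 199775) (.node .leaf (18482, 0, 12, 179228) .leaf)) (18485, 0, 13, 210300) (.node (.node .leaf (18486, 0, 15, 165183) .leaf) (18488, 0, 15, 117153) (.node .leaf (18491, 0, 16, 31202) .leaf)))) (18492, 0, 17, 127106) (.node (.node (.node (.node .leaf (18495, 0, 14, 16577) .leaf) (18497, 0, 18, 71033) (.node .leaf (18498,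 0, 16, 40313) .leaf)) (18501, 0, 16, 217912) (.node (.node .leaf (18502, 0, 13, 39961) .leaf) (18504, 0, 15, 237463) (.node .leaf (18507, 0, 16, 143051) .leaf))) (18508, 0, 18, 256420) (.node (.node (.node .leaf (18511, 0, 14, 154087) .leaf) (18512, 0, 17, 232778) (.node .leaf (18515, 0, 18, 45729) .leaf)) (18516, 0, 15, 228576) (.node (.node .leaf (18519, 0, 16, 132138) .leaf) (18521, 0, 15, 84148) (.node .leaf (18522, 0, 18, 63735) .leaf))))))

/-- part of the orbit tree -/
def itp0_286 : Tree := (.node (.node (.node (.node (.node (.node .leaf (18526, 0, 15, 32270) .leaf) (18529, 0, 14, 138892) (.node .leaf (18530, 0, 16, 241359) .leaf)) (18533, 0, 16, 142898) (.node (.node .leaf (18534, 0, 11, 235500) .leaf) (18536, 0, 17, 189085) (.node .leaf (18539, 0, 17, 218049) .leaf))) (18540, 0, 19, 57937) (.node (.node (.node .leaf (18543, 0, 16, 77020) .leaf) (18544, 0, 17, 32503) (.node .leaf (18547, 0, 16, 118699) .leaf)) (18548, 0, 15, 131562) (.node (.node .leaf (18551, 0, 17, 241846) .leaf)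 (18553, 0, 14, 183621) (.node .leaf (18554, 0, 12, 258818) .leaf)))) (18557, 0, 15, 162402) (.node (.node (.node (.node .leaf (18558, 0, 14, 66308) .leaf) (18561, 0, 11, 59637) (.node .leaf (18562, 0, 18, 226714) .leaf)) (18565, 0, 9, 48091) (.node (.node .leaf (18566, 0, 17, 90517) .leaf) (18568, 0, 17, 142603) (.node .leaf (18571, 0, 17, 116264) .leaf))) (18572, 0, 16, 133225) (.node (.node (.node .leaf (18575, 0, 16, 244021) .leaf) (18576, 0, 17, 191262) (.node .leaf (18579, 0, 16, 245893) .leaf)) (18580, 0, 16, 149989) (.node (.node .leaf (18583, 0, 16, 75103) .leaf) (18585, 0, 15, 22700) (.node .leaf (18586, 0, 16, 66939) .leaf))))) (18589, 0, 18, 141233) (.node (.node (.node (.node (.node .leaf (18590, 0, 17, 235245) .leaf) (18593, 0, 15, 254720) (.node .leaf (18594, 0, 18, 152387) .leaf)) (18597, 0, 15, 116433) (.node (.node .leaf (18598, 0, 15, 158304) .leaf) (18600, 0, 15, 68222) (.node .leaf (18603, 0, 16, 47906) .leaf))) (18604, 0, 14, 73693) (.node (.node (.node .leaf (18607, 0,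 16, 44958) .leaf) (18608, 0, 16, 97075) (.node .leaf (18611, 0, 14, 52080) .leaf)) (18612, 0, 16, 82448) (.node (.node .leaf (18615, 0, 15, 22613) .leaf) (18617, 0, 17, 75174) (.node .leaf (18618, 0, 13, 134798) .leaf)))) (18621, 0, 17, 219835) (.node (.node (.node (.node .leaf (18622, 0, 18, 191463) .leaf) (18624, 0, 12, 50530) (.node .leaf (18627, 0, 15, 184918) .leaf)) (18628, 0, 16, 219958) (.node (.node .leaf (18631, 0, 16, 199459) .leaf) (18633, 0, 14, 108523) (.node .leaf (18634, 0, 17, 6056) .leaf))) (18637, 0, 16, 106184) (.node (.node (.node .leaf (18638, 0, 17, 112785) .leaf) (18641, 0, 18, 60090) (.node .leaf (18642, 0, 15, 89062) .leaf)) (18645, 0, 14, 115461) (.node (.node .leaf (18646, 0, 12, 206075) .leaf) (18648, 0, 15, 153864) (.node .leaf (18651, 0, 16, 167835) .leaf))))))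

/-- part of the orbit tree -/
def itp0_287 : Tree := (.node (.node (.node (.node (.node (.node .leaf (18655, 0, 13, 177848) .leaf) (18656, 0, 18, 27104) (.node .leaf (18659, 0, 16, 2356) .leaf)) (18660, 0, 14, 20675) (.node (.node .leaf (18663, 0, 16, 123008) .leaf) (18665, 0, 18, 175134) (.node .leaf (18666, 0, 18, 203869) .leaf))) (18669, 0, 16, 95431) (.node (.node (.node .leaf (18670, 0, 17, 206206) .leaf) (18673, 0, 17, 192979) (.node .leaf (18674, 0, 16, 9964) .leaf)) (18677, 0, 14, 182512) (.node (.node .leaf (18678, 0, 15, 227507) .leaf) (18680, 0, 15, 205826) (.node .leaf (18683, 0, 7, 99438) .leaf)))) (18684, 0, 17, 3342) (.node (.node (.node (.node .leaf (18687, 0, 17, 59971) .leaf) (18689, 0, 16, 122251) (.node .leaf (18690, 0, 13, 28104) .leaf)) (18693, 0, 15, 124072) (.node (.node .leaf (18694, 0, 16, 154893) .leaf) (18696, 0, 18, 205054) (.node .leaf (18699, 0, 15, 168354) .leaf))) (18700, 0, 18, 205142) (.node (.node (.node .leaf (18703, 0, 17, 61119) .leaf) (18704, 0, 17,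 113812) (.node .leaf (18707, 0, 12, 194043) .leaf)) (18708, 0, 17, 228507) (.node (.node .leaf (18711, 0, 18, 160469) .leaf) (18713, 0, 15, 200486) (.node .leaf (18714, 0, 17, 12293) .leaf))))) (18717, 0, 17, 112997) (.node (.node (.node (.node (.node .leaf (18718, 0, 18, 49511) .leaf) (18721, 0, 17, 60998) (.node .leaf (18722, 0, 14, 222781) .leaf)) (18725, 0, 16, 168283) (.node (.node .leaf (18726, 0, 15, 220958) .leaf) (18728, 0, 16, 4992) (.node .leaf (18731, 0, 13, 257192) .leaf))) (18732, 0, 15, 8937) (.node (.node (.node .leaf (18735, 0, 16, 105184) .leaf) (18736, 0, 15, 49566) (.node .leaf (18739, 0, 16, 130574) .leaf)) (18740, 0, 14, 179843) (.node (.node .leaf (18743, 0, 12, 116525) .leaf) (18745, 0, 16, 166835) (.node .leaf (18746, 0, 18, 246640) .leaf)))) (18749, 0, 18, 3377) (.node (.node (.node (.node .leaf (18750, 0, 17, 113773) .leaf) (18752, 0, 15, 234216) (.node .leaf (18755, 0, 12, 255784) .leaf)) (18756, 0, 17, 126453) (.node (.node .leaf (18759, 0, 15, 253451) .leaf) (18761,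 0, 17, 74074) (.node .leaf (18762, 0, 13, 74454) .leaf))) (18765, 0, 17, 43958) (.node (.node (.node .leaf (18766, 0, 17, 192283) .leaf) (18769, 0, 13, 53080) (.node .leaf (18770, 0, 17, 134252) .leaf)) (18773, 0, 18, 115245) (.node (.node .leaf (18774, 0, 15, 29553) .leaf) (18776, 0, 15, 69250) (.node .leaf (18779, 0, 18, 244453) .leaf))))))

/-- part of the orbit tree -/
def itp0_288 : Tree := (.node (.node (.node (.node (.node (.node .leaf (18783, 0, 16, 180419) .leaf) (18784, 0, 15, 192482) (.node .leaf (18787, 0, 17, 220862) .leaf)) (18788, 0, 14, 91581) (.node (.node .leaf (18791, 0, 15, 74147) .leaf) (18793, 0, 12, 23632) (.node .leaf (18794, 0, 16, 126220) .leaf))) (18797, 0, 12, 237635) (.node (.node (.node .leaf (18798, 0, 16, 135168) .leaf) (18801, 0, 18, 246957) (.node .leaf (18802, 0, 17, 161006) .leaf)) (18805, 0, 17, 48935) (.node (.node .leaf (18806, 0, 17, 69243) .leaf) (18808, 0, 16, 29576) (.node .leaf (18811, 0, 14, 115412) .leaf)))) (18812, 0, 16, 134293) (.node (.node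 (.node (.node .leaf (18815, 0, 16, 34867) .leaf) (18816, 0, 14, 240359) (.node .leaf (18819, 0, 15, 137892) .leaf)) (18820, 0, 12, 234436) (.node (.node .leaf (18823, 0, 17, 140167) .leaf) (18825, 0, 16, 93977) (.node .leaf (18826, 0, 16, 227557) .leaf))) (18829, 0, 16, 46756) (.node (.node (.node .leaf (18830, 0, 16, 67576) .leaf) (18833, 0, 15, 21971) (.node .leaf (18834, 0, 15, 124047) .leaf)) (18837, 0, 14, 68599) (.node (.node .leaf (18838, 0, 18, 48052) .leaf) (18840, 0, 14, 190049) (.node .leaf (18843, 0, 18, 149353) .leaf))))) (18844, 0, 17, 249353) (.node (.node (.node (.node (.node .leaf (18847, 0, 17, 75808) .leaf) (18848, 0, 16, 67329) (.node .leaf (18851, 0, 16, 46685) .leaf)) (18852, 0, 16, 38961) (.node (.node .leaf (18855, 0, 14, 75890) .leaf) (18857, 0, 17, 242867) (.node .leaf (18858, 0, 10, 132591) .leaf))) (18861, 0, 15, 117678) (.node (.node (.node .leaf (18862, 0, 15, 31474) .leaf) (18865, 0, 16, 145697) (.node .leaf (18866, 0, 14, 39301) .leaf)) (18869, 0, 13, 131074)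 (.node (.node .leaf (18870, 0, 15, 190104) .leaf) (18872, 0, 14, 64735) (.node .leaf (18875, 0, 13, 141879) .leaf)))) (18876, 0, 15, 50684) (.node (.node (.node (.node .leaf (18879, 0, 15, 95679) .leaf) (18881, 0, 16, 8199) (.node .leaf (18882, 0, 16, 102468) .leaf)) (18885, 0, 16, 1202) (.node (.node .leaf (18886, 0, 16, 108903) .leaf) (18888, 0, 16, 189945) (.node .leaf (18891, 0, 13, 96577) .leaf))) (18892, 0, 17, 187610) (.node (.node (.node .leaf (18895, 0, 14, 198236) .leaf) (18896, 0, 14, 178228) (.node .leaf (18899, 0, 16, 255275) .leaf)) (18900, 0, 15, 164119) (.node (.node .leaf (18903, 0, 18, 209236) .leaf) (18905, 0, 17, 59333) (.node .leaf (18906, 0, 16, 118153) .leaf))))))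

/-- part of the orbit tree -/
def itp0_289 : Tree := (.node itp0_285 (18525, 0, 16, 118610) itp0_286)

/-- part of the orbit tree -/
def itp0_290 : Tree := (.node itp0_287 (18780, 0, 15, 225695) itp0_288)

/-- part of the orbit tree -/
def itp0_291 : Tree := (.node (.node (.node (.node (.node (.node .leaf (18910, 0, 18, 207236) .leaf) (18913, 0, 17, 207858) (.node .leaf (18914, 0, 18, 170929) .leaf)) (18917, 0, 16, 201425) (.node (.node .leaf (18918, 0, 17, 51428) .leaf) (18920, 0, 15, 126476) (.node .leaf (18923, 0, 17, 24143) .leaf))) (18924, 0, 17, 120623) (.node (.node (.node .leaf (18927, 0, 17, 26476) .leaf) (18928, 0, 17, 207229) (.node .leaf (18931, 0, 15, 898) .leaf)) (18932, 0, 17, 87648) (.node (.node .leaf (18935, 0, 17, 59196) .leaf) (18937, 0, 16, 226879) (.node .leaf (18938, 0, 16, 181884) .leaf)))) (18941, 0, 12, 216860) (.node (.node (.node (.node .leaf (18942, 0, 18, 196447) .leaf) (18946, 0, 16, 254924) (.node .leaf (18947, 0, 16, 170481) .leaf)) (18950, 0, 14, 252655) (.node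 (.node .leaf (18951, 0, 19, 211593) .leaf) (18952, 0, 19, 38513) (.node .leaf (18953, 0, 12, 30231) .leaf))) (18956, 0, 16, 44882) (.node (.node (.node .leaf (18957, 0, 17, 254978) .leaf) (18960, 0, 14, 52156) (.node .leaf (18961, 0, 16, 198517) .leaf)) (18964, 0, 12, 205126) (.node (.node .leaf (18965, 0, 15, 4857) .leaf) (18970, 0, 15, 245249) (.node .leaf (18971, 0, 17, 1435) .leaf))))) (18974, 0, 18, 231202) (.node (.node (.node (.node (.node .leaf (18975, 0, 12, 162438) .leaf) (18978, 0, 16, 59449) (.node .leaf (18979, 0, 14, 255227) .leaf)) (18982, 0, 17, 246472) (.node (.node .leaf (18983, 0, 18, 105446) .leaf) (18984, 0, 17, 180027) (.node .leaf (18985, 0, 18, 58901) .leaf))) (18988, 0, 16, 238759) (.node (.node (.node .leaf (18989, 0, 17, 214209) .leaf) (18992, 0, 14, 245833) (.node .leaf (18993, 0, 16, 204847) .leaf)) (18996, 0, 15, 260458) (.node (.node .leaf (18997, 0, 15, 1378) .leaf) (19002, 0, 16, 46580) (.node .leaf (19003, 0, 15, 21906) .leaf)))) (19006, 0, 16, 36055) (.node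 (.node (.node (.node .leaf (19007, 0, 10, 27825) .leaf) (19008, 0, 17, 225319) (.node .leaf (19009, 0, 15, 76041) .leaf)) (19012, 0, 16, 69434) (.node (.node .leaf (19013, 0, 15, 218644) .leaf) (19018, 0, 15, 175314) (.node .leaf (19019, 0, 15, 150708) .leaf))) (19022, 0, 15, 134612) (.node (.node (.node .leaf (19023, 0, 13, 161175) .leaf) (19026, 0, 16, 192799) (.node .leaf (19027, 0, 18, 135545) .leaf)) (19030, 0, 16, 37310) (.node (.node .leaf (19031, 0, 8, 141402) .leaf) (19032, 0, 16, 126029) (.node .leaf (19033, 0, 13, 91332) .leaf))))))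

/-- part of the orbit tree -/
def itp0_292 : Tree := (.node (.node (.node (.node (.node (.node .leaf (19037, 0, 15, 89575) .leaf) (19040, 0, 16, 184986) (.node .leaf (19041, 0, 17, 21507) .leaf)) (19044, 0, 17, 191417) (.node (.node .leaf (19045, 0, 16, 134111) .leaf) (19050, 0, 15, 69571) (.node .leaf (19051, 0, 12, 83777) .leaf))) (19054, 0, 16, 225502) (.node (.node (.node .leaf (19055, 0, 15, 97890) .leaf) (19058, 0, 16, 129770) (.node .leaf (19059, 0, 17, 117383) .leaf)) (19062, 0, 16, 115657) (.node (.node .leaf (19063, 0, 12, 74671) .leaf) (19064, 0, 18, 37191) (.node .leaf (19065, 0, 14, 159537) .leaf)))) (19068, 0, 16, 192090) (.node (.node (.node (.node .leaf (19069, 0, 14, 153106) .leaf) (19072, 0, 17, 9443) (.node .leaf (19073, 0, 14, 50309) .leaf)) (19076, 0, 15, 190425) (.node (.node .leaf (19077, 0, 15, 64934) .leaf) (19082, 0, 15, 217438) (.node .leaf (19083, 0, 17, 241976) .leaf))) (19086, 0, 16, 223357) (.node (.node (.node .leaf (19087, 0, 17, 231451) .leaf) (19090, 0, 16,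 67136) (.node .leaf (19091, 0, 17, 257269) .leaf)) (19094, 0, 16, 227677) (.node (.node .leaf (19095, 0, 16, 73843) .leaf) (19096, 0, 17, 31022) (.node .leaf (19097, 0, 15, 23936) .leaf))))) (19100, 0, 18, 16397) (.node (.node (.node (.node (.node .leaf (19101, 0, 18, 41067) .leaf) (19104, 0, 13, 208662) (.node .leaf (19105, 0, 15, 244960) .leaf)) (19108, 0, 15, 236243) (.node (.node .leaf (19109, 0, 10, 259667) .leaf) (19114, 0, 17, 190240) (.node .leaf (19115, 0, 18, 47821) .leaf))) (19118, 0, 14, 25480) (.node (.node (.node .leaf (19119, 0, 16, 180499) .leaf) (19122, 0, 17, 31562) (.node .leaf (19123, 0, 17, 59136) .leaf)) (19126, 0, 16, 15941) (.node (.node .leaf (19127, 0, 15, 23929) .leaf) (19128, 0, 9, 226011) (.node .leaf (19129, 0, 17, 234173) .leaf)))) (19132, 0, 17, 67257) (.node (.node (.node (.node .leaf (19133, 0, 15, 221079) .leaf) (19138, 0, 15, 206908) (.node .leaf (19139, 0, 17, 94482) .leaf)) (19142, 0, 15, 141155) (.node (.node .leaf (19143, 0, 17, 200207) .leaf) (19144,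 0, 18, 10962) (.node .leaf (19145, 0, 15, 160764) .leaf))) (19148, 0, 17, 153039) (.node (.node (.node .leaf (19149, 0, 17, 3297) .leaf) (19152, 0, 13, 177848) (.node .leaf (19153, 0, 14, 61334) .leaf)) (19156, 0, 17, 69395) (.node (.node .leaf (19157, 0, 14, 168075) .leaf) (19162, 0, 14, 148365) (.node .leaf (19163, 0, 19, 257400) .leaf))))))

/-- part of the orbit tree -/
def itp0_293 : Tree := (.node (.node (.node (.node (.node (.node .leaf (19167, 0, 13, 170696) .leaf) (19170, 0, 16, 152886) (.node .leaf (19171, 0, 17, 3096) .leaf)) (19174, 0, 14, 76950) (.node (.node .leaf (19175, 0, 17, 118000) .leaf) (19176, 0, 18, 155656) (.node .leaf (19177, 0, 13, 163950) .leaf))) (19180, 0, 17, 153899) (.node (.node (.node .leaf (19181, 0, 15, 178509) .leaf) (19184, 0, 15, 146885) (.node .leaf (19185, 0, 14, 187811) .leaf)) (19188, 0, 18, 132326) (.node (.node .leaf (19189, 0, 16, 257409) .leaf) (19194, 0, 10, 84088) (.node .leaf (19195, 0, 15, 108574) .leaf)))) (19198, 0, 11, 94555) (.node (.node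 (.node (.node .leaf (19199, 0, 16, 102717) .leaf) (19200, 0, 17, 70045) (.node .leaf (19201, 0, 13, 127483) .leaf)) (19204, 0, 18, 110675) (.node (.node .leaf (19205, 0, 14, 256381) .leaf) (19210, 0, 14, 52640) (.node .leaf (19211, 0, 17, 164934) .leaf))) (19214, 0, 16, 154883) (.node (.node (.node .leaf (19215, 0, 14, 60307) .leaf) (19218, 0, 17, 152010) (.node .leaf (19219, 0, 17, 186763) .leaf)) (19222, 0, 16, 11991) (.node (.node .leaf (19223, 0, 18, 188584) .leaf) (19224, 0, 13, 86820) (.node .leaf (19225, 0, 17, 109622) .leaf))))) (19228, 0, 18, 207929) (.node (.node (.node (.node (.node .leaf (19229, 0, 16, 103701) .leaf) (19232, 0, 16, 137832) (.node .leaf (19233, 0, 12, 60266) .leaf)) (19236, 0, 15, 52569) (.node (.node .leaf (19237, 0, 16, 181037) .leaf) (19242, 0, 13, 110762) (.node .leaf (19243, 0, 15, 102323) .leaf))) (19246, 0, 12, 87798) (.node (.node (.node .leaf (19247, 0, 18, 112272) .leaf) (19250, 0, 14, 78360) (.node .leaf (19251, 0, 16, 119422) .leaf)) (19254, 0, 18, 68411)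 (.node (.node .leaf (19255, 0, 17, 125789) .leaf) (19256, 0, 18, 11822) (.node .leaf (19257, 0, 16, 161536) .leaf)))) (19260, 0, 18, 151859) (.node (.node (.node (.node .leaf (19261, 0, 17, 2077) .leaf) (19266, 0, 16, 32694) (.node .leaf (19267, 0, 19, 140952) .leaf)) (19270, 0, 17, 131243) (.node (.node .leaf (19271, 0, 13, 258683) .leaf) (19272, 0, 15, 228696) (.node .leaf (19273, 0, 13, 48869) .leaf))) (19276, 0, 18, 26528) (.node (.node (.node .leaf (19277, 0, 15, 34758) .leaf) (19280, 0, 16, 123186) (.node .leaf (19281, 0, 18, 243740) .leaf)) (19284, 0, 17, 14957) (.node (.node .leaf (19285, 0, 15, 116481) .leaf) (19290, 0, 18, 189404) (.node .leaf (19291, 0, 16, 47858) .leaf))))))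

/-- part of the orbit tree -/
def itp0_294 : Tree := (.node (.node (.node (.node (.node (.node .leaf (19295, 0, 15, 241590) .leaf) (19298, 0, 15, 66236) (.node .leaf (19299, 0, 18, 49325) .leaf)) (19302, 0, 15, 228769) (.node (.node .leaf (19303, 0, 16, 63886) .leaf) (19304, 0, 17, 131154) (.node .leaf (19305, 0, 17, 22908) .leaf))) (19308, 0, 16, 224341) (.node (.node (.node .leaf (19309, 0, 16, 232499) .leaf) (19312, 0, 16, 198843) (.node .leaf (19313, 0, 11, 256221) .leaf)) (19316, 0, 13, 209304) (.node (.node .leaf (19317, 0, 17, 47627) .leaf) (19322, 0, 10, 32006) (.node .leaf (19323, 0, 18, 40288) .leaf)))) (19326, 0, 17, 17445) (.node (.node (.node (.node .leaf (19327, 0, 16, 42051) .leaf) (19330, 0, 15, 235349) (.node .leaf (19331, 0, 16, 118395) .leaf)) (19334, 0, 14, 125000) (.node (.node .leaf (19335, 0, 17, 135159) .leaf) (19336, 0, 18, 38331) (.node .leaf (19337, 0, 17, 183445) .leaf))) (19340, 0, 15, 191142) (.node (.node (.node .leaf (19341, 0, 17, 96842) .leaf) (19344, 0, 13,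 130754) (.node .leaf (19345, 0, 14, 73380) .leaf)) (19348, 0, 15, 116705) (.node (.node .leaf (19349, 0, 15, 75655) .leaf) (19354, 0, 16, 68415) (.node .leaf (19355, 0, 18, 217617) .leaf))))) (19358, 0, 10, 176732) (.node (.node (.node (.node (.node .leaf (19359, 0, 15, 152122) .leaf) (19362, 0, 16, 122183) (.node .leaf (19363, 0, 17, 81185) .leaf)) (19366, 0, 16, 38210) (.node (.node .leaf (19367, 0, 16, 183404) .leaf) (19368, 0, 14, 174330) (.node .leaf (19369, 0, 16, 149660) .leaf))) (19372, 0, 18, 168409) (.node (.node (.node .leaf (19373, 0, 16, 160191) .leaf) (19376, 0, 17, 226523) (.node .leaf (19377, 0, 15, 77301) .leaf)) (19380, 0, 16, 68550) (.node (.node .leaf (19381, 0, 15, 142450) .leaf) (19386, 0, 17, 98442) (.node .leaf (19387, 0, 17, 90348) .leaf)))) (19390, 0, 15, 133416) (.node (.node (.node (.node .leaf (19391, 0, 15, 88527) .leaf) (19392, 0, 18, 10157) (.node .leaf (19393, 0, 17, 163459) .leaf)) (19396, 0, 16, 153776) (.node (.node .leaf (19397, 0, 16, 13652) .leaf) (19402,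 0, 16, 235948) (.node .leaf (19403, 0, 16, 227786) .leaf))) (19406, 0, 14, 88670) (.node (.node (.node .leaf (19407, 0, 17, 197488) .leaf) (19410, 0, 15, 246881) (.node .leaf (19411, 0, 16, 205831) .leaf)) (19414, 0, 15, 261442) (.node (.node .leaf (19415, 0, 14, 204068) .leaf) (19416, 0, 16, 45532) .leaf)))))

/-- part of the orbit tree -/
def itp0_295 : Tree := (.node itp0_291 (19036, 0, 17, 114049) itp0_292)

/-- part of the orbit tree -/
def itp0_296 : Tree := (.node itp0_293 (19294, 0, 14, 217040) itp0_294)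

/-- part of the orbit tree -/
def itp0_297 : Tree := (.node itp0_289 (18652, 0, 14, 9749) itp0_290)

/-- part of the orbit tree -/
def itp0_298 : Tree := (.node itp0_295 (19166, 0, 17, 162478) itp0_296)

/-- part of the orbit tree -/
def itp0_299 : Tree := (.node (.node (.node (.node (.node (.node .leaf (19420, 0, 15, 50394) .leaf) (19421, 0, 12, 26777) (.node .leaf (19424, 0, 17, 88743) .leaf)) (19425, 0, 15, 197513) (.node (.node .leaf (19428, 0, 15, 253639) .leaf) (19429, 0, 17, 212641) (.node .leaf (19434, 0, 15, 37465) .leaf))) (19435, 0, 18, 359) (.node (.node (.node .leaf (19438, 0, 17, 10068) .leaf) (19439, 0, 18, 163450) (.node .leaf (19442, 0, 13, 50211) .leaf)) (19443, 0, 15, 12274) (.node (.node .leaf (19446, 0, 14, 179006) .leaf) (19447, 0, 15, 5841) (.node .leaf (19448, 0, 11, 247501) .leaf)))) (19449, 0, 17, 106467) (.node (.node (.node (.node .leaf (19452, 0, 18, 113104) .leaf) (19453, 0, 16, 222060) (.node .leaf (19457, 0, 16, 222551) .leaf)) (19459, 0, 14, 102697) (.node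 (.node .leaf (19461, 0, 14, 220276) .leaf) (19463, 0, 17, 134225) (.node .leaf (19464, 0, 16, 51945) .leaf))) (19466, 0, 15, 205467) (.node (.node (.node .leaf (19468, 0, 16, 177652) .leaf) (19470, 0, 17, 89478) (.node .leaf (19472, 0, 11, 153219) .leaf)) (19474, 0, 16, 114417) (.node (.node .leaf (19476, 0, 16, 115783) .leaf) (19478, 0, 5, 246252) (.node .leaf (19481, 0, 17, 58673) .leaf))))) (19483, 0, 16, 200003) (.node (.node (.node (.node (.node .leaf (19485, 0, 15, 170540) .leaf) (19487, 0, 17, 94814) (.node .leaf (19489, 0, 15, 197713) .leaf)) (19491, 0, 11, 81543) (.node (.node .leaf (19493, 0, 14, 22401) .leaf) (19495, 0, 14, 67492) (.node .leaf (19496, 0, 16, 112611) .leaf))) (19498, 0, 18, 155537) (.node (.node (.node .leaf (19500, 0, 19, 168575) .leaf) (19502, 0, 13, 246362) (.node .leaf (19504, 0, 19, 194193) .leaf)) (19506, 0, 14, 50171) (.node (.node .leaf (19508, 0, 16, 184242) .leaf) (19510, 0, 15, 237463) (.node .leaf (19513, 0, 15, 104507) .leaf)))) (19515, 0, 17, 159817)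 (.node (.node (.node (.node .leaf (19517, 0, 16, 255782) .leaf) (19519, 0, 16, 3924) (.node .leaf (19520, 0, 17, 30975) .leaf)) (19522, 0, 15, 233613) (.node (.node .leaf (19524, 0, 13, 133090) .leaf) (19526, 0, 16, 126864) (.node .leaf (19529, 0, 14, 141897) .leaf))) (19531, 0, 16, 74559) (.node (.node (.node .leaf (19533, 0, 17, 46160) .leaf) (19535, 0, 16, 220194) (.node .leaf (19537, 0, 15, 22311) .leaf)) (19539, 0, 14, 245589) (.node (.node .leaf (19541, 0, 18, 151207) .leaf) (19543, 0, 16, 204418) (.node .leaf (19544, 0, 17, 45690) .leaf))))))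

/-- part of the orbit tree -/
def itp0_300 : Tree := (.node (.node (.node (.node (.node (.node .leaf (19548, 0, 16, 35673) .leaf) (19550, 0, 16, 121724) (.node .leaf (19552, 0, 11, 255042) .leaf)) (19554, 0, 17, 177255) (.node (.node .leaf (19556, 0, 15, 228072) .leaf) (19558, 0, 18, 167236) (.node .leaf (19561, 0, 15, 74172) .leaf))) (19563, 0, 16, 24117) (.node (.node (.node .leaf (19565, 0, 15, 117082) .leaf) (19567, 0, 14, 139560) (.node .leaf (19569, 0, 16, 76333) .leaf)) (19571, 0, 17, 180831) (.node (.node .leaf (19573, 0, 15, 83282) .leaf) (19575, 0, 16, 48450) (.node .leaf (19576, 0, 16, 244111) .leaf)))) (19578, 0, 12, 190890) (.node (.node (.node (.node .leaf (19580, 0, 15, 124546) .leaf) (19582, 0, 12, 134896) (.node .leaf (19584, 0, 17, 233500) .leaf)) (19586, 0, 17, 30830) (.node (.node .leaf (19588, 0, 15, 76568) .leaf) (19590, 0, 17, 132979) (.node .leaf (19593, 0, 14, 251845) .leaf))) (19595, 0, 14, 165856) (.node (.node (.node .leaf (19597, 0, 14, 257766) .leaf) (19599, 0,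 16, 46273) (.node .leaf (19601, 0, 15, 231944) .leaf)) (19603, 0, 19, 22454) (.node (.node .leaf (19605, 0, 17, 242475) .leaf) (19607, 0, 17, 189198) (.node .leaf (19608, 0, 16, 86006) .leaf))))) (19610, 0, 14, 8147) (.node (.node (.node (.node (.node .leaf (19612, 0, 12, 95957) .leaf) (19614, 0, 16, 39705) (.node .leaf (19616, 0, 15, 137678) .leaf)) (19618, 0, 14, 66916) (.node (.node .leaf (19620, 0, 16, 139501) .leaf) (19622, 0, 17, 225480) (.node .leaf (19625, 0, 15, 24228) .leaf))) (19627, 0, 16, 243414) (.node (.node (.node .leaf (19629, 0, 17, 139705) .leaf) (19631, 0, 11, 117195) (.node .leaf (19633, 0, 16, 33277) .leaf)) (19635, 0, 15, 76476) (.node (.node .leaf (19637, 0, 12, 47326) .leaf) (19639, 0, 15, 125179) (.node .leaf (19640, 0, 17, 148483) .leaf)))) (19642, 0, 18, 201766) (.node (.node (.node (.node .leaf (19644, 0, 18, 163104) .leaf) (19646, 0, 14, 208133) (.node .leaf (19649, 0, 14, 102840) .leaf)) (19651, 0, 18, 162250) (.node (.node .leaf (19653, 0, 15, 257701) .leaf)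 (19655, 0, 13, 258525) (.node .leaf (19656, 0, 14, 205322) .leaf))) (19658, 0, 16, 68864) (.node (.node (.node .leaf (19660, 0, 17, 25606) .leaf) (19662, 0, 17, 177509) (.node .leaf (19664, 0, 17, 232) .leaf)) (19666, 0, 14, 153106) (.node (.node .leaf (19668, 0, 17, 14795) .leaf) (19670, 0, 15, 92654) (.node .leaf (19673, 0, 16, 200146) .leaf))))))

/-- part of the orbit tree -/
def itp0_301 : Tree := (.node (.node (.node (.node (.node (.node .leaf (19677, 0, 14, 94927) .leaf) (19679, 0, 10, 170685) (.node .leaf (19681, 0, 16, 60594) .leaf)) (19683, 0, 16, 49931) (.node (.node .leaf (19685, 0, 14, 109069) .leaf) (19687, 0, 15, 97245) (.node .leaf (19688, 0, 15, 155392) .leaf))) (19690, 0, 16, 112498) (.node (.node (.node .leaf (19692, 0, 17, 225267) .leaf) (19694, 0, 14, 247919) (.node .leaf (19696, 0, 16, 199453) .leaf)) (19698, 0, 13, 154424) (.node (.node .leaf (19700, 0, 17, 209470) .leaf) (19702, 0, 13, 156187) (.node .leaf (19705, 0, 12, 118499) .leaf)))) (19707, 0, 14, 40646) (.node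 (.node (.node (.node .leaf (19709, 0, 16, 128960) .leaf) (19711, 0, 16, 42981) (.node .leaf (19712, 0, 17, 10053) .leaf)) (19714, 0, 16, 96096) (.node (.node .leaf (19716, 0, 15, 178315) .leaf) (19718, 0, 17, 85571) (.node .leaf (19721, 0, 15, 189115) .leaf))) (19723, 0, 17, 242334) (.node (.node (.node .leaf (19725, 0, 16, 187288) .leaf) (19727, 0, 14, 254795) (.node .leaf (19729, 0, 17, 180086) .leaf)) (19731, 0, 12, 257875) (.node (.node .leaf (19733, 0, 17, 169811) .leaf) (19735, 0, 19, 98081) (.node .leaf (19736, 0, 12, 154620) .leaf))))) (19738, 0, 17, 76461) (.node (.node (.node (.node (.node .leaf (19740, 0, 17, 9441) .leaf) (19742, 0, 17, 70542) (.node .leaf (19744, 0, 14, 113308) .leaf)) (19746, 0, 18, 162965) (.node (.node .leaf (19748, 0, 17, 202131) .leaf) (19750, 0, 14, 148918) (.node .leaf (19753, 0, 15, 125262) .leaf))) (19755, 0, 17, 47467) (.node (.node (.node .leaf (19757, 0, 15, 95795) .leaf) (19759, 0, 16, 32840) (.node .leaf (19761, 0, 15, 103748) .leaf)) (19763, 0, 16,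 58534) (.node (.node .leaf (19765, 0, 17, 256601) .leaf) (19767, 0, 15, 56709) (.node .leaf (19768, 0, 15, 225661) .leaf)))) (19770, 0, 17, 52868) (.node (.node (.node (.node .leaf (19772, 0, 15, 215134) .leaf) (19774, 0, 17, 137339) (.node .leaf (19777, 0, 17, 181810) .leaf)) (19779, 0, 16, 77376) (.node (.node .leaf (19781, 0, 18, 234630) .leaf) (19783, 0, 16, 181411) (.node .leaf (19784, 0, 16, 92251) .leaf))) (19786, 0, 16, 237042) (.node (.node (.node .leaf (19788, 0, 17, 133789) .leaf) (19790, 0, 14, 349) (.node .leaf (19792, 0, 16, 190954) .leaf)) (19794, 0, 16, 26035) (.node (.node .leaf (19796, 0, 12, 38647) .leaf) (19798, 0, 16, 23696) (.node .leaf (19801, 0, 10, 258152) .leaf))))))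

/-- part of the orbit tree -/
def itp0_302 : Tree := (.node (.node (.node (.node (.node (.node .leaf (19805, 0, 16, 140613) .leaf) (19807, 0, 18, 170350) (.node .leaf (19809, 0, 17, 42576) .leaf)) (19811, 0, 7, 21322) (.node (.node .leaf (19813, 0, 17, 115749) .leaf) (19815, 0, 14, 118614) (.node .leaf (19816, 0, 18, 67722) .leaf))) (19818, 0, 15, 209803) (.node (.node (.node .leaf (19820, 0, 15, 154253) .leaf) (19822, 0, 18, 40933) (.node .leaf (19824, 0, 13, 234720) .leaf)) (19826, 0, 15, 224838) (.node (.node .leaf (19828, 0, 16, 125949) .leaf) (19830, 0, 16, 131983) (.node .leaf (19833, 0, 17, 75602) .leaf)))) (19835, 0, 15, 109496) (.node (.node (.node (.node .leaf (19837, 0, 16, 219215) .leaf) (19839, 0, 16, 103067) (.node .leaf (19841, 0, 18, 151593) .leaf)) (19843, 0, 16, 181923) (.node (.node .leaf (19845, 0, 14, 217548) .leaf) (19847, 0, 16, 47550) (.node .leaf (19848, 0, 14, 38359) .leaf))) (19850, 0, 15, 29969) (.node (.node (.node .leaf (19852, 0, 15, 123518) .leaf) (19854, 0,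 14, 133644) (.node .leaf (19856, 0, 14, 51226) .leaf)) (19858, 0, 15, 104511) (.node (.node .leaf (19860, 0, 17, 61753) .leaf) (19862, 0, 16, 38502) (.node .leaf (19865, 0, 16, 242363) .leaf))))) (19867, 0, 19, 23241) (.node (.node (.node (.node (.node .leaf (19869, 0, 14, 144583) .leaf) (19871, 0, 14, 222434) (.node .leaf (19873, 0, 14, 21467) .leaf)) (19875, 0, 18, 244649) (.node (.node .leaf (19877, 0, 14, 90879) .leaf) (19879, 0, 16, 13018) (.node .leaf (19880, 0, 17, 237090) .leaf))) (19882, 0, 18, 183815) (.node (.node (.node .leaf (19884, 0, 17, 239361) .leaf) (19886, 0, 18, 227078) (.node .leaf (19888, 0, 17, 246767) .leaf)) (19890, 0, 17, 234609) (.node (.node .leaf (19892, 0, 16, 260812) .leaf) (19894, 0, 17, 125804) (.node .leaf (19897, 0, 18, 67089) .leaf)))) (19899, 0, 16, 75715) (.node (.node (.node (.node .leaf (19901, 0, 18, 45228) .leaf) (19903, 0, 15, 28439) (.node .leaf (19904, 0, 12, 208757) .leaf)) (19906, 0, 16, 50951) (.node (.node .leaf (19908, 0, 17, 86120) .leaf) (19910,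 0, 17, 46031) (.node .leaf (19913, 0, 16, 204599) .leaf))) (19915, 0, 18, 151314) (.node (.node (.node .leaf (19917, 0, 17, 206356) .leaf) (19919, 0, 17, 2984) (.node .leaf (19921, 0, 14, 213754) .leaf)) (19923, 0, 16, 59615) (.node (.node .leaf (19925, 0, 18, 98224) .leaf) (19927, 0, 17, 169922) (.node .leaf (19928, 0, 18, 111391) .leaf))))))

/-- part of the orbit tree -/
def itp0_303 : Tree := (.node itp0_299 (19546, 0, 14, 68839) itp0_300)

/-- part of the orbit tree -/
def itp0_304 : Tree := (.node itp0_301 (19803, 0, 16, 172109) itp0_302)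

/-- part of the orbit tree -/
def itp0_305 : Tree := (.node (.node (.node (.node (.node (.node .leaf (19932, 0, 17, 114215) .leaf) (19934, 0, 17, 60930) (.node .leaf (19936, 0, 17, 184636) .leaf)) (19938, 0, 17, 113165) (.node (.node .leaf (19940, 0, 16, 11618) .leaf) (19942, 0, 13, 243770) (.node .leaf (19945, 0, 16, 5314) .leaf))) (19947, 0, 14, 83175) (.node (.node (.node .leaf (19949, 0, 16, 11745) .leaf) (19951, 0, 15, 95906) (.node .leaf (19953, 0, 18, 163239) .leaf)) (19955, 0, 15, 71978) (.node (.node .leaf (19957, 0, 17, 698) .leaf) (19959, 0, 18, 256712) (.node .leaf (19960, 0, 17, 52757) .leaf)))) (19962, 0, 13, 253140) (.node (.node (.node (.node .leaf (19964, 0, 16, 177618) .leaf) (19966, 0, 16, 255479) (.node .leaf (19968, 0, 14, 239937) .leaf)) (19969, 0, 18, 215335) (.node (.node .leaf (19970, 0, 16, 194916) .leaf) (19971, 0, 15, 137474) (.node .leaf (19972, 0, 16, 154180) .leaf))) (19973, 0, 18, 225284) (.node (.node (.node .leaf (19974, 0, 12, 180295) .leaf) (19975, 0, 16,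 256792) (.node .leaf (19992, 0, 16, 178483) .leaf)) (19993, 0, 15, 57373) (.node (.node .leaf (19994, 0, 12, 86337) .leaf) (19995, 0, 17, 198767) (.node .leaf (19996, 0, 17, 50734) .leaf))))) (19997, 0, 17, 171776) (.node (.node (.node (.node (.node .leaf (19998, 0, 15, 171402) .leaf) (19999, 0, 17, 163308) (.node .leaf (20000, 0, 17, 41652) .leaf)) (20001, 0, 16, 196989) (.node (.node .leaf (20002, 0, 17, 127633) .leaf) (20003, 0, 18, 70391) (.node .leaf (20004, 0, 18, 39831) .leaf))) (20005, 0, 17, 31729) (.node (.node (.node .leaf (20006, 0, 11, 53052) .leaf) (20007, 0, 14, 76756) (.node .leaf (20024, 0, 13, 246841) .leaf)) (20025, 0, 17, 7967) (.node (.node .leaf (20026, 0, 19, 110428) .leaf) (20027, 0, 12, 161125) (.node .leaf (20028, 0, 14, 50778) .leaf)))) (20029, 0, 17, 9788) (.node (.node (.node (.node .leaf (20030, 0, 14, 152406) .leaf) (20031, 0, 17, 2680) (.node .leaf (20040, 0, 16, 38735) .leaf)) (20041, 0, 17, 132665) (.node (.node .leaf (20042, 0, 14, 243322) .leaf) (20043, 0,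 17, 75283) (.node .leaf (20044, 0, 18, 190546) .leaf))) (20045, 0, 15, 147226) (.node (.node (.node .leaf (20046, 0, 14, 65568) .leaf) (20047, 0, 17, 225087) (.node .leaf (20048, 0, 16, 133925) .leaf)) (20049, 0, 16, 154612) (.node (.node .leaf (20050, 0, 13, 256951) .leaf) (20051, 0, 18, 244345) (.node .leaf (20052, 0, 16, 164529) .leaf))))))

/-- part of the orbit tree -/
def itp0_306 : Tree := (.node (.node (.node (.node (.node (.node .leaf (20054, 0, 12, 236618) .leaf) (20055, 0, 14, 116068) (.node .leaf (20072, 0, 18, 125509) .leaf)) (20073, 0, 16, 69068) (.node (.node .leaf (20074, 0, 15, 48527) .leaf) (20075, 0, 15, 24041) (.node .leaf (20076, 0, 15, 119945) .leaf))) (20077, 0, 16, 79087) (.node (.node (.node .leaf (20078, 0, 17, 32042) .leaf) (20079, 0, 15, 25802) (.node .leaf (20080, 0, 18, 226863) .leaf)) (20081, 0, 19, 77569) (.node (.node .leaf (20082, 0, 15, 57410) .leaf) (20083, 0, 15, 182131) (.node .leaf (20084, 0, 16, 67890) .leaf)))) (20085, 0, 16, 92450) (.node (.node (.node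 (.node .leaf (20086, 0, 14, 55649) .leaf) (20087, 0, 15, 47214) (.node .leaf (20104, 0, 14, 203731) .leaf)) (20105, 0, 14, 75394) (.node (.node .leaf (20106, 0, 13, 150518) .leaf) (20107, 0, 15, 174992) (.node .leaf (20108, 0, 17, 205552) .leaf))) (20109, 0, 15, 219551) (.node (.node (.node .leaf (20110, 0, 18, 160469) .leaf) (20111, 0, 15, 168627) (.node .leaf (20112, 0, 17, 123846) .leaf)) (20113, 0, 17, 239224) (.node (.node .leaf (20114, 0, 16, 134068) .leaf) (20115, 0, 17, 194141) (.node .leaf (20116, 0, 16, 236763) .leaf))))) (20117, 0, 17, 237403) (.node (.node (.node (.node (.node .leaf (20118, 0, 15, 29865) .leaf) (20119, 0, 14, 184190) (.node .leaf (20136, 0, 15, 4134) .leaf)) (20137, 0, 15, 61504) (.node (.node .leaf (20138, 0, 19, 81923) .leaf) (20139, 0, 14, 242682) (.node .leaf (20140, 0, 16, 32187) .leaf))) (20141, 0, 14, 140437) (.node (.node (.node .leaf (20142, 0, 16, 96544) .leaf) (20143, 0, 12, 104774) (.node .leaf (20144, 0, 15, 19947) .leaf)) (20145, 0, 16, 182242) (.node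 (.node .leaf (20146, 0, 12, 227006) .leaf) (20147, 0, 18, 77712) (.node .leaf (20148, 0, 16, 29896) .leaf)))) (20149, 0, 16, 38062) (.node (.node (.node (.node .leaf (20150, 0, 18, 74989) .leaf) (20151, 0, 13, 217229) (.node .leaf (20160, 0, 17, 152781) .leaf)) (20161, 0, 15, 103572) (.node (.node .leaf (20162, 0, 17, 197864) .leaf) (20163, 0, 13, 255118) (.node .leaf (20164, 0, 18, 159214) .leaf))) (20165, 0, 14, 167304) (.node (.node (.node .leaf (20166, 0, 15, 154325) .leaf) (20167, 0, 18, 253357) (.node .leaf (20184, 0, 17, 133376) .leaf)) (20185, 0, 15, 198910) (.node (.node .leaf (20186, 0, 14, 219429) .leaf) (20187, 0, 17, 57484) (.node .leaf (20188, 0, 16, 208589) .leaf))))))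

/-- part of the orbit tree -/
def itp0_307 : Tree := (.node (.node (.node (.node (.node (.node .leaf (20190, 0, 16, 221190) .leaf) (20191, 0, 15, 171921) (.node .leaf (20192, 0, 17, 89912) .leaf)) (20193, 0, 16, 59806) (.node (.node .leaf (20194, 0, 16, 88258) .leaf) (20195, 0, 17, 197100) (.node .leaf (20196, 0, 13, 53165) .leaf))) (20197, 0, 15, 169603) (.node (.node (.node .leaf (20198, 0, 13, 206815) .leaf) (20199, 0, 13, 98033) (.node .leaf (20216, 0, 17, 11482) .leaf)) (20217, 0, 17, 161268) (.node (.node .leaf (20218, 0, 16, 21200) .leaf) (20219, 0, 17, 45750) (.node .leaf (20220, 0, 18, 152519) .leaf)))) (20221, 0, 17, 121776) (.node (.node (.node (.node .leaf (20222, 0, 14, 113589) .leaf) (20223, 0, 14, 254619) (.node .leaf (20232, 0, 11, 143021) .leaf)) (20233, 0, 16, 160008) (.node (.node .leaf (20234, 0, 16, 245844) .leaf) (20235, 0, 16, 104826) (.node .leaf (20236, 0, 17, 137102) .leaf))) (20237, 0, 14, 194536) (.node (.node (.node .leaf (20238, 0, 16, 114505) .leaf) (20239, 0,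 17, 239565) (.node .leaf (20240, 0, 14, 160608) .leaf)) (20241, 0, 16, 60770) (.node (.node .leaf (20242, 0, 13, 205637) .leaf) (20243, 0, 17, 246563) (.node .leaf (20244, 0, 15, 150083) .leaf))))) (20245, 0, 19, 168575) (.node (.node (.node (.node (.node .leaf (20246, 0, 16, 203366) .leaf) (20247, 0, 15, 260608) (.node .leaf (20264, 0, 16, 75096) .leaf)) (20265, 0, 17, 116030) (.node (.node .leaf (20266, 0, 17, 30077) .leaf) (20267, 0, 16, 58480) (.node .leaf (20268, 0, 15, 72827) .leaf))) (20269, 0, 15, 95007) (.node (.node (.node .leaf (20270, 0, 17, 19550) .leaf) (20271, 0, 13, 44088) (.node .leaf (20272, 0, 11, 248134) .leaf)) (20273, 0, 15, 102504) (.node (.node .leaf (20274, 0, 17, 8500) .leaf) (20275, 0, 13, 161818) (.node .leaf (20276, 0, 19, 112219) .leaf)))) (20277, 0, 12, 106960) (.node (.node (.node (.node .leaf (20278, 0, 14, 4499) .leaf) (20279, 0, 17, 1799) (.node .leaf (20288, 0, 13, 39472) .leaf)) (20289, 0, 12, 229845) (.node (.node .leaf (20290, 0, 14, 143766) .leaf) (20291,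 0, 18, 76652) (.node .leaf (20292, 0, 13, 189741) .leaf))) (20293, 0, 15, 48131) (.node (.node (.node .leaf (20294, 0, 14, 68959) .leaf) (20295, 0, 16, 218225) (.node .leaf (20312, 0, 15, 132698) .leaf)) (20313, 0, 13, 24436) (.node (.node .leaf (20314, 0, 13, 158811) .leaf) (20315, 0, 14, 166973) (.node .leaf (20316, 0, 18, 197981) .leaf))))))

/-- part of the orbit tree -/
def itp0_308 : Tree := (.node (.node (.node (.node (.node (.node .leaf (20318, 0, 15, 152952) .leaf) (20319, 0, 15, 116763) (.node .leaf (20320, 0, 10, 124730) .leaf)) (20321, 0, 16, 35360) (.node (.node .leaf (20322, 0, 14, 134984) .leaf) (20323, 0, 18, 22118) (.node .leaf (20324, 0, 17, 21349) .leaf))) (20325, 0, 16, 114953) (.node (.node (.node .leaf (20326, 0, 16, 66368) .leaf) (20327, 0, 15, 141691) (.node .leaf (20344, 0, 15, 14219) .leaf)) (20345, 0, 11, 55277) (.node (.node .leaf (20346, 0, 15, 92078) .leaf) (20347, 0, 17, 100296) (.node .leaf (20348, 0, 16, 66637) .leaf)))) (20349, 0, 15, 220515) (.node (.node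 (.node (.node .leaf (20350, 0, 16, 89741) .leaf) (20351, 0, 16, 114411) (.node .leaf (20352, 0, 15, 171071) .leaf)) (20353, 0, 17, 162905) (.node (.node .leaf (20354, 0, 16, 39585) .leaf) (20355, 0, 17, 181135) (.node .leaf (20356, 0, 17, 173340) .leaf))) (20357, 0, 18, 148858) (.node (.node (.node .leaf (20358, 0, 18, 189884) .leaf) (20359, 0, 16, 202079) (.node .leaf (20376, 0, 15, 180722) .leaf)) (20377, 0, 16, 243607) (.node (.node .leaf (20378, 0, 18, 233943) .leaf) (20379, 0, 17, 24549) (.node .leaf (20380, 0, 17, 194769) .leaf))))) (20381, 0, 16, 137399) (.node (.node (.node (.node (.node .leaf (20382, 0, 17, 31190) .leaf) (20383, 0, 16, 215186) (.node .leaf (20384, 0, 17, 135129) .leaf)) (20385, 0, 15, 96172) (.node (.node .leaf (20386, 0, 18, 124843) .leaf) (20387, 0, 13, 10121) (.node .leaf (20388, 0, 16, 28868) .leaf))) (20389, 0, 16, 141802) (.node (.node (.node .leaf (20390, 0, 13, 235702) .leaf) (20391, 0, 19, 115096) (.node .leaf (20408, 0, 13, 117255) .leaf)) (20409, 0, 16,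 182941) (.node (.node .leaf (20410, 0, 17, 39458) .leaf) (20411, 0, 14, 74479) (.node .leaf (20412, 0, 18, 191662) .leaf)))) (20413, 0, 16, 46464) (.node (.node (.node (.node .leaf (20414, 0, 16, 41729) .leaf) (20415, 0, 17, 220658) (.node .leaf (20424, 0, 16, 250657) .leaf)) (20425, 0, 17, 209735) (.node (.node .leaf (20426, 0, 18, 10423) .leaf) (20427, 0, 17, 156514) (.node .leaf (20428, 0, 17, 256514) .leaf))) (20429, 0, 15, 199268) (.node (.node (.node .leaf (20430, 0, 15, 153514) .leaf) (20431, 0, 17, 154177) (.node .leaf (20432, 0, 17, 233196) .leaf)) (20433, 0, 15, 224906) (.node (.node .leaf (20434, 0, 17, 177373) .leaf) (20435, 0, 17, 60915) .leaf)))))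

/-- part of the orbit tree -/
def itp0_309 : Tree := (.node itp0_305 (20053, 0, 13, 142614) itp0_306)

/-- part of the orbit tree -/
def itp0_310 : Tree := (.node itp0_307 (20317, 0, 14, 255291) itp0_308)

/-- part of the orbit tree -/
def itp0_311 : Tree := (.node itp0_303 (19675, 0, 17, 58784) itp0_304)

/-- part of the orbit tree -/
def itp0_312 : Tree := (.node itp0_309 (20189, 0, 18, 184389) itp0_310)

/-- part of the orbit tree -/
def itp0_313 : Tree := (.node itp0_297 (18909, 0, 18, 17641) itp0_298)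

/-- part of the orbit tree -/
def itp0_314 : Tree := (.node itp0_311 (19930, 0, 18, 55073) itp0_312)

/-- part of the orbit tree -/
def itp0_315 : Tree := (.node itp0_283 (17373, 0, 14, 186571) itp0_284)

/-- part of the orbit tree -/
def itp0_316 : Tree := (.node itp0_313 (19417, 0, 16, 58089) itp0_314)

/-- part of the orbit tree -/
def itp0_317 : Tree := (.node (.node (.node (.node (.node (.node .leaf (20437, 0, 15, 96924) .leaf) (20438, 0, 14, 190442) (.node .leaf (20439, 0, 15, 133004) .leaf)) (20456, 0, 14, 55508) (.node (.node .leaf (20457, 0, 15, 14514) .leaf) (20458, 0, 17, 87485) (.node .leaf (20459, 0, 17, 199827) .leaf))) (20460, 0, 19, 49874) (.node (.node (.node .leaf (20461, 0, 15, 171004) .leaf) (20462, 0, 16, 111058) (.node .leaf (20463, 0, 17, 95118) .leaf)) (20464, 0, 19, 34073) (.node (.node .leaf (20465, 0, 15, 25983) .leaf) (20466, 0, 16, 120124) (.node .leaf (20467, 0, 18, 102649) .leaf)))) (20468, 0, 17, 155320) (.node (.node (.node (.node .leaf (20469, 0, 14, 1942)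 .leaf) (20470, 0, 16, 112330) (.node .leaf (20471, 0, 18, 258020) .leaf)) (20480, 0, 17, 128151) (.node (.node .leaf (20483, 0, 16, 17620) .leaf) (20485, 0, 12, 171256) (.node .leaf (20486, 0, 17, 40337) .leaf))) (20488, 0, 16, 151639) (.node (.node (.node .leaf (20491, 0, 14, 155980) .leaf) (20493, 0, 15, 161380) (.node .leaf (20494, 0, 17, 178185) .leaf)) (20497, 0, 17, 224420) (.node (.node .leaf (20498, 0, 14, 205903) .leaf) (20500, 0, 17, 243169) (.node .leaf (20503, 0, 14, 132514) .leaf))))) (20505, 0, 17, 163727) (.node (.node (.node (.node (.node .leaf (20506, 0, 17, 249555) .leaf) (20508, 0, 17, 154044) (.node .leaf (20511, 0, 12, 8250) .leaf)) (20512, 0, 17, 247745) (.node (.node .leaf (20515, 0, 17, 216865) .leaf) (20517, 0, 16, 254450) (.node .leaf (20518, 0, 13, 235108) .leaf))) (20520, 0, 15, 208221) (.node (.node (.node .leaf (20523, 0, 17, 92857) .leaf) (20525, 0, 14, 959) (.node .leaf (20526, 0, 15, 111612) .leaf)) (20529, 0, 18, 256025) (.node (.node .leaf (20530, 0, 17, 153925)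 .leaf) (20532, 0, 13, 48660) (.node .leaf (20535, 0, 12, 163702) .leaf)))) (20537, 0, 18, 197253) (.node (.node (.node (.node .leaf (20538, 0, 18, 177113) .leaf) (20540, 0, 17, 170892) (.node .leaf (20543, 0, 17, 207823) .leaf)) (20545, 0, 14, 163447) (.node (.node .leaf (20546, 0, 15, 249396) .leaf) (20548, 0, 17, 40284) (.node .leaf (20551, 0, 13, 76800) .leaf))) (20553, 0, 17, 20979) (.node (.node (.node .leaf (20554, 0, 16, 125868) .leaf) (20556, 0, 17, 30656) (.node .leaf (20559, 0, 16, 116380) .leaf)) (20560, 0, 13, 58948) (.node (.node .leaf (20563, 0, 13, 75243) .leaf) (20565, 0, 17, 45700) (.node .leaf (20566, 0, 18, 66520) .leaf))))))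

/-- part of the orbit tree -/
def itp0_318 : Tree := (.node (.node (.node (.node (.node (.node .leaf (20571, 0, 15, 118647) .leaf) (20573, 0, 17, 22552) (.node .leaf (20574, 0, 17, 240346) .leaf)) (20577, 0, 13, 95618) (.node (.node .leaf (20578, 0, 14, 30521) .leaf) (20580, 0, 13, 109767) (.node .leaf (20583, 0, 15, 7300) .leaf))) (20585, 0, 15, 217114) (.node (.node (.node .leaf (20586, 0, 13, 40357) .leaf) (20588, 0, 18, 68298) (.node .leaf (20591, 0, 16, 145692) .leaf)) (20592, 0, 16, 125373) (.node (.node .leaf (20595, 0, 16, 155122) .leaf) (20597, 0, 16, 118670) (.node .leaf (20598, 0, 12, 32466) .leaf)))) (20600, 0, 14, 116777) (.node (.node (.node (.node .leaf (20603, 0, 13, 30826) .leaf) (20605, 0, 9, 69996) (.node .leaf (20606, 0, 14, 41263) .leaf)) (20609, 0, 18, 217996) (.node (.node .leaf (20610, 0, 14, 189136) .leaf) (20612, 0, 17, 219838) (.node .leaf (20615, 0, 18, 181475) .leaf))) (20617, 0, 14, 243984) (.node (.node (.node .leaf (20618, 0, 18, 5664) .leaf) (20620, 0, 17,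 237347) (.node .leaf (20623, 0, 18, 142975) .leaf)) (20624, 0, 17, 72648) (.node (.node .leaf (20627, 0, 17, 183560) .leaf) (20629, 0, 15, 115341) (.node .leaf (20630, 0, 15, 29390) .leaf))))) (20632, 0, 10, 212560) (.node (.node (.node (.node (.node .leaf (20635, 0, 17, 167443) .leaf) (20637, 0, 16, 241915) (.node .leaf (20638, 0, 17, 131495) .leaf)) (20641, 0, 16, 34830) (.node (.node .leaf (20642, 0, 17, 237530) .leaf) (20644, 0, 16, 133301) (.node .leaf (20647, 0, 14, 244201) .leaf))) (20649, 0, 17, 175510) (.node (.node (.node .leaf (20650, 0, 17, 204245) .leaf) (20652, 0, 17, 160979) (.node .leaf (20655, 0, 15, 246928) .leaf)) (20656, 0, 14, 135229) (.node (.node .leaf (20659, 0, 15, 241666) .leaf) (20661, 0, 17, 182648) (.node .leaf (20662, 0, 17, 235057) .leaf)))) (20664, 0, 13, 191426) (.node (.node (.node (.node .leaf (20667, 0, 17, 219806) .leaf) (20669, 0, 14, 183793) (.node .leaf (20670, 0, 18, 228525) .leaf)) (20672, 0, 14, 2331) (.node (.node .leaf (20675, 0, 13, 58228) .leaf)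 (20677, 0, 18, 95259) (.node .leaf (20678, 0, 17, 50503) .leaf))) (20680, 0, 14, 112820) (.node (.node (.node .leaf (20683, 0, 15, 2536) .leaf) (20685, 0, 13, 193990) (.node .leaf (20686, 0, 15, 12251) .leaf)) (20689, 0, 18, 168232) (.node (.node .leaf (20690, 0, 16, 205163) .leaf) (20692, 0, 17, 89027) (.node .leaf (20695, 0, 16, 60063) .leaf))))))

/-- part of the orbit tree -/
def itp0_319 : Tree := (.node (.node (.node (.node (.node (.node .leaf (20698, 0, 16, 9776) .leaf) (20700, 0, 15, 28149) (.node .leaf (20703, 0, 1, 3) .leaf)) (20704, 0, 15, 12066) (.node (.node .leaf (20707, 0, 16, 106110) .leaf) (20709, 0, 15, 2321) (.node .leaf (20710, 0, 18, 112717) .leaf))) (20712, 0, 17, 75638) (.node (.node (.node .leaf (20715, 0, 16, 38709) .leaf) (20717, 0, 16, 58253) (.node .leaf (20718, 0, 16, 86737) .leaf)) (20721, 0, 18, 250) (.node (.node .leaf (20722, 0, 15, 10910) .leaf) (20724, 0, 15, 82840) (.node .leaf (20727, 0, 17, 62427) .leaf)))) (20729, 0, 16, 60006) (.node (.node (.node (.node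 .leaf (20730, 0, 16, 88890) .leaf) (20732, 0, 16, 52309) (.node .leaf (20735, 0, 15, 97545) .leaf)) (20737, 0, 19, 177797) (.node (.node .leaf (20738, 0, 14, 111962) .leaf) (20740, 0, 18, 8757) (.node .leaf (20743, 0, 16, 253827) .leaf))) (20745, 0, 17, 37661) (.node (.node (.node .leaf (20746, 0, 16, 74590) .leaf) (20748, 0, 16, 51369) (.node .leaf (20751, 0, 15, 129563) .leaf)) (20752, 0, 17, 11230) (.node (.node .leaf (20755, 0, 18, 106229) .leaf) (20757, 0, 16, 63475) (.node .leaf (20758, 0, 17, 113841) .leaf))))) (20760, 0, 15, 49474) (.node (.node (.node (.node (.node .leaf (20763, 0, 16, 244589) .leaf) (20765, 0, 14, 184939) (.node .leaf (20766, 0, 14, 221736) .leaf)) (20769, 0, 17, 114032) (.node (.node .leaf (20770, 0, 17, 51280) .leaf) (20772, 0, 17, 89919) (.node .leaf (20775, 0, 15, 54390) .leaf))) (20777, 0, 11, 103312) (.node (.node (.node .leaf (20778, 0, 17, 141483) .leaf) (20780, 0, 15, 213421) (.node .leaf (20783, 0, 16, 1279) .leaf)) (20784, 0, 16, 206147) (.node (.node .leaf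 (20787, 0, 15, 169216) .leaf) (20789, 0, 17, 94439) (.node .leaf (20790, 0, 17, 49595) .leaf)))) (20792, 0, 17, 65755) (.node (.node (.node (.node .leaf (20795, 0, 18, 3348) .leaf) (20797, 0, 17, 121246) (.node .leaf (20798, 0, 18, 11047) .leaf)) (20800, 0, 14, 132514) (.node (.node .leaf (20803, 0, 16, 242942) .leaf) (20805, 0, 18, 124192) (.node .leaf (20806, 0, 9, 234189) .leaf))) (20808, 0, 13, 192318) (.node (.node (.node .leaf (20811, 0, 16, 174526) .leaf) (20813, 0, 15, 182541) (.node .leaf (20814, 0, 16, 159995) .leaf)) (20817, 0, 15, 141946) (.node (.node .leaf (20818, 0, 16, 236326) .leaf) (20820, 0, 13, 228627) (.node .leaf (20823, 0, 15, 183632) .leaf))))))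

/-- part of the orbit tree -/
def itp0_320 : Tree := (.node (.node (.node (.node (.node (.node .leaf (20826, 0, 16, 12685) .leaf) (20828, 0, 18, 88203) (.node .leaf (20831, 0, 17, 59592) .leaf)) (20832, 0, 14, 145296) (.node (.node .leaf (20835, 0, 16, 231379) .leaf) (20837, 0, 15, 220827) (.node .leaf (20838, 0, 10, 220822) .leaf))) (20840, 0, 18, 234036) (.node (.node (.node .leaf (20843, 0, 15, 140136) .leaf) (20845, 0, 18, 242695) (.node .leaf (20846, 0, 15, 97038) .leaf)) (20849, 0, 8, 44963) (.node (.node .leaf (20850, 0, 16, 189996) .leaf) (20852, 0, 16, 30438) (.node .leaf (20855, 0, 17, 116389) .leaf)))) (20857, 0, 13, 245228) (.node (.node (.node (.node .leaf (20858, 0, 17, 211576) .leaf) (20860, 0, 17, 152446) (.node .leaf (20863, 0, 15, 254781) .leaf)) (20864, 0, 15, 126273) (.node (.node .leaf (20867, 0, 17, 23581) .leaf) (20869, 0, 17, 6316) (.node .leaf (20870, 0, 16, 108783) .leaf))) (20872, 0, 13, 67549) (.node (.node (.node .leaf (20875, 0, 13, 46721) .leaf) (20877, 0, 16,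 74222) (.node .leaf (20878, 0, 11, 232823) .leaf)) (20881, 0, 17, 154074) (.node (.node .leaf (20882, 0, 16, 29637) .leaf) (20884, 0, 17, 124074) (.node .leaf (20887, 0, 17, 22006) .leaf))))) (20889, 0, 18, 31810) (.node (.node (.node (.node (.node .leaf (20890, 0, 15, 39257) .leaf) (20892, 0, 12, 42247) (.node .leaf (20895, 0, 17, 49002) .leaf)) (20896, 0, 18, 248348) (.node (.node .leaf (20899, 0, 16, 162399) .leaf) (20901, 0, 18, 46712) (.node .leaf (20902, 0, 13, 172826) .leaf))) (20904, 0, 16, 31447) (.node (.node (.node .leaf (20907, 0, 15, 24519) .leaf) (20909, 0, 16, 23780) (.node .leaf (20910, 0, 17, 34434) .leaf)) (20913, 0, 16, 49043) (.node (.node .leaf (20914, 0, 13, 69327) .leaf) (20916, 0, 16, 101226) (.node .leaf (20919, 0, 16, 76028) .leaf)))) (20921, 0, 17, 227255) (.node (.node (.node (.node .leaf (20922, 0, 17, 123987) .leaf) (20924, 0, 16, 241394) (.node .leaf (20927, 0, 16, 138929) .leaf)) (20929, 0, 16, 215817) (.node (.node .leaf (20930, 0, 13, 155065) .leaf) (20932,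 0, 18, 234060) (.node .leaf (20935, 0, 16, 139791) .leaf))) (20937, 0, 17, 198265) (.node (.node (.node .leaf (20938, 0, 13, 177957) .leaf) (20940, 0, 18, 112596) (.node .leaf (20943, 0, 17, 168214) .leaf)) (20944, 0, 16, 246589) (.node (.node .leaf (20947, 0, 16, 160353) .leaf) (20949, 0, 16, 255246) (.node .leaf (20950, 0, 17, 47676) .leaf))))))

/-- part of the orbit tree -/
def itp0_321 : Tree := (.node itp0_317 (20568, 0, 16, 32299) itp0_318)

/-- part of the orbit tree -/
def itp0_322 : Tree := (.node itp0_319 (20825, 0, 15, 98766) itp0_320)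

/-- part of the orbit tree -/
def itp0_323 : Tree := (.node (.node (.node (.node (.node (.node .leaf (20955, 0, 15, 170237) .leaf) (20957, 0, 17, 208871) (.node .leaf (20958, 0, 17, 179918) .leaf)) (20961, 0, 16, 168431) (.node (.node .leaf (20962, 0, 17, 127167) .leaf) (20964, 0, 17, 178140) (.node .leaf (20967, 0, 18, 198272) .leaf))) (20969, 0, 16, 157028) (.node (.node (.node .leaf (20970, 0, 13, 248367) .leaf) (20972, 0, 16, 154944) (.node .leaf (20975, 0, 14, 199778) .leaf)) (20976, 0, 12, 179767) (.node (.node .leaf (20979, 0, 16, 200555) .leaf) (20981, 0, 17, 169988) (.node .leaf (20982, 0, 12, 242121) .leaf)))) (20984, 0, 16, 64855) (.node (.node (.node (.node .leaf (20987, 0, 16, 255479) .leaf) (20989, 0, 16, 9234) (.node .leaf (20990, 0, 13, 246724) .leaf)) (20994, 0, 18, 35010) (.node (.node .leaf (20995, 0, 17, 26788) .leaf) (20996, 0, 18, 123332) (.node .leaf (20997, 0, 15, 170452) .leaf))) (21002, 0, 13, 113929) (.node (.node (.node .leaf (21003, 0, 17, 255015) .leaf) (21004,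 0, 17, 246876) (.node .leaf (21005, 0, 16, 160584) .leaf)) (21008, 0, 16, 237746) (.node (.node .leaf (21009, 0, 14, 167999) .leaf) (21014, 0, 16, 182708) (.node .leaf (21015, 0, 17, 198480) .leaf))))) (21016, 0, 17, 9101) (.node (.node (.node (.node (.node .leaf (21017, 0, 13, 91468) .leaf) (21022, 0, 12, 111842) (.node .leaf (21023, 0, 16, 257484) .leaf)) (21026, 0, 16, 230199) (.node (.node .leaf (21027, 0, 15, 160689) .leaf) (21028, 0, 18, 191025) (.node .leaf (21029, 0, 14, 255198) .leaf))) (21034, 0, 15, 49155) (.node (.node (.node .leaf (21035, 0, 14, 170285) .leaf) (21036, 0, 13, 53161) (.node .leaf (21037, 0, 17, 12239) .leaf)) (21040, 0, 18, 43847) (.node (.node .leaf (21041, 0, 13, 19233) .leaf) (21046, 0, 14, 9076) (.node .leaf (21047, 0, 18, 74279) .leaf)))) (21048, 0, 14, 167647) (.node (.node (.node (.node .leaf (21049, 0, 17, 198569) .leaf) (21054, 0, 15, 51688) (.node .leaf (21055, 0, 17, 168134) .leaf)) (21056, 0, 15, 176737) (.node (.node .leaf (21057, 0, 15, 48707) .leaf)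 (21062, 0, 17, 225282) (.node .leaf (21063, 0, 16, 76076) .leaf))) (21064, 0, 15, 38905) (.node (.node (.node .leaf (21065, 0, 14, 30623) .leaf) (21070, 0, 16, 130815) (.node .leaf (21071, 0, 17, 73369) .leaf)) (21074, 0, 12, 227817) (.node (.node .leaf (21075, 0, 18, 96887) .leaf) (21076, 0, 16, 62231) (.node .leaf (21077, 0, 18, 4977) .leaf))))))

/-- part of the orbit tree -/
def itp0_324 : Tree := (.node (.node (.node (.node (.node (.node .leaf (21083, 0, 16, 117339) .leaf) (21084, 0, 17, 185999) (.node .leaf (21085, 0, 15, 23860) .leaf)) (21088, 0, 16, 113044) (.node (.node .leaf (21089, 0, 18, 115529) .leaf) (21094, 0, 17, 134408) (.node .leaf (21095, 0, 13, 12532) .leaf))) (21096, 0, 18, 236556) (.node (.node (.node .leaf (21097, 0, 17, 76245) .leaf) (21102, 0, 18, 193802) (.node .leaf (21103, 0, 16, 48826) .leaf)) (21106, 0, 16, 168420) (.node (.node .leaf (21107, 0, 13, 24013) .leaf) (21108, 0, 19, 260322) (.node .leaf (21109, 0, 10, 202884) .leaf)))) (21114, 0, 16, 46204) (.node (.node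 (.node (.node .leaf (21115, 0, 12, 46929) .leaf) (21116, 0, 17, 227600) (.node .leaf (21117, 0, 15, 81180) .leaf)) (21120, 0, 17, 69518) (.node (.node .leaf (21121, 0, 17, 241547) .leaf) (21126, 0, 16, 39137) (.node .leaf (21127, 0, 18, 181901) .leaf))) (21128, 0, 16, 92789) (.node (.node (.node .leaf (21129, 0, 16, 100883) .leaf) (21134, 0, 17, 29309) (.node .leaf (21135, 0, 15, 142163) .leaf)) (21138, 0, 16, 37130) (.node (.node .leaf (21139, 0, 15, 34811) .leaf) (21140, 0, 11, 69275) (.node .leaf (21141, 0, 17, 221003) .leaf))))) (21146, 0, 18, 147973) (.node (.node (.node (.node (.node .leaf (21147, 0, 14, 172643) .leaf) (21148, 0, 12, 207619) (.node .leaf (21149, 0, 15, 243159) .leaf)) (21152, 0, 10, 17432) (.node (.node .leaf (21153, 0, 13, 42110) .leaf) (21158, 0, 17, 124395) (.node .leaf (21159, 0, 16, 118136) .leaf))) (21160, 0, 7, 156032) (.node (.node (.node .leaf (21161, 0, 18, 164326) .leaf) (21166, 0, 19, 198790) (.node .leaf (21167, 0, 16, 256224) .leaf)) (21170, 0, 16, 224360)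 (.node (.node .leaf (21171, 0, 12, 232462) .leaf) (21172, 0, 13, 132462) (.node .leaf (21173, 0, 16, 139841) .leaf)))) (21178, 0, 12, 84464) (.node (.node (.node (.node .leaf (21179, 0, 15, 221106) .leaf) (21180, 0, 16, 37363) (.node .leaf (21181, 0, 14, 49296) .leaf)) (21186, 0, 17, 180086) (.node (.node .leaf (21187, 0, 16, 103720) .leaf) (21188, 0, 15, 206873) (.node .leaf (21189, 0, 14, 64558) .leaf))) (21194, 0, 18, 217302) (.node (.node (.node .leaf (21195, 0, 17, 3268) .leaf) (21196, 0, 15, 246405) (.node .leaf (21197, 0, 15, 105387) .leaf)) (21200, 0, 15, 154942) (.node (.node .leaf (21201, 0, 14, 96476) .leaf) (21206, 0, 14, 209976) (.node .leaf (21207, 0, 17, 61363) .leaf))))))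

/-- part of the orbit tree -/
def itp0_325 : Tree := (.node (.node (.node (.node (.node (.node .leaf (21209, 0, 16, 102976) .leaf) (21214, 0, 12, 70048) (.node .leaf (21215, 0, 15, 1327) .leaf)) (21218, 0, 13, 246396) (.node (.node .leaf (21219, 0, 18, 105298) .leaf) (21220, 0, 15, 202685) (.node .leaf (21221, 0, 15, 260059) .leaf))) (21226, 0, 17, 23331) (.node (.node (.node .leaf (21227, 0, 13, 94670) .leaf) (21228, 0, 16, 180111) (.node .leaf (21229, 0, 12, 119363) .leaf)) (21232, 0, 17, 154872) (.node (.node .leaf (21233, 0, 16, 112301) .leaf) (21238, 0, 15, 16333) (.node .leaf (21239, 0, 16, 103097) .leaf)))) (21240, 0, 17, 226131) (.node (.node (.node (.node .leaf (21241, 0, 15, 234293) .leaf) (21246, 0, 18, 205067) (.node .leaf (21247, 0, 18, 195123) .leaf)) (21248, 0, 15, 162451) (.node (.node .leaf (21249, 0, 15, 170741) .leaf) (21254, 0, 14, 201621) (.node .leaf (21255, 0, 18, 259059) .leaf))) (21256, 0, 15, 24331) (.node (.node (.node .leaf (21257, 0, 16, 60342) .leaf) (21262, 0,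 18, 79373) (.node .leaf (21263, 0, 10, 97497) .leaf)) (21266, 0, 17, 86755) (.node (.node .leaf (21267, 0, 14, 106414) .leaf) (21268, 0, 10, 152047) (.node .leaf (21269, 0, 14, 2241) .leaf))))) (21274, 0, 15, 207900) (.node (.node (.node (.node (.node .leaf (21275, 0, 14, 235293) .leaf) (21276, 0, 16, 179059) (.node .leaf (21277, 0, 12, 196123) .leaf)) (21280, 0, 14, 206094) (.node (.node .leaf (21281, 0, 13, 102656) .leaf) (21286, 0, 15, 176737) (.node .leaf (21287, 0, 16, 60239) .leaf))) (21288, 0, 15, 249746) (.node (.node (.node .leaf (21289, 0, 14, 242840) .leaf) (21294, 0, 17, 153853) (.node .leaf (21295, 0, 14, 187806) .leaf)) (21298, 0, 17, 153878) (.node (.node .leaf (21299, 0, 10, 58020) .leaf) (21300, 0, 15, 208912) (.node .leaf (21301, 0, 14, 249974) .leaf)))) (21306, 0, 11, 31886) (.node (.node (.node (.node .leaf (21307, 0, 16, 40168) .leaf) (21308, 0, 17, 71048) (.node .leaf (21309, 0, 16, 106327) .leaf)) (21314, 0, 16, 16432) (.node (.node .leaf (21315, 0, 17, 41046) .leaf)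 (21316, 0, 11, 32659) (.node .leaf (21317, 0, 14, 140989) .leaf))) (21322, 0, 6, 157096) (.node (.node (.node .leaf (21323, 0, 15, 219982) .leaf) (21324, 0, 16, 199854) (.node .leaf (21325, 0, 16, 257224) .leaf)) (21328, 0, 14, 30328) (.node (.node .leaf (21329, 0, 16, 143190) .leaf) (21334, 0, 16, 131398) (.node .leaf (21335, 0, 16, 188704) .leaf))))))

/-- part of the orbit tree -/
def itp0_326 : Tree := (.node (.node (.node (.node (.node (.node .leaf (21337, 0, 17, 110014) .leaf) (21342, 0, 18, 68491) (.node .leaf (21343, 0, 15, 217765) .leaf)) (21346, 0, 17, 38390) (.node (.node .leaf (21347, 0, 17, 240547) .leaf) (21348, 0, 17, 66201) (.node .leaf (21349, 0, 16, 220087) .leaf))) (21354, 0, 15, 93789) (.node (.node (.node .leaf (21355, 0, 16, 101947) .leaf) (21356, 0, 17, 1883) (.node .leaf (21357, 0, 16, 59197) .leaf)) (21360, 0, 14, 68466) (.node (.node .leaf (21361, 0, 16, 33747) .leaf) (21366, 0, 17, 68275) (.node .leaf (21367, 0, 16, 181555) .leaf)))) (21368, 0, 16, 123374) (.node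 (.node (.node (.node .leaf (21369, 0, 18, 243904) .leaf) (21374, 0, 17, 30337) (.node .leaf (21375, 0, 19, 249677) .leaf)) (21378, 0, 16, 114108) (.node (.node .leaf (21379, 0, 15, 22833) .leaf) (21380, 0, 17, 235376) (.node .leaf (21381, 0, 18, 118366) .leaf))) (21386, 0, 14, 235556) (.node (.node (.node .leaf (21387, 0, 15, 45997) .leaf) (21388, 0, 15, 228844) (.node .leaf (21389, 0, 16, 135492) .leaf)) (21392, 0, 18, 237211) (.node (.node .leaf (21393, 0, 18, 161194) .leaf) (21398, 0, 15, 261322) (.node .leaf (21399, 0, 16, 203948) .leaf))))) (21400, 0, 17, 226311) (.node (.node (.node (.node (.node .leaf (21401, 0, 14, 77097) .leaf) (21406, 0, 16, 121170) (.node .leaf (21407, 0, 17, 47686) .leaf)) (21410, 0, 17, 228629) (.node (.node .leaf (21411, 0, 17, 153135) .leaf) (21412, 0, 19, 191098) (.node .leaf (21413, 0, 15, 45908) .leaf))) (21418, 0, 17, 235401) (.node (.node (.node .leaf (21419, 0, 18, 29623) .leaf) (21420, 0, 15, 131302) (.node .leaf (21421, 0, 16, 72369) .leaf)) (21424, 0,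 16, 106041) (.node (.node .leaf (21425, 0, 18, 47807) .leaf) (21430, 0, 17, 226558) (.node .leaf (21431, 0, 14, 5977) .leaf)))) (21432, 0, 18, 133389) (.node (.node (.node (.node .leaf (21433, 0, 17, 220103) .leaf) (21438, 0, 16, 237154) (.node .leaf (21439, 0, 14, 144065) .leaf)) (21440, 0, 14, 231199) (.node (.node .leaf (21441, 0, 16, 256457) .leaf) (21446, 0, 15, 10120) (.node .leaf (21447, 0, 17, 134783) .leaf))) (21448, 0, 16, 88699) (.node (.node (.node .leaf (21449, 0, 17, 82657) .leaf) (21454, 0, 14, 52500) (.node .leaf (21455, 0, 17, 169018) .leaf)) (21458, 0, 18, 11875) (.node (.node .leaf (21459, 0, 17, 20233) .leaf) (21460, 0, 15, 112908) .leaf)))))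

/-- part of the orbit tree -/
def itp0_327 : Tree := (.node itp0_323 (21082, 0, 17, 245641) itp0_324)

/-- part of the orbit tree -/
def itp0_328 : Tree := (.node itp0_325 (21336, 0, 12, 85464) itp0_326)

/-- part of the orbit tree -/
def itp0_329 : Tree := (.node itp0_321 (20697, 0, 15, 46256) itp0_322)

/-- part of the orbit tree -/
def itp0_330 : Tree := (.node itp0_327 (21208, 0, 17, 248686) itp0_328)

/-- part of the orbit tree -/
def itp0_331 : Tree := (.node (.node (.node (.node (.node (.node .leaf (21466, 0, 14, 166647) .leaf) (21467, 0, 13, 171473) (.node .leaf (21468, 0, 15, 254961) .leaf)) (21469, 0, 11, 199358) (.node (.node .leaf (21472, 0, 17, 52717) .leaf) (21473, 0, 16, 169155) (.node .leaf (21478, 0, 17, 88706) .leaf))) (21479, 0, 17, 197548) (.node (.node (.node .leaf (21480, 0, 16, 174450) .leaf) (21481, 0, 14, 149780) (.node .leaf (21486, 0, 18, 245876) .leaf)) (21487, 0, 15, 204818) (.node (.node .leaf (21490, 0, 16, 86889) .leaf) (21491, 0, 18, 199239) (.node .leaf (21492,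 0, 11, 183708) .leaf)))) (21493, 0, 15, 171304) (.node (.node (.node (.node .leaf (21498, 0, 16, 113141) .leaf) (21499, 0, 16, 254171) (.node .leaf (21500, 0, 18, 59396) .leaf)) (21501, 0, 15, 2146) (.node (.node .leaf (21505, 0, 17, 3673) .leaf) (21507, 0, 16, 1635) (.node .leaf (21508, 0, 15, 55068) .leaf))) (21510, 0, 16, 8272) (.node (.node (.node .leaf (21513, 0, 18, 197773) .leaf) (21515, 0, 16, 228324) (.node .leaf (21516, 0, 18, 205502) .leaf)) (21518, 0, 18, 51916) (.node (.node .leaf (21520, 0, 14, 169578) .leaf) (21522, 0, 15, 10683) (.node .leaf (21525, 0, 15, 151343) .leaf))))) (21527, 0, 18, 204554) (.node (.node (.node (.node (.node .leaf (21528, 0, 12, 46066) .leaf) (21530, 0, 15, 123863) (.node .leaf (21533, 0, 12, 200038) .leaf)) (21535, 0, 17, 58644) (.node (.node .leaf (21537, 0, 15, 198060) .leaf) (21539, 0, 13, 97129) (.node .leaf (21540, 0, 17, 177448) .leaf))) (21542, 0, 16, 167116) (.node (.node (.node .leaf (21545, 0, 18, 162183) .leaf) (21547, 0, 15, 102901) (.node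 .leaf (21548, 0, 13, 129393) .leaf)) (21550, 0, 17, 43348) (.node (.node .leaf (21552, 0, 18, 105887) .leaf) (21554, 0, 15, 52666) (.node .leaf (21557, 0, 15, 83162) .leaf)))) (21559, 0, 12, 94850) (.node (.node (.node (.node .leaf (21560, 0, 16, 153183) .leaf) (21562, 0, 17, 190498) (.node .leaf (21565, 0, 13, 221506) .leaf)) (21567, 0, 15, 143719) (.node (.node .leaf (21568, 0, 16, 126901) .leaf) (21570, 0, 16, 185500) (.node .leaf (21573, 0, 16, 117126) .leaf))) (21575, 0, 18, 134617) (.node (.node (.node .leaf (21576, 0, 13, 106785) .leaf) (21578, 0, 16, 191835) (.node .leaf (21581, 0, 17, 74522) .leaf)) (21583, 0, 14, 10305) (.node (.node .leaf (21585, 0, 17, 72842) .leaf) (21587, 0, 12, 19631) (.node .leaf (21588, 0, 15, 124510) .leaf))))))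

/-- part of the orbit tree -/
def itp0_332 : Tree := (.node (.node (.node (.node (.node (.node .leaf (21593, 0, 14, 76529) .leaf) (21595, 0, 18, 158007) (.node .leaf (21596, 0, 12, 68802) .leaf)) (21598, 0, 17, 189616) (.node (.node .leaf (21600, 0, 15, 37567) .leaf) (21602, 0, 14, 122729) (.node .leaf (21605, 0, 18, 22025) .leaf))) (21607, 0, 17, 67116) (.node (.node (.node .leaf (21608, 0, 16, 30755) .leaf) (21610, 0, 13, 260849) (.node .leaf (21613, 0, 17, 24080) .leaf)) (21615, 0, 15, 205748) (.node (.node .leaf (21617, 0, 16, 48487) .leaf) (21619, 0, 14, 218389) (.node .leaf (21620, 0, 17, 39764) .leaf)))) (21622, 0, 16, 237087) (.node (.node (.node (.node .leaf (21625, 0, 16, 13031) .leaf) (21627, 0, 17, 90818) (.node .leaf (21628, 0, 16, 29128) .leaf)) (21630, 0, 15, 113543) (.node (.node .leaf (21632, 0, 15, 162101) .leaf) (21634, 0, 16, 207120) (.node .leaf (21637, 0, 16, 139621) .leaf))) (21639, 0, 17, 258133) (.node (.node (.node .leaf (21640, 0, 17, 191946) .leaf) (21642, 0, 14,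 67000) (.node .leaf (21645, 0, 15, 183289) .leaf)) (21647, 0, 16, 120269) (.node (.node .leaf (21649, 0, 17, 57606) .leaf) (21651, 0, 16, 110883) (.node .leaf (21652, 0, 16, 134845) .leaf))))) (21654, 0, 12, 92262) (.node (.node (.node (.node (.node .leaf (21657, 0, 17, 180754) .leaf) (21659, 0, 15, 234683) (.node .leaf (21660, 0, 17, 138715) .leaf)) (21662, 0, 18, 68691) (.node (.node .leaf (21664, 0, 14, 227932) .leaf) (21666, 0, 15, 8933) (.node .leaf (21669, 0, 16, 220271) .leaf))) (21671, 0, 13, 46109) (.node (.node (.node .leaf (21672, 0, 15, 233664) .leaf) (21674, 0, 14, 30898) (.node .leaf (21677, 0, 17, 243443) .leaf)) (21679, 0, 18, 187960) (.node (.node .leaf (21681, 0, 17, 218500) .leaf) (21683, 0, 16, 48630) (.node .leaf (21684, 0, 17, 209846) .leaf)))) (21686, 0, 16, 156563) (.node (.node (.node (.node .leaf (21689, 0, 14, 118635) .leaf) (21691, 0, 15, 40782) (.node .leaf (21692, 0, 15, 71214) .leaf)) (21694, 0, 13, 29017) (.node (.node .leaf (21697, 0, 18, 1778) .leaf) (21699,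 0, 11, 41968) (.node .leaf (21700, 0, 16, 76432) .leaf))) (21702, 0, 19, 31413) (.node (.node (.node .leaf (21705, 0, 18, 251469) .leaf) (21707, 0, 12, 197660) (.node .leaf (21708, 0, 15, 200456) .leaf)) (21710, 0, 15, 155437) (.node (.node .leaf (21712, 0, 17, 224230) .leaf) (21714, 0, 13, 246104) (.node .leaf (21717, 0, 15, 3865) .leaf))))))

/-- part of the orbit tree -/
def itp0_333 : Tree := (.node (.node (.node (.node (.node (.node .leaf (21720, 0, 18, 50102) .leaf) (21722, 0, 16, 7771) (.node .leaf (21725, 0, 14, 58757) .leaf)) (21727, 0, 16, 50974) (.node (.node .leaf (21729, 0, 17, 97272) .leaf) (21731, 0, 16, 168842) (.node .leaf (21732, 0, 16, 139621) .leaf))) (21734, 0, 16, 177593) (.node (.node (.node .leaf (21737, 0, 13, 56760) .leaf) (21739, 0, 17, 101789) (.node .leaf (21740, 0, 16, 1277) .leaf)) (21742, 0, 16, 87256) (.node (.node .leaf (21744, 0, 17, 87072) .leaf) (21746, 0, 15, 179282) (.node .leaf (21749, 0, 17, 94739) .leaf)))) (21751, 0, 17, 170593) (.node (.node (.node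 (.node .leaf (21752, 0, 14, 114364) .leaf) (21754, 0, 16, 202158) (.node .leaf (21757, 0, 16, 171214) .leaf)) (21759, 0, 12, 159997) (.node (.node .leaf (21760, 0, 16, 86236) .leaf) (21762, 0, 15, 138350) (.node .leaf (21765, 0, 17, 95983) .leaf))) (21767, 0, 12, 181547) (.node (.node (.node .leaf (21768, 0, 16, 113216) .leaf) (21770, 0, 14, 152114) (.node .leaf (21773, 0, 17, 110742) .leaf)) (21775, 0, 16, 57523) (.node (.node .leaf (21777, 0, 15, 119928) .leaf) (21779, 0, 17, 169846) (.node .leaf (21780, 0, 13, 88375) .leaf))))) (21782, 0, 14, 23832) (.node (.node (.node (.node (.node .leaf (21785, 0, 17, 258528) .leaf) (21787, 0, 16, 163306) (.node .leaf (21788, 0, 15, 207013) .leaf)) (21790, 0, 14, 161920) (.node (.node .leaf (21792, 0, 16, 11734) .leaf) (21794, 0, 14, 247204) (.node .leaf (21797, 0, 14, 40699) .leaf))) (21799, 0, 15, 254871) (.node (.node (.node .leaf (21800, 0, 15, 51018) .leaf) (21802, 0, 18, 208696) (.node .leaf (21805, 0, 15, 57721) .leaf)) (21807, 0, 18, 256838) (.node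 (.node .leaf (21809, 0, 18, 526) .leaf) (21811, 0, 14, 256636) (.node .leaf (21812, 0, 16, 9277) .leaf)))) (21814, 0, 18, 218861) (.node (.node (.node (.node .leaf (21817, 0, 15, 64021) .leaf) (21819, 0, 16, 196832) (.node .leaf (21820, 0, 17, 52897) .leaf)) (21822, 0, 16, 95093) (.node (.node .leaf (21825, 0, 15, 50859) .leaf) (21827, 0, 14, 104078) (.node .leaf (21828, 0, 18, 227147) .leaf))) (21830, 0, 15, 85963) (.node (.node (.node .leaf (21833, 0, 13, 189235) .leaf) (21835, 0, 16, 21398) (.node .leaf (21836, 0, 15, 146038) .leaf)) (21838, 0, 16, 30117) (.node (.node .leaf (21840, 0, 13, 229024) .leaf) (21842, 0, 17, 38610) (.node .leaf (21845, 0, 15, 219283) .leaf))))))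

/-- part of the orbit tree -/
def itp0_334 : Tree := (.node (.node (.node (.node (.node (.node .leaf (21848, 0, 16, 234556) .leaf) (21850, 0, 14, 31822) (.node .leaf (21853, 0, 17, 242191) .leaf)) (21855, 0, 17, 127584) (.node (.node .leaf (21857, 0, 15, 142450) .leaf) (21859, 0, 15, 115712) (.node .leaf (21860, 0, 16, 201755) .leaf))) (21862, 0, 18, 123443) (.node (.node (.node .leaf (21865, 0, 18, 125126) .leaf) (21867, 0, 16, 77468) (.node .leaf (21868, 0, 18, 188637) .leaf)) (21870, 0, 17, 67759) (.node (.node .leaf (21872, 0, 17, 132010) .leaf) (21874, 0, 16, 125912) (.node .leaf (21877, 0, 19, 140697) .leaf)))) (21879, 0, 16, 56333) (.node (.node (.node (.node .leaf (21880, 0, 12, 225525) .leaf) (21882, 0, 14, 65860) (.node .leaf (21885, 0, 15, 240048) .leaf)) (21887, 0, 18, 75639) (.node (.node .leaf (21889, 0, 14, 47515) .leaf) (21891, 0, 17, 27394) (.node .leaf (21892, 0, 17, 40872) .leaf))) (21894, 0, 8, 45639) (.node (.node (.node .leaf (21897, 0, 17, 204479) .leaf) (21899, 0, 15,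 151194) (.node .leaf (21900, 0, 16, 247802) .leaf)) (21902, 0, 15, 236870) (.node (.node .leaf (21904, 0, 16, 238356) .leaf) (21906, 0, 14, 228913) (.node .leaf (21909, 0, 13, 45168) .leaf))))) (21911, 0, 16, 219138) (.node (.node (.node (.node (.node .leaf (21912, 0, 16, 99980) .leaf) (21914, 0, 17, 234669) (.node .leaf (21917, 0, 15, 90057) .leaf)) (21919, 0, 17, 242334) (.node (.node .leaf (21921, 0, 13, 115857) .leaf) (21923, 0, 15, 221431) (.node .leaf (21924, 0, 18, 190871) .leaf))) (21926, 0, 14, 133840) (.node (.node (.node .leaf (21929, 0, 14, 5450) .leaf) (21931, 0, 15, 181887) (.node .leaf (21932, 0, 18, 52239) .leaf)) (21934, 0, 16, 188492) (.node (.node .leaf (21936, 0, 13, 43233) .leaf) (21938, 0, 17, 129220) (.node .leaf (21941, 0, 15, 118138) .leaf)))) (21943, 0, 17, 140552) (.node (.node (.node (.node .leaf (21944, 0, 17, 167289) .leaf) (21946, 0, 18, 190887) (.node .leaf (21949, 0, 15, 152636) .leaf)) (21951, 0, 17, 184212) (.node (.node .leaf (21952, 0, 17, 176583) .leaf)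 (21954, 0, 16, 86093) (.node .leaf (21957, 0, 15, 171532) .leaf))) (21959, 0, 16, 95870) (.node (.node (.node .leaf (21960, 0, 17, 152227) .leaf) (21962, 0, 17, 115834) (.node .leaf (21965, 0, 17, 160912) .leaf)) (21967, 0, 16, 73023) (.node (.node .leaf (21969, 0, 13, 169959) .leaf) (21971, 0, 14, 98197) (.node .leaf (21972, 0, 16, 176596) .leaf))))))

/-- part of the orbit tree -/
def itp0_335 : Tree := (.node itp0_331 (21590, 0, 14, 38378) itp0_332)

/-- part of the orbit tree -/
def itp0_336 : Tree := (.node itp0_333 (21847, 0, 12, 251896) itp0_334)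

/-- part of the orbit tree -/
def itp0_337 : Tree := (.node (.node (.node (.node (.node (.node .leaf (21977, 0, 17, 163195) .leaf) (21979, 0, 18, 103689) (.node .leaf (21980, 0, 18, 185641) .leaf)) (21982, 0, 17, 111418) (.node (.node .leaf (21984, 0, 16, 113202) .leaf) (21986, 0, 14, 59927) (.node .leaf (21989, 0, 17, 90999) .leaf))) (21991, 0, 18, 13138) (.node (.node (.node .leaf (21992, 0, 18, 237482) .leaf) (21994, 0, 18, 51163) (.node .leaf (21997, 0, 14, 199066) .leaf)) (21999, 0, 15, 57832) (.node (.node .leaf (22001, 0, 16, 205313) .leaf) (22003, 0, 15, 671) (.node .leaf (22004, 0, 17, 260932) .leaf)))) (22006, 0, 16, 9388) (.node (.node (.node (.node .leaf (22009, 0, 17, 196721) .leaf) (22011, 0, 17, 22460) (.node .leaf (22012, 0, 18, 122588) .leaf)) (22014, 0, 12, 36601) (.node (.node .leaf (22016, 0, 15, 111123) .leaf) (22017, 0, 17, 8745) (.node .leaf (22018, 0, 13, 154209) .leaf))) (22019, 0, 16, 847) (.node (.node (.node .leaf (22024, 0, 15, 190423) .leaf) (22025, 0, 17, 197025)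 (.node .leaf (22026, 0, 18, 243698) .leaf)) (22027, 0, 13, 59859) (.node (.node .leaf (22036, 0, 17, 113656) .leaf) (22037, 0, 15, 156511) (.node .leaf (22038, 0, 15, 152458) .leaf))))) (22039, 0, 17, 209786) (.node (.node (.node (.node (.node .leaf (22044, 0, 13, 42657) .leaf) (22045, 0, 14, 18119) (.node .leaf (22046, 0, 15, 178454) .leaf)) (22047, 0, 14, 57400) (.node (.node .leaf (22048, 0, 18, 53017) .leaf) (22049, 0, 14, 169527) (.node .leaf (22050, 0, 15, 170399) .leaf))) (22051, 0, 18, 97861) (.node (.node (.node .leaf (22056, 0, 18, 125986) .leaf) (22057, 0, 18, 68676) (.node .leaf (22058, 0, 17, 249335) .leaf)) (22059, 0, 18, 23649) (.node (.node .leaf (22068, 0, 16, 50930) .leaf) (22069, 0, 18, 92330) (.node .leaf (22070, 0, 15, 55529) .leaf)))) (22071, 0, 18, 96174) (.node (.node (.node (.node .leaf (22076, 0, 13, 11374) .leaf) (22077, 0, 16, 216370) (.node .leaf (22078, 0, 15, 195953) .leaf)) (22079, 0, 15, 105778) (.node (.node .leaf (22084, 0, 17, 233962) .leaf) (22085, 0, 14,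 117930) (.node .leaf (22086, 0, 18, 180687) .leaf))) (22087, 0, 9, 139689) (.node (.node (.node .leaf (22092, 0, 14, 111730) .leaf) (22093, 0, 18, 87060) (.node .leaf (22094, 0, 17, 38762) .leaf)) (22095, 0, 15, 183876) (.node (.node .leaf (22096, 0, 12, 236655) .leaf) (22097, 0, 16, 116033) (.node .leaf (22098, 0, 17, 29725) .leaf))))))

/-- part of the orbit tree -/
def itp0_338 : Tree := (.node (.node (.node (.node (.node (.node .leaf (22104, 0, 17, 259332) .leaf) (22105, 0, 17, 77789) (.node .leaf (22106, 0, 14, 40577) .leaf)) (22107, 0, 15, 182191) (.node (.node .leaf (22116, 0, 15, 190606) .leaf) (22117, 0, 12, 31353) (.node .leaf (22118, 0, 17, 117306) .leaf))) (22119, 0, 14, 76380) (.node (.node (.node .leaf (22124, 0, 17, 131602) .leaf) (22125, 0, 18, 23356) (.node .leaf (22126, 0, 16, 257954) .leaf)) (22127, 0, 13, 200644) (.node (.node .leaf (22128, 0, 14, 188773) .leaf) (22129, 0, 18, 146191) (.node .leaf (22130, 0, 16, 67863) .leaf)))) (22131, 0, 15, 217145) (.node (.node (.node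 (.node .leaf (22136, 0, 16, 134137) .leaf) (22137, 0, 17, 7831) (.node .leaf (22138, 0, 15, 123787) .leaf)) (22139, 0, 15, 85682) (.node (.node .leaf (22148, 0, 17, 32103) .leaf) (22149, 0, 16, 140361) (.node .leaf (22150, 0, 18, 234773) .leaf))) (22151, 0, 17, 252965) (.node (.node (.node .leaf (22156, 0, 17, 38907) .leaf) (22157, 0, 18, 184021) (.node .leaf (22158, 0, 15, 229257) .leaf)) (22159, 0, 17, 75431) (.node (.node .leaf (22160, 0, 17, 11536) .leaf) (22161, 0, 17, 142754) (.node .leaf (22162, 0, 14, 236798) .leaf))))) (22163, 0, 17, 105811) (.node (.node (.node (.node (.node .leaf (22168, 0, 15, 133256) .leaf) (22169, 0, 16, 182078) (.node .leaf (22170, 0, 18, 226914) .leaf)) (22171, 0, 14, 243915) (.node (.node .leaf (22180, 0, 15, 65645) .leaf) (22181, 0, 17, 219459) (.node .leaf (22182, 0, 12, 14262) .leaf))) (22183, 0, 18, 45361) (.node (.node (.node .leaf (22188, 0, 16, 125681) .leaf) (22189, 0, 15, 242655) (.node .leaf (22190, 0, 13, 131715) .leaf)) (22191, 0, 16, 193096) (.node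 (.node .leaf (22192, 0, 15, 67974) .leaf) (22193, 0, 18, 247427) (.node .leaf (22194, 0, 16, 188916) .leaf)))) (22195, 0, 18, 169638) (.node (.node (.node (.node .leaf (22200, 0, 18, 66429) .leaf) (22201, 0, 16, 244276) (.node .leaf (22202, 0, 13, 21336) .leaf)) (22203, 0, 13, 45886) (.node (.node .leaf (22208, 0, 16, 81859) .leaf) (22209, 0, 17, 990) (.node .leaf (22210, 0, 17, 28646) .leaf))) (22211, 0, 14, 36736) (.node (.node (.node .leaf (22216, 0, 14, 176236) .leaf) (22217, 0, 14, 59714) (.node .leaf (22218, 0, 17, 88094) .leaf)) (22219, 0, 16, 196912) (.node (.node .leaf (22228, 0, 16, 229045) .leaf) (22229, 0, 15, 237267) (.node .leaf (22230, 0, 13, 113513) .leaf))))))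

/-- part of the orbit tree -/
def itp0_339 : Tree := (.node (.node (.node (.node (.node (.node .leaf (22236, 0, 13, 88877) .leaf) (22237, 0, 16, 57513) (.node .leaf (22238, 0, 15, 2824) .leaf)) (22239, 0, 16, 198875) (.node (.node .leaf (22240, 0, 13, 206842) .leaf) (22241, 0, 16, 185424) (.node .leaf (22242, 0, 16, 53128) .leaf))) (22243, 0, 18, 230517) (.node (.node (.node .leaf (22248, 0, 16, 249190) .leaf) (22249, 0, 16, 103496) (.node .leaf (22250, 0, 16, 82315) .leaf)) (22251, 0, 13, 162874) (.node (.node .leaf (22260, 0, 16, 30016) .leaf) (22261, 0, 14, 96063) (.node .leaf (22262, 0, 16, 50787) .leaf)))) (22263, 0, 16, 115971) (.node (.node (.node (.node .leaf (22268, 0, 17, 151768) .leaf) (22269, 0, 17, 105891) (.node .leaf (22270, 0, 16, 196861) .leaf)) (22271, 0, 16, 161233) (.node (.node .leaf (22276, 0, 15, 207597) .leaf) (22277, 0, 17, 244094) (.node .leaf (22278, 0, 13, 49823) .leaf))) (22279, 0, 16, 190811) (.node (.node (.node .leaf (22284, 0, 16, 97408) .leaf) (22285, 0, 16,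 104799) (.node .leaf (22286, 0, 15, 11429) .leaf)) (22287, 0, 17, 52419) (.node (.node .leaf (22288, 0, 12, 205574) .leaf) (22289, 0, 16, 129032) (.node .leaf (22290, 0, 17, 18507) .leaf))))) (22291, 0, 17, 43053) (.node (.node (.node (.node (.node .leaf (22296, 0, 16, 212470) .leaf) (22297, 0, 14, 102580) (.node .leaf (22298, 0, 18, 159187) .leaf)) (22299, 0, 17, 167349) (.node (.node .leaf (22308, 0, 13, 21229) .leaf) (22309, 0, 12, 45707) (.node .leaf (22310, 0, 14, 114581) .leaf))) (22311, 0, 14, 255675) (.node (.node (.node .leaf (22316, 0, 18, 179579) .leaf) (22317, 0, 18, 169747) (.node .leaf (22318, 0, 14, 206672) .leaf)) (22319, 0, 12, 247606) (.node (.node .leaf (22320, 0, 16, 155148) .leaf) (22321, 0, 15, 1826) (.node .leaf (22322, 0, 15, 112254) .leaf)))) (22323, 0, 15, 257872) (.node (.node (.node (.node .leaf (22328, 0, 15, 13827) .leaf) (22329, 0, 9, 60862) (.node .leaf (22330, 0, 12, 89314) .leaf)) (22331, 0, 16, 198092) (.node (.node .leaf (22336, 0, 17, 2749) .leaf) (22337,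 0, 17, 218196) (.node .leaf (22338, 0, 17, 189704) .leaf))) (22339, 0, 17, 113406) (.node (.node (.node .leaf (22344, 0, 18, 124902) .leaf) (22345, 0, 17, 245448) (.node .leaf (22346, 0, 17, 229120) .leaf)) (22347, 0, 14, 22202) (.node (.node .leaf (22356, 0, 16, 150475) .leaf) (22357, 0, 16, 175021) (.node .leaf (22358, 0, 15, 191715) .leaf))))))

/-- part of the orbit tree -/
def itp0_340 : Tree := (.node (.node (.node (.node (.node (.node .leaf (22364, 0, 17, 28243) .leaf) (22365, 0, 17, 243491) (.node .leaf (22366, 0, 16, 132735) .leaf)) (22367, 0, 16, 24401) (.node (.node .leaf (22368, 0, 12, 28784) .leaf) (22369, 0, 17, 141662) (.node .leaf (22370, 0, 16, 151917) .leaf))) (22371, 0, 12, 114988) (.node (.node (.node .leaf (22376, 0, 17, 74960) .leaf) (22377, 0, 13, 181186) (.node .leaf (22378, 0, 18, 225950) .leaf)) (22379, 0, 16, 76720) (.node (.node .leaf (22388, 0, 15, 81982) .leaf) (22389, 0, 16, 106584) (.node .leaf (22390, 0, 16, 4123) .leaf)))) (22391, 0, 18, 116935) (.node (.node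 (.node (.node .leaf (22396, 0, 16, 222630) .leaf) (22397, 0, 13, 182825) (.node .leaf (22398, 0, 17, 228213) .leaf)) (22399, 0, 13, 74331) (.node (.node .leaf (22400, 0, 17, 189849) .leaf) (22401, 0, 13, 48311) (.node .leaf (22402, 0, 16, 42772) .leaf))) (22403, 0, 15, 218309) (.node (.node (.node .leaf (22408, 0, 14, 134917) .leaf) (22409, 0, 16, 209615) (.node .leaf (22410, 0, 17, 124791) .leaf)) (22411, 0, 14, 245337) (.node (.node .leaf (22420, 0, 16, 191602) .leaf) (22421, 0, 17, 46428) (.node .leaf (22422, 0, 9, 66560) .leaf))))) (22423, 0, 15, 132612) (.node (.node (.node (.node (.node .leaf (22428, 0, 16, 103391) .leaf) (22429, 0, 16, 95161) (.node .leaf (22430, 0, 15, 50170) .leaf)) (22431, 0, 15, 243634) (.node (.node .leaf (22432, 0, 16, 235667) .leaf) (22433, 0, 16, 115133) (.node .leaf (22434, 0, 13, 28897) .leaf))) (22435, 0, 18, 216199) (.node (.node (.node .leaf (22440, 0, 17, 225807) .leaf) (22441, 0, 14, 14650) (.node .leaf (22442, 0, 11, 39549) .leaf)) (22443, 0, 14, 92447)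 (.node (.node .leaf (22452, 0, 19, 233848) .leaf) (22453, 0, 17, 116822) (.node .leaf (22454, 0, 18, 30986) .leaf)))) (22455, 0, 12, 139300) (.node (.node (.node (.node .leaf (22460, 0, 16, 228324) .leaf) (22461, 0, 18, 74442) (.node .leaf (22462, 0, 18, 37782) .leaf)) (22463, 0, 15, 182968) (.node (.node .leaf (22468, 0, 16, 49678) .leaf) (22469, 0, 16, 148722) (.node .leaf (22470, 0, 17, 207484) .leaf))) (22471, 0, 17, 95058) (.node (.node (.node .leaf (22476, 0, 16, 33036) .leaf) (22477, 0, 13, 24938) (.node .leaf (22478, 0, 15, 245984) .leaf)) (22479, 0, 15, 104910) (.node (.node .leaf (22480, 0, 15, 58850) .leaf) (22481, 0, 13, 1412) .leaf)))))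

/-- part of the orbit tree -/
def itp0_341 : Tree := (.node itp0_337 (22099, 0, 16, 142643) itp0_338)

/-- part of the orbit tree -/
def itp0_342 : Tree := (.node itp0_339 (22359, 0, 16, 261000) itp0_340)

/-- part of the orbit tree -/
def itp0_343 : Tree := (.node itp0_335 (21719, 0, 15, 255851) itp0_336)

/-- part of the orbit tree -/
def itp0_344 : Tree := (.node itp0_341 (22231, 0, 16, 254535) itp0_342)

/-- part of the orbit tree -/
def itp0_345 : Tree := (.node itp0_329 (20952, 0, 15, 259746) itp0_330)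

/-- part of the orbit tree -/
def itp0_346 : Tree := (.node itp0_343 (21974, 0, 16, 106644) itp0_344)

/-- part of the orbit tree -/
def itp0_347 : Tree := (.node (.node (.node (.node (.node (.node .leaf (22483, 0, 18, 96953) .leaf) (22488, 0, 18, 180346) (.node .leaf (22489, 0, 17, 161879) .leaf)) (22490, 0, 19, 233567) (.node (.node .leaf (22491, 0, 13, 225337) .leaf) (22500, 0, 17, 110433) (.node .leaf (22501, 0, 14, 255530) .leaf))) (22502, 0, 16, 153462) (.node (.node (.node .leaf (22503, 0, 17, 3672) .leaf) (22508, 0, 14, 232185) (.node .leaf (22509, 0, 17, 223903) .leaf)) (22510, 0, 17, 179690) (.node (.node .leaf (22511, 0, 18, 146106) .leaf) (22512, 0, 12, 257559) (.node .leaf (22513, 0, 15, 200305) .leaf)))) (22514, 0, 18, 155293) (.node (.node (.node (.node .leaf (22515, 0, 18, 1971) .leaf) (22520, 0, 15, 89203) (.node .leaf (22521, 0, 16, 76777) .leaf)) (22522, 0, 17, 39850) (.node (.node .leaf (22523, 0, 17, 60719) .leaf) (22529, 0, 15, 42714) (.node .leaf (22530, 0, 17, 187054)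 .leaf))) (22533, 0, 18, 218062) (.node (.node (.node .leaf (22534, 0, 16, 223387) .leaf) (22537, 0, 15, 85877) (.node .leaf (22538, 0, 16, 65334) .leaf)) (22541, 0, 14, 95830) (.node (.node .leaf (22542, 0, 18, 50709) .leaf) (22544, 0, 18, 127710) (.node .leaf (22547, 0, 18, 79966) .leaf))))) (22548, 0, 17, 117757) (.node (.node (.node (.node (.node .leaf (22551, 0, 16, 214851) .leaf) (22552, 0, 16, 25502) (.node .leaf (22555, 0, 13, 157445) .leaf)) (22556, 0, 15, 257637) (.node (.node .leaf (22559, 0, 13, 155174) .leaf) (22561, 0, 18, 24856) (.node .leaf (22562, 0, 17, 27276) .leaf))) (22565, 0, 16, 22587) (.node (.node (.node .leaf (22566, 0, 14, 125048) .leaf) (22569, 0, 15, 148608) (.node .leaf (22570, 0, 17, 32784) .leaf)) (22573, 0, 13, 216657) (.node (.node .leaf (22574, 0, 16, 196365) .leaf) (22576, 0, 19, 194859) (.node .leaf (22579, 0, 16, 215400) .leaf)))) (22580, 0, 17, 180232) (.node (.node (.node (.node .leaf (22583, 0, 14, 225355) .leaf) (22584, 0, 18, 73364) (.node .leaf (22587,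 0, 15, 45000) .leaf)) (22588, 0, 16, 221577) (.node (.node .leaf (22591, 0, 16, 87507) .leaf) (22592, 0, 18, 173950) (.node .leaf (22595, 0, 17, 202274) .leaf))) (22596, 0, 18, 55395) (.node (.node (.node .leaf (22599, 0, 16, 92479) .leaf) (22600, 0, 16, 181653) (.node .leaf (22603, 0, 16, 226774) .leaf)) (22604, 0, 16, 13055) (.node (.node .leaf (22607, 0, 17, 99235) .leaf) (22609, 0, 9, 166054) (.node .leaf (22610, 0, 18, 247933) .leaf))))))

/-- part of the orbit tree -/
def itp0_348 : Tree := (.node (.node (.node (.node (.node (.node .leaf (22614, 0, 14, 258398) .leaf) (22617, 0, 13, 23974) (.node .leaf (22618, 0, 15, 126437) .leaf)) (22621, 0, 16, 7463) (.node (.node .leaf (22622, 0, 17, 109691) .leaf) (22624, 0, 16, 257016) (.node .leaf (22627, 0, 15, 158504) .leaf))) (22628, 0, 16, 250587) (.node (.node (.node .leaf (22631, 0, 15, 156312) .leaf) (22632, 0, 15, 209128) (.node .leaf (22635, 0, 15, 32291) .leaf)) (22636, 0, 15, 128835) (.node (.node .leaf (22639, 0, 18, 18176) .leaf) (22641,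 0, 14, 259500) (.node .leaf (22642, 0, 12, 148720) .leaf)))) (22645, 0, 16, 84712) (.node (.node (.node (.node .leaf (22646, 0, 14, 64171) .leaf) (22649, 0, 18, 218707) (.node .leaf (22650, 0, 15, 175724) .leaf)) (22653, 0, 16, 225136) (.node (.node .leaf (22654, 0, 16, 188211) .leaf) (22656, 0, 16, 73089) (.node .leaf (22659, 0, 17, 44482) .leaf))) (22660, 0, 15, 209024) (.node (.node (.node .leaf (22663, 0, 15, 38113) .leaf) (22664, 0, 13, 210969) (.node .leaf (22667, 0, 15, 165978) .leaf)) (22668, 0, 16, 196922) (.node (.node .leaf (22671, 0, 17, 158528) .leaf) (22673, 0, 16, 230834) (.node .leaf (22674, 0, 17, 53529) .leaf))))) (22677, 0, 16, 244881) (.node (.node (.node (.node (.node .leaf (22678, 0, 17, 175620) .leaf) (22681, 0, 14, 106538) (.node .leaf (22682, 0, 18, 4201) .leaf)) (22685, 0, 15, 104713) (.node (.node .leaf (22686, 0, 16, 148632) .leaf) (22688, 0, 13, 136820) (.node .leaf (22691, 0, 14, 99275) .leaf))) (22692, 0, 16, 143191) (.node (.node (.node .leaf (22695, 0, 16, 237332)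 .leaf) (22696, 0, 15, 13292) (.node .leaf (22699, 0, 15, 92503) .leaf)) (22700, 0, 14, 2767) (.node (.node .leaf (22703, 0, 17, 202314) .leaf) (22705, 0, 16, 36423) (.node .leaf (22706, 0, 17, 109587) .leaf)))) (22709, 0, 15, 156242) (.node (.node (.node (.node .leaf (22710, 0, 17, 67367) .leaf) (22713, 0, 15, 63443) (.node .leaf (22714, 0, 15, 203676) .leaf)) (22717, 0, 16, 166094) (.node (.node .leaf (22718, 0, 16, 205503) .leaf) (22721, 0, 18, 216633) (.node .leaf (22722, 0, 16, 206626) .leaf))) (22725, 0, 17, 175682) (.node (.node (.node .leaf (22726, 0, 14, 32888) .leaf) (22729, 0, 15, 45817) (.node .leaf (22730, 0, 16, 66234) .leaf)) (22733, 0, 17, 121784) (.node (.node .leaf (22734, 0, 19, 80793) .leaf) (22736, 0, 17, 221665) (.node .leaf (22739, 0, 17, 184509) .leaf))))))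

/-- part of the orbit tree -/
def itp0_349 : Tree := (.node (.node (.node (.node (.node (.node .leaf (22743, 0, 17, 99890) .leaf) (22744, 0, 17, 142026) (.node .leaf (22747, 0, 18, 145953) .leaf)) (22748, 0, 14, 136169) (.node (.node .leaf (22751, 0, 15, 238506) .leaf) (22753, 0, 18, 105620) (.node .leaf (22754, 0, 16, 11479) .leaf))) (22757, 0, 14, 19502) (.node (.node (.node .leaf (22758, 0, 14, 5620) .leaf) (22761, 0, 14, 243980) (.node .leaf (22762, 0, 15, 223475) .leaf)) (22765, 0, 18, 42674) (.node (.node .leaf (22766, 0, 14, 71662) .leaf) (22768, 0, 16, 138475) (.node .leaf (22771, 0, 4, 177380) .leaf)))) (22772, 0, 18, 25590) (.node (.node (.node (.node .leaf (22775, 0, 16, 167367) .leaf) (22776, 0, 12, 194167) (.node .leaf (22779, 0, 16, 37244) .leaf)) (22780, 0, 17, 35178) (.node (.node .leaf (22783, 0, 17, 79926) .leaf) (22784, 0, 18, 10495) (.node .leaf (22787, 0, 18, 239947) .leaf))) (22788, 0, 16, 26378) (.node (.node (.node .leaf (22791, 0, 16, 106911) .leaf) (22792, 0, 18,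 134503) (.node .leaf (22795, 0, 14, 213975) .leaf)) (22796, 0, 18, 36246) (.node (.node .leaf (22799, 0, 16, 81098) .leaf) (22801, 0, 11, 145359) (.node .leaf (22802, 0, 16, 196751) .leaf))))) (22805, 0, 16, 18642) (.node (.node (.node (.node (.node .leaf (22806, 0, 18, 129422) .leaf) (22809, 0, 14, 38228) (.node .leaf (22810, 0, 17, 224271) .leaf)) (22813, 0, 17, 41550) (.node (.node .leaf (22814, 0, 15, 72756) .leaf) (22816, 0, 15, 205578) (.node .leaf (22819, 0, 15, 185409) .leaf))) (22820, 0, 16, 72192) (.node (.node (.node .leaf (22823, 0, 15, 174698) .leaf) (22824, 0, 19, 67218) (.node .leaf (22827, 0, 12, 46801) .leaf)) (22828, 0, 14, 127132) (.node (.node .leaf (22831, 0, 17, 36850) .leaf) (22833, 0, 14, 113465) (.node .leaf (22834, 0, 17, 195481) .leaf)))) (22837, 0, 17, 98842) (.node (.node (.node (.node .leaf (22838, 0, 17, 33924) .leaf) (22841, 0, 16, 237657) (.node .leaf (22842, 0, 18, 135429) .leaf)) (22845, 0, 14, 239490) (.node (.node .leaf (22846, 0, 16, 137153) .leaf) (22849,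 0, 16, 238111) (.node .leaf (22850, 0, 16, 108783) .leaf))) (22853, 0, 13, 236348) (.node (.node (.node .leaf (22854, 0, 16, 142207) .leaf) (22857, 0, 17, 100231) (.node .leaf (22858, 0, 13, 14276) .leaf)) (22861, 0, 17, 166962) (.node (.node .leaf (22862, 0, 15, 212334) .leaf) (22864, 0, 15, 80428) (.node .leaf (22867, 0, 17, 100151) .leaf))))))

/-- part of the orbit tree -/
def itp0_350 : Tree := (.node (.node (.node (.node (.node (.node .leaf (22871, 0, 11, 260138) .leaf) (22872, 0, 16, 56567) (.node .leaf (22875, 0, 14, 176119) .leaf)) (22876, 0, 18, 206487) (.node (.node .leaf (22879, 0, 16, 201398) .leaf) (22881, 0, 18, 91321) (.node .leaf (22882, 0, 17, 54757) .leaf))) (22885, 0, 16, 203684) (.node (.node (.node .leaf (22886, 0, 18, 73866) .leaf) (22889, 0, 15, 101925) (.node .leaf (22890, 0, 16, 212017) .leaf)) (22893, 0, 16, 177489) (.node (.node .leaf (22894, 0, 15, 197906) .leaf) (22896, 0, 13, 143833) (.node .leaf (22899, 0, 13, 64061) .leaf)))) (22900, 0, 14, 210044) (.node (.node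 (.node (.node .leaf (22903, 0, 17, 243897) .leaf) (22904, 0, 17, 5185) (.node .leaf (22907, 0, 12, 4257) .leaf)) (22908, 0, 16, 11618) (.node (.node .leaf (22911, 0, 16, 159676) .leaf) (22913, 0, 15, 155539) (.node .leaf (22914, 0, 17, 258000) .leaf))) (22917, 0, 15, 101965) (.node (.node (.node .leaf (22918, 0, 12, 251635) .leaf) (22921, 0, 17, 203724) (.node .leaf (22922, 0, 17, 174736) .leaf)) (22925, 0, 16, 17192) (.node (.node .leaf (22926, 0, 15, 127851) .leaf) (22928, 0, 15, 253576) (.node .leaf (22931, 0, 18, 96227) .leaf))))) (22932, 0, 17, 65155) (.node (.node (.node (.node (.node .leaf (22935, 0, 16, 4297) .leaf) (22936, 0, 17, 209940) (.node .leaf (22939, 0, 17, 165192) .leaf)) (22940, 0, 18, 187163) (.node (.node .leaf (22943, 0, 17, 64085) .leaf) (22945, 0, 17, 87142) (.node .leaf (22946, 0, 16, 58405) .leaf))) (22949, 0, 16, 93509) (.node (.node (.node .leaf (22950, 0, 16, 56582) .leaf) (22953, 0, 17, 225790) (.node .leaf (22954, 0, 14, 251802) .leaf)) (22957, 0, 13, 6619) (.node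 (.node .leaf (22958, 0, 14, 194718) .leaf) (22960, 0, 16, 248917) (.node .leaf (22963, 0, 17, 162838) .leaf)))) (22964, 0, 17, 56479) (.node (.node (.node (.node .leaf (22967, 0, 16, 148789) .leaf) (22968, 0, 15, 125389) (.node .leaf (22971, 0, 16, 22926) .leaf)) (22972, 0, 15, 13827) (.node (.node .leaf (22975, 0, 16, 24749) .leaf) (22976, 0, 15, 127220) (.node .leaf (22979, 0, 17, 25904) .leaf))) (22980, 0, 16, 126032) (.node (.node (.node .leaf (22983, 0, 17, 147125) .leaf) (22984, 0, 16, 72296) (.node .leaf (22987, 0, 18, 43828) .leaf)) (22988, 0, 18, 248264) (.node (.node .leaf (22991, 0, 17, 162187) .leaf) (22993, 0, 13, 122668) (.node .leaf (22994, 0, 18, 195843) .leaf))))))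

/-- part of the orbit tree -/
def itp0_351 : Tree := (.node itp0_347 (22613, 0, 14, 147741) itp0_348)

/-- part of the orbit tree -/
def itp0_352 : Tree := (.node itp0_349 (22868, 0, 18, 66319) itp0_350)

/-- part of the orbit tree -/
def itp0_353 : Tree := (.node (.node (.node (.node (.node (.node .leaf (22998, 0, 16, 135533) .leaf) (23001, 0, 18, 79280) (.node .leaf (23002, 0, 17, 34028) .leaf)) (23005, 0, 17, 86523) (.node (.node .leaf (23006, 0, 17, 57784) .leaf) (23008, 0, 17, 188038) (.node .leaf (23011, 0, 16, 81058) .leaf))) (23012, 0, 16, 190373) (.node (.node (.node .leaf (23015, 0, 16, 219110) .leaf) (23016, 0, 16, 26466) (.node .leaf (23019, 0, 12, 84829) .leaf)) (23020, 0, 16, 49725) (.node (.node .leaf (23023, 0, 16, 94846) .leaf) (23025, 0, 18, 41510) (.node .leaf (23026, 0, 17, 128758) .leaf)))) (23029, 0, 11, 32662) (.node (.node (.node (.node .leaf (23030, 0, 17, 224359) .leaf) (23033, 0, 14, 18618) (.node .leaf (23034, 0, 15, 129510) .leaf)) (23037, 0, 18, 145319) (.node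 (.node .leaf (23038, 0, 18, 256589) .leaf) (23040, 0, 16, 195288) (.node .leaf (23041, 0, 18, 41974) .leaf))) (23044, 0, 17, 34245) (.node (.node (.node .leaf (23045, 0, 14, 187627) .leaf) (23048, 0, 15, 99171) (.node .leaf (23049, 0, 17, 18794) .leaf)) (23052, 0, 16, 28505) (.node (.node .leaf (23053, 0, 15, 88614) .leaf) (23058, 0, 11, 36491) (.node .leaf (23059, 0, 13, 81266) .leaf))))) (23062, 0, 17, 72513) (.node (.node (.node (.node (.node .leaf (23063, 0, 16, 22478) .leaf) (23066, 0, 15, 233152) (.node .leaf (23067, 0, 14, 150389) .leaf)) (23070, 0, 14, 127453) (.node (.node .leaf (23071, 0, 16, 160342) .leaf) (23072, 0, 17, 44302) (.node .leaf (23073, 0, 16, 122620) .leaf))) (23076, 0, 17, 37933) (.node (.node (.node .leaf (23077, 0, 14, 29771) .leaf) (23080, 0, 12, 166038) (.node .leaf (23081, 0, 16, 157936) .leaf)) (23084, 0, 17, 176565) (.node (.node .leaf (23085, 0, 14, 152019) .leaf) (23090, 0, 17, 230782) (.node .leaf (23091, 0, 16, 16504) .leaf)))) (23094, 0, 15, 26187) (.node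 (.node (.node (.node .leaf (23095, 0, 16, 147301) .leaf) (23098, 0, 18, 193482) (.node .leaf (23099, 0, 17, 43748) .leaf)) (23102, 0, 16, 36055) (.node (.node .leaf (23103, 0, 17, 96675) .leaf) (23106, 0, 18, 84512) (.node .leaf (23107, 0, 11, 97342) .leaf))) (23110, 0, 17, 107899) (.node (.node (.node .leaf (23111, 0, 15, 83229) .leaf) (23114, 0, 17, 106684) (.node .leaf (23115, 0, 15, 260498) .leaf)) (23118, 0, 15, 253857) (.node (.node .leaf (23119, 0, 16, 99983) .leaf) (23120, 0, 14, 54436) (.node .leaf (23121, 0, 16, 167306) .leaf))))))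

/-- part of the orbit tree -/
def itp0_354 : Tree := (.node (.node (.node (.node (.node (.node .leaf (23125, 0, 14, 62103) .leaf) (23128, 0, 11, 15928) (.node .leaf (23129, 0, 13, 29142) .leaf)) (23132, 0, 16, 43155) (.node (.node .leaf (23133, 0, 15, 18677) .leaf) (23138, 0, 14, 14122) (.node .leaf (23139, 0, 16, 159236) .leaf))) (23142, 0, 16, 149559) (.node (.node (.node .leaf (23143, 0, 14, 151272) .leaf) (23146, 0, 16, 56758) (.node .leaf (23147, 0, 18, 165016) .leaf)) (23150, 0, 17, 35606) (.node (.node .leaf (23151, 0, 17, 64389) .leaf) (23152, 0, 17, 108974) (.node .leaf (23153, 0, 13, 90043) .leaf)))) (23156, 0, 15, 251571) (.node (.node (.node (.node .leaf (23157, 0, 16, 91800) .leaf) (23160, 0, 15, 236101) (.node .leaf (23161, 0, 10, 227875) .leaf)) (23164, 0, 15, 212015) (.node (.node .leaf (23165, 0, 18, 213760) .leaf) (23170, 0, 15, 25044) (.node .leaf (23171, 0, 17, 64493) .leaf))) (23174, 0, 17, 22775) (.node (.node (.node .leaf (23175, 0, 15, 165104) .leaf) (23178, 0, 11,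 148556) (.node .leaf (23179, 0, 13, 4465) .leaf)) (23182, 0, 17, 14146) (.node (.node .leaf (23183, 0, 17, 171273) .leaf) (23184, 0, 12, 212039) (.node .leaf (23185, 0, 16, 91497) .leaf))))) (23188, 0, 15, 225415) (.node (.node (.node (.node (.node .leaf (23189, 0, 16, 203380) .leaf) (23192, 0, 16, 251611) (.node .leaf (23193, 0, 17, 102389) .leaf)) (23196, 0, 17, 108998) (.node (.node .leaf (23197, 0, 16, 258280) .leaf) (23202, 0, 15, 253897) (.node .leaf (23203, 0, 18, 232007) .leaf))) (23206, 0, 13, 106708) (.node (.node (.node .leaf (23207, 0, 13, 242532) .leaf) (23210, 0, 14, 210261) (.node .leaf (23211, 0, 17, 93307) .leaf)) (23214, 0, 16, 95898) (.node (.node .leaf (23215, 0, 17, 104188) .leaf) (23216, 0, 15, 147789) (.node .leaf (23217, 0, 15, 41527) .leaf)))) (23220, 0, 14, 15952) (.node (.node (.node (.node .leaf (23221, 0, 16, 39700) .leaf) (23224, 0, 16, 175057) (.node .leaf (23225, 0, 16, 165807) .leaf)) (23228, 0, 16, 155370) (.node (.node .leaf (23229, 0, 14, 179852) .leaf) (23232,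 0, 13, 154487) (.node .leaf (23233, 0, 16, 178961) .leaf))) (23236, 0, 10, 156244) (.node (.node (.node .leaf (23237, 0, 15, 78856) .leaf) (23240, 0, 16, 129191) (.node .leaf (23241, 0, 18, 237961) .leaf)) (23244, 0, 13, 231354) (.node (.node .leaf (23245, 0, 18, 122516) .leaf) (23250, 0, 13, 94983) (.node .leaf (23251, 0, 15, 103265) .leaf))))))

/-- part of the orbit tree -/
def itp0_355 : Tree := (.node (.node (.node (.node (.node (.node .leaf (23255, 0, 16, 109122) .leaf) (23258, 0, 17, 26147) (.node .leaf (23259, 0, 14, 147213) .leaf)) (23262, 0, 17, 225212) (.node (.node .leaf (23263, 0, 19, 233434) .leaf) (23264, 0, 12, 28465) (.node .leaf (23265, 0, 10, 110820) .leaf))) (23268, 0, 19, 135212) (.node (.node (.node .leaf (23269, 0, 14, 18690) .leaf) (23272, 0, 14, 34221) (.node .leaf (23273, 0, 12, 187523) .leaf)) (23276, 0, 17, 195248) (.node (.node .leaf (23277, 0, 16, 41886) .leaf) (23282, 0, 14, 127413) (.node .leaf (23283, 0, 15, 170132) .leaf)))) (23286, 0, 17, 147921) (.node (.node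 (.node (.node .leaf (23287, 0, 13, 120710) .leaf) (23290, 0, 15, 23914) (.node .leaf (23291, 0, 17, 213511) .leaf)) (23294, 0, 17, 25673) (.node (.node .leaf (23295, 0, 16, 81178) .leaf) (23298, 0, 11, 128329) (.node .leaf (23299, 0, 13, 111820) .leaf))) (23302, 0, 14, 93577) (.node (.node (.node .leaf (23303, 0, 15, 119674) .leaf) (23306, 0, 18, 225586) (.node .leaf (23307, 0, 15, 214779) .leaf)) (23310, 0, 15, 215057) (.node (.node .leaf (23311, 0, 14, 80358) .leaf) (23312, 0, 14, 27597) (.node .leaf (23313, 0, 15, 144099) .leaf))))) (23316, 0, 15, 136400) (.node (.node (.node (.node (.node .leaf (23317, 0, 15, 173471) .leaf) (23320, 0, 17, 33105) (.node .leaf (23321, 0, 18, 47396) .leaf)) (23324, 0, 12, 24673) (.node (.node .leaf (23325, 0, 13, 32775) .leaf) (23330, 0, 18, 155487) (.node .leaf (23331, 0, 16, 184685) .leaf))) (23334, 0, 15, 157308) (.node (.node (.node .leaf (23335, 0, 15, 165402) .leaf) (23338, 0, 13, 31431) (.node .leaf (23339, 0, 16, 39585) .leaf)) (23342, 0, 18, 17380)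 (.node (.node .leaf (23343, 0, 16, 41858) .leaf) (23344, 0, 13, 96047) (.node .leaf (23345, 0, 14, 217065) .leaf)))) (23348, 0, 18, 85516) (.node (.node (.node (.node .leaf (23349, 0, 15, 78068) .leaf) (23352, 0, 17, 130139) (.node .leaf (23353, 0, 13, 242385) .leaf)) (23356, 0, 17, 230214) (.node (.node .leaf (23357, 0, 14, 232434) .leaf) (23360, 0, 14, 148913) (.node .leaf (23361, 0, 12, 7327) .leaf))) (23364, 0, 17, 218922) (.node (.node (.node .leaf (23365, 0, 17, 243532) .leaf) (23368, 0, 17, 175917) (.node .leaf (23369, 0, 17, 109559) .leaf)) (23372, 0, 19, 53296) (.node (.node .leaf (23373, 0, 16, 103124) .leaf) (23378, 0, 16, 252725) (.node .leaf (23379, 0, 18, 98843) .leaf))))))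

/-- part of the orbit tree -/
def itp0_356 : Tree := (.node (.node (.node (.node (.node (.node .leaf (23383, 0, 10, 40764) .leaf) (23386, 0, 15, 209321) (.node .leaf (23387, 0, 17, 92295) .leaf)) (23390, 0, 15, 85684) (.node (.node .leaf (23391, 0, 18, 178852) .leaf) (23392, 0, 19, 211131) (.node .leaf (23393, 0, 17, 34202) .leaf))) (23396, 0, 14, 83878) (.node (.node (.node .leaf (23397, 0, 15, 204424) .leaf) (23400, 0, 16, 147556) (.node .leaf (23401, 0, 16, 101129) .leaf)) (23404, 0, 17, 109882) (.node (.node .leaf (23405, 0, 15, 259092) .leaf) (23410, 0, 16, 216460) (.node .leaf (23411, 0, 16, 241130) .leaf)))) (23414, 0, 17, 226479) (.node (.node (.node (.node .leaf (23415, 0, 16, 163852) .leaf) (23418, 0, 16, 150691) (.node .leaf (23419, 0, 16, 5517) .leaf)) (23422, 0, 15, 13246) (.node (.node .leaf (23423, 0, 16, 110929) .leaf) (23424, 0, 13, 168837) (.node .leaf (23425, 0, 17, 160739) .leaf))) (23428, 0, 18, 174758) (.node (.node (.node .leaf (23429, 0, 17, 150208) .leaf) (23432, 0,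 15, 83918) (.node .leaf (23433, 0, 16, 204512) .leaf)) (23436, 0, 15, 211155) (.node (.node .leaf (23437, 0, 18, 28504) .leaf) (23442, 0, 13, 113653) (.node .leaf (23443, 0, 19, 88979) .leaf))))) (23446, 0, 17, 150731) (.node (.node (.node (.node (.node .leaf (23447, 0, 18, 90800) .leaf) (23450, 0, 17, 55626) (.node .leaf (23451, 0, 18, 163940) .leaf)) (23454, 0, 17, 173655) (.node (.node .leaf (23455, 0, 16, 214824) .leaf) (23456, 0, 17, 53336) (.node .leaf (23457, 0, 17, 96278) .leaf))) (23460, 0, 15, 106835) (.node (.node (.node .leaf (23461, 0, 15, 82229) .leaf) (23464, 0, 17, 15044) (.node .leaf (23465, 0, 17, 156650) .leaf)) (23468, 0, 15, 230603) (.node (.node .leaf (23469, 0, 16, 222381) .leaf) (23474, 0, 18, 85724) (.node .leaf (23475, 0, 18, 151654) .leaf)))) (23478, 0, 13, 209345) (.node (.node (.node (.node .leaf (23479, 0, 16, 92399) .leaf) (23482, 0, 15, 107584) (.node .leaf (23483, 0, 14, 30206) .leaf)) (23486, 0, 16, 252765) (.node (.node .leaf (23487, 0, 13, 98931) .leaf) (23490,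 0, 16, 43302) (.node .leaf (23491, 0, 15, 17540) .leaf))) (23494, 0, 16, 25271) (.node (.node (.node .leaf (23495, 0, 15, 28771) .leaf) (23498, 0, 17, 167102) (.node .leaf (23499, 0, 17, 44568) .leaf)) (23502, 0, 15, 34859) (.node (.node .leaf (23503, 0, 14, 153083) .leaf) (23504, 0, 16, 229718) .leaf)))))

/-- part of the orbit tree -/
def itp0_357 : Tree := (.node itp0_353 (23124, 0, 16, 167179) itp0_354)

/-- part of the orbit tree -/
def itp0_358 : Tree := (.node itp0_355 (23382, 0, 17, 32602) itp0_356)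

/-- part of the orbit tree -/
def itp0_359 : Tree := (.node itp0_351 (22740, 0, 16, 13937) itp0_352)

/-- part of the orbit tree -/
def itp0_360 : Tree := (.node itp0_357 (23254, 0, 16, 84516) itp0_358)

/-- part of the orbit tree -/
def itp0_361 : Tree := (.node (.node (.node (.node (.node (.node .leaf (23508, 0, 17, 130099) .leaf) (23509, 0, 16, 238877) (.node .leaf (23512, 0, 17, 223666) .leaf)) (23513, 0, 11, 83112) (.node (.node .leaf (23516, 0, 15, 105965) .leaf) (23517, 0, 15, 216961) (.node .leaf (23522, 0, 15, 221344) .leaf))) (23523, 0, 18, 80270) (.node (.node (.node .leaf (23526, 0, 16, 73661) .leaf) (23527, 0, 18, 214675) (.node .leaf (23530, 0, 16, 100171) .leaf)) (23531, 0, 14, 119570) (.node (.node .leaf (23534, 0, 16, 114280) .leaf) (23535, 0, 17, 240655) (.node .leaf (23536, 0, 14, 196132) .leaf)))) (23537, 0, 16, 27333) (.node (.node (.node (.node .leaf (23540, 0, 17, 45952) .leaf) (23541, 0, 17, 186391) (.node .leaf (23544, 0, 14, 175931) .leaf)) (23545, 0, 17, 151389)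 (.node (.node .leaf (23548, 0, 15, 169496) .leaf) (23549, 0, 17, 161406) (.node .leaf (23552, 0, 15, 167971) .leaf))) (23554, 0, 18, 137842) (.node (.node (.node .leaf (23556, 0, 17, 232733) .leaf) (23558, 0, 17, 260389) (.node .leaf (23560, 0, 18, 46523) .leaf)) (23562, 0, 18, 192750) (.node (.node .leaf (23564, 0, 16, 223105) .leaf) (23566, 0, 15, 122045) (.node .leaf (23569, 0, 15, 122328) .leaf))))) (23571, 0, 17, 144810) (.node (.node (.node (.node (.node .leaf (23573, 0, 17, 238277) .leaf) (23575, 0, 16, 19127) (.node .leaf (23577, 0, 14, 79684) .leaf)) (23579, 0, 17, 228781) (.node (.node .leaf (23581, 0, 16, 136363) .leaf) (23583, 0, 13, 41003) (.node .leaf (23584, 0, 17, 105430) .leaf))) (23586, 0, 16, 52211) (.node (.node (.node .leaf (23588, 0, 19, 107253) .leaf) (23590, 0, 14, 62160) (.node .leaf (23592, 0, 14, 245326) .leaf)) (23594, 0, 17, 192107) (.node (.node .leaf (23596, 0, 17, 137867) .leaf) (23598, 0, 16, 186184) (.node .leaf (23601, 0, 12, 41170) .leaf)))) (23603, 0, 14,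 152512) (.node (.node (.node (.node .leaf (23605, 0, 14, 211654) .leaf) (23607, 0, 14, 79805) (.node .leaf (23609, 0, 16, 75389) .leaf)) (23611, 0, 16, 238140) (.node (.node .leaf (23613, 0, 16, 144723) .leaf) (23615, 0, 18, 122145) (.node .leaf (23617, 0, 14, 258980) .leaf))) (23619, 0, 15, 19174) (.node (.node (.node .leaf (23621, 0, 17, 101561) .leaf) (23623, 0, 16, 156875) (.node .leaf (23625, 0, 16, 212827) .leaf)) (23627, 0, 13, 61770) (.node (.node .leaf (23629, 0, 17, 198264) .leaf) (23631, 0, 14, 167511) (.node .leaf (23632, 0, 11, 253052) .leaf))))))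

/-- part of the orbit tree -/
def itp0_362 : Tree := (.node (.node (.node (.node (.node (.node .leaf (23636, 0, 16, 107361) .leaf) (23638, 0, 15, 150291) (.node .leaf (23640, 0, 18, 210656) .leaf)) (23642, 0, 15, 56978) (.node (.node .leaf (23644, 0, 17, 106059) .leaf) (23646, 0, 16, 172431) (.node .leaf (23649, 0, 17, 167598) .leaf))) (23651, 0, 17, 91868) (.node (.node (.node .leaf (23653, 0, 17, 61875) .leaf) (23655, 0, 15, 227376) (.node .leaf (23657, 0, 15, 13486) .leaf)) (23659, 0, 18, 91275) (.node (.node .leaf (23661, 0, 16, 6959) .leaf) (23663, 0, 16, 258909) (.node .leaf (23664, 0, 17, 35077) .leaf)))) (23666, 0, 17, 84228) (.node (.node (.node (.node .leaf (23668, 0, 15, 56939) .leaf) (23670, 0, 16, 210457) (.node .leaf (23672, 0, 11, 175261) .leaf)) (23674, 0, 17, 107416) (.node (.node .leaf (23676, 0, 16, 13559) .leaf) (23678, 0, 17, 253061) (.node .leaf (23681, 0, 18, 6983) .leaf))) (23683, 0, 19, 112490) (.node (.node (.node .leaf (23685, 0, 14, 56940) .leaf) (23687, 0, 17,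 101961) (.node .leaf (23689, 0, 11, 180951) .leaf)) (23691, 0, 18, 234226) (.node (.node .leaf (23693, 0, 18, 195572) .leaf) (23695, 0, 19, 240593) (.node .leaf (23696, 0, 15, 13471) .leaf))))) (23698, 0, 16, 253165) (.node (.node (.node (.node (.node .leaf (23700, 0, 19, 150402) .leaf) (23702, 0, 18, 202362) (.node .leaf (23704, 0, 18, 56835) .leaf)) (23706, 0, 13, 210545) (.node (.node .leaf (23708, 0, 15, 172318) .leaf) (23710, 0, 15, 78818) (.node .leaf (23713, 0, 14, 257210) .leaf))) (23715, 0, 15, 179359) (.node (.node (.node .leaf (23717, 0, 16, 251289) .leaf) (23719, 0, 15, 165308) (.node .leaf (23721, 0, 16, 101585) .leaf)) (23723, 0, 17, 39175) (.node (.node .leaf (23725, 0, 16, 259020) .leaf) (23727, 0, 15, 7102) (.node .leaf (23728, 0, 17, 84373) .leaf)))) (23730, 0, 16, 9388) (.node (.node (.node (.node .leaf (23732, 0, 9, 210568) .leaf) (23734, 0, 17, 7567) (.node .leaf (23736, 0, 12, 217361) .leaf)) (23738, 0, 17, 131380) (.node (.node .leaf (23740, 0, 14, 223282) .leaf) (23742,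 0, 18, 145431) (.node .leaf (23744, 0, 14, 224687) .leaf))) (23746, 0, 17, 127633) (.node (.node (.node .leaf (23748, 0, 16, 26110) .leaf) (23750, 0, 17, 232844) (.node .leaf (23752, 0, 16, 192639) .leaf)) (23754, 0, 17, 6162) (.node (.node .leaf (23756, 0, 17, 94484) .leaf) (23758, 0, 16, 8497) (.node .leaf (23761, 0, 18, 128412) .leaf))))))

/-- part of the orbit tree -/
def itp0_363 : Tree := (.node (.node (.node (.node (.node (.node .leaf (23765, 0, 17, 117951) .leaf) (23767, 0, 16, 40090) (.node .leaf (23769, 0, 14, 188327) .leaf)) (23771, 0, 14, 79829) (.node (.node .leaf (23773, 0, 13, 256295) .leaf) (23775, 0, 15, 215240) (.node .leaf (23776, 0, 15, 26202) .leaf))) (23778, 0, 15, 36763) (.node (.node (.node .leaf (23780, 0, 15, 24441) .leaf) (23782, 0, 13, 69468) (.node .leaf (23784, 0, 18, 232821) .leaf)) (23786, 0, 18, 201703) (.node (.node .leaf (23788, 0, 12, 127592) .leaf) (23790, 0, 16, 137754) (.node .leaf (23793, 0, 17, 215089) .leaf)))) (23795, 0, 17, 241228) (.node (.node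 (.node (.node .leaf (23797, 0, 15, 79660) .leaf) (23799, 0, 17, 188254) (.node .leaf (23801, 0, 17, 238253) .leaf)) (23803, 0, 14, 101332) (.node (.node .leaf (23805, 0, 13, 58066) .leaf) (23807, 0, 17, 144834) (.node .leaf (23809, 0, 17, 119345) .leaf))) (23811, 0, 16, 42175) (.node (.node (.node .leaf (23813, 0, 16, 125714) .leaf) (23815, 0, 13, 47927) (.node .leaf (23817, 0, 18, 260009) .leaf)) (23819, 0, 18, 173964) (.node (.node .leaf (23821, 0, 13, 121164) .leaf) (23823, 0, 17, 143678) (.node .leaf (23824, 0, 17, 215554) .leaf))))) (23826, 0, 15, 35687) (.node (.node (.node (.node (.node .leaf (23828, 0, 17, 72712) .leaf) (23830, 0, 16, 193658) (.node .leaf (23832, 0, 13, 94106) .leaf)) (23834, 0, 12, 16319) (.node (.node .leaf (23836, 0, 17, 87737) .leaf) (23838, 0, 15, 138982) (.node .leaf (23841, 0, 17, 143815) .leaf))) (23843, 0, 14, 231905) (.node (.node (.node .leaf (23845, 0, 15, 20186) .leaf) (23847, 0, 14, 241858) (.node .leaf (23849, 0, 14, 64604) .leaf)) (23851, 0, 17, 109689)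 (.node (.node .leaf (23853, 0, 17, 42054) .leaf) (23855, 0, 15, 103770) (.node .leaf (23856, 0, 15, 138783) .leaf)))) (23858, 0, 14, 70098) (.node (.node (.node (.node .leaf (23860, 0, 14, 30932) .leaf) (23862, 0, 17, 76017) (.node .leaf (23864, 0, 16, 193667) .leaf)) (23866, 0, 15, 72945) (.node (.node .leaf (23868, 0, 15, 154956) .leaf) (23870, 0, 18, 222188) (.node .leaf (23872, 0, 18, 85353) .leaf))) (23874, 0, 16, 198900) (.node (.node (.node .leaf (23876, 0, 14, 209524) .leaf) (23878, 0, 17, 209367) (.node .leaf (23880, 0, 16, 32073) .leaf)) (23882, 0, 14, 151431) (.node (.node .leaf (23884, 0, 14, 17514) .leaf) (23886, 0, 18, 12442) (.node .leaf (23889, 0, 16, 90801) .leaf))))))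

/-- part of the orbit tree -/
def itp0_364 : Tree := (.node (.node (.node (.node (.node (.node .leaf (23893, 0, 15, 204204) .leaf) (23895, 0, 17, 62942) (.node .leaf (23897, 0, 17, 189818) .leaf)) (23899, 0, 15, 155743) (.node (.node .leaf (23901, 0, 15, 187481) .leaf) (23903, 0, 14, 8002) (.node .leaf (23904, 0, 13, 86820) .leaf))) (23906, 0, 14, 769) (.node (.node (.node .leaf (23908, 0, 14, 151422) .leaf) (23910, 0, 16, 14882) (.node .leaf (23912, 0, 18, 227004) .leaf)) (23914, 0, 14, 209549) (.node (.node .leaf (23916, 0, 17, 173538) .leaf) (23918, 0, 18, 139194) (.node .leaf (23921, 0, 15, 8123) .leaf)))) (23923, 0, 19, 170802) (.node (.node (.node (.node .leaf (23925, 0, 17, 258612) .leaf) (23927, 0, 14, 172561) (.node .leaf (23929, 0, 14, 126607) .leaf)) (23931, 0, 10, 48810) (.node (.node .leaf (23933, 0, 16, 120748) .leaf) (23935, 0, 17, 34697) (.node .leaf (23936, 0, 14, 173450) .leaf))) (23938, 0, 12, 193912) (.node (.node (.node .leaf (23940, 0, 18, 55959) .leaf) (23942, 0, 15,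 183387) (.node .leaf (23944, 0, 17, 98501) .leaf)) (23946, 0, 13, 53472) (.node (.node .leaf (23948, 0, 17, 12299) .leaf) (23950, 0, 16, 59843) (.node .leaf (23953, 0, 16, 166482) .leaf))))) (23955, 0, 17, 27979) (.node (.node (.node (.node (.node .leaf (23957, 0, 16, 66637) .leaf) (23959, 0, 15, 204093) (.node .leaf (23961, 0, 18, 155854) .leaf)) (23963, 0, 17, 149715) (.node (.node .leaf (23965, 0, 14, 8147) .leaf) (23967, 0, 16, 160240) (.node .leaf (23968, 0, 16, 44712) .leaf))) (23970, 0, 16, 12530) (.node (.node (.node .leaf (23972, 0, 17, 38795) .leaf) (23974, 0, 12, 116654) (.node .leaf (23976, 0, 17, 166704) .leaf)) (23978, 0, 17, 252693) (.node (.node .leaf (23980, 0, 15, 85249) .leaf) (23982, 0, 18, 254518) (.node .leaf (23985, 0, 16, 259928) .leaf)))) (23987, 0, 18, 222910) (.node (.node (.node (.node .leaf (23989, 0, 15, 135096) .leaf) (23991, 0, 17, 155703) (.node .leaf (23993, 0, 12, 204228) .leaf)) (23995, 0, 16, 82726) (.node (.node .leaf (23997, 0, 16, 10784) .leaf) (23999,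 0, 13, 166571) (.node .leaf (24001, 0, 16, 12221) .leaf))) (24003, 0, 10, 98200) (.node (.node (.node .leaf (24005, 0, 12, 187187) .leaf) (24007, 0, 19, 78657) (.node .leaf (24009, 0, 13, 20146) .leaf)) (24011, 0, 17, 219648) (.node (.node .leaf (24013, 0, 12, 144134) .leaf) (24015, 0, 17, 221987) (.node .leaf (24016, 0, 15, 178062) .leaf))))))

/-- part of the orbit tree -/
def itp0_365 : Tree := (.node itp0_361 (23634, 0, 14, 13326) itp0_362)

/-- part of the orbit tree -/
def itp0_366 : Tree := (.node itp0_363 (23891, 0, 13, 166595) itp0_364)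

/-- part of the orbit tree -/
def itp0_367 : Tree := (.node (.node (.node (.node (.node (.node .leaf (24020, 0, 17, 167597) .leaf) (24022, 0, 15, 253576) (.node .leaf (24024, 0, 13, 24938) .leaf)) (24026, 0, 15, 115251) (.node (.node .leaf (24028, 0, 14, 138871) .leaf) (24030, 0, 17, 128517) (.node .leaf (24033, 0, 15, 121124) .leaf))) (24035, 0, 12, 160877) (.node (.node (.node .leaf (24037, 0, 18, 204139) .leaf) (24039, 0, 18, 20043) (.node .leaf (24041, 0, 14, 78776) .leaf)) (24043, 0, 15, 187338) (.node (.node .leaf (24045, 0, 15, 80115) .leaf) (24047, 0, 18, 42199) (.node .leaf (24048, 0, 19, 113787) .leaf)))) (24050, 0, 15, 138894) (.node (.node (.node (.node .leaf (24052, 0, 14, 231905) .leaf) (24054, 0, 15, 54653) (.node .leaf (24056, 0, 17, 236003) .leaf)) (24058, 0, 13, 193554) (.node (.node .leaf (24060, 0, 16, 222077) .leaf) (24062, 0, 15, 192741) (.node .leaf (24080, 0, 16, 229850) .leaf))) (24081, 0, 15, 9312) (.node (.node (.node .leaf (24082, 0, 16, 27048) .leaf) (24083, 0,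 14, 95301) (.node .leaf (24084, 0, 15, 130759) .leaf)) (24085, 0, 15, 239593) (.node (.node .leaf (24086, 0, 14, 109824) .leaf) (24087, 0, 16, 85350) (.node .leaf (24088, 0, 14, 188830) .leaf))))) (24089, 0, 15, 131576) (.node (.node (.node (.node (.node .leaf (24090, 0, 15, 33588) .leaf) (24091, 0, 16, 217565) (.node .leaf (24092, 0, 14, 186557) .leaf)) (24093, 0, 15, 145627) (.node (.node .leaf (24094, 0, 12, 195625) .leaf) (24095, 0, 12, 42247) (.node .leaf (24112, 0, 12, 249843) .leaf))) (24113, 0, 15, 208789) (.node (.node (.node .leaf (24114, 0, 17, 70818) .leaf) (24115, 0, 16, 163760) (.node .leaf (24116, 0, 16, 259792) .leaf)) (24117, 0, 15, 187107) (.node (.node .leaf (24118, 0, 14, 173813) .leaf) (24119, 0, 12, 78481) (.node .leaf (24120, 0, 15, 136780) .leaf)))) (24121, 0, 15, 20322) (.node (.node (.node (.node .leaf (24122, 0, 16, 130622) .leaf) (24123, 0, 13, 23080) (.node .leaf (24124, 0, 17, 119624) .leaf)) (24125, 0, 15, 143487) (.node (.node .leaf (24126, 0, 15, 229667) .leaf)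 (24127, 0, 13, 25355) (.node .leaf (24128, 0, 16, 110502) .leaf))) (24129, 0, 16, 259720) (.node (.node (.node .leaf (24130, 0, 14, 34544) .leaf) (24131, 0, 11, 26262) (.node .leaf (24132, 0, 17, 250043) .leaf)) (24133, 0, 17, 100757) (.node (.node .leaf (24134, 0, 13, 49107) .leaf) (24135, 0, 16, 24501) (.node .leaf (24136, 0, 17, 258893) .leaf))))))

/-- part of the orbit tree -/
def itp0_368 : Tree := (.node (.node (.node (.node (.node (.node .leaf (24138, 0, 16, 175432) .leaf) (24139, 0, 15, 148238) (.node .leaf (24140, 0, 17, 211495) .leaf)) (24141, 0, 17, 90889) (.node (.node .leaf (24142, 0, 17, 170571) .leaf) (24143, 0, 16, 166779) (.node .leaf (24160, 0, 17, 53932) .leaf))) (24161, 0, 15, 146758) (.node (.node (.node .leaf (24162, 0, 14, 232709) .leaf) (24163, 0, 15, 91120) (.node .leaf (24164, 0, 16, 189443) .leaf)) (24165, 0, 18, 62623) (.node (.node .leaf (24166, 0, 17, 83395) .leaf) (24167, 0, 13, 218176) (.node .leaf (24168, 0, 15, 14384) .leaf)))) (24169, 0, 17, 155934) (.node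 (.node (.node (.node .leaf (24170, 0, 16, 249922) .leaf) (24171, 0, 17, 84219) (.node .leaf (24172, 0, 15, 149293) .leaf)) (24173, 0, 16, 8701) (.node (.node .leaf (24174, 0, 17, 110431) .leaf) (24175, 0, 14, 94680) (.node .leaf (24192, 0, 14, 11097) .leaf))) (24193, 0, 17, 52031) (.node (.node (.node .leaf (24194, 0, 5, 110391) .leaf) (24195, 0, 17, 105242) (.node .leaf (24196, 0, 18, 4730) .leaf)) (24197, 0, 17, 61980) (.node (.node .leaf (24198, 0, 16, 249898) .leaf) (24199, 0, 16, 107065) (.node .leaf (24200, 0, 16, 134849) .leaf))))) (24201, 0, 17, 62711) (.node (.node (.node (.node (.node .leaf (24202, 0, 10, 83371) .leaf) (24203, 0, 16, 245378) (.node .leaf (24204, 0, 13, 145378) .leaf)) (24205, 0, 15, 186244) (.node (.node .leaf (24206, 0, 12, 223175) .leaf) (24207, 0, 17, 91032) (.node .leaf (24224, 0, 17, 204972) .leaf))) (24225, 0, 16, 90977) (.node (.node (.node .leaf (24226, 0, 17, 53821) .leaf) (24227, 0, 13, 168175) (.node .leaf (24228, 0, 14, 203151) .leaf)) (24229, 0, 14, 203900)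 (.node (.node .leaf (24230, 0, 12, 149930) .leaf) (24231, 0, 16, 62478) (.node .leaf (24232, 0, 16, 250067) .leaf)))) (24233, 0, 17, 100861) (.node (.node (.node (.node .leaf (24234, 0, 16, 21777) .leaf) (24235, 0, 15, 46455) (.node .leaf (24236, 0, 16, 110542) .leaf)) (24237, 0, 15, 259808) (.node (.node .leaf (24238, 0, 12, 149436) .leaf) (24239, 0, 16, 7826) (.node .leaf (24272, 0, 14, 80266) .leaf))) (24273, 0, 15, 121324) (.node (.node (.node .leaf (24274, 0, 16, 27055) .leaf) (24275, 0, 17, 120933) (.node .leaf (24276, 0, 14, 136740) .leaf)) (24277, 0, 17, 20234) (.node (.node .leaf (24278, 0, 17, 130646) .leaf) (24279, 0, 15, 45290) (.node .leaf (24280, 0, 15, 33701) .leaf))))))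

/-- part of the orbit tree -/
def itp0_369 : Tree := (.node (.node (.node (.node (.node (.node .leaf (24282, 0, 13, 150583) .leaf) (24283, 0, 16, 175185) (.node .leaf (24284, 0, 15, 206129) .leaf)) (24285, 0, 17, 247127) (.node (.node .leaf (24286, 0, 16, 70858) .leaf) (24287, 0, 15, 216548) (.node .leaf (24304, 0, 14, 70707) .leaf))) (24305, 0, 14, 184857) (.node (.node (.node .leaf (24306, 0, 15, 221786) .leaf) (24307, 0, 16, 229948) (.node .leaf (24308, 0, 17, 224046) .leaf)) (24309, 0, 15, 191290) (.node (.node .leaf (24310, 0, 16, 33628) .leaf) (24311, 0, 17, 186994) (.node .leaf (24312, 0, 15, 6119) .leaf)))) (24313, 0, 8, 239489) (.node (.node (.node (.node .leaf (24314, 0, 14, 83906) .leaf) (24315, 0, 17, 108452) (.node .leaf (24316, 0, 17, 229810) .leaf)) (24317, 0, 17, 52898) (.node (.node .leaf (24318, 0, 16, 27072) .leaf) (24319, 0, 16, 106119) (.node .leaf (24320, 0, 16, 69839) .leaf))) (24321, 0, 16, 215521) (.node (.node (.node .leaf (24322, 0, 17, 19970) .leaf) (24323, 0, 12,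 44644) (.node .leaf (24324, 0, 14, 75524) .leaf)) (24325, 0, 18, 116578) (.node (.node .leaf (24326, 0, 15, 30497) .leaf) (24327, 0, 15, 38727) (.node .leaf (24328, 0, 18, 211903) .leaf))))) (24329, 0, 17, 252889) (.node (.node (.node (.node (.node .leaf (24330, 0, 18, 158618) .leaf) (24331, 0, 14, 166908) (.node .leaf (24332, 0, 15, 230734) .leaf)) (24333, 0, 14, 254714) (.node (.node .leaf (24334, 0, 16, 152249) .leaf) (24335, 0, 16, 176863) (.node .leaf (24352, 0, 12, 136658) .leaf))) (24353, 0, 18, 193972) (.node (.node (.node .leaf (24354, 0, 16, 230839) .leaf) (24355, 0, 14, 238993) (.node .leaf (24356, 0, 16, 142577) .leaf)) (24357, 0, 15, 19446) (.node (.node .leaf (24358, 0, 15, 129706) .leaf) (24359, 0, 15, 236722) (.node .leaf (24360, 0, 16, 12362) .leaf)))) (24361, 0, 13, 53292) (.node (.node (.node (.node .leaf (24362, 0, 14, 90223) .leaf) (24363, 0, 19, 98313) (.node .leaf (24364, 0, 17, 194628) .leaf)) (24365, 0, 18, 41322) (.node (.node .leaf (24366, 0, 16, 88396) .leaf) (24367,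 0, 17, 215320) (.node .leaf (24400, 0, 14, 212659) .leaf))) (24401, 0, 15, 60562) (.node (.node (.node .leaf (24402, 0, 16, 89297) .leaf) (24403, 0, 14, 113847) (.node .leaf (24404, 0, 18, 82350) .leaf)) (24405, 0, 15, 202880) (.node (.node .leaf (24406, 0, 17, 91634) .leaf) (24407, 0, 16, 61682) (.node .leaf (24408, 0, 11, 141676) .leaf))))))

/-- part of the orbit tree -/
def itp0_370 : Tree := (.node (.node (.node (.node (.node (.node .leaf (24410, 0, 18, 227657) .leaf) (24411, 0, 16, 235823) (.node .leaf (24412, 0, 18, 109362) .leaf)) (24413, 0, 14, 192553) (.node (.node .leaf (24414, 0, 15, 148288) .leaf) (24415, 0, 16, 6766) (.node .leaf (24432, 0, 14, 148409) .leaf))) (24433, 0, 15, 6807) (.node (.node (.node .leaf (24434, 0, 17, 153380) .leaf) (24435, 0, 16, 258789) (.node .leaf (24436, 0, 12, 15524) .leaf)) (24437, 0, 15, 157066) (.node (.node .leaf (24438, 0, 17, 159239) .leaf) (24439, 0, 13, 167521) (.node .leaf (24440, 0, 14, 74393) .leaf)))) (24441, 0, 14, 61451) (.node (.node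 (.node (.node .leaf (24442, 0, 18, 82263) .leaf) (24443, 0, 12, 202873) (.node .leaf (24444, 0, 16, 54840) .leaf)) (24445, 0, 17, 130012) (.node (.node .leaf (24446, 0, 16, 19359) .leaf) (24447, 0, 18, 92004) (.node .leaf (24464, 0, 17, 127352) .leaf))) (24465, 0, 17, 167806) (.node (.node (.node .leaf (24466, 0, 16, 41309) .leaf) (24467, 0, 17, 91916) (.node .leaf (24468, 0, 12, 116827) .leaf)) (24469, 0, 17, 61539) (.node (.node .leaf (24470, 0, 15, 39038) .leaf) (24471, 0, 16, 202769) (.node .leaf (24472, 0, 14, 15564) .leaf))))) (24473, 0, 17, 210054) (.node (.node (.node (.node (.node .leaf (24474, 0, 16, 251070) .leaf) (24475, 0, 18, 156835) (.node .leaf (24476, 0, 13, 148433) .leaf)) (24477, 0, 15, 200101) (.node (.node .leaf (24478, 0, 15, 179686) .leaf) (24479, 0, 16, 258701) (.node .leaf (24496, 0, 16, 109402) .leaf))) (24497, 0, 16, 137963) (.node (.node (.node .leaf (24498, 0, 14, 148264) .leaf) (24499, 0, 17, 6662) (.node .leaf (24500, 0, 17, 250951) .leaf)) (24501, 0, 15, 140232)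 (.node (.node .leaf (24502, 0, 13, 234379) .leaf) (24503, 0, 16, 226285) (.node .leaf (24504, 0, 17, 82374) .leaf)))) (24505, 0, 17, 202984) (.node (.node (.node (.node .leaf (24506, 0, 15, 102192) .leaf) (24507, 0, 17, 61594) (.node .leaf (24508, 0, 17, 212699) .leaf)) (24509, 0, 17, 1616) (.node (.node .leaf (24510, 0, 18, 112147) .leaf) (24511, 0, 14, 87669) (.node .leaf (24512, 0, 16, 58283) .leaf))) (24513, 0, 19, 973) (.node (.node (.node .leaf (24514, 0, 17, 69726) .leaf) (24515, 0, 16, 215408) (.node .leaf (24516, 0, 17, 34609) .leaf)) (24517, 0, 16, 15086) (.node (.node .leaf (24518, 0, 17, 225091) .leaf) (24519, 0, 14, 79469) .leaf)))))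

/-- part of the orbit tree -/
def itp0_371 : Tree := (.node itp0_367 (24137, 0, 12, 203796) itp0_368)

/-- part of the orbit tree -/
def itp0_372 : Tree := (.node itp0_369 (24409, 0, 15, 101633) itp0_370)

/-- part of the orbit tree -/
def itp0_373 : Tree := (.node itp0_365 (23763, 0, 18, 122185) itp0_366)

/-- part of the orbit tree -/
def itp0_374 : Tree := (.node itp0_371 (24281, 0, 13, 187019) itp0_372)

/-- part of the orbit tree -/
def itp0_375 : Tree := (.node itp0_359 (22997, 0, 17, 226403) itp0_360)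

/-- part of the orbit tree -/
def itp0_376 : Tree := (.node itp0_373 (24018, 0, 13, 255915) itp0_374)

/-- part of the orbit tree -/
def itp0_377 : Tree := (.node itp0_345 (21461, 0, 17, 253986) itp0_346)

/-- part of the orbit tree -/
def itp0_378 : Tree := (.node itp0_375 (23505, 0, 15, 221488) itp0_376)

/-- part of the orbit tree -/
def itp0_379 : Tree := (.node itp0_315 (18394, 0, 17, 165197) itp0_316)

/-- part of the orbit tree -/
def itp0_380 : Tree := (.node itp0_377 (22482, 0, 18, 205719) itp0_378)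

/-- part of the orbit tree -/
def itp0_381 : Tree := (.node (.node (.node (.node (.node (.node .leaf (24521, 0, 11, 19358) .leaf) (24522, 0, 17, 129730) (.node .leaf (24523, 0, 15, 238572) .leaf)) (24524, 0, 10, 28077) (.node (.node .leaf (24525, 0, 15, 139126) .leaf) (24526, 0, 13, 230879) (.node .leaf (24527, 0, 16, 122097) .leaf))) (24544, 0, 17, 230694) (.node (.node (.node .leaf (24545, 0, 16, 198712) .leaf) (24546, 0, 18, 178299) (.node .leaf (24547, 0, 14, 144506) .leaf)) (24548, 0, 17, 250237) (.node (.node .leaf (24549, 0, 16, 238357) .leaf) (24550, 0, 16, 164184) (.node .leaf (24551, 0, 17, 19303) .leaf)))) (24552, 0, 15, 118214) (.node (.node (.node (.node .leaf (24553, 0, 17, 77216) .leaf) (24554, 0, 17, 40419) (.node .leaf (24555, 0, 13, 32133) .leaf)) (24556, 0, 16, 128229) (.node (.node .leaf (24557, 0, 18, 215433) .leaf) (24558, 0, 16, 42176) (.node .leaf (24559, 0, 16, 17574) .leaf))) (24576, 0, 14, 144057) (.node (.node (.node .leaf (24579, 0, 18, 230138) .leaf) (24581, 0,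 16, 54710) (.node .leaf (24582, 0, 17, 91370) .leaf)) (24585, 0, 16, 63303) (.node (.node .leaf (24586, 0, 12, 83716) .leaf) (24588, 0, 11, 157188) (.node .leaf (24591, 0, 18, 251736) .leaf))))) (24592, 0, 18, 165235) (.node (.node (.node (.node (.node .leaf (24595, 0, 16, 129711) .leaf) (24597, 0, 15, 172864) (.node .leaf (24598, 0, 17, 201244) .leaf)) (24601, 0, 15, 167698) (.node (.node .leaf (24602, 0, 17, 212817) .leaf) (24604, 0, 18, 153175) (.node .leaf (24607, 0, 14, 255508) .leaf))) (24608, 0, 15, 102031) (.node (.node (.node .leaf (24611, 0, 14, 35087) .leaf) (24613, 0, 15, 122889) (.node .leaf (24614, 0, 16, 6624) .leaf)) (24617, 0, 15, 261298) (.node (.node .leaf (24618, 0, 16, 167009) .leaf) (24620, 0, 14, 203534) (.node .leaf (24623, 0, 12, 174674) .leaf)))) (24624, 0, 18, 260217) (.node (.node (.node (.node .leaf (24627, 0, 14, 192858) .leaf) (24629, 0, 17, 253514) (.node .leaf (24630, 0, 15, 159510) .leaf)) (24633, 0, 15, 99559) (.node (.node .leaf (24634, 0, 15, 64151) .leaf)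 (24636, 0, 16, 93688) (.node .leaf (24639, 0, 14, 56484) .leaf))) (24641, 0, 14, 112729) (.node (.node (.node .leaf (24642, 0, 17, 2074) .leaf) (24644, 0, 15, 185362) (.node .leaf (24647, 0, 17, 222542) .leaf)) (24648, 0, 16, 228775) (.node (.node .leaf (24651, 0, 16, 127183) .leaf) (24653, 0, 12, 238818) (.node .leaf (24654, 0, 14, 136353) .leaf))))))

/-- part of the orbit tree -/
def itp0_382 : Tree := (.node (.node (.node (.node (.node (.node .leaf (24658, 0, 14, 159823) .leaf) (24660, 0, 13, 41700) (.node .leaf (24663, 0, 18, 174346) .leaf)) (24664, 0, 16, 145253) (.node (.node .leaf (24667, 0, 17, 230969) .leaf) (24669, 0, 14, 135510) (.node .leaf (24670, 0, 15, 237578) .leaf))) (24673, 0, 11, 177068) (.node (.node (.node .leaf (24674, 0, 14, 147063) .leaf) (24676, 0, 14, 158441) (.node .leaf (24679, 0, 18, 137284) .leaf)) (24680, 0, 17, 81049) (.node (.node .leaf (24683, 0, 15, 36293) .leaf) (24685, 0, 16, 72362) (.node .leaf (24686, 0, 16, 73556) .leaf)))) (24689, 0, 16, 129501) (.node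 (.node (.node (.node .leaf (24690, 0, 12, 18561) .leaf) (24692, 0, 14, 122862) (.node .leaf (24695, 0, 16, 107263) .leaf)) (24696, 0, 15, 215663) (.node (.node .leaf (24699, 0, 16, 195379) .leaf) (24701, 0, 15, 224348) (.node .leaf (24702, 0, 17, 187648) .leaf))) (24705, 0, 15, 72386) (.node (.node (.node .leaf (24706, 0, 15, 43934) .leaf) (24708, 0, 16, 40080) (.node .leaf (24711, 0, 18, 77011) .leaf)) (24712, 0, 15, 239984) (.node (.node .leaf (24715, 0, 12, 137260) .leaf) (24717, 0, 15, 153966) (.node .leaf (24718, 0, 17, 256301) .leaf))))) (24721, 0, 18, 224308) (.node (.node (.node (.node (.node .leaf (24722, 0, 16, 232899) .leaf) (24724, 0, 19, 215559) (.node .leaf (24727, 0, 15, 195419) .leaf)) (24728, 0, 16, 63614) (.node (.node .leaf (24731, 0, 12, 84029) .leaf) (24733, 0, 18, 8507) (.node .leaf (24734, 0, 19, 102776) .leaf))) (24737, 0, 14, 26568) (.node (.node (.node .leaf (24738, 0, 15, 196195) .leaf) (24740, 0, 15, 235365) (.node .leaf (24743, 0, 16, 127143) .leaf)) (24744, 0,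 10, 101342) (.node (.node .leaf (24747, 0, 14, 15261) .leaf) (24749, 0, 15, 86683) (.node .leaf (24750, 0, 16, 58072) .leaf)))) (24753, 0, 18, 79477) (.node (.node (.node (.node .leaf (24754, 0, 16, 34358) .leaf) (24756, 0, 15, 126768) (.node .leaf (24759, 0, 17, 24435) .leaf)) (24760, 0, 14, 41612) (.node (.node .leaf (24763, 0, 14, 70608) .leaf) (24765, 0, 16, 33983) (.node .leaf (24766, 0, 16, 79331) .leaf))) (24768, 0, 16, 249653) (.node (.node (.node .leaf (24771, 0, 12, 163702) .leaf) (24773, 0, 16, 202352) (.node .leaf (24774, 0, 17, 173619) .leaf)) (24777, 0, 15, 68299) (.node (.node .leaf (24778, 0, 17, 47752) .leaf) (24780, 0, 17, 102119) (.node .leaf (24783, 0, 12, 16315) .leaf))))))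

/-- part of the orbit tree -/
def itp0_383 : Tree := (.node (.node (.node (.node (.node (.node .leaf (24787, 0, 16, 56524) .leaf) (24789, 0, 14, 84899) (.node .leaf (24790, 0, 16, 56934) .leaf)) (24793, 0, 18, 225950) (.node (.node .leaf (24794, 0, 11, 180957) .leaf) (24796, 0, 17, 240603) (.node .leaf (24799, 0, 16, 138136) .leaf))) (24800, 0, 17, 50368) (.node (.node (.node .leaf (24803, 0, 17, 95363) .leaf) (24805, 0, 17, 147551) (.node .leaf (24806, 0, 15, 110022) .leaf)) (24809, 0, 17, 54750) (.node (.node .leaf (24810, 0, 18, 91266) .leaf) (24812, 0, 16, 62445) (.node .leaf (24815, 0, 16, 82609) .leaf)))) (24816, 0, 14, 179349) (.node (.node (.node (.node .leaf (24819, 0, 17, 199894) .leaf) (24821, 0, 17, 157136) (.node .leaf (24822, 0, 15, 251283) .leaf)) (24825, 0, 19, 31083) (.node (.node .leaf (24826, 0, 17, 201332) .leaf) (24828, 0, 16, 165147) (.node .leaf (24831, 0, 16, 69741) .leaf))) (24833, 0, 17, 94379) (.node (.node (.node .leaf (24834, 0, 17, 261140) .leaf) (24836, 0, 16,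 109038) (.node .leaf (24839, 0, 18, 6573) .leaf)) (24840, 0, 16, 65274) (.node (.node .leaf (24843, 0, 14, 132374) .leaf) (24845, 0, 18, 224272) (.node .leaf (24846, 0, 16, 187475) .leaf))))) (24849, 0, 12, 15294) (.node (.node (.node (.node (.node .leaf (24850, 0, 17, 178365) .leaf) (24852, 0, 15, 250299) (.node .leaf (24855, 0, 18, 109777) .leaf)) (24856, 0, 17, 165900) (.node (.node .leaf (24859, 0, 17, 32067) .leaf) (24861, 0, 14, 175679) (.node .leaf (24862, 0, 15, 41990) .leaf))) (24865, 0, 17, 162654) (.node (.node (.node .leaf (24866, 0, 19, 248605) .leaf) (24868, 0, 15, 202353) (.node .leaf (24871, 0, 12, 173869) .leaf)) (24872, 0, 16, 48800) (.node (.node .leaf (24875, 0, 15, 12972) .leaf) (24877, 0, 16, 26597) (.node .leaf (24878, 0, 19, 120742) .leaf)))) (24881, 0, 15, 83636) (.node (.node (.node (.node .leaf (24882, 0, 14, 111432) .leaf) (24884, 0, 12, 90247) (.node .leaf (24887, 0, 14, 92685) .leaf)) (24888, 0, 11, 182005) (.node (.node .leaf (24891, 0, 16, 226998) .leaf) (24893,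 0, 16, 139184) (.node .leaf (24894, 0, 13, 156265) .leaf))) (24896, 0, 17, 195147) (.node (.node (.node .leaf (24899, 0, 17, 130480) .leaf) (24901, 0, 16, 140046) (.node .leaf (24902, 0, 16, 234317) .leaf)) (24905, 0, 14, 16309) (.node (.node .leaf (24906, 0, 15, 216578) .leaf) (24908, 0, 17, 59120) (.node .leaf (24911, 0, 15, 87731) .leaf))))))

/-- part of the orbit tree -/
def itp0_384 : Tree := (.node (.node (.node (.node (.node (.node .leaf (24915, 0, 16, 232262) .leaf) (24917, 0, 18, 23387) (.node .leaf (24918, 0, 15, 241013) .leaf)) (24921, 0, 18, 149472) (.node (.node .leaf (24922, 0, 17, 80116) .leaf) (24924, 0, 16, 171685) (.node .leaf (24927, 0, 17, 208614) .leaf))) (24928, 0, 11, 127422) (.node (.node (.node .leaf (24931, 0, 16, 16893) .leaf) (24933, 0, 18, 71637) (.node .leaf (24934, 0, 14, 42633) .leaf)) (24937, 0, 17, 209984) (.node (.node .leaf (24938, 0, 12, 144136) .leaf) (24940, 0, 17, 238695) (.node .leaf (24943, 0, 15, 136507) .leaf)))) (24944, 0, 14, 214800) (.node (.node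 (.node (.node .leaf (24947, 0, 15, 194124) .leaf) (24949, 0, 13, 217262) (.node .leaf (24950, 0, 17, 188653) .leaf)) (24953, 0, 8, 128162) (.node (.node .leaf (24954, 0, 17, 17918) .leaf) (24956, 0, 16, 103760) (.node .leaf (24959, 0, 18, 25549) .leaf))) (24960, 0, 13, 198599) (.node (.node (.node .leaf (24963, 0, 19, 136531) .leaf) (24965, 0, 16, 253570) (.node .leaf (24966, 0, 16, 159425) .leaf)) (24969, 0, 13, 71613) (.node (.node .leaf (24970, 0, 9, 29306) .leaf) (24972, 0, 17, 72572) (.node .leaf (24975, 0, 14, 43839) .leaf))))) (24976, 0, 13, 98194) (.node (.node (.node (.node (.node .leaf (24979, 0, 14, 25509) .leaf) (24981, 0, 18, 128202) (.node .leaf (24982, 0, 17, 17814) .leaf)) (24985, 0, 18, 221515) (.node (.node .leaf (24986, 0, 14, 184343) .leaf) (24988, 0, 14, 214904) (.node .leaf (24991, 0, 15, 194084) .leaf))) (24992, 0, 14, 186629) (.node (.node (.node .leaf (24995, 0, 15, 223321) .leaf) (24997, 0, 18, 196406) (.node .leaf (24998, 0, 17, 91444) .leaf)) (25001, 0, 15, 182732)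 (.node (.node .leaf (25002, 0, 15, 227727) .leaf) (25004, 0, 14, 135305) (.node .leaf (25007, 0, 15, 237770) .leaf)))) (25008, 0, 12, 160871) (.node (.node (.node (.node .leaf (25011, 0, 15, 246820) .leaf) (25013, 0, 16, 35264) (.node .leaf (25014, 0, 17, 80028) .leaf)) (25017, 0, 17, 45465) (.node (.node .leaf (25018, 0, 17, 240925) .leaf) (25020, 0, 17, 146034) (.node .leaf (25023, 0, 15, 120991) .leaf))) (25025, 0, 16, 107947) (.node (.node (.node .leaf (25026, 0, 16, 81252) .leaf) (25028, 0, 15, 21602) (.node .leaf (25031, 0, 17, 12996) .leaf)) (25032, 0, 18, 202265) (.node (.node .leaf (25035, 0, 12, 260250) .leaf) (25037, 0, 13, 168348) (.node .leaf (25038, 0, 17, 205279) .leaf))))))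

/-- part of the orbit tree -/
def itp0_385 : Tree := (.node itp0_381 (24657, 0, 17, 34007) itp0_382)

/-- part of the orbit tree -/
def itp0_386 : Tree := (.node itp0_383 (24912, 0, 17, 145946) itp0_384)

/-- part of the orbit tree -/
def itp0_387 : Tree := (.node (.node (.node (.node (.node (.node .leaf (25042, 0, 17, 214321) .leaf) (25044, 0, 14, 142391) (.node .leaf (25047, 0, 19, 236660) .leaf)) (25048, 0, 18, 12428) (.node (.node .leaf (25051, 0, 15, 98511) .leaf) (25053, 0, 13, 59849) (.node .leaf (25054, 0, 18, 63360) .leaf))) (25057, 0, 16, 55457) (.node (.node (.node .leaf (25058, 0, 16, 145041) .leaf) (25060, 0, 15, 221079) (.node .leaf (25063, 0, 13, 85966) .leaf)) (25064, 0, 15, 82732) (.node (.node .leaf (25067, 0, 15, 62319) .leaf) (25069, 0, 14, 105065) (.node .leaf (25070, 0, 12, 10794) .leaf)))) (25073, 0, 13, 130695) (.node (.node (.node (.node .leaf (25074, 0, 18, 204555) .leaf) (25076, 0, 14, 165988) (.node .leaf (25079, 0, 16, 38785) .leaf)) (25080, 0, 15, 211833) (.node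 (.node .leaf (25083, 0, 14, 166714) .leaf) (25085, 0, 14, 15318) (.node .leaf (25086, 0, 18, 152191) .leaf))) (25090, 0, 17, 204507) (.node (.node (.node .leaf (25091, 0, 16, 83957) .leaf) (25092, 0, 18, 141290) (.node .leaf (25093, 0, 17, 53402) .leaf)) (25096, 0, 17, 7221) (.node (.node .leaf (25097, 0, 17, 148763) .leaf) (25102, 0, 14, 86615) (.node .leaf (25103, 0, 16, 111153) .leaf))))) (25106, 0, 12, 79545) (.node (.node (.node (.node (.node .leaf (25107, 0, 13, 120543) .leaf) (25108, 0, 15, 24511) (.node .leaf (25109, 0, 15, 49113) .leaf)) (25112, 0, 18, 148228) (.node (.node .leaf (25113, 0, 14, 13293) .leaf) (25118, 0, 17, 207362) (.node .leaf (25119, 0, 16, 248420) .leaf))) (25122, 0, 17, 17689) (.node (.node (.node .leaf (25123, 0, 18, 15103) .leaf) (25124, 0, 16, 259262) (.node .leaf (25125, 0, 16, 117881) .leaf)) (25128, 0, 12, 209060) (.node (.node .leaf (25129, 0, 15, 250050) .leaf) (25134, 0, 13, 154018) (.node .leaf (25135, 0, 17, 178628) .leaf)))) (25138, 0, 13, 5415) (.node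 (.node (.node (.node .leaf (25139, 0, 17, 150537) .leaf) (25140, 0, 17, 98888) (.node .leaf (25141, 0, 17, 242732) .leaf)) (25144, 0, 18, 202697) (.node (.node .leaf (25145, 0, 13, 108695) .leaf) (25150, 0, 18, 8695) (.node .leaf (25151, 0, 18, 49553) .leaf))) (25152, 0, 15, 95311) (.node (.node (.node .leaf (25153, 0, 17, 194317) .leaf) (25158, 0, 16, 7497) (.node .leaf (25159, 0, 16, 64815) .leaf)) (25162, 0, 16, 240845) (.node (.node .leaf (25163, 0, 16, 128483) .leaf) (25164, 0, 12, 146338) (.node .leaf (25165, 0, 13, 25228) .leaf))))))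

/-- part of the orbit tree -/
def itp0_388 : Tree := (.node (.node (.node (.node (.node (.node .leaf (25169, 0, 18, 33275) .leaf) (25174, 0, 17, 217018) (.node .leaf (25175, 0, 16, 71316) .leaf)) (25178, 0, 19, 121403) (.node (.node .leaf (25179, 0, 16, 39361) .leaf) (25180, 0, 13, 19796) (.node .leaf (25181, 0, 18, 127175) .leaf))) (25184, 0, 15, 163770) (.node (.node (.node .leaf (25185, 0, 18, 231943) .leaf) (25190, 0, 16, 202428) (.node .leaf (25191, 0, 17, 259802) .leaf)) (25194, 0, 16, 184775) (.node (.node .leaf (25195, 0, 16, 35049) .leaf) (25196, 0, 17, 214696) (.node .leaf (25197, 0, 14, 33639) .leaf)))) (25200, 0, 18, 2031) (.node (.node (.node (.node .leaf (25201, 0, 16, 130289) .leaf) (25206, 0, 17, 144048) (.node .leaf (25207, 0, 13, 27550) .leaf)) (25210, 0, 18, 42801) (.node (.node .leaf (25211, 0, 17, 196127) .leaf) (25212, 0, 14, 77918) (.node .leaf (25213, 0, 16, 195378) .leaf))) (25216, 0, 17, 214720) (.node (.node (.node .leaf (25217, 0, 19, 73710) .leaf) (25222, 0, 17,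 184751) (.node .leaf (25223, 0, 19, 65699) .leaf)) (25226, 0, 15, 261246) (.node (.node .leaf (25227, 0, 16, 203800) .leaf) (25228, 0, 12, 119617) (.node .leaf (25229, 0, 16, 161054) .leaf))))) (25232, 0, 17, 192918) (.node (.node (.node (.node (.node .leaf (25233, 0, 17, 135664) .leaf) (25238, 0, 15, 235664) (.node .leaf (25239, 0, 12, 227574) .leaf)) (25242, 0, 16, 144088) (.node (.node .leaf (25243, 0, 16, 27638) .leaf) (25244, 0, 18, 60717) (.node .leaf (25245, 0, 13, 130201) .leaf))) (25248, 0, 16, 146378) (.node (.node (.node .leaf (25249, 0, 14, 25316) .leaf) (25254, 0, 17, 240805) (.node .leaf (25255, 0, 18, 128395) .leaf)) (25258, 0, 18, 63371) (.node (.node .leaf (25259, 0, 16, 6125) .leaf) (25260, 0, 16, 106125) (.node .leaf (25261, 0, 14, 194405) .leaf)))) (25264, 0, 12, 129635) (.node (.node (.node (.node .leaf (25265, 0, 16, 72197) .leaf) (25270, 0, 15, 121427) (.node .leaf (25271, 0, 15, 29443) .leaf)) (25274, 0, 19, 167902) (.node (.node .leaf (25275, 0, 16, 71420) .leaf) (25276,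 0, 14, 186557) (.node .leaf (25277, 0, 19, 198334) .leaf))) (25282, 0, 17, 176992) (.node (.node (.node .leaf (25283, 0, 16, 175894) .leaf) (25284, 0, 14, 90455) (.node .leaf (25285, 0, 17, 211065) .leaf)) (25288, 0, 18, 116445) (.node (.node .leaf (25289, 0, 17, 75451) .leaf) (25294, 0, 14, 45019) (.node .leaf (25295, 0, 17, 20413) .leaf))))))

/-- part of the orbit tree -/
def itp0_389 : Tree := (.node (.node (.node (.node (.node (.node .leaf (25299, 0, 17, 55776) .leaf) (25300, 0, 16, 202657) (.node .leaf (25301, 0, 13, 82517) .leaf)) (25304, 0, 16, 98848) (.node (.node .leaf (25305, 0, 15, 220910) .leaf) (25310, 0, 17, 5455) (.node .leaf (25311, 0, 16, 150625) .leaf))) (25314, 0, 14, 112789) (.node (.node (.node .leaf (25315, 0, 15, 88307) .leaf) (25316, 0, 13, 53651) (.node .leaf (25317, 0, 15, 12789) .leaf)) (25320, 0, 17, 183592) (.node (.node .leaf (25321, 0, 16, 53490) .leaf) (25326, 0, 16, 238638) (.node .leaf (25327, 0, 18, 83869) .leaf)))) (25330, 0, 15, 261572) (.node (.node (.node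 (.node .leaf (25331, 0, 18, 204966) .leaf) (25332, 0, 16, 174534) (.node .leaf (25333, 0, 16, 149920) .leaf)) (25336, 0, 17, 46461) (.node (.node .leaf (25337, 0, 17, 173572) .leaf) (25342, 0, 18, 92229) (.node .leaf (25343, 0, 17, 80925) .leaf))) (25344, 0, 14, 113853) (.node (.node (.node .leaf (25345, 0, 18, 89307) .leaf) (25350, 0, 15, 99877) (.node .leaf (25351, 0, 17, 13789) .leaf)) (25354, 0, 14, 201636) (.node (.node .leaf (25355, 0, 12, 84618) .leaf) (25356, 0, 15, 237574) (.node .leaf (25357, 0, 16, 213088) .leaf))))) (25360, 0, 17, 247016) (.node (.node (.node (.node (.node .leaf (25361, 0, 17, 16018) .leaf) (25366, 0, 15, 175598) (.node .leaf (25367, 0, 15, 109053) .leaf)) (25370, 0, 18, 45397) (.node (.node .leaf (25371, 0, 14, 212092) .leaf) (25372, 0, 18, 62013) (.node .leaf (25373, 0, 18, 174867) .leaf))) (25376, 0, 16, 93248) (.node (.node (.node .leaf (25377, 0, 17, 210286) .leaf) (25382, 0, 17, 64303) (.node .leaf (25383, 0, 17, 172545) .leaf)) (25386, 0, 18, 159406) (.node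 (.node .leaf (25387, 0, 17, 74387) .leaf) (25388, 0, 15, 260545) (.node .leaf (25389, 0, 16, 19349) .leaf)))) (25392, 0, 18, 203446) (.node (.node (.node (.node .leaf (25393, 0, 15, 82840) .leaf) (25398, 0, 15, 108059) (.node .leaf (25399, 0, 17, 83581) .leaf)) (25402, 0, 14, 244384) (.node (.node .leaf (25403, 0, 18, 219846) .leaf) (25404, 0, 16, 185254) (.node .leaf (25405, 0, 18, 144320) .leaf))) (25410, 0, 16, 230942) (.node (.node (.node .leaf (25411, 0, 17, 222840) .leaf) (25412, 0, 18, 145117) (.node .leaf (25413, 0, 17, 135038) .leaf)) (25416, 0, 13, 41820) (.node (.node .leaf (25417, 0, 16, 195186) .leaf) (25422, 0, 17, 105125) (.node .leaf (25423, 0, 15, 224541) .leaf))))))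

/-- part of the orbit tree -/
def itp0_390 : Tree := (.node (.node (.node (.node (.node (.node .leaf (25427, 0, 17, 73261) .leaf) (25428, 0, 14, 38733) (.node .leaf (25429, 0, 13, 30507) .leaf)) (25432, 0, 13, 185770) (.node (.node .leaf (25433, 0, 14, 35972) .leaf) (25438, 0, 16, 254704) (.node .leaf (25439, 0, 15, 197270) .leaf))) (25442, 0, 14, 187576) (.node (.node (.node .leaf (25443, 0, 15, 34198) .leaf) (25444, 0, 15, 124141) (.node .leaf (25445, 0, 15, 66699) .leaf)) (25448, 0, 14, 122454) (.node (.node .leaf (25449, 0, 10, 202800) .leaf) (25454, 0, 17, 18745) (.node .leaf (25455, 0, 16, 135191) .leaf)))) (25458, 0, 16, 193982) (.node (.node (.node (.node .leaf (25459, 0, 17, 193376) .leaf) (25460, 0, 17, 81185) (.node .leaf (25461, 0, 16, 222223) .leaf)) (25464, 0, 13, 98307) (.node (.node .leaf (25465, 0, 17, 127374) .leaf) (25470, 0, 14, 59653) (.node .leaf (25471, 0, 13, 2403) .leaf))) (25474, 0, 14, 162706) (.node (.node (.node .leaf (25475, 0, 16, 135295) .leaf) (25476, 0, 15,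 122430) (.node .leaf (25477, 0, 14, 258802) .leaf)) (25480, 0, 13, 69167) (.node (.node .leaf (25481, 0, 16, 70289) .leaf) (25486, 0, 15, 26409) (.node .leaf (25487, 0, 15, 34302) .leaf))))) (25490, 0, 12, 147367) (.node (.node (.node (.node (.node .leaf (25491, 0, 12, 58273) .leaf) (25492, 0, 16, 239816) (.node .leaf (25493, 0, 16, 101031) .leaf)) (25496, 0, 16, 81225) (.node (.node .leaf (25497, 0, 10, 222311) .leaf) (25502, 0, 15, 139132) (.node .leaf (25503, 0, 15, 196378) .leaf))) (25506, 0, 16, 94311) (.node (.node (.node .leaf (25507, 0, 16, 102401) .leaf) (25508, 0, 18, 6497) (.node .leaf (25509, 0, 13, 195098) .leaf)) (25512, 0, 15, 145077) (.node (.node .leaf (25513, 0, 16, 28571) .leaf) (25518, 0, 16, 238042) (.node .leaf (25519, 0, 14, 129268) .leaf)))) (25522, 0, 18, 198706) (.node (.node (.node (.node .leaf (25523, 0, 17, 72579) .leaf) (25524, 0, 17, 155956) (.node .leaf (25525, 0, 14, 36076) .leaf)) (25528, 0, 14, 16451) (.node (.node .leaf (25529, 0, 16, 137581) .leaf) (25534,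 0, 17, 70793) (.node .leaf (25535, 0, 12, 232962) .leaf))) (25536, 0, 17, 260521) (.node (.node (.node .leaf (25537, 0, 17, 41303) .leaf) (25542, 0, 15, 75831) (.node .leaf (25543, 0, 17, 14312) .leaf)) (25546, 0, 17, 64327) (.node (.node .leaf (25547, 0, 15, 172649) .leaf) (25548, 0, 15, 155018) .leaf)))))

/-- part of the orbit tree -/
def itp0_391 : Tree := (.node itp0_387 (25168, 0, 18, 199706) itp0_388)

/-- part of the orbit tree -/
def itp0_392 : Tree := (.node itp0_389 (25426, 0, 17, 120644) itp0_390)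

/-- part of the orbit tree -/
def itp0_393 : Tree := (.node itp0_385 (24784, 0, 16, 112480) itp0_386)

/-- part of the orbit tree -/
def itp0_394 : Tree := (.node itp0_391 (25298, 0, 13, 164046) itp0_392)

/-- part of the orbit tree -/
def itp0_395 : Tree := (.node (.node (.node (.node (.node (.node .leaf (25552, 0, 17, 145764) .leaf) (25553, 0, 15, 186626) (.node .leaf (25558, 0, 16, 6192) .leaf)) (25559, 0, 15, 147742) (.node (.node .leaf (25562, 0, 14, 85209) .leaf) (25563, 0, 13, 54431) (.node .leaf (25564, 0, 15, 9695) .leaf))) (25565, 0, 14, 50617) (.node (.node (.node .leaf (25568, 0, 15, 165027) .leaf) (25569, 0, 16, 240290) (.node .leaf (25574, 0, 15, 201676) .leaf)) (25575, 0, 14, 84706) (.node (.node .leaf (25578, 0, 19, 16249) .leaf) (25579, 0, 15, 253795) (.node .leaf (25580, 0, 17, 4386) .leaf)))) (25581, 0, 18, 149516) (.node (.node (.node (.node .leaf (25584, 0, 12, 78481) .leaf) (25585, 0, 17, 119543) (.node .leaf (25590, 0, 17, 91450) .leaf)) (25591, 0, 16, 211988) (.node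 (.node .leaf (25594, 0, 16, 149292) .leaf) (25595, 0, 19, 173898) (.node .leaf (25596, 0, 16, 157652) .leaf))) (25597, 0, 17, 249420) (.node (.node (.node .leaf (25601, 0, 17, 247927) .leaf) (25603, 0, 19, 151341) (.node .leaf (25604, 0, 16, 201010) .leaf)) (25606, 0, 16, 157982) (.node (.node .leaf (25608, 0, 14, 69001) .leaf) (25610, 0, 16, 23980) (.node .leaf (25613, 0, 15, 120012) .leaf))))) (25615, 0, 13, 55980) (.node (.node (.node (.node (.node .leaf (25617, 0, 17, 250281) .leaf) (25619, 0, 14, 14811) (.node .leaf (25620, 0, 17, 92519) .leaf)) (25622, 0, 19, 14658) (.node (.node .leaf (25624, 0, 15, 226780) .leaf) (25626, 0, 16, 166505) (.node .leaf (25629, 0, 15, 82984) .leaf))) (25631, 0, 15, 195772) (.node (.node (.node .leaf (25633, 0, 17, 50050) .leaf) (25635, 0, 15, 209447) (.node .leaf (25636, 0, 17, 6855) .leaf)) (25638, 0, 14, 84706) (.node (.node .leaf (25640, 0, 17, 158183) .leaf) (25642, 0, 14, 98709) (.node .leaf (25645, 0, 16, 151508) .leaf)))) (25647, 0, 17, 233244) (.node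 (.node (.node (.node .leaf (25649, 0, 17, 179159) .leaf) (25651, 0, 15, 83153) (.node .leaf (25652, 0, 18, 166544) .leaf)) (25654, 0, 15, 90850) (.node (.node .leaf (25656, 0, 16, 7953) .leaf) (25658, 0, 18, 259939) (.node .leaf (25661, 0, 16, 42860) .leaf))) (25663, 0, 15, 128841) (.node (.node (.node .leaf (25664, 0, 14, 17047) .leaf) (25666, 0, 15, 70322) (.node .leaf (25669, 0, 15, 229576) .leaf)) (25671, 0, 6, 117751) (.node (.node .leaf (25673, 0, 16, 70985) .leaf) (25675, 0, 17, 195899) (.node .leaf (25676, 0, 17, 78714) .leaf))))))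

/-- part of the orbit tree -/
def itp0_396 : Tree := (.node (.node (.node (.node (.node (.node .leaf (25680, 0, 17, 146114) .leaf) (25682, 0, 13, 223975) (.node .leaf (25685, 0, 15, 128574) .leaf)) (25687, 0, 15, 242594) (.node (.node .leaf (25689, 0, 17, 222143) .leaf) (25691, 0, 16, 35789) (.node .leaf (25692, 0, 15, 9849) .leaf))) (25694, 0, 17, 44542) (.node (.node (.node .leaf (25696, 0, 17, 215394) .leaf) (25698, 0, 18, 78723) (.node .leaf (25701, 0, 14, 196034) .leaf)) (25703, 0, 17, 180226) (.node (.node .leaf (25705, 0, 18, 101532) .leaf) (25707, 0, 13, 56505) (.node .leaf (25708, 0, 19, 20080) .leaf)))) (25710, 0, 15, 1532) (.node (.node (.node (.node .leaf (25712, 0, 18, 44295) .leaf) (25714, 0, 14, 214389) (.node .leaf (25717, 0, 15, 125042) .leaf)) (25719, 0, 15, 47191) (.node (.node .leaf (25721, 0, 15, 138933) .leaf) (25723, 0, 14, 128711) (.node .leaf (25724, 0, 18, 208268) .leaf))) (25726, 0, 13, 163241) (.node (.node (.node .leaf (25728, 0, 17, 19992) .leaf) (25730, 0, 17,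 239210) (.node .leaf (25733, 0, 17, 91742) .leaf)) (25735, 0, 16, 229465) (.node (.node .leaf (25737, 0, 16, 228069) .leaf) (25739, 0, 18, 71128) (.node .leaf (25740, 0, 15, 238496) .leaf))))) (25742, 0, 15, 193413) (.node (.node (.node (.node (.node .leaf (25744, 0, 16, 247630) .leaf) (25746, 0, 17, 169835) (.node .leaf (25749, 0, 17, 204299) .leaf)) (25751, 0, 16, 151086) (.node (.node .leaf (25753, 0, 14, 35676) .leaf) (25755, 0, 17, 221998) (.node .leaf (25756, 0, 15, 44399) .leaf))) (25758, 0, 14, 214301) (.node (.node (.node .leaf (25760, 0, 10, 177390) .leaf) (25762, 0, 16, 255179) (.node .leaf (25765, 0, 17, 159147) .leaf)) (25767, 0, 17, 195923) (.node (.node .leaf (25769, 0, 15, 28944) .leaf) (25771, 0, 16, 26834) (.node .leaf (25772, 0, 16, 239251) .leaf)))) (25774, 0, 17, 20193) (.node (.node (.node (.node .leaf (25776, 0, 16, 52411) .leaf) (25778, 0, 16, 105630) (.node .leaf (25781, 0, 16, 5630) .leaf)) (25783, 0, 16, 35749) (.node (.node .leaf (25785, 0, 14, 133445) .leaf) (25787,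 0, 17, 219488) (.node .leaf (25788, 0, 17, 118885) .leaf))) (25790, 0, 15, 229413) (.node (.node (.node .leaf (25793, 0, 17, 151484) .leaf) (25795, 0, 18, 108494) (.node .leaf (25796, 0, 16, 158095) .leaf)) (25798, 0, 18, 244891) (.node (.node .leaf (25800, 0, 17, 61445) .leaf) (25802, 0, 14, 201852) (.node .leaf (25805, 0, 17, 10560) .leaf))))))

/-- part of the orbit tree -/
def itp0_397 : Tree := (.node (.node (.node (.node (.node (.node .leaf (25809, 0, 18, 14666) .leaf) (25811, 0, 17, 73099) (.node .leaf (25812, 0, 16, 38123) .leaf)) (25814, 0, 13, 259851) (.node (.node .leaf (25816, 0, 19, 165968) .leaf) (25818, 0, 16, 90762) (.node .leaf (25821, 0, 15, 151829) .leaf))) (25823, 0, 16, 196912) (.node (.node (.node .leaf (25825, 0, 13, 81422) .leaf) (25827, 0, 18, 28203) (.node .leaf (25828, 0, 18, 201861) .leaf)) (25830, 0, 12, 46958) (.node (.node .leaf (25832, 0, 16, 98564) .leaf) (25834, 0, 18, 175061) (.node .leaf (25837, 0, 16, 108343) .leaf)))) (25839, 0, 16, 151365) (.node (.node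 (.node (.node .leaf (25841, 0, 16, 214619) .leaf) (25843, 0, 17, 175154) (.node .leaf (25844, 0, 16, 90739) .leaf)) (25846, 0, 16, 166401) (.node (.node .leaf (25848, 0, 18, 99237) .leaf) (25850, 0, 15, 54144) (.node .leaf (25853, 0, 14, 250305) .leaf))) (25855, 0, 14, 14771) (.node (.node (.node .leaf (25856, 0, 17, 203154) .leaf) (25858, 0, 13, 61920) (.node .leaf (25861, 0, 15, 21280) .leaf)) (25863, 0, 17, 55251) (.node (.node .leaf (25865, 0, 14, 151451) .leaf) (25867, 0, 17, 148050) (.node .leaf (25868, 0, 14, 169694) .leaf))))) (25870, 0, 16, 156769) (.node (.node (.node (.node (.node .leaf (25872, 0, 15, 94052) .leaf) (25874, 0, 17, 238101) (.node .leaf (25877, 0, 17, 84311) .leaf)) (25879, 0, 12, 172325) (.node (.node .leaf (25881, 0, 15, 253142) .leaf) (25883, 0, 19, 92139) (.node .leaf (25884, 0, 14, 260837) .leaf))) (25886, 0, 14, 114350) (.node (.node (.node .leaf (25888, 0, 16, 156824) .leaf) (25890, 0, 15, 184757) (.node .leaf (25893, 0, 18, 148139) .leaf)) (25895, 0, 17, 109273)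 (.node (.node .leaf (25897, 0, 18, 55082) .leaf) (25899, 0, 15, 212824) (.node .leaf (25900, 0, 17, 105771) .leaf)))) (25902, 0, 16, 203115) (.node (.node (.node (.node .leaf (25904, 0, 16, 4718) .leaf) (25906, 0, 14, 260636) (.node .leaf (25909, 0, 18, 73856) .leaf)) (25911, 0, 17, 252975) (.node (.node .leaf (25913, 0, 15, 212027) .leaf) (25915, 0, 17, 84398) (.node .leaf (25916, 0, 18, 255358) .leaf))) (25918, 0, 14, 94109) (.node (.node (.node .leaf (25921, 0, 13, 196741) .leaf) (25923, 0, 13, 151712) (.node .leaf (25924, 0, 17, 81413) .leaf)) (25926, 0, 15, 166373) (.node (.node .leaf (25928, 0, 15, 116091) .leaf) (25930, 0, 13, 38238) (.node .leaf (25933, 0, 18, 72766) .leaf))))))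

/-- part of the orbit tree -/
def itp0_398 : Tree := (.node (.node (.node (.node (.node (.node .leaf (25937, 0, 15, 96464) .leaf) (25939, 0, 16, 10485) (.node .leaf (25940, 0, 14, 215283) .leaf)) (25942, 0, 11, 41089) (.node (.node .leaf (25944, 0, 14, 122226) .leaf) (25946, 0, 14, 144640) (.node .leaf (25949, 0, 17, 129857) .leaf))) (25951, 0, 18, 144462) (.node (.node (.node .leaf (25953, 0, 16, 2928) .leaf) (25955, 0, 15, 88917) (.node .leaf (25956, 0, 13, 53813) .leaf)) (25958, 0, 17, 240509) (.node (.node .leaf (25960, 0, 15, 185998) .leaf) (25962, 0, 13, 81660) (.node .leaf (25965, 0, 15, 137163) .leaf)))) (25967, 0, 17, 71887) (.node (.node (.node (.node .leaf (25969, 0, 18, 160549) .leaf) (25971, 0, 19, 129976) (.node .leaf (25972, 0, 16, 174688) .leaf)) (25974, 0, 16, 122251) (.node (.node .leaf (25976, 0, 17, 46811) .leaf) (25978, 0, 17, 124670) (.node .leaf (25981, 0, 16, 28574) .leaf))) (25983, 0, 14, 224825) (.node (.node (.node .leaf (25985, 0, 17, 195849) .leaf) (25987, 0, 16,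 71847) (.node .leaf (25988, 0, 13, 186086) .leaf)) (25990, 0, 11, 226409) (.node (.node .leaf (25992, 0, 17, 14583) .leaf) (25994, 0, 15, 92370) (.node .leaf (25997, 0, 15, 25940) .leaf))))) (25999, 0, 17, 232742) (.node (.node (.node (.node (.node .leaf (26001, 0, 15, 34140) .leaf) (26003, 0, 17, 224849) (.node .leaf (26004, 0, 15, 23577) .leaf)) (26006, 0, 17, 68668) (.node (.node .leaf (26008, 0, 18, 144785) .leaf) (26010, 0, 14, 122339) (.node .leaf (26013, 0, 17, 170471) .leaf))) (26015, 0, 16, 130000) (.node (.node (.node .leaf (26017, 0, 18, 232927) .leaf) (26019, 0, 16, 26029) (.node .leaf (26020, 0, 15, 240620) .leaf)) (26022, 0, 14, 32668) (.node (.node .leaf (26024, 0, 18, 209666) .leaf) (26026, 0, 14, 185887) (.node .leaf (26029, 0, 15, 71774) .leaf)))) (26031, 0, 17, 192556) (.node (.node (.node (.node .leaf (26033, 0, 17, 129833) .leaf) (26035, 0, 15, 188044) (.node .leaf (26036, 0, 16, 219116) .leaf)) (26038, 0, 17, 133065) (.node (.node .leaf (26040, 0, 13, 84823) .leaf) (26042,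 0, 17, 41193) (.node .leaf (26045, 0, 13, 224936) .leaf))) (26047, 0, 16, 49719) (.node (.node (.node .leaf (26048, 0, 16, 61809) .leaf) (26050, 0, 18, 203011) (.node .leaf (26053, 0, 15, 55106) .leaf)) (26055, 0, 17, 65161) (.node (.node .leaf (26057, 0, 16, 242199) .leaf) (26059, 0, 16, 109233) (.node .leaf (26060, 0, 14, 156912) .leaf))))))

/-- part of the orbit tree -/
def itp0_399 : Tree := (.node itp0_395 (25678, 0, 16, 187144) itp0_396)

/-- part of the orbit tree -/
def itp0_400 : Tree := (.node itp0_397 (25935, 0, 16, 26053) itp0_398)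

/-- part of the orbit tree -/
def itp0_401 : Tree := (.node (.node (.node (.node (.node (.node .leaf (26064, 0, 17, 165767) .leaf) (26066, 0, 16, 155545) (.node .leaf (26069, 0, 18, 172468) .leaf)) (26071, 0, 16, 84422) (.node (.node .leaf (26073, 0, 17, 117314) .leaf) (26075, 0, 17, 252999) (.node .leaf (26076, 0, 15, 4614) .leaf))) (26078, 0, 16, 260724) (.node (.node (.node .leaf (26080, 0, 14, 101499) .leaf) (26082, 0, 13, 156681) (.node .leaf (26085, 0, 15, 109128) .leaf)) (26087, 0, 16, 148026) (.node (.node .leaf (26089, 0, 15, 47586) .leaf) (26091, 0, 11, 125383) (.node .leaf (26092, 0, 14, 203258) .leaf)))) (26094, 0, 18, 77954) (.node (.node (.node (.node .leaf (26096, 0, 15, 1097) .leaf) (26098, 0, 18, 4863) (.node .leaf (26101, 0, 16, 253118) .leaf)) (26103, 0, 14, 13516) (.node (.node .leaf (26105, 0, 15, 180663) .leaf) (26107, 0, 15, 233874) (.node .leaf (26108, 0, 18, 137458) .leaf))) (26110, 0, 15, 215255) (.node (.node (.node .leaf (26112, 0, 14, 197729) .leaf) (26113, 0,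 13, 254983) (.node .leaf (26114, 0, 16, 4911) .leaf)) (26115, 0, 16, 150017) (.node (.node .leaf (26124, 0, 15, 71898) .leaf) (26125, 0, 16, 129212) (.node .leaf (26126, 0, 17, 165550) .leaf))))) (26127, 0, 15, 57216) (.node (.node (.node (.node (.node .leaf (26128, 0, 17, 101803) .leaf) (26129, 0, 17, 251013) (.node .leaf (26130, 0, 12, 157145) .leaf)) (26131, 0, 17, 52343) (.node (.node .leaf (26140, 0, 14, 202794) .leaf) (26141, 0, 14, 82180) (.node .leaf (26142, 0, 9, 61528) .leaf))) (26143, 0, 16, 184524) (.node (.node (.node .leaf (26144, 0, 13, 3988) .leaf) (26145, 0, 12, 61426) (.node .leaf (26146, 0, 18, 90033) .leaf)) (26147, 0, 16, 210699) (.node (.node .leaf (26156, 0, 16, 5078) .leaf) (26157, 0, 15, 150264) (.node .leaf (26158, 0, 13, 213770) .leaf)))) (26159, 0, 16, 238444) (.node (.node (.node (.node .leaf (26160, 0, 17, 61601) .leaf) (26161, 0, 17, 169895) (.node .leaf (26162, 0, 17, 206820) .leaf)) (26163, 0, 16, 247682) (.node (.node .leaf (26172, 0, 17, 156960) .leaf) (26173,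 0, 19, 15374) (.node .leaf (26174, 0, 16, 80735) .leaf))) (26175, 0, 16, 251004) (.node (.node (.node .leaf (26180, 0, 17, 22468) .leaf) (26181, 0, 18, 230884) (.node .leaf (26182, 0, 14, 144568) .leaf)) (26183, 0, 19, 28054) (.node (.node .leaf (26184, 0, 16, 150399) .leaf) (26185, 0, 11, 174873) (.node .leaf (26186, 0, 15, 203610) .leaf))))))

/-- part of the orbit tree -/
def itp0_402 : Tree := (.node (.node (.node (.node (.node (.node .leaf (26196, 0, 15, 143249) .leaf) (26197, 0, 16, 127762) (.node .leaf (26198, 0, 18, 16974) .leaf)) (26199, 0, 17, 138080) (.node (.node .leaf (26200, 0, 14, 81853) .leaf) (26201, 0, 17, 54092) (.node .leaf (26202, 0, 14, 90895) .leaf))) (26203, 0, 14, 36577) (.node (.node (.node .leaf (26212, 0, 14, 220209) .leaf) (26213, 0, 16, 194798) (.node .leaf (26214, 0, 17, 215474) .leaf)) (26215, 0, 16, 191602) (.node (.node .leaf (26216, 0, 17, 82058) .leaf) (26217, 0, 17, 106732) (.node .leaf (26218, 0, 16, 4271) .leaf)))) (26219, 0, 13, 230685) (.node (.node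 (.node (.node .leaf (26228, 0, 15, 74852) .leaf) (26229, 0, 16, 115714) (.node .leaf (26230, 0, 11, 29761) .leaf)) (26231, 0, 18, 37927) (.node (.node .leaf (26232, 0, 14, 17079) .leaf) (26233, 0, 17, 138137) (.node .leaf (26234, 0, 17, 157946) .leaf))) (26235, 0, 17, 166044) (.node (.node (.node .leaf (26244, 0, 15, 109128) .leaf) (26245, 0, 12, 84526) (.node .leaf (26246, 0, 16, 121947) .leaf)) (26247, 0, 17, 6667) (.node (.node .leaf (26248, 0, 16, 41384) .leaf) (26249, 0, 15, 194694) (.node .leaf (26250, 0, 14, 215514) .leaf))))) (26251, 0, 16, 69876) (.node (.node (.node (.node (.node .leaf (26260, 0, 13, 250397) .leaf) (26261, 0, 17, 209531) (.node .leaf (26262, 0, 10, 164408) .leaf)) (26263, 0, 16, 156254) (.node (.node .leaf (26264, 0, 17, 186206) .leaf) (26265, 0, 18, 77504) (.node .leaf (26266, 0, 15, 81708) .leaf))) (26267, 0, 16, 222722) (.node (.node (.node .leaf (26276, 0, 15, 172477) .leaf) (26277, 0, 16, 147931) (.node .leaf (26278, 0, 15, 41297) .leaf)) (26279, 0, 17, 194687)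 (.node (.node .leaf (26280, 0, 14, 48390) .leaf) (26281, 0, 14, 23904) (.node .leaf (26282, 0, 18, 126243) .leaf)))) (26283, 0, 16, 28158) (.node (.node (.node (.node .leaf (26292, 0, 14, 81877) .leaf) (26293, 0, 16, 222971) (.node .leaf (26294, 0, 18, 186279) .leaf)) (26295, 0, 17, 92587) (.node (.node .leaf (26296, 0, 18, 181587) .leaf) (26297, 0, 15, 140597) (.node .leaf (26298, 0, 17, 16934) .leaf))) (26299, 0, 17, 137992) (.node (.node (.node .leaf (26304, 0, 15, 195053) .leaf) (26305, 0, 17, 150160) (.node .leaf (26306, 0, 17, 261068) .leaf)) (26307, 0, 19, 215470) (.node (.node .leaf (26316, 0, 14, 165439) .leaf) (26317, 0, 18, 57105) (.node .leaf (26318, 0, 17, 111987) .leaf))))))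

/-- part of the orbit tree -/
def itp0_403 : Tree := (.node (.node (.node (.node (.node (.node .leaf (26320, 0, 14, 157000) .leaf) (26321, 0, 14, 15462) (.node .leaf (26322, 0, 15, 119197) .leaf)) (26323, 0, 17, 250900) (.node (.node .leaf (26332, 0, 18, 61641) .leaf) (26333, 0, 14, 163173) (.node .leaf (26334, 0, 14, 202939) .leaf))) (26335, 0, 17, 208192) (.node (.node (.node .leaf (26336, 0, 19, 127512) .leaf) (26337, 0, 13, 70270) (.node .leaf (26338, 0, 18, 41533) .leaf)) (26339, 0, 18, 16987) (.node (.node .leaf (26348, 0, 15, 260917) .leaf) (26349, 0, 15, 200389) (.node .leaf (26350, 0, 15, 4935) .leaf)))) (26351, 0, 18, 155360) (.node (.node (.node (.node .leaf (26352, 0, 14, 232013) .leaf) (26353, 0, 18, 82284) (.node .leaf (26354, 0, 16, 61488) .leaf)) (26355, 0, 16, 145934) (.node (.node .leaf (26364, 0, 16, 101827) .leaf) (26365, 0, 15, 95888) (.node .leaf (26366, 0, 17, 50899) .leaf))) (26367, 0, 16, 15519) (.node (.node (.node .leaf (26372, 0, 16, 91043) .leaf) (26373, 0, 11,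 211597) (.node .leaf (26374, 0, 14, 166865) .leaf)) (26375, 0, 15, 54015) (.node (.node .leaf (26376, 0, 18, 164749) .leaf) (26377, 0, 17, 110348) (.node .leaf (26378, 0, 15, 250792) .leaf))))) (26379, 0, 12, 149374) (.node (.node (.node (.node (.node .leaf (26388, 0, 14, 190307) .leaf) (26389, 0, 16, 132869) (.node .leaf (26390, 0, 17, 243526) .leaf)) (26391, 0, 15, 218912) (.node (.node .leaf (26392, 0, 17, 98516) .leaf) (26393, 0, 15, 7102) (.node .leaf (26394, 0, 16, 157862) .leaf))) (26395, 0, 16, 12680) (.node (.node (.node .leaf (26404, 0, 17, 7849) .leaf) (26405, 0, 14, 226469) (.node .leaf (26406, 0, 16, 259803) .leaf)) (26407, 0, 17, 140416) (.node (.node .leaf (26408, 0, 17, 100472) .leaf) (26409, 0, 14, 53766) (.node .leaf (26410, 0, 17, 55389) .leaf)))) (26411, 0, 16, 14395) (.node (.node (.node (.node .leaf (26420, 0, 11, 126102) .leaf) (26421, 0, 13, 12657) (.node .leaf (26422, 0, 12, 98349) .leaf)) (26423, 0, 18, 252163) (.node (.node .leaf (26424, 0, 16, 64990) .leaf) (26425,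 0, 14, 200779) (.node .leaf (26426, 0, 11, 172040) .leaf))) (26427, 0, 14, 147566) (.node (.node (.node .leaf (26432, 0, 14, 214068) .leaf) (26433, 0, 14, 208117) (.node .leaf (26434, 0, 14, 44102) .leaf)) (26435, 0, 15, 163024) (.node (.node .leaf (26444, 0, 15, 118824) .leaf) (26445, 0, 16, 231579) (.node .leaf (26446, 0, 15, 145863) .leaf))))))

/-- part of the orbit tree -/
def itp0_404 : Tree := (.node (.node (.node (.node (.node (.node .leaf (26448, 0, 10, 78530) .leaf) (26449, 0, 17, 87200) (.node .leaf (26450, 0, 16, 187056) .leaf)) (26451, 0, 15, 1157) (.node (.node .leaf (26460, 0, 15, 239741) .leaf) (26461, 0, 14, 130669) (.node .leaf (26462, 0, 15, 194648) .leaf))) (26463, 0, 16, 136735) (.node (.node (.node .leaf (26464, 0, 18, 145726) .leaf) (26465, 0, 17, 9984) (.node .leaf (26466, 0, 15, 104259) .leaf)) (26467, 0, 17, 96037) (.node (.node .leaf (26476, 0, 16, 187357) .leaf) (26477, 0, 18, 146363) (.node .leaf (26478, 0, 14, 214221) .leaf)))) (26479, 0, 12, 224158) (.node (.node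 (.node (.node .leaf (26480, 0, 16, 180019) .leaf) (26481, 0, 16, 155477) (.node .leaf (26482, 0, 17, 239546) .leaf)) (26483, 0, 19, 200560) (.node (.node .leaf (26492, 0, 17, 186953) .leaf) (26493, 0, 14, 33639) (.node .leaf (26494, 0, 16, 78395) .leaf))) (26495, 0, 18, 224021) (.node (.node (.node .leaf (26496, 0, 15, 143647) .leaf) (26497, 0, 13, 184697) (.node .leaf (26498, 0, 17, 214181) .leaf)) (26499, 0, 17, 229724) (.node (.node .leaf (26508, 0, 16, 11684) .leaf) (26509, 0, 16, 24696) (.node .leaf (26510, 0, 14, 119076) .leaf))))) (26511, 0, 15, 105959) (.node (.node (.node (.node (.node .leaf (26512, 0, 14, 18762) .leaf) (26513, 0, 14, 33551) (.node .leaf (26514, 0, 14, 72047) .leaf)) (26515, 0, 16, 129289) (.node (.node .leaf (26524, 0, 17, 153073) .leaf) (26525, 0, 17, 136846) (.node .leaf (26526, 0, 18, 198100) .leaf))) (26527, 0, 14, 255410) (.node (.node (.node .leaf (26528, 0, 17, 119261) .leaf) (26529, 0, 16, 231667) (.node .leaf (26530, 0, 16, 145839) .leaf)) (26531, 0, 12,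 35497) (.node (.node .leaf (26540, 0, 18, 214108) .leaf) (26541, 0, 17, 247351) (.node .leaf (26542, 0, 15, 161396) .leaf)))) (26543, 0, 16, 169490) (.node (.node (.node (.node .leaf (26544, 0, 16, 213695) .leaf) (26545, 0, 15, 130565) (.node .leaf (26546, 0, 14, 20313) .leaf)) (26547, 0, 16, 193276) (.node (.node .leaf (26556, 0, 16, 78506) .leaf) (26557, 0, 14, 114274) (.node .leaf (26558, 0, 16, 187096) .leaf))) (26559, 0, 15, 33782) (.node (.node (.node .leaf (26564, 0, 17, 166720) .leaf) (26565, 0, 16, 53870) (.node .leaf (26566, 0, 13, 90930) .leaf)) (26567, 0, 15, 211484) (.node (.node .leaf (26568, 0, 13, 7873) .leaf) (26569, 0, 14, 149487) .leaf)))))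

/-- part of the orbit tree -/
def itp0_405 : Tree := (.node itp0_401 (26187, 0, 14, 194583) itp0_402)

/-- part of the orbit tree -/
def itp0_406 : Tree := (.node itp0_403 (26447, 0, 16, 24683) itp0_404)

/-- part of the orbit tree -/
def itp0_407 : Tree := (.node itp0_399 (25807, 0, 16, 96613) itp0_400)

/-- part of the orbit tree -/
def itp0_408 : Tree := (.node itp0_405 (26319, 0, 14, 87317) itp0_406)

/-- part of the orbit tree -/
def itp0_409 : Tree := (.node itp0_393 (25041, 0, 18, 250717) itp0_394)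

/-- part of the orbit tree -/
def itp0_410 : Tree := (.node itp0_407 (26062, 0, 18, 101506) itp0_408)

/-- part of the orbit tree -/
def itp0_411 : Tree := (.node (.node (.node (.node (.node (.node .leaf (26571, 0, 15, 183874) .leaf) (26580, 0, 17, 64950) (.node .leaf (26581, 0, 18, 260745) .leaf)) (26582, 0, 16, 150218) (.node (.node .leaf (26583, 0, 11, 174764) .leaf) (26584, 0, 16, 157751) (.node .leaf (26585, 0, 18, 12569) .leaf))) (26586, 0, 17, 98373) (.node (.node (.node .leaf (26587, 0, 13, 46615) .leaf) (26596, 0, 14, 158031) (.node .leaf (26597, 0, 15, 110436) .leaf)) (26598, 0, 17, 211306) (.node (.node .leaf (26599, 0, 17, 149270) .leaf) (26600, 0, 16, 30196) (.node .leaf (26601, 0, 17, 211685) .leaf)))) (26602, 0, 15, 75217) (.node (.node (.node (.node .leaf (26603, 0, 17, 116151) .leaf) (26612, 0, 16, 98492) (.node .leaf (26613, 0, 17, 252306) .leaf)) (26614, 0, 18, 82239) (.node (.node .leaf (26615, 0, 16, 12768) .leaf) (26616, 0, 17, 202045) (.node .leaf (26617, 0, 13, 191943)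 .leaf))) (26618, 0, 13, 64847) (.node (.node (.node .leaf (26619, 0, 18, 245218) .leaf) (26625, 0, 14, 192404) (.node .leaf (26626, 0, 16, 72832) .leaf)) (26629, 0, 17, 38368) (.node (.node .leaf (26630, 0, 12, 75171) .leaf) (26632, 0, 15, 23590) (.node .leaf (26635, 0, 17, 252286) .leaf))))) (26636, 0, 17, 151582) (.node (.node (.node (.node (.node .leaf (26639, 0, 17, 254045) .leaf) (26641, 0, 18, 185494) (.node .leaf (26642, 0, 17, 222421) .leaf)) (26645, 0, 16, 190079) (.node (.node .leaf (26646, 0, 16, 218915) .leaf) (26648, 0, 17, 142032) (.node .leaf (26651, 0, 14, 236428) .leaf))) (26652, 0, 17, 10315) (.node (.node (.node .leaf (26655, 0, 18, 104456) .leaf) (26657, 0, 17, 234142) (.node .leaf (26658, 0, 15, 137077) .leaf)) (26661, 0, 18, 237077) (.node (.node .leaf (26662, 0, 15, 142934) .leaf) (26664, 0, 16, 90824) (.node .leaf (26667, 0, 18, 53899) .leaf)))) (26668, 0, 13, 220721) (.node (.node (.node (.node .leaf (26671, 0, 17, 60328) .leaf) (26673, 0, 17, 124008) (.node .leaf (26674,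 0, 17, 21812) .leaf)) (26677, 0, 12, 236405) (.node (.node .leaf (26678, 0, 15, 141865) .leaf) (26680, 0, 17, 219098) (.node .leaf (26683, 0, 16, 174814) .leaf))) (26684, 0, 17, 75975) (.node (.node (.node .leaf (26687, 0, 15, 39323) .leaf) (26688, 0, 15, 206371) (.node .leaf (26691, 0, 17, 89964) .leaf)) (26692, 0, 14, 204544) (.node (.node .leaf (26695, 0, 16, 175939) .leaf) (26697, 0, 17, 155010) (.node .leaf (26698, 0, 17, 21406) .leaf))))))

/-- part of the orbit tree -/
def itp0_412 : Tree := (.node (.node (.node (.node (.node (.node .leaf (26702, 0, 17, 103363) .leaf) (26704, 0, 14, 89718) (.node .leaf (26707, 0, 17, 60981) .leaf)) (26708, 0, 15, 59355) (.node (.node .leaf (26711, 0, 16, 55062) .leaf) (26713, 0, 18, 236424) (.node .leaf (26714, 0, 16, 142283) .leaf))) (26717, 0, 18, 152681) (.node (.node (.node .leaf (26718, 0, 16, 255285) .leaf) (26720, 0, 14, 103226) (.node .leaf (26723, 0, 17, 105877) .leaf)) (26724, 0, 15, 257063) (.node (.node .leaf (26727, 0, 16, 107702) .leaf)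 (26729, 0, 13, 204936) (.node .leaf (26730, 0, 16, 168404) .leaf)))) (26733, 0, 17, 184587) (.node (.node (.node (.node .leaf (26734, 0, 16, 221512) .leaf) (26736, 0, 15, 255436) (.node .leaf (26739, 0, 14, 255424) .leaf)) (26740, 0, 16, 158880) (.node (.node .leaf (26743, 0, 15, 11149) .leaf) (26745, 0, 14, 36989) (.node .leaf (26746, 0, 15, 59170) .leaf))) (26749, 0, 17, 207203) (.node (.node (.node .leaf (26750, 0, 15, 71965) .leaf) (26752, 0, 14, 198355) (.node .leaf (26755, 0, 18, 224236) .leaf)) (26756, 0, 18, 189068) (.node (.node .leaf (26759, 0, 15, 51346) .leaf) (26761, 0, 17, 7761) (.node .leaf (26762, 0, 16, 1085) .leaf))))) (26765, 0, 17, 10098) (.node (.node (.node (.node (.node .leaf (26766, 0, 16, 104241) .leaf) (26768, 0, 17, 41978) (.node .leaf (26771, 0, 17, 49529) .leaf)) (26772, 0, 16, 200504) (.node (.node .leaf (26775, 0, 17, 76442) .leaf) (26777, 0, 11, 157188) (.node .leaf (26778, 0, 17, 251463) .leaf))) (26781, 0, 16, 113802) (.node (.node (.node .leaf (26782, 0, 16,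 3542) .leaf) (26784, 0, 15, 162777) (.node .leaf (26787, 0, 16, 24601) .leaf)) (26788, 0, 16, 125305) (.node (.node .leaf (26791, 0, 16, 112024) .leaf) (26793, 0, 14, 51307) (.node .leaf (26794, 0, 18, 96567) .leaf)))) (26797, 0, 17, 208007) (.node (.node (.node (.node .leaf (26798, 0, 15, 171204) .leaf) (26800, 0, 15, 3375) (.node .leaf (26803, 0, 17, 137292) .leaf)) (26804, 0, 16, 160306) (.node (.node .leaf (26807, 0, 15, 246638) .leaf) (26809, 0, 17, 179869) (.node .leaf (26810, 0, 14, 56754) .leaf))) (26813, 0, 17, 49536) (.node (.node (.node .leaf (26814, 0, 15, 94428) .leaf) (26817, 0, 14, 67447) (.node .leaf (26818, 0, 16, 57612) .leaf)) (26821, 0, 16, 92268) (.node (.node .leaf (26822, 0, 13, 55343) .leaf) (26824, 0, 17, 234673) (.node .leaf (26827, 0, 16, 132505) .leaf))))))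

/-- part of the orbit tree -/
def itp0_413 : Tree := (.node (.node (.node (.node (.node (.node .leaf (26831, 0, 14, 31364) .leaf) (26833, 0, 15, 225665) (.node .leaf (26834, 0, 15, 170329) .leaf)) (26837, 0, 14, 69276) (.node (.node .leaf (26838, 0, 17, 172154) .leaf) (26840, 0, 15, 115251) (.node .leaf (26843, 0, 16, 23719) .leaf))) (26844, 0, 17, 245038) (.node (.node (.node .leaf (26847, 0, 13, 134258) .leaf) (26849, 0, 13, 31357) (.node .leaf (26850, 0, 17, 117537) .leaf)) (26853, 0, 12, 132448) (.node (.node .leaf (26854, 0, 19, 242748) .leaf) (26856, 0, 17, 182735) (.node .leaf (26859, 0, 16, 77575) .leaf)))) (26860, 0, 16, 42599) (.node (.node (.node (.node .leaf (26863, 0, 19, 71204) .leaf) (26865, 0, 19, 8943) (.node .leaf (26866, 0, 15, 103084) .leaf)) (26869, 0, 16, 29590) (.node (.node .leaf (26870, 0, 16, 115402) .leaf) (26872, 0, 16, 48953) (.node .leaf (26875, 0, 11, 218962) .leaf))) (26876, 0, 16, 180260) (.node (.node (.node .leaf (26879, 0, 16, 225656) .leaf) (26880, 0, 16,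 20825) (.node .leaf (26883, 0, 15, 122885) .leaf)) (26884, 0, 17, 251890) (.node (.node .leaf (26887, 0, 14, 157617) .leaf) (26889, 0, 14, 76591) (.node .leaf (26890, 0, 16, 39788) .leaf))))) (26893, 0, 15, 40438) (.node (.node (.node (.node (.node .leaf (26894, 0, 17, 76970) .leaf) (26896, 0, 17, 104068) (.node .leaf (26899, 0, 16, 9927) .leaf)) (26900, 0, 16, 110503) (.node (.node .leaf (26903, 0, 15, 125422) .leaf) (26905, 0, 16, 217978) (.node .leaf (26906, 0, 16, 189241) .leaf))) (26909, 0, 15, 191232) (.node (.node (.node .leaf (26910, 0, 17, 186906) .leaf) (26912, 0, 17, 58660) (.node .leaf (26915, 0, 16, 87399) .leaf)) (26916, 0, 17, 56327) (.node (.node .leaf (26919, 0, 15, 93252) .leaf) (26921, 0, 16, 237537) (.node .leaf (26922, 0, 17, 143037) .leaf)))) (26925, 0, 15, 137721) (.node (.node (.node (.node .leaf (26926, 0, 12, 240058) .leaf) (26928, 0, 17, 219813) (.node .leaf (26931, 0, 15, 208178) .leaf)) (26932, 0, 15, 173138) (.node (.node .leaf (26935, 0, 16, 201745) .leaf) (26937,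 0, 16, 125207) (.node .leaf (26938, 0, 17, 22603) .leaf))) (26941, 0, 15, 25004) (.node (.node (.node .leaf (26942, 0, 16, 119279) .leaf) (26945, 0, 17, 151805) (.node .leaf (26946, 0, 15, 119922) .leaf)) (26949, 0, 16, 23826) (.node (.node .leaf (26950, 0, 16, 126289) .leaf) (26952, 0, 17, 172495) (.node .leaf (26955, 0, 17, 86547) .leaf))))))

/-- part of the orbit tree -/
def itp0_414 : Tree := (.node (.node (.node (.node (.node (.node .leaf (26959, 0, 14, 208142) .leaf) (26961, 0, 17, 138340) (.node .leaf (26962, 0, 14, 104279) .leaf)) (26965, 0, 15, 140615) (.node (.node .leaf (26966, 0, 15, 256074) .leaf) (26968, 0, 15, 55706) (.node .leaf (26971, 0, 12, 206053) .leaf))) (26972, 0, 19, 60068) (.node (.node (.node .leaf (26975, 0, 17, 89080) .leaf) (26977, 0, 15, 208375) (.node .leaf (26978, 0, 18, 171179) .leaf)) (26981, 0, 16, 218855) (.node (.node .leaf (26982, 0, 17, 190116) .leaf) (26984, 0, 10, 109114) (.node .leaf (26987, 0, 17, 6777) .leaf)))) (26988, 0, 16, 103193) (.node (.node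 (.node (.node .leaf (26991, 0, 14, 151556) .leaf) (26993, 0, 18, 88833) (.node .leaf (26994, 0, 14, 42962) .leaf)) (26997, 0, 16, 205852) (.node (.node .leaf (26998, 0, 18, 169280) .leaf) (27000, 0, 12, 250479) (.node .leaf (27003, 0, 17, 154095) .leaf))) (27004, 0, 18, 256844) (.node (.node (.node .leaf (27007, 0, 16, 9970) .leaf) (27009, 0, 16, 104893) (.node .leaf (27010, 0, 15, 10750) .leaf)) (27013, 0, 19, 106654) (.node (.node .leaf (27014, 0, 16, 161375) .leaf) (27016, 0, 18, 220227) (.node .leaf (27019, 0, 10, 191488) .leaf))))) (27020, 0, 17, 95409) (.node (.node (.node (.node (.node .leaf (27023, 0, 16, 50669) .leaf) (27025, 0, 11, 249576) (.node .leaf (27026, 0, 16, 151979) .leaf)) (27029, 0, 17, 252107) (.node (.node .leaf (27030, 0, 16, 157832) .leaf) (27032, 0, 16, 97626) (.node .leaf (27035, 0, 17, 37973) .leaf))) (27036, 0, 18, 73013) (.node (.node (.node .leaf (27039, 0, 13, 44406) .leaf) (27041, 0, 15, 168520) (.node .leaf (27042, 0, 15, 95304) .leaf)) (27045, 0, 19, 178697)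 (.node (.node .leaf (27046, 0, 16, 199509) .leaf) (27048, 0, 15, 161446) (.node .leaf (27051, 0, 16, 247802) .leaf)))) (27052, 0, 18, 2491) (.node (.node (.node (.node .leaf (27055, 0, 15, 122582) .leaf) (27057, 0, 18, 59933) (.node .leaf (27058, 0, 14, 88670) .leaf)) (27061, 0, 16, 52479) (.node (.node .leaf (27062, 0, 15, 97699) .leaf) (27064, 0, 16, 80) (.node .leaf (27067, 0, 15, 110860) .leaf))) (27068, 0, 11, 136896) (.node (.node (.node .leaf (27071, 0, 16, 239235) .leaf) (27072, 0, 15, 136029) (.node .leaf (27075, 0, 16, 238366) .leaf)) (27076, 0, 14, 116391) (.node (.node .leaf (27079, 0, 17, 30715) .leaf) (27081, 0, 13, 68104) (.node .leaf (27082, 0, 7, 47956) .leaf))))))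

/-- part of the orbit tree -/
def itp0_415 : Tree := (.node itp0_411 (26701, 0, 15, 121598) itp0_412)

/-- part of the orbit tree -/
def itp0_416 : Tree := (.node itp0_413 (26956, 0, 17, 170220) itp0_414)

/-- part of the orbit tree -/
def itp0_417 : Tree := (.node (.node (.node (.node (.node (.node .leaf (27086, 0, 15, 90051) .leaf) (27088, 0, 18, 118604) (.node .leaf (27091, 0, 17, 121675) .leaf)) (27092, 0, 15, 21035) (.node (.node .leaf (27095, 0, 15, 123496) .leaf) (27097, 0, 14, 228606) (.node .leaf (27098, 0, 18, 183714) .leaf))) (27101, 0, 17, 169941) (.node (.node (.node .leaf (27102, 0, 15, 45759) .leaf) (27104, 0, 17, 71848) (.node .leaf (27107, 0, 17, 43243) .leaf)) (27108, 0, 14, 74123) (.node (.node .leaf (27111, 0, 15, 68337) .leaf) (27113, 0, 16, 253270) (.node .leaf (27114, 0, 18, 116318) .leaf)))) (27117, 0, 18, 133151) (.node (.node (.node (.node .leaf (27118, 0, 18, 244035) .leaf) (27120, 0, 16, 221437) (.node .leaf (27123, 0, 17, 66330) .leaf)) (27124, 0, 15, 183643) (.node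 (.node .leaf (27127, 0, 13, 228359) .leaf) (27129, 0, 15, 131572) (.node .leaf (27130, 0, 17, 5440) .leaf))) (27133, 0, 16, 105504) (.node (.node (.node .leaf (27134, 0, 18, 11363) .leaf) (27136, 0, 15, 45974) (.node .leaf (27137, 0, 12, 191160) .leaf)) (27140, 0, 17, 183435) (.node (.node .leaf (27141, 0, 15, 38309) .leaf) (27146, 0, 15, 202088) (.node .leaf (27147, 0, 16, 125014) .leaf))))) (27150, 0, 15, 207947) (.node (.node (.node (.node (.node .leaf (27151, 0, 17, 235339) .leaf) (27152, 0, 13, 137344) (.node .leaf (27153, 0, 17, 40014) .leaf)) (27156, 0, 12, 47741) (.node (.node .leaf (27157, 0, 17, 180677) .leaf) (27162, 0, 13, 116622) (.node .leaf (27163, 0, 17, 237216) .leaf))) (27166, 0, 16, 243859) (.node (.node (.node .leaf (27167, 0, 18, 123325) .leaf) (27168, 0, 16, 224032) (.node .leaf (27169, 0, 16, 232262) .leaf)) (27172, 0, 16, 217603) (.node (.node .leaf (27173, 0, 15, 125103) .leaf) (27178, 0, 17, 7837) (.node .leaf (27179, 0, 15, 65275) .leaf)))) (27182, 0, 16, 10174) (.node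 (.node (.node (.node .leaf (27183, 0, 17, 51160) .leaf) (27184, 0, 15, 243818) (.node .leaf (27185, 0, 15, 127763) .leaf)) (27188, 0, 17, 116599) (.node (.node .leaf (27189, 0, 15, 117296) .leaf) (27194, 0, 16, 47748) (.node .leaf (27195, 0, 16, 189354) .leaf))) (27198, 0, 16, 155627) (.node (.node (.node .leaf (27199, 0, 16, 40119) .leaf) (27202, 0, 14, 154230) (.node .leaf (27203, 0, 16, 88640) .leaf)) (27206, 0, 14, 156501) (.node (.node .leaf (27207, 0, 16, 206173) .leaf) (27208, 0, 15, 384) (.node .leaf (27209, 0, 17, 118701) .leaf))))))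

/-- part of the orbit tree -/
def itp0_418 : Tree := (.node (.node (.node (.node (.node (.node .leaf (27213, 0, 18, 10163) .leaf) (27218, 0, 16, 8739) (.node .leaf (27219, 0, 14, 208054) .leaf)) (27222, 0, 18, 6912) (.node (.node .leaf (27223, 0, 16, 86955) .leaf) (27224, 0, 9, 161654) (.node .leaf (27225, 0, 16, 11864) .leaf))) (27228, 0, 18, 224957) (.node (.node (.node .leaf (27229, 0, 14, 233179) .leaf) (27234, 0, 16, 163428) (.node .leaf (27235, 0, 16, 111077) .leaf)) (27238, 0, 15, 92320) (.node (.node .leaf (27239, 0, 14, 153687) .leaf) (27240, 0, 17, 97418) (.node .leaf (27241, 0, 17, 181336) .leaf)))) (27244, 0, 17, 197527) (.node (.node (.node (.node .leaf (27245, 0, 15, 195963) .leaf) (27250, 0, 12, 207318) (.node .leaf (27251, 0, 18, 248240) .leaf)) (27254, 0, 17, 161679) (.node (.node .leaf (27255, 0, 17, 11937) .leaf) (27256, 0, 16, 199292) (.node .leaf (27257, 0, 17, 48141) .leaf))) (27260, 0, 16, 25928) (.node (.node (.node .leaf (27261, 0, 18, 34094) .leaf) (27266, 0, 19,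 239610) (.node .leaf (27267, 0, 15, 176803) .leaf)) (27270, 0, 19, 237273) (.node (.node .leaf (27271, 0, 18, 229055) .leaf) (27272, 0, 16, 53831) (.node .leaf (27273, 0, 15, 110669) .leaf))))) (27276, 0, 16, 60260) (.node (.node (.node (.node (.node .leaf (27277, 0, 16, 2818) .leaf) (27282, 0, 16, 171387) (.node .leaf (27283, 0, 15, 50261) .leaf)) (27286, 0, 15, 57958) (.node (.node .leaf (27287, 0, 17, 179016) .leaf) (27288, 0, 15, 174610) (.node .leaf (27289, 0, 17, 150132) .leaf))) (27292, 0, 14, 168753) (.node (.node (.node .leaf (27293, 0, 16, 113062) .leaf) (27298, 0, 14, 104071) (.node .leaf (27299, 0, 11, 249769) .leaf)) (27302, 0, 17, 256410) (.node (.node .leaf (27303, 0, 18, 30026) .leaf) (27304, 0, 16, 169065) (.node .leaf (27305, 0, 17, 211412) .leaf)))) (27308, 0, 14, 254097) (.node (.node (.node (.node .leaf (27309, 0, 16, 196855) .leaf) (27314, 0, 16, 185434) (.node .leaf (27315, 0, 8, 144444) .leaf)) (27318, 0, 17, 191865) (.node (.node .leaf (27319, 0, 16, 247362) .leaf)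 (27320, 0, 17, 106983) (.node .leaf (27321, 0, 17, 82305) .leaf))) (27324, 0, 15, 171394) (.node (.node (.node .leaf (27325, 0, 17, 96418) .leaf) (27328, 0, 15, 220021) (.node .leaf (27329, 0, 18, 66139) .leaf)) (27332, 0, 18, 107642) (.node (.node .leaf (27333, 0, 15, 82972) .leaf) (27338, 0, 16, 190692) (.node .leaf (27339, 0, 13, 131253) .leaf))))))

/-- part of the orbit tree -/
def itp0_419 : Tree := (.node (.node (.node (.node (.node (.node .leaf (27343, 0, 16, 143777) .leaf) (27344, 0, 12, 77187) (.node .leaf (27345, 0, 18, 226477) .leaf)) (27348, 0, 17, 217758) (.node (.node .leaf (27349, 0, 16, 68528) .leaf) (27354, 0, 15, 143213) (.node .leaf (27355, 0, 16, 30275) .leaf))) (27358, 0, 16, 43410) (.node (.node (.node .leaf (27359, 0, 16, 133470) .leaf) (27360, 0, 18, 169644) (.node .leaf (27361, 0, 17, 161482) .leaf)) (27364, 0, 18, 22882) (.node (.node .leaf (27365, 0, 10, 131148) .leaf) (27370, 0, 18, 123665) (.node .leaf (27371, 0, 17, 228799) .leaf)))) (27374, 0, 14, 121394) (.node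 (.node (.node (.node .leaf (27375, 0, 16, 66210) .leaf) (27376, 0, 15, 20617) (.node .leaf (27377, 0, 18, 133543) .leaf)) (27380, 0, 15, 55258) (.node (.node .leaf (27381, 0, 17, 30394) .leaf) (27386, 0, 15, 217703) (.node .leaf (27387, 0, 15, 68425) .leaf))) (27390, 0, 16, 77178) (.node (.node (.node .leaf (27391, 0, 16, 226388) .leaf) (27394, 0, 16, 168580) (.node .leaf (27395, 0, 14, 160482) .leaf)) (27398, 0, 18, 175015) (.node (.node .leaf (27399, 0, 17, 236084) .leaf) (27400, 0, 17, 48873) (.node .leaf (27401, 0, 18, 190407) .leaf))))) (27404, 0, 17, 122394) (.node (.node (.node (.node (.node .leaf (27405, 0, 17, 81532) .leaf) (27410, 0, 18, 60113) (.node .leaf (27411, 0, 15, 234463) .leaf)) (27414, 0, 16, 243180) (.node (.node .leaf (27415, 0, 17, 126146) .leaf) (27416, 0, 19, 237420) (.node .leaf (27417, 0, 16, 229130) .leaf))) (27420, 0, 15, 46850) (.node (.node (.node .leaf (27421, 0, 12, 214569) .leaf) (27426, 0, 15, 180493) (.node .leaf (27427, 0, 19, 96535) .leaf)) (27430, 0, 15,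 48656) (.node (.node .leaf (27431, 0, 17, 81972) .leaf) (27432, 0, 13, 115683) (.node .leaf (27433, 0, 13, 134314) .leaf)))) (27436, 0, 12, 244990) (.node (.node (.node (.node .leaf (27437, 0, 14, 144777) .leaf) (27442, 0, 16, 254244) (.node .leaf (27443, 0, 18, 196930) .leaf)) (27446, 0, 17, 251911) (.node (.node .leaf (27447, 0, 17, 211041) .leaf) (27448, 0, 16, 242965) (.node .leaf (27449, 0, 19, 29951) .leaf))) (27452, 0, 17, 117256) (.node (.node (.node .leaf (27453, 0, 16, 234278) .leaf) (27456, 0, 10, 3327) (.node .leaf (27457, 0, 17, 153041) .leaf)) (27460, 0, 14, 160738) (.node (.node .leaf (27461, 0, 16, 29026) .leaf) (27466, 0, 17, 200209) (.node .leaf (27467, 0, 17, 87871) .leaf))))))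

/-- part of the orbit tree -/
def itp0_420 : Tree := (.node (.node (.node (.node (.node (.node .leaf (27471, 0, 16, 206882) .leaf) (27472, 0, 17, 162313) (.node .leaf (27473, 0, 17, 8999) .leaf)) (27476, 0, 19, 190801) (.node (.node .leaf (27477, 0, 15, 133431) .leaf) (27482, 0, 17, 96487) (.node .leaf (27483, 0, 17, 205257) .leaf))) (27486, 0, 15, 105708) (.node (.node (.node .leaf (27487, 0, 17, 97418) .leaf) (27488, 0, 18, 94709) (.node .leaf (27489, 0, 15, 207067) .leaf)) (27492, 0, 16, 200424) (.node (.node .leaf (27493, 0, 13, 227991) .leaf) (27498, 0, 13, 160539) (.node .leaf (27499, 0, 16, 10805) .leaf)))) (27502, 0, 17, 3078) (.node (.node (.node (.node .leaf (27503, 0, 16, 152872) .leaf) (27504, 0, 17, 198403) (.node .leaf (27505, 0, 15, 80865) .leaf)) (27508, 0, 17, 96286) (.node (.node .leaf (27509, 0, 17, 66242) .leaf) (27514, 0, 17, 1517) (.node .leaf (27515, 0, 15, 151132) .leaf))) (27518, 0, 17, 169753) (.node (.node (.node .leaf (27519, 0, 16, 161663) .leaf) (27520, 0, 15,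 87467) (.node .leaf (27521, 0, 14, 112077) .leaf)) (27524, 0, 16, 93320) (.node (.node .leaf (27525, 0, 16, 246319) .leaf) (27530, 0, 17, 139286) (.node .leaf (27531, 0, 14, 180336) .leaf))))) (27534, 0, 16, 137525) (.node (.node (.node (.node (.node .leaf (27535, 0, 17, 49345) .leaf) (27536, 0, 17, 103146) (.node .leaf (27537, 0, 18, 249240) .leaf)) (27540, 0, 17, 257527) (.node (.node .leaf (27541, 0, 16, 111833) .leaf) (27546, 0, 18, 22595) (.node .leaf (27547, 0, 17, 47141) .leaf))) (27550, 0, 12, 24928) (.node (.node (.node .leaf (27551, 0, 17, 33030) .leaf) (27552, 0, 17, 170262) (.node .leaf (27553, 0, 18, 179768) .leaf)) (27556, 0, 17, 58891) (.node (.node .leaf (27557, 0, 17, 165659) .leaf) (27562, 0, 13, 76771) (.node .leaf (27563, 0, 16, 246486) .leaf)))) (27566, 0, 18, 70336) (.node (.node (.node (.node .leaf (27567, 0, 19, 127654) .leaf) (27568, 0, 16, 61408) (.node .leaf (27569, 0, 15, 177870) .leaf)) (27572, 0, 14, 168189) (.node (.node .leaf (27573, 0, 14, 65358) .leaf) (27578,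 0, 17, 257294) (.node .leaf (27579, 0, 13, 242640) .leaf))) (27582, 0, 15, 223893) (.node (.node (.node .leaf (27583, 0, 17, 232179) .leaf) (27586, 0, 17, 21732) (.node .leaf (27587, 0, 13, 134602) .leaf)) (27590, 0, 18, 218667) (.node (.node .leaf (27591, 0, 18, 243277) .leaf) (27592, 0, 17, 218634) .leaf)))))

/-- part of the orbit tree -/
def itp0_421 : Tree := (.node itp0_417 (27212, 0, 16, 71400) itp0_418)

/-- part of the orbit tree -/
def itp0_422 : Tree := (.node itp0_419 (27470, 0, 17, 255161) itp0_420)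

/-- part of the orbit tree -/
def itp0_423 : Tree := (.node itp0_415 (26828, 0, 16, 117720) itp0_416)

/-- part of the orbit tree -/
def itp0_424 : Tree := (.node itp0_421 (27342, 0, 16, 184775) itp0_422)

/-- part of the orbit tree -/
def itp0_425 : Tree := (.node (.node (.node (.node (.node (.node .leaf (27596, 0, 14, 9110) .leaf) (27597, 0, 13, 225337) (.node .leaf (27602, 0, 16, 139794) .leaf)) (27603, 0, 17, 31548) (.node (.node .leaf (27606, 0, 16, 77438) .leaf) (27607, 0, 17, 118296) (.node .leaf (27608, 0, 17, 156384) .leaf))) (27609, 0, 18, 164486) (.node (.node (.node .leaf (27612, 0, 13, 221153) .leaf) (27613, 0, 17, 179109) (.node .leaf (27618, 0, 15, 25853) .leaf)) (27619, 0, 12, 225472) (.node (.node .leaf (27622, 0, 18, 24030) .leaf) (27623, 0, 14, 69597) (.node .leaf (27624, 0, 14, 142080) .leaf)))) (27625, 0, 15, 29230) (.node (.node (.node (.node .leaf (27628, 0, 13, 21533) .leaf) (27629, 0, 16, 247813) (.node .leaf (27634, 0, 14, 220952) .leaf)) (27635, 0, 16, 195790) (.node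 (.node .leaf (27638, 0, 15, 140683) .leaf) (27639, 0, 18, 227627) (.node .leaf (27640, 0, 15, 92437) .leaf))) (27641, 0, 17, 132312) (.node (.node (.node .leaf (27644, 0, 16, 86070) .leaf) (27645, 0, 15, 110672) (.node .leaf (27648, 0, 15, 244558) .leaf)) (27650, 0, 18, 21308) (.node (.node .leaf (27652, 0, 14, 93998) .leaf) (27654, 0, 16, 142369) (.node .leaf (27657, 0, 17, 67836) .leaf))))) (27659, 0, 16, 181206) (.node (.node (.node (.node (.node .leaf (27661, 0, 18, 240336) .leaf) (27663, 0, 14, 195317) (.node .leaf (27664, 0, 17, 118200) .leaf)) (27666, 0, 17, 163453) (.node (.node .leaf (27668, 0, 15, 242341) .leaf) (27670, 0, 16, 149342) (.node .leaf (27673, 0, 17, 228874) .leaf))) (27675, 0, 14, 48003) (.node (.node (.node .leaf (27677, 0, 17, 119429) .leaf) (27679, 0, 18, 190821) (.node .leaf (27680, 0, 14, 181828) .leaf)) (27682, 0, 17, 200157) (.node (.node .leaf (27684, 0, 14, 47449) .leaf) (27686, 0, 19, 210174) (.node .leaf (27689, 0, 13, 30198) .leaf)))) (27691, 0, 17, 116771)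 (.node (.node (.node (.node .leaf (27693, 0, 16, 41253) .leaf) (27695, 0, 17, 127232) (.node .leaf (27696, 0, 16, 9645) .leaf)) (27698, 0, 18, 219328) (.node (.node .leaf (27700, 0, 15, 7310) .leaf) (27702, 0, 18, 75741) (.node .leaf (27705, 0, 13, 188499) .leaf))) (27707, 0, 16, 125810) (.node (.node (.node .leaf (27709, 0, 14, 31773) .leaf) (27711, 0, 14, 231765) (.node .leaf (27713, 0, 15, 187629) .leaf)) (27715, 0, 16, 232648) (.node (.node .leaf (27717, 0, 18, 247287) .leaf) (27719, 0, 19, 243179) (.node .leaf (27720, 0, 13, 6419) .leaf))))))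

/-- part of the orbit tree -/
def itp0_426 : Tree := (.node (.node (.node (.node (.node (.node .leaf (27724, 0, 17, 8240) .leaf) (27726, 0, 15, 94229) (.node .leaf (27729, 0, 18, 42168) .leaf)) (27731, 0, 17, 128157) (.node (.node .leaf (27733, 0, 13, 40347) .leaf) (27735, 0, 17, 154483) (.node .leaf (27736, 0, 10, 155974) .leaf))) (27738, 0, 16, 169948) (.node (.node (.node .leaf (27740, 0, 16, 196787) .leaf) (27742, 0, 14, 198720) (.node .leaf (27745, 0, 13, 120600) .leaf)) (27747, 0, 16, 34621) (.node (.node .leaf (27749, 0, 13, 178429) .leaf) (27751, 0, 15, 86159) (.node .leaf (27752, 0, 18, 160850) .leaf)))) (27754, 0, 16, 105504) (.node (.node (.node (.node .leaf (27756, 0, 16, 207813) .leaf) (27758, 0, 15, 162784) (.node .leaf (27761, 0, 12, 241485) .leaf)) (27763, 0, 18, 88420) (.node (.node .leaf (27765, 0, 16, 52747) .leaf) (27767, 0, 16, 181835) (.node .leaf (27768, 0, 16, 92851) .leaf))) (27770, 0, 18, 256726) (.node (.node (.node .leaf (27772, 0, 17, 86928) .leaf) (27774, 0, 15,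 103883) (.node .leaf (27777, 0, 16, 205153) .leaf)) (27779, 0, 16, 160068) (.node (.node .leaf (27781, 0, 16, 11540) .leaf) (27783, 0, 16, 247142) (.node .leaf (27784, 0, 13, 124063) .leaf))))) (27786, 0, 17, 46266) (.node (.node (.node (.node (.node .leaf (27788, 0, 17, 171686) .leaf) (27790, 0, 15, 36249) (.node .leaf (27793, 0, 18, 88372) .leaf)) (27795, 0, 15, 2321) (.node (.node .leaf (27797, 0, 16, 90135) .leaf) (27799, 0, 16, 12338) (.node .leaf (27800, 0, 16, 236746) .leaf))) (27802, 0, 17, 183535) (.node (.node (.node .leaf (27804, 0, 17, 59472) .leaf) (27806, 0, 17, 196642) (.node .leaf (27809, 0, 12, 208643) .leaf)) (27811, 0, 17, 51057) (.node (.node .leaf (27813, 0, 18, 5047) .leaf) (27815, 0, 17, 82834) (.node .leaf (27816, 0, 17, 105649) .leaf)))) (27818, 0, 15, 160963) (.node (.node (.node (.node .leaf (27820, 0, 15, 254892) .leaf) (27822, 0, 15, 231020) (.node .leaf (27825, 0, 9, 152257) .leaf)) (27827, 0, 15, 197348) (.node (.node .leaf (27829, 0, 9, 158690) .leaf) (27831,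 0, 14, 52890) (.node .leaf (27832, 0, 16, 256583) .leaf))) (27834, 0, 17, 565) (.node (.node (.node .leaf (27836, 0, 15, 103770) .leaf) (27838, 0, 17, 130617) (.node .leaf (27840, 0, 17, 21421) .leaf)) (27842, 0, 18, 129956) (.node (.node .leaf (27844, 0, 16, 37538) .leaf) (27846, 0, 17, 115335) (.node .leaf (27849, 0, 18, 188447) .leaf))))))

/-- part of the orbit tree -/
def itp0_427 : Tree := (.node (.node (.node (.node (.node (.node .leaf (27853, 0, 14, 40706) .leaf) (27855, 0, 15, 227184) (.node .leaf (27856, 0, 17, 185300) .leaf)) (27858, 0, 15, 118057) (.node (.node .leaf (27860, 0, 17, 191223) .leaf) (27862, 0, 16, 242228) (.node .leaf (27865, 0, 14, 5674) .leaf))) (27867, 0, 13, 83471) (.node (.node (.node .leaf (27869, 0, 16, 190964) .leaf) (27871, 0, 12, 65926) (.node .leaf (27872, 0, 14, 77479) .leaf)) (27874, 0, 16, 192593) (.node (.node .leaf (27876, 0, 15, 217530) .leaf) (27878, 0, 17, 47560) (.node .leaf (27881, 0, 15, 91530) .leaf)))) (27883, 0, 16, 30055) (.node (.node (.node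 (.node .leaf (27885, 0, 17, 89257) .leaf) (27887, 0, 15, 3212) (.node .leaf (27888, 0, 15, 219217) .leaf)) (27890, 0, 16, 34820) (.node (.node .leaf (27892, 0, 15, 123138) .leaf) (27894, 0, 14, 45351) (.node .leaf (27897, 0, 16, 204255) .leaf))) (27899, 0, 15, 131985) (.node (.node (.node .leaf (27901, 0, 16, 206076) .leaf) (27903, 0, 13, 160985) (.node .leaf (27905, 0, 16, 66947) .leaf)) (27907, 0, 17, 191985) (.node (.node .leaf (27909, 0, 17, 227998) .leaf) (27911, 0, 16, 37612) (.node .leaf (27912, 0, 14, 243249) .leaf))))) (27914, 0, 12, 24131) (.node (.node (.node (.node (.node .leaf (27916, 0, 17, 59586) .leaf) (27918, 0, 17, 112871) (.node .leaf (27921, 0, 16, 27722) .leaf)) (27923, 0, 16, 81007) (.node (.node .leaf (27925, 0, 19, 21865) .leaf) (27927, 0, 18, 66892) (.node .leaf (27928, 0, 18, 174516) .leaf))) (27930, 0, 14, 141493) (.node (.node (.node .leaf (27932, 0, 16, 168087) .leaf) (27934, 0, 17, 245938) (.node .leaf (27937, 0, 16, 30857) .leaf)) (27939, 0, 15, 233723) (.node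 (.node .leaf (27941, 0, 14, 133012) .leaf) (27943, 0, 14, 30444) (.node .leaf (27944, 0, 18, 252436) .leaf)))) (27946, 0, 14, 166449) (.node (.node (.node (.node .leaf (27948, 0, 17, 254775) .leaf) (27950, 0, 16, 220244) (.node .leaf (27953, 0, 16, 223167) .leaf)) (27955, 0, 17, 124429) (.node (.node .leaf (27957, 0, 16, 220828) .leaf) (27959, 0, 16, 235792) (.node .leaf (27960, 0, 16, 107073) .leaf))) (27962, 0, 15, 218559) (.node (.node (.node .leaf (27964, 0, 18, 105314) .leaf) (27966, 0, 18, 52039) (.node .leaf (27968, 0, 15, 197671) .leaf)) (27970, 0, 18, 60501) (.node (.node .leaf (27972, 0, 17, 97082) .leaf) (27974, 0, 16, 168776) (.node .leaf (27977, 0, 16, 219905) .leaf))))))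

/-- part of the orbit tree -/
def itp0_428 : Tree := (.node (.node (.node (.node (.node (.node .leaf (27981, 0, 16, 221730) .leaf) (27983, 0, 18, 8442) (.node .leaf (27984, 0, 17, 255658) .leaf)) (27986, 0, 18, 177807) (.node (.node .leaf (27988, 0, 18, 200140) .leaf) (27990, 0, 16, 167852) (.node .leaf (27993, 0, 17, 74580) .leaf))) (27995, 0, 15, 29553) (.node (.node (.node .leaf (27997, 0, 16, 72311) .leaf) (27999, 0, 16, 153100) (.node .leaf (28000, 0, 16, 162093) .leaf)) (28002, 0, 18, 102751) (.node (.node .leaf (28004, 0, 13, 175145) .leaf) (28006, 0, 18, 261132) (.node .leaf (28009, 0, 16, 20724) .leaf)))) (28011, 0, 14, 205549) (.node (.node (.node (.node .leaf (28013, 0, 15, 177538) .leaf) (28015, 0, 17, 80370) (.node .leaf (28016, 0, 15, 4059) .leaf)) (28018, 0, 14, 114042) (.node (.node .leaf (28020, 0, 17, 54396) .leaf) (28022, 0, 17, 104628) (.node .leaf (28025, 0, 13, 179305) .leaf))) (28027, 0, 15, 87067) (.node (.node (.node .leaf (28029, 0, 15, 135554) .leaf) (28031, 0, 15,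 213415) (.node .leaf (28032, 0, 18, 25459) .leaf)) (28034, 0, 17, 197814) (.node (.node .leaf (28036, 0, 14, 168921) .leaf) (28038, 0, 15, 68213) (.node .leaf (28041, 0, 15, 155510) .leaf))))) (28043, 0, 13, 259752) (.node (.node (.node (.node (.node .leaf (28045, 0, 15, 171950) .leaf) (28047, 0, 17, 247833) (.node .leaf (28048, 0, 17, 138022) .leaf)) (28050, 0, 14, 94784) (.node (.node .leaf (28052, 0, 16, 139781) .leaf) (28054, 0, 18, 200029) (.node .leaf (28057, 0, 16, 57048) .leaf))) (28059, 0, 18, 246258) (.node (.node (.node .leaf (28061, 0, 16, 59387) .leaf) (28063, 0, 16, 112606) (.node .leaf (28064, 0, 16, 223366) .leaf)) (28066, 0, 14, 145571) (.node (.node .leaf (28068, 0, 16, 217509) .leaf) (28070, 0, 16, 131456) (.node .leaf (28073, 0, 17, 109944) .leaf)))) (28075, 0, 16, 51726) (.node (.node (.node (.node .leaf (28077, 0, 9, 89441) .leaf) (28079, 0, 19, 177427) (.node .leaf (28080, 0, 15, 69843) .leaf)) (28082, 0, 14, 3914) (.node (.node .leaf (28084, 0, 17, 104485) .leaf) (28086,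 0, 13, 159831) (.node .leaf (28089, 0, 15, 251181) .leaf))) (28091, 0, 18, 165128) (.node (.node (.node .leaf (28093, 0, 18, 207767) .leaf) (28095, 0, 18, 179243) (.node .leaf (28097, 0, 15, 256403) .leaf)) (28099, 0, 16, 66834) (.node (.node .leaf (28101, 0, 16, 37501) .leaf) (28103, 0, 15, 163989) (.node .leaf (28104, 0, 12, 76909) .leaf))))))

/-- part of the orbit tree -/
def itp0_429 : Tree := (.node itp0_425 (27722, 0, 15, 84278) itp0_426)

/-- part of the orbit tree -/
def itp0_430 : Tree := (.node itp0_427 (27979, 0, 16, 155623) itp0_428)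

/-- part of the orbit tree -/
def itp0_431 : Tree := (.node (.node (.node (.node (.node (.node .leaf (28108, 0, 18, 139727) .leaf) (28110, 0, 15, 117181) (.node .leaf (28113, 0, 15, 102854) .leaf)) (28115, 0, 16, 226276) (.node (.node .leaf (28117, 0, 17, 189579) .leaf) (28119, 0, 16, 63680) (.node .leaf (28120, 0, 18, 141348) .leaf))) (28122, 0, 16, 114774) (.node (.node (.node .leaf (28124, 0, 10, 22329) .leaf) (28126, 0, 13, 245579) (.node .leaf (28129, 0, 12, 233578) .leaf)) (28131, 0, 17, 111171) (.node (.node .leaf (28133, 0, 17, 56133) .leaf) (28135, 0, 16, 132869) (.node .leaf (28136, 0, 15, 74712) .leaf)))) (28138, 0, 18, 227261) (.node (.node (.node (.node .leaf (28140, 0, 15, 220357) .leaf) (28142, 0, 18, 46263) (.node .leaf (28145, 0, 15, 124572) .leaf)) (28147, 0, 17, 248342) (.node (.node .leaf (28149, 0, 14, 172816) .leaf) (28151, 0, 18, 29171) (.node .leaf (28152, 0, 16, 24525) .leaf))) (28154, 0, 15, 48476) (.node (.node (.node .leaf (28156, 0, 16, 26350) .leaf) (28158, 0,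 15, 180801) (.node .leaf (28168, 0, 18, 221157) .leaf)) (28169, 0, 16, 245635) (.node (.node .leaf (28170, 0, 15, 48268) .leaf) (28171, 0, 17, 189858) (.node .leaf (28172, 0, 13, 76771) .leaf))))) (28173, 0, 16, 225997) (.node (.node (.node (.node (.node .leaf (28174, 0, 16, 145123) .leaf) (28175, 0, 16, 39615) (.node .leaf (28184, 0, 17, 75696) .leaf)) (28185, 0, 16, 116694) (.node (.node .leaf (28186, 0, 17, 30613) .leaf) (28187, 0, 14, 37716) (.node .leaf (28188, 0, 16, 73363) .leaf))) (28189, 0, 16, 66619) (.node (.node (.node .leaf (28190, 0, 19, 20150) .leaf) (28191, 0, 16, 44752) (.node .leaf (28200, 0, 15, 21520) .leaf)) (28201, 0, 16, 28890) (.node (.node .leaf (28202, 0, 15, 115078) .leaf) (28203, 0, 17, 235688) (.node .leaf (28204, 0, 17, 22249) .leaf)))) (28205, 0, 18, 36181) (.node (.node (.node (.node .leaf (28206, 0, 19, 245403) .leaf) (28207, 0, 17, 122224) (.node .leaf (28216, 0, 17, 142405) .leaf)) (28217, 0, 16, 183331) (.node (.node .leaf (28218, 0, 17, 228448) .leaf) (28219,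 0, 15, 126558) (.node .leaf (28220, 0, 18, 136550) .leaf))) (28221, 0, 16, 31025) (.node (.node (.node .leaf (28222, 0, 16, 116845) .leaf) (28223, 0, 16, 233795) (.node .leaf (28224, 0, 14, 135419) .leaf)) (28225, 0, 17, 192669) (.node (.node .leaf (28226, 0, 17, 3738) .leaf) (28227, 0, 16, 237752) (.node .leaf (28228, 0, 17, 141784) .leaf))))))

/-- part of the orbit tree -/
def itp0_432 : Tree := (.node (.node (.node (.node (.node (.node .leaf (28230, 0, 16, 227837) .leaf) (28231, 0, 18, 10409) (.node .leaf (28240, 0, 15, 102430) .leaf)) (28241, 0, 17, 35016) (.node (.node .leaf (28242, 0, 18, 161900) .leaf) (28243, 0, 16, 8514) (.node .leaf (28244, 0, 17, 20877) .leaf))) (28245, 0, 12, 45547) (.node (.node (.node .leaf (28246, 0, 16, 65960) .leaf) (28247, 0, 16, 155231) (.node .leaf (28256, 0, 16, 170978) .leaf)) (28257, 0, 17, 49868) (.node (.node .leaf (28258, 0, 16, 19243) .leaf) (28259, 0, 16, 207550) (.node .leaf (28260, 0, 14, 58623) .leaf)))) (28261, 0, 16, 179665) (.node (.node (.node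 (.node .leaf (28262, 0, 17, 199821) .leaf) (28263, 0, 14, 37486) (.node .leaf (28272, 0, 17, 60692) .leaf)) (28273, 0, 16, 230205) (.node (.node .leaf (28274, 0, 17, 144254) .leaf) (28275, 0, 17, 185112) (.node .leaf (28276, 0, 17, 219768) .leaf))) (28277, 0, 18, 52007) (.node (.node (.node .leaf (28278, 0, 16, 96891) .leaf) (28279, 0, 16, 191035) (.node .leaf (28288, 0, 14, 257399) .leaf)) (28289, 0, 18, 199953) (.node (.node .leaf (28290, 0, 13, 255609) .leaf) (28291, 0, 16, 154932) (.node .leaf (28292, 0, 17, 160022) .leaf))))) (28293, 0, 10, 10296) (.node (.node (.node (.node (.node .leaf (28294, 0, 14, 104804) .leaf) (28295, 0, 17, 156695) (.node .leaf (28304, 0, 16, 103714) .leaf)) (28305, 0, 13, 95556) (.node (.node .leaf (28306, 0, 18, 102543) .leaf) (28307, 0, 16, 9569) (.node .leaf (28308, 0, 15, 2016) .leaf))) (28309, 0, 18, 155342) (.node (.node (.node .leaf (28310, 0, 15, 257938) .leaf) (28311, 0, 15, 112316) (.node .leaf (28320, 0, 18, 59010) .leaf)) (28321, 0, 16, 207407) (.node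 (.node .leaf (28322, 0, 17, 170867) .leaf) (28323, 0, 17, 87745) (.node .leaf (28324, 0, 16, 199708) .leaf)))) (28325, 0, 17, 87346) (.node (.node (.node (.node .leaf (28326, 0, 14, 102276) .leaf) (28327, 0, 15, 94178) (.node .leaf (28336, 0, 18, 198135) .leaf)) (28337, 0, 17, 89305) (.node (.node .leaf (28338, 0, 16, 60805) .leaf) (28339, 0, 15, 208532) (.node .leaf (28340, 0, 16, 97002) .leaf))) (28341, 0, 17, 205764) (.node (.node (.node .leaf (28342, 0, 15, 168600) .leaf) (28343, 0, 13, 202679) (.node .leaf (28360, 0, 15, 172649) .leaf)) (28361, 0, 13, 189747) (.node (.node .leaf (28362, 0, 16, 218223) .leaf) (28363, 0, 15, 201258) (.node .leaf (28364, 0, 16, 180992) .leaf))))))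

/-- part of the orbit tree -/
def itp0_433 : Tree := (.node (.node (.node (.node (.node (.node .leaf (28366, 0, 17, 248687) .leaf) (28367, 0, 16, 207625) (.node .leaf (28376, 0, 18, 183019) .leaf)) (28377, 0, 17, 14938) (.node (.node .leaf (28378, 0, 14, 74393) .leaf) (28379, 0, 15, 228279) (.node .leaf (28380, 0, 17, 46582) .leaf))) (28381, 0, 16, 191704) (.node (.node (.node .leaf (28382, 0, 17, 111418) .leaf) (28383, 0, 10, 66730) (.node .leaf (28392, 0, 15, 108956) .leaf)) (28393, 0, 16, 84474) (.node (.node .leaf (28394, 0, 17, 141669) .leaf) (28395, 0, 14, 28747) (.node .leaf (28396, 0, 18, 245258) .leaf)))) (28397, 0, 17, 124708) (.node (.node (.node (.node .leaf (28398, 0, 17, 22136) .leaf) (28399, 0, 19, 134998) (.node .leaf (28408, 0, 17, 250313) .leaf)) (28409, 0, 16, 126671) (.node (.node .leaf (28410, 0, 16, 164332) .leaf) (28411, 0, 15, 156042) (.node .leaf (28412, 0, 15, 256234) .leaf))) (28413, 0, 13, 198796) (.node (.node (.node .leaf (28414, 0, 16, 139406) .leaf) (28415,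 0, 16, 31136) (.node .leaf (28416, 0, 14, 186377) .leaf)) (28417, 0, 17, 145519) (.node (.node .leaf (28418, 0, 16, 45555) .leaf) (28419, 0, 15, 190685) (.node .leaf (28420, 0, 13, 188714) .leaf))))) (28421, 0, 14, 229298) (.node (.node (.node (.node (.node .leaf (28422, 0, 17, 241935) .leaf) (28423, 0, 16, 38848) (.node .leaf (28432, 0, 17, 41052) .leaf)) (28433, 0, 16, 16442) (.node (.node .leaf (28434, 0, 14, 127097) .leaf) (28435, 0, 16, 40491) (.node .leaf (28436, 0, 14, 39295) .leaf))) (28437, 0, 15, 67908) (.node (.node (.node .leaf (28438, 0, 12, 47128) .leaf) (28439, 0, 14, 188726) (.node .leaf (28448, 0, 17, 119804) .leaf)) (28449, 0, 15, 32165) (.node (.node .leaf (28450, 0, 16, 33753) .leaf) (28451, 0, 13, 25535) (.node .leaf (28452, 0, 17, 125663) .leaf)))) (28453, 0, 12, 68281) (.node (.node (.node (.node .leaf (28454, 0, 17, 47866) .leaf) (28455, 0, 18, 125642) (.node .leaf (28464, 0, 15, 240553) .leaf)) (28465, 0, 11, 133971) (.node (.node .leaf (28466, 0, 16, 244239) .leaf)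 (28467, 0, 17, 123681) (.node .leaf (28468, 0, 15, 142688) .leaf))) (28469, 0, 16, 29774) (.node (.node (.node .leaf (28470, 0, 18, 115986) .leaf) (28471, 0, 18, 236604) (.node .leaf (28488, 0, 17, 256919) .leaf)) (28489, 0, 18, 111289) (.node (.node .leaf (28490, 0, 16, 997) .leaf) (28491, 0, 16, 141140) (.node .leaf (28492, 0, 18, 241204) .leaf))))))

/-- part of the orbit tree -/
def itp0_434 : Tree := (.node (.node (.node (.node (.node (.node .leaf (28494, 0, 11, 196113) .leaf) (28495, 0, 14, 138871) (.node .leaf (28504, 0, 17, 105825) .leaf)) (28505, 0, 15, 69412) (.node (.node .leaf (28506, 0, 12, 48999) .leaf) (28507, 0, 15, 11325) (.node .leaf (28508, 0, 17, 120417) .leaf))) (28509, 0, 11, 113490) (.node (.node (.node .leaf (28510, 0, 16, 2574) .leaf) (28511, 0, 16, 152352) (.node .leaf (28520, 0, 15, 40162) .leaf)) (28521, 0, 17, 53171) (.node (.node .leaf (28522, 0, 16, 98031) .leaf) (28523, 0, 16, 206785) (.node .leaf (28524, 0, 19, 42433) .leaf)))) (28525, 0, 17, 17831) (.node (.node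 (.node (.node .leaf (28526, 0, 18, 128484) .leaf) (28527, 0, 15, 71042) (.node .leaf (28536, 0, 17, 57451) .leaf)) (28537, 0, 15, 132305) (.node (.node .leaf (28538, 0, 18, 242834) .leaf) (28539, 0, 15, 86327) (.node .leaf (28540, 0, 17, 187796) .leaf))) (28541, 0, 15, 146930) (.node (.node (.node .leaf (28542, 0, 15, 232881) .leaf) (28543, 0, 18, 224727) (.node .leaf (28552, 0, 17, 158363) .leaf)) (28553, 0, 18, 166653) (.node (.node .leaf (28554, 0, 15, 211646) .leaf) (28555, 0, 11, 111144) (.node .leaf (28556, 0, 17, 152504) .leaf))))) (28557, 0, 16, 9543) (.node (.node (.node (.node (.node .leaf (28558, 0, 17, 197533) .leaf) (28559, 0, 18, 254971) (.node .leaf (28568, 0, 13, 4814) .leaf)) (28569, 0, 14, 11436) (.node (.node .leaf (28570, 0, 16, 105968) .leaf) (28571, 0, 15, 107149) (.node .leaf (28572, 0, 9, 11245) .leaf))) (28573, 0, 17, 52107) (.node (.node (.node .leaf (28574, 0, 15, 254701) .leaf) (28575, 0, 16, 105390) (.node .leaf (28584, 0, 11, 90478) .leaf)) (28585, 0, 14, 206672)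 (.node (.node .leaf (28586, 0, 11, 169484) .leaf) (28587, 0, 14, 53549) (.node .leaf (28588, 0, 17, 88141) .leaf)))) (28589, 0, 17, 88141) (.node (.node (.node (.node .leaf (28590, 0, 18, 2152) .leaf) (28591, 0, 17, 176191) (.node .leaf (28600, 0, 14, 203067) .leaf)) (28601, 0, 12, 86438) (.node (.node .leaf (28602, 0, 17, 149790) .leaf) (28603, 0, 14, 178644) (.node .leaf (28604, 0, 15, 204824) .leaf))) (28605, 0, 15, 208571) (.node (.node (.node .leaf (28606, 0, 18, 159805) .leaf) (28607, 0, 17, 168027) (.node .leaf (28608, 0, 17, 45410) .leaf)) (28609, 0, 14, 190540) (.node (.node .leaf (28610, 0, 18, 161184) .leaf) (28611, 0, 18, 65598) .leaf)))))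

/-- part of the orbit tree -/
def itp0_435 : Tree := (.node itp0_431 (28229, 0, 15, 182718) itp0_432)

/-- part of the orbit tree -/
def itp0_436 : Tree := (.node itp0_433 (28493, 0, 15, 249252) itp0_434)

/-- part of the orbit tree -/
def itp0_437 : Tree := (.node itp0_429 (27851, 0, 14, 67693) itp0_430)

/-- part of the orbit tree -/
def itp0_438 : Tree := (.node itp0_435 (28365, 0, 16, 162604) itp0_436)

/-- part of the orbit tree -/
def itp0_439 : Tree := (.node itp0_423 (27085, 0, 17, 226581) itp0_424)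

/-- part of the orbit tree -/
def itp0_440 : Tree := (.node itp0_437 (28106, 0, 16, 243360) itp0_438)

/-- part of the orbit tree -/
def itp0_441 : Tree := (.node itp0_409 (25549, 0, 17, 210182) itp0_410)

/-- part of the orbit tree -/
def itp0_442 : Tree := (.node itp0_439 (27593, 0, 14, 64211) itp0_440)

/-- part of the orbit tree -/
def itp0_443 : Tree := (.node (.node (.node (.node (.node (.node .leaf (28613, 0, 16, 38737) .leaf) (28614, 0, 17, 75277) (.node .leaf (28615, 0, 13, 229155) .leaf)) (28624, 0, 14, 182164) (.node (.node .leaf (28625, 0, 17, 40634) .leaf) (28626, 0, 15, 77798) (.node .leaf (28627, 0, 17, 227016) .leaf))) (28628, 0, 15, 47241) (.node (.node (.node .leaf (28629, 0, 16, 99477) .leaf) (28630, 0, 13, 13526) (.node .leaf (28631, 0, 17, 54448) .leaf)) (28640, 0, 19, 117864) (.node (.node .leaf (28641, 0, 14, 234822) .leaf) (28642, 0, 14, 97877) (.node .leaf (28643, 0, 14, 32052) .leaf)))) (28644, 0, 18, 242549) (.node (.node (.node (.node .leaf (28645, 0, 16, 125531)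 .leaf) (28646, 0, 16, 23303) (.node .leaf (28647, 0, 16, 131625) .leaf)) (28656, 0, 12, 244382) (.node (.node .leaf (28657, 0, 17, 123824) .leaf) (28658, 0, 16, 198144) (.node .leaf (28659, 0, 17, 255590) .leaf))) (28660, 0, 14, 159494) (.node (.node (.node .leaf (28661, 0, 16, 236717) .leaf) (28662, 0, 16, 212771) (.node .leaf (28663, 0, 15, 253765) .leaf)) (28673, 0, 14, 247757) (.node (.node .leaf (28674, 0, 19, 161678) .leaf) (28676, 0, 15, 204424) (.node .leaf (28679, 0, 15, 175819) .leaf))))) (28681, 0, 18, 123477) (.node (.node (.node (.node (.node .leaf (28682, 0, 16, 140062) .leaf) (28684, 0, 18, 242801) (.node .leaf (28687, 0, 16, 132397) .leaf)) (28689, 0, 16, 114584) (.node (.node .leaf (28690, 0, 15, 4059) .leaf) (28692, 0, 18, 91869) (.node .leaf (28695, 0, 16, 54942) .leaf))) (28697, 0, 18, 236032) (.node (.node (.node .leaf (28698, 0, 18, 141891) .leaf) (28700, 0, 17, 115335) (.node .leaf (28703, 0, 14, 193286) .leaf)) (28705, 0, 13, 52280) (.node (.node .leaf (28706, 0, 14,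 97403) .leaf) (28708, 0, 10, 140263) (.node .leaf (28711, 0, 15, 107838) .leaf)))) (28713, 0, 17, 190880) (.node (.node (.node (.node .leaf (28714, 0, 14, 220692) .leaf) (28716, 0, 17, 143589) (.node .leaf (28719, 0, 18, 229542) .leaf)) (28721, 0, 17, 29474) (.node (.node .leaf (28722, 0, 14, 115326) .leaf) (28724, 0, 16, 21777) (.node .leaf (28727, 0, 16, 123981) .leaf))) (28729, 0, 15, 37365) (.node (.node (.node .leaf (28730, 0, 10, 76002) .leaf) (28732, 0, 17, 18608) (.node .leaf (28735, 0, 17, 129267) .leaf)) (28736, 0, 16, 96634) (.node (.node .leaf (28739, 0, 17, 51238) .leaf) (28741, 0, 15, 89929) (.node .leaf (28742, 0, 15, 74795) .leaf))))))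

/-- part of the orbit tree -/
def itp0_444 : Tree := (.node (.node (.node (.node (.node (.node .leaf (28747, 0, 13, 8890) .leaf) (28749, 0, 16, 176624) (.node .leaf (28750, 0, 16, 197043) .leaf)) (28752, 0, 16, 144760) (.node (.node .leaf (28755, 0, 18, 230715) .leaf) (28757, 0, 15, 207295) (.node .leaf (28758, 0, 13, 170211) .leaf))) (28760, 0, 18, 4320) (.node (.node (.node .leaf (28763, 0, 15, 106659) .leaf) (28765, 0, 17, 246563) (.node .leaf (28766, 0, 18, 160383) .leaf)) (28768, 0, 7, 1136) (.node (.node .leaf (28771, 0, 14, 111916) .leaf) (28773, 0, 14, 237469) (.node .leaf (28774, 0, 17, 143326) .leaf)))) (28776, 0, 16, 61164) (.node (.node (.node (.node .leaf (28779, 0, 17, 90032) .leaf) (28781, 0, 15, 113157) (.node .leaf (28782, 0, 17, 2630) .leaf)) (28784, 0, 11, 81549) (.node (.node .leaf (28787, 0, 15, 36558) .leaf) (28789, 0, 15, 152757) (.node .leaf (28790, 0, 15, 22411) .leaf))) (28792, 0, 17, 170010) (.node (.node (.node .leaf (28795, 0, 17, 174934) .leaf) (28797, 0, 17,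 246352) (.node .leaf (28798, 0, 15, 160275) .leaf)) (28800, 0, 14, 110753) (.node (.node .leaf (28803, 0, 14, 204997) .leaf) (28805, 0, 18, 178090) (.node .leaf (28806, 0, 16, 55719) .leaf))))) (28808, 0, 15, 162565) (.node (.node (.node (.node (.node .leaf (28811, 0, 17, 248409) .leaf) (28813, 0, 15, 154934) (.node .leaf (28814, 0, 16, 195647) .leaf)) (28816, 0, 14, 59247) (.node (.node .leaf (28819, 0, 18, 161975) .leaf) (28821, 0, 14, 49500) (.node .leaf (28822, 0, 15, 94208) .leaf))) (28824, 0, 14, 3571) (.node (.node (.node .leaf (28827, 0, 14, 113839) .leaf) (28829, 0, 17, 11200) (.node .leaf (28830, 0, 16, 105116) .leaf)) (28832, 0, 16, 179028) (.node (.node .leaf (28835, 0, 15, 199447) .leaf) (28837, 0, 16, 156177) (.node .leaf (28838, 0, 15, 250450) .leaf)))) (28840, 0, 19, 40652) (.node (.node (.node (.node .leaf (28843, 0, 15, 77455) .leaf) (28845, 0, 15, 18313) (.node .leaf (28846, 0, 15, 168288) .leaf)) (28848, 0, 15, 105061) (.node (.node .leaf (28851, 0, 12, 95042) .leaf) (28853,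 0, 9, 6724) (.node .leaf (28854, 0, 17, 3338) .leaf))) (28856, 0, 18, 94457) (.node (.node (.node .leaf (28859, 0, 16, 49573) .leaf) (28861, 0, 16, 87754) (.node .leaf (28862, 0, 13, 59286) .leaf)) (28865, 0, 17, 36925) (.node (.node .leaf (28866, 0, 15, 231938) .leaf) (28868, 0, 15, 46606) (.node .leaf (28871, 0, 17, 67410) .leaf))))))

/-- part of the orbit tree -/
def itp0_445 : Tree := (.node (.node (.node (.node (.node (.node .leaf (28874, 0, 17, 117757) .leaf) (28876, 0, 16, 50844) (.node .leaf (28879, 0, 18, 95967) .leaf)) (28881, 0, 16, 190155) (.node (.node .leaf (28882, 0, 17, 219031) .leaf) (28884, 0, 16, 180472) (.node .leaf (28887, 0, 18, 76562) .leaf))) (28889, 0, 15, 157580) (.node (.node (.node .leaf (28890, 0, 15, 245003) .leaf) (28892, 0, 17, 141924) (.node .leaf (28895, 0, 17, 200330) .leaf)) (28897, 0, 12, 126263) (.node (.node .leaf (28898, 0, 17, 33271) .leaf) (28900, 0, 13, 117508) (.node .leaf (28903, 0, 18, 22706) .leaf)))) (28905, 0, 17, 201772) (.node (.node (.node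 (.node .leaf (28906, 0, 14, 173167) .leaf) (28908, 0, 16, 249193) (.node .leaf (28911, 0, 17, 163114) .leaf)) (28913, 0, 15, 236481) (.node (.node .leaf (28914, 0, 16, 141981) .leaf) (28916, 0, 18, 233636) (.node .leaf (28919, 0, 16, 134318) .leaf))) (28921, 0, 17, 225629) (.node (.node (.node .leaf (28922, 0, 12, 180225) .leaf) (28924, 0, 17, 111932) (.node .leaf (28927, 0, 15, 1407) .leaf)) (28928, 0, 18, 34271) (.node (.node .leaf (28931, 0, 10, 30543) .leaf) (28933, 0, 14, 23706) (.node .leaf (28934, 0, 15, 126169) .leaf))))) (28936, 0, 17, 76943) (.node (.node (.node (.node (.node .leaf (28939, 0, 16, 200708) .leaf) (28941, 0, 16, 68284) (.node .leaf (28942, 0, 14, 248129) .leaf)) (28944, 0, 14, 241893) (.node (.node .leaf (28947, 0, 13, 216521) .leaf) (28949, 0, 18, 235222) (.node .leaf (28950, 0, 15, 141194) .leaf))) (28952, 0, 18, 219769) (.node (.node (.node .leaf (28955, 0, 15, 191269) .leaf) (28957, 0, 14, 343) (.node .leaf (28958, 0, 16, 110868) .leaf)) (28960, 0, 17, 233002) (.node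 (.node .leaf (28963, 0, 19, 147049) .leaf) (28965, 0, 14, 40234) (.node .leaf (28966, 0, 18, 76918) .leaf)))) (28968, 0, 17, 109490) (.node (.node (.node (.node .leaf (28971, 0, 16, 123097) .leaf) (28973, 0, 15, 30646) (.node .leaf (28974, 0, 18, 49844) .leaf)) (28976, 0, 17, 183791) (.node (.node .leaf (28979, 0, 13, 17980) .leaf) (28981, 0, 16, 191452) (.node .leaf (28982, 0, 17, 219776) .leaf))) (28984, 0, 17, 141171) (.node (.node (.node .leaf (28987, 0, 15, 235055) .leaf) (28989, 0, 15, 131392) (.node .leaf (28990, 0, 17, 241692) .leaf)) (28993, 0, 17, 247735) (.node (.node .leaf (28994, 0, 12, 161515) .leaf) (28996, 0, 17, 254340) (.node .leaf (28999, 0, 15, 157241) .leaf))))))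

/-- part of the orbit tree -/
def itp0_446 : Tree := (.node (.node (.node (.node (.node (.node .leaf (29002, 0, 16, 39652) .leaf) (29004, 0, 17, 127970) (.node .leaf (29007, 0, 16, 178756) .leaf)) (29009, 0, 14, 110913) (.node (.node .leaf (29010, 0, 9, 29) .leaf) (29012, 0, 14, 110127) (.node .leaf (29015, 0, 12, 7788) .leaf))) (29017, 0, 12, 89053) (.node (.node (.node .leaf (29018, 0, 16, 189105) .leaf) (29020, 0, 14, 97774) (.node .leaf (29023, 0, 13, 52402) .leaf)) (29025, 0, 17, 1226) (.node (.node .leaf (29026, 0, 15, 199649) .leaf) (29028, 0, 13, 56719) (.node .leaf (29031, 0, 13, 93644) .leaf)))) (29033, 0, 17, 151585) (.node (.node (.node (.node .leaf (29034, 0, 14, 254333) .leaf) (29036, 0, 14, 194583) (.node .leaf (29039, 0, 16, 247630) .leaf)) (29041, 0, 15, 52299) (.node (.node .leaf (29042, 0, 15, 249052) .leaf) (29044, 0, 17, 60024) (.node .leaf (29047, 0, 18, 202137) .leaf))) (29049, 0, 17, 22791) (.node (.node (.node .leaf (29050, 0, 16, 104331) .leaf) (29052, 0, 18, 32834)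 (.node .leaf (29055, 0, 17, 77825) .leaf)) (29057, 0, 15, 193203) (.node (.node .leaf (29058, 0, 16, 213744) .leaf) (29060, 0, 16, 2407) (.node .leaf (29063, 0, 19, 112699) .leaf))))) (29065, 0, 18, 55083) (.node (.node (.node (.node (.node .leaf (29066, 0, 16, 95380) .leaf) (29068, 0, 10, 58363) (.node .leaf (29071, 0, 16, 86695) .leaf)) (29073, 0, 13, 154018) (.node (.node .leaf (29074, 0, 13, 80549) .leaf) (29076, 0, 16, 163729) (.node .leaf (29079, 0, 17, 123872) .leaf))) (29081, 0, 18, 176958) (.node (.node (.node .leaf (29082, 0, 18, 204605) .leaf) (29084, 0, 15, 169229) (.node .leaf (29087, 0, 12, 247416) .leaf)) (29089, 0, 15, 86622) (.node (.node .leaf (29090, 0, 16, 18693) .leaf) (29092, 0, 17, 95341) (.node .leaf (29095, 0, 17, 36928) .leaf)))) (29097, 0, 15, 253150) (.node (.node (.node (.node .leaf (29098, 0, 16, 2462) .leaf) (29100, 0, 17, 106225) (.node .leaf (29103, 0, 17, 177624) .leaf)) (29105, 0, 13, 229651) (.node (.node .leaf (29106, 0, 15, 143696) .leaf) (29108, 0, 15,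 197275) (.node .leaf (29111, 0, 17, 190485) .leaf))) (29113, 0, 15, 249396) (.node (.node (.node .leaf (29114, 0, 18, 163688) .leaf) (29116, 0, 16, 97742) (.node .leaf (29119, 0, 18, 153947) .leaf)) (29120, 0, 13, 96339) (.node (.node .leaf (29123, 0, 18, 51216) .leaf) (29125, 0, 17, 106774) (.node .leaf (29126, 0, 17, 244127) .leaf))))))

/-- part of the orbit tree -/
def itp0_447 : Tree := (.node itp0_443 (28744, 0, 16, 157877) itp0_444)

/-- part of the orbit tree -/
def itp0_448 : Tree := (.node itp0_445 (29001, 0, 16, 76455) itp0_446)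

/-- part of the orbit tree -/
def itp0_449 : Tree := (.node (.node (.node (.node (.node (.node .leaf (29131, 0, 16, 226608) .leaf) (29133, 0, 18, 230542) (.node .leaf (29134, 0, 17, 144589) .leaf)) (29136, 0, 17, 196614) (.node (.node .leaf (29139, 0, 14, 176197) .leaf) (29141, 0, 16, 32309) (.node .leaf (29142, 0, 12, 118633) .leaf))) (29144, 0, 14, 75166) (.node (.node (.node .leaf (29147, 0, 17, 66502) .leaf) (29149, 0, 14, 130267) (.node .leaf (29150, 0, 17, 75253) .leaf)) (29152, 0, 18, 218106) (.node (.node .leaf (29155, 0, 18, 189094) .leaf) (29157, 0, 16, 174819) (.node .leaf (29158, 0, 15, 203424) .leaf)))) (29160, 0, 15, 244070) (.node (.node (.node (.node .leaf (29163, 0, 12, 124541) .leaf) (29165, 0, 16, 36731) (.node .leaf (29166, 0, 16, 142857) .leaf)) (29168, 0, 16, 3059) (.node (.node .leaf (29171, 0, 17, 113584) .leaf) (29173, 0, 17, 53942) (.node .leaf (29174, 0, 11, 90869) .leaf))) (29176, 0, 17, 142955) (.node (.node (.node .leaf (29179, 0, 16, 237096) .leaf) (29181, 0,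 18, 125347) (.node .leaf (29182, 0, 17, 214893) .leaf)) (29184, 0, 17, 74972) (.node (.node .leaf (29185, 0, 17, 228850) .leaf) (29190, 0, 13, 156381) (.node .leaf (29191, 0, 16, 164539) .leaf))))) (29192, 0, 16, 77379) (.node (.node (.node (.node (.node .leaf (29193, 0, 15, 118309) .leaf) (29198, 0, 17, 18245) (.node .leaf (29199, 0, 11, 42787) .leaf)) (29200, 0, 17, 217642) (.node (.node .leaf (29201, 0, 15, 103400) .leaf) (29206, 0, 16, 6792) (.node .leaf (29207, 0, 16, 40043) .leaf))) (29208, 0, 17, 243894) (.node (.node (.node .leaf (29209, 0, 15, 243312) .leaf) (29214, 0, 17, 143321) (.node .leaf (29215, 0, 17, 30455) .leaf)) (29216, 0, 17, 22998) (.node (.node .leaf (29217, 0, 11, 131320) .leaf) (29222, 0, 17, 118457) (.node .leaf (29223, 0, 15, 235415) .leaf)))) (29224, 0, 14, 45898) (.node (.node (.node (.node .leaf (29225, 0, 15, 181712) .leaf) (29230, 0, 14, 216240) (.node .leaf (29231, 0, 12, 228619) .leaf)) (29232, 0, 17, 161915) (.node (.node .leaf (29233, 0, 18, 30222) .leaf)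 (29238, 0, 9, 243791) (.node .leaf (29239, 0, 18, 123233) .leaf))) (29240, 0, 13, 24035) (.node (.node (.node .leaf (29241, 0, 18, 40082) .leaf) (29246, 0, 16, 217811) (.node .leaf (29247, 0, 18, 119939) .leaf)) (29250, 0, 13, 168996) (.node (.node .leaf (29251, 0, 17, 52490) .leaf) (29252, 0, 17, 22654) (.node .leaf (29253, 0, 12, 47128) .leaf))))))

/-- part of the orbit tree -/
def itp0_450 : Tree := (.node (.node (.node (.node (.node (.node .leaf (29259, 0, 16, 259206) .leaf) (29260, 0, 18, 163302) (.node .leaf (29261, 0, 19, 110841) .leaf)) (29266, 0, 13, 58066) (.node (.node .leaf (29267, 0, 17, 179196) .leaf) (29268, 0, 15, 139307) (.node .leaf (29269, 0, 17, 180301) .leaf))) (29274, 0, 16, 93365) (.node (.node (.node .leaf (29275, 0, 14, 101587) .leaf) (29276, 0, 16, 1459) (.node .leaf (29277, 0, 17, 247311) .leaf)) (29282, 0, 17, 146061) (.node (.node .leaf (29283, 0, 13, 187115) .leaf) (29284, 0, 10, 217995) (.node .leaf (29285, 0, 12, 242669) .leaf)))) (29290, 0, 15, 7957) (.node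 (.node (.node (.node .leaf (29291, 0, 17, 88732) .leaf) (29292, 0, 16, 95763) (.node .leaf (29293, 0, 17, 52723) .leaf)) (29298, 0, 16, 17112) (.node (.node .leaf (29299, 0, 16, 41662) .leaf) (29300, 0, 17, 2231) (.node .leaf (29301, 0, 16, 117688) .leaf))) (29306, 0, 8, 157504) (.node (.node (.node .leaf (29307, 0, 18, 165670) .leaf) (29308, 0, 16, 200262) (.node .leaf (29309, 0, 16, 257568) .leaf)) (29314, 0, 16, 52468) (.node (.node .leaf (29315, 0, 16, 11410) .leaf) (29316, 0, 17, 60328) (.node .leaf (29317, 0, 6, 83348) .leaf))))) (29322, 0, 18, 190828) (.node (.node (.node (.node (.node .leaf (29323, 0, 16, 133386) .leaf) (29324, 0, 14, 229482) (.node .leaf (29325, 0, 14, 153626) .leaf)) (29330, 0, 16, 199217) (.node (.node .leaf (29331, 0, 15, 86815) .leaf) (29332, 0, 18, 171358) (.node .leaf (29333, 0, 16, 50288) .leaf))) (29338, 0, 12, 37177) (.node (.node (.node .leaf (29339, 0, 14, 29023) .leaf) (29340, 0, 14, 129087) (.node .leaf (29341, 0, 16, 12012) .leaf)) (29346, 0, 17, 247553)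 (.node (.node .leaf (29347, 0, 17, 153827) .leaf) (29348, 0, 14, 175623) (.node .leaf (29349, 0, 16, 151137) .leaf)))) (29354, 0, 18, 60241) (.node (.node (.node (.node .leaf (29355, 0, 11, 176767) .leaf) (29356, 0, 11, 97342) (.node .leaf (29357, 0, 17, 206096) .leaf)) (29362, 0, 14, 161595) (.node (.node .leaf (29363, 0, 16, 11797) .leaf) (29364, 0, 12, 254036) (.node .leaf (29365, 0, 12, 13876) .leaf))) (29370, 0, 16, 171431) (.node (.node (.node .leaf (29371, 0, 13, 50313) .leaf) (29372, 0, 18, 199368) (.node .leaf (29373, 0, 17, 136108) .leaf)) (29376, 0, 12, 194135) (.node (.node .leaf (29377, 0, 16, 38161) .leaf) (29382, 0, 16, 237393) (.node .leaf (29383, 0, 16, 229175) .leaf))))))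

/-- part of the orbit tree -/
def itp0_451 : Tree := (.node (.node (.node (.node (.node (.node .leaf (29385, 0, 16, 13225) .leaf) (29390, 0, 14, 242124) (.node .leaf (29391, 0, 15, 88751) .leaf)) (29392, 0, 10, 36354) (.node (.node .leaf (29393, 0, 15, 28260) .leaf) (29398, 0, 15, 124676) (.node .leaf (29399, 0, 19, 67426) .leaf))) (29400, 0, 18, 20565) (.node (.node (.node .leaf (29401, 0, 17, 150524) .leaf) (29406, 0, 14, 246428) (.node .leaf (29407, 0, 17, 205562) .leaf)) (29408, 0, 15, 241973) (.node (.node .leaf (29409, 0, 15, 73156) .leaf) (29414, 0, 17, 140890) (.node .leaf (29415, 0, 14, 32628) .leaf)))) (29416, 0, 15, 251962) (.node (.node (.node (.node .leaf (29417, 0, 16, 66183) .leaf) (29422, 0, 18, 183494) (.node .leaf (29423, 0, 15, 151898) .leaf)) (29424, 0, 16, 116675) (.node (.node .leaf (29425, 0, 17, 222609) .leaf) (29430, 0, 15, 191729) (.node .leaf (29431, 0, 14, 134295) .leaf))) (29432, 0, 14, 77151) (.node (.node (.node .leaf (29433, 0, 15, 81929) .leaf) (29438, 0, 13,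 47664) (.node .leaf (29439, 0, 15, 10511) .leaf)) (29442, 0, 17, 142157) (.node (.node .leaf (29443, 0, 14, 29283) .leaf) (29444, 0, 14, 244770) (.node .leaf (29445, 0, 15, 28906) .leaf))))) (29450, 0, 18, 252946) (.node (.node (.node (.node (.node .leaf (29451, 0, 15, 39167) .leaf) (29452, 0, 18, 177428) (.node .leaf (29453, 0, 11, 152946) .leaf)) (29458, 0, 17, 23995) (.node (.node .leaf (29459, 0, 15, 221625) .leaf) (29460, 0, 17, 117460) (.node .leaf (29461, 0, 15, 133311) .leaf))) (29466, 0, 16, 46887) (.node (.node (.node .leaf (29467, 0, 13, 192009) .leaf) (29468, 0, 18, 73800) (.node .leaf (29469, 0, 16, 11559) .leaf)) (29474, 0, 16, 193151) (.node (.node .leaf (29475, 0, 15, 135705) .leaf) (29476, 0, 13, 236409) (.node .leaf (29477, 0, 14, 228127) .leaf)))) (29482, 0, 11, 244955) (.node (.node (.node (.node .leaf (29483, 0, 14, 14209) .leaf) (29484, 0, 15, 114401) (.node .leaf (29485, 0, 13, 29338) .leaf)) (29490, 0, 16, 35370) (.node (.node .leaf (29491, 0, 17, 27212) .leaf) (29492,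 0, 13, 47070) (.node .leaf (29493, 0, 18, 192240) .leaf))) (29498, 0, 12, 117293) (.node (.node (.node .leaf (29499, 0, 16, 151508) .leaf) (29500, 0, 17, 23874) (.node .leaf (29501, 0, 17, 206546) .leaf)) (29504, 0, 17, 246569) (.node (.node .leaf (29505, 0, 18, 205647) .leaf) (29510, 0, 13, 174639) (.node .leaf (29511, 0, 14, 153076) .leaf))))))

/-- part of the orbit tree -/
def itp0_452 : Tree := (.node (.node (.node (.node (.node (.node .leaf (29513, 0, 18, 67287) .leaf) (29518, 0, 12, 36791) (.node .leaf (29519, 0, 12, 180072) .leaf)) (29520, 0, 15, 257347) (.node (.node .leaf (29521, 0, 15, 111725) .leaf) (29526, 0, 13, 53882) (.node .leaf (29527, 0, 15, 8962) .leaf))) (29528, 0, 16, 237284) (.node (.node (.node .leaf (29529, 0, 13, 228994) .leaf) (29534, 0, 14, 194530) (.node .leaf (29535, 0, 18, 51614) .leaf)) (29536, 0, 14, 51420) (.node (.node .leaf (29537, 0, 18, 10426) .leaf) (29542, 0, 17, 94672) (.node .leaf (29543, 0, 15, 82364) .leaf)))) (29544, 0, 14, 3107) (.node (.node (.node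 (.node .leaf (29545, 0, 17, 152845) .leaf) (29550, 0, 15, 230466) (.node .leaf (29551, 0, 15, 246370) .leaf)) (29552, 0, 18, 168009) (.node (.node .leaf (29553, 0, 14, 151791) .leaf) (29558, 0, 18, 198438) (.node .leaf (29559, 0, 15, 89608) .leaf))) (29560, 0, 16, 38161) (.node (.node (.node .leaf (29561, 0, 17, 9211) .leaf) (29566, 0, 14, 257466) (.node .leaf (29567, 0, 16, 72817) .leaf)) (29568, 0, 10, 147109) (.node (.node .leaf (29569, 0, 17, 188099) .leaf) (29574, 0, 13, 255033) (.node .leaf (29575, 0, 16, 243653) .leaf))))) (29576, 0, 15, 6973) (.node (.node (.node (.node (.node .leaf (29577, 0, 14, 49380) .leaf) (29582, 0, 16, 200357) (.node .leaf (29583, 0, 15, 103005) .leaf)) (29584, 0, 17, 18160) (.node (.node .leaf (29585, 0, 19, 154766) .leaf) (29590, 0, 15, 77814) (.node .leaf (29591, 0, 16, 248801) .leaf))) (29592, 0, 17, 61244) (.node (.node (.node .leaf (29593, 0, 15, 164622) .leaf) (29598, 0, 13, 96339) (.node .leaf (29599, 0, 18, 205181) .leaf)) (29600, 0, 16, 79184) (.node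 (.node .leaf (29601, 0, 16, 120118) .leaf) (29606, 0, 15, 170291) (.node .leaf (29607, 0, 14, 48176) .leaf)))) (29608, 0, 14, 200904) (.node (.node (.node (.node .leaf (29609, 0, 16, 258222) .leaf) (29614, 0, 17, 162254) (.node .leaf (29615, 0, 17, 10881) .leaf)) (29616, 0, 16, 216325) (.node (.node .leaf (29617, 0, 18, 240995) .leaf) (29622, 0, 17, 61381) (.node .leaf (29623, 0, 17, 177899) .leaf))) (29624, 0, 12, 92317) (.node (.node (.node .leaf (29625, 0, 17, 248600) .leaf) (29630, 0, 19, 411) (.node .leaf (29631, 0, 17, 154743) .leaf)) (29634, 0, 18, 115630) (.node (.node .leaf (29635, 0, 18, 236160) .leaf) (29636, 0, 17, 93440) .leaf)))))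

/-- part of the orbit tree -/
def itp0_453 : Tree := (.node itp0_449 (29258, 0, 16, 163512) itp0_450)

/-- part of the orbit tree -/
def itp0_454 : Tree := (.node itp0_451 (29512, 0, 19, 94505) itp0_452)

/-- part of the orbit tree -/
def itp0_455 : Tree := (.node itp0_447 (28873, 0, 13, 31393) itp0_448)

/-- part of the orbit tree -/
def itp0_456 : Tree := (.node itp0_453 (29384, 0, 18, 54223) itp0_454)

/-- part of the orbit tree -/
def itp0_457 : Tree := (.node (.node (.node (.node (.node (.node .leaf (29642, 0, 16, 76082) .leaf) (29643, 0, 12, 225308) (.node .leaf (29644, 0, 17, 48733) .leaf)) (29645, 0, 14, 190323) (.node (.node .leaf (29650, 0, 16, 243032) .leaf) (29651, 0, 16, 126070) (.node .leaf (29652, 0, 15, 202069) .leaf))) (29653, 0, 12, 31513) (.node (.node (.node .leaf (29658, 0, 15, 221124) .leaf) (29659, 0, 17, 67306) (.node .leaf (29660, 0, 15, 182443) .leaf)) (29661, 0, 17, 118955) (.node (.node .leaf (29666, 0, 16, 48804) .leaf) (29667, 0, 15, 257941) (.node .leaf (29668,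 0, 15, 76235) .leaf)))) (29669, 0, 16, 165523) (.node (.node (.node (.node .leaf (29674, 0, 17, 21560) .leaf) (29675, 0, 14, 117261) (.node .leaf (29676, 0, 16, 17261) .leaf)) (29677, 0, 13, 236153) (.node (.node .leaf (29682, 0, 13, 182354) .leaf) (29683, 0, 16, 37244) (.node .leaf (29684, 0, 15, 220989) .leaf))) (29685, 0, 15, 67091) (.node (.node (.node .leaf (29690, 0, 17, 139982) .leaf) (29691, 0, 12, 242264) (.node .leaf (29692, 0, 14, 243105) .leaf)) (29693, 0, 17, 187230) (.node (.node .leaf (29696, 0, 15, 146691) .leaf) (29698, 0, 15, 115830) (.node .leaf (29701, 0, 18, 189510) .leaf))))) (29703, 0, 18, 123461) (.node (.node (.node (.node (.node .leaf (29704, 0, 16, 6299) .leaf) (29706, 0, 16, 77546) (.node .leaf (29709, 0, 15, 188587) .leaf)) (29711, 0, 16, 102907) (.node (.node .leaf (29712, 0, 14, 17750) .leaf) (29714, 0, 14, 71027) (.node .leaf (29717, 0, 19, 31937) .leaf))) (29719, 0, 14, 117814) (.node (.node (.node .leaf (29720, 0, 18, 155854) .leaf) (29722, 0, 16, 219164) (.node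 .leaf (29725, 0, 16, 178571) .leaf)) (29727, 0, 16, 256430) (.node (.node .leaf (29728, 0, 12, 217358) .leaf) (29730, 0, 12, 47484) (.node .leaf (29733, 0, 13, 227133) .leaf)))) (29735, 0, 15, 40783) (.node (.node (.node (.node .leaf (29736, 0, 15, 244626) .leaf) (29738, 0, 15, 148299) (.node .leaf (29741, 0, 17, 236961) .leaf)) (29743, 0, 16, 30163) (.node (.node .leaf (29744, 0, 16, 75768) .leaf) (29746, 0, 15, 138886) (.node .leaf (29749, 0, 16, 65995) .leaf))) (29751, 0, 18, 190905) (.node (.node (.node .leaf (29752, 0, 15, 118116) .leaf) (29754, 0, 17, 140566) (.node .leaf (29757, 0, 15, 125783) .leaf)) (29759, 0, 15, 57947) (.node (.node .leaf (29761, 0, 10, 11680) .leaf) (29763, 0, 15, 247250) (.node .leaf (29764, 0, 12, 93862) .leaf))))))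

/-- part of the orbit tree -/
def itp0_458 : Tree := (.node (.node (.node (.node (.node (.node .leaf (29769, 0, 14, 234107) .leaf) (29771, 0, 13, 180830) (.node .leaf (29772, 0, 15, 57615) .leaf)) (29774, 0, 15, 138011) (.node (.node .leaf (29777, 0, 17, 249782) .leaf) (29779, 0, 17, 111396) (.node .leaf (29780, 0, 14, 163173) .leaf))) (29782, 0, 15, 103703) (.node (.node (.node .leaf (29785, 0, 15, 125486) .leaf) (29787, 0, 17, 47627) (.node .leaf (29788, 0, 17, 169977) .leaf)) (29790, 0, 18, 25422) (.node (.node .leaf (29793, 0, 16, 179222) .leaf) (29795, 0, 16, 178392) (.node .leaf (29796, 0, 16, 95897) .leaf)))) (29798, 0, 16, 171755) (.node (.node (.node (.node .leaf (29801, 0, 17, 113206) .leaf) (29803, 0, 17, 117163) (.node .leaf (29804, 0, 17, 105477) .leaf)) (29806, 0, 17, 160887) (.node (.node .leaf (29809, 0, 16, 206428) .leaf) (29811, 0, 16, 103526) (.node .leaf (29812, 0, 14, 196719) .leaf))) (29814, 0, 16, 85283) (.node (.node (.node .leaf (29817, 0, 17, 249024) .leaf) (29819,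 0, 15, 242174) (.node .leaf (29820, 0, 18, 145566) .leaf)) (29822, 0, 18, 641) (.node (.node .leaf (29825, 0, 16, 19055) .leaf) (29827, 0, 16, 11569) (.node .leaf (29828, 0, 13, 254832) .leaf))))) (29830, 0, 15, 115471) (.node (.node (.node (.node (.node .leaf (29833, 0, 15, 208863) .leaf) (29835, 0, 17, 51117) (.node .leaf (29836, 0, 16, 199148) .leaf)) (29838, 0, 16, 57758) (.node (.node .leaf (29841, 0, 15, 111541) .leaf) (29843, 0, 18, 221727) (.node .leaf (29844, 0, 17, 191359) .leaf))) (29846, 0, 14, 244570) (.node (.node (.node .leaf (29849, 0, 15, 88361) .leaf) (29851, 0, 16, 176475) (.node .leaf (29852, 0, 13, 98074) .leaf)) (29854, 0, 17, 169832) (.node (.node .leaf (29857, 0, 17, 213402) .leaf) (29859, 0, 18, 86075) (.node .leaf (29860, 0, 17, 171642) .leaf)))) (29862, 0, 18, 95752) (.node (.node (.node (.node .leaf (29865, 0, 14, 152277) .leaf) (29867, 0, 16, 113319) (.node .leaf (29868, 0, 17, 113991) .leaf)) (29870, 0, 16, 60770) (.node (.node .leaf (29873, 0, 15, 52927) .leaf)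 (29875, 0, 15, 206541) (.node .leaf (29876, 0, 18, 59532) .leaf))) (29878, 0, 17, 196862) (.node (.node (.node .leaf (29881, 0, 14, 9251) .leaf) (29883, 0, 17, 248913) (.node .leaf (29884, 0, 16, 247058) .leaf)) (29886, 0, 19, 256610) (.node (.node .leaf (29888, 0, 13, 245903) .leaf) (29890, 0, 17, 142485) (.node .leaf (29893, 0, 16, 123604) .leaf))))))

/-- part of the orbit tree -/
def itp0_459 : Tree := (.node (.node (.node (.node (.node (.node .leaf (29896, 0, 15, 124183) .leaf) (29898, 0, 17, 46386) (.node .leaf (29901, 0, 16, 67656) .leaf)) (29903, 0, 15, 188474) (.node (.node .leaf (29904, 0, 16, 242193) .leaf) (29906, 0, 15, 59647) (.node .leaf (29909, 0, 17, 234530) .leaf))) (29911, 0, 15, 31824) (.node (.node (.node .leaf (29912, 0, 16, 219277) .leaf) (29914, 0, 16, 45311) (.node .leaf (29917, 0, 13, 229054) .leaf)) (29919, 0, 15, 136226) (.node (.node .leaf (29920, 0, 18, 52090) .leaf) (29922, 0, 13, 105311) (.node .leaf (29925, 0, 18, 4671) .leaf)))) (29927, 0, 16, 227244) (.node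 (.node (.node (.node .leaf (29928, 0, 11, 192226) .leaf) (29930, 0, 17, 245447) (.node .leaf (29933, 0, 18, 145319) .leaf)) (29935, 0, 14, 223106) (.node (.node .leaf (29936, 0, 15, 176943) .leaf) (29938, 0, 13, 75625) (.node .leaf (29941, 0, 17, 190760) .leaf))) (29943, 0, 16, 65882) (.node (.node (.node .leaf (29944, 0, 17, 140679) .leaf) (29946, 0, 17, 116370) (.node .leaf (29949, 0, 17, 132020) .leaf)) (29951, 0, 18, 125894) (.node (.node .leaf (29953, 0, 16, 98065) .leaf) (29955, 0, 17, 228027) (.node .leaf (29956, 0, 17, 108116) .leaf))))) (29958, 0, 15, 220296) (.node (.node (.node (.node (.node .leaf (29961, 0, 17, 219785) .leaf) (29963, 0, 18, 133804) (.node .leaf (29964, 0, 18, 230348) .leaf)) (29966, 0, 16, 185321) (.node (.node .leaf (29969, 0, 14, 189503) .leaf) (29971, 0, 15, 153441) (.node .leaf (29972, 0, 17, 180748) .leaf))) (29974, 0, 17, 76414) (.node (.node (.node .leaf (29977, 0, 16, 74460) .leaf) (29979, 0, 16, 124625) (.node .leaf (29980, 0, 15, 129945) .leaf)) (29982,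 0, 14, 114914) (.node (.node .leaf (29985, 0, 15, 160996) .leaf) (29987, 0, 14, 206017) (.node .leaf (29988, 0, 16, 175521) .leaf)))) (29990, 0, 15, 261508) (.node (.node (.node (.node .leaf (29993, 0, 18, 20860) .leaf) (29995, 0, 16, 191789) (.node .leaf (29996, 0, 12, 74604) .leaf)) (29998, 0, 15, 120860) (.node (.node .leaf (30001, 0, 17, 3249) .leaf) (30003, 0, 16, 28999) (.node .leaf (30004, 0, 17, 245510) .leaf))) (30006, 0, 16, 22388) (.node (.node (.node .leaf (30009, 0, 16, 226217) .leaf) (30011, 0, 16, 39899) (.node .leaf (30012, 0, 13, 192620) .leaf)) (30014, 0, 15, 48616) (.node (.node .leaf (30016, 0, 15, 168813) .leaf) (30018, 0, 17, 97055) (.node .leaf (30021, 0, 16, 142516) .leaf))))))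

/-- part of the orbit tree -/
def itp0_460 : Tree := (.node (.node (.node (.node (.node (.node .leaf (30024, 0, 14, 162289) .leaf) (30026, 0, 17, 98380) (.node .leaf (30029, 0, 17, 155586) .leaf)) (30031, 0, 16, 112560) (.node (.node .leaf (30032, 0, 14, 36260) .leaf) (30034, 0, 14, 122241) (.node .leaf (30037, 0, 17, 50088) .leaf))) (30039, 0, 16, 66756) (.node (.node (.node .leaf (30040, 0, 11, 174140) .leaf) (30042, 0, 16, 255861) (.node .leaf (30045, 0, 15, 10548) .leaf)) (30047, 0, 18, 246086) (.node (.node .leaf (30048, 0, 15, 130564) .leaf) (30050, 0, 14, 44577) (.node .leaf (30053, 0, 15, 75585) .leaf)))) (30055, 0, 15, 8230) (.node (.node (.node (.node .leaf (30056, 0, 16, 252828) .leaf) (30058, 0, 16, 166841) (.node .leaf (30061, 0, 17, 205512) .leaf)) (30063, 0, 16, 152316) (.node (.node .leaf (30064, 0, 15, 104593) .leaf) (30066, 0, 18, 185972) (.node .leaf (30069, 0, 15, 220948) .leaf))) (30071, 0, 17, 134961) (.node (.node (.node .leaf (30072, 0, 15, 107465) .leaf) (30074, 0,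 13, 170623) (.node .leaf (30077, 0, 16, 87102) .leaf)) (30079, 0, 12, 10921) (.node (.node .leaf (30080, 0, 17, 198781) .leaf) (30082, 0, 14, 153688) (.node .leaf (30085, 0, 11, 89533) .leaf))))) (30087, 0, 17, 177615) (.node (.node (.node (.node (.node .leaf (30088, 0, 16, 77285) .leaf) (30090, 0, 17, 162144) (.node .leaf (30093, 0, 20, 128160) .leaf)) (30095, 0, 18, 155475) (.node (.node .leaf (30096, 0, 16, 94248) .leaf) (30098, 0, 15, 8205) (.node .leaf (30101, 0, 13, 207691) .leaf))) (30103, 0, 16, 63816) (.node (.node (.node .leaf (30104, 0, 15, 218544) .leaf) (30106, 0, 17, 3990) (.node .leaf (30109, 0, 18, 232693) .leaf)) (30111, 0, 15, 10661) (.node (.node .leaf (30112, 0, 14, 904) .leaf) (30114, 0, 12, 257782) (.node .leaf (30117, 0, 15, 8375) .leaf)))) (30119, 0, 18, 101096) (.node (.node (.node (.node .leaf (30120, 0, 19, 140816) .leaf) (30122, 0, 18, 197738) (.node .leaf (30125, 0, 17, 51755) .leaf)) (30127, 0, 16, 205401) (.node (.node .leaf (30128, 0, 14, 159858) .leaf) (30130,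 0, 18, 104448) (.node .leaf (30133, 0, 16, 172696) .leaf))) (30135, 0, 17, 114227) (.node (.node (.node .leaf (30136, 0, 16, 170734) .leaf) (30138, 0, 17, 69216) (.node .leaf (30141, 0, 11, 34560) .leaf)) (30143, 0, 16, 87215) (.node (.node .leaf (30145, 0, 16, 33437) .leaf) (30147, 0, 18, 119480) (.node .leaf (30148, 0, 18, 220185) .leaf))))))

/-- part of the orbit tree -/
def itp0_461 : Tree := (.node itp0_457 (29766, 0, 15, 16003) itp0_458)

/-- part of the orbit tree -/
def itp0_462 : Tree := (.node itp0_459 (30023, 0, 15, 228497) itp0_460)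

/-- part of the orbit tree -/
def itp0_463 : Tree := (.node (.node (.node (.node (.node (.node .leaf (30153, 0, 15, 173829) .leaf) (30155, 0, 13, 259872) (.node .leaf (30156, 0, 14, 243333) .leaf)) (30158, 0, 15, 208485) (.node (.node .leaf (30161, 0, 16, 68828) .leaf) (30163, 0, 15, 240365) (.node .leaf (30164, 0, 15, 76527) .leaf))) (30166, 0, 17, 180893) (.node (.node (.node .leaf (30169, 0, 13, 124480) .leaf) (30171, 0, 16, 102261) (.node .leaf (30172, 0, 15, 1557) .leaf)) (30174, 0, 15, 141313) (.node (.node .leaf (30177, 0, 17, 231784) .leaf) (30179, 0, 8, 186701) (.node .leaf (30180, 0, 18, 217133) .leaf)))) (30182, 0, 14, 117089) (.node (.node (.node (.node .leaf (30185, 0, 16, 191932) .leaf) (30187, 0, 17, 67022) (.node .leaf (30188, 0, 15, 183183) .leaf)) (30190, 0, 16, 74749) (.node (.node .leaf (30193, 0, 13, 29142) .leaf) (30195, 0, 15, 41240) (.node .leaf (30196, 0, 15, 22501) .leaf))) (30198, 0, 12, 245655) (.node (.node (.node .leaf (30201, 0, 17, 251045) .leaf) (30203, 0,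 15, 164992) (.node .leaf (30204, 0, 18, 48505) .leaf)) (30206, 0, 13, 155077) (.node (.node .leaf (30212, 0, 16, 141392) .leaf) (30213, 0, 12, 134939) (.node .leaf (30214, 0, 14, 245319) .leaf))))) (30215, 0, 17, 235539) (.node (.node (.node (.node (.node .leaf (30220, 0, 15, 3528) .leaf) (30221, 0, 15, 60846) (.node .leaf (30222, 0, 17, 218331) .leaf)) (30223, 0, 17, 69109) (.node (.node .leaf (30228, 0, 13, 20485) .leaf) (30229, 0, 17, 45155) (.node .leaf (30230, 0, 14, 65568) .leaf))) (30231, 0, 11, 122950) (.node (.node (.node .leaf (30236, 0, 16, 182879) .leaf) (30237, 0, 15, 169467) (.node .leaf (30238, 0, 13, 206264) .leaf)) (30239, 0, 14, 247262) (.node (.node .leaf (30244, 0, 16, 76607) .leaf) (30245, 0, 15, 225809) (.node .leaf (30246, 0, 11, 29568) .leaf)))) (30247, 0, 16, 37862) (.node (.node (.node (.node .leaf (30252, 0, 14, 115107) .leaf) (30253, 0, 17, 255579) (.node .leaf (30254, 0, 17, 153112) .leaf)) (30255, 0, 16, 28927) (.node (.node .leaf (30260, 0, 15, 220617) .leaf)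 (30261, 0, 19, 66791) (.node .leaf (30262, 0, 18, 134101) .leaf))) (30263, 0, 13, 191411) (.node (.node (.node .leaf (30268, 0, 15, 97896) .leaf) (30269, 0, 14, 105998) (.node .leaf (30270, 0, 16, 24359) .leaf)) (30271, 0, 16, 132617) (.node (.node .leaf (30272, 0, 15, 97269) .leaf) (30273, 0, 13, 105363) (.node .leaf (30274, 0, 17, 104912) .leaf))))))

/-- part of the orbit tree -/
def itp0_464 : Tree := (.node (.node (.node (.node (.node (.node .leaf (30280, 0, 15, 170814) .leaf) (30281, 0, 16, 245259) (.node .leaf (30282, 0, 15, 134728) .leaf)) (30283, 0, 16, 207458) (.node (.node .leaf (30288, 0, 18, 197536) .leaf) (30289, 0, 16, 254918) (.node .leaf (30290, 0, 16, 257830) .leaf))) (30291, 0, 16, 112136) (.node (.node (.node .leaf (30296, 0, 17, 60872) .leaf) (30297, 0, 18, 116318) (.node .leaf (30298, 0, 16, 30237) .leaf)) (30299, 0, 17, 38523) (.node (.node .leaf (30304, 0, 18, 199848) .leaf) (30305, 0, 18, 87430) (.node .leaf (30306, 0, 16, 58586) .leaf)))) (30307, 0, 12, 179700) (.node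 (.node (.node (.node .leaf (30312, 0, 15, 255540) .leaf) (30313, 0, 16, 46590) (.node .leaf (30314, 0, 13, 3654) .leaf)) (30315, 0, 17, 153448) (.node (.node .leaf (30320, 0, 18, 2133) .leaf) (30321, 0, 14, 59443) (.node .leaf (30322, 0, 17, 168492) .leaf))) (30323, 0, 16, 112662) (.node (.node (.node .leaf (30328, 0, 13, 142797) .leaf) (30329, 0, 13, 183723) (.node .leaf (30330, 0, 17, 161968) .leaf)) (30331, 0, 16, 236942) (.node (.node .leaf (30336, 0, 17, 34425) .leaf) (30337, 0, 16, 245871) (.node .leaf (30338, 0, 16, 160051) .leaf))))) (30339, 0, 16, 79418) (.node (.node (.node (.node (.node .leaf (30344, 0, 15, 95197) .leaf) (30345, 0, 18, 148359) (.node .leaf (30346, 0, 17, 259012) .leaf)) (30347, 0, 14, 49793) (.node (.node .leaf (30352, 0, 16, 257975) .leaf) (30353, 0, 14, 138826) (.node .leaf (30354, 0, 16, 241161) .leaf))) (30355, 0, 9, 155371) (.node (.node (.node .leaf (30360, 0, 13, 197931) .leaf) (30361, 0, 14, 89093) (.node .leaf (30362, 0, 15, 101265) .leaf)) (30363, 0, 13,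 177271) (.node (.node .leaf (30368, 0, 17, 232844) .leaf) (30369, 0, 17, 179557) (.node .leaf (30370, 0, 16, 199737) .leaf)))) (30371, 0, 17, 146895) (.node (.node (.node (.node .leaf (30376, 0, 18, 3799) .leaf) (30377, 0, 18, 153593) (.node .leaf (30378, 0, 14, 63537) .leaf)) (30379, 0, 16, 6231) (.node (.node .leaf (30384, 0, 17, 168637) .leaf) (30385, 0, 14, 71103) (.node .leaf (30386, 0, 14, 42492) .leaf))) (30387, 0, 17, 17818) (.node (.node (.node .leaf (30392, 0, 17, 161825) .leaf) (30393, 0, 16, 8463) (.node .leaf (30394, 0, 16, 102483) .leaf)) (30395, 0, 15, 248189) (.node (.node .leaf (30404, 0, 15, 245462) .leaf) (30405, 0, 15, 210362) (.node .leaf (30406, 0, 16, 22180) .leaf))))))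

/-- part of the orbit tree -/
def itp0_465 : Tree := (.node (.node (.node (.node (.node (.node .leaf (30412, 0, 17, 127044) .leaf) (30413, 0, 7, 68964) (.node .leaf (30414, 0, 16, 41057) .leaf)) (30415, 0, 17, 16391) (.node (.node .leaf (30420, 0, 19, 109961) .leaf) (30421, 0, 14, 85487) (.node .leaf (30422, 0, 15, 64940) .leaf))) (30423, 0, 14, 7626) (.node (.node (.node .leaf (30428, 0, 18, 231441) .leaf) (30429, 0, 17, 223351) (.node .leaf (30430, 0, 12, 186420) .leaf)) (30431, 0, 15, 37856) (.node (.node .leaf (30436, 0, 17, 181212) .leaf) (30437, 0, 16, 39666) (.node .leaf (30438, 0, 15, 101900) .leaf)))) (30439, 0, 16, 93802) (.node (.node (.node (.node .leaf (30444, 0, 13, 141632) .leaf) (30445, 0, 18, 28782) (.node .leaf (30446, 0, 17, 240532) .leaf)) (30447, 0, 14, 216050) (.node (.node .leaf (30452, 0, 15, 173692) .leaf) (30453, 0, 18, 149018) (.node .leaf (30454, 0, 17, 220504) .leaf))) (30455, 0, 16, 66678) (.node (.node (.node .leaf (30460, 0, 14, 24502) .leaf) (30461, 0, 15,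 25474) (.node .leaf (30462, 0, 16, 119745) .leaf)) (30463, 0, 18, 126698) (.node (.node .leaf (30464, 0, 17, 184011) .leaf) (30465, 0, 17, 86881) (.node .leaf (30466, 0, 18, 75449) .leaf))))) (30467, 0, 15, 836) (.node (.node (.node (.node (.node .leaf (30472, 0, 17, 140375) .leaf) (30473, 0, 19, 227065) (.node .leaf (30474, 0, 16, 181946) .leaf)) (30475, 0, 16, 234763) (.node (.node .leaf (30480, 0, 17, 47165) .leaf) (30481, 0, 18, 207668) (.node .leaf (30482, 0, 16, 217167) .leaf))) (30483, 0, 16, 162577) (.node (.node (.node .leaf (30488, 0, 14, 21153) .leaf) (30489, 0, 15, 134031) (.node .leaf (30490, 0, 15, 244435) .leaf)) (30491, 0, 17, 123901) (.node (.node .leaf (30496, 0, 13, 178418) .leaf) (30497, 0, 14, 125679) (.node .leaf (30498, 0, 18, 256215) .leaf)))) (30499, 0, 15, 131741) (.node (.node (.node (.node .leaf (30504, 0, 17, 40298) .leaf) (30505, 0, 16, 65651) (.node .leaf (30506, 0, 15, 118095) .leaf)) (30507, 0, 12, 190465) (.node (.node .leaf (30512, 0, 17, 49319) .leaf) (30513,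 0, 17, 8385) (.node .leaf (30514, 0, 16, 102530) .leaf))) (30515, 0, 18, 29803) (.node (.node (.node .leaf (30520, 0, 15, 77739) .leaf) (30521, 0, 13, 132441) (.node .leaf (30522, 0, 18, 242970) .leaf)) (30523, 0, 18, 218492) (.node (.node .leaf (30532, 0, 18, 188578) .leaf) (30533, 0, 17, 176242) (.node .leaf (30534, 0, 18, 196910) .leaf))))))

/-- part of the orbit tree -/
def itp0_466 : Tree := (.node (.node (.node (.node (.node (.node .leaf (30540, 0, 17, 960) .leaf) (30541, 0, 15, 9564) (.node .leaf (30542, 0, 17, 256946) .leaf)) (30543, 0, 9, 95609) (.node (.node .leaf (30548, 0, 15, 171946) .leaf) (30549, 0, 18, 50820) (.node .leaf (30550, 0, 16, 96216) .leaf))) (30551, 0, 16, 208630) (.node (.node (.node .leaf (30556, 0, 16, 161078) .leaf) (30557, 0, 18, 154889) (.node .leaf (30558, 0, 17, 257354) .leaf)) (30559, 0, 17, 246890) (.node (.node .leaf (30564, 0, 15, 125783) .leaf) (30565, 0, 18, 249208) (.node .leaf (30566, 0, 13, 162852) .leaf)))) (30567, 0, 15, 9482) (.node (.node (.node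 (.node .leaf (30572, 0, 17, 97994) .leaf) (30573, 0, 17, 206820) (.node .leaf (30574, 0, 16, 171754) .leaf)) (30575, 0, 16, 53142) (.node (.node .leaf (30580, 0, 17, 254624) .leaf) (30581, 0, 16, 226148) (.node .leaf (30582, 0, 18, 181031) .leaf))) (30583, 0, 17, 152572) (.node (.node (.node .leaf (30588, 0, 17, 198716) .leaf) (30589, 0, 17, 86290) (.node .leaf (30590, 0, 17, 59071) .leaf)) (30591, 0, 17, 1753) (.node (.node .leaf (30596, 0, 18, 197055) .leaf) (30597, 0, 13, 261448) (.node .leaf (30598, 0, 13, 150795) .leaf))))) (30599, 0, 18, 176355) (.node (.node (.node (.node (.node .leaf (30604, 0, 16, 80054) .leaf) (30605, 0, 18, 121040) (.node .leaf (30606, 0, 17, 849) .leaf)) (30607, 0, 15, 154239) (.node (.node .leaf (30612, 0, 17, 96073) .leaf) (30613, 0, 16, 99613) (.node .leaf (30614, 0, 15, 171835) .leaf))) (30615, 0, 14, 54584) (.node (.node (.node .leaf (30620, 0, 14, 213219) .leaf) (30621, 0, 17, 237701) (.node .leaf (30622, 0, 18, 161191) .leaf)) (30623, 0, 13, 11401) (.node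 (.node .leaf (30628, 0, 16, 5851) .leaf) (30629, 0, 16, 9627) (.node .leaf (30630, 0, 15, 103623) .leaf)))) (30631, 0, 16, 249321) (.node (.node (.node (.node .leaf (30636, 0, 14, 169513) .leaf) (30637, 0, 16, 52999) (.node .leaf (30638, 0, 19, 97883) .leaf)) (30639, 0, 17, 230144) (.node (.node .leaf (30644, 0, 15, 159374) .leaf) (30645, 0, 13, 167656) (.node .leaf (30646, 0, 14, 254513) .leaf))) (30647, 0, 16, 113439) (.node (.node (.node .leaf (30652, 0, 14, 57567) .leaf) (30653, 0, 17, 178673) (.node .leaf (30654, 0, 17, 72499) .leaf)) (30655, 0, 13, 129877) (.node (.node .leaf (30656, 0, 16, 20107) .leaf) (30657, 0, 16, 44781) .leaf)))))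

/-- part of the orbit tree -/
def itp0_467 : Tree := (.node itp0_463 (30275, 0, 15, 246014) itp0_464)

/-- part of the orbit tree -/
def itp0_468 : Tree := (.node itp0_465 (30535, 0, 16, 217313) itp0_466)

/-- part of the orbit tree -/
def itp0_469 : Tree := (.node itp0_461 (29895, 0, 17, 133798) itp0_462)

/-- part of the orbit tree -/
def itp0_470 : Tree := (.node itp0_467 (30407, 0, 15, 135050) itp0_468)

/-- part of the orbit tree -/
def itp0_471 : Tree := (.node itp0_455 (29128, 0, 15, 181356) itp0_456)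

/-- part of the orbit tree -/
def itp0_472 : Tree := (.node itp0_469 (30150, 0, 16, 46187) itp0_470)

/-- part of the orbit tree -/
def itp0_473 : Tree := (.node (.node (.node (.node (.node (.node .leaf (30659, 0, 8, 130760) .leaf) (30664, 0, 18, 158483) (.node .leaf (30665, 0, 16, 234906) .leaf)) (30666, 0, 15, 140486) (.node (.node .leaf (30667, 0, 8, 252752) .leaf) (30672, 0, 17, 145118) (.node .leaf (30673, 0, 16, 68080) .leaf))) (30674, 0, 16, 222971) (.node (.node (.node .leaf (30675, 0, 18, 188802) .leaf) (30680, 0, 17, 244290) (.node .leaf (30681, 0, 15, 123756) .leaf)) (30682, 0, 18, 82787) (.node (.node .leaf (30683, 0, 16, 133918) .leaf) (30688, 0, 18, 214398) (.node .leaf (30689, 0, 17, 131596) .leaf)))) (30690, 0, 16, 136539) (.node (.node (.node (.node .leaf (30691, 0, 16, 125566) .leaf) (30696, 0, 16, 90342) (.node .leaf (30697, 0, 16, 190608) .leaf)) (30698, 0, 15, 12483) (.node (.node .leaf (30699, 0, 17, 65762) .leaf) (30704, 0, 16, 81195) (.node .leaf (30705, 0, 18, 29946)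 .leaf))) (30706, 0, 17, 116134) (.node (.node (.node .leaf (30707, 0, 17, 236680) .leaf) (30712, 0, 15, 182088) (.node .leaf (30713, 0, 14, 40550) .leaf)) (30714, 0, 16, 149654) (.node (.node .leaf (30715, 0, 16, 174320) .leaf) (30720, 0, 17, 88503) (.node .leaf (30723, 0, 15, 54675) .leaf))))) (30724, 0, 13, 203730) (.node (.node (.node (.node (.node .leaf (30727, 0, 19, 174734) .leaf) (30728, 0, 15, 228399) (.node .leaf (30731, 0, 16, 183404) .leaf)) (30732, 0, 14, 214284) (.node (.node .leaf (30735, 0, 18, 147474) .leaf) (30736, 0, 15, 201273) (.node .leaf (30739, 0, 16, 172901) .leaf))) (30740, 0, 11, 93476) (.node (.node (.node .leaf (30743, 0, 16, 56440) .leaf) (30744, 0, 17, 66682) (.node .leaf (30747, 0, 17, 150009) .leaf)) (30748, 0, 15, 100280) (.node (.node .leaf (30751, 0, 16, 14052) .leaf) (30752, 0, 14, 6597) (.node .leaf (30755, 0, 15, 108697) .leaf)))) (30756, 0, 13, 158561) (.node (.node (.node (.node .leaf (30759, 0, 17, 252706) .leaf) (30760, 0, 12, 62297) (.node .leaf (30763,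 0, 15, 116633) .leaf)) (30764, 0, 16, 166980) (.node (.node .leaf (30767, 0, 14, 130746) .leaf) (30768, 0, 18, 10775) (.node .leaf (30771, 0, 15, 105044) .leaf))) (30772, 0, 16, 4916) (.node (.node (.node .leaf (30775, 0, 15, 107383) .leaf) (30776, 0, 9, 135055) (.node .leaf (30779, 0, 16, 245708) .leaf)) (30780, 0, 17, 64178) (.node (.node .leaf (30783, 0, 14, 231151) .leaf) (30785, 0, 17, 185175) (.node .leaf (30786, 0, 16, 185399) .leaf))))))

/-- part of the orbit tree -/
def itp0_474 : Tree := (.node (.node (.node (.node (.node (.node .leaf (30790, 0, 14, 43818) .leaf) (30793, 0, 18, 233463) (.node .leaf (30794, 0, 16, 147115) .leaf)) (30797, 0, 17, 53228) (.node (.node .leaf (30798, 0, 14, 98223) .leaf) (30801, 0, 16, 70557) (.node .leaf (30802, 0, 14, 41665) .leaf))) (30805, 0, 17, 37409) (.node (.node (.node .leaf (30806, 0, 16, 187868) .leaf) (30809, 0, 15, 129281) (.node .leaf (30810, 0, 17, 18525) .leaf)) (30813, 0, 12, 178105) (.node (.node .leaf (30814, 0, 16, 145216) .leaf) (30817,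 0, 14, 137313) (.node .leaf (30818, 0, 14, 26849) .leaf)))) (30821, 0, 16, 123265) (.node (.node (.node (.node .leaf (30822, 0, 14, 20930) .leaf) (30825, 0, 16, 193277) (.node .leaf (30826, 0, 12, 213921) .leaf)) (30829, 0, 16, 246809) (.node (.node .leaf (30830, 0, 16, 81084) .leaf) (30833, 0, 14, 237815) (.node .leaf (30834, 0, 18, 135348) .leaf))) (30837, 0, 17, 235988) (.node (.node (.node .leaf (30838, 0, 17, 141719) .leaf) (30841, 0, 16, 33803) (.node .leaf (30842, 0, 13, 13612) .leaf)) (30845, 0, 17, 113740) (.node (.node .leaf (30846, 0, 17, 215626) .leaf) (30849, 0, 17, 208603) (.node .leaf (30850, 0, 17, 81108) .leaf))))) (30853, 0, 15, 193173) (.node (.node (.node (.node (.node .leaf (30854, 0, 17, 213961) .leaf) (30857, 0, 15, 26388) (.node .leaf (30858, 0, 17, 120392) .leaf)) (30861, 0, 19, 78432) (.node (.node .leaf (30862, 0, 17, 33315) .leaf) (30865, 0, 18, 87694) (.node .leaf (30866, 0, 15, 59085) .leaf))) (30869, 0, 15, 94125) (.node (.node (.node .leaf (30870, 0, 18, 57326)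 .leaf) (30873, 0, 14, 226070) (.node .leaf (30874, 0, 13, 181077) .leaf)) (30877, 0, 17, 28415) (.node (.node .leaf (30878, 0, 17, 195190) .leaf) (30881, 0, 17, 9518) (.node .leaf (30882, 0, 15, 16862) .leaf)))) (30885, 0, 17, 7181) (.node (.node (.node (.node .leaf (30886, 0, 18, 109646) .leaf) (30889, 0, 19, 131254) (.node .leaf (30890, 0, 14, 43842) .leaf)) (30893, 0, 15, 222467) (.node (.node .leaf (30894, 0, 19, 185439) .leaf) (30897, 0, 17, 155003) (.node .leaf (30898, 0, 13, 257336) .leaf))) (30901, 0, 16, 129385) (.node (.node (.node .leaf (30902, 0, 14, 18485) .leaf) (30905, 0, 16, 224488) (.node .leaf (30906, 0, 17, 187828) .leaf)) (30909, 0, 17, 70645) (.node (.node .leaf (30910, 0, 14, 41641) .leaf) (30912, 0, 16, 166956) (.node .leaf (30915, 0, 18, 212336) .leaf))))))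

/-- part of the orbit tree -/
def itp0_475 : Tree := (.node (.node (.node (.node (.node (.node .leaf (30919, 0, 17, 82541) .leaf) (30920, 0, 15, 164259) (.node .leaf (30923, 0, 17, 251884) .leaf)) (30924, 0, 16, 178304) (.node (.node .leaf (30927, 0, 16, 108785) .leaf) (30928, 0, 17, 187502) (.node .leaf (30931, 0, 16, 84870) .leaf))) (30932, 0, 13, 165319) (.node (.node (.node .leaf (30935, 0, 18, 210075) .leaf) (30936, 0, 15, 4166) (.node .leaf (30939, 0, 17, 84405) .leaf)) (30940, 0, 15, 49365) (.node (.node .leaf (30943, 0, 16, 253447) .leaf) (30944, 0, 19, 258342) (.node .leaf (30947, 0, 19, 147578) .leaf)))) (30948, 0, 16, 101947) (.node (.node (.node (.node .leaf (30951, 0, 16, 16231) .leaf) (30952, 0, 17, 203706) (.node .leaf (30955, 0, 13, 174822) .leaf)) (30956, 0, 16, 111477) (.node (.node .leaf (30959, 0, 16, 822) .leaf) (30960, 0, 15, 100304) (.node .leaf (30963, 0, 15, 13964) .leaf))) (30964, 0, 17, 260301) (.node (.node (.node .leaf (30967, 0, 16, 149905) .leaf) (30968, 0, 17,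 258563) (.node .leaf (30971, 0, 14, 148032) .leaf)) (30972, 0, 15, 248608) (.node (.node .leaf (30975, 0, 16, 162659) .leaf) (30977, 0, 18, 252418) (.node .leaf (30978, 0, 13, 240614) .leaf))))) (30981, 0, 19, 139910) (.node (.node (.node (.node (.node .leaf (30982, 0, 14, 5187) .leaf) (30985, 0, 11, 15933) (.node .leaf (30986, 0, 17, 102014) .leaf)) (30989, 0, 18, 85891) (.node (.node .leaf (30990, 0, 14, 112477) .leaf) (30993, 0, 13, 25584) (.node .leaf (30994, 0, 17, 119731) .leaf))) (30997, 0, 16, 23251) (.node (.node (.node .leaf (30998, 0, 16, 125584) .leaf) (31001, 0, 16, 149096) (.node .leaf (31002, 0, 18, 259627) .leaf)) (31005, 0, 14, 211317) (.node (.node .leaf (31006, 0, 18, 249608) .leaf) (31009, 0, 14, 173832) (.node .leaf (31010, 0, 17, 40979) .leaf)))) (31013, 0, 18, 55317) (.node (.node (.node (.node .leaf (31014, 0, 18, 92489) .leaf) (31017, 0, 15, 150932) (.node .leaf (31018, 0, 17, 165259) .leaf)) (31021, 0, 17, 12937) (.node (.node .leaf (31022, 0, 16, 99285) .leaf) (31025,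 0, 15, 53758) (.node .leaf (31026, 0, 17, 90274) .leaf))) (31029, 0, 15, 217382) (.node (.node (.node .leaf (31030, 0, 14, 188773) .leaf) (31033, 0, 18, 85405) (.node .leaf (31034, 0, 16, 64990) .leaf)) (31037, 0, 15, 95422) (.node (.node .leaf (31038, 0, 15, 259363) .leaf) (31040, 0, 16, 102725) (.node .leaf (31043, 0, 16, 27386) .leaf))))))

/-- part of the orbit tree -/
def itp0_476 : Tree := (.node (.node (.node (.node (.node (.node .leaf (31047, 0, 17, 6181) .leaf) (31048, 0, 14, 242909) (.node .leaf (31051, 0, 16, 132254) .leaf)) (31052, 0, 15, 216615) (.node (.node .leaf (31055, 0, 17, 196475) .leaf) (31056, 0, 16, 256272) (.node .leaf (31059, 0, 17, 153939) .leaf))) (31060, 0, 17, 119373) (.node (.node (.node .leaf (31063, 0, 17, 155760) .leaf) (31064, 0, 15, 214988) (.node .leaf (31067, 0, 15, 194192) .leaf)) (31068, 0, 18, 80081) (.node (.node .leaf (31071, 0, 12, 17896) .leaf) (31072, 0, 15, 170672) (.node .leaf (31075, 0, 13, 71664) .leaf)))) (31076, 0, 16, 186801) (.node (.node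 (.node (.node .leaf (31079, 0, 12, 201680) .leaf) (31080, 0, 17, 48936) (.node .leaf (31083, 0, 18, 69483) .leaf)) (31084, 0, 15, 144173) (.node (.node .leaf (31087, 0, 16, 230001) .leaf) (31088, 0, 16, 58085) (.node .leaf (31091, 0, 17, 86694) .leaf))) (31092, 0, 16, 56262) (.node (.node (.node .leaf (31095, 0, 15, 93061) .leaf) (31096, 0, 16, 146118) (.node .leaf (31099, 0, 15, 232346) .leaf)) (31100, 0, 17, 17883) (.node (.node .leaf (31103, 0, 17, 128135) .leaf) (31104, 0, 17, 144197) (.node .leaf (31107, 0, 17, 229913) .leaf))))) (31108, 0, 18, 19544) (.node (.node (.node (.node (.node .leaf (31111, 0, 16, 130308) .leaf) (31112, 0, 17, 186841) (.node .leaf (31115, 0, 15, 223365) .leaf)) (31116, 0, 14, 159858) (.node (.node .leaf (31119, 0, 18, 71576) .leaf) (31120, 0, 20, 136348) (.node .leaf (31123, 0, 17, 128239) .leaf))) (31124, 0, 15, 146094) (.node (.node (.node .leaf (31127, 0, 14, 232434) .leaf) (31128, 0, 16, 12548) (.node .leaf (31131, 0, 18, 98631) .leaf)) (31132, 0, 14, 184370)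 (.node (.node .leaf (31135, 0, 16, 112740) .leaf) (31136, 0, 15, 223036) (.node .leaf (31139, 0, 13, 196371) .leaf)))) (31140, 0, 16, 220703) (.node (.node (.node (.node .leaf (31143, 0, 18, 32782) .leaf) (31144, 0, 14, 82596) (.node .leaf (31147, 0, 17, 62183) .leaf)) (31148, 0, 16, 97159) (.node (.node .leaf (31151, 0, 17, 52164) .leaf) (31152, 0, 18, 80057) (.node .leaf (31155, 0, 17, 35301) .leaf))) (31156, 0, 17, 214948) (.node (.node (.node .leaf (31159, 0, 18, 38409) .leaf) (31160, 0, 17, 211697) (.node .leaf (31163, 0, 18, 166578) .leaf)) (31164, 0, 17, 197586) (.node (.node .leaf (31167, 0, 17, 138340) .leaf) (31169, 0, 16, 13025) (.node .leaf (31170, 0, 16, 99261) .leaf))))))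

/-- part of the orbit tree -/
def itp0_477 : Tree := (.node itp0_473 (30789, 0, 16, 72310) itp0_474)

/-- part of the orbit tree -/
def itp0_478 : Tree := (.node itp0_475 (31044, 0, 16, 238779) itp0_476)

/-- part of the orbit tree -/
def itp0_479 : Tree := (.node (.node (.node (.node (.node (.node .leaf (31174, 0, 15, 261280) .leaf) (31177, 0, 15, 55421) (.node .leaf (31178, 0, 14, 29682) .leaf)) (31181, 0, 18, 173920) (.node (.node .leaf (31182, 0, 15, 19153) .leaf) (31185, 0, 13, 148503) (.node .leaf (31186, 0, 16, 259403) .leaf))) (31189, 0, 17, 15114) (.node (.node (.node .leaf (31190, 0, 16, 5916) .leaf) (31193, 0, 18, 244708) (.node .leaf (31194, 0, 18, 204759) .leaf)) (31197, 0, 18, 230087) (.node (.node .leaf (31198, 0, 15, 90314) .leaf) (31201, 0, 17, 85995) (.node .leaf (31202, 0, 15, 89503) .leaf)))) (31205, 0, 15, 209142) (.node (.node (.node (.node .leaf (31206, 0, 13, 91324) .leaf) (31209, 0, 11, 107895) (.node .leaf (31210, 0, 17, 5163) .leaf)) (31213, 0, 18, 252522) (.node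 (.node .leaf (31214, 0, 17, 158518) .leaf) (31217, 0, 16, 211229) (.node .leaf (31218, 0, 18, 165953) .leaf))) (31221, 0, 16, 175274) (.node (.node (.node .leaf (31222, 0, 14, 204009) .leaf) (31225, 0, 15, 250753) (.node .leaf (31226, 0, 12, 65618) .leaf)) (31229, 0, 9, 109724) (.node (.node .leaf (31230, 0, 14, 80241) .leaf) (31234, 0, 16, 166289) (.node .leaf (31235, 0, 15, 50564) .leaf))))) (31238, 0, 18, 63116) (.node (.node (.node (.node (.node .leaf (31239, 0, 16, 176034) .leaf) (31242, 0, 13, 131194) (.node .leaf (31243, 0, 17, 188444) .leaf)) (31246, 0, 17, 7184) (.node (.node .leaf (31247, 0, 15, 186687) .leaf) (31250, 0, 16, 65383) (.node .leaf (31251, 0, 16, 179665) .leaf))) (31254, 0, 14, 156820) (.node (.node (.node .leaf (31255, 0, 18, 55636) .leaf) (31258, 0, 15, 30767) (.node .leaf (31259, 0, 15, 38985) .leaf)) (31262, 0, 15, 158438) (.node (.node .leaf (31263, 0, 17, 13256) .leaf) (31266, 0, 15, 208407) (.node .leaf (31267, 0, 17, 110005) .leaf)))) (31270, 0, 17, 101254) (.node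 (.node (.node (.node .leaf (31271, 0, 18, 259922) .leaf) (31274, 0, 17, 68495) (.node .leaf (31275, 0, 12, 125929) .leaf)) (31278, 0, 16, 90394) (.node (.node .leaf (31279, 0, 15, 210996) .leaf) (31282, 0, 15, 87618) (.node .leaf (31283, 0, 18, 112164) .leaf))) (31286, 0, 17, 261488) (.node (.node (.node .leaf (31287, 0, 17, 107614) .leaf) (31290, 0, 16, 92401) (.node .leaf (31291, 0, 14, 209375) .leaf)) (31294, 0, 15, 202732) (.node (.node .leaf (31295, 0, 16, 85698) .leaf) (31296, 0, 18, 80233) (.node .leaf (31297, 0, 16, 221255) .leaf))))))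

/-- part of the orbit tree -/
def itp0_480 : Tree := (.node (.node (.node (.node (.node (.node .leaf (31301, 0, 15, 181764) .leaf) (31304, 0, 15, 15065) (.node .leaf (31305, 0, 15, 55999) .leaf)) (31308, 0, 15, 1018) (.node (.node .leaf (31309, 0, 18, 58268) .leaf) (31312, 0, 15, 26388) (.node .leaf (31313, 0, 16, 34674) .leaf))) (31316, 0, 13, 24119) (.node (.node (.node .leaf (31317, 0, 13, 48721) .leaf) (31320, 0, 18, 238851) (.node .leaf (31321, 0, 12, 172778) .leaf)) (31324, 0, 16, 162735) (.node (.node .leaf (31325, 0, 15, 230192) .leaf) (31328, 0, 16, 17507) (.node .leaf (31329, 0, 14, 128210) .leaf)))) (31332, 0, 16, 77207) (.node (.node (.node (.node .leaf (31333, 0, 19, 25168) .leaf) (31336, 0, 16, 209196) (.node .leaf (31337, 0, 8, 250186) .leaf)) (31340, 0, 17, 184802) (.node (.node .leaf (31341, 0, 18, 256105) .leaf) (31344, 0, 17, 224481) (.node .leaf (31345, 0, 14, 27579) .leaf))) (31348, 0, 15, 19848) (.node (.node (.node .leaf (31349, 0, 18, 136358) .leaf) (31352, 0, 14, 186377)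 (.node .leaf (31353, 0, 11, 33063) .leaf)) (31356, 0, 16, 42772) (.node (.node .leaf (31357, 0, 12, 196154) .leaf) (31360, 0, 17, 254669) (.node .leaf (31361, 0, 18, 197291) .leaf))))) (31364, 0, 13, 44695) (.node (.node (.node (.node (.node .leaf (31365, 0, 14, 194489) .leaf) (31368, 0, 16, 146198) (.node .leaf (31369, 0, 16, 75571) .leaf)) (31372, 0, 15, 130678) (.node (.node .leaf (31373, 0, 17, 73232) .leaf) (31376, 0, 17, 105112) (.node .leaf (31377, 0, 17, 196178) .leaf))) (31380, 0, 15, 186465) (.node (.node (.node .leaf (31381, 0, 13, 82909) .leaf) (31384, 0, 14, 245504) (.node .leaf (31385, 0, 14, 221030) .leaf)) (31388, 0, 17, 144125) (.node (.node .leaf (31389, 0, 18, 27603) .leaf) (31392, 0, 13, 59704) (.node .leaf (31393, 0, 12, 2398) .leaf)))) (31396, 0, 16, 119709) (.node (.node (.node (.node .leaf (31397, 0, 16, 12413) .leaf) (31400, 0, 17, 183456) (.node .leaf (31401, 0, 16, 142534) .leaf)) (31404, 0, 17, 80129) (.node (.node .leaf (31405, 0, 11, 136677) .leaf) (31408, 0, 17,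 168301) (.node .leaf (31409, 0, 17, 160011) .leaf))) (31412, 0, 11, 174158) (.node (.node (.node .leaf (31413, 0, 18, 149544) .leaf) (31416, 0, 16, 46325) (.node .leaf (31417, 0, 17, 21651) .leaf)) (31420, 0, 18, 217079) (.node (.node .leaf (31421, 0, 16, 28080) .leaf) (31426, 0, 15, 120942) (.node .leaf (31427, 0, 16, 79880) .leaf))))))

/-- part of the orbit tree -/
def itp0_481 : Tree := (.node (.node (.node (.node (.node (.node .leaf (31431, 0, 12, 83777) .leaf) (31434, 0, 18, 261622) (.node .leaf (31435, 0, 15, 204176) .leaf)) (31438, 0, 16, 259315) (.node (.node .leaf (31439, 0, 18, 110045) .leaf) (31442, 0, 17, 202628) (.node .leaf (31443, 0, 14, 85674) .leaf))) (31446, 0, 15, 92313) (.node (.node (.node .leaf (31447, 0, 15, 227710) .leaf) (31450, 0, 18, 99747) (.node .leaf (31451, 0, 17, 91589) .leaf)) (31454, 0, 15, 98821) (.node (.node .leaf (31455, 0, 16, 89318) .leaf) (31458, 0, 16, 185243) (.node .leaf (31459, 0, 15, 148822) .leaf)))) (31462, 0, 12, 191160) (.node (.node (.node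 (.node .leaf (31463, 0, 10, 133854) .leaf) (31466, 0, 16, 63204) (.node .leaf (31467, 0, 15, 5733) .leaf)) (31470, 0, 14, 166393) (.node (.node .leaf (31471, 0, 18, 12102) .leaf) (31474, 0, 14, 43982) (.node .leaf (31475, 0, 15, 19368) .leaf))) (31478, 0, 15, 37613) (.node (.node (.node .leaf (31479, 0, 16, 150717) .leaf) (31482, 0, 16, 167510) (.node .leaf (31483, 0, 17, 55612) .leaf)) (31486, 0, 15, 65295) (.node (.node .leaf (31487, 0, 17, 173601) .leaf) (31488, 0, 16, 99840) (.node .leaf (31489, 0, 17, 145365) .leaf))))) (31492, 0, 18, 192144) (.node (.node (.node (.node (.node .leaf (31493, 0, 15, 106547) .leaf) (31496, 0, 15, 61995) (.node .leaf (31497, 0, 15, 4685) .leaf)) (31500, 0, 13, 201601) (.node (.node .leaf (31501, 0, 16, 84655) .leaf) (31504, 0, 18, 258294) (.node .leaf (31505, 0, 16, 20352) .leaf))) (31508, 0, 11, 38597) (.node (.node (.node .leaf (31509, 0, 16, 251589) .leaf) (31512, 0, 15, 203370) (.node .leaf (31513, 0, 11, 158232) .leaf)) (31516, 0, 13, 176989) (.node (.node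 .leaf (31517, 0, 14, 152379) .leaf) (31520, 0, 13, 64266) (.node .leaf (31521, 0, 13, 172580) .leaf)))) (31524, 0, 18, 164887) (.node (.node (.node (.node .leaf (31525, 0, 15, 56633) .leaf) (31528, 0, 15, 260574) (.node .leaf (31529, 0, 15, 149688) .leaf)) (31532, 0, 16, 246013) (.node (.node .leaf (31533, 0, 16, 14245) .leaf) (31536, 0, 15, 238611) (.node .leaf (31537, 0, 15, 54482) .leaf))) (31540, 0, 18, 236848) (.node (.node (.node .leaf (31541, 0, 14, 175055) .leaf) (31544, 0, 16, 98699) (.node .leaf (31545, 0, 16, 15950) .leaf)) (31548, 0, 16, 6269) (.node (.node .leaf (31549, 0, 18, 147795) .leaf) (31554, 0, 18, 60688) (.node .leaf (31555, 0, 14, 28630) .leaf))))))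

/-- part of the orbit tree -/
def itp0_482 : Tree := (.node (.node (.node (.node (.node (.node .leaf (31559, 0, 15, 135371) .leaf) (31562, 0, 16, 182408) (.node .leaf (31563, 0, 17, 141550) .leaf)) (31566, 0, 15, 192939) (.node (.node .leaf (31567, 0, 15, 135629) .leaf) (31570, 0, 18, 169285) (.node .leaf (31571, 0, 16, 137504) .leaf))) (31574, 0, 15, 147219) (.node (.node (.node .leaf (31575, 0, 15, 150528) .leaf) (31578, 0, 16, 43666) (.node .leaf (31579, 0, 17, 193468) .leaf)) (31582, 0, 17, 185743) (.node (.node .leaf (31583, 0, 17, 36001) .leaf) (31586, 0, 14, 216050) (.node .leaf (31587, 0, 17, 198275) .leaf)))) (31590, 0, 14, 253894) (.node (.node (.node (.node .leaf (31591, 0, 16, 212896) .leaf) (31594, 0, 17, 237934) (.node .leaf (31595, 0, 17, 74523) .leaf)) (31598, 0, 16, 122483) (.node (.node .leaf (31599, 0, 17, 231261) .leaf) (31602, 0, 17, 106160) (.node .leaf (31603, 0, 16, 98006) .leaf))) (31606, 0, 15, 108435) (.node (.node (.node .leaf (31607, 0, 16, 83957) .leaf) (31610,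 0, 16, 244520) (.node .leaf (31611, 0, 15, 219982) .leaf)) (31614, 0, 17, 229899) (.node (.node .leaf (31615, 0, 18, 221805) .leaf) (31618, 0, 18, 122395) (.node .leaf (31619, 0, 18, 231221) .leaf))))) (31622, 0, 15, 237830) (.node (.node (.node (.node (.node .leaf (31623, 0, 16, 117209) .leaf) (31626, 0, 13, 78983) (.node .leaf (31627, 0, 15, 251234) .leaf)) (31630, 0, 17, 215962) (.node (.node .leaf (31631, 0, 15, 257089) .leaf) (31634, 0, 16, 223433) (.node .leaf (31635, 0, 14, 231599) .leaf))) (31638, 0, 17, 217578) (.node (.node (.node .leaf (31639, 0, 16, 242060) .leaf) (31642, 0, 16, 213617) (.node .leaf (31643, 0, 16, 72543) .leaf)) (31646, 0, 15, 81260) (.node (.node .leaf (31647, 0, 17, 103444) .leaf) (31650, 0, 16, 41745) (.node .leaf (31651, 0, 14, 195343) .leaf)))) (31654, 0, 15, 187404) (.node (.node (.node (.node .leaf (31655, 0, 14, 34082) .leaf) (31658, 0, 14, 16113) (.node .leaf (31659, 0, 16, 135331) .leaf)) (31662, 0, 12, 2002) (.node (.node .leaf (31663, 0, 18, 59316) .leaf)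 (31666, 0, 16, 185831) (.node .leaf (31667, 0, 18, 36041) .leaf))) (31670, 0, 17, 23071) (.node (.node (.node .leaf (31671, 0, 11, 47737) .leaf) (31674, 0, 16, 147323) (.node .leaf (31675, 0, 17, 26197) .leaf)) (31678, 0, 19, 16486) (.node (.node .leaf (31679, 0, 16, 172001) .leaf) (31680, 0, 16, 159459) .leaf)))))

/-- part of the orbit tree -/
def itp0_483 : Tree := (.node itp0_479 (31300, 0, 16, 140898) itp0_480)

/-- part of the orbit tree -/
def itp0_484 : Tree := (.node itp0_481 (31558, 0, 17, 18917) itp0_482)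

/-- part of the orbit tree -/
def itp0_485 : Tree := (.node itp0_477 (30916, 0, 15, 62257) itp0_478)

/-- part of the orbit tree -/
def itp0_486 : Tree := (.node itp0_483 (31430, 0, 16, 204399) itp0_484)

/-- part of the orbit tree -/
def itp0_487 : Tree := (.node (.node (.node (.node (.node (.node .leaf (31684, 0, 14, 4606) .leaf) (31685, 0, 17, 149712) (.node .leaf (31688, 0, 13, 164991) .leaf)) (31689, 0, 15, 56657) (.node (.node .leaf (31692, 0, 17, 64354) .leaf) (31693, 0, 15, 172620) (.node .leaf (31696, 0, 18, 86634) .leaf))) (31697, 0, 14, 147771) (.node (.node (.node .leaf (31700, 0, 14, 157448) .leaf) (31701, 0, 17, 101167) (.node .leaf (31704, 0, 14, 62089) .leaf)) (31705, 0, 16, 235412) (.node (.node .leaf (31708, 0, 15, 167316) .leaf) (31709, 0, 16, 241335) (.node .leaf (31712, 0, 16, 201705) .leaf)))) (31713, 0, 14, 49580) (.node (.node (.node (.node .leaf (31716, 0, 18, 6377) .leaf) (31717, 0, 17, 210394) (.node .leaf (31720, 0, 16, 260469) .leaf)) (31721, 0, 12, 106587) (.node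 (.node .leaf (31724, 0, 12, 146801) .leaf) (31725, 0, 14, 187671) (.node .leaf (31728, 0, 15, 91423) .leaf))) (31729, 0, 16, 212017) (.node (.node (.node .leaf (31732, 0, 16, 203266) .leaf) (31733, 0, 15, 82732) (.node .leaf (31736, 0, 17, 31751) .leaf)) (31737, 0, 16, 251565) (.node (.node .leaf (31740, 0, 17, 17700) .leaf) (31741, 0, 16, 108976) (.node .leaf (31745, 0, 14, 12309) .leaf))))) (31747, 0, 17, 252007) (.node (.node (.node (.node (.node .leaf (31749, 0, 16, 151304) .leaf) (31751, 0, 16, 108410) (.node .leaf (31753, 0, 17, 165601) .leaf)) (31755, 0, 13, 251588) (.node (.node .leaf (31757, 0, 14, 180162) .leaf) (31759, 0, 16, 85478) (.node .leaf (31761, 0, 12, 149219) .leaf))) (31763, 0, 13, 110225) (.node (.node (.node .leaf (31765, 0, 15, 14846) .leaf) (31767, 0, 17, 250252) (.node .leaf (31769, 0, 17, 65204) .leaf)) (31771, 0, 13, 110225) (.node (.node .leaf (31773, 0, 13, 51095) .leaf) (31775, 0, 15, 211728) (.node .leaf (31777, 0, 16, 85279) .leaf)))) (31779, 0, 17, 173421)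 (.node (.node (.node (.node .leaf (31781, 0, 16, 209410) .leaf) (31783, 0, 18, 55920) (.node .leaf (31785, 0, 15, 101652) .leaf)) (31787, 0, 15, 56625) (.node (.node .leaf (31789, 0, 12, 111671) .leaf) (31791, 0, 17, 58386) (.node .leaf (31793, 0, 15, 119001) .leaf))) (31795, 0, 16, 54171) (.node (.node (.node .leaf (31797, 0, 13, 83188) .leaf) (31799, 0, 15, 47583) (.node .leaf (31801, 0, 15, 259393) .leaf)) (31803, 0, 17, 14599) (.node (.node .leaf (31805, 0, 17, 248930) .leaf) (31807, 0, 18, 171079) (.node .leaf (31808, 0, 17, 143793) .leaf))))))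

/-- part of the orbit tree -/
def itp0_488 : Tree := (.node (.node (.node (.node (.node (.node .leaf (31812, 0, 17, 20140) .leaf) (31814, 0, 17, 147615) (.node .leaf (31816, 0, 17, 187181) .leaf)) (31818, 0, 17, 78687) (.node (.node .leaf (31820, 0, 18, 42032) .leaf) (31822, 0, 13, 216130) (.node .leaf (31824, 0, 14, 18247) .leaf))) (31826, 0, 17, 489) (.node (.node (.node .leaf (31828, 0, 16, 92399) .leaf) (31830, 0, 15, 118824) (.node .leaf (31832, 0, 16, 226388) .leaf)) (31834, 0, 14, 214441) (.node (.node .leaf (31836, 0, 16, 185030) .leaf) (31838, 0, 15, 138578) (.node .leaf (31840, 0, 15, 8812) .leaf)))) (31842, 0, 14, 42185) (.node (.node (.node (.node .leaf (31844, 0, 15, 6991) .leaf) (31846, 0, 15, 187348) (.node .leaf (31848, 0, 11, 239143) .leaf)) (31850, 0, 14, 20053) (.node (.node .leaf (31852, 0, 15, 121146) .leaf) (31854, 0, 15, 225010) (.node .leaf (31856, 0, 17, 154169) .leaf))) (31858, 0, 18, 199196) (.node (.node (.node .leaf (31860, 0, 19, 156442) .leaf) (31862, 0, 17,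 44322) (.node .leaf (31864, 0, 17, 118993) .leaf)) (31866, 0, 14, 145571) (.node (.node .leaf (31868, 0, 17, 18050) .leaf) (31870, 0, 15, 71335) (.node .leaf (31872, 0, 15, 185365) .leaf))))) (31874, 0, 16, 143648) (.node (.node (.node (.node (.node .leaf (31876, 0, 19, 191798) .leaf) (31878, 0, 15, 245011) (.node .leaf (31880, 0, 17, 78798) .leaf)) (31882, 0, 18, 106920) (.node (.node .leaf (31884, 0, 18, 216275) .leaf) (31886, 0, 10, 104587) (.node .leaf (31888, 0, 18, 241572) .leaf))) (31890, 0, 16, 18390) (.node (.node (.node .leaf (31892, 0, 15, 118969) .leaf) (31894, 0, 15, 116038) (.node .leaf (31896, 0, 17, 166360) .leaf)) (31898, 0, 15, 44362) (.node (.node .leaf (31900, 0, 17, 80421) .leaf) (31902, 0, 15, 184919) (.node .leaf (31904, 0, 16, 42072) .leaf)))) (31906, 0, 17, 216106) (.node (.node (.node (.node .leaf (31908, 0, 16, 124611) .leaf) (31910, 0, 16, 78647) (.node .leaf (31912, 0, 19, 20164) .leaf)) (31914, 0, 14, 239286) (.node (.node .leaf (31916, 0, 13, 143833) .leaf) (31918,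 0, 16, 168830) (.node .leaf (31920, 0, 16, 239541) .leaf))) (31922, 0, 17, 194448) (.node (.node (.node .leaf (31924, 0, 17, 44467) .leaf) (31926, 0, 14, 214465) (.node .leaf (31928, 0, 15, 145458) .leaf)) (31930, 0, 19, 118848) (.node (.node .leaf (31932, 0, 14, 18223) .leaf) (31934, 0, 12, 60203) (.node .leaf (31937, 0, 18, 252150) .leaf))))))

/-- part of the orbit tree -/
def itp0_489 : Tree := (.node (.node (.node (.node (.node (.node .leaf (31941, 0, 14, 108523) .leaf) (31943, 0, 12, 151449) (.node .leaf (31945, 0, 18, 228205) .leaf)) (31947, 0, 18, 55832) (.node (.node .leaf (31949, 0, 14, 85367) .leaf) (31951, 0, 14, 173317) (.node .leaf (31953, 0, 14, 206496) .leaf))) (31955, 0, 15, 149106) (.node (.node (.node .leaf (31957, 0, 16, 204675) .leaf) (31959, 0, 17, 14703) (.node .leaf (31961, 0, 18, 83100) .leaf)) (31963, 0, 13, 21277) (.node (.node .leaf (31965, 0, 16, 211841) .leaf) (31967, 0, 17, 27198) (.node .leaf (31969, 0, 17, 173564) .leaf)))) (31971, 0, 17, 197925) (.node (.node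 (.node (.node .leaf (31973, 0, 16, 56033) .leaf) (31975, 0, 16, 209555) (.node .leaf (31977, 0, 15, 28824) .leaf)) (31979, 0, 14, 73917) (.node (.node .leaf (31981, 0, 14, 18875) .leaf) (31983, 0, 15, 251919) (.node .leaf (31985, 0, 15, 54026) .leaf))) (31987, 0, 15, 211832) (.node (.node (.node .leaf (31989, 0, 12, 5238) .leaf) (31991, 0, 16, 83045) (.node .leaf (31993, 0, 17, 14742) .leaf)) (31995, 0, 17, 250340) (.node (.node .leaf (31997, 0, 13, 143854) .leaf) (31999, 0, 15, 110329) (.node .leaf (32000, 0, 18, 254315) .leaf))))) (32002, 0, 16, 91818) (.node (.node (.node (.node (.node .leaf (32004, 0, 13, 251976) .leaf) (32006, 0, 9, 203191) (.node .leaf (32008, 0, 17, 156740) .leaf)) (32010, 0, 15, 38102) (.node (.node .leaf (32012, 0, 16, 7001) .leaf) (32014, 0, 16, 44533) (.node .leaf (32016, 0, 14, 63534) .leaf))) (32018, 0, 16, 51483) (.node (.node (.node .leaf (32020, 0, 15, 106525) .leaf) (32022, 0, 14, 94017) (.node .leaf (32024, 0, 15, 244902) .leaf)) (32026, 0, 16, 191619) (.node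 (.node .leaf (32028, 0, 17, 159151) .leaf) (32030, 0, 16, 99805) (.node .leaf (32032, 0, 18, 259026) .leaf)))) (32034, 0, 14, 7072) (.node (.node (.node (.node .leaf (32036, 0, 17, 54205) .leaf) (32038, 0, 16, 156861) (.node .leaf (32040, 0, 7, 203086) .leaf)) (32042, 0, 16, 61756) (.node (.node .leaf (32044, 0, 17, 194085) .leaf) (32046, 0, 12, 239104) (.node .leaf (32048, 0, 14, 99620) .leaf))) (32050, 0, 15, 159062) (.node (.node (.node .leaf (32052, 0, 13, 175080) .leaf) (32054, 0, 16, 4683) (.node .leaf (32056, 0, 16, 46931) .leaf)) (32058, 0, 17, 124790) (.node (.node .leaf (32060, 0, 15, 200869) .leaf) (32062, 0, 17, 122453) (.node .leaf (32065, 0, 15, 27531) .leaf))))))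

/-- part of the orbit tree -/
def itp0_490 : Tree := (.node (.node (.node (.node (.node (.node .leaf (32069, 0, 8, 21160) .leaf) (32071, 0, 18, 71699) (.node .leaf (32073, 0, 15, 26080) .leaf)) (32075, 0, 15, 232850) (.node (.node .leaf (32077, 0, 14, 137981) .leaf) (32079, 0, 17, 127631) (.node .leaf (32081, 0, 13, 136158) .leaf))) (32083, 0, 17, 70136) (.node (.node (.node .leaf (32085, 0, 15, 142077) .leaf) (32087, 0, 18, 224997) (.node .leaf (32089, 0, 13, 13894) .leaf)) (32091, 0, 14, 129892) (.node (.node .leaf (32093, 0, 11, 3941) .leaf) (32095, 0, 16, 230521) (.node .leaf (32097, 0, 15, 127606) .leaf)))) (32099, 0, 17, 137732) (.node (.node (.node (.node .leaf (32101, 0, 19, 219485) .leaf) (32103, 0, 16, 25881) (.node .leaf (32105, 0, 15, 71914) .leaf)) (32107, 0, 15, 5571) (.node (.node .leaf (32109, 0, 12, 97477) .leaf) (32111, 0, 13, 11488) (.node .leaf (32113, 0, 11, 71723) .leaf))) (32115, 0, 17, 18446) (.node (.node (.node .leaf (32117, 0, 16, 73992) .leaf) (32119, 0, 13, 136175)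 (.node .leaf (32121, 0, 18, 224796) .leaf)) (32123, 0, 16, 159126) (.node (.node .leaf (32125, 0, 15, 197776) .leaf) (32127, 0, 15, 152757) (.node .leaf (32129, 0, 18, 223135) .leaf))))) (32131, 0, 19, 36845) (.node (.node (.node (.node (.node .leaf (32133, 0, 12, 71810) .leaf) (32135, 0, 17, 192752) (.node .leaf (32137, 0, 16, 232707) .leaf)) (32139, 0, 15, 189370) (.node (.node .leaf (32141, 0, 16, 127518) .leaf) (32143, 0, 15, 137836) (.node .leaf (32145, 0, 16, 257618) .leaf))) (32147, 0, 18, 194843) (.node (.node (.node .leaf (32149, 0, 13, 251761) .leaf) (32151, 0, 18, 165716) (.node .leaf (32153, 0, 17, 117706) .leaf)) (32155, 0, 17, 136071) (.node (.node .leaf (32157, 0, 11, 230632) .leaf) (32159, 0, 17, 41676) (.node .leaf (32161, 0, 14, 137877) .leaf)))) (32163, 0, 16, 127719) (.node (.node (.node (.node .leaf (32165, 0, 14, 173265) .leaf) (32167, 0, 18, 232954) (.node .leaf (32169, 0, 14, 192521) .leaf)) (32171, 0, 16, 71803) (.node (.node .leaf (32173, 0, 18, 33097) .leaf) (32175,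 0, 17, 119148) (.node .leaf (32177, 0, 17, 27747) .leaf))) (32179, 0, 16, 112002) (.node (.node (.node .leaf (32181, 0, 16, 136062) .leaf) (32183, 0, 17, 129804) (.node .leaf (32185, 0, 17, 180287) .leaf)) (32187, 0, 15, 233498) (.node (.node .leaf (32189, 0, 14, 194844) .leaf) (32191, 0, 15, 239929) (.node .leaf (32192, 0, 16, 91707) .leaf))))))

/-- part of the orbit tree -/
def itp0_491 : Tree := (.node itp0_487 (31810, 0, 17, 162236) itp0_488)

/-- part of the orbit tree -/
def itp0_492 : Tree := (.node itp0_489 (32067, 0, 16, 80814) itp0_490)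

/-- part of the orbit tree -/
def itp0_493 : Tree := (.node (.node (.node (.node (.node (.node .leaf (32196, 0, 16, 140740) .leaf) (32198, 0, 12, 61780) (.node .leaf (32200, 0, 16, 14719) .leaf)) (32202, 0, 19, 92506) (.node (.node .leaf (32204, 0, 15, 259002) .leaf) (32206, 0, 16, 86137) (.node .leaf (32208, 0, 17, 200909) .leaf))) (32210, 0, 16, 78999) (.node (.node (.node .leaf (32212, 0, 13, 94160) .leaf) (32214, 0, 17, 165794) (.node .leaf (32216, 0, 16, 147754) .leaf)) (32218, 0, 15, 4643) (.node (.node .leaf (32220, 0, 17, 99660) .leaf) (32222, 0, 16, 159038) (.node .leaf (32224, 0, 12, 6961) .leaf)))) (32226, 0, 18, 258883) (.node (.node (.node (.node .leaf (32228, 0, 14, 77361) .leaf) (32230, 0, 15, 32276) (.node .leaf (32232, 0, 12, 61869) .leaf)) (32234, 0, 15, 203231) (.node (.node .leaf (32236, 0, 17, 199593) .leaf) (32238, 0, 16, 154508) (.node .leaf (32240, 0, 15, 159175) .leaf))) (32242, 0, 16, 147298) (.node (.node (.node .leaf (32244, 0, 16, 218724) .leaf) (32246, 0, 18,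 260776) (.node .leaf (32248, 0, 17, 84703) .leaf)) (32250, 0, 17, 6906) (.node (.node .leaf (32252, 0, 14, 63558) .leaf) (32254, 0, 14, 9177) (.node .leaf (32256, 0, 16, 28527) .leaf))))) (32257, 0, 9, 36617) (.node (.node (.node (.node (.node .leaf (32258, 0, 18, 99429) .leaf) (32259, 0, 13, 122668) (.node .leaf (32260, 0, 15, 22092) .leaf)) (32261, 0, 15, 150052) (.node (.node .leaf (32262, 0, 15, 260984) .leaf) (32263, 0, 14, 124431) (.node .leaf (32264, 0, 14, 150263) .leaf))) (32265, 0, 16, 174737) (.node (.node (.node .leaf (32266, 0, 14, 203474) .leaf) (32267, 0, 7, 260788) (.node .leaf (32268, 0, 17, 63894) .leaf)) (32269, 0, 15, 168882) (.node (.node .leaf (32270, 0, 14, 201188) .leaf) (32271, 0, 15, 84170) (.node .leaf (32272, 0, 18, 137018) .leaf)))) (32273, 0, 13, 148431) (.node (.node (.node (.node .leaf (32274, 0, 15, 214815) .leaf) (32275, 0, 16, 109501) (.node .leaf (32276, 0, 14, 142873) .leaf)) (32277, 0, 16, 15570) (.node (.node .leaf (32278, 0, 16, 228924) .leaf) (32279,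 0, 17, 251040) (.node .leaf (32280, 0, 19, 12962) .leaf))) (32281, 0, 15, 53956) (.node (.node (.node .leaf (32282, 0, 16, 90759) .leaf) (32283, 0, 17, 99041) (.node .leaf (32284, 0, 16, 167776) .leaf)) (32285, 0, 15, 60391) (.node (.node .leaf (32286, 0, 18, 88996) .leaf) (32287, 0, 15, 212540) (.node .leaf (32288, 0, 16, 200989) .leaf))))))

/-- part of the orbit tree -/
def itp0_494 : Tree := (.node (.node (.node (.node (.node (.node .leaf (32290, 0, 18, 144575) .leaf) (32291, 0, 14, 185561) (.node .leaf (32292, 0, 17, 220601) .leaf)) (32293, 0, 18, 245215) (.node (.node .leaf (32294, 0, 15, 165490) .leaf) (32295, 0, 15, 191994) (.node .leaf (32296, 0, 17, 260993) .leaf))) (32297, 0, 16, 106852) (.node (.node (.node .leaf (32298, 0, 19, 5107) .leaf) (32299, 0, 15, 61761) (.node .leaf (32300, 0, 14, 99484) .leaf)) (32301, 0, 16, 104519) (.node (.node .leaf (32302, 0, 17, 158958) .leaf) (32303, 0, 15, 13760) (.node .leaf (32304, 0, 18, 72911) .leaf)))) (32305, 0, 15, 130217) (.node (.node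 (.node (.node .leaf (32306, 0, 13, 167833) .leaf) (32307, 0, 18, 44172) (.node .leaf (32308, 0, 17, 75244) .leaf)) (32309, 0, 15, 116106) (.node (.node .leaf (32310, 0, 13, 61572) .leaf) (32311, 0, 16, 174506) (.node .leaf (32312, 0, 8, 211287) .leaf))) (32313, 0, 16, 250969) (.node (.node (.node .leaf (32314, 0, 15, 156933) .leaf) (32315, 0, 17, 166164) (.node .leaf (32316, 0, 14, 258666) .leaf)) (32317, 0, 18, 109380) (.node (.node .leaf (32318, 0, 17, 6680) .leaf) (32319, 0, 17, 148278) (.node .leaf (32448, 0, 13, 103139) .leaf))))) (32449, 0, 13, 94853) (.node (.node (.node (.node (.node .leaf (32450, 0, 14, 158854) .leaf) (32451, 0, 17, 8864) (.node .leaf (32452, 0, 15, 109504) .leaf)) (32453, 0, 13, 84902) (.node (.node .leaf (32454, 0, 16, 5019) .leaf) (32455, 0, 17, 7043) (.node .leaf (32456, 0, 11, 243579) .leaf))) (32457, 0, 16, 218909) (.node (.node (.node .leaf (32458, 0, 15, 165402) .leaf) (32459, 0, 17, 57140) (.node .leaf (32460, 0, 16, 233048) .leaf)) (32461, 0, 17, 224830)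 (.node (.node .leaf (32462, 0, 15, 63751) .leaf) (32463, 0, 15, 146971) (.node .leaf (32464, 0, 13, 256694) .leaf)))) (32465, 0, 15, 199376) (.node (.node (.node (.node .leaf (32466, 0, 11, 178835) .leaf) (32467, 0, 12, 148318) (.node .leaf (32468, 0, 17, 250773) .leaf)) (32469, 0, 18, 209907) (.node (.node .leaf (32470, 0, 16, 157037) .leaf) (32471, 0, 13, 156630) (.node .leaf (32472, 0, 14, 118574) .leaf))) (32473, 0, 14, 82352) (.node (.node (.node .leaf (32474, 0, 18, 61676) .leaf) (32475, 0, 15, 32621) (.node .leaf (32476, 0, 16, 92035) .leaf)) (32477, 0, 17, 212653) (.node (.node .leaf (32478, 0, 16, 167921) .leaf) (32479, 0, 18, 55007) (.node .leaf (32480, 0, 16, 63998) .leaf))))))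

/-- part of the orbit tree -/
def itp0_495 : Tree := (.node (.node (.node (.node (.node (.node .leaf (32482, 0, 17, 248115) .leaf) (32483, 0, 14, 207189) (.node .leaf (32484, 0, 14, 172085) .leaf)) (32485, 0, 16, 57293) (.node (.node .leaf (32486, 0, 16, 258064) .leaf) (32487, 0, 11, 210879) (.node .leaf (32488, 0, 8, 48270) .leaf))) (32489, 0, 16, 150092) (.node (.node (.node .leaf (32490, 0, 15, 260880) .leaf) (32491, 0, 18, 107070) (.node .leaf (32492, 0, 14, 34221) .leaf)) (32493, 0, 16, 13649) (.node (.node .leaf (32494, 0, 15, 99341) .leaf) (32495, 0, 16, 79342) (.node .leaf (32496, 0, 13, 57667) .leaf)))) (32497, 0, 17, 293) (.node (.node (.node (.node .leaf (32498, 0, 14, 92026) .leaf) (32499, 0, 18, 86272) (.node .leaf (32500, 0, 15, 61461) .leaf)) (32501, 0, 16, 174395) (.node (.node .leaf (32502, 0, 17, 100421) .leaf) (32503, 0, 16, 92195) (.node .leaf (32504, 0, 16, 157076) .leaf))) (32505, 0, 15, 15546) (.node (.node (.node .leaf (32506, 0, 18, 234750) .leaf) (32507, 0, 17, 251080)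 (.node .leaf (32508, 0, 17, 196088) .leaf)) (32509, 0, 18, 148391) (.node (.node .leaf (32510, 0, 14, 241117) .leaf) (32511, 0, 16, 216507) (.node .leaf (32576, 0, 16, 185214) .leaf))))) (32577, 0, 15, 18427) (.node (.node (.node (.node (.node .leaf (32578, 0, 15, 128952) .leaf) (32579, 0, 16, 221730) (.node .leaf (32580, 0, 17, 44131) .leaf)) (32581, 0, 15, 32472) (.node (.node .leaf (32582, 0, 17, 118427) .leaf) (32583, 0, 10, 77565) (.node .leaf (32584, 0, 16, 164357) .leaf))) (32585, 0, 18, 24780) (.node (.node (.node .leaf (32586, 0, 16, 250400) .leaf) (32587, 0, 14, 209478) (.node .leaf (32588, 0, 10, 18175) .leaf)) (32589, 0, 14, 139217) (.node (.node .leaf (32590, 0, 18, 241293) .leaf) (32591, 0, 16, 128931) (.node .leaf (32592, 0, 18, 188360) .leaf)))) (32593, 0, 18, 195750) (.node (.node (.node (.node .leaf (32594, 0, 15, 233453) .leaf) (32595, 0, 15, 70868) (.node .leaf (32596, 0, 16, 190187) .leaf)) (32597, 0, 14, 132749) (.node (.node .leaf (32598, 0, 16, 78567) .leaf) (32599,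 0, 18, 218792) (.node .leaf (32600, 0, 16, 20244) .leaf))) (32601, 0, 14, 136762) (.node (.node (.node .leaf (32602, 0, 16, 239462) .leaf) (32603, 0, 16, 84499) (.node .leaf (32604, 0, 16, 50035) .leaf)) (32605, 0, 16, 8981) (.node (.node .leaf (32606, 0, 16, 120955) .leaf) (32607, 0, 12, 229717) (.node .leaf (32608, 0, 16, 241268) .leaf))))))

/-- part of the orbit tree -/
def itp0_496 : Tree := (.node (.node (.node (.node (.node (.node .leaf (32610, 0, 14, 195661) .leaf) (32611, 0, 18, 139048) (.node .leaf (32612, 0, 13, 234827) .leaf)) (32613, 0, 17, 231495) (.node (.node .leaf (32614, 0, 17, 145691) .leaf) (32615, 0, 17, 140552) (.node .leaf (32616, 0, 15, 100848) .leaf))) (32617, 0, 17, 73158) (.node (.node (.node .leaf (32618, 0, 15, 55765) .leaf) (32619, 0, 14, 14771) (.node .leaf (32620, 0, 17, 110803) .leaf)) (32621, 0, 14, 221915) (.node (.node .leaf (32622, 0, 17, 57590) .leaf) (32623, 0, 12, 35497) (.node .leaf (32624, 0, 16, 119869) .leaf)))) (32625, 0, 18, 78939) (.node (.node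 (.node (.node .leaf (32626, 0, 12, 143600) .leaf) (32627, 0, 14, 25726) (.node .leaf (32628, 0, 13, 126238) .leaf)) (32629, 0, 17, 68984) (.node (.node .leaf (32630, 0, 16, 20461) .leaf) (32631, 0, 15, 136899) (.node .leaf (32632, 0, 16, 78366) .leaf))) (32633, 0, 15, 201155) (.node (.node (.node .leaf (32634, 0, 17, 186988) .leaf) (32635, 0, 17, 147942) (.node .leaf (32636, 0, 18, 247942) .leaf)) (32637, 0, 17, 70701) (.node (.node .leaf (32638, 0, 17, 42353) .leaf) (32639, 0, 17, 161989) (.node .leaf (32640, 0, 17, 88593) .leaf))))) (32641, 0, 16, 113271) (.node (.node (.node (.node (.node .leaf (32642, 0, 18, 2612) .leaf) (32643, 0, 16, 59986) (.node .leaf (32644, 0, 13, 90930) .leaf)) (32645, 0, 18, 99156) (.node (.node .leaf (32646, 0, 12, 44274) .leaf) (32647, 0, 17, 194012) (.node .leaf (32648, 0, 14, 119041) .leaf))) (32649, 0, 16, 231471) (.node (.node (.node .leaf (32650, 0, 17, 143276) .leaf) (32651, 0, 15, 24669) (.node .leaf (32652, 0, 15, 214698) .leaf)) (32653, 0, 16, 128818)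 (.node (.node .leaf (32654, 0, 12, 18030) .leaf) (32655, 0, 15, 194281) (.node .leaf (32656, 0, 16, 216427) .leaf)))) (32657, 0, 16, 246306) (.node (.node (.node (.node .leaf (32658, 0, 16, 160353) .leaf) (32659, 0, 10, 195639) (.node .leaf (32660, 0, 15, 78454) .leaf)) (32661, 0, 17, 224088) (.node (.node .leaf (32662, 0, 10, 186884) .leaf) (32663, 0, 18, 174884) (.node .leaf (32664, 0, 15, 67548) .leaf))) (32665, 0, 15, 124858) (.node (.node (.node .leaf (32666, 0, 17, 22521) .leaf) (32667, 0, 15, 47007) (.node .leaf (32668, 0, 13, 81663) .leaf)) (32669, 0, 17, 122521) (.node (.node .leaf (32670, 0, 15, 28378) .leaf) (32671, 0, 16, 27062) .leaf)))))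

/-- part of the orbit tree -/
def itp0_497 : Tree := (.node itp0_493 (32289, 0, 16, 230652) itp0_494)

/-- part of the orbit tree -/
def itp0_498 : Tree := (.node itp0_495 (32609, 0, 16, 128858) itp0_496)

/-- part of the orbit tree -/
def itp0_499 : Tree := (.node itp0_491 (31939, 0, 16, 3792) itp0_492)

/-- part of the orbit tree -/
def itp0_500 : Tree := (.node itp0_497 (32481, 0, 16, 162160) itp0_498)

/-- part of the orbit tree -/
def itp0_501 : Tree := (.node itp0_485 (31173, 0, 14, 151036) itp0_486)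

/-- part of the orbit tree -/
def itp0_502 : Tree := (.node itp0_499 (32194, 0, 14, 167497) itp0_500)

/-- part of the orbit tree -/
def itp0_503 : Tree := (.node itp0_471 (29637, 0, 15, 101734) itp0_472)

/-- part of the orbit tree -/
def itp0_504 : Tree := (.node itp0_501 (31681, 0, 17, 248409) itp0_502)

/-- part of the orbit tree -/
def itp0_505 : Tree := (.node itp0_441 (26570, 0, 19, 259763) itp0_442)

/-- part of the orbit tree -/
def itp0_506 : Tree := (.node itp0_503 (30658, 0, 17, 73390) itp0_504)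

/-- part of the orbit tree -/
def itp0_507 : Tree := (.node itp0_379 (20436, 0, 16, 243663) itp0_380)

/-- part of the orbit tree -/
def itp0_508 : Tree := (.node itp0_505 (28612, 0, 18, 203942) itp0_506)

/-- part of the orbit tree -/
def itp0_509 : Tree := (.node itp0_253 (8168, 0, 18, 76867) itp0_254)

/-- part of the orbit tree -/
def itp0_510 : Tree := (.node itp0_507 (24520, 0, 17, 135856) itp0_508)

/-- part of the orbit tree -/
def itr_0 : Tree := (.node itp0_509 (16336, 0, 17, 32095) itp0_510)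

end Cfsg.Agent.Lib.Helper28.J3IsoData
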