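import Cfsg.Agent.Lib.Helper28.J3b
import Cfsg.Agent.Lib.Helper28.J3IsoCertAll

/-!
# Orbits of the triple cover of `J₃` on the lines of its 9-space

The line through the first basis vector has 23256 images (the orbit of the vector has 69768 elements
and is closed under scalars), and the nonzero isotropic vectors form a single orbit.
-/

set_option autoImplicit false

namespace Cfsg.Agent.Lib.Helper28.J3

open Cfsg.Spor Cfsg.Agent.Lib.Helper28.F4 Cfsg.Agent.Lib.Helper28.J3Data
open Cfsg.Agent.Lib.Helper28.J3Cert Cfsg.Agent.Lib.Helper28.J3IsoData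
open Cfsg.Agent.Lib.Helper28.J3IsoCert Cfsg.Agent.Lib.Helper28.J3Iso
open Cfsg.Agent.Lib.Helper28.BSGS
open Cfsg.Agent.Lib.Helper28.BSGSMat (Tree Entry sortedB sortedB_nodup)
open scoped MatrixGroups
open Matrix

section
variable {F : Type} [Field F] [Fintype F] {ω : F} [hd : Data F ω]

/-- every nonzero isotropic vector is an image of `e₀ + e₁` -/
theorem iso_reach (hF : Fintype.card F = 4) (v : F9 → F) (hv : v ≠ 0)
    (hs : ∑ z, (v z) ^ 3 = 0) : ∃ g ∈ threeJ3 F ω, g • ofV ω ib = v := by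
  obtain ⟨k, hk, rfl⟩ := ofV_surj (ω := ω) hF v
  have hiso := isoB_of_sum hv hs
  have hc := cov_all k hk
  unfold covB at hc
  rw [hiso] at hc
  have hsome : (IT.lookup k).isSome = true := by simpa using hc
  obtain ⟨e, he⟩ := Option.isSome_iff_exists.mp hsome
  obtain ⟨hmem, hkey⟩ := Tree.lookup_some _ he
  obtain ⟨g, hg, hgv⟩ := reach_sound (ω := ω) gens gens_valid ib IT reach_all e.2.2.1 e hmem rfl
  refine ⟨g, ?_, ?_⟩
  · rw [three_eq]; exact hg
  · rw [hgv, hkey]

/-- transitivity on the nonzero isotropic vectors -/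
theorem iso_trans (hF : Fintype.card F = 4) (v w : F9 → F) (hv : v ≠ 0) (hw : w ≠ 0)
    (hsv : ∑ z, (v z) ^ 3 = 0) (hsw : ∑ z, (w z) ^ 3 = 0) :
    ∃ g ∈ threeJ3 F ω, ∃ c : F, c ≠ 0 ∧ (g : Matrix F9 F9 F) *ᵥ v = c • w := by
  obtain ⟨g1, hg1, h1⟩ := iso_reach (ω := ω) hF v hv hsv
  obtain ⟨g2, hg2, h2⟩ := iso_reach (ω := ω) hF w hw hsw
  refine ⟨g2 * g1⁻¹, Subgroup.mul_mem _ hg2 (Subgroup.inv_mem _ hg1), 1, one_ne_zero, ?_⟩
  rw [one_smul, ← gl_smul, mul_smul]
  have h3 : g1⁻¹ • v = ofV ω ib := by rw [← h1, inv_smul_smul]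
  rw [h3, h2]

/-- the orbit of the first basis vector, as a list -/
noncomputable def orb0 (ω : F) [Data F ω] : List (F9 → F) := T0.toList.map fun e => ofV ω e.1

theorem good0 : GoodChainW (semGens ω gens) (semLevel ω lv0 :: semLevels ω [lv1]) :=
  chainOK_sound (ω := ω) levels gens gens_valid chain_ok

theorem orb0_nodup : (orb0 ω).Nodup := by
  obtain ⟨_, hnd, _, _, _, _, _, _⟩ := good0 (F := F) (ω := ω)
  exact hnd

theorem orb0_length : (orb0 ω).length = 69768 := by
  unfold orb0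
  rw [List.length_map, len_T0]

theorem orb0_mem (g : GL F9 F) (hg : g ∈ threeJ3 F ω) : g • ofV ω b0 ∈ orb0 ω := by
  rw [three_eq] at hg
  have h : Sifts (semLevel ω lv0 :: semLevels ω [lv1]) g :=
    (mat_main (ω := ω) gens levels gens_valid chain_ok).2.2 g hg
  exact h.1

theorem orb0_reach : ∀ x ∈ orb0 ω, ∃ g ∈ threeJ3 F ω, g • ofV ω b0 = x := by
  obtain ⟨_, _, _, _, _, hO, _, _⟩ := good0 (F := F) (ω := ω)
  intro x hx
  obtain ⟨g, hg, hgx⟩ := hO x hx
  refine ⟨g, ?_, hgx⟩
  rw [three_eq]; exact hg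

omit [Fintype F] in
theorem e0_eq : ofV ω b0 = (Pi.single (0 : F9) (1 : F) : F9 → F) := ofV_bas (ω := ω) (0 : F9)

omit [Fintype F] in
theorem e0_ne : ofV ω b0 ≠ 0 := by
  rw [e0_eq]
  intro h
  have := congrFun h (0 : F9)
  rw [Pi.single_eq_same] at this
  exact one_ne_zero this

theorem orb0_ne : ∀ x ∈ orb0 ω, x ≠ 0 := by
  intro x hx
  obtain ⟨g, _, rfl⟩ := orb0_reach x hx
  intro h
  exact e0_ne (ω := ω) ((smul_eq_zero_iff_eq g).mp h)

/-- the orbit is closed under multiplication by `ω` -/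
theorem orb0_smul : ∀ x ∈ orb0 ω, ω • x ∈ orb0 ω := by
  intro x hx
  obtain ⟨g, hg, rfl⟩ := orb0_reach x hx
  have h := orb0_mem (ω := ω) (glOf ω sc * g) (Subgroup.mul_mem _ sc_mem hg)
  rw [mul_smul] at h
  have h2 : glOf ω sc • (g • ofV ω b0) = ω • (g • ofV ω b0) := by
    rw [gl_smul (glOf ω sc), valS, Matrix.smul_mulVec, Matrix.one_mulVec]
  rwa [h2] at h

/-- a list of nonzero vectors closed under multiplication by `ω` is a union of triples spanning the
same line -/
theorem lines_count (hF : Fintype.card F = 4) (O : List (F9 → F)) (hnd : O.Nodup)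
    (hne : ∀ x ∈ O, x ≠ 0) (hsm : ∀ x ∈ O, ω • x ∈ O) :
    ∀ [DecidableEq (F9 → F)] [DecidableEq (Submodule F (F9 → F))],
      O.length = (O.toFinset.image fun v : F9 → F => F ∙ v).card * 3 := by
  intro _ _
  have hV : (O.toFinset).card = O.length := List.toFinset_card_of_nodup hnd
  have hom2 : ω ^ 2 ≠ 0 := pow_ne_zero 2 om_ne_zero
  have hfib : ∀ L ∈ O.toFinset.image (fun v : F9 → F => F ∙ v),
      (O.toFinset.filter fun v : F9 → F => F ∙ v = L).card = 3 := by
    intro L hL
    rw [Finset.mem_image] at hL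
    obtain ⟨x, hx, rfl⟩ := hL
    rw [List.mem_toFinset] at hx
    have hx0 := hne x hx
    rw [Finset.card_eq_three]
    refine ⟨x, ω • x, ω ^ 2 • x, ?_, ?_, ?_, ?_⟩
    · intro h
      have h1 : (ω - 1) • x = 0 := by rw [sub_smul, one_smul, ← h, sub_self]
      rcases smul_eq_zero.mp h1 with h2 | h2
      · exact om_ne_one (sub_eq_zero.mp h2)
      · exact hx0 h2
    · intro h
      have h1 : (ω ^ 2 - 1) • x = 0 := by rw [sub_smul, one_smul, ← h, sub_self]
      rcases smul_eq_zero.mp h1 with h2 | h2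
      · have h3 : ω ^ 2 = 1 := sub_eq_zero.mp h2
        rw [om_sq] at h3
        have h4 : ω = 0 := by linear_combination h3
        exact om_ne_zero h4
      · exact hx0 h2
    · intro h
      have h1 : (ω ^ 2 - ω) • x = 0 := by rw [sub_smul, ← h, sub_self]
      rcases smul_eq_zero.mp h1 with h2 | h2
      · have h3 : ω ^ 2 = ω := sub_eq_zero.mp h2
        rw [om_sq] at h3
        have h4 : (1 : F) = 0 := by linear_combination h3
        exact one_ne_zero h4
      · exact hx0 h2
    · ext y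
      simp only [Finset.mem_filter, List.mem_toFinset, Finset.mem_insert, Finset.mem_singleton]
      constructor
      · rintro ⟨hy, hspan⟩
        have hy0 := hne y hy
        have hmem : y ∈ F ∙ x := by
          rw [← hspan]; exact Submodule.mem_span_singleton_self y
        obtain ⟨a, ha⟩ := Submodule.mem_span_singleton.mp hmem
        rcases elts_four (ω := ω) hF a with h | h | h | h
        · rw [h, zero_smul] at ha
          exact absurd ha.symm hy0
        · left; rw [← ha, h, one_smul]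
        · right; left; rw [← ha, h]
        · right; right; rw [← ha, h]
      · rintro (h | h | h)
        · rw [h]; exact ⟨hx, rfl⟩
        · rw [h]
          exact ⟨hsm x hx, Submodule.span_singleton_smul_eq (IsUnit.mk0 _ om_ne_zero) x⟩
        · rw [h]
          refine ⟨?_, Submodule.span_singleton_smul_eq (IsUnit.mk0 _ hom2) x⟩
          rw [pow_two, mul_smul]
          exact hsm _ (hsm x hx)
  have hsum := Finset.card_eq_sum_card_image (fun v : F9 → F => F ∙ v) O.toFinset
  rw [Finset.sum_const_nat hfib, hV] at hsum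
  exact hsum

/-- the number of lines in the orbit of the line through the first basis vector -/
theorem lines_card (hF : Fintype.card F = 4) :
    {L : Submodule F (F9 → F) | ∃ g ∈ threeJ3 F ω,
      L = F ∙ ((g : Matrix F9 F9 F) *ᵥ (Pi.single (0 : F9) (1 : F) : F9 → F))}.ncard = 23256 := by
  classical
  have hset : {L : Submodule F (F9 → F) | ∃ g ∈ threeJ3 F ω,
      L = F ∙ ((g : Matrix F9 F9 F) *ᵥ (Pi.single (0 : F9) (1 : F) : F9 → F))} =
      ↑((orb0 ω).toFinset.image fun v : F9 → F => F ∙ v) := by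
    ext L
    simp only [Set.mem_setOf_eq, Finset.coe_image, Set.mem_image, Finset.mem_coe, List.mem_toFinset]
    constructor
    · rintro ⟨g, hg, rfl⟩
      refine ⟨g • ofV ω b0, orb0_mem g hg, ?_⟩
      rw [e0_eq, gl_smul]
    · rintro ⟨x, hx, rfl⟩
      obtain ⟨g, hg, rfl⟩ := orb0_reach x hx
      refine ⟨g, hg, ?_⟩
      rw [e0_eq, gl_smul]
  rw [hset, Set.ncard_coe_finset]
  have hcount := lines_count (ω := ω) hF (orb0 ω) orb0_nodup orb0_ne orb0_smul
  rw [orb0_length] at hcount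
  omega

end

/-- the orbits of the triple cover of `J₃` on lines -/
theorem main_orbits (F : Type) [Field F] [Fintype F] (hF : Fintype.card F = 4) (ω : F)
    (hω : ω ^ 2 + ω + 1 = 0) :
    {L : Submodule F (F9 → F) | ∃ g ∈ threeJ3 F ω,
      L = F ∙ ((g : Matrix F9 F9 F) *ᵥ (Pi.single (0 : F9) (1 : F) : F9 → F))}.ncard = 23256 ∧
    ∀ v w : F9 → F, v ≠ 0 → w ≠ 0 → ∑ z, (v z) ^ 3 = 0 → ∑ z, (w z) ^ 3 = 0 →
      ∃ g ∈ threeJ3 F ω, ∃ c : F, c ≠ 0 ∧ (g : Matrix F9 F9 F) *ᵥ v = c • w := by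
  haveI := data_of_card F hF ω hω
  exact ⟨lines_card hF, fun v w hv hw hsv hsw => iso_trans hF v w hv hw hsv hsw⟩

end Cfsg.Agent.Lib.Helper28.J3
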