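import Cfsg.Agent.Lib.Helper28.J3KData
import Cfsg.Agent.Lib.Helper28.J3Data

/-!
# Certificates for a subgroup of index 6156 of the triple cover of `J₃`

Generated by a script.
-/

set_option autoImplicit false

namespace Cfsg.Agent.Lib.Helper28.J3KCert

open Cfsg.Agent.Lib.Helper28.F4 Cfsg.Agent.Lib.Helper28.J3KData Cfsg.Agent.Lib.Helper28.J3Data
open Cfsg.Agent.Lib.Helper28.BSGSMat (Tree Entry sortedB)

theorem kgens_ok : kgens.all invOK = true := by decide +kernel

theorem klen0 : KT0.toList.length = 255 := by decide +kernel

theorem klen1 : KT1.toList.length = 96 := by decide +kernel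

theorem khead0 : headOK kb0 KT0 = true := by decide +kernel

theorem khead1 : headOK kb1 KT1 = true := by decide +kernel

theorem ksorted0 : sortedB (KT0.toList.map fun e => e.1) = true := by decide +kernel

theorem ksorted1 : sortedB (KT1.toList.map fun e => e.1) = true := by decide +kernel

theorem knext_ok : knext.all (nextOK kgens kb0) = true := by decide +kernel

theorem kt0_ok : (KT0.toList.all fun e => entryAll kgens klv0 [klv1] e) = true := by decide +kernel

theorem kt1_ok : (KT1.toList.all fun e => entryAll [h0c, h1c, h2c, h3c] klv1 [] e) = true := by
  decide +kernel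

/-- the generators lie in the big group -/
theorem ksift_ok : (kgens.all fun c => siftP levels [c] [] []) = true := by decide +kernel

theorem kgens_valid : ∀ g ∈ kgens, invOK g = true := by
  have := kgens_ok
  rw [List.all_eq_true] at this
  exact this

theorem kchain_ok : ChainOK kgens klevels := by
  refine ⟨⟨by decide, khead0, ksorted0, ?_, ?_⟩, ⟨by decide, khead1, ksorted1, ?_, ?_⟩, rfl⟩
  · have := kt0_ok
    rw [List.all_eq_true] at this
    exact this
  · have := knext_ok
    rw [List.all_eq_true] at this
    exact this
  · have := kt1_ok
    rw [List.all_eq_true] at this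
    exact this
  · intro ng hng
    exact absurd hng List.not_mem_nil

theorem ksize_ok : codeSize klevels = 24480 := by decide +kernel

end Cfsg.Agent.Lib.Helper28.J3KCert
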