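import Mathlib

/-!
# The permutation representation of a simple group on the cosets of a subgroup

A finite simple group `G` with a proper subgroup of index `n` is isomorphic to a transitive
subgroup of `Equiv.Perm (Fin n)` whose point stabilizers have order `|G| / n`.
-/

set_option autoImplicit false

namespace Cfsg.Agent.Lib.Helper28.PermRep

theorem exists_perm_rep {G : Type*} [Group G] [Finite G] [IsSimpleGroup G] (K : Subgroup G)
    (n : ℕ) [NeZero n] (hn : K.index = n) (hK : K ≠ ⊤) :
    ∃ H : Subgroup (Equiv.Perm (Fin n)), Nonempty (G ≃* H) ∧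
      MulAction.IsPretransitive H (Fin n) ∧
      Nat.card (MulAction.stabilizer H (0 : Fin n)) * n = Nat.card G := by
  classical
  haveI : Fintype (G ⧸ K) := Fintype.ofFinite _
  have hcard : Fintype.card (G ⧸ K) = n := by
    rw [← Nat.card_eq_fintype_card, ← Subgroup.index_eq_card, hn]
  let e : (G ⧸ K) ≃ Fin n := Fintype.equivFinOfCardEq hcard
  let ρ : G →* Equiv.Perm (Fin n) :=
    (e.permCongrHom.toMonoidHom).comp (MulAction.toPermHom G (G ⧸ K))
  have hρ : ∀ (g : G) (i : Fin n), ρ g i = e (g • e.symm i) := fun g i => rfl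
  have hinj : Function.Injective ρ := by
    rw [← MonoidHom.ker_eq_bot_iff]
    rcases (ρ.normal_ker).eq_bot_or_eq_top with h | h
    · exact h
    · exfalso
      apply hK
      rw [eq_top_iff]
      intro g _
      have hg : g ∈ ρ.ker := by rw [h]; exact Subgroup.mem_top g
      rw [MonoidHom.mem_ker] at hg
      have h1 : ρ g (e ((1 : G) : G ⧸ K)) = e ((1 : G) : G ⧸ K) := by rw [hg]; rfl
      rw [hρ, Equiv.symm_apply_apply] at h1
      have h2 : g • (((1 : G) : G ⧸ K)) = ((1 : G) : G ⧸ K) := e.injective h1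
      have h3 : ((g * 1 : G) : G ⧸ K) = ((1 : G) : G ⧸ K) := h2
      rw [mul_one] at h3
      have h4 := QuotientGroup.eq.mp h3
      have h5 : g⁻¹ ∈ K := by simpa using h4
      exact (Subgroup.inv_mem_iff K).mp h5
  refine ⟨ρ.range, ⟨MonoidHom.ofInjective hinj⟩, ?_, ?_⟩
  · constructor
    intro i j
    obtain ⟨g, hg⟩ := MulAction.exists_smul_eq G (e.symm i) (e.symm j)
    refine ⟨⟨ρ g, ⟨g, rfl⟩⟩, ?_⟩
    show ρ g i = j
    rw [hρ, hg, Equiv.apply_symm_apply]
  · haveI : MulAction.IsPretransitive ρ.range (Fin n) := by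
      constructor
      intro i j
      obtain ⟨g, hg⟩ := MulAction.exists_smul_eq G (e.symm i) (e.symm j)
      refine ⟨⟨ρ g, ⟨g, rfl⟩⟩, ?_⟩
      show ρ g i = j
      rw [hρ, hg, Equiv.apply_symm_apply]
    have h1 := Subgroup.card_mul_index (MulAction.stabilizer ρ.range (0 : Fin n))
    rw [MulAction.index_stabilizer_of_transitive, Nat.card_eq_fintype_card (α := Fin n),
      Fintype.card_fin] at h1
    rw [h1]
    exact (Nat.card_congr (MonoidHom.ofInjective hinj).toEquiv).symm

end Cfsg.Agent.Lib.Helper28.PermRep
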