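import Cfsg.Agent.Lib.Helper28.J3b
import Cfsg.Agent.Lib.Helper28.J3KCert
import Cfsg.Agent.Lib.Helper28.PermRep
import Cfsg.Prelude.Def_Sporadic

/-!
# The Janko group `J₃` as a permutation group of degree 6156

A subgroup `3 × L₂(16):2` of order 24480 of the triple cover gives a subgroup of index 6156 of
`J₃`, and the action on its cosets is a transitive permutation representation with point
stabilizers of order 8160.
-/

set_option autoImplicit false

namespace Cfsg.Agent.Lib.Helper28.J3

open Cfsg.Spor Cfsg.Agent.Lib.Helper28.F4 Cfsg.Agent.Lib.Helper28.J3Data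
open Cfsg.Agent.Lib.Helper28.J3Cert Cfsg.Agent.Lib.Helper28.J3KData
open Cfsg.Agent.Lib.Helper28.J3KCert
open scoped MatrixGroups

section
variable {F : Type} [Field F] [Fintype F] {ω : F} [hd : Data F ω]

theorem card_K : Nat.card (genGroup ω kgens) = 24480 := by
  rw [(mat_main (ω := ω) kgens klevels kgens_valid kchain_ok).1, ksize_ok]

theorem K_le : genGroup ω kgens ≤ threeJ3 F ω := by
  rw [three_eq]
  show Subgroup.closure {s | s ∈ semGens ω kgens} ≤ genGroup ω gens
  rw [Subgroup.closure_le]
  intro s hs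
  have hs' : s ∈ semGens ω kgens := hs
  unfold semGens at hs'
  rw [List.mem_map] at hs'
  obtain ⟨g, hg, rfl⟩ := hs'
  have h1 := ksift_ok
  rw [List.all_eq_true] at h1
  exact sift_mem (kgens_valid g hg) (h1 g hg)

theorem sc_mem_K : glOf ω sc ∈ genGroup ω kgens := by
  have h : k3c = sc := rfl
  rw [← h]
  exact glOf_mem_genGroup (by simp [kgens])

/-- the subgroup of order 24480 inside the triple cover -/
noncomputable def K' (F : Type) [Field F] [Fintype F] (ω : F) [Data F ω] :
    Subgroup (threeJ3 F ω) :=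
  (genGroup ω kgens).subgroupOf (threeJ3 F ω)

theorem card_K' : Nat.card (K' F ω) = 24480 := by
  rw [← card_K (F := F) (ω := ω)]
  exact Nat.card_congr (Subgroup.subgroupOfEquivOfLe K_le).toEquiv

theorem center_le_K' (hF : Fintype.card F = 4) : Subgroup.center (threeJ3 F ω) ≤ K' F ω := by
  intro z hz
  obtain ⟨k, rfl⟩ := central_zpow hF z hz
  apply Subgroup.zpow_mem
  show (sThree F ω : GL F9 F) ∈ genGroup ω kgens
  exact sc_mem_K

theorem index_K' : (K' F ω).index = 6156 := by
  have h := Subgroup.card_mul_index (K' F ω)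
  rw [card_K', card_three] at h
  omega

include hd in
theorem perm_real (hF : Fintype.card F = 4) :
    ∃ H : Subgroup (Equiv.Perm (Fin 6156)), Cfsg.IsJ3 H ∧
      MulAction.IsPretransitive H (Fin 6156) ∧
      Nat.card (MulAction.stabilizer H (0 : Fin 6156)) = 8160 := by
  haveI : IsSimpleGroup (J3 F ω) := simple_J3 hF
  let Kbar : Subgroup (J3 F ω) :=
    (K' F ω).map (QuotientGroup.mk' (Subgroup.center (threeJ3 F ω)))
  have hidx : Kbar.index = 6156 := by
    rw [← index_K' (F := F) (ω := ω)]
    apply Subgroup.index_map_eq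
    · exact QuotientGroup.mk'_surjective _
    · rw [QuotientGroup.ker_mk']
      exact center_le_K' hF
  have hne : Kbar ≠ ⊤ := by
    intro h
    rw [h, Subgroup.index_top] at hidx
    norm_num at hidx
  obtain ⟨H, ⟨e⟩, htr, hst⟩ :=
    Cfsg.Agent.Lib.Helper28.PermRep.exists_perm_rep (G := J3 F ω) Kbar 6156 hidx hne
  refine ⟨H, ⟨e.symm.isSimpleGroup, ?_⟩, htr, ?_⟩
  · rw [← Nat.card_congr e.toEquiv]
    exact card_J3 hF
  · rw [card_J3 hF] at hst
    omega

end

theorem main_perm : ∃ H : Subgroup (Equiv.Perm (Fin 6156)), Cfsg.IsJ3 H ∧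
    MulAction.IsPretransitive H (Fin 6156) ∧
    Nat.card (MulAction.stabilizer H (0 : Fin 6156)) = 8160 := by
  obtain ⟨F, hfield, hfin, ω, hF, hω⟩ := exists_field4
  haveI := data_of_card F hF ω hω
  exact perm_real (ω := ω) hF

end Cfsg.Agent.Lib.Helper28.J3
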