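import Mathlib

/-!
# Tools: unitary matrices in characteristic two and transport of the centre along an isomorphism

`herm_of_unitary`: a matrix `M` with `Mᵀ * M^(2) = 1` (entrywise squares) preserves the form
`Σ uᵢ vᵢ²` in characteristic two.  `center_transfer`: an isomorphism of groups maps the centre onto
the centre and induces an isomorphism of the central quotients.
-/

set_option autoImplicit false

namespace Cfsg.Agent.Lib.Helper28.UnitaryTools

open Matrix

theorem herm_of_unitary {n : Type*} [Fintype n] [DecidableEq n] {F : Type*} [CommRing F]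
    [CharP F 2] (M : Matrix n n F) (hU : Mᵀ * M.map (frobenius F 2) = 1) (u v : n → F) :
    ∑ i, (M *ᵥ u) i * (M *ᵥ v) i ^ 2 = ∑ i, u i * v i ^ 2 := by
  have h1 : (fun i => (M *ᵥ v) i ^ 2) = M.map (frobenius F 2) *ᵥ (fun i => v i ^ 2) := by
    funext i
    have := RingHom.map_mulVec (frobenius F 2) M v i
    rw [frobenius_def] at this
    rw [this]
    rfl
  show (M *ᵥ u) ⬝ᵥ (fun i => (M *ᵥ v) i ^ 2) = u ⬝ᵥ (fun i => v i ^ 2)
  rw [h1, dotProduct_comm, Matrix.dotProduct_mulVec, ← Matrix.mulVec_transpose,
    Matrix.mulVec_mulVec, hU, Matrix.one_mulVec, dotProduct_comm]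

theorem map_center {G H : Type*} [Group G] [Group H] (e : G ≃* H) :
    (Subgroup.center G).map (e : G →* H) = Subgroup.center H := by
  ext x
  constructor
  · rintro ⟨z, hz, rfl⟩
    rw [Subgroup.mem_center_iff]
    intro h
    have h1 := Subgroup.mem_center_iff.mp hz (e.symm h)
    have h2 := congrArg e h1
    rw [map_mul, map_mul, MulEquiv.apply_symm_apply] at h2
    exact h2
  · intro hx
    refine ⟨e.symm x, ?_, MulEquiv.apply_symm_apply e x⟩
    show e.symm x ∈ Subgroup.center G
    rw [Subgroup.mem_center_iff]
    intro g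
    have h1 := Subgroup.mem_center_iff.mp hx (e g)
    have h2 := congrArg e.symm h1
    rw [map_mul, map_mul, MulEquiv.symm_apply_apply] at h2
    exact h2

theorem center_transfer {G H : Type*} [Group G] [Group H] (e : G ≃* H) :
    Nat.card (Subgroup.center H) = Nat.card (Subgroup.center G) ∧
      Nonempty ((G ⧸ Subgroup.center G) ≃* (H ⧸ Subgroup.center H)) := by
  refine ⟨?_, ⟨QuotientGroup.congr (Subgroup.center G) (Subgroup.center H) e (map_center e)⟩⟩
  rw [← map_center e]
  exact Subgroup.card_map_of_injective e.injective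

end Cfsg.Agent.Lib.Helper28.UnitaryTools
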