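import Cfsg.Agent.Lib.Helper28.J3b
import Cfsg.Agent.Lib.Helper28.UnitaryTools
import Cfsg.Prelude.Def_Classical
import Cfsg.Prelude.Def_Sporadic

/-!
# The triple cover of `J₃` inside the special unitary group `SU₉(2)`

The two generators of orders 19 and 17 are unitary (their inverses are their conjugate transposes)
and of determinant one, so `Cfsg.Spor.threeJ3 F ω` embeds in `Cfsg.SU 9 F 2`.
-/

set_option autoImplicit false

namespace Cfsg.Agent.Lib.Helper28.J3

open Cfsg.Spor Cfsg.Agent.Lib.Helper28.F4 Cfsg.Agent.Lib.Helper28.J3Data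
open Cfsg.Agent.Lib.Helper28.J3Cert Cfsg.Agent.Lib.Helper28.UnitaryTools
open scoped MatrixGroups
open Matrix

/-- conjugate of a code -/
def conjC (n : ℕ) : ℕ := if n = 2 then 3 else if n = 3 then 2 else n

/-- the inverse is the conjugate transpose -/
def isConjT (c : ℕ) : Bool := decide (∀ i j : F9, entC (F4.inv c) i j = conjC (entC c j i))

theorem x19_ok : wordEqB (List.replicate 19 xc) [] = true := by decide +kernel

theorem y17_ok : wordEqB (List.replicate 17 yc) [] = true := by decide +kernel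

theorem xconj_ok : isConjT xc = true := by decide +kernel

theorem yconj_ok : isConjT yc = true := by decide +kernel

section
variable {F : Type*} [Field F] {ω : F} [hd : Data F ω]

theorem om_cube : ω ^ 3 = 1 := by
  have h2 := add_self' hd.two ω
  calc ω ^ 3 = ω * ω ^ 2 := by ring
    _ = ω * (ω + 1) := by rw [om_sq]
    _ = ω ^ 2 + ω := by ring
    _ = (ω + 1) + ω := by rw [om_sq]
    _ = 1 + (ω + ω) := by ring
    _ = 1 := by rw [h2, add_zero]

theorem ofC_conjC (a b : Bool) :
    ofC ω (conjC (a.toNat + 2 * b.toNat)) = (ofC ω (a.toNat + 2 * b.toNat)) ^ 2 := by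
  cases a <;> cases b
  · show ofC ω 0 = (ofC ω 0) ^ 2
    rw [ofC_zero]; ring
  · show ofC ω 3 = (ofC ω 2) ^ 2
    rw [ofC_three, ofC_two]
  · show ofC ω 1 = (ofC ω 1) ^ 2
    rw [ofC_one]; ring
  · show ofC ω 2 = (ofC ω 3) ^ 2
    rw [ofC_two, ofC_three]
    calc ω = ω ^ 3 * ω := by rw [om_cube, one_mul]
      _ = (ω ^ 2) ^ 2 := by ring

theorem matOf_inv_entry {c : ℕ} (h : isConjT c = true) (i j : F9) :
    matOf ω (F4.inv c) i j = (matOf ω c j i) ^ 2 := by
  unfold isConjT at h
  rw [matOf_entry, matOf_entry, of_decide_eq_true h i j]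
  exact ofC_conjC _ _

variable [CharP F 2]

theorem unitary_of_conj {c : ℕ} (hinv : invOK c = true) (h : isConjT c = true) :
    (matOf ω c)ᵀ * (matOf ω c).map (frobenius F 2) = 1 := by
  have hN : matOf ω (F4.inv c) = ((matOf ω c).map (frobenius F 2))ᵀ := by
    ext i j
    rw [matOf_inv_entry h, Matrix.transpose_apply, Matrix.map_apply, frobenius_def]
  have h1 : matOf ω c * matOf ω (F4.inv c) = 1 := invOK_spec hinv
  have h2 : matOf ω (F4.inv c) * matOf ω c = 1 := mul_eq_one_comm.mp h1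
  have h3 := congrArg Matrix.transpose h2
  rw [Matrix.transpose_mul, Matrix.transpose_one, hN, Matrix.transpose_transpose] at h3
  exact h3

/-- the Hermitian form on `F⁹` -/
def herm9 (u v : F9 → F) : F := ∑ z, u z * v z ^ 2

theorem gen_pres {c : ℕ} (hinv : invOK c = true) (h : isConjT c = true) :
    glOf ω c ∈ Cfsg.preserving (Units.coeHom (Matrix F9 F9 F)) herm9 := by
  intro u v
  show herm9 (((glOf ω c : GL F9 F) : Matrix F9 F9 F) *ᵥ u)
    (((glOf ω c : GL F9 F) : Matrix F9 F9 F) *ᵥ v) = herm9 u v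
  rw [glOf_val hinv]
  exact herm_of_unitary _ (unitary_of_conj hinv h) u v

variable [Fintype F]

theorem three_pres : threeJ3 F ω ≤ Cfsg.preserving (Units.coeHom (Matrix F9 F9 F)) herm9 := by
  rw [three_eq]
  unfold genGroup
  rw [Subgroup.closure_le]
  intro s hs
  have hs' : s ∈ semGens ω gens := hs
  unfold semGens at hs'
  simp only [gens, List.map_cons, List.map_nil, List.mem_cons, List.not_mem_nil, or_false] at hs'
  rcases hs' with rfl | rfl
  · exact gen_pres xc_valid xconj_ok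
  · exact gen_pres yc_valid yconj_ok

theorem det_gen (hF : Fintype.card F = 4) {c : ℕ} (hinv : invOK c = true) {k : ℕ}
    (hk : Nat.Coprime k 3) (hpow : wordEqB (List.replicate k c) [] = true) :
    Matrix.GeneralLinearGroup.det (glOf ω c) = 1 := by
  classical
  have h1 : (glOf ω c) ^ k = 1 := eq_one_of_wordEqB (actsBy_pow (glOf_acts hinv) k) hpow
  have h2 : (Matrix.GeneralLinearGroup.det (glOf ω c)) ^ k = 1 := by
    rw [← map_pow, h1, map_one]
  have h3 : (Matrix.GeneralLinearGroup.det (glOf ω c)) ^ 3 = 1 := by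
    have hc : Fintype.card Fˣ = 3 := by rw [Fintype.card_units, hF]
    have hp : (Matrix.GeneralLinearGroup.det (glOf ω c)) ^ Fintype.card Fˣ = 1 := pow_card_eq_one
    rwa [hc] at hp
  have h6 : orderOf (Matrix.GeneralLinearGroup.det (glOf ω c)) ∣ Nat.gcd k 3 :=
    Nat.dvd_gcd (orderOf_dvd_of_pow_eq_one h2) (orderOf_dvd_of_pow_eq_one h3)
  rw [hk] at h6
  exact orderOf_eq_one_iff.mp (Nat.dvd_one.mp h6)

theorem three_det (hF : Fintype.card F = 4) :
    threeJ3 F ω ≤ (Matrix.GeneralLinearGroup.det : GL F9 F →* Fˣ).ker := by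
  rw [three_eq]
  unfold genGroup
  rw [Subgroup.closure_le]
  intro s hs
  have hs' : s ∈ semGens ω gens := hs
  unfold semGens at hs'
  simp only [gens, List.map_cons, List.map_nil, List.mem_cons, List.not_mem_nil, or_false] at hs'
  rcases hs' with rfl | rfl
  · exact det_gen hF xc_valid (by norm_num) x19_ok
  · exact det_gen hF yc_valid (by norm_num) y17_ok

theorem det_eq_one (hF : Fintype.card F = 4) (g : GL F9 F) (hg : g ∈ threeJ3 F ω) :
    (g : Matrix F9 F9 F).det = 1 := by
  have h := three_det (ω := ω) hF hg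
  rw [MonoidHom.mem_ker] at h
  have h2 := congrArg Units.val h
  rwa [Matrix.GeneralLinearGroup.val_det_apply] at h2

/-- an enumeration of the index set -/
noncomputable def e9 : F9 ≃ Fin 9 := Fintype.equivFinOfCardEq (by rfl)

omit hd [CharP F 2] [Fintype F] in
theorem su_mem (M : Matrix F9 F9 F)
    (hM : ∀ u v : F9 → F, herm9 (M *ᵥ u) (M *ᵥ v) = herm9 u v) (u v : Fin 9 → F) :
    Cfsg.hermForm 9 F 2 (Matrix.reindex e9 e9 M *ᵥ u) (Matrix.reindex e9 e9 M *ᵥ v) =
      Cfsg.hermForm 9 F 2 u v := by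
  rw [Matrix.reindex_apply, Matrix.submatrix_mulVec_equiv, Matrix.submatrix_mulVec_equiv,
    Equiv.symm_symm]
  unfold Cfsg.hermForm
  have h := hM (u ∘ e9) (v ∘ e9)
  unfold herm9 at h
  rw [← Equiv.sum_comp e9 (fun i => u i * v i ^ 2),
    ← Equiv.sum_comp e9 (fun i => ((M *ᵥ (u ∘ e9)) ∘ e9.symm) i *
      ((M *ᵥ (v ∘ e9)) ∘ e9.symm) i ^ 2)]
  simp only [Function.comp, Equiv.symm_apply_apply] at h ⊢
  exact h

/-- the embedding into the special linear group -/
noncomputable def toSL (hF : Fintype.card F = 4) :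
    threeJ3 F ω →* Matrix.SpecialLinearGroup (Fin 9) F where
  toFun g := ⟨Matrix.reindexAlgEquiv F F e9 ((g : GL F9 F) : Matrix F9 F9 F), by
    rw [Matrix.det_reindexAlgEquiv]; exact det_eq_one hF g g.2⟩
  map_one' := by
    apply Subtype.ext
    show Matrix.reindexAlgEquiv F F e9 (((1 : threeJ3 F ω) : GL F9 F) : Matrix F9 F9 F) = 1
    rw [Subgroup.coe_one, Units.val_one, map_one]
  map_mul' g h := by
    apply Subtype.ext
    show Matrix.reindexAlgEquiv F F e9 (((g * h : threeJ3 F ω) : GL F9 F) : Matrix F9 F9 F) =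
      Matrix.reindexAlgEquiv F F e9 ((g : GL F9 F) : Matrix F9 F9 F) *
        Matrix.reindexAlgEquiv F F e9 ((h : GL F9 F) : Matrix F9 F9 F)
    rw [Subgroup.coe_mul, Units.val_mul, map_mul]

theorem toSL_injective (hF : Fintype.card F = 4) : Function.Injective (toSL (ω := ω) hF) := by
  intro g h hgh
  have h1 : Matrix.reindexAlgEquiv F F e9 ((g : GL F9 F) : Matrix F9 F9 F) =
      Matrix.reindexAlgEquiv F F e9 ((h : GL F9 F) : Matrix F9 F9 F) := congrArg Subtype.val hgh
  apply Subtype.ext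
  apply Units.ext
  exact (Matrix.reindexAlgEquiv F F e9).injective h1

theorem toSL_mem (hF : Fintype.card F = 4) (g : threeJ3 F ω) :
    toSL (ω := ω) hF g ∈ Cfsg.SU 9 F 2 := by
  intro u v
  have hM := three_pres (ω := ω) g.2
  exact su_mem ((g : GL F9 F) : Matrix F9 F9 F) hM u v

include hd in
theorem su_real (hF : Fintype.card F = 4) :
    ∃ H : Subgroup (Cfsg.SU 9 F 2), Nat.card (Subgroup.center H) = 3 ∧
      Cfsg.IsJ3 (H ⧸ Subgroup.center H) := by
  let ψ : threeJ3 F ω →* Cfsg.SU 9 F 2 := (toSL (ω := ω) hF).codRestrict _ (toSL_mem hF)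
  have hψ : Function.Injective ψ := by
    intro g h hgh
    apply toSL_injective (ω := ω) hF
    exact congrArg Subtype.val hgh
  let e : threeJ3 F ω ≃* ψ.range := MonoidHom.ofInjective hψ
  obtain ⟨h1, ⟨e2⟩⟩ := center_transfer e
  refine ⟨ψ.range, ?_, ?_, ?_⟩
  · rw [h1, center_card hF]
  · haveI : IsSimpleGroup (threeJ3 F ω ⧸ Subgroup.center (threeJ3 F ω)) := simple_J3 hF
    exact e2.symm.isSimpleGroup
  · rw [← Nat.card_congr e2.toEquiv]
    exact card_J3 hF

end

theorem main_su : ∃ (F : Type) (_ : Field F) (_ : Fintype F), Fintype.card F = 4 ∧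
    ∃ H : Subgroup (Cfsg.SU 9 F 2), Nat.card (Subgroup.center H) = 3 ∧
      Cfsg.IsJ3 (H ⧸ Subgroup.center H) := by
  obtain ⟨F, hfield, hfin, ω, hF, hω⟩ := exists_field4
  haveI := data_of_card F hF ω hω
  haveI : CharP F 2 := CharTwo.of_one_ne_zero_of_two_eq_zero one_ne_zero (Data.two ω)
  exact ⟨F, hfield, hfin, hF, su_real (ω := ω) hF⟩

end Cfsg.Agent.Lib.Helper28.J3
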