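import Cfsg.Agent.Lib.Helper28.J3

/-!
# The triple cover of the Janko group `J₃`: centre and simplicity

The centre of `Cfsg.Spor.threeJ3 F ω` consists of the three scalar matrices (a matrix commuting
with the diagonal generators `A_Z` and the translations `D_Z` is scalar), and the central quotient
is simple.
-/

set_option autoImplicit false

namespace Cfsg.Agent.Lib.Helper28.J3

open Cfsg.Spor Cfsg.Agent.Lib.Helper28.F4 Cfsg.Agent.Lib.Helper28.J3Data
open Cfsg.Agent.Lib.Helper28.J3Cert Cfsg.Agent.Lib.Helper28.PGenSimple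
open scoped MatrixGroups

section
variable {F : Type*} [Field F] {ω : F} [hd : Data F ω]

theorem omegaPow_inj {a b : ZMod 3} (h : omegaPow F ω a = omegaPow F ω b) : a = b := by
  have h0 := om_ne_zero (F := F) (ω := ω)
  have h1 := om_ne_one (F := F) (ω := ω)
  have e0 : omegaPow F ω 0 = 1 := by
    show ω ^ 0 = 1
    exact pow_zero _
  have e1 : omegaPow F ω 1 = ω := by
    show ω ^ 1 = ω
    exact pow_one _
  have e2 : omegaPow F ω 2 = ω + 1 := by
    show ω ^ 2 = ω + 1
    exact om_sq
  have hcases : ∀ n : ZMod 3, n = 0 ∨ n = 1 ∨ n = 2 := by decide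
  rcases hcases a with rfl | rfl | rfl <;> rcases hcases b with rfl | rfl | rfl <;>
    first
    | rfl
    | (exfalso
       simp only [e0, e1, e2] at h
       first
       | exact absurd h.symm h1
       | exact absurd h h1
       | exact absurd (show ω = 0 by linear_combination -h) h0
       | exact absurd (show ω = 0 by linear_combination h) h0
       | exact absurd (show (1 : F) = 0 by linear_combination h) one_ne_zero
       | exact absurd (show (1 : F) = 0 by linear_combination -h) one_ne_zero)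

theorem norm_ne : ∀ i j : F9, i ≠ j →
    (i - j).1 * j.1 + (i - j).2 * j.2 ≠ (i - j).1 * i.1 + (i - j).2 * i.2 := by decide

/-- a matrix commuting with all `A_Z` and `D_Z` is scalar -/
theorem scalar_of_comm (M : Matrix F9 F9 F) (hA : ∀ Z, M * j3A F ω Z = j3A F ω Z * M)
    (hD : ∀ Z, M * j3D F ω Z = j3D F ω Z * M) : M = M 0 0 • (1 : Matrix F9 F9 F) := by
  have hoff : ∀ i j, i ≠ j → M i j = 0 := by
    intro i j hij
    have h := congrFun (congrFun (hA (i - j)) i) j
    unfold j3A at h
    rw [Matrix.mul_diagonal, Matrix.diagonal_mul] at h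
    have hne : omegaPow F ω ((i - j).1 * j.1 + (i - j).2 * j.2) ≠
        omegaPow F ω ((i - j).1 * i.1 + (i - j).2 * i.2) :=
      fun he => norm_ne i j hij (omegaPow_inj he)
    have h2 : M i j * (omegaPow F ω ((i - j).1 * j.1 + (i - j).2 * j.2) -
        omegaPow F ω ((i - j).1 * i.1 + (i - j).2 * i.2)) = 0 := by
      rw [mul_sub, h]; ring
    rcases mul_eq_zero.mp h2 with h3 | h3
    · exact h3
    · exact absurd (sub_eq_zero.mp h3) hne
  have hdiag : ∀ Z, M Z Z = M 0 0 := by
    intro Z
    have h := congrFun (congrFun (hD Z) Z) 0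
    have hl : ∑ k, M Z k * j3D F ω Z k 0 = M Z Z * j3D F ω Z Z 0 :=
      Finset.sum_eq_single Z (fun k _ hk => by rw [hoff Z k (Ne.symm hk), zero_mul])
        (fun h0 => absurd (Finset.mem_univ _) h0)
    have hr : ∑ k, j3D F ω Z Z k * M k 0 = j3D F ω Z Z 0 * M 0 0 :=
      Finset.sum_eq_single 0 (fun k _ hk => by rw [hoff k 0 hk, mul_zero])
        (fun h0 => absurd (Finset.mem_univ _) h0)
    have hD0 : j3D F ω Z Z 0 = 1 := by
      unfold j3D j3Lam
      rw [Matrix.of_apply, if_pos (zero_add Z).symm, if_pos rfl]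
    rw [Matrix.mul_apply, Matrix.mul_apply, hl, hr, hD0, mul_one, one_mul] at h
    exact h
  ext i j
  by_cases hij : i = j
  · subst hij
    rw [Matrix.smul_apply, Matrix.one_apply_eq, smul_eq_mul, mul_one]
    exact hdiag i
  · rw [hoff i j hij, Matrix.smul_apply, Matrix.one_apply_ne hij, smul_zero]

variable [Fintype F]

theorem valA (Z : F9) : ((glOf ω (codeA Z) : GL F9 F) : Matrix F9 F9 F) = j3A F ω Z := by
  obtain ⟨h1, h2, _⟩ := cert_split (certA Z)
  rw [glOf_val h2, gen_eq h1 (j3A_entry (ω := ω) Z)]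

theorem valD (Z : F9) : ((glOf ω (codeD Z) : GL F9 F) : Matrix F9 F9 F) = j3D F ω Z := by
  obtain ⟨h1, h2, _⟩ := cert_split (certD Z)
  rw [glOf_val h2, gen_eq h1 (j3D_entry (ω := ω) Z)]

theorem central_scalar (z : threeJ3 F ω) (hz : z ∈ Subgroup.center (threeJ3 F ω)) :
    ((z : GL F9 F) : Matrix F9 F9 F) =
      ((z : GL F9 F) : Matrix F9 F9 F) 0 0 • (1 : Matrix F9 F9 F) := by
  apply scalar_of_comm (ω := ω)
  · intro Z
    have hc := Subgroup.mem_center_iff.mp hz ⟨glOf ω (codeA Z), (memA Z).2⟩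
    have hc' := congrArg (fun h : threeJ3 F ω => ((h : GL F9 F) : Matrix F9 F9 F)) hc
    simp only [Subgroup.coe_mul, Units.val_mul] at hc'
    rw [valA] at hc'
    exact hc'.symm
  · intro Z
    have hc := Subgroup.mem_center_iff.mp hz ⟨glOf ω (codeD Z), (memD Z).2⟩
    have hc' := congrArg (fun h : threeJ3 F ω => ((h : GL F9 F) : Matrix F9 F9 F)) hc
    simp only [Subgroup.coe_mul, Units.val_mul] at hc'
    rw [valD] at hc'
    exact hc'.symm

theorem central_ne_zero (z : threeJ3 F ω) (hz : z ∈ Subgroup.center (threeJ3 F ω)) :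
    ((z : GL F9 F) : Matrix F9 F9 F) 0 0 ≠ 0 := by
  intro h0
  have hs := central_scalar z hz
  rw [h0, zero_smul] at hs
  exact (Units.ne_zero (z : GL F9 F)) hs

theorem center_le (hF : Fintype.card F = 4) :
    Nat.card (Subgroup.center (threeJ3 F ω)) ≤ 3 := by
  classical
  let f : Subgroup.center (threeJ3 F ω) → Fˣ := fun z =>
    Units.mk0 ((((z : threeJ3 F ω) : GL F9 F) : Matrix F9 F9 F) 0 0) (central_ne_zero z.1 z.2)
  have hf : Function.Injective f := by
    intro z z' h
    have h1 : (((z : threeJ3 F ω) : GL F9 F) : Matrix F9 F9 F) 0 0 =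
        (((z' : threeJ3 F ω) : GL F9 F) : Matrix F9 F9 F) 0 0 := congrArg Units.val h
    apply Subtype.ext
    apply Subtype.ext
    apply Units.ext
    rw [central_scalar z.1 z.2, central_scalar z'.1 z'.2, h1]
  have hle := Nat.card_le_card_of_injective f hf
  have hu : Nat.card Fˣ = 3 := by
    rw [Nat.card_eq_fintype_card, Fintype.card_units, hF]
  rwa [hu] at hle

theorem sc_split : symOK symS sc = true ∧ invOK sc = true ∧ siftP levels [sc] [] [] = true :=
  cert_split certS

theorem valS : ((glOf ω sc : GL F9 F) : Matrix F9 F9 F) = ω • (1 : Matrix F9 F9 F) := by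
  rw [glOf_val sc_split.2.1, gen_eq sc_split.1 (scal_entry (ω := ω))]

theorem sc_mem : glOf ω sc ∈ threeJ3 F ω := by
  rw [three_eq]
  exact sift_mem sc_split.2.1 sc_split.2.2

/-- the scalar `ω` as an element of the group -/
noncomputable def sThree (F : Type*) [Field F] [Fintype F] (ω : F) [Data F ω] : threeJ3 F ω :=
  ⟨glOf ω sc, sc_mem⟩

theorem sThree_central : sThree F ω ∈ Subgroup.center (threeJ3 F ω) := by
  rw [Subgroup.mem_center_iff]
  intro g
  apply Subtype.ext
  apply Units.ext
  show ((g : GL F9 F) : Matrix F9 F9 F) * ((glOf ω sc : GL F9 F) : Matrix F9 F9 F) =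
    ((glOf ω sc : GL F9 F) : Matrix F9 F9 F) * ((g : GL F9 F) : Matrix F9 F9 F)
  rw [valS, mul_smul_comm, smul_mul_assoc, mul_one, one_mul]

theorem sThree_cube : sThree F ω ^ 3 = 1 := by
  apply Subtype.ext
  show (glOf ω sc) ^ 3 = 1
  exact eq_one_of_wordEqB (actsBy_pow (glOf_acts sc_split.2.1) 3) sc_cube

theorem sThree_ne_one : sThree F ω ≠ 1 := by
  intro h
  have h1 : glOf ω sc = 1 := congrArg (fun t : threeJ3 F ω => (t : GL F9 F)) h
  have h2 : ((glOf ω sc : GL F9 F) : Matrix F9 F9 F) 0 0 = (1 : Matrix F9 F9 F) 0 0 := by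
    rw [h1]; rfl
  rw [valS, Matrix.smul_apply, Matrix.one_apply_eq, smul_eq_mul, mul_one] at h2
  exact om_ne_one h2

theorem three_dvd : 3 ∣ Nat.card (Subgroup.center (threeJ3 F ω)) := by
  let s : Subgroup.center (threeJ3 F ω) := ⟨sThree F ω, sThree_central⟩
  have h3 : s ^ 3 = 1 := by
    apply Subtype.ext
    show sThree F ω ^ 3 = 1
    exact sThree_cube
  have hne : s ≠ 1 := by
    intro h
    exact sThree_ne_one (congrArg Subtype.val h)
  have hord : orderOf s = 3 := orderOf_eq_prime h3 hne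
  have hdv := orderOf_dvd_natCard s
  rwa [hord] at hdv

theorem center_card (hF : Fintype.card F = 4) :
    Nat.card (Subgroup.center (threeJ3 F ω)) = 3 := by
  have h1 := center_le (ω := ω) hF
  have h2 := three_dvd (F := F) (ω := ω)
  have h3 : 0 < Nat.card (Subgroup.center (threeJ3 F ω)) := Nat.card_pos
  exact Nat.le_antisymm h1 (Nat.le_of_dvd h3 h2)

/-- every central element is a power of the scalar `ω` -/
theorem central_zpow (hF : Fintype.card F = 4) (z : threeJ3 F ω)
    (hz : z ∈ Subgroup.center (threeJ3 F ω)) : ∃ k : ℤ, sThree F ω ^ k = z := by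
  haveI : Fact (Nat.Prime 3) := ⟨Nat.prime_three⟩
  let s : Subgroup.center (threeJ3 F ω) := ⟨sThree F ω, sThree_central⟩
  have hne : s ≠ 1 := by
    intro h
    exact sThree_ne_one (congrArg Subtype.val h)
  have htop : Subgroup.zpowers s = ⊤ := zpowers_eq_top_of_prime_card (center_card hF) hne
  have hmem : (⟨z, hz⟩ : Subgroup.center (threeJ3 F ω)) ∈ Subgroup.zpowers s := by
    rw [htop]; exact Subgroup.mem_top _
  obtain ⟨k, hk⟩ := Subgroup.mem_zpowers_iff.mp hmem
  refine ⟨k, ?_⟩
  have := congrArg Subtype.val hk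
  rwa [Subgroup.coe_zpow] at this

theorem card_J3 (hF : Fintype.card F = 4) : Nat.card (J3 F ω) = 50232960 := by
  have h := Subgroup.card_eq_card_quotient_mul_card_subgroup (Subgroup.center (threeJ3 F ω))
  rw [card_three, center_card hF] at h
  show Nat.card (threeJ3 F ω ⧸ Subgroup.center (threeJ3 F ω)) = 50232960
  omega

theorem arith19 : ∀ q k : ℕ, q.Prime → 1 ≤ k → q ^ k ∣ 93312 → ¬ 19 ∣ q ^ k - 1 := by
  intro q k hq hk hdvd
  have hq93 : q ∣ 2 ^ 7 * 3 ^ 6 := by
    have : (93312 : ℕ) = 2 ^ 7 * 3 ^ 6 := by norm_num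
    rw [← this]
    exact dvd_trans (dvd_pow_self q (by omega)) hdvd
  rcases (Nat.Prime.dvd_mul hq).mp hq93 with h | h
  · have hq2 : q = 2 := (Nat.prime_dvd_prime_iff_eq hq Nat.prime_two).mp (hq.dvd_of_dvd_pow h)
    subst hq2
    have hk7 : k ≤ 7 := by
      by_contra hcon
      have h8 : 2 ^ 8 ∣ 93312 := dvd_trans (pow_dvd_pow 2 (by omega)) hdvd
      norm_num at h8
    interval_cases k <;> norm_num
  · have hq3 : q = 3 := (Nat.prime_dvd_prime_iff_eq hq Nat.prime_three).mp (hq.dvd_of_dvd_pow h)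
    subst hq3
    have hk6 : k ≤ 6 := by
      by_contra hcon
      have h7 : 3 ^ 7 ∣ 93312 := dvd_trans (pow_dvd_pow 3 (by omega)) hdvd
      norm_num at h7
    interval_cases k <;> norm_num

theorem normal_gen (N : Subgroup (genGroup ω gens)) [N.Normal] :
    N = ⊤ ∨ N ≤ Subgroup.center (genGroup ω gens) := by
  have hcard : Nat.card (Subgroup.closure {s | s ∈ semGens ω gens}) = 93312 * [5, 17, 19].prod := by
    have := card_gen (F := F) (ω := ω)
    unfold genGroup at this
    rw [this]
    rfl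
  refine @normal_top_or_central_closure (GL F9 F) _ _ {s | s ∈ semGens ω gens} 93312 19
    [5, 17, 19] hcard ?_ ?_ ?_ ?_ N ‹N.Normal›
  · intro r hr
    rw [hcard]
    simp only [List.mem_cons, List.not_mem_nil, or_false] at hr
    rcases hr with rfl | rfl | rfl <;> norm_num
  · simp
  · exact arith19
  · intro r hr t ht
    have ht' : t ∈ semGens ω gens := ht
    unfold semGens at ht'
    rw [List.mem_map] at ht'
    obtain ⟨g, hg, rfl⟩ := ht'
    simp only [List.mem_cons, List.not_mem_nil, or_false] at hr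
    rcases hr with rfl | rfl | rfl
    · obtain ⟨p, hp, q, hq, h1, h2, h3⟩ := prodsOK_sound (ω := ω) gens levels gens_valid chain_ok
        5 gens gens_valid fs5 prods5_ok g hg
      exact ⟨p, hp, q, hq, h1, h2, h3⟩
    · obtain ⟨p, hp, q, hq, h1, h2, h3⟩ := prodsOK_sound (ω := ω) gens levels gens_valid chain_ok
        17 gens gens_valid fs17 prods17_ok g hg
      exact ⟨p, hp, q, hq, h1, h2, h3⟩
    · obtain ⟨p, hp, q, hq, h1, h2, h3⟩ := prodsOK_sound (ω := ω) gens levels gens_valid chain_ok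
        19 gens gens_valid fs19 prods19_ok g hg
      exact ⟨p, hp, q, hq, h1, h2, h3⟩

theorem normal_three : ∀ (H : Subgroup (GL F9 F)), H = genGroup ω gens →
    ∀ N : Subgroup H, N.Normal → N = ⊤ ∨ N ≤ Subgroup.center H := by
  rintro _ rfl N hN
  haveI := hN
  exact normal_gen N

theorem simple_J3 (hF : Fintype.card F = 4) : IsSimpleGroup (J3 F ω) := by
  show IsSimpleGroup (threeJ3 F ω ⧸ Subgroup.center (threeJ3 F ω))
  apply simple_quotient_center
  · intro htop
    have h1 := center_card (ω := ω) hF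
    rw [htop, Subgroup.card_top, card_three] at h1
    norm_num at h1
  · exact normal_three (threeJ3 F ω) three_eq

end

theorem exists_omega (F : Type*) [Field F] [Fintype F] (hF : Fintype.card F = 4) :
    ∃ ω : F, ω ^ 2 + ω + 1 = 0 := by
  classical
  have h1 : ((Finset.univ.erase (0 : F)).erase 1).card = 2 := by
    rw [Finset.card_erase_of_mem, Finset.card_erase_of_mem (Finset.mem_univ _), Finset.card_univ,
      hF]
    exact Finset.mem_erase.mpr ⟨one_ne_zero, Finset.mem_univ _⟩
  obtain ⟨x, hx⟩ := Finset.card_pos.mp (by omega : 0 < ((Finset.univ.erase (0 : F)).erase 1).card)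
  rw [Finset.mem_erase, Finset.mem_erase] at hx
  obtain ⟨hx1, hx0, _⟩ := hx
  refine ⟨x, ?_⟩
  have h3 : x ^ 3 = 1 := by
    have := FiniteField.pow_card_sub_one_eq_one x hx0
    rwa [hF] at this
  have h4 : (x - 1) * (x ^ 2 + x + 1) = 0 := by
    calc (x - 1) * (x ^ 2 + x + 1) = x ^ 3 - 1 := by ring
      _ = 0 := by rw [h3, sub_self]
  rcases mul_eq_zero.mp h4 with h5 | h5
  · exact absurd (sub_eq_zero.mp h5) hx1
  · exact h5

/-- a field with four elements and a primitive cube root of unity -/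
theorem exists_field4 : ∃ (F : Type) (_ : Field F) (_ : Fintype F) (ω : F),
    Fintype.card F = 4 ∧ ω ^ 2 + ω + 1 = 0 := by
  haveI : Fintype (GaloisField 2 2) := Fintype.ofFinite _
  have hF : Fintype.card (GaloisField 2 2) = 4 := by
    rw [← Nat.card_eq_fintype_card, GaloisField.card 2 2 (by norm_num)]
    norm_num
  obtain ⟨ω, hω⟩ := exists_omega (GaloisField 2 2) hF
  exact ⟨GaloisField 2 2, inferInstance, inferInstance, ω, hF, hω⟩

/-- the data of a field with four elements -/
theorem data_of_card (F : Type*) [Field F] [Fintype F] (hF : Fintype.card F = 4) (ω : F)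
    (hω : ω ^ 2 + ω + 1 = 0) : Data F ω := by
  refine ⟨?_, hω⟩
  have h4 : ((Fintype.card F : ℕ) : F) = 0 := Nat.cast_card_eq_zero F
  rw [hF] at h4
  have h22 : (2 : F) * 2 = 0 := by
    have : ((4 : ℕ) : F) = 2 * 2 := by norm_num
    rw [← this]; exact h4
  exact mul_self_eq_zero.mp h22

theorem main (F : Type*) [Field F] [Fintype F] (hF : Fintype.card F = 4) (ω : F)
    (hω : ω ^ 2 + ω + 1 = 0) :
    Nat.card (Subgroup.center (threeJ3 F ω)) = 3 ∧ Nat.card (threeJ3 F ω) = 150698880 ∧
      Nat.card (J3 F ω) = 50232960 ∧ IsSimpleGroup (J3 F ω) := by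
  haveI := data_of_card F hF ω hω
  exact ⟨center_card hF, card_three, card_J3 hF, simple_J3 hF⟩

end Cfsg.Agent.Lib.Helper28.J3
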