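import Cfsg.Agent.Lib.Helper28.L23Norm

set_option autoImplicit false

/-!
# `23:11` is maximal in `M23` (Sylow counting)
-/

namespace Cfsg.Agent.Lib.Helper28.L23

open Cfsg MulAction Cfsg.Agent.Lib.Helper28
open scoped Pointwise

/-- the group `23:11` generated by `t ↦ t + 1` and `t ↦ 2t` -/
def B : Subgroup (Equiv.Perm GolayPt) := Subgroup.closure {m24shift, o11_b}

theorem shift_mem_B : m24shift ∈ B := Subgroup.subset_closure (Set.mem_insert _ _)

theorem o11_b_mem_B : o11_b ∈ B := Subgroup.subset_closure (Set.mem_insert_of_mem _ rfl)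

theorem B_le_M23 : B ≤ Spor.M23 := by
  unfold B
  rw [Subgroup.closure_le]
  rintro _ (rfl | rfl)
  · exact shift_mem_M23
  · exact o11_b_mem_M23

theorem conj_mem_of_normalizer {H : Subgroup (Equiv.Perm GolayPt)} {g x : Equiv.Perm GolayPt}
    (hg : g ∈ Subgroup.normalizer (H : Set (Equiv.Perm GolayPt))) (hx : x ∈ H) :
    g * x * g⁻¹ ∈ H :=
  (Subgroup.mem_normalizer_iff.mp hg x).mp hx

theorem mem_normalizer_zpowers {g x : Equiv.Perm GolayPt} (m : ℕ) (h : g * x * g⁻¹ = x ^ m) :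
    g ∈ Subgroup.normalizer ((Subgroup.zpowers x : Subgroup _) : Set (Equiv.Perm GolayPt)) := by
  apply Subgroup.mem_normalizer_fintype
  intro n hn
  obtain ⟨k, rfl⟩ := Subgroup.mem_zpowers_iff.mp hn
  rw [SetLike.mem_coe, ← conj_zpow, h]
  exact Subgroup.zpow_mem _ (Subgroup.pow_mem _ (Subgroup.mem_zpowers _) m) k

/-- the normalizer of `⟨t ↦ t + 1⟩` in `M24` is `B` -/
theorem normalizer_shift_inf :
    Subgroup.normalizer ((Subgroup.zpowers m24shift : Subgroup _) : Set (Equiv.Perm GolayPt))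
      ⊓ M24 = B := by
  apply le_antisymm
  · rintro g ⟨hn, hg⟩
    obtain ⟨i, j, rfl⟩ := norm_shift hg (conj_mem_of_normalizer hn (Subgroup.mem_zpowers _))
    exact B.mul_mem (B.pow_mem o11_b_mem_B i) (B.pow_mem shift_mem_B j)
  · refine le_inf ?_ (B_le_M23.trans inf_le_left)
    unfold B
    rw [Subgroup.closure_le]
    rintro _ (rfl | rfl)
    · exact Subgroup.le_normalizer (Subgroup.mem_zpowers _)
    · exact mem_normalizer_zpowers 2 o11_hba

theorem B_form {g : Equiv.Perm GolayPt} (hg : g ∈ B) :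
    ∃ p : Fin 11 × Fin 23, g = o11_b ^ p.1.val * m24shift ^ p.2.val := by
  rw [← normalizer_shift_inf] at hg
  obtain ⟨hn, hg24⟩ := hg
  obtain ⟨i, j, rfl⟩ := norm_shift hg24 (conj_mem_of_normalizer hn (Subgroup.mem_zpowers _))
  refine ⟨(⟨i % 11, Nat.mod_lt _ (by norm_num)⟩, ⟨j % 23, Nat.mod_lt _ (by norm_num)⟩), ?_⟩
  show _ = o11_b ^ (i % 11) * m24shift ^ (j % 23)
  have e1 := pow_mod_orderOf o11_b i
  rw [orderOf_o11_b] at e1
  have e2 := pow_mod_orderOf m24shift j
  rw [orderOf_shift] at e2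
  rw [e1, e2]

theorem card_le_of_forall_exists {ι : Type*} [Fintype ι] (H : Subgroup (Equiv.Perm GolayPt))
    (f : ι → Equiv.Perm GolayPt) (h : ∀ g ∈ H, ∃ i, g = f i) : Nat.card H ≤ Fintype.card ι := by
  classical
  have h1 : (H : Set (Equiv.Perm GolayPt)) ⊆ ((Finset.univ.image f : Finset _) : Set _) := by
    intro g hg
    obtain ⟨i, rfl⟩ := h g hg
    exact Finset.mem_coe.mpr (Finset.mem_image_of_mem f (Finset.mem_univ i))
  calc Nat.card H = (H : Set (Equiv.Perm GolayPt)).ncard := (Nat.card_coe_set_eq _).symm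
    _ ≤ ((Finset.univ.image f : Finset _) : Set (Equiv.Perm GolayPt)).ncard :=
        Set.ncard_le_ncard h1 (Finset.finite_toSet _)
    _ = (Finset.univ.image f).card := Set.ncard_coe_finset _
    _ ≤ Fintype.card ι := Finset.card_image_le

theorem orderOf_dvd_card_of_mem {H : Subgroup (Equiv.Perm GolayPt)} {x : Equiv.Perm GolayPt}
    (hx : x ∈ H) : orderOf x ∣ Nat.card H := by
  have h1 : orderOf (⟨x, hx⟩ : H) = orderOf x := Subgroup.orderOf_mk x hx
  rw [← h1]
  exact orderOf_dvd_natCard _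

theorem card_B : Nat.card B = 253 := by
  have hle : Nat.card B ≤ 253 := by
    have := card_le_of_forall_exists B
      (fun p : Fin 11 × Fin 23 => o11_b ^ p.1.val * m24shift ^ p.2.val) (fun g hg => B_form hg)
    simpa using this
  have h23 : 23 ∣ Nat.card B := orderOf_shift ▸ orderOf_dvd_card_of_mem shift_mem_B
  have h11 : 11 ∣ Nat.card B := orderOf_o11_b ▸ orderOf_dvd_card_of_mem o11_b_mem_B
  have h253 : 23 * 11 ∣ Nat.card B :=
    Nat.Coprime.mul_dvd_of_dvd_of_dvd (by norm_num) h23 h11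
  obtain ⟨k, hk⟩ := h253
  have hpos : 0 < Nat.card B := Nat.card_pos
  omega

/-- the normalizer of `⟨t ↦ 2t⟩` in `M23` -/
def N55 : Subgroup (Equiv.Perm GolayPt) :=
  Subgroup.normalizer ((Subgroup.zpowers o11_b : Subgroup _) : Set (Equiv.Perm GolayPt)) ⊓ Spor.M23

theorem card_N55 : Nat.card N55 = 55 := by
  have hform : ∀ g ∈ N55, ∃ p : Fin 5 × Fin 11, g = cubeTwist ^ p.1.val * o11_b ^ p.2.val := by
    rintro g ⟨hn, hg⟩
    obtain ⟨i, j, rfl⟩ := norm_o11 hg.1 (fix_none_of_mem hg)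
      (conj_mem_of_normalizer hn (Subgroup.mem_zpowers _))
    refine ⟨(⟨i % 5, Nat.mod_lt _ (by norm_num)⟩, ⟨j % 11, Nat.mod_lt _ (by norm_num)⟩), ?_⟩
    show _ = cubeTwist ^ (i % 5) * o11_b ^ (j % 11)
    have e1 := pow_mod_orderOf cubeTwist i
    rw [orderOf_cubeTwist] at e1
    have e2 := pow_mod_orderOf o11_b j
    rw [orderOf_o11_b] at e2
    rw [e1, e2]
  have hle : Nat.card N55 ≤ 55 := by
    have := card_le_of_forall_exists N55
      (fun p : Fin 5 × Fin 11 => cubeTwist ^ p.1.val * o11_b ^ p.2.val) hform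
    simpa using this
  have hb : o11_b ∈ N55 := ⟨Subgroup.le_normalizer (Subgroup.mem_zpowers _), o11_b_mem_M23⟩
  have hc : cubeTwist ∈ N55 := ⟨mem_normalizer_zpowers 3 o11_hdb, cubeTwist_mem_M23⟩
  have h11 : 11 ∣ Nat.card N55 := orderOf_o11_b ▸ orderOf_dvd_card_of_mem hb
  have h5 : 5 ∣ Nat.card N55 := orderOf_cubeTwist ▸ orderOf_dvd_card_of_mem hc
  have h55 : 5 * 11 ∣ Nat.card N55 :=
    Nat.Coprime.mul_dvd_of_dvd_of_dvd (by norm_num) h5 h11
  obtain ⟨k, hk⟩ := h55
  have hpos : 0 < Nat.card N55 := Nat.card_pos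
  omega

theorem card_normalizer_o11_inf (K : Subgroup (Equiv.Perm GolayPt)) (hK : K ≤ Spor.M23)
    (hQ : o11_b ∈ K) :
    Nat.card (Subgroup.normalizer ((Subgroup.zpowers o11_b : Subgroup _) :
      Set (Equiv.Perm GolayPt)) ⊓ K : Subgroup _) = 11 ∨
    Nat.card (Subgroup.normalizer ((Subgroup.zpowers o11_b : Subgroup _) :
      Set (Equiv.Perm GolayPt)) ⊓ K : Subgroup _) = 55 := by
  set N := (Subgroup.normalizer ((Subgroup.zpowers o11_b : Subgroup _) :
      Set (Equiv.Perm GolayPt)) ⊓ K : Subgroup _) with hN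
  have hle : N ≤ N55 := inf_le_inf_left _ hK
  have hd : Nat.card N ∣ 55 := card_N55 ▸ Subgroup.card_dvd_of_le hle
  have hb : o11_b ∈ N := ⟨Subgroup.le_normalizer (Subgroup.mem_zpowers _), hQ⟩
  have h11 : 11 ∣ Nat.card N := orderOf_o11_b ▸ orderOf_dvd_card_of_mem hb
  obtain ⟨a, ha⟩ := h11
  rw [ha] at hd ⊢
  have ha5 : a ∣ 5 := Nat.dvd_of_mul_dvd_mul_left (by norm_num : 0 < 11) (by simpa using hd)
  rcases (Nat.dvd_prime (by norm_num : Nat.Prime 5)).mp ha5 with h | h
  · left; rw [h]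
  · right; rw [h]

theorem arithA : ∀ t : Fin 1754, 40320 % (23 * t.val + 1) = 0 →
    ((23 * (23 * t.val + 1)) % 11 = 1 ∨
      ((23 * t.val + 1) % 5 = 0 ∧ (23 * ((23 * t.val + 1) / 5)) % 11 = 1)) →
    t.val = 0 ∨ t.val = 1753 := by
  decide +kernel

theorem arithB (m n23 n11 c e : ℕ) (hm : c = 253 * m) (hc23 : c = n23 * 253) (hc11 : c = n11 * e)
    (h23 : n23 % 23 = 1) (h11 : n11 % 11 = 1) (hm1 : m ∣ 40320) (he : e = 11 ∨ e = 55) :
    m = 1 ∨ m = 40320 := by
  have hmle : m ≤ 40320 := Nat.le_of_dvd (by norm_num) hm1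
  have hmn : m = n23 := by omega
  have ht : m / 23 < 1754 := by omega
  have hmt' : 23 * (m / 23) + 1 = m := by omega
  have key := arithA ⟨m / 23, ht⟩
  simp only [hmt'] at key
  have hdiv : 40320 % m = 0 := Nat.mod_eq_zero_of_dvd hm1
  rcases he with he | he
  · subst he
    have := key hdiv (Or.inl (by omega))
    omega
  · subst he
    have := key hdiv (Or.inr (by omega))
    omega

/-- `B` is a maximal subgroup of `M23` -/
theorem B_maximal (K : Subgroup (Equiv.Perm GolayPt)) (hBK : B ≤ K) (hK : K ≤ Spor.M23) :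
    K = B ∨ K = Spor.M23 := by
  have hcM : Nat.card Spor.M23 = 10200960 := by rw [M23_eq_G23]; exact card_G23
  have hd1 : Nat.card K ∣ 10200960 := hcM ▸ Subgroup.card_dvd_of_le hK
  have hd2 : 253 ∣ Nat.card K := card_B ▸ Subgroup.card_dvd_of_le hBK
  obtain ⟨m, hm⟩ := hd2
  have hm1 : m ∣ 40320 := by
    apply Nat.dvd_of_mul_dvd_mul_left (by norm_num : 0 < 253)
    rw [← hm]
    exact hd1
  have hmpos : 0 < m := Nat.pos_of_dvd_of_pos hm1 (by norm_num)
  have hmle : m ≤ 40320 := Nat.le_of_dvd (by norm_num) hm1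
  have hf23 : (Nat.card K).factorization 23 = 1 := by
    apply factorization_eq_one_of_card (by norm_num) (m := 11 * m) (by rw [hm]; ring)
    intro h
    have h2 : 11 * m ∣ 11 * 40320 := Nat.mul_dvd_mul_left 11 hm1
    have h3 : 23 ∣ 11 * 40320 := h.trans h2
    norm_num at h3
  have hf11 : (Nat.card K).factorization 11 = 1 := by
    apply factorization_eq_one_of_card (by norm_num) (m := 23 * m) (by rw [hm]; ring)
    intro h
    have h2 : 23 * m ∣ 23 * 40320 := Nat.mul_dvd_mul_left 23 hm1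
    have h3 : 11 ∣ 23 * 40320 := h.trans h2
    norm_num at h3
  haveI : Fact (Nat.Prime 23) := ⟨by norm_num⟩
  haveI : Fact (Nat.Prime 11) := ⟨by norm_num⟩
  obtain ⟨n23, hn23, hc23⟩ := sylow_count 23 K (Subgroup.zpowers m24shift)
    (Subgroup.zpowers_le.mpr (hBK shift_mem_B))
    (by rw [Nat.card_zpowers, orderOf_shift, hf23, pow_one])
  have hNK : (Subgroup.normalizer ((Subgroup.zpowers m24shift : Subgroup _) :
      Set (Equiv.Perm GolayPt)) ⊓ K : Subgroup _) = B := by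
    apply le_antisymm
    · rintro g ⟨hn, hg⟩
      rw [← normalizer_shift_inf]
      exact ⟨hn, (hK hg).1⟩
    · refine le_inf ?_ hBK
      have := normalizer_shift_inf.ge
      exact this.trans inf_le_left
  rw [hNK, card_B] at hc23
  obtain ⟨n11, hn11, hc11⟩ := sylow_count 11 K (Subgroup.zpowers o11_b)
    (Subgroup.zpowers_le.mpr (hBK o11_b_mem_B))
    (by rw [Nat.card_zpowers, orderOf_o11_b, hf11, pow_one])
  have h23 : n23 % 23 = 1 := hn23
  have h11 : n11 % 11 = 1 := hn11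
  have hmt : m = 1 ∨ m = 40320 := by
    rcases card_normalizer_o11_inf K hK (hBK o11_b_mem_B) with h | h
    · rw [h] at hc11
      exact arithB m n23 n11 (Nat.card K) 11 hm hc23 hc11 h23 h11 hm1 (Or.inl rfl)
    · rw [h] at hc11
      exact arithB m n23 n11 (Nat.card K) 55 hm hc23 hc11 h23 h11 hm1 (Or.inr rfl)
  rcases hmt with h | h
  · left
    symm
    apply Subgroup.eq_of_le_of_card_ge hBK
    rw [card_B, hm, h]
  · right
    apply Subgroup.eq_of_le_of_card_ge hK
    rw [hcM, hm, h]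

end Cfsg.Agent.Lib.Helper28.L23
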