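import Cfsg.Agent.Lib.Helper28.L23L

set_option autoImplicit false

/-!
# The generating sets of `L2(23)` and `23:11` by squares of units
-/

namespace Cfsg.Agent.Lib.Helper28.L23

open Cfsg MulAction Cfsg.Agent.Lib.Helper28
open scoped Pointwise

/-- `2` as a unit modulo `23` -/
def u2 : (ZMod 23)ˣ := ⟨2, 12, by decide, by decide⟩

/-- `5` as a unit modulo `23` -/
def u5 : (ZMod 23)ˣ := ⟨5, 14, by decide, by decide⟩

theorem isSquare_u2 : IsSquare u2 := ⟨u5, Units.ext (by decide)⟩

/-- multiplication by a unit on the 24 points -/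
def mulPerm (u : (ZMod 23)ˣ) : Equiv.Perm GolayPt := Equiv.optionCongr (Units.mulLeft u)

theorem mulPerm_mul (u v : (ZMod 23)ˣ) : mulPerm (u * v) = mulPerm u * mulPerm v := by
  apply Equiv.ext
  intro x
  cases x with
  | none => rfl
  | some t =>
    show some ((↑(u * v) : ZMod 23) * t) = some ((↑u : ZMod 23) * ((↑v : ZMod 23) * t))
    rw [Units.val_mul, mul_assoc]

theorem mulPerm_one : mulPerm 1 = 1 := by
  apply Equiv.ext
  intro x
  cases x with
  | none => rfl
  | some t =>
    show some ((↑(1 : (ZMod 23)ˣ) : ZMod 23) * t) = some t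
    rw [Units.val_one, one_mul]

theorem mulPerm_pow (u : (ZMod 23)ˣ) (k : ℕ) : mulPerm (u ^ k) = mulPerm u ^ k := by
  induction k with
  | zero => rw [pow_zero, pow_zero, mulPerm_one]
  | succ k ih => rw [pow_succ, pow_succ, mulPerm_mul, ih]

set_option maxRecDepth 100000 in
theorem mulPerm_u2_tab : ∀ a, mulPerm u2 (Helper4.pt a) = Helper4.pt (o11_btab a) := by
  decide

theorem mulPerm_u2 : mulPerm u2 = o11_b :=
  TActs.ext mulPerm_u2_tab o11_b_acts (fun _ => rfl)

theorem sq_pow_two : ∀ r : ZMod 23, r ≠ 0 → ∃ k : Fin 11, r * r = 2 ^ k.val := by decide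

theorem exists_pow_of_isSquare {u : (ZMod 23)ˣ} (hu : IsSquare u) : ∃ k : ℕ, u = u2 ^ k := by
  obtain ⟨r, rfl⟩ := hu
  haveI : Fact (1 < 23) := ⟨by norm_num⟩
  obtain ⟨k, hk⟩ := sq_pow_two (r : ZMod 23) r.ne_zero
  refine ⟨k.val, Units.ext ?_⟩
  rw [Units.val_mul, hk, Units.val_pow_eq_pow_val]
  rfl

theorem mulPerm_mem_B {u : (ZMod 23)ˣ} (hu : IsSquare u) : mulPerm u ∈ B := by
  obtain ⟨k, rfl⟩ := exists_pow_of_isSquare hu
  rw [mulPerm_pow, mulPerm_u2]
  exact B.pow_mem o11_b_mem_B k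

/-- the generating set of `23:11` in the statement -/
theorem closure_B_gens :
    Subgroup.closure ({Equiv.optionCongr (Equiv.addRight (1 : ZMod 23))} ∪
      {g : Equiv.Perm GolayPt | ∃ u : (ZMod 23)ˣ, IsSquare u ∧
        g = Equiv.optionCongr (Units.mulLeft u)}) = B := by
  apply le_antisymm
  · rw [Subgroup.closure_le]
    rintro g (hg | ⟨u, hu, rfl⟩)
    · rw [Set.mem_singleton_iff.mp hg]
      exact shift_mem_B
    · exact mulPerm_mem_B hu
  · unfold B
    rw [Subgroup.closure_le]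
    rintro g (rfl | hg)
    · exact Subgroup.subset_closure (Or.inl rfl)
    · rw [Set.mem_singleton_iff.mp hg, ← mulPerm_u2]
      exact Subgroup.subset_closure (Or.inr ⟨u2, isSquare_u2, rfl⟩)

/-- the generating set of `L2(23)` in the statement -/
theorem closure_L_gens :
    Subgroup.closure ({Equiv.optionCongr (Equiv.addRight (1 : ZMod 23)), projInv} ∪
      {g : Equiv.Perm GolayPt | ∃ u : (ZMod 23)ˣ, IsSquare u ∧
        g = Equiv.optionCongr (Units.mulLeft u)}) = L := by
  apply le_antisymm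
  · rw [Subgroup.closure_le]
    rintro g ((hg | hg) | ⟨u, hu, rfl⟩)
    · rw [hg]
      exact B_le_L shift_mem_B
    · rw [Set.mem_singleton_iff.mp hg]
      exact projInv_mem_L
    · exact B_le_L (mulPerm_mem_B hu)
  · unfold L
    rw [Subgroup.closure_le]
    rintro g (rfl | rfl | hg)
    · exact Subgroup.subset_closure (Or.inl (Set.mem_insert _ _))
    · rw [← mulPerm_u2]
      exact Subgroup.subset_closure (Or.inr ⟨u2, isSquare_u2, rfl⟩)
    · rw [Set.mem_singleton_iff.mp hg]
      exact Subgroup.subset_closure (Or.inl (Set.mem_insert_of_mem _ rfl))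

end Cfsg.Agent.Lib.Helper28.L23
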