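import Cfsg.Agent.Lib.Helper28.L23B
import Cfsg.Agent.Lib.Helper28.M24Stab
import Cfsg.Agent.Lib.Helper28.PermChain

set_option autoImplicit false

/-!
# `L2(23)` is maximal in `M24`

`L = ⟨t ↦ t + 1, t ↦ 2t, t ↦ -1/t⟩` has the Bruhat decomposition `L = B ∪ B w U`, hence order
`6072 = 24 · 253`; a subgroup between `L` and `M24` is transitive with point stabilizer between
`B` and `M23`.
-/

namespace Cfsg.Agent.Lib.Helper28.L23

open Cfsg MulAction Cfsg.Agent.Lib.Helper28
open scoped Pointwise

/-- the group `L2(23)` -/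
def L : Subgroup (Equiv.Perm GolayPt) := Subgroup.closure {m24shift, o11_b, projInv}

theorem B_le_L : B ≤ L := by
  unfold B L
  apply Subgroup.closure_mono
  rintro x (rfl | rfl)
  · exact Set.mem_insert _ _
  · exact Set.mem_insert_of_mem _ (Set.mem_insert _ _)

theorem projInv_mem_L : projInv ∈ L :=
  Subgroup.subset_closure (Set.mem_insert_of_mem _ (Set.mem_insert_of_mem _ rfl))

theorem L_le_M24 : L ≤ M24 := by
  unfold L
  rw [Subgroup.closure_le]
  rintro _ (rfl | rfl | rfl)
  · exact m24shift_mem_M24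
  · exact o11_b_mem
  · exact projInv_mem_M24

theorem projInv_inv : projInv⁻¹ = projInv := rfl

theorem projInv_sq : projInv * projInv = 1 := by
  have h : projInv * projInv⁻¹ = 1 := mul_inv_cancel _
  rwa [projInv_inv] at h

theorem w_mul_o11_pow (i : ℕ) : projInv * o11_b ^ i = o11_b ^ (10 * i) * projInv := by
  have h : projInv * o11_b ^ i * projInv⁻¹ = o11_b ^ (10 * i) := by
    rw [← conj_pow, o11_hcb, ← pow_mul]
  exact mul_inv_eq_iff_eq_mul.mp h

set_option maxRecDepth 1000000 in
theorem bruhat_key : ∀ c : Fin 23, c.val ≠ 0 → ∃ i : Fin 11, ∀ a : Fin 24,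
    projInvTab (shiftTab^[c.val] (projInvTab a)) =
      o11_btab^[i.val] (shiftTab^[23 - c.val]
        (projInvTab (shiftTab^[(23 - c.val ^ 21 % 23) % 23] a))) := by
  decide +kernel

theorem bruhat_conj (c : Fin 23) (hc : c.val ≠ 0) :
    ∃ i d : ℕ, projInv * m24shift ^ c.val * projInv =
      o11_b ^ i * m24shift ^ (23 - c.val) * projInv * m24shift ^ d := by
  obtain ⟨i, hi⟩ := bruhat_key c hc
  refine ⟨i.val, (23 - c.val ^ 21 % 23) % 23, ?_⟩
  exact TActs.ext ((projInv_acts.mul (shift_acts.pow c.val)).mul projInv_acts)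
    ((((o11_b_acts.pow i.val).mul (shift_acts.pow (23 - c.val))).mul projInv_acts).mul
      (shift_acts.pow _)) hi

/-- Bruhat normal forms -/
noncomputable def F : ↥B × Option (Fin 23) → Equiv.Perm GolayPt
  | (b, none) => b.1
  | (b, some d) => b.1 * projInv * m24shift ^ d.val

theorem mem_range_F_of_B {b : Equiv.Perm GolayPt} (hb : b ∈ B) : b ∈ Set.range F :=
  ⟨(⟨b, hb⟩, none), rfl⟩

theorem mem_range_F_of_bw {b : Equiv.Perm GolayPt} (hb : b ∈ B) (d : ℕ) :
    b * projInv * m24shift ^ d ∈ Set.range F := by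
  refine ⟨(⟨b, hb⟩, some ⟨d % 23, Nat.mod_lt _ (by norm_num)⟩), ?_⟩
  show b * projInv * m24shift ^ (d % 23) = _
  have e := pow_mod_orderOf m24shift d
  rw [orderOf_shift] at e
  rw [e]

theorem B_mul_range {s x : Equiv.Perm GolayPt} (hs : s ∈ B) (hx : x ∈ Set.range F) :
    s * x ∈ Set.range F := by
  obtain ⟨⟨b, o⟩, rfl⟩ := hx
  cases o with
  | none => exact mem_range_F_of_B (B.mul_mem hs b.2)
  | some d =>
    have : s * F (b, some d) = (s * b.1) * projInv * m24shift ^ d.val := by
      show s * (b.1 * projInv * m24shift ^ d.val) = _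
      group
    rw [this]
    exact mem_range_F_of_bw (B.mul_mem hs b.2) _

theorem w_mul_range {x : Equiv.Perm GolayPt} (hx : x ∈ Set.range F) :
    projInv * x ∈ Set.range F := by
  obtain ⟨⟨b, o⟩, rfl⟩ := hx
  obtain ⟨p, hp⟩ := B_form b.2
  cases o with
  | none =>
    have : projInv * F (b, none) = o11_b ^ (10 * p.1.val) * projInv * m24shift ^ p.2.val := by
      show projInv * b.1 = _
      rw [hp, ← mul_assoc, w_mul_o11_pow]
    rw [this]
    exact mem_range_F_of_bw (B.pow_mem o11_b_mem_B _) _
  | some d =>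
    by_cases hj : p.2.val = 0
    · have : projInv * F (b, some d) = o11_b ^ (10 * p.1.val) * m24shift ^ d.val := by
        show projInv * (b.1 * projInv * m24shift ^ d.val) = _
        rw [hp, hj, pow_zero, mul_one]
        calc projInv * (o11_b ^ p.1.val * projInv * m24shift ^ d.val)
            = (projInv * o11_b ^ p.1.val) * projInv * m24shift ^ d.val := by
              simp only [mul_assoc]
          _ = o11_b ^ (10 * p.1.val) * (projInv * projInv) * m24shift ^ d.val := by
              rw [w_mul_o11_pow]; simp only [mul_assoc]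
          _ = _ := by rw [projInv_sq, mul_one]
      rw [this]
      exact mem_range_F_of_B (B.mul_mem (B.pow_mem o11_b_mem_B _) (B.pow_mem shift_mem_B _))
    · obtain ⟨i', d', hc⟩ := bruhat_conj p.2 hj
      have : projInv * F (b, some d) =
          (o11_b ^ (10 * p.1.val) * (o11_b ^ i' * m24shift ^ (23 - p.2.val))) * projInv *
            m24shift ^ (d' + d.val) := by
        show projInv * (b.1 * projInv * m24shift ^ d.val) = _
        rw [hp]
        calc projInv * (o11_b ^ p.1.val * m24shift ^ p.2.val * projInv * m24shift ^ d.val)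
            = (projInv * o11_b ^ p.1.val) * (m24shift ^ p.2.val * projInv) * m24shift ^ d.val := by
              simp only [mul_assoc]
          _ = o11_b ^ (10 * p.1.val) * (projInv * m24shift ^ p.2.val * projInv) *
                m24shift ^ d.val := by
              rw [w_mul_o11_pow]; simp only [mul_assoc]
          _ = _ := by rw [hc, pow_add]; simp only [mul_assoc]
      rw [this]
      exact mem_range_F_of_bw (B.mul_mem (B.pow_mem o11_b_mem_B _)
        (B.mul_mem (B.pow_mem o11_b_mem_B _) (B.pow_mem shift_mem_B _))) _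

theorem L_subset : ∀ g ∈ L, g ∈ Set.range F := by
  intro g hg
  unfold L at hg
  induction hg using Subgroup.closure_induction_left with
  | one => exact mem_range_F_of_B B.one_mem
  | mul_left x hx y hy ih =>
    rcases hx with rfl | rfl | rfl
    · exact B_mul_range shift_mem_B ih
    · exact B_mul_range o11_b_mem_B ih
    · exact w_mul_range ih
  | inv_mul_cancel x hx y hy ih =>
    rcases hx with rfl | rfl | rfl
    · exact B_mul_range (B.inv_mem shift_mem_B) ih
    · exact B_mul_range (B.inv_mem o11_b_mem_B) ih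
    · rw [projInv_inv]; exact w_mul_range ih

theorem shift_apply (x : ZMod 23) : m24shift (some x) = some (x + 1) := rfl

theorem shift_pow_apply (n : ℕ) (x : ZMod 23) : (m24shift ^ n) (some x) = some (x + n) := by
  induction n with
  | zero => simp
  | succ n ih =>
    rw [pow_succ', Equiv.Perm.mul_apply, ih, shift_apply]
    push_cast
    rw [add_assoc]

theorem exists_L_map (p : GolayPt) : ∃ g ∈ L, g none = p := by
  cases p with
  | none => exact ⟨1, L.one_mem, rfl⟩
  | some t =>
    refine ⟨m24shift ^ t.val * projInv,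
      L.mul_mem (L.pow_mem (B_le_L shift_mem_B) _) projInv_mem_L, ?_⟩
    rw [Equiv.Perm.mul_apply]
    have : projInv none = some 0 := rfl
    rw [this, shift_pow_apply, zero_add, ZMod.natCast_zmod_val]

theorem orbit_none_eq_univ (K : Subgroup (Equiv.Perm GolayPt)) (hLK : L ≤ K) :
    orbit K (none : GolayPt) = Set.univ := by
  ext p
  simp only [Set.mem_univ, iff_true]
  obtain ⟨g, hg, rfl⟩ := exists_L_map p
  exact ⟨⟨g, hLK hg⟩, rfl⟩

theorem card_eq_24_mul (K : Subgroup (Equiv.Perm GolayPt)) (hLK : L ≤ K) :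
    Nat.card K = 24 * Nat.card (K ⊓ stabilizer (Equiv.Perm GolayPt) (none : GolayPt) :
      Subgroup (Equiv.Perm GolayPt)) := by
  rw [card_eq_orbit_mul_card_inf_stabilizer K none, orbit_none_eq_univ K hLK, Set.ncard_univ,
    natCard_golayPt]

theorem card_L : Nat.card L = 6072 := by
  have hle : Nat.card L ≤ 6072 := by
    calc Nat.card L = (L : Set (Equiv.Perm GolayPt)).ncard := (Nat.card_coe_set_eq _).symm
      _ ≤ (Set.range F).ncard := Set.ncard_le_ncard (fun g hg => L_subset g hg) (Set.toFinite _)
      _ ≤ Nat.card (↥B × Option (Fin 23)) := by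
          rw [← Set.image_univ]
          refine (Set.ncard_image_le (Set.toFinite _)).trans ?_
          rw [Set.ncard_univ]
      _ = 6072 := by
          rw [Nat.card_prod, card_B, Nat.card_eq_fintype_card, Fintype.card_option,
            Fintype.card_fin]
  have h24 := card_eq_24_mul L le_rfl
  have hB : B ≤ L ⊓ stabilizer (Equiv.Perm GolayPt) (none : GolayPt) :=
    le_inf B_le_L (B_le_M23.trans inf_le_right)
  have hd : 253 ∣ Nat.card (L ⊓ stabilizer (Equiv.Perm GolayPt) (none : GolayPt) :
      Subgroup (Equiv.Perm GolayPt)) := card_B ▸ Subgroup.card_dvd_of_le hB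
  obtain ⟨k, hk⟩ := hd
  have hpos : 0 < Nat.card L := Nat.card_pos
  omega

/-- `L` is a maximal subgroup of `M24` -/
theorem L_maximal (K : Subgroup (Equiv.Perm GolayPt)) (hLK : L ≤ K) (hK : K ≤ M24) :
    K = L ∨ K = M24 := by
  have h24 := card_eq_24_mul K hLK
  have h1 : B ≤ K ⊓ stabilizer (Equiv.Perm GolayPt) (none : GolayPt) :=
    le_inf (B_le_L.trans hLK) (B_le_M23.trans inf_le_right)
  have h2 : K ⊓ stabilizer (Equiv.Perm GolayPt) (none : GolayPt) ≤ Spor.M23 :=
    inf_le_inf_right _ hK
  have hcM : Nat.card Spor.M23 = 10200960 := by rw [M23_eq_G23]; exact card_G23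
  rcases B_maximal _ h1 h2 with h | h
  · left
    symm
    apply Subgroup.eq_of_le_of_card_ge hLK
    have : Nat.card K = 6072 := by rw [h24, h, card_B]
    rw [this, card_L]
  · right
    apply Subgroup.eq_of_le_of_card_ge hK
    have : Nat.card K = 244823040 := by rw [h24, h, hcM]
    rw [this, card_M24]

end Cfsg.Agent.Lib.Helper28.L23
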