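import Mathlib

set_option autoImplicit false

/-!
Two general tools for maximality proofs by Sylow counting:
* `isCoatom_subgroupOf`: a subgroup `A < H` with no subgroup strictly in between is a coatom of
  the subgroup lattice of `H`;
* `sylow_count`: for `P ≤ K` of order the full power of `p` in `|K|`, the number
  `|K| / |N(P) ∩ K|` is congruent to `1` modulo `p`;
* `conj_pow_mul`: conjugating by powers of an element that normalizes `⟨x⟩`.
-/

namespace Cfsg.Agent.Lib.Helper28

theorem isCoatom_subgroupOf {G : Type*} [Group G] (A H : Subgroup G) (hAH : A ≤ H) (hne : A ≠ H)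
    (hmax : ∀ K : Subgroup G, A ≤ K → K ≤ H → K = A ∨ K = H) : IsCoatom (A.subgroupOf H) := by
  constructor
  · intro h
    rw [Subgroup.subgroupOf_eq_top] at h
    exact hne (le_antisymm hAH h)
  · intro Y hY
    have h1 : A ≤ Y.map H.subtype := by
      intro a ha
      exact ⟨⟨a, hAH ha⟩, hY.le (Subgroup.mem_subgroupOf.mpr ha), rfl⟩
    have h2 : Y.map H.subtype ≤ H := by
      rintro _ ⟨y, _, rfl⟩
      exact y.2
    have h3 : (Y.map H.subtype).subgroupOf H = Y :=
      Subgroup.comap_map_eq_self_of_injective H.subtype_injective Y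
    rcases hmax _ h1 h2 with h | h
    · exfalso
      rw [h] at h3
      exact hY.ne h3
    · rw [h] at h3
      rw [← h3]
      exact Subgroup.subgroupOf_self H

theorem sylow_count {G : Type*} [Group G] [Finite G] (p : ℕ) [Fact p.Prime] (K P : Subgroup G)
    (hPK : P ≤ K) (hcard : Nat.card P = p ^ (Nat.card K).factorization p) :
    ∃ n, n ≡ 1 [MOD p] ∧
      Nat.card K = n * Nat.card (Subgroup.normalizer (P : Set G) ⊓ K : Subgroup G) := by
  have hc : Nat.card (P.subgroupOf K) = p ^ (Nat.card K).factorization p := by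
    rw [← hcard]
    exact Nat.card_congr (Subgroup.subgroupOfEquivOfLe hPK).toEquiv
  refine ⟨Nat.card (Sylow p K), card_sylow_modEq_one p K, ?_⟩
  rw [Sylow.card_eq_index_normalizer (Sylow.ofCard (P.subgroupOf K) hc)]
  have h1 : ((Sylow.ofCard (P.subgroupOf K) hc : Sylow p K) : Set K) = ((P.subgroupOf K : Subgroup K) : Set K) := by
    exact congrArg (fun H : Subgroup K => (H : Set K)) (Sylow.coe_ofCard (P.subgroupOf K) hc)
  rw [h1, ← Subgroup.subgroupOf_normalizer_eq hPK]
  have h2 : Nat.card ((Subgroup.normalizer (P : Set G)).subgroupOf K) =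
      Nat.card (Subgroup.normalizer (P : Set G) ⊓ K : Subgroup G) := by
    rw [← Subgroup.inf_subgroupOf_right]
    exact Nat.card_congr (Subgroup.subgroupOfEquivOfLe inf_le_right).toEquiv
  rw [← h2, Subgroup.index_mul_card]

theorem conj_pow_pow {G : Type*} [Group G] (a x : G) (m : ℕ) (h : a * x * a⁻¹ = x ^ m) (j : ℕ) :
    a ^ j * x * (a ^ j)⁻¹ = x ^ (m ^ j) := by
  induction j with
  | zero => simp
  | succ j ih =>
    have : a ^ (j + 1) * x * (a ^ (j + 1))⁻¹ = a * (a ^ j * x * (a ^ j)⁻¹) * a⁻¹ := by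
      rw [pow_succ']
      group
    rw [this, ih, ← conj_pow, h, ← pow_mul, pow_succ']

theorem conj_pow_mul {G : Type*} [Group G] (a x g : G) (m n j : ℕ) (ha : a * x * a⁻¹ = x ^ m)
    (hg : g * x * g⁻¹ = x ^ n) : (a ^ j * g) * x * (a ^ j * g)⁻¹ = x ^ (m ^ j * n) := by
  have : (a ^ j * g) * x * (a ^ j * g)⁻¹ = a ^ j * (g * x * g⁻¹) * (a ^ j)⁻¹ := by group
  rw [this, hg, ← conj_pow, conj_pow_pow a x m ha j, ← pow_mul]

end Cfsg.Agent.Lib.Helper28
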