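import Cfsg.Agent.Lib.Helper28.OutM23
import Cfsg.Agent.Lib.Helper28.SylowCount

set_option autoImplicit false

/-!
# The Frobenius group `23:11` is maximal in `M23`

`B = ⟨t ↦ t + 1, t ↦ 2t⟩` is the normalizer in `M24` of `⟨t ↦ t + 1⟩` (the centralizer is known,
`t ↦ 2t` squares the shift, and `t ↦ -t` is not in `M24`); the normalizer in `M23` of
`⟨t ↦ 2t⟩` has order 55.  A subgroup `K` with `B ≤ K ≤ M23` then has `|K| = 253 m` with
`m ≡ 1 (mod 23)`, `m ∣ 40320` and `23 m` or `23 m / 5` congruent to `1` modulo `11`, which forces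
`m = 1` or `m = 40320`.
-/

namespace Cfsg.Agent.Lib.Helper28.L23

open Cfsg MulAction Cfsg.Agent.Lib.Helper28
open scoped Pointwise

/-! ### `t ↦ -t` is not in `M24` -/

/-- the table of `t ↦ -t` -/
def negTab : Fin 24 → Fin 24 :=
  ![0, 22, 21, 20, 19, 18, 17, 16, 15, 14, 13, 12, 11, 10, 9, 8, 7, 6, 5, 4, 3, 2, 1, 23]

set_option maxRecDepth 100000 in
theorem negTab_inj : TabInj negTab := by decide +kernel

/-- the permutation `t ↦ -t` -/
noncomputable def neg : Equiv.Perm GolayPt := tabPerm negTab negTab_inj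

theorem neg_acts : TActs neg negTab := tabPerm_pt _ _

set_option maxRecDepth 100000 in
theorem negTab_not_hCheck : ¬ HCheck negTab := by decide +kernel

theorem neg_not_mem : neg ∉ M24 := fun h => negTab_not_hCheck (hCheck_of_mem h neg_acts)

set_option maxRecDepth 100000 in
theorem neg_shift : neg * m24shift * neg⁻¹ = m24shift⁻¹ := by
  rw [mul_inv_eq_iff_eq_mul]
  exact TActs.ext (neg_acts.mul shift_acts) (shiftInv_acts.mul neg_acts) (by decide +kernel)

/-! ### orders -/

theorem orderOf_shift : orderOf m24shift = 23 := by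
  haveI : Fact (Nat.Prime 23) := ⟨by norm_num⟩
  exact orderOf_eq_prime shift_pow shift_ne_one

theorem orderOf_o11_b : orderOf o11_b = 11 := by
  haveI : Fact (Nat.Prime 11) := ⟨by norm_num⟩
  exact orderOf_eq_prime o11_b_pow o11_b_ne_one

set_option maxRecDepth 100000 in
theorem cubeTwist_pow : cubeTwist ^ 5 = 1 :=
  TActs.ext (cubeTwist_acts.pow 5) TActs.one (by decide +kernel)

theorem cubeTwist_ne_one : cubeTwist ≠ 1 := by
  intro h
  have h1 : Helper4.pt 1 = Helper4.pt (cubeTwistTab 1) := by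
    have h2 := cubeTwist_acts 1
    rw [h] at h2
    exact h2
  exact absurd (Helper4.pt_bijective.1 h1) (by decide)

theorem orderOf_cubeTwist : orderOf cubeTwist = 5 := by
  haveI : Fact (Nat.Prime 5) := ⟨by norm_num⟩
  exact orderOf_eq_prime cubeTwist_pow cubeTwist_ne_one

theorem fix_none_of_mem {g : Equiv.Perm GolayPt} (hg : g ∈ Spor.M23) : g none = none := hg.2

theorem pow_fix_none {g : Equiv.Perm GolayPt} (hg : g none = none) (n : ℕ) :
    (g ^ n) none = none := by
  induction n with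
  | zero => rfl
  | succ n ih => rw [pow_succ, Equiv.Perm.mul_apply, hg, ih]

/-! ### arithmetic -/

theorem arith23 : ∀ n : Fin 23, n.val ≠ 0 →
    ∃ j : Fin 11, (2 ^ j.val * n.val) % 23 = 1 ∨ (2 ^ j.val * n.val) % 23 = 22 := by
  decide

theorem arith11 : ∀ n : Fin 11, n.val ≠ 0 →
    ∃ j : Fin 5, (3 ^ j.val * n.val) % 11 = 1 ∨ (3 ^ j.val * n.val) % 11 = 10 := by
  decide

/-- exponent of a conjugate in a finite cyclic group -/
theorem exists_pow_of_conj_mem {g x : Equiv.Perm GolayPt} (p : ℕ) (hp : 0 < p)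
    (hx : orderOf x = p) (hx1 : x ≠ 1)
    (hn : g * x * g⁻¹ ∈ Subgroup.zpowers x) :
    ∃ n : Fin p, n.val ≠ 0 ∧ g * x * g⁻¹ = x ^ n.val := by
  rw [← mem_powers_iff_mem_zpowers, Submonoid.mem_powers_iff] at hn
  obtain ⟨n0, hn0⟩ := hn
  have hn1 : g * x * g⁻¹ = x ^ (n0 % p) := by
    rw [← hn0, ← hx, pow_mod_orderOf]
  refine ⟨⟨n0 % p, Nat.mod_lt _ hp⟩, ?_, hn1⟩
  intro h0
  have h0' : n0 % p = 0 := h0
  rw [h0', pow_zero] at hn1
  apply hx1
  have := congrArg (fun y => g⁻¹ * y * g) hn1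
  simpa [mul_assoc] using this

/-! ### the normalizer of the shift -/

theorem norm_shift {g : Equiv.Perm GolayPt} (hg : g ∈ M24)
    (hn : g * m24shift * g⁻¹ ∈ Subgroup.zpowers m24shift) :
    ∃ i j : ℕ, g = o11_b ^ i * m24shift ^ j := by
  obtain ⟨n, hn0, hn1⟩ := exists_pow_of_conj_mem 23 (by norm_num) orderOf_shift shift_ne_one hn
  obtain ⟨j, hj⟩ := arith23 n hn0
  have hconj := conj_pow_mul o11_b m24shift g 2 n.val j.val o11_hba hn1
  have hmod := pow_mod_orderOf m24shift (2 ^ j.val * n.val)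
  rw [orderOf_shift] at hmod
  rw [← hmod] at hconj
  have hg' : o11_b ^ j.val * g ∈ M24 := M24.mul_mem (M24.pow_mem o11_b_mem _) hg
  have hinv : (o11_b ^ j.val)⁻¹ = o11_b ^ (11 - j.val) := by
    apply inv_eq_of_mul_eq_one_right
    rw [← pow_add, Nat.add_sub_cancel' (Nat.le_of_lt j.2), o11_b_pow]
  rcases hj with hj | hj
  · rw [hj, pow_one] at hconj
    have hc : (o11_b ^ j.val * g) * m24shift = m24shift * (o11_b ^ j.val * g) :=
      mul_inv_eq_iff_eq_mul.mp hconj
    have hz := cent_shift hc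
    rw [← mem_powers_iff_mem_zpowers, Submonoid.mem_powers_iff] at hz
    obtain ⟨l, hl⟩ := hz
    refine ⟨11 - j.val, l, ?_⟩
    rw [← hinv, hl]
    group
  · exfalso
    rw [hj] at hconj
    have h22 : m24shift ^ 22 = m24shift⁻¹ := by
      apply eq_inv_of_mul_eq_one_left
      rw [← pow_succ, shift_pow]
    rw [h22] at hconj
    have hc : (neg * (o11_b ^ j.val * g)) * m24shift = m24shift * (neg * (o11_b ^ j.val * g)) := by
      have h1 : (neg * (o11_b ^ j.val * g)) * m24shift * (neg * (o11_b ^ j.val * g))⁻¹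
          = m24shift := by
        have : (neg * (o11_b ^ j.val * g)) * m24shift * (neg * (o11_b ^ j.val * g))⁻¹
            = neg * ((o11_b ^ j.val * g) * m24shift * (o11_b ^ j.val * g)⁻¹) * neg⁻¹ := by group
        rw [this, hconj]
        have h2 : neg * m24shift⁻¹ * neg⁻¹ = (neg * m24shift * neg⁻¹)⁻¹ := by group
        rw [h2, neg_shift, inv_inv]
      exact mul_inv_eq_iff_eq_mul.mp h1
    have hz := cent_shift hc
    have hz' : neg * (o11_b ^ j.val * g) ∈ M24 :=
      (Subgroup.zpowers_le.mpr m24shift_mem_M24) hz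
    apply neg_not_mem
    have : neg = (neg * (o11_b ^ j.val * g)) * (o11_b ^ j.val * g)⁻¹ := by group
    rw [this]
    exact M24.mul_mem hz' (M24.inv_mem hg')

/-! ### the normalizer of `t ↦ 2t` in `M23` -/

theorem norm_o11 {g : Equiv.Perm GolayPt} (hg : g ∈ M24) (hfix : g none = none)
    (hn : g * o11_b * g⁻¹ ∈ Subgroup.zpowers o11_b) :
    ∃ i j : ℕ, g = cubeTwist ^ i * o11_b ^ j := by
  obtain ⟨n, hn0, hn1⟩ := exists_pow_of_conj_mem 11 (by norm_num) orderOf_o11_b o11_b_ne_one hn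
  obtain ⟨j, hj⟩ := arith11 n hn0
  have hconj := conj_pow_mul cubeTwist o11_b g 3 n.val j.val o11_hdb hn1
  have hmod := pow_mod_orderOf o11_b (3 ^ j.val * n.val)
  rw [orderOf_o11_b] at hmod
  rw [← hmod] at hconj
  have hg' : cubeTwist ^ j.val * g ∈ M24 := M24.mul_mem (M24.pow_mem cubeTwist_mem_M24 _) hg
  have hinv : (cubeTwist ^ j.val)⁻¹ = cubeTwist ^ (5 - j.val) := by
    apply inv_eq_of_mul_eq_one_right
    rw [← pow_add, Nat.add_sub_cancel' (Nat.le_of_lt j.2), cubeTwist_pow]
  rcases hj with hj | hj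
  · rw [hj, pow_one] at hconj
    have hc : (cubeTwist ^ j.val * g) * o11_b = o11_b * (cubeTwist ^ j.val * g) :=
      mul_inv_eq_iff_eq_mul.mp hconj
    have hz := cent_o11_b hg' hc
    rw [← mem_powers_iff_mem_zpowers, Submonoid.mem_powers_iff] at hz
    obtain ⟨l, hl⟩ := hz
    refine ⟨5 - j.val, l, ?_⟩
    rw [← hinv, hl]
    group
  · exfalso
    rw [hj] at hconj
    have hc : (projInv * (cubeTwist ^ j.val * g)) * o11_b
        = o11_b * (projInv * (cubeTwist ^ j.val * g)) := by
      have h1 : (projInv * (cubeTwist ^ j.val * g)) * o11_b * (projInv * (cubeTwist ^ j.val * g))⁻¹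
          = o11_b := by
        have : (projInv * (cubeTwist ^ j.val * g)) * o11_b * (projInv * (cubeTwist ^ j.val * g))⁻¹
            = projInv * ((cubeTwist ^ j.val * g) * o11_b * (cubeTwist ^ j.val * g)⁻¹) * projInv⁻¹ := by
          group
        rw [this, hconj, ← conj_pow, o11_hcb, ← pow_mul]
        have h100 := pow_mod_orderOf o11_b (10 * 10)
        rw [orderOf_o11_b] at h100
        rw [← h100]
        norm_num
      exact mul_inv_eq_iff_eq_mul.mp h1
    have hz := cent_o11_b (M24.mul_mem projInv_mem_M24 hg') hc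
    rw [← mem_powers_iff_mem_zpowers, Submonoid.mem_powers_iff] at hz
    obtain ⟨l, hl⟩ := hz
    have h1 : (projInv * (cubeTwist ^ j.val * g)) none = none := by
      rw [← hl]
      exact pow_fix_none (fix_none_of_mem o11_b_mem_M23) l
    have h2 : (cubeTwist ^ j.val * g) none = none := by
      rw [Equiv.Perm.mul_apply, hfix]
      exact pow_fix_none (fix_none_of_mem cubeTwist_mem_M23) _
    rw [Equiv.Perm.mul_apply, h2] at h1
    exact absurd h1 (by decide)

end Cfsg.Agent.Lib.Helper28.L23
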