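import Cfsg.Agent.Lib.Helper28.TabPerm

set_option autoImplicit false

/-!
Normal forms in `Cfsg.M24` along the base `∞, 0, 1, 2, 3, 5, 4`: an element fixing the first `k`
base points is a product of transversal words of the levels `k, …, 6`.  In particular the
elements fixing the first six, five or four base points are listed by explicit words.
-/

namespace Cfsg.Agent.Lib.Helper28

open Cfsg MulAction
open scoped Pointwise

theorem wordPerm_append (w w' : List (Fin 5)) :
    wordPerm (w ++ w') = wordPerm w * wordPerm w' := by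
  unfold wordPerm
  rw [List.map_append, List.prod_append]

theorem tr_mem_baseStab (k : Fin 7) (p : Fin 24) (hp : (m24omega k).testBit p.val = true) :
    wordPerm (m24tr k p) ∈ baseStab M24 k.val := by
  obtain ⟨h1, _⟩ := m24tr_spec k p hp
  refine ⟨wordPerm_mem_M24 _, fun j hj => ?_⟩
  rw [wordPerm_pt, h1 j hj]

/-- peeling off the transversal word of level `k` -/
theorem exists_tr (k : Fin 7) {g : Equiv.Perm GolayPt} (hg : g ∈ baseStab M24 k.val) :
    ∃ p : Fin 24, (m24omega k).testBit p.val = true ∧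
      (wordPerm (m24tr k p))⁻¹ * g ∈ baseStab M24 (k.val + 1) := by
  have horb : g (Helper4.pt (m24base k)) ∈
      orbit (baseStab M24 k.val) (Helper4.pt (m24base k)) := ⟨⟨g, hg⟩, rfl⟩
  rw [orbit_baseStab m24gens_closure_le le_rfl k] at horb
  obtain ⟨p, hp, hpg⟩ := horb
  refine ⟨p, hp, ?_⟩
  obtain ⟨_, h2⟩ := m24tr_spec k p hp
  rw [baseStab_succ, Subgroup.mem_inf]
  refine ⟨Subgroup.mul_mem _ (Subgroup.inv_mem _ (tr_mem_baseStab k p hp)) hg, ?_⟩
  rw [MulAction.mem_stabilizer_iff]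
  show ((wordPerm (m24tr k p))⁻¹ * g) (Helper4.pt (m24base k)) = Helper4.pt (m24base k)
  rw [Equiv.Perm.mul_apply, ← hpg, Equiv.Perm.inv_eq_iff_eq, wordPerm_pt, h2]

/-- the sixteen elements of `M24` fixing `∞, 0, 1, 2, 3, 5` -/
theorem mem_baseStab_six {g : Equiv.Perm GolayPt} (hg : g ∈ baseStab M24 6) :
    ∃ q : Fin 24, (m24omega 6).testBit q.val = true ∧ g = wordPerm (m24tr 6 q) := by
  obtain ⟨q, hq, h⟩ := exists_tr 6 hg
  refine ⟨q, hq, ?_⟩
  have h7 : (wordPerm (m24tr 6 q))⁻¹ * g ∈ baseStab M24 7 := h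
  rw [baseStab_seven le_rfl, Subgroup.mem_bot] at h7
  exact (inv_mul_eq_one.mp h7).symm

/-- the forty-eight elements of `M24` fixing `∞, 0, 1, 2, 3` -/
theorem mem_baseStab_five {g : Equiv.Perm GolayPt} (hg : g ∈ baseStab M24 5) :
    ∃ p q : Fin 24, (m24omega 5).testBit p.val = true ∧ (m24omega 6).testBit q.val = true ∧
      g = wordPerm (m24tr 5 p ++ m24tr 6 q) := by
  obtain ⟨p, hp, h⟩ := exists_tr 5 hg
  obtain ⟨q, hq, h6⟩ := mem_baseStab_six h
  refine ⟨p, q, hp, hq, ?_⟩
  rw [wordPerm_append, ← h6]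
  simp

/-- the 960 elements of `M24` fixing `∞, 0, 1, 2` -/
theorem mem_baseStab_four {g : Equiv.Perm GolayPt} (hg : g ∈ baseStab M24 4) :
    ∃ r p q : Fin 24, (m24omega 4).testBit r.val = true ∧ (m24omega 5).testBit p.val = true ∧
      (m24omega 6).testBit q.val = true ∧
      g = wordPerm (m24tr 4 r ++ (m24tr 5 p ++ m24tr 6 q)) := by
  obtain ⟨r, hr, h⟩ := exists_tr 4 hg
  obtain ⟨p, q, hp, hq, h5⟩ := mem_baseStab_five h
  refine ⟨r, p, q, hr, hp, hq, ?_⟩
  rw [wordPerm_append, ← h5]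
  simp

/-- membership in `baseStab M24 k` from fixing the enumerated base points -/
theorem mem_baseStab_of_fix {g : Equiv.Perm GolayPt} (hg : g ∈ M24) (k : ℕ)
    (h : ∀ j : Fin 7, j.val < k → g (Helper4.pt (m24base j)) = Helper4.pt (m24base j)) :
    g ∈ baseStab M24 k := ⟨hg, h⟩

end Cfsg.Agent.Lib.Helper28
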