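import Cfsg.Agent.Lib.Helper28.MaskChain
import Cfsg.Agent.Lib.Helper28.M24Normal
import Cfsg.Agent.Lib.Helper28.M24Act

set_option autoImplicit false

/-!
The stabilizer `M12` in `Cfsg.M24` of the base dodecad `[0, 1, 2, 3, 4, 5, 9, 11, 12, 15, 16, 23]` (`23 = ∞`):
generators by tables, a stabilizer chain on five points of the dodecad, order `95040`,
sharp 5-transitivity on the dodecad, and the chain of the point stabilizer `M11` on the
complementary dodecad.
-/

namespace Cfsg.Agent.Lib.Helper28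

open Cfsg MulAction
open scoped Pointwise

/-- the mask of the base dodecad -/
def d0mask : ℕ := 8493631

set_option maxRecDepth 100000 in
theorem d0mask_facts : IsCodeMask d0mask ∧
    (Finset.univ.filter fun a : Fin 24 => d0mask.testBit a.val = true).card = 12 := by
  decide +kernel

/-- the base dodecad -/
def baseDodecad : Finset GolayPt := maskSet d0mask

theorem baseDodecad_mem : baseDodecad ∈ dodecads :=
  maskSet_mem_dodecads _ d0mask_facts.1 d0mask_facts.2

/-- tables of two generators of the dodecad stabilizer and of their inverses -/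
def m12tabs : Fin 4 → Fin 24 → Fin 24 := ![
  ![5, 4, 23, 9, 1, 2, 19, 10, 14, 12, 22, 11, 3, 7, 13, 16, 0, 17, 21, 20, 6, 18, 8, 15],
  ![16, 4, 5, 12, 1, 0, 20, 13, 22, 3, 7, 11, 9, 14, 8, 23, 15, 17, 21, 6, 19, 18, 10, 2],
  ![23, 4, 1, 11, 12, 9, 19, 10, 18, 0, 13, 3, 15, 21, 7, 16, 5, 14, 6, 17, 22, 8, 20, 2],
  ![9, 2, 23, 11, 1, 16, 18, 14, 21, 5, 7, 3, 4, 10, 17, 12, 15, 19, 8, 6, 22, 13, 20, 0]]

set_option maxRecDepth 100000 in
theorem m12tabs_inj : ∀ i, TabInj (m12tabs i) := by decide +kernel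

set_option maxRecDepth 100000 in
set_option maxHeartbeats 4000000 in
theorem m12tabs_check : ∀ i, TabCheck (m12tabs i) := by decide +kernel

set_option maxRecDepth 100000 in
theorem m12tabs_d0 : ∀ (i : Fin 4) (a : Fin 24), d0mask.testBit a.val = true →
    d0mask.testBit (m12tabs i a).val = true := by decide +kernel

/-- the dodecad stabilizer, as a subgroup of the symmetric group -/
def M12 : Subgroup (Equiv.Perm GolayPt) := M24 ⊓ stabilizer (Equiv.Perm GolayPt) baseDodecad

theorem mem_M12 {g : Equiv.Perm GolayPt} : g ∈ M12 ↔ g ∈ M24 ∧ g • baseDodecad = baseDodecad := by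
  unfold M12
  rw [Subgroup.mem_inf]
  exact Iff.rfl

/-- words in the generators of `M12` -/
noncomputable def m12word (w : List (Fin 4)) : Equiv.Perm GolayPt := twordPerm m12tabs m12tabs_inj w

theorem m12gen_mem (i : Fin 4) : tabPerm (m12tabs i) (m12tabs_inj i) ∈ M12 := by
  rw [mem_M12]
  exact ⟨tabPerm_mem_M24 _ _ (m12tabs_check i),
    smul_maskSet_of_table (m12tabs i) (tabPerm_pt _ _) d0mask (m12tabs_d0 i)⟩

theorem m12word_mem (w : List (Fin 4)) : m12word w ∈ M12 :=
  twordPerm_mem m12tabs m12tabs_inj M12 m12gen_mem w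

theorem m12word_pt (w : List (Fin 4)) (a : Fin 24) :
    m12word w (Helper4.pt a) = Helper4.pt (twordTab m12tabs w a) :=
  twordPerm_pt m12tabs m12tabs_inj w a

/-- base of `M12`: five points of the dodecad -/
def m12base : Fin 5 → Fin 24 := ![23, 0, 1, 2, 3]

/-- basic orbits of `M12` -/
def m12om : Fin 5 → ℕ := ![8493631, 105023, 105022, 105020, 105016]

/-- transversal words of `M12` -/
def m12tr : Fin 5 → Fin 24 → List (Fin 4) := ![
  ![[3],
    [2, 1],
    [1],
    [0, 3, 0],
    [3, 3, 0],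
    [1, 1],
    [],
    [],
    [],
    [3, 3],
    [],
    [2, 0, 3, 0],
    [3, 0],
    [],
    [],
    [0],
    [0, 0],
    [],
    [],
    [],
    [],
    [],
    [],
    []],
  ![[],
    [0, 0, 2, 0, 0],
    [2, 0, 0, 0],
    [1, 1, 3, 1, 1],
    [2, 0, 3, 0, 3],
    [2, 1, 2, 2, 0],
    [],
    [],
    [],
    [2, 1, 1, 2],
    [],
    [3, 0, 0, 3],
    [1, 1, 2, 0],
    [],
    [],
    [3, 1],
    [3, 0, 2, 2, 0],
    [],
    [],
    [],
    [],
    [],
    [],
    []],
  ![[],
    [],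
    [0, 2, 2, 2, 2, 2, 0, 0],
    [3, 1, 2, 0, 2, 0],
    [1, 3, 0, 0, 2, 1, 2, 0, 0],
    [1, 2, 0, 2, 0, 3],
    [],
    [],
    [],
    [0, 2, 2, 0, 2, 0],
    [],
    [2, 2, 1, 2, 0, 2, 2],
    [2, 2, 0, 0, 3, 0],
    [],
    [],
    [1, 3, 1, 3, 3, 1],
    [3, 3, 1, 3, 0, 3, 3],
    [],
    [],
    [],
    [],
    [],
    [],
    []],
  ![[],
    [],
    [],
    [0, 2, 0, 2],
    [2, 2, 2, 2, 1, 2, 1, 3, 0],
    [0, 0, 2, 2, 0, 3, 0, 2, 0, 0],
    [],
    [],
    [],
    [3, 1, 3, 1, 3, 1, 3, 1],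
    [],
    [1, 1, 2, 1, 2, 1, 1, 3],
    [3, 1, 3, 1],
    [],
    [],
    [1, 3, 1, 2, 1, 2, 0, 2, 1],
    [0, 3, 0, 2, 2, 0, 2, 2, 0],
    [],
    [],
    [],
    [],
    [],
    [],
    []],
  ![[],
    [],
    [],
    [],
    [3, 1, 3, 3, 1, 3, 0, 3, 0, 2, 0],
    [3, 1, 1, 2, 1, 1, 3, 0, 0, 0],
    [],
    [],
    [],
    [1, 3, 3, 0, 3, 3, 1, 2, 1, 2, 0, 0],
    [],
    [2, 1, 2, 0, 2, 0, 3, 3],
    [2, 2, 1, 3, 1, 3, 0, 3],
    [],
    [],
    [2, 0, 0, 2, 2, 0, 2, 2, 1, 3, 0, 0],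
    [1, 3, 1, 2, 1, 2, 0, 2, 2, 0, 2],
    [],
    [],
    [],
    [],
    [],
    [],
    []]]

set_option maxRecDepth 100000 in
set_option maxHeartbeats 4000000 in
theorem m12tr_spec : ∀ (k : Fin 5) (p : Fin 24), (m12om k).testBit p.val = true →
    (∀ j : Fin 5, j < k → twordTab m12tabs (m12tr k p) (m12base j) = m12base j) ∧
      twordTab m12tabs (m12tr k p) (m12base k) = p := by
  decide +kernel

set_option maxRecDepth 100000 in
theorem m12om_upper : ∀ (k : Fin 5) (c : Fin 24),
    d0mask.testBit c.val = d0mask.testBit (m12base k).val →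
    (∀ j : Fin 5, j < k → c ≠ m12base j) → (m12om k).testBit c.val = true := by
  decide +kernel

set_option maxRecDepth 100000 in
theorem m12om_card : ∀ k : Fin 5,
    (Finset.univ.filter fun a : Fin 24 => (m12om k).testBit a.val = true).card =
      (![12, 11, 10, 9, 8] : Fin 5 → ℕ) k := by
  decide +kernel

set_option maxRecDepth 100000 in
theorem m12om_mem : ∀ (k : Fin 5) (p : Fin 24), (m12om k).testBit p.val = true ↔
    (d0mask.testBit p.val = true ∧ ∀ j : Fin 5, j < k → p ≠ m12base j) := by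
  decide +kernel

set_option maxRecDepth 100000 in
theorem m12base_eq : ∀ j : Fin 5, m12base j = m24base (Fin.castLE (by norm_num) j) := by
  decide

set_option maxRecDepth 100000 in
theorem m12base_inj : ∀ i j : Fin 5, m12base i = m12base j → i = j := by decide

set_option maxRecDepth 100000 in
set_option maxHeartbeats 4000000 in
theorem m12_rigid_tab : ∀ p q : Fin 24, (m24omega 5).testBit p.val = true →
    (m24omega 6).testBit q.val = true →
    (∀ a : Fin 24, d0mask.testBit a.val = true →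
      d0mask.testBit (wordTab (m24tr 5 p ++ m24tr 6 q) a).val = true) →
    ∀ a : Fin 24, wordTab (m24tr 5 p ++ m24tr 6 q) a = a := by
  decide +kernel

/-- a table form of invariance of a mask set -/
theorem table_of_smul_maskSet {g : Equiv.Perm GolayPt} (t : Fin 24 → Fin 24)
    (ht : ∀ a, g (Helper4.pt a) = Helper4.pt (t a)) (m : ℕ) (hinv : g • maskSet m = maskSet m)
    (a : Fin 24) (ha : m.testBit a.val = true) : m.testBit (t a).val = true := by
  have h := testBit_apply_of_smul_eq hinv a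
  rw [ht, ptInv_pt] at h
  rw [h]; exact ha

/-- sharpness: an element of `M12` fixing the five base points is the identity -/
theorem M12_eq_one_of_fix {g : Equiv.Perm GolayPt} (hg : g ∈ M12)
    (hfix : ∀ j : Fin 5, g (Helper4.pt (m12base j)) = Helper4.pt (m12base j)) : g = 1 := by
  rw [mem_M12] at hg
  have h5 : g ∈ baseStab M24 5 := by
    refine ⟨hg.1, fun j hj => ?_⟩
    have := hfix ⟨j.val, hj⟩
    rw [m12base_eq] at this
    exact this
  obtain ⟨p, q, hp, hq, rfl⟩ := mem_baseStab_five h5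
  apply perm_eq_one_of_table _ (wordPerm_pt _)
  apply m12_rigid_tab p q hp hq
  intro a ha
  exact table_of_smul_maskSet _ (wordPerm_pt _) d0mask hg.2 a ha

theorem M12_level (k : Fin 5) (a : Fin 24) (ha : (m12om k).testBit a.val = true) :
    ∃ g ∈ M12, (∀ j : Fin 5, j < k → g (Helper4.pt (m12base j)) = Helper4.pt (m12base j)) ∧
      g (Helper4.pt (m12base k)) = Helper4.pt a := by
  obtain ⟨h1, h2⟩ := m12tr_spec k a ha
  refine ⟨m12word (m12tr k a), m12word_mem _, fun j hj => ?_, ?_⟩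
  · rw [m12word_pt, h1 j hj]
  · rw [m12word_pt, h2]

/-- the order of the dodecad stabilizer -/
theorem card_M12 : Nat.card M12 = 95040 := by
  have h := card_of_maskChain M12 m12base m12om ![12, 11, 10, 9, 8] ?_ M12_level m12om_card
    (fun g hg hfix => M12_eq_one_of_fix hg hfix)
  · rw [h]; decide
  · intro k g hg hfix
    apply m12om_upper
    · exact testBit_apply_of_smul_eq (mem_M12.mp hg).2 _
    · intro j hj hcon
      have h1 : g (Helper4.pt (m12base k)) = Helper4.pt (m12base j) := by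
        rw [← hcon, pt_ptInv]
      have h2 := g.injective (h1.trans (hfix j hj).symm)
      have h3 := m12base_inj _ _ (Helper4.pt_bijective.1 h2)
      rw [h3] at hj
      exact lt_irrefl _ hj

/-- `M12` is 5-transitive on the base dodecad -/
theorem M12_exists_map (x : Fin 5 ↪ GolayPt) (hx : ∀ i, x i ∈ baseDodecad) :
    ∃ g ∈ M12, ∀ i, g (Helper4.pt (m12base i)) = x i := by
  apply exists_map_base_on M12 (baseDodecad : Set GolayPt) _ 5 (fun i => Helper4.pt (m12base i)) _ x hx
  · intro g hg y hy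
    exact (apply_mem_of_smul_eq (mem_M12.mp hg).2 y).mpr hy
  · intro k p hp hne
    obtain ⟨a, rfl⟩ := Helper4.pt_bijective.2 p
    have ha : (m12om k).testBit a.val = true := by
      rw [m12om_mem]
      refine ⟨?_, fun j hj hcon => hne j hj (by rw [hcon])⟩
      have : Helper4.pt a ∈ maskSet d0mask := hp
      rwa [pt_mem_maskSet] at this
    exact M12_level k a ha

/-! ### The point stabilizer `M11` acting on the complementary dodecad -/

/-- base on the complement -/
def m11base : Fin 3 → Fin 24 := ![6, 7, 8]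

/-- the complementary dodecad, then without the first base points -/
def m11om : Fin 3 → ℕ := ![8283584, 8283520, 8283392]

/-- transversal words for `M11` on the complement -/
def m11tr : Fin 3 → Fin 24 → List (Fin 4) := ![
  ![[],
    [],
    [],
    [],
    [],
    [],
    [],
    [3, 1, 3, 1],
    [0, 2, 0, 2],
    [],
    [1, 3, 0, 0],
    [],
    [],
    [2, 1, 2, 0, 0],
    [2, 0, 2, 0],
    [],
    [],
    [1, 1, 2, 0],
    [2, 1, 2, 2, 0],
    [2, 0, 0, 0],
    [0, 2],
    [0, 0, 0, 3],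
    [3, 1],
    []],
  ![[],
    [],
    [],
    [],
    [],
    [],
    [],
    [],
    [2, 0, 3, 0, 3, 0, 2],
    [],
    [0, 2, 1, 1, 2, 1, 2, 0],
    [],
    [],
    [3, 3, 1, 1, 2, 2],
    [0, 2, 2, 1, 1, 2],
    [],
    [],
    [1, 3, 1, 2, 2, 1, 2],
    [2, 2, 2, 0, 3],
    [2, 1, 3, 3, 3],
    [3, 0, 0, 3, 3, 1],
    [1, 2, 0, 2, 2, 0, 0],
    [3, 1, 1, 2, 2, 0, 2, 1],
    []],
  ![[],
    [],
    [],
    [],
    [],
    [],
    [],
    [],
    [],
    [],
    [3, 1, 2, 2, 0, 0, 3, 0],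
    [],
    [],
    [1, 1, 2, 2, 0, 2, 1, 2],
    [1, 2, 1, 1, 2, 2, 0, 0],
    [],
    [],
    [0, 2, 1, 2, 2, 1, 3, 1, 2, 1],
    [1, 2, 1, 1, 3, 3, 0, 2],
    [1, 1, 3, 3, 0, 0, 3, 0],
    [3, 0, 3, 1, 3, 3, 0, 0],
    [0, 3, 1, 2, 1, 3, 3, 0],
    [3, 1, 2, 2, 2, 2, 0, 0],
    []]]

set_option maxRecDepth 100000 in
set_option maxHeartbeats 4000000 in
theorem m11tr_spec : ∀ (k : Fin 3) (p : Fin 24), (m11om k).testBit p.val = true →
    twordTab m12tabs (m11tr k p) 23 = 23 ∧
    (∀ j : Fin 3, j < k → twordTab m12tabs (m11tr k p) (m11base j) = m11base j) ∧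
      twordTab m12tabs (m11tr k p) (m11base k) = p := by
  decide +kernel

set_option maxRecDepth 100000 in
theorem m11om_mem : ∀ (k : Fin 3) (p : Fin 24), (m11om k).testBit p.val = true ↔
    (d0mask.testBit p.val = false ∧ ∀ j : Fin 3, j < k → p ≠ m11base j) := by
  decide +kernel

end Cfsg.Agent.Lib.Helper28
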