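import Cfsg.Agent.Lib.Helper28.OutMathieu
import Cfsg.Agent.Lib.Helper28.M24Simple
import Cfsg.Prelude.Def_Spor_Mathieu

set_option autoImplicit false

/-!
`M23` is generated by `t ↦ t + 1`, `t ↦ 2t` and `cubeTwist`; every automorphism of `M23` is inner.
-/

namespace Cfsg.Agent.Lib.Helper28

open Cfsg MulAction
open scoped Pointwise

/-- the table of `t ↦ t / 2` -/
def o11_binvtab : Fin 24 → Fin 24 :=
  ![0, 12, 1, 13, 2, 14, 3, 15, 4, 16, 5, 17, 6, 18, 7, 19, 8, 20, 9, 21, 10, 22, 11, 23]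

/-- the six letters: shift, `t ↦ 2t`, `cubeTwist` and their inverses -/
def o23_tabs : Fin 6 → Fin 24 → Fin 24 :=
  ![shiftTab, shiftInvTab, o11_btab, o11_binvtab, cubeTwistTab, cubeTwistInvTab]

set_option maxRecDepth 100000 in
theorem o23_tabs_inj : ∀ i, TabInj (o23_tabs i) := by decide +kernel

set_option maxRecDepth 100000 in
set_option maxHeartbeats 4000000 in
theorem o23_tabs_check : ∀ i, TabCheck (o23_tabs i) := by decide +kernel

set_option maxRecDepth 100000 in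
theorem o23_tabs_fix : ∀ i : Fin 6, o23_tabs i 23 = 23 := by decide +kernel

theorem o23_gen_mem (i : Fin 6) : tabPerm (o23_tabs i) (o23_tabs_inj i) ∈ G23 := by
  rw [mem_G23]
  refine ⟨tabPerm_mem_M24 _ _ (o23_tabs_check i), ?_⟩
  rw [tabPerm_pt, o23_tabs_fix]

def o23_tr : Fin 6 → Fin 24 → List (Fin 6) := ![
  ![[],
    [0],
    [0, 0],
    [0, 0, 0],
    [2, 0, 0],
    [1, 5, 0],
    [5, 0],
    [0, 5, 0],
    [4, 3, 0],
    [5, 3, 0],
    [1, 3, 1],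
    [3, 1],
    [3, 0],
    [0, 3, 0],
    [4, 1],
    [0, 4, 1],
    [5, 0, 3, 0],
    [1, 4, 0],
    [4, 0],
    [5, 1],
    [1, 1, 1],
    [1, 1],
    [1],
    []],
  ![[],
    [],
    [2],
    [3, 5],
    [2, 2],
    [1, 4, 4, 2, 0],
    [5],
    [1, 4, 3, 3, 0],
    [4, 3],
    [5, 3],
    [2, 1, 4, 4, 2, 0],
    [1, 3, 4, 2, 0, 0],
    [3],
    [2, 4],
    [1, 1, 4, 2, 2, 0],
    [1, 2, 2, 5, 0],
    [2, 4, 3],
    [1, 3, 3, 5, 0, 0],
    [4],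
    [3, 1, 2, 2, 5, 0],
    [0, 3, 3, 0, 4, 0],
    [0, 4, 2, 1, 1],
    [1, 1, 4, 2, 0, 0],
    []],
  ![[],
    [],
    [],
    [0, 4, 2, 2, 1],
    [5, 1, 5, 1, 2, 2, 1],
    [0, 2, 5, 5, 1],
    [4, 4, 2],
    [1, 5, 1, 5, 1, 3, 3],
    [4, 3, 3],
    [3, 5, 5],
    [1, 2, 1, 4, 1, 1, 4, 0],
    [2, 1, 4, 4, 0, 0, 5],
    [2, 2, 0, 4, 0, 4, 0],
    [4, 1, 4, 2, 0, 2, 0],
    [0, 3, 3, 5, 1],
    [1, 1, 4, 0, 3, 5, 0],
    [2, 2, 5],
    [0, 4, 4, 3, 1],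
    [1, 4, 2, 1, 5, 0, 0],
    [3, 0, 4, 0, 4, 0, 5],
    [4, 4, 1, 4, 4, 0, 0],
    [1, 4, 2, 4, 0, 0, 0],
    [1, 5, 5, 1, 1, 4, 0, 0],
    []],
  ![[],
    [],
    [],
    [],
    [5, 1, 5, 1, 5, 1],
    [4, 1, 4, 4, 1, 2, 1, 4, 1],
    [5, 5, 0, 0, 4, 0, 5, 0, 0],
    [2, 2, 1, 4, 4, 0, 0, 4],
    [4, 1, 1, 5, 0, 2, 4, 1, 3],
    [4, 0, 4, 3, 3, 1, 2, 5, 0, 0],
    [1, 1, 4, 0, 0, 4, 2, 0, 0],
    [0, 3, 0, 5, 2, 0, 2, 0, 0],
    [1, 4, 3, 0, 4, 3, 3, 1, 4],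
    [1, 1, 3, 5, 1, 1, 5, 0, 0],
    [1, 2, 1, 5, 1, 5, 0, 5, 0],
    [5, 1, 1, 5, 5, 0, 3, 3],
    [3, 1, 2, 2, 5, 0, 5, 3, 5],
    [1, 4, 1, 4, 0, 4, 0, 3, 0],
    [2, 1, 1, 4, 1, 5, 2, 1],
    [0, 3, 4, 0, 5, 0, 0, 3],
    [3, 1, 4, 4, 2, 0, 2, 4, 2],
    [0, 4, 4, 3, 0, 4, 0, 5, 2, 0],
    [4, 0, 5, 1, 5, 3, 0, 5, 0],
    []],
  ![[],
    [],
    [],
    [],
    [],
    [],
    [],
    [],
    [],
    [],
    [],
    [],
    [],
    [],
    [1, 4, 4, 1, 5, 0, 4, 0, 0, 0, 0],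
    [],
    [],
    [1, 3, 1, 4, 0, 4, 0, 3, 4, 2, 0],
    [],
    [],
    [],
    [],
    [],
    []],
  ![[],
    [],
    [],
    [],
    [],
    [],
    [5, 5, 1, 4, 1, 2, 4, 4, 0, 4, 1],
    [5, 1, 4, 1, 5, 1, 5, 3, 1, 4, 0, 0, 0],
    [3, 1, 4, 0, 0, 0, 5, 1, 4, 4, 0],
    [5, 1, 1, 5, 2, 0, 0, 4, 4, 0, 0],
    [2, 5, 0, 5, 1, 4, 3, 1, 2, 4, 1, 5, 1],
    [5, 2, 0, 5, 2, 1, 4, 3, 0, 3, 4, 4],
    [1, 5, 5, 1, 3, 5, 0, 4, 2, 0, 5, 5],
    [3, 3, 0, 5, 0, 4, 0, 5, 1, 4, 4, 3, 0],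
    [],
    [3, 5, 0, 4, 0, 4, 0, 4, 4, 2],
    [1, 4, 4, 3, 0, 4, 0, 0, 0, 5],
    [],
    [0, 0, 5, 5, 1, 4, 0, 0, 5, 3, 0, 5, 0],
    [1, 5, 0, 4, 1, 1, 1, 5, 1, 2, 5, 0],
    [0, 0, 4, 1, 3, 5, 0, 2, 2, 5, 1, 4],
    [3, 5, 1, 4, 2, 1, 4, 1, 5, 1, 4, 4],
    [4, 2, 4, 0, 4, 2, 4, 4, 0, 4, 2, 0, 5],
    []]]

set_option maxRecDepth 1000000 in
set_option maxHeartbeats 4000000 in
theorem o23_tr_spec : ∀ (k : Fin 6) (p : Fin 24), (m23om k).testBit p.val = true →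
    (∀ j : Fin 6, j < k → twordTab o23_tabs (o23_tr k p) (m23b j) = m23b j) ∧
      twordTab o23_tabs (o23_tr k p) (m23b k) = p := by
  decide +kernel

theorem G23_le_closure_o23 :
    G23 ≤ Subgroup.closure (Set.range fun i => tabPerm (o23_tabs i) (o23_tabs_inj i)) := by
  apply le_closure_of_chain G23 o23_tabs o23_tabs_inj o23_gen_mem m23b m23om
    ![23, 22, 21, 20, 3, 16] G23_upper o23_tr o23_tr_spec m23om_card
    (fun g hg hfix => G23_rigid hg hfix)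
  rw [card_G23]; decide

set_option maxRecDepth 100000 in
theorem o23_tab_inv : (∀ a, shiftTab (shiftInvTab a) = a) ∧ (∀ a, o11_btab (o11_binvtab a) = a) ∧
    (∀ a, cubeTwistTab (cubeTwistInvTab a) = a) := by
  decide +kernel

theorem M23_eq_G23 : Spor.M23 = G23 := rfl

theorem o23_letter (i : Fin 6) : tabPerm (o23_tabs i) (o23_tabs_inj i) ∈
    Subgroup.closure (insert m24shift (insert o11_b (Set.range ![cubeTwist]))) := by
  have h1 : m24shift ∈ Subgroup.closure (insert m24shift (insert o11_b (Set.range ![cubeTwist]))) :=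
    Subgroup.subset_closure (Set.mem_insert _ _)
  have h2 : o11_b ∈ Subgroup.closure (insert m24shift (insert o11_b (Set.range ![cubeTwist]))) :=
    Subgroup.subset_closure (Set.mem_insert_of_mem _ (Set.mem_insert _ _))
  have h3 : cubeTwist ∈
      Subgroup.closure (insert m24shift (insert o11_b (Set.range ![cubeTwist]))) :=
    Subgroup.subset_closure (Set.mem_insert_of_mem _ (Set.mem_insert_of_mem _ ⟨0, rfl⟩))
  have hT := tActs_tabPerm (o23_tabs i) (o23_tabs_inj i)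
  fin_cases i
  · rw [TActs.ext hT shift_acts (fun _ => rfl)]
    exact h1
  · rw [TActs.ext hT shiftInv_acts (fun _ => rfl)]
    exact Subgroup.inv_mem _ h1
  · rw [TActs.ext hT o11_b_acts (fun _ => rfl)]
    exact h2
  · rw [TActs.ext hT (o11_b_acts.inv o11_binvtab o23_tab_inv.2.1) (fun _ => rfl)]
    exact Subgroup.inv_mem _ h2
  · rw [TActs.ext hT cubeTwist_acts (fun _ => rfl)]
    exact h3
  · rw [TActs.ext hT (cubeTwist_acts.inv cubeTwistInvTab o23_tab_inv.2.2) (fun _ => rfl)]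
    exact Subgroup.inv_mem _ h3

theorem shift_mem_M23 : m24shift ∈ Spor.M23 := by
  rw [M23_eq_G23, mem_G23]
  exact ⟨m24shift_mem_M24, shift_acts 23⟩

theorem o11_b_mem_M23 : o11_b ∈ Spor.M23 := by
  rw [M23_eq_G23, mem_G23]
  exact ⟨o11_b_mem, o11_b_acts 23⟩

theorem cubeTwist_mem_M23 : cubeTwist ∈ Spor.M23 := by
  rw [M23_eq_G23, mem_G23]
  exact ⟨cubeTwist_mem_M24, cubeTwist_acts 23⟩

theorem o23_gen :
    Subgroup.closure (insert m24shift (insert o11_b (Set.range ![cubeTwist]))) = Spor.M23 := by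
  apply le_antisymm
  · rw [Subgroup.closure_le]
    intro g hg
    simp only [Set.mem_insert_iff, Set.mem_range] at hg
    rcases hg with rfl | rfl | ⟨k, rfl⟩
    · exact shift_mem_M23
    · exact o11_b_mem_M23
    · fin_cases k
      exact cubeTwist_mem_M23
  · rw [M23_eq_G23]
    refine G23_le_closure_o23.trans ?_
    rw [Subgroup.closure_le]
    rintro _ ⟨i, rfl⟩
    exact o23_letter i

/-- the relation `(a d²)⁵ = 1` -/
def o23_rels : List (List (Fin 2)) := [[0, 1, 1, 0, 1, 1, 0, 1, 1, 0, 1, 1, 0, 1, 1]]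

def o23_etab : Fin 1 → Fin 24 → Fin 24 := ![cubeTwistTab]

set_option maxRecDepth 100000 in
theorem o23_rel_hold : ∀ w ∈ o23_rels, ∀ p : Fin 24,
    w.foldr (fun k y => (Fin.cons shiftTab o23_etab : Fin (1 + 1) → Fin 24 → Fin 24) k y) p = p := by
  decide +kernel

set_option maxRecDepth 1000000 in
set_option maxHeartbeats 4000000 in
theorem o23_rel_check : ∀ (ε : Bool) (i0 : Fin 11),
    (∀ w ∈ o23_rels, ∀ p : Fin 24,
      w.foldr (fun k y => (Fin.cons (if ε then shiftTab else shiftInvTab)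
        (fun k x => o23_etab k (o11_btab^[(![i0.val] : Fin 1 → ℕ) k] x)) :
          Fin (1 + 1) → Fin 24 → Fin 24) k y) p = p) →
      ε = true ∧ i0 = 0 := by
  decide +kernel

/-- every automorphism of `M23` is inner -/
theorem out_M23 :
    Nat.card (MulAut ↥Spor.M23 ⧸ (MulAut.conj : ↥Spor.M23 →* MulAut ↥Spor.M23).range) = 1 := by
  apply out_card_one_of_data Spor.M23 inf_le_left shift_mem_M23 o11_b_mem_M23 ![cubeTwist]
    (fun k => by
      fin_cases k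
      exact cubeTwist_mem_M23)
    o23_etab
    (fun k => by
      fin_cases k
      exact cubeTwist_acts)
    ![3]
    (fun k => by
      fin_cases k
      exact o11_hdb)
    (factorization_eq_one_of_card (m := 443520) (by norm_num)
      (by rw [M23_eq_G23, card_G23]) (by norm_num))
    o23_gen o23_rels o23_rel_hold
  intro ε i hi hw
  have hieq : i = ![(⟨i 0, hi 0⟩ : Fin 11).val] := by
    funext k
    fin_cases k
    rfl
  rw [hieq] at hw
  obtain ⟨h1, h2⟩ := o23_rel_check ε ⟨i 0, hi 0⟩ hw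
  refine ⟨h1, fun k => ?_⟩
  fin_cases k
  exact congrArg Fin.val h2

end Cfsg.Agent.Lib.Helper28
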