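import Cfsg.Agent.Lib.Helper28.Ree
import Cfsg.Agent.Lib.Helper28.ElemRepFacts
import Cfsg.Agent.Lib.Helper28.OutM23
import Cfsg.Agent.Lib.Helper28.FusionM22

set_option autoImplicit false

/-!
# `(p, q, r)`-generation of `M23`

* negative results through Ree's bound for the action on the 23 points;
* positive results through straight-line programs expressing the standard generators of `M23`
  in a given pair of elements.
-/

namespace Cfsg.Agent.Lib.Helper28.M23Gen

open Cfsg MulAction Cfsg.Agent.Lib.Helper28
open scoped Pointwise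

/-! ### the action on 23 points -/

/-- the 23 points other than `∞` -/
abbrev Pts : Type := {a : GolayPt // a ≠ none}

theorem fix_none (g : Spor.M23) : g.1 none = none := g.2.2

instance : MulAction Spor.M23 Pts where
  smul g a := ⟨g.1 a.1, fun h => a.2 (g.1.injective (h.trans (fix_none g).symm))⟩
  one_smul _ := Subtype.ext rfl
  mul_smul _ _ _ := Subtype.ext rfl

theorem smul_val (g : Spor.M23) (a : Pts) : (g • a).1 = g.1 a.1 := rfl

theorem card_Pts : Fintype.card Pts = 23 := by decide

instance : Nonempty Pts := ⟨⟨some 0, by decide⟩⟩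

theorem pt23 : Helper4.pt 23 = (none : GolayPt) := by decide

instance : IsPretransitive Spor.M23 Pts where
  exists_smul_eq a b := by
    by_cases hab : a = b
    · exact ⟨1, by rw [hab, one_smul]⟩
    · have ha : a.1 ∈ D23 := by show a.1 ≠ Helper4.pt 23; rw [pt23]; exact a.2
      have hb : b.1 ∈ D23 := by show b.1 ≠ Helper4.pt 23; rw [pt23]; exact b.2
      have hne : a.1 ≠ b.1 := fun h => hab (Subtype.ext h)
      obtain ⟨g, hg, hga, _⟩ := G23_twoTransOn a.1 ha b.1 hb hne b.1 hb a.1 ha (Ne.symm hne)
      refine ⟨⟨g, by rw [M23_eq_G23]; exact hg⟩, ?_⟩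
      exact Subtype.ext hga

/-- fixed points on the 23 points versus fixed points on the 24 points -/
theorem card_fixed (g : Spor.M23) :
    Fintype.card (fixedBy Pts g) + 1 = (Finset.univ.filter fun p : GolayPt => g.1 p = p).card := by
  classical
  have hmem : (none : GolayPt) ∈ (Finset.univ.filter fun p : GolayPt => g.1 p = p) := by
    rw [Finset.mem_filter]; exact ⟨Finset.mem_univ _, fix_none g⟩
  have h1 : Fintype.card (fixedBy Pts g)
      = ((Finset.univ.filter fun p : GolayPt => g.1 p = p).erase none).card := by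
    rw [← Fintype.card_coe]
    apply Fintype.card_congr
    refine
      { toFun := fun a => ⟨a.1.1, ?_⟩
        invFun := fun p => ⟨⟨p.1, ?_⟩, ?_⟩
        left_inv := fun a => rfl
        right_inv := fun p => rfl }
    · rw [Finset.mem_erase, Finset.mem_filter]
      refine ⟨a.1.2, Finset.mem_univ _, ?_⟩
      have := a.2
      rw [mem_fixedBy] at this
      exact congrArg Subtype.val this
    · exact (Finset.mem_erase.mp p.2).1
    · rw [mem_fixedBy]
      apply Subtype.ext
      exact (Finset.mem_filter.mp (Finset.mem_erase.mp p.2).2).2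
  rw [h1, Finset.card_erase_of_mem hmem]
  have : 0 < (Finset.univ.filter fun p : GolayPt => g.1 p = p).card := Finset.card_pos.mpr ⟨_, hmem⟩
  omega

theorem fix_two (g : Spor.M23) (h2 : orderOf g = 2) :
    (Finset.univ.filter fun p : GolayPt => g.1 p = p).card = 8 := by
  have h2' : orderOf g.1 = 2 := by rw [Subgroup.orderOf_coe]; exact h2
  obtain ⟨k, _, r, hr, hconj⟩ := involution_conj g.2.1 h2'
  have hfix : rep2 r (k none) = k none := by
    rw [← hconj]
    have hk : k⁻¹ (k none) = none := by simp
    rw [Equiv.Perm.mul_apply, Equiv.Perm.mul_apply, hk, fix_none]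
  have hr0 : r = 0 := by
    rcases Nat.lt_succ_iff_lt_or_eq.mp hr with h | h
    · omega
    · exfalso
      rw [h] at hfix
      exact rep2_fix1 _ hfix
  rw [hr0] at hconj
  have := fix_conj k g.1
  rw [hconj] at this
  have hc := congrArg Finset.card this
  rw [Finset.card_smul_finset] at hc
  rw [← hc]
  exact rep2_fix0.2

theorem fix_three (g : Spor.M23) (h3 : orderOf g = 3) :
    (Finset.univ.filter fun p : GolayPt => g.1 p = p).card = 6 := by
  have h3' : orderOf g.1 = 3 := by rw [Subgroup.orderOf_coe]; exact h3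
  obtain ⟨k, _, r, hr, hconj⟩ := order_three_conj g.2.1 h3'
  have hfix : rep3 r (k none) = k none := by
    rw [← hconj]
    have hk : k⁻¹ (k none) = none := by simp
    rw [Equiv.Perm.mul_apply, Equiv.Perm.mul_apply, hk, fix_none]
  have hr0 : r = 0 := by
    rcases Nat.lt_succ_iff_lt_or_eq.mp hr with h | h
    · omega
    · exfalso
      rw [h] at hfix
      exact rep3_fix1 _ hfix
  rw [hr0] at hconj
  have := fix_conj k g.1
  rw [hconj] at this
  have hc := congrArg Finset.card this
  rw [Finset.card_smul_finset] at hc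
  rw [← hc]
  exact rep3_fix0

theorem orb_two (g : Spor.M23) (h : orderOf g = 2) : Ree.orbCount (Ω := Pts) g = 15 := by
  have h1 := Ree.orbCount_mul_prime (Ω := Pts) g 2 Nat.prime_two h
  have h2 := card_fixed g
  rw [fix_two g h] at h2
  rw [card_Pts] at h1
  omega

theorem orb_three (g : Spor.M23) (h : orderOf g = 3) : Ree.orbCount (Ω := Pts) g = 11 := by
  have h1 := Ree.orbCount_mul_prime (Ω := Pts) g 3 Nat.prime_three h
  have h2 := card_fixed g
  rw [fix_three g h] at h2
  rw [card_Pts] at h1
  omega

theorem orb_five (g : Spor.M23) (h : orderOf g = 5) : 7 ≤ Ree.orbCount (Ω := Pts) g := by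
  have h1 := Ree.orbCount_mul_prime (Ω := Pts) g 5 (by norm_num) h
  rw [card_Pts] at h1
  omega

theorem orb_seven (g : Spor.M23) (h : orderOf g = 7) : 5 ≤ Ree.orbCount (Ω := Pts) g := by
  have h1 := Ree.orbCount_mul_prime (Ω := Pts) g 7 (by norm_num) h
  rw [card_Pts] at h1
  omega

/-- the negative half: the excluded triples are not generating triples -/
theorem neg_case (p q r : ℕ) (hr : r.Prime) (hqr : q ≤ r) (x y z : Spor.M23)
    (hx : orderOf x = p) (hy : orderOf y = q) (hz : orderOf z = r) (hxyz : x * y * z = 1)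
    (hgen : Subgroup.closure {x, y} = (⊤ : Subgroup Spor.M23)) :
    ¬ ((p = 2 ∧ q = 3) ∨ (p = 2 ∧ q = 5 ∧ r = 5) ∨ (p = 2 ∧ q = 5 ∧ r = 7) ∨
      (p = 3 ∧ q = 3 ∧ r ≤ 7)) := by
  have hree := Ree.ree (Ω := Pts) x y z hxyz hgen
  rw [card_Pts] at hree
  rintro (⟨rfl, rfl⟩ | ⟨rfl, rfl, rfl⟩ | ⟨rfl, rfl, rfl⟩ | ⟨rfl, rfl, hr7⟩)
  · have h1 := orb_two x hx
    have h2 := orb_three y hy
    omega
  · have h1 := orb_two x hx
    have h2 := orb_five y hy
    have h3 := orb_five z hz
    omega
  · have h1 := orb_two x hx
    have h2 := orb_five y hy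
    have h3 := orb_seven z hz
    omega
  · have h1 := orb_three x hx
    have h2 := orb_three y hy
    have hcases : r = 3 ∨ r = 5 ∨ r = 7 := by
      interval_cases r
      · left; rfl
      · exact absurd hr (by norm_num)
      · right; left; rfl
      · exact absurd hr (by norm_num)
      · right; right; rfl
    rcases hcases with rfl | rfl | rfl
    · have h3 := orb_three z hz
      omega
    · have h3 := orb_five z hz
      omega
    · have h3 := orb_seven z hz
      omega

end Cfsg.Agent.Lib.Helper28.M23Gen
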