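import Cfsg.Agent.Lib.Helper28.M23Slp

set_option autoImplicit false
set_option Elab.async false

/-!
Generated data: generating pairs of `M23` for the 40 admissible prime triples, each with a
straight-line program producing the standard generators.
-/

namespace Cfsg.Agent.Lib.Helper28.M23Gen

set_option maxRecDepth 1000000 in
theorem posOK_2_5_11 : PosOK 2 5 11
    [0, 1, 9, 12, 5, 4, 14, 8, 7, 2, 20, 16, 3, 13, 6, 15, 11, 17, 18, 19, 10, 22, 21, 23]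
    [18, 17, 7, 3, 12, 22, 19, 16, 14, 2, 4, 1, 6, 9, 15, 0, 13, 5, 8, 10, 20, 21, 11, 23]
    [(0, 0), (2, 0), (2, 1), (3, 1), (5, 1), (5, 2), (7, 2), (7, 3), (8, 3), (9, 2), (10, 2), (11, 2), (12, 2), (14, 2), (15, 2), (15, 3), (16, 3), (17, 1), (18, 1), (20, 1), (21, 1), (21, 21), (0, 23), (1, 23), (1, 24), (1, 26), (2, 26), (2, 28), (3, 28), (3, 29), (1, 31), (2, 31), (2, 33), (2, 33), (2, 35), (3, 35), (3, 36), (3, 37), (1, 38), (1, 39), (0, 40), (0, 42), (42, 32), (9, 0), (44, 24), (17, 0), (7, 42), (1, 3), (1, 4), (3, 3), (3, 4), (7, 4), (6, 5), (7, 5), (7, 6), (8, 6), (12, 6), (10, 7), (14, 7), (13, 6), (14, 6), (17, 6), (16, 6), (17, 3), (17, 0), (21, 21), (22, 19), (21, 23), (21, 24), (22, 23), (4, 23), (4, 27), (5, 26), (5, 29), (6, 27), (6, 31), (7, 30), (6, 30), (6, 34), (7, 33), (8, 33), (4, 37), (5, 36), (37, 31), (38, 0), (18, 27), (1, 1), (1, 2), (3, 2), (3, 3),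 (5, 3), (5, 4), (6, 3), (8, 3), (8, 4), (10, 4), (10, 5), (12, 5), (13, 4), (13, 5), (14, 4), (16, 3), (17, 2), (18, 2), (19, 19), (20, 19), (20, 21), (21, 21), (3, 23), (3, 24), (4, 24), (4, 26), (5, 26), (5, 28), (5, 29), (5, 30), (6, 30), (5, 32), (3, 33), (4, 33), (4, 34), (1, 36), (8, 29), (38, 34), (1, 1), (2, 1), (2, 2), (4, 2), (4, 3), (5, 3), (7, 3), (7, 4), (8, 4), (10, 4), (10, 5), (12, 5), (12, 5), (14, 4), (14, 4), (16, 4), (17, 2), (18, 18), (19, 18), (19, 19), (2, 20), (2, 22), (2, 23), (3, 23), (3, 25), (4, 25), (4, 26), (4, 27), (4, 29), (5, 29), (5, 31), (5, 31), (5, 32), (5, 34), (35, 29), (7, 0), (10, 29), (37, 33), (5, 0), (3, 3), (3, 4), (2, 5), (6, 5), (6, 6), (5, 7), (6, 6), (9, 6), (8, 7), (11, 6), (10, 5), (14, 5), (15, 15), (16, 15), (17, 14), (17, 18), (18, 18), (19, 17), (18, 21), (19, 21), (20, 20), (7, 23), (7, 25), (5, 25), (24, 16), (3, 0), (0,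 0), (1, 1), (181, 130), (0, 101), (0, 64), (0, 24), (176, 141), (0, 72), (0, 36), (198, 140), (0, 105), (0, 74), (0, 34), (0, 12), (200, 143), (0, 113), (0, 82), (0, 33), (0, 18), (14, 38), (12, 48), (8, 20), (4, 22)] := by
  decide +kernel

set_option maxRecDepth 1000000 in
theorem posOK_2_5_23 : PosOK 2 5 23
    [0, 3, 7, 1, 4, 9, 13, 2, 8, 5, 10, 19, 12, 6, 16, 21, 14, 18, 17, 11, 20, 15, 22, 23]
    [20, 0, 11, 5, 16, 15, 8, 7, 19, 21, 2, 4, 1, 13, 12, 22, 10, 17, 3, 9, 14, 6, 18, 23]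
    [(0, 0), (2, 0), (2, 1), (3, 1), (4, 1), (5, 1), (7, 1), (8, 1), (8, 2), (9, 2), (11, 1), (11, 2), (13, 2), (13, 3), (14, 1), (15, 1), (16, 1), (17, 1), (19, 1), (19, 2), (21, 2), (21, 22), (22, 22), (1, 23), (1, 24), (1, 26), (2, 26), (2, 28), (3, 28), (2, 29), (2, 30), (1, 32), (2, 32), (2, 33), (2, 34), (1, 36), (2, 36), (1, 37), (1, 39), (2, 39), (2, 40), (0, 42), (43, 27), (13, 0), (44, 23), (19, 0), (2, 0), (1, 1), (2, 1), (5, 1), (4, 2), (7, 2), (6, 3), (9, 3), (10, 3), (9, 4), (12, 4), (13, 4), (12, 5), (13, 5), (16, 5), (15, 6), (18, 5), (17, 2), (20, 2), (21, 21), (22, 20), (21, 23), (22, 22), (3, 25), (3, 26), (4, 25), (4, 26), (1, 29), (2, 28), (2, 31), (3, 30), (3, 33), (4, 32), (4, 35), (4, 36), (4, 37), (4, 36), (1, 37), (40, 35), (12, 0), (40, 32), (4, 0), (2, 2), (1, 3), (4, 2), (3, 3), (6, 3), (5, 4), (8, 4), (7, 5), (10, 5), (11, 4), (12, 4), (11, 5), (12,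 5), (15, 5), (14, 6), (17, 6), (16, 7), (17, 6), (20, 20), (21, 19), (20, 22), (21, 21), (3, 24), (4, 23), (4, 24), (4, 27), (4, 28), (5, 27), (5, 30), (6, 29), (6, 32), (7, 31), (4, 34), (5, 33), (3, 34), (2, 35), (38, 21), (17, 0), (40, 27), (11, 0), (40, 29), (6, 0), (4, 4), (3, 5), (6, 4), (5, 5), (8, 4), (9, 4), (6, 5), (9, 5), (8, 6), (11, 6), (10, 7), (15, 6), (12, 7), (13, 5), (14, 5), (19, 4), (20, 20), (21, 19), (22, 18), (21, 23), (20, 24), (4, 25), (4, 24), (4, 27), (5, 24), (5, 27), (5, 30), (5, 29), (6, 28), (2, 33), (2, 30), (2, 33), (36, 25), (12, 0), (13, 30), (37, 30), (14, 0), (2, 3), (4, 3), (4, 4), (3, 5), (7, 4), (8, 4), (6, 5), (10, 4), (8, 5), (9, 5), (10, 3), (11, 3), (15, 14), (16, 13), (16, 17), (17, 17), (18, 16), (4, 20), (5, 20), (5, 22), (5, 22), (5, 21), (5, 22), (4, 23), (3, 24), (25, 28), (0, 0), (1, 1), (190, 147), (0, 94), (0, 60), (0, 30), (0,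 6), (184, 148), (0, 96), (0, 68), (0, 24), (0, 10), (187, 142), (0, 102), (0, 61), (0, 39), (0, 15), (209, 166), (0, 106), (0, 72), (0, 43), (0, 20), (16, 22), (12, 22), (8, 23), (4, 24)] := by
  decide +kernel

set_option maxRecDepth 1000000 in
theorem posOK_2_7_7 : PosOK 2 7 7
    [4, 16, 2, 3, 0, 5, 6, 14, 9, 8, 11, 10, 18, 13, 7, 20, 1, 19, 12, 17, 15, 21, 22, 23]
    [0, 16, 6, 22, 15, 21, 4, 18, 2, 17, 13, 20, 3, 1, 9, 5, 14, 10, 12, 19, 7, 8, 11, 23]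
    [(0, 1), (2, 0), (2, 1), (3, 1), (4, 1), (6, 1), (6, 2), (7, 2), (8, 2), (10, 2), (10, 2), (11, 2), (12, 2), (13, 2), (15, 2), (15, 3), (16, 3), (18, 1), (18, 2), (19, 0), (21, 0), (22, 21), (0, 22), (0, 23), (0, 25), (1, 25), (1, 26), (1, 27), (1, 29), (2, 29), (2, 30), (2, 31), (2, 33), (1, 33), (1, 34), (1, 36), (2, 36), (1, 37), (1, 38), (1, 40), (1, 40), (0, 42), (42, 24), (11, 0), (45, 37), (4, 0), (2, 2), (1, 3), (4, 2), (5, 2), (4, 3), (7, 3), (8, 3), (9, 3), (10, 3), (9, 4), (12, 4), (11, 5), (14, 5), (13, 4), (16, 4), (15, 5), (18, 5), (19, 4), (18, 3), (21, 21), (22, 20), (21, 23), (2, 24), (3, 23), (3, 26), (4, 25), (4, 26), (4, 29), (5, 28), (5, 31), (6, 30), (6, 33), (7, 32), (7, 35), (6, 34), (5, 37), (5, 38), (4, 39), (38, 40), (4, 0), (40, 23), (43, 0), (42, 31), (5, 0), (4, 4), (3, 5), (6, 4), (5, 5), (4, 6), (9, 5), (8, 6), (9, 6), (12, 6), (11, 7), (12,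 7), (11, 8), (14, 8), (13, 9), (18, 9), (15, 8), (18, 7), (21, 21), (22, 20), (23, 19), (22, 24), (23, 21), (22, 24), (23, 23), (6, 26), (7, 25), (7, 28), (6, 27), (6, 30), (6, 29), (6, 30), (5, 35), (4, 36), (3, 37), (38, 23), (11, 0), (38, 33), (15, 0), (42, 26), (13, 0), (4, 4), (3, 5), (2, 6), (7, 5), (6, 6), (5, 7), (10, 6), (7, 7), (10, 6), (9, 7), (10, 7), (15, 7), (12, 8), (13, 8), (14, 8), (15, 8), (20, 20), (21, 19), (22, 18), (21, 21), (22, 20), (21, 25), (22, 24), (5, 27), (6, 26), (6, 29), (7, 28), (8, 27), (8, 32), (6, 29), (6, 34), (4, 35), (36, 24), (7, 0), (38, 21), (17, 0), (18, 36), (3, 3), (4, 2), (3, 3), (3, 4), (5, 4), (6, 4), (6, 5), (10, 5), (11, 5), (12, 5), (11, 6), (14, 6), (15, 15), (14, 16), (15, 15), (16, 15), (16, 17), (4, 18), (5, 18), (5, 22), (5, 23), (5, 24), (6, 23), (6, 26), (24, 16), (5, 0), (0, 0), (1, 1), (175, 146), (0, 91), (0, 53), (0,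 34), (0, 6), (183, 144), (0, 94), (0, 63), (0, 10), (197, 156), (0, 99), (0, 64), (0, 33), (202, 144), (0, 107), (0, 84), (0, 40), (13, 19), (10, 20), (7, 40), (4, 44)] := by
  decide +kernel

set_option maxRecDepth 1000000 in
theorem posOK_2_7_11 : PosOK 2 7 11
    [11, 1, 18, 16, 14, 5, 19, 10, 8, 21, 7, 0, 12, 13, 4, 20, 3, 17, 2, 6, 15, 9, 22, 23]
    [11, 7, 5, 20, 15, 13, 6, 3, 0, 17, 8, 18, 19, 9, 22, 2, 16, 4, 14, 1, 21, 12, 10, 23]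
    [(0, 1), (2, 0), (2, 1), (3, 1), (5, 1), (5, 2), (6, 2), (7, 2), (8, 2), (9, 2), (11, 2), (12, 2), (12, 3), (14, 3), (14, 4), (15, 3), (16, 2), (18, 1), (18, 1), (20, 0), (20, 1), (21, 21), (0, 23), (1, 23), (1, 24), (1, 25), (1, 26), (1, 28), (2, 28), (2, 30), (3, 30), (3, 31), (3, 33), (2, 33), (2, 34), (2, 35), (2, 36), (2, 37), (1, 38), (1, 39), (1, 41), (42, 37), (2, 0), (44, 36), (6, 0), (2, 2), (1, 3), (2, 2), (5, 2), (4, 3), (7, 3), (6, 4), (9, 4), (10, 4), (9, 5), (12, 4), (13, 4), (12, 5), (15, 5), (14, 4), (15, 4), (16, 4), (19, 1), (18, 2), (21, 21), (22, 20), (21, 23), (22, 22), (3, 25), (4, 24), (4, 25), (3, 28), (4, 27), (3, 30), (4, 29), (4, 30), (4, 33), (4, 34), (4, 33), (3, 36), (4, 35), (2, 36), (2, 39), (12, 32), (39, 30), (18, 0), (2, 2), (1, 3), (2, 1), (5, 1), (4, 2), (7, 2), (6, 3), (9, 3), (8, 4), (9, 4), (12, 4), (13, 4), (12, 5), (15, 4), (16, 3),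 (17, 3), (18, 3), (17, 4), (20, 20), (19, 21), (20, 20), (2, 23), (3, 22), (3, 25), (2, 26), (3, 25), (3, 28), (4, 27), (4, 30), (4, 31), (5, 30), (4, 33), (4, 32), (1, 35), (2, 34), (2, 37), (38, 36), (37, 20), (9, 0), (2, 2), (1, 3), (4, 2), (3, 3), (4, 3), (7, 3), (6, 4), (7, 4), (10, 4), (9, 5), (12, 5), (11, 6), (14, 6), (15, 5), (16, 3), (15, 4), (16, 2), (19, 19), (20, 18), (19, 21), (20, 20), (3, 21), (3, 22), (3, 25), (3, 24), (3, 27), (3, 28), (4, 27), (4, 28), (4, 29), (4, 32), (4, 33), (5, 32), (5, 35), (36, 30), (1, 0), (36, 25), (5, 0), (7, 33), (3, 3), (2, 4), (2, 5), (6, 4), (5, 5), (5, 6), (7, 5), (8, 5), (8, 6), (10, 6), (10, 3), (14, 3), (12, 3), (16, 16), (17, 15), (16, 18), (17, 17), (18, 17), (18, 19), (5, 20), (5, 21), (6, 21), (6, 25), (6, 26), (6, 24), (3, 14), (0, 0), (1, 1), (171, 137), (0, 93), (0, 57), (0, 25), (190, 133), (0, 107), (0, 61), (0, 22),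 (0, 10), (200, 146), (0, 105), (0, 33), (0, 14), (202, 159), (0, 115), (0, 37), (13, 38), (9, 19), (6, 20), (4, 41)] := by
  decide +kernel

set_option maxRecDepth 1000000 in
theorem posOK_2_7_23 : PosOK 2 7 23
    [12, 14, 21, 19, 22, 11, 18, 7, 8, 16, 10, 5, 0, 13, 1, 15, 9, 17, 6, 3, 20, 2, 4, 23]
    [14, 8, 7, 12, 2, 15, 6, 1, 21, 3, 5, 20, 19, 0, 22, 13, 16, 11, 4, 17, 9, 18, 10, 23]
    [(0, 1), (2, 1), (2, 2), (4, 2), (4, 3), (5, 3), (7, 3), (7, 4), (8, 3), (9, 3), (10, 3), (11, 3), (12, 3), (13, 3), (14, 3), (15, 3), (16, 3), (18, 3), (18, 2), (20, 2), (21, 20), (21, 21), (1, 23), (2, 23), (2, 24), (1, 26), (2, 26), (2, 28), (3, 28), (1, 29), (1, 30), (0, 32), (1, 32), (1, 33), (1, 35), (1, 36), (2, 36), (2, 37), (1, 39), (2, 39), (41, 35), (11, 0), (42, 35), (4, 0), (2, 2), (1, 3), (4, 2), (3, 3), (4, 3), (5, 3), (8, 2), (7, 3), (10, 3), (9, 4), (10, 4), (13, 4), (12,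 4), (15, 4), (16, 4), (15, 2), (18, 2), (17, 3), (18, 1), (21, 21), (22, 20), (21, 23), (22, 22), (3, 23), (3, 24), (2, 27), (3, 26), (3, 29), (4, 28), (4, 31), (4, 32), (4, 33), (5, 32), (4, 35), (3, 36), (2, 37), (3, 36), (2, 37), (40, 38), (39, 0), (5, 26), (1, 1), (1, 2), (3, 1), (3, 2), (5, 2), (5, 3), (7, 3), (7, 4), (9, 4), (10, 4), (11, 4), (11, 5), (13, 4), (13, 5), (15, 5), (16, 5), (17, 3), (17, 2), (19, 2), (20, 20), (21, 20), (1, 22), (2, 22), (2, 24), (3, 24), (3, 26), (3, 27), (4, 27), (4, 29), (4, 30), (4, 30), (4, 32), (4, 33), (4, 34), (5, 34), (4, 35), (4, 37), (4, 38), (39, 26), (3, 0), (40, 24), (3, 0), (2, 2), (1, 3), (4, 2), (3, 3), (6, 3), (5, 4), (8, 3), (7, 4), (10, 3), (11, 3), (10, 4), (13, 4), (14, 4), (15, 3), (14, 4), (17, 4), (18, 4), (19, 19), (20, 18), (19, 21), (20, 20), (3, 23), (3, 24), (4, 23), (4, 26), (5, 25), (5, 28), (5, 27), (5, 28), (4,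 31), (3, 32), (3, 33), (4, 32), (3, 33), (34, 22), (6, 0), (36, 28), (39, 0), (40, 24), (19, 0), (4, 4), (3, 5), (2, 6), (7, 5), (6, 6), (5, 7), (6, 6), (9, 6), (8, 7), (11, 7), (12, 7), (13, 4), (16, 16), (17, 15), (16, 18), (17, 17), (18, 16), (17, 21), (18, 18), (6, 21), (6, 22), (7, 21), (4, 24), (4, 25), (24, 22), (9, 0), (0, 0), (1, 1), (193, 148), (0, 54), (0, 21), (195, 140), (0, 113), (0, 64), (0, 36), (0, 9), (189, 159), (0, 116), (0, 74), (0, 31), (207, 160), (0, 113), (0, 79), (0, 38), (0, 17), (15, 36), (11, 20), (8, 39), (4, 21)] := by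
  decide +kernel

set_option maxRecDepth 1000000 in
theorem posOK_2_11_11 : PosOK 2 11 11
    [0, 18, 12, 22, 4, 16, 7, 6, 8, 20, 21, 11, 2, 13, 14, 19, 5, 17, 1, 15, 9, 10, 3, 23]
    [17, 1, 20, 10, 6, 12, 7, 9, 0, 14, 22, 21, 8, 11, 3, 4, 13, 18, 16, 5, 15, 19, 2, 23]
    [(0, 0), (2, 0), (2, 1), (4, 0), (4, 1), (5, 1), (6, 1), (8, 1), (8, 2), (9, 2), (10, 2), (12, 1), (12, 2), (14, 2), (14, 3), (15, 3), (16, 2), (17, 2), (19, 2), (19, 1), (21, 0), (21, 21), (0, 23), (1, 23), (1, 24), (1, 26), (2, 26), (2, 28), (3, 28), (3, 29), (3, 31), (4, 31), (4, 32), (3, 34), (4, 34), (4, 35), (4, 36), (4, 37), (1, 38), (1, 39), (0, 41), (0, 41), (42, 33), (15, 24), (44, 25), (16, 0), (3, 2), (3, 3), (2, 4), (6, 3), (6, 4), (5, 5), (6, 5), (7, 5), (11, 5), (11, 6), (12, 6), (14, 5), (12, 6), (16, 6), (16, 7), (17, 4), (16, 4), (19, 3), (21, 21), (22, 21), (23, 20), (23, 23), (24, 22), (23,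 25), (24, 24), (6, 28), (7, 26), (6, 29), (6, 28), (6, 31), (7, 30), (7, 34), (7, 35), (6, 35), (4, 34), (3, 35), (38, 20), (2, 0), (11, 31), (1, 1), (1, 2), (3, 2), (3, 3), (5, 3), (5, 4), (7, 3), (7, 4), (9, 4), (9, 5), (11, 5), (11, 6), (12, 6), (14, 6), (15, 6), (16, 3), (17, 3), (18, 3), (19, 19), (20, 19), (20, 20), (2, 22), (3, 22), (3, 23), (3, 25), (4, 25), (4, 27), (5, 27), (5, 29), (6, 29), (6, 31), (7, 31), (7, 33), (6, 33), (5, 34), (5, 35), (6, 21), (38, 24), (13, 0), (40, 23), (9, 0), (4, 4), (3, 5), (2, 6), (7, 5), (4, 6), (9, 5), (6, 6), (11, 6), (8, 7), (9, 7), (14, 7), (13, 8), (14, 8), (17, 8), (14, 7), (19, 7), (20, 20), (21, 19), (20, 22), (21, 19), (20, 24), (21, 21), (5, 26), (6, 23), (6, 28), (7, 25), (7, 28), (6, 27), (6, 28), (5, 33), (6, 30), (3, 31), (34, 28), (3, 0), (9, 31), (35, 29), (15, 0), (3, 3), (3, 4), (5, 4), (3, 5), (6, 4), (7, 4), (9, 4),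 (7, 5), (11, 5), (11, 5), (13, 4), (11, 5), (15, 15), (16, 15), (17, 14), (17, 18), (18, 16), (4, 19), (4, 21), (5, 19), (5, 22), (5, 24), (5, 22), (5, 26), (5, 27), (27, 16), (9, 0), (0, 0), (1, 1), (190, 141), (0, 90), (0, 64), (0, 27), (180, 147), (0, 102), (0, 74), (0, 29), (0, 10), (200, 157), (0, 118), (0, 77), (0, 43), (0, 15), (189, 163), (0, 121), (0, 75), (0, 41), (0, 20), (16, 43), (12, 22), (8, 23), (4, 24)] := by
  decide +kernel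

set_option maxRecDepth 1000000 in
theorem posOK_2_11_23 : PosOK 2 11 23
    [5, 1, 12, 19, 8, 0, 6, 7, 4, 9, 14, 21, 2, 13, 10, 15, 17, 16, 20, 3, 18, 11, 22, 23]
    [14, 0, 17, 20, 2, 19, 7, 15, 12, 8, 13, 22, 16, 1, 6, 4, 3, 10, 18, 21, 11, 9, 5, 23]
    [(0, 1), (2, 1), (2, 2), (4, 2), (4, 3), (5, 3), (6, 3), (7, 3), (9, 3), (9, 4), (10, 4), (11, 4), (13, 4), (13, 4), (14, 4), (15, 3), (16, 1), (17, 1), (18, 1), (19, 1), (21, 20), (21, 21), (1, 22), (1, 23), (1, 25), (2, 25), (2, 27), (3, 27), (3, 28), (3, 30), (4, 30), (3, 32), (4, 32), (1, 33), (1, 34), (1, 35), (1, 36), (1, 37), (1, 38), (0, 39), (41, 38), (14, 0), (43, 38), (14, 0), (2, 2), (1, 3), (2, 1), (5, 1), (6, 1), (5, 2), (8, 2), (9, 2), (8, 3), (11, 3), (10, 4), (13, 4), (12, 5), (15, 5), (16, 5), (15, 6), (16, 6), (17, 5), (18, 1), (21, 1), (22, 22), (23, 21), (1, 24), (2, 23), (2, 26), (3, 25), (3, 28), (4,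 27), (4, 30), (4, 31), (4, 32), (5, 31), (5, 34), (6, 33), (6, 34), (5, 37), (5, 38), (5, 39), (1, 38), (1, 41), (40, 30), (6, 0), (3, 31), (1, 1), (2, 1), (2, 2), (4, 2), (4, 3), (5, 3), (7, 3), (8, 3), (9, 3), (9, 4), (11, 4), (12, 4), (12, 4), (14, 4), (14, 5), (15, 4), (17, 1), (17, 1), (19, 19), (19, 20), (20, 20), (2, 22), (3, 22), (3, 24), (4, 24), (4, 26), (4, 27), (5, 27), (5, 29), (5, 30), (6, 30), (5, 32), (4, 32), (4, 34), (4, 35), (5, 35), (36, 32), (38, 0), (39, 32), (19, 0), (2, 2), (1, 3), (2, 2), (5, 2), (4, 3), (7, 3), (6, 4), (9, 4), (8, 5), (9, 5), (12, 5), (13, 5), (12, 6), (15, 5), (14, 5), (15, 5), (16, 2), (19, 19), (18, 20), (19, 19), (2, 22), (3, 21), (3, 24), (4, 23), (4, 26), (5, 25), (5, 28), (5, 27), (5, 28), (5, 29), (5, 30), (5, 33), (5, 32), (5, 33), (36, 34), (35, 22), (5, 0), (39, 28), (15, 0), (4, 4), (3, 5), (2, 6), (7, 5), (6, 6), (5, 7), (10,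 6), (9, 7), (8, 8), (13, 7), (10, 7), (13, 5), (16, 16), (17, 15), (18, 14), (17, 17), (16, 20), (17, 19), (18, 18), (6, 21), (7, 20), (7, 21), (6, 22), (5, 27), (28, 15), (27, 0), (0, 0), (1, 1), (183, 132), (0, 93), (0, 67), (0, 20), (0, 6), (185, 153), (0, 64), (0, 26), (189, 153), (0, 115), (0, 76), (0, 36), (0, 14), (207, 144), (0, 111), (0, 82), (0, 42), (13, 19), (11, 37), (7, 21), (4, 46)] := by
  decide +kernel

set_option maxRecDepth 1000000 in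
theorem posOK_2_23_23 : PosOK 2 23 23
    [0, 12, 2, 3, 7, 16, 14, 4, 11, 13, 10, 8, 1, 9, 6, 21, 5, 20, 18, 19, 17, 15, 22, 23]
    [14, 5, 16, 18, 12, 3, 8, 19, 22, 0, 4, 1, 21, 2, 10, 20, 11, 6, 7, 15, 9, 17, 13, 23]
    [(1, 0), (1, 1), (2, 1), (3, 1), (5, 1), (5, 2), (7, 2), (7, 3), (8, 3), (9, 3), (10, 3), (11, 3), (12, 3), (14, 3), (14, 4), (15, 4), (16, 4), (18, 4), (18, 5), (19, 3), (20, 1), (21, 22), (22, 22), (1, 23), (1, 25), (2, 25), (2, 26), (2, 27), (2, 28), (2, 30), (3, 30), (3, 31), (3, 32), (3, 33), (3, 35), (3, 36), (4, 36), (4, 37), (4, 39), (5, 39), (3, 40), (3, 41), (42, 27), (9, 0), (44, 32), (20, 0), (2, 2), (1, 3), (2, 2), (5, 2), (4, 3), (7, 3), (6, 4), (9, 4), (8, 5), (11, 5), (10, 6), (13, 6), (14, 6), (13, 7), (16, 7), (15, 8), (18, 7), (17, 8), (20, 6), (21, 19), (20, 22), (21, 21), (2, 24), (3, 23), (3, 26), (3, 27), (4, 26), (4, 29), (5, 28), (5,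 31), (6, 30), (6, 31), (5, 34), (6, 33), (5, 34), (5, 37), (3, 36), (2, 37), (15, 36), (39, 38), (16, 0), (2, 2), (1, 3), (4, 2), (3, 3), (6, 3), (5, 4), (8, 4), (7, 4), (10, 4), (11, 4), (10, 5), (11, 5), (14, 5), (13, 6), (14, 5), (15, 4), (18, 2), (19, 2), (20, 20), (21, 19), (20, 22), (2, 23), (2, 24), (2, 25), (3, 24), (3, 25), (3, 26), (3, 29), (2, 30), (3, 29), (3, 32), (4, 31), (4, 34), (5, 33), (4, 36), (4, 35), (36, 36), (17, 0), (40, 32), (19, 0), (42, 39), (16, 0), (2, 4), (1, 5), (6, 4), (5, 5), (4, 6), (5, 4), (10, 4), (7, 5), (8, 5), (13, 4), (14, 4), (13, 4), (14, 4), (13, 4), (14, 4), (17, 4), (18, 2), (21, 19), (22, 18), (21, 23), (22, 22), (21, 25), (4, 22), (4, 27), (5, 24), (5, 25), (4, 26), (4, 31), (4, 30), (4, 31), (4, 34), (3, 33), (1, 34), (37, 23), (34, 0), (39, 29), (10, 0), (7, 25), (3, 3), (2, 4), (2, 5), (6, 4), (5, 5), (5, 6), (7, 5), (7, 5), (11,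 5), (10, 6), (13, 6), (14, 2), (15, 15), (16, 14), (15, 17), (16, 16), (17, 16), (17, 20), (5, 18), (4, 22), (4, 23), (5, 21), (4, 22), (4, 26), (7, 14), (0, 0), (1, 1), (185, 132), (0, 92), (0, 60), (0, 19), (0, 6), (193, 137), (0, 106), (0, 69), (0, 26), (0, 10), (183, 160), (0, 115), (0, 73), (0, 38), (0, 15), (209, 162), (0, 125), (0, 66), (0, 48), (15, 21), (11, 21), (7, 22), (4, 52)] := by
  decide +kernel

set_option maxRecDepth 1000000 in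
theorem posOK_3_3_11 : PosOK 3 3 11
    [15, 11, 4, 20, 14, 8, 6, 7, 22, 1, 10, 9, 0, 3, 2, 12, 21, 16, 18, 19, 13, 17, 5, 23]
    [18, 21, 1, 0, 12, 4, 22, 17, 8, 11, 7, 19, 5, 13, 14, 15, 6, 10, 3, 9, 20, 2, 16, 23]
    [(1, 1), (1, 1), (2, 1), (4, 1), (5, 1), (5, 2), (7, 2), (8, 2), (9, 2), (9, 1), (11, 1), (12, 1), (12, 2), (13, 2), (15, 2), (16, 1), (16, 1), (18, 1), (18, 2), (19, 2), (21, 21), (22, 21), (22, 23), (23, 23), (2, 25), (3, 25), (3, 27), (2, 28), (3, 28), (3, 30), (1, 31), (2, 31), (2, 33), (3, 33), (3, 35), (3, 36), (1, 36), (1, 38), (2, 38), (2, 39), (40, 31), (13, 0), (3, 23), (1, 1), (1, 2), (3, 2), (3, 2), (5, 2), (5, 3), (7, 3), (7, 4), (9, 3), (9, 4), (11, 4), (11, 5), (12, 5), (14, 5), (14, 3), (16, 1), (17, 1), (17, 2), (18, 0), (20, 20), (21, 20), (21, 22), (2, 22), (2, 23), (2, 24), (2, 26), (3, 26), (3, 27), (3, 28), (3, 29), (3, 31), (4, 31), (3,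 32), (3, 33), (3, 34), (3, 36), (2, 37), (2, 37), (38, 36), (15, 0), (41, 29), (41, 0), (2, 2), (1, 3), (4, 2), (5, 2), (6, 2), (5, 3), (6, 3), (9, 3), (8, 4), (11, 4), (12, 4), (11, 5), (12, 4), (15, 4), (14, 5), (15, 5), (18, 5), (19, 5), (20, 20), (21, 19), (20, 22), (21, 21), (3, 22), (3, 23), (3, 24), (3, 27), (3, 28), (4, 27), (4, 30), (4, 31), (4, 32), (5, 31), (5, 34), (6, 33), (6, 34), (4, 35), (15, 38), (4, 20), (1, 1), (1, 2), (3, 2), (4, 2), (4, 3), (6, 2), (7, 2), (8, 2), (8, 3), (10, 3), (10, 4), (12, 3), (12, 4), (13, 4), (14, 4), (15, 4), (16, 1), (18, 18), (19, 18), (19, 20), (2, 21), (3, 21), (3, 23), (3, 24), (4, 24), (4, 26), (5, 26), (5, 27), (5, 29), (5, 29), (3, 31), (4, 31), (3, 32), (1, 33), (34, 27), (10, 0), (37, 34), (3, 0), (39, 23), (20, 0), (0, 4), (5, 3), (2, 4), (7, 3), (6, 4), (5, 5), (8, 5), (7, 4), (10, 3), (11, 3), (12, 3), (13, 3), (16, 12),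 (15, 17), (16, 14), (15, 19), (16, 18), (17, 17), (5, 20), (4, 19), (3, 22), (3, 23), (3, 24), (3, 25), (24, 16), (11, 0), (0, 0), (1, 1), (177, 145), (0, 99), (0, 53), (0, 25), (0, 5), (188, 137), (0, 114), (0, 74), (0, 34), (200, 141), (0, 118), (0, 77), (0, 28), (195, 155), (0, 120), (0, 67), (0, 48), (0, 19), (14, 19), (11, 45), (8, 36), (4, 23)] := by
  decide +kernel

set_option maxRecDepth 1000000 in
theorem posOK_3_3_23 : PosOK 3 3 23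
    [21, 10, 22, 15, 8, 4, 1, 13, 5, 9, 6, 11, 12, 17, 2, 16, 3, 7, 18, 19, 0, 20, 14, 23]
    [0, 11, 16, 1, 20, 6, 12, 7, 8, 17, 2, 3, 5, 18, 14, 9, 10, 15, 22, 4, 19, 21, 13, 23]
    [(1, 1), (1, 0), (2, 0), (4, 0), (5, 0), (5, 0), (7, 0), (7, 1), (9, 1), (9, 2), (10, 1), (11, 1), (13, 1), (13, 2), (15, 2), (16, 2), (16, 3), (17, 2), (19, 1), (19, 2), (21, 1), (22, 22), (23, 22), (0, 24), (1, 24), (1, 26), (2, 26), (0, 27), (0, 29), (0, 30), (1, 30), (1, 31), (1, 33), (2, 33), (2, 34), (2, 35), (2, 37), (1, 38), (2, 38), (2, 40), (2, 41), (1, 41), (43, 40), (18, 0), (45, 32), (12, 0), (2, 0), (1, 1), (2, 1), (3, 1), (6, 1), (5, 1), (6, 1), (9, 1), (8, 2), (11, 2), (10, 3), (13, 3), (14, 3), (13, 4), (16, 4), (17, 4), (16, 4), (19, 4), (18, 3), (19, 2), (20, 22), (21, 21), (1, 24), (2, 23), (2, 24), (2, 25), (2, 28), (3, 27), (3, 30), (4, 29), (3, 32), (4, 31), (4, 32), (4, 33),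 (4, 36), (4, 35), (4, 38), (4, 37), (3, 38), (0, 41), (4, 38), (41, 40), (15, 0), (43, 32), (5, 0), (4, 4), (1, 5), (6, 4), (5, 5), (4, 6), (9, 5), (8, 6), (7, 6), (10, 5), (9, 6), (14, 5), (13, 3), (12, 4), (13, 4), (16, 4), (15, 5), (16, 4), (21, 21), (22, 18), (21, 23), (22, 22), (23, 21), (22, 26), (23, 25), (6, 28), (7, 27), (7, 30), (8, 29), (7, 32), (7, 29), (5, 30), (5, 33), (6, 32), (6, 37), (34, 21), (9, 0), (40, 23), (6, 0), (8, 42), (3, 3), (2, 4), (2, 5), (6, 4), (4, 5), (8, 4), (7, 5), (10, 5), (8, 6), (12, 6), (11, 7), (11, 8), (13, 7), (13, 8), (15, 8), (15, 9), (17, 6), (20, 20), (21, 19), (22, 19), (21, 23), (22, 21), (22, 25), (23, 24), (6, 27), (7, 25), (7, 29), (8, 28), (7, 29), (7, 30), (7, 30), (5, 32), (5, 35), (33, 22), (35, 17), (3, 0), (8, 32), (3, 3), (2, 4), (2, 5), (4, 4), (4, 5), (8, 5), (7, 6), (8, 6), (11, 3), (10, 4), (13, 3), (12, 4), (15, 15),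 (16, 14), (17, 14), (16, 18), (17, 17), (18, 17), (5, 19), (6, 19), (6, 20), (6, 24), (6, 22), (6, 23), (25, 14), (4, 0), (0, 0), (1, 1), (188, 142), (0, 92), (0, 66), (0, 32), (186, 108), (0, 54), (0, 30), (182, 141), (0, 98), (0, 72), (0, 38), (190, 117), (0, 76), (0, 44), (11, 43), (9, 39), (6, 44), (4, 48)] := by
  decide +kernel

set_option maxRecDepth 1000000 in
theorem posOK_3_5_5 : PosOK 3 5 5
    [1, 12, 15, 9, 11, 5, 2, 7, 3, 8, 19, 22, 0, 13, 14, 6, 10, 18, 21, 16, 20, 17, 4, 23]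
    [9, 14, 2, 19, 4, 10, 12, 8, 6, 22, 16, 18, 13, 7, 5, 15, 1, 21, 0, 17, 3, 20, 11, 23]
    [(1, 1), (1, 2), (3, 2), (3, 3), (4, 3), (5, 3), (7, 3), (7, 4), (9, 4), (9, 5), (10, 5), (11, 5), (12, 5), (14, 5), (14, 4), (15, 3), (16, 3), (18, 3), (19, 3), (19, 0), (21, 21), (22, 21), (22, 23), (23, 23), (3, 24), (3, 26), (4, 26), (4, 28), (5, 28), (5, 30), (6, 30), (6, 31), (6, 33), (6, 34), (7, 34), (6, 35), (4, 36), (2, 37), (2, 38), (2, 39), (6, 40), (42, 36), (4, 0), (2, 2), (1, 3), (4, 2), (3, 3), (6, 3), (5, 4), (8, 4), (7, 5), (8, 5), (11, 5), (12, 5), (11, 6), (12, 6), (15, 3), (16, 3), (15, 3), (16, 2), (19, 1), (20, 1), (21, 21), (22, 20), (21, 23), (22, 22), (3, 25), (4, 24), (4, 27), (5, 26), (5, 29), (5, 30), (5, 31), (6, 30), (6, 31), (5, 34), (5, 35), (5, 36), (4, 37), (4, 38), (3, 37), (38, 25), (12, 0), (40, 33), (19, 0), (2, 2), (1, 3), (4, 1), (5, 1), (6, 1),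 (5, 2), (8, 2), (7, 3), (8, 3), (11, 3), (12, 3), (11, 4), (14, 4), (15, 4), (14, 4), (17, 4), (18, 4), (17, 4), (20, 4), (21, 21), (22, 20), (1, 23), (2, 22), (2, 25), (2, 26), (2, 27), (2, 26), (2, 27), (2, 30), (2, 31), (2, 32), (2, 31), (2, 34), (3, 33), (3, 36), (3, 37), (3, 36), (2, 39), (38, 25), (5, 0), (16, 30), (9, 24), (1, 2), (1, 3), (4, 3), (4, 4), (4, 5), (7, 5), (6, 6), (9, 6), (9, 6), (10, 6), (10, 7), (12, 7), (12, 8), (14, 8), (14, 7), (16, 7), (18, 17), (19, 17), (19, 20), (20, 20), (20, 22), (21, 22), (5, 22), (5, 25), (6, 25), (7, 25), (7, 27), (8, 27), (8, 29), (8, 29), (8, 30), (8, 32), (4, 29), (11, 23), (35, 25), (10, 0), (2, 3), (1, 4), (5, 2), (5, 3), (4, 4), (8, 4), (9, 4), (9, 5), (8, 6), (11, 6), (10, 7), (14, 7), (15, 7), (16, 13), (16, 17), (17, 15), (16, 19), (17, 19), (18, 18), (5, 21), (6, 20), (5, 23), (6, 22), (6, 25), (7, 24), (5, 21), (0,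 0), (1, 1), (192, 136), (0, 89), (0, 68), (0, 25), (0, 6), (192, 147), (0, 102), (0, 70), (0, 31), (0, 11), (186, 141), (0, 104), (0, 69), (0, 15), (203, 148), (0, 123), (0, 66), (0, 48), (0, 19), (15, 21), (11, 22), (8, 23), (4, 23)] := by
  decide +kernel

set_option maxRecDepth 1000000 in
theorem posOK_3_5_7 : PosOK 3 5 7
    [11, 17, 2, 8, 0, 5, 6, 20, 12, 18, 10, 4, 3, 16, 7, 15, 19, 21, 22, 13, 14, 1, 9, 23]
    [6, 5, 18, 19, 11, 12, 14, 3, 1, 9, 4, 20, 22, 13, 2, 7, 15, 17, 0, 16, 21, 10, 8, 23]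
    [(1, 1), (1, 2), (2, 2), (3, 1), (5, 1), (5, 2), (7, 2), (7, 3), (8, 3), (9, 3), (11, 3), (11, 4), (13, 3), (13, 4), (15, 4), (15, 3), (17, 2), (17, 3), (19, 3), (19, 1), (21, 21), (22, 21), (22, 23), (23, 23), (2, 24), (2, 26), (2, 26), (2, 28), (3, 28), (3, 29), (3, 30), (3, 32), (3, 33), (3, 34), (4, 34), (2, 35), (2, 37), (1, 37), (0, 39), (1, 39), (41, 22), (1, 0), (42, 30), (13, 0), (0, 2), (3, 1), (2, 2), (5, 2), (6, 2), (5, 3), (8, 3), (7, 3), (8, 3), (11, 3), (10, 4), (13, 4), (12, 5), (13, 5), (14, 4), (17, 1), (16, 2), (19, 2), (20, 1), (21, 21), (22, 20), (21, 23), (22, 22), (3, 25), (3, 26), (4, 25), (4, 26), (4, 27), (3, 30), (4, 29), (4, 32), (4, 33), (5, 32), (3, 35), (4, 34), (4, 37), (4, 36), (0, 39), (38, 20), (18, 0), (42, 23), (5, 0), (44, 39), (8, 0), (2, 4), (1, 5), (6, 4), (5, 5), (4, 6), (5, 5), (6, 4), (9, 4), (8, 5), (13, 5), (12, 6), (11, 7), (12,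 5), (15, 5), (14, 4), (17, 4), (16, 5), (21, 19), (20, 22), (21, 21), (22, 20), (21, 25), (22, 24), (23, 23), (6, 28), (7, 27), (7, 28), (8, 27), (8, 28), (7, 31), (8, 30), (8, 31), (8, 34), (4, 33), (36, 19), (8, 0), (40, 24), (39, 0), (2, 2), (1, 3), (4, 2), (3, 2), (6, 2), (5, 3), (8, 3), (9, 3), (10, 3), (9, 3), (10, 3), (13, 3), (12, 4), (13, 4), (14, 2), (17, 2), (18, 1), (19, 19), (20, 18), (19, 21), (2, 20), (2, 23), (2, 24), (3, 23), (3, 26), (4, 25), (4, 28), (5, 27), (5, 28), (4, 29), (4, 30), (4, 31), (2, 34), (3, 33), (36, 27), (16, 0), (36, 27), (7, 0), (38, 33), (12, 0), (4, 4), (3, 5), (6, 4), (3, 5), (6, 4), (7, 4), (10, 4), (7, 5), (12, 5), (11, 5), (14, 4), (11, 5), (16, 16), (17, 15), (18, 14), (17, 19), (18, 16), (4, 19), (4, 22), (5, 19), (5, 22), (5, 25), (5, 22), (5, 27), (5, 28), (25, 23), (7, 0), (0, 0), (1, 1), (188, 151), (0, 98), (0, 66), (0, 31), (0,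 6), (185, 137), (0, 100), (0, 73), (0, 29), (194, 146), (0, 107), (0, 79), (0, 30), (205, 145), (0, 104), (0, 84), (0, 35), (0, 18), (14, 20), (11, 40), (8, 38), (4, 22)] := by
  decide +kernel

set_option maxRecDepth 1000000 in
theorem posOK_3_5_11 : PosOK 3 5 11
    [0, 14, 1, 3, 18, 5, 22, 19, 7, 16, 6, 20, 12, 4, 2, 11, 21, 17, 13, 8, 15, 9, 10, 23]
    [4, 9, 12, 21, 18, 13, 0, 1, 8, 15, 3, 5, 11, 2, 14, 20, 16, 22, 19, 6, 7, 17, 10, 23]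
    [(1, 0), (2, 0), (2, 1), (3, 1), (5, 1), (5, 2), (7, 2), (7, 3), (9, 3), (10, 3), (11, 3), (11, 4), (12, 4), (14, 3), (15, 2), (15, 3), (17, 3), (17, 4), (18, 4), (20, 4), (20, 0), (21, 22), (22, 22), (1, 24), (1, 25), (2, 25), (2, 26), (2, 28), (3, 28), (3, 30), (3, 30), (2, 32), (3, 32), (3, 34), (3, 35), (4, 35), (4, 36), (4, 37), (4, 38), (2, 39), (2, 40), (1, 42), (42, 38), (6, 0), (11, 28), (1, 1), (1, 2), (3, 2), (3, 3), (5, 3), (5, 4), (6, 3), (8, 3), (8, 4), (9, 4), (11, 4), (11, 4), (13, 4), (13, 5), (15, 4), (16, 4), (16, 5), (17, 5), (18, 3), (20, 20), (21, 20), (21, 22), (22, 22), (3, 24), (4, 24), (3, 26), (4, 26), (4, 28), (5, 28), (5, 29), (5, 31), (6, 31), (6, 32), (6, 34), (5, 35), (5, 35), (4, 37), (4, 37), (13, 21), (40, 26), (11, 0), (2, 2), (1, 3), (4, 2), (3, 3), (4, 3), (7, 3), (6, 4), (7, 4), (10, 3), (9, 4), (12, 3), (11, 3), (14, 2), (15, 2), (14,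 3), (17, 2), (18, 1), (19, 0), (20, 20), (19, 21), (20, 20), (2, 23), (3, 22), (3, 25), (3, 26), (3, 25), (3, 26), (3, 29), (4, 28), (4, 29), (4, 32), (4, 33), (3, 32), (3, 33), (3, 36), (3, 35), (36, 20), (8, 0), (38, 20), (8, 0), (42, 24), (5, 0), (4, 4), (1, 5), (6, 4), (3, 5), (6, 4), (5, 5), (10, 5), (9, 6), (12, 6), (11, 3), (10, 4), (15, 4), (14, 5), (13, 6), (18, 6), (15, 6), (20, 20), (21, 19), (22, 18), (19, 19), (3, 24), (4, 21), (4, 26), (5, 23), (5, 28), (5, 25), (5, 30), (6, 27), (4, 32), (5, 29), (4, 34), (5, 31), (32, 24), (5, 0), (36, 27), (35, 0), (7, 34), (1, 3), (1, 4), (5, 3), (3, 4), (7, 3), (5, 4), (9, 3), (8, 4), (8, 5), (12, 5), (13, 5), (11, 3), (15, 15), (16, 14), (15, 17), (2, 16), (3, 16), (3, 20), (3, 21), (4, 20), (5, 20), (5, 21), (4, 25), (5, 23), (5, 24), (28, 25), (0, 0), (1, 1), (186, 142), (0, 94), (0, 64), (0, 22), (0, 5), (188, 153), (0, 96),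 (0, 62), (0, 31), (0, 10), (202, 156), (0, 36), (0, 14), (195, 158), (0, 123), (0, 65), (0, 35), (0, 19), (14, 19), (10, 20), (8, 22), (4, 23)] := by
  decide +kernel

set_option maxRecDepth 1000000 in
theorem posOK_3_5_23 : PosOK 3 5 23
    [21, 17, 7, 19, 4, 18, 6, 12, 8, 14, 9, 5, 2, 13, 10, 15, 1, 16, 11, 22, 0, 20, 3, 23]
    [15, 10, 11, 8, 7, 19, 4, 1, 14, 22, 6, 17, 2, 9, 0, 3, 16, 21, 18, 13, 20, 12, 5, 23]
    [(1, 1), (1, 2), (2, 2), (4, 1), (5, 1), (5, 2), (7, 2), (7, 3), (9, 3), (9, 4), (10, 4), (11, 4), (13, 4), (13, 5), (14, 4), (16, 4), (17, 3), (18, 3), (18, 2), (19, 0), (21, 21), (21, 22), (22, 22), (2, 23), (2, 25), (3, 25), (3, 26), (3, 28), (4, 28), (3, 29), (3, 31), (4, 31), (4, 33), (5, 33), (5, 35), (6, 35), (6, 36), (3, 37), (2, 39), (1, 39), (40, 28), (16, 0), (42, 24), (10, 0), (2, 2), (1, 3), (4, 2), (3, 3), (6, 3), (5, 4), (8, 4), (7, 5), (10, 5), (9,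 6), (12, 6), (11, 6), (12, 6), (15, 6), (14, 6), (17, 5), (18, 3), (19, 3), (18, 4), (21, 21), (22, 20), (21, 23), (22, 22), (3, 25), (4, 24), (4, 27), (5, 26), (5, 29), (6, 28), (6, 29), (6, 30), (6, 33), (7, 32), (7, 33), (7, 36), (7, 37), (7, 38), (4, 37), (40, 33), (10, 0), (40, 30), (19, 0), (42, 42), (8, 0), (46, 33), (22, 0), (6, 6), (5, 7), (4, 8), (9, 7), (6, 8), (11, 7), (12, 6), (9, 7), (8, 7), (9, 7), (14, 7), (17, 7), (16, 8), (19, 3), (14, 3), (17, 3), (22, 22), (23, 21), (24, 18), (23, 25), (24, 22), (25, 21), (24, 28), (23, 29), (24, 28), (25, 27), (9, 30), (10, 27), (8, 34), (8, 35), (8, 30), (2, 33), (38, 30), (9, 0), (38, 19), (13, 0), (42, 33), (39, 0), (2, 4), (5, 3), (4, 4), (3, 5), (8, 4), (7, 5), (10, 5), (9, 6), (12, 6), (11, 7), (14, 7), (11, 8), (16, 6), (17, 5), (18, 5), (17, 6), (20, 18), (21, 17), (20, 20), (19, 23), (20, 22), (4, 25), (5, 24), (4,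 27), (5, 24), (5, 27), (5, 30), (6, 29), (5, 32), (5, 33), (6, 32), (5, 35), (36, 23), (16, 0), (38, 22), (6, 0), (36, 26), (15, 0), (2, 4), (1, 5), (6, 4), (5, 5), (8, 4), (5, 5), (10, 5), (9, 6), (12, 6), (13, 5), (12, 4), (13, 1), (16, 14), (15, 17), (16, 16), (17, 15), (16, 18), (17, 17), (5, 20), (6, 19), (6, 22), (7, 21), (5, 24), (2, 25), (28, 12), (2, 0), (0, 0), (1, 1), (182, 148), (0, 92), (0, 64), (0, 29), (0, 5), (190, 140), (0, 106), (0, 58), (0, 10), (186, 149), (0, 99), (0, 36), (0, 13), (196, 158), (0, 106), (0, 77), (0, 40), (0, 18), (14, 19), (11, 21), (8, 21), (4, 22)] := by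
  decide +kernel

set_option maxRecDepth 1000000 in
theorem posOK_3_7_7 : PosOK 3 7 7
    [20, 0, 2, 19, 3, 5, 18, 7, 21, 15, 9, 11, 14, 12, 13, 10, 16, 8, 22, 4, 1, 17, 6, 23]
    [2, 1, 17, 15, 22, 16, 20, 13, 0, 8, 10, 5, 3, 9, 12, 4, 21, 7, 14, 11, 19, 6, 18, 23]
    [(1, 1), (1, 2), (2, 2), (4, 1), (4, 2), (6, 2), (6, 3), (8, 3), (8, 4), (9, 4), (11, 4), (11, 4), (12, 4), (14, 4), (14, 5), (15, 5), (17, 4), (17, 5), (19, 5), (19, 4), (21, 21), (21, 22), (22, 22), (2, 23), (2, 25), (3, 25), (3, 27), (4, 27), (4, 29), (4, 29), (3, 31), (3, 32), (4, 32), (4, 34), (5, 34), (5, 35), (5, 36), (5, 38), (3, 39), (3, 39), (40, 40), (19, 0), (42, 33), (9, 0), (2, 2), (1, 3), (4, 2), (3, 3), (6, 3), (5, 4), (6, 4), (9, 3), (8, 4), (11, 4), (10, 5), (13, 4), (14, 4), (13, 4), (16, 4), (15, 5), (16, 5), (19, 5), (18, 4), (21, 19), (20, 22), (21, 21), (2, 22), (2, 25), (2, 26), (3, 25),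 (3, 28), (4, 27), (4, 28), (4, 31), (5, 30), (5, 31), (5, 34), (5, 33), (4, 34), (4, 37), (4, 38), (3, 39), (17, 38), (41, 31), (12, 0), (0, 2), (3, 1), (2, 2), (5, 2), (4, 3), (5, 3), (8, 3), (7, 4), (10, 4), (9, 5), (10, 4), (11, 4), (12, 4), (15, 4), (16, 3), (15, 4), (18, 4), (17, 5), (20, 18), (19, 19), (1, 22), (2, 21), (2, 22), (2, 23), (2, 26), (3, 25), (3, 28), (4, 27), (4, 28), (4, 31), (3, 32), (2, 33), (3, 32), (3, 35), (3, 36), (3, 37), (38, 18), (5, 0), (38, 34), (20, 0), (42, 42), (3, 3), (2, 4), (5, 3), (4, 4), (4, 5), (8, 4), (7, 5), (10, 5), (11, 5), (9, 6), (13, 6), (11, 7), (15, 6), (14, 5), (14, 5), (18, 5), (17, 4), (20, 18), (19, 21), (20, 20), (2, 23), (3, 22), (4, 22), (4, 26), (5, 25), (5, 28), (6, 27), (7, 27), (7, 29), (7, 30), (7, 31), (5, 31), (5, 32), (5, 36), (37, 22), (4, 0), (2, 19), (13, 40), (2, 2), (2, 3), (2, 4), (5, 3), (5, 4), (5, 4), (6,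 4), (9, 4), (9, 5), (11, 5), (11, 6), (11, 7), (13, 7), (15, 15), (16, 15), (17, 15), (16, 18), (17, 18), (4, 18), (4, 19), (4, 22), (5, 22), (5, 24), (6, 24), (7, 24), (7, 26), (2, 17), (0, 0), (1, 1), (192, 151), (0, 99), (0, 70), (187, 154), (0, 104), (0, 36), (0, 7), (185, 155), (0, 100), (0, 29), (183, 143), (0, 108), (0, 77), (0, 36), (12, 82), (9, 16), (7, 36), (4, 40)] := by
  decide +kernel

set_option maxRecDepth 1000000 in
theorem posOK_3_7_11 : PosOK 3 7 11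
    [21, 10, 2, 19, 3, 5, 22, 7, 20, 17, 13, 6, 8, 1, 9, 0, 16, 14, 18, 4, 12, 15, 11, 23]
    [16, 22, 4, 10, 21, 19, 15, 12, 8, 13, 1, 9, 17, 18, 14, 2, 3, 11, 7, 6, 0, 5, 20, 23]
    [(1, 1), (1, 2), (2, 2), (3, 2), (4, 2), (5, 2), (6, 2), (7, 2), (9, 2), (9, 3), (11, 2), (11, 2), (13, 1), (13, 2), (14, 2), (15, 2), (17, 2), (18, 1), (19, 1), (20, 1), (21, 21), (22, 21), (22, 23), (23, 23), (3, 24), (3, 26), (4, 26), (4, 28), (4, 28), (4, 29), (4, 30), (4, 32), (5, 32), (5, 33), (5, 35), (6, 35), (5, 37), (5, 37), (4, 38), (2, 40), (14, 27), (42, 35), (7, 0), (2, 2), (1, 3), (4, 1), (3, 2), (4, 2), (7, 2), (6, 3), (9, 3), (10, 3), (9, 4), (12, 4), (11, 5), (14, 5), (15, 4), (14, 5), (17, 5), (16, 5), (17, 4), (18, 1), (19, 0), (22, 22), (23, 21), (22, 24), (23, 23), (3, 24), (3, 27), (4, 26), (4, 29), (4, 30), (5, 29), (5, 32), (5, 31), (5, 32), (5, 33), (3, 36), (4, 35), (4,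 36), (2, 37), (0, 40), (17, 30), (42, 23), (6, 0), (42, 36), (43, 0), (2, 4), (1, 5), (6, 4), (5, 5), (8, 4), (7, 5), (6, 6), (11, 6), (10, 7), (11, 7), (12, 7), (15, 7), (14, 8), (15, 8), (16, 8), (19, 8), (16, 6), (21, 17), (20, 22), (21, 21), (22, 20), (21, 25), (22, 22), (5, 27), (6, 26), (7, 25), (5, 28), (6, 27), (6, 30), (6, 33), (7, 32), (7, 33), (8, 32), (3, 33), (34, 36), (10, 0), (36, 27), (15, 0), (0, 2), (3, 1), (2, 2), (5, 2), (6, 2), (5, 3), (6, 3), (9, 3), (8, 4), (11, 3), (12, 3), (11, 4), (14, 4), (13, 4), (14, 3), (17, 3), (16, 2), (19, 17), (18, 20), (19, 19), (2, 22), (2, 23), (3, 22), (3, 23), (3, 26), (4, 25), (4, 28), (4, 29), (5, 28), (5, 29), (3, 30), (2, 31), (1, 34), (1, 35), (36, 20), (16, 0), (38, 19), (3, 0), (40, 23), (7, 0), (2, 4), (5, 3), (2, 4), (5, 3), (4, 4), (9, 3), (8, 4), (11, 4), (8, 5), (13, 5), (10, 6), (13, 6), (16, 16), (17, 15), (16,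 18), (17, 15), (16, 18), (4, 19), (4, 22), (5, 19), (5, 24), (6, 23), (7, 22), (7, 27), (28, 16), (7, 0), (0, 0), (1, 1), (183, 149), (0, 111), (0, 57), (0, 19), (186, 153), (0, 96), (0, 67), (188, 102), (0, 64), (0, 39), (0, 12), (184, 155), (0, 109), (0, 75), (0, 39), (12, 31), (10, 77), (7, 19), (4, 43)] := by
  decide +kernel

set_option maxRecDepth 1000000 in
theorem posOK_3_7_23 : PosOK 3 7 23
    [5, 1, 21, 3, 12, 18, 22, 14, 9, 17, 10, 11, 13, 4, 19, 15, 2, 8, 0, 7, 6, 16, 20, 23]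
    [22, 7, 4, 15, 16, 10, 14, 3, 12, 5, 11, 19, 1, 8, 2, 13, 17, 21, 18, 0, 20, 6, 9, 23]
    [(1, 1), (1, 2), (3, 2), (3, 3), (4, 2), (6, 2), (7, 2), (7, 2), (8, 2), (10, 2), (10, 3), (12, 3), (12, 3), (13, 3), (15, 3), (15, 3), (16, 3), (18, 3), (18, 4), (19, 3), (21, 21), (21, 22), (22, 22), (2, 23), (2, 25), (3, 25), (3, 26), (3, 28), (4, 28), (4, 29), (4, 31), (5, 31), (4, 33), (5, 33), (4, 34), (3, 36), (3, 36), (3, 37), (3, 39), (1, 39), (40, 32), (15, 35), (1, 1), (1, 2), (3, 2), (3, 3), (5, 3), (5, 4), (7, 3), (7, 4), (9, 4), (9, 5), (11, 5), (11, 5), (12, 5), (14, 5), (14, 6), (15, 6), (16, 6), (18, 4), (18, 2), (20, 20), (21, 20), (21, 22), (22, 22), (3, 24), (4, 24), (4, 25), (4, 27), (3, 28), (3, 29), (4, 29), (4, 30), (4, 32), (5, 32), (4, 33), (4, 35), (4, 35), (3, 37), (1, 38), (38, 39), (39, 0), (40, 25), (13, 0), (2, 0), (1, 1), (2, 1), (5, 1), (4, 1), (7, 1),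 (6, 2), (9, 2), (10, 2), (9, 3), (12, 3), (11, 4), (14, 4), (13, 5), (14, 5), (15, 1), (18, 1), (19, 0), (20, 20), (21, 19), (20, 22), (2, 23), (2, 24), (3, 23), (3, 26), (4, 25), (3, 28), (4, 27), (3, 30), (4, 29), (4, 32), (4, 33), (2, 32), (2, 35), (1, 36), (1, 37), (17, 36), (37, 29), (3, 0), (2, 2), (3, 1), (2, 2), (5, 2), (4, 3), (7, 3), (6, 4), (9, 4), (8, 5), (9, 5), (12, 3), (13, 3), (12, 4), (15, 3), (14, 3), (15, 3), (18, 2), (19, 19), (20, 18), (19, 21), (2, 22), (3, 21), (3, 24), (4, 23), (4, 24), (4, 27), (3, 28), (4, 27), (3, 30), (2, 31), (3, 30), (3, 31), (3, 34), (3, 33), (36, 32), (35, 0), (36, 35), (4, 0), (38, 23), (5, 0), (4, 4), (3, 5), (6, 4), (5, 5), (4, 6), (9, 5), (8, 6), (9, 6), (12, 6), (11, 7), (12, 3), (13, 3), (16, 16), (17, 15), (18, 14), (17, 19), (18, 18), (19, 17), (18, 18), (6, 21), (6, 24), (7, 23), (3, 24), (3, 25), (24, 19), (12, 0), (0,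 0), (1, 1), (172, 135), (0, 107), (0, 72), (0, 22), (195, 139), (0, 99), (0, 67), (0, 34), (0, 10), (199, 141), (0, 112), (0, 78), (0, 42), (0, 15), (196, 164), (0, 113), (0, 84), (0, 43), (0, 20), (16, 38), (12, 22), (8, 23), (4, 24)] := by
  decide +kernel

set_option maxRecDepth 1000000 in
theorem posOK_3_11_11 : PosOK 3 11 11
    [3, 7, 1, 10, 4, 19, 20, 2, 5, 9, 0, 11, 12, 21, 14, 16, 17, 15, 6, 8, 18, 22, 13, 23]
    [21, 5, 13, 19, 11, 7, 10, 8, 2, 18, 14, 6, 22, 9, 15, 17, 1, 12, 3, 16, 20, 4, 0, 23]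
    [(1, 1), (1, 2), (3, 2), (3, 3), (4, 3), (6, 3), (6, 4), (8, 4), (8, 4), (9, 4), (11, 4), (11, 5), (13, 5), (13, 6), (14, 6), (15, 6), (16, 5), (17, 4), (18, 3), (20, 3), (21, 21), (22, 21), (22, 23), (23, 23), (3, 24), (3, 25), (3, 27), (3, 27), (3, 29), (4, 29), (4, 30), (4, 31), (4, 33), (5, 33), (2, 35), (3, 35), (3, 36), (3, 37), (3, 39), (4, 39), (40, 30), (13, 0), (7, 25), (1, 1), (1, 2), (3, 2), (3, 3), (5, 3), (5, 4), (7, 4), (7, 5), (9, 5), (9, 5), (11, 5), (11, 4), (13, 4), (14, 4), (14, 3), (16, 3), (17, 2), (18, 0), (18, 1), (20, 20), (21, 20), (21, 21), (2, 23), (3, 23), (3, 25), (4, 25), (4, 26), (4, 28), (5, 28), (5, 30), (6, 30), (5, 32), (4, 33), (4, 34), (4, 34), (4, 35), (4, 37), (0, 38), (38, 32), (15, 0), (5, 41), (42, 33), (14, 0), (3, 3), (3, 4), (2, 5), (6, 3), (7, 3), (7, 4), (6, 5), (7, 5), (11, 5), (11, 6), (10, 6), (14, 6), (15, 6), (13, 7), (17,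 7), (15, 8), (19, 8), (19, 7), (21, 21), (22, 21), (23, 20), (23, 23), (22, 24), (4, 26), (5, 26), (5, 28), (6, 26), (6, 30), (7, 28), (7, 32), (8, 32), (7, 33), (8, 32), (8, 35), (8, 37), (35, 17), (39, 0), (39, 20), (9, 0), (2, 2), (1, 3), (4, 2), (3, 3), (6, 3), (5, 3), (8, 3), (7, 4), (10, 4), (11, 4), (12, 3), (11, 4), (14, 4), (13, 4), (14, 4), (15, 3), (18, 3), (19, 19), (20, 18), (19, 21), (20, 20), (3, 23), (3, 24), (4, 23), (4, 24), (4, 27), (4, 28), (4, 29), (4, 30), (3, 31), (3, 30), (3, 31), (3, 32), (2, 35), (5, 22), (37, 33), (15, 0), (39, 20), (4, 0), (2, 4), (1, 5), (6, 4), (5, 5), (4, 6), (9, 5), (10, 5), (9, 6), (12, 6), (11, 6), (14, 6), (15, 6), (16, 14), (17, 13), (16, 18), (17, 17), (16, 18), (17, 17), (5, 22), (5, 23), (6, 20), (5, 21), (5, 26), (5, 27), (28, 22), (3, 0), (0, 0), (1, 1), (178, 141), (0, 92), (0, 61), (0, 20), (0, 6), (194, 137), (0, 99),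 (0, 76), (0, 34), (0, 11), (183, 156), (0, 107), (0, 74), (0, 39), (201, 148), (0, 105), (0, 82), (0, 43), (14, 20), (10, 21), (7, 46), (4, 47)] := by
  decide +kernel

set_option maxRecDepth 1000000 in
theorem posOK_3_11_23 : PosOK 3 11 23
    [10, 6, 16, 3, 4, 5, 13, 2, 0, 17, 8, 21, 22, 1, 14, 11, 7, 18, 9, 19, 12, 15, 20, 23]
    [10, 6, 16, 1, 12, 20, 21, 9, 5, 19, 15, 14, 3, 17, 7, 13, 11, 4, 18, 22, 2, 0, 8, 23]
    [(1, 1), (1, 2), (2, 1), (4, 1), (4, 2), (5, 2), (7, 2), (7, 3), (9, 3), (9, 4), (11, 4), (11, 5), (12, 4), (14, 4), (15, 4), (15, 5), (17, 5), (17, 6), (19, 6), (19, 6), (20, 0), (22, 22), (23, 22), (23, 24), (24, 24), (2, 26), (3, 26), (3, 28), (4, 28), (4, 30), (4, 31), (5, 31), (5, 32), (4, 34), (4, 35), (5, 35), (5, 36), (5, 37), (5, 39), (6, 39), (0, 40), (41, 36), (4, 0), (43, 29), (44, 0), (2, 2), (1, 3), (4, 2), (3, 3), (6, 3), (5, 4), (6, 4), (9, 4),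 (8, 5), (9, 5), (12, 5), (11, 6), (14, 6), (15, 6), (14, 7), (15, 7), (16, 4), (17, 4), (18, 3), (21, 21), (22, 20), (21, 23), (22, 22), (3, 25), (4, 24), (4, 27), (4, 28), (4, 27), (4, 30), (5, 29), (5, 30), (5, 33), (6, 32), (5, 35), (5, 34), (5, 35), (5, 38), (5, 37), (38, 23), (13, 0), (40, 37), (13, 0), (0, 2), (3, 1), (2, 2), (5, 2), (4, 3), (7, 3), (6, 4), (7, 3), (10, 3), (9, 4), (12, 4), (13, 4), (12, 4), (13, 4), (16, 1), (15, 2), (18, 2), (17, 3), (20, 18), (19, 21), (20, 20), (2, 21), (2, 22), (2, 25), (3, 24), (3, 25), (3, 28), (4, 27), (4, 30), (3, 31), (2, 32), (3, 31), (3, 34), (3, 35), (3, 36), (4, 35), (38, 38), (37, 26), (2, 0), (41, 27), (18, 0), (4, 2), (1, 3), (4, 2), (3, 3), (6, 3), (9, 3), (10, 3), (9, 3), (12, 3), (11, 4), (10, 5), (13, 5), (14, 5), (13, 6), (16, 6), (15, 7), (16, 7), (19, 21), (20, 20), (21, 19), (20, 22), (3, 23), (4, 22), (4, 25), (4,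 26), (5, 25), (5, 28), (5, 29), (6, 28), (5, 33), (6, 30), (6, 31), (3, 32), (3, 35), (12, 18), (39, 35), (17, 0), (37, 23), (15, 0), (2, 4), (1, 5), (6, 4), (5, 5), (8, 4), (7, 5), (6, 6), (9, 6), (8, 7), (11, 6), (10, 7), (15, 7), (16, 14), (17, 13), (16, 18), (15, 19), (16, 18), (17, 17), (5, 22), (5, 23), (6, 20), (5, 21), (5, 26), (5, 27), (26, 13), (5, 0), (0, 0), (1, 1), (186, 141), (0, 95), (0, 56), (0, 24), (182, 145), (0, 109), (0, 72), (0, 37), (0, 9), (189, 145), (0, 110), (0, 68), (0, 33), (0, 15), (201, 151), (0, 110), (0, 82), (0, 49), (0, 19), (16, 40), (12, 21), (8, 23), (4, 23)] := by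
  decide +kernel

set_option maxRecDepth 1000000 in
theorem posOK_3_23_23 : PosOK 3 23 23
    [8, 3, 7, 13, 20, 9, 6, 16, 10, 17, 0, 11, 4, 1, 14, 19, 2, 5, 18, 21, 12, 15, 22, 23]
    [18, 16, 7, 10, 0, 21, 8, 5, 15, 6, 22, 13, 4, 1, 17, 2, 3, 19, 14, 20, 11, 12, 9, 23]
    [(1, 1), (1, 2), (2, 2), (3, 2), (5, 2), (5, 3), (6, 3), (7, 3), (9, 3), (9, 4), (11, 4), (12, 4), (12, 4), (13, 4), (14, 4), (16, 4), (17, 2), (17, 2), (18, 2), (20, 1), (21, 21), (22, 21), (22, 23), (2, 23), (2, 25), (3, 25), (3, 27), (4, 27), (4, 28), (4, 30), (4, 31), (4, 31), (4, 32), (4, 33), (4, 34), (4, 36), (4, 37), (5, 37), (0, 38), (0, 39), (40, 23), (42, 37), (8, 0), (2, 2), (1, 3), (4, 2), (3, 3), (6, 3), (5, 4), (8, 4), (9, 3), (8, 4), (11, 4), (10, 5), (13, 5), (12, 6), (15, 6), (14, 7), (15, 7), (16, 5), (17, 4), (20, 1), (21, 21), (22, 20), (21, 23), (22, 22), (3, 25), (3, 26), (4, 25), (4,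 28), (5, 27), (5, 28), (3, 31), (4, 30), (3, 31), (3, 34), (4, 33), (3, 34), (3, 35), (0, 38), (1, 37), (40, 24), (12, 0), (40, 37), (17, 0), (0, 2), (3, 1), (2, 2), (5, 2), (4, 3), (5, 3), (8, 3), (7, 4), (8, 4), (11, 4), (10, 5), (13, 5), (12, 6), (15, 6), (16, 5), (15, 6), (16, 6), (17, 4), (20, 20), (21, 19), (20, 20), (2, 23), (2, 24), (3, 23), (2, 24), (2, 27), (2, 28), (3, 27), (3, 30), (3, 29), (3, 32), (2, 33), (2, 34), (3, 33), (3, 34), (3, 37), (36, 30), (9, 0), (18, 31), (0, 1), (2, 1), (2, 2), (4, 2), (4, 3), (6, 3), (7, 3), (8, 3), (8, 4), (10, 4), (11, 4), (11, 5), (12, 4), (13, 3), (14, 2), (16, 2), (16, 3), (18, 17), (18, 19), (19, 19), (2, 21), (3, 21), (3, 23), (4, 23), (4, 25), (4, 26), (4, 27), (4, 28), (5, 28), (3, 29), (3, 30), (2, 32), (3, 32), (3, 33), (35, 24), (9, 0), (36, 29), (13, 0), (39, 29), (17, 0), (2, 4), (1, 5), (6, 4), (5, 5), (4, 6), (9, 5),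 (6, 6), (9, 5), (8, 6), (9, 5), (12, 4), (11, 5), (16, 14), (17, 13), (16, 18), (17, 17), (18, 16), (17, 21), (5, 22), (6, 21), (6, 24), (6, 23), (6, 26), (6, 27), (26, 22), (8, 0), (0, 0), (1, 1), (172, 138), (0, 96), (0, 58), (0, 21), (0, 5), (193, 156), (0, 109), (0, 73), (0, 10), (201, 143), (0, 112), (0, 67), (0, 28), (0, 15), (203, 148), (0, 106), (0, 83), (0, 19), (14, 19), (11, 21), (7, 22), (4, 23)] := by
  decide +kernel

set_option maxRecDepth 1000000 in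
theorem posOK_5_5_5 : PosOK 5 5 5
    [2, 3, 22, 21, 12, 5, 0, 10, 8, 16, 9, 7, 20, 4, 13, 15, 11, 6, 1, 18, 14, 19, 17, 23]
    [6, 1, 2, 21, 12, 0, 20, 17, 9, 15, 3, 16, 8, 14, 7, 4, 10, 19, 5, 13, 18, 11, 22, 23]
    [(1, 1), (1, 1), (3, 1), (4, 1), (4, 2), (5, 2), (7, 2), (7, 3), (9, 3), (9, 4), (11, 3), (12, 3), (13, 3), (14, 2), (15, 2), (16, 2), (16, 2), (18, 2), (18, 3), (19, 3), (21, 21), (21, 21), (1, 23), (2, 23), (2, 25), (3, 25), (3, 27), (3, 28), (4, 28), (4, 30), (4, 31), (3, 32), (3, 32), (3, 34), (3, 35), (3, 36), (2, 37), (3, 37), (3, 38), (3, 39), (40, 37), (16, 0), (43, 42), (0, 1), (2, 1), (2, 2), (3, 2), (5, 2), (5, 3), (6, 3), (8, 3), (8, 4), (9, 3), (11, 3), (11, 4), (12, 4), (13, 4), (15, 3), (15, 4), (17, 3), (18, 0), (18, 1), (20, 20), (20, 21), (21, 21), (2, 23), (3, 23), (3, 25), (4, 25), (4, 26), (4, 28), (4, 29), (5, 29), (4, 31), (4, 32), (3, 33),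 (4, 33), (4, 34), (3, 36), (2, 37), (1, 37), (3, 28), (40, 30), (4, 0), (2, 0), (1, 1), (4, 1), (3, 2), (6, 2), (5, 3), (8, 3), (7, 4), (10, 4), (9, 5), (12, 5), (11, 6), (14, 6), (13, 6), (14, 5), (17, 4), (16, 5), (19, 4), (20, 0), (19, 21), (20, 20), (1, 23), (2, 22), (2, 25), (3, 24), (3, 27), (4, 26), (4, 29), (5, 28), (5, 31), (6, 30), (5, 33), (5, 34), (5, 35), (4, 36), (5, 35), (4, 36), (3, 39), (40, 34), (15, 0), (42, 35), (3, 0), (2, 2), (1, 3), (4, 2), (3, 3), (4, 3), (7, 3), (6, 4), (7, 4), (8, 4), (9, 4), (12, 4), (11, 5), (12, 5), (15, 5), (14, 5), (15, 4), (18, 3), (19, 19), (20, 18), (19, 21), (20, 20), (3, 21), (3, 22), (3, 25), (3, 26), (4, 25), (4, 28), (4, 29), (5, 28), (5, 29), (5, 32), (5, 31), (4, 34), (4, 33), (11, 23), (10, 23), (36, 33), (13, 0), (3, 2), (1, 3), (5, 2), (5, 3), (7, 3), (5, 4), (9, 4), (9, 5), (8, 6), (12, 6), (13, 6), (13, 5), (12, 6),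 (15, 16), (16, 14), (15, 18), (16, 18), (3, 20), (4, 18), (4, 22), (5, 22), (6, 21), (6, 25), (6, 26), (5, 26), (6, 25), (29, 20), (8, 0), (0, 0), (1, 1), (185, 139), (0, 104), (0, 63), (0, 29), (0, 5), (198, 138), (0, 114), (0, 77), (0, 35), (198, 158), (0, 107), (0, 70), (0, 36), (0, 15), (204, 164), (0, 113), (0, 46), (0, 19), (14, 19), (11, 46), (7, 22), (4, 23)] := by
  decide +kernel

set_option maxRecDepth 1000000 in
theorem posOK_5_5_7 : PosOK 5 5 7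
    [12, 22, 4, 5, 3, 16, 1, 7, 13, 0, 8, 14, 21, 17, 6, 10, 2, 15, 9, 19, 20, 18, 11, 23]
    [16, 18, 14, 6, 7, 5, 1, 20, 12, 9, 21, 22, 0, 13, 10, 8, 15, 3, 17, 2, 11, 19, 4, 23]
    [(1, 1), (2, 1), (2, 2), (4, 2), (4, 3), (6, 3), (6, 4), (8, 4), (8, 5), (10, 5), (10, 6), (12, 5), (12, 6), (14, 6), (15, 5), (16, 3), (16, 3), (18, 3), (18, 1), (20, 1), (21, 21), (21, 21), (1, 23), (2, 23), (2, 25), (3, 25), (2, 27), (2, 27), (2, 29), (3, 29), (3, 30), (3, 32), (4, 32), (4, 34), (4, 35), (4, 36), (4, 37), (5, 37), (5, 38), (1, 39), (7, 38), (41, 33), (19, 0), (2, 2), (1, 3), (4, 1), (3, 2), (6, 2), (5, 3), (8, 2), (7, 3), (8, 3), (11, 3), (10, 4), (13, 4), (12, 5), (13, 5), (16, 5), (15, 5), (18, 4), (17, 3), (20, 2), (21, 0), (22, 22), (21, 23), (22, 22), (2, 25), (3, 24), (3, 27), (4, 26), (4, 27), (2, 30), (3, 29), (2, 32), (3, 31), (3, 34), (3, 35), (3, 36), (3, 37), (3,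 38), (2, 39), (0, 40), (41, 31), (40, 0), (4, 29), (1, 1), (1, 2), (3, 2), (3, 3), (5, 3), (5, 3), (7, 3), (7, 4), (9, 4), (9, 5), (10, 5), (12, 4), (12, 5), (14, 5), (14, 6), (16, 6), (17, 3), (18, 2), (19, 19), (20, 19), (20, 21), (21, 21), (3, 23), (4, 23), (4, 24), (4, 25), (3, 26), (3, 28), (3, 29), (4, 29), (3, 30), (3, 32), (3, 32), (3, 33), (3, 34), (0, 35), (36, 35), (4, 0), (39, 38), (6, 0), (2, 2), (1, 3), (4, 2), (3, 3), (4, 3), (7, 3), (8, 2), (7, 3), (10, 3), (11, 3), (10, 4), (13, 2), (12, 3), (13, 3), (14, 3), (17, 3), (18, 3), (19, 19), (20, 18), (19, 21), (20, 20), (3, 23), (3, 24), (4, 23), (4, 26), (4, 27), (4, 28), (4, 29), (5, 28), (5, 31), (5, 30), (4, 31), (3, 34), (2, 33), (34, 21), (37, 0), (36, 33), (39, 25), (12, 0), (2, 3), (4, 3), (4, 4), (3, 5), (6, 4), (5, 5), (8, 5), (7, 6), (10, 6), (9, 7), (12, 5), (13, 2), (15, 14), (16, 13), (16, 17), (17, 17),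 (16, 19), (17, 17), (5, 21), (6, 21), (6, 23), (5, 24), (4, 24), (1, 25), (9, 19), (0, 0), (1, 1), (173, 134), (0, 100), (0, 63), (0, 33), (0, 6), (176, 143), (0, 97), (0, 60), (0, 33), (0, 11), (197, 146), (0, 102), (0, 65), (0, 42), (198, 152), (0, 118), (0, 82), (0, 32), (14, 20), (10, 21), (7, 49), (4, 36)] := by
  decide +kernel

set_option maxRecDepth 1000000 in
theorem posOK_5_5_11 : PosOK 5 5 11
    [9, 15, 2, 5, 20, 4, 6, 12, 3, 18, 19, 22, 16, 0, 13, 7, 1, 17, 14, 21, 8, 11, 10, 23]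
    [13, 1, 6, 19, 9, 4, 11, 20, 8, 21, 16, 3, 0, 7, 14, 18, 22, 5, 10, 2, 12, 17, 15, 23]
    [(1, 1), (1, 2), (2, 2), (4, 2), (4, 3), (6, 3), (6, 4), (8, 4), (8, 5), (10, 4), (10, 5), (12, 5), (12, 6), (13, 6), (15, 5), (15, 5), (17, 5), (17, 5), (19, 4), (19, 3), (21, 21), (21, 22), (22, 22), (2, 24), (2, 25), (2, 26), (2, 27), (2, 28), (3, 28), (3, 30), (2, 31), (2, 32), (2, 33), (3, 33), (3, 34), (3, 36), (4, 36), (4, 38), (2, 39), (2, 39), (40, 25), (3, 0), (13, 30), (1, 1), (2, 1), (2, 2), (4, 2), (4, 3), (6, 3), (6, 4), (8, 4), (9, 4), (9, 5), (11, 5), (11, 6), (13, 6), (13, 7), (15, 3), (15, 3), (17, 3), (18, 1), (18, 2), (20, 20), (21, 20), (21, 21), (2, 23), (3, 23), (3, 24), (3, 26), (4, 26), (4, 27), (4, 29), (4, 30), (5, 30), (5, 31), (4, 32), (4, 34), (5, 34), (4, 36), (5, 36), (3, 37), (38, 28), (10, 0), (40, 33), (7, 0), (2, 0), (1, 1), (4, 1), (3, 2), (6, 2),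 (7, 2), (6, 3), (9, 3), (8, 4), (11, 4), (10, 5), (13, 5), (12, 6), (15, 6), (16, 6), (17, 5), (18, 5), (19, 4), (20, 2), (19, 21), (20, 20), (1, 23), (1, 24), (1, 25), (2, 24), (2, 27), (3, 26), (3, 29), (4, 28), (3, 31), (3, 32), (3, 31), (3, 32), (3, 35), (3, 36), (4, 35), (4, 38), (4, 39), (38, 21), (11, 0), (42, 22), (10, 0), (17, 29), (3, 3), (1, 4), (5, 3), (4, 4), (7, 3), (6, 4), (6, 5), (8, 5), (8, 6), (10, 6), (13, 6), (12, 7), (13, 7), (13, 8), (17, 8), (15, 6), (19, 5), (20, 20), (21, 19), (22, 19), (21, 23), (22, 22), (23, 22), (23, 26), (24, 25), (25, 25), (8, 29), (9, 28), (9, 28), (9, 30), (10, 30), (6, 34), (7, 32), (12, 19), (34, 35), (8, 0), (36, 26), (14, 0), (4, 2), (3, 3), (2, 4), (7, 3), (6, 4), (5, 5), (6, 5), (7, 5), (12, 5), (11, 6), (10, 7), (13, 7), (16, 7), (15, 17), (16, 16), (17, 15), (16, 20), (17, 19), (18, 18), (5, 19), (5, 20), (5, 25), (6, 24),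 (7, 23), (7, 26), (7, 29), (28, 13), (1, 0), (0, 0), (1, 1), (179, 138), (0, 97), (0, 65), (187, 155), (0, 115), (0, 66), (0, 25), (0, 8), (203, 144), (0, 116), (0, 67), (0, 39), (204, 165), (0, 123), (0, 76), (0, 34), (14, 79), (10, 18), (7, 46), (4, 38)] := by
  decide +kernel

set_option maxRecDepth 1000000 in
theorem posOK_5_5_23 : PosOK 5 5 23
    [11, 9, 12, 8, 3, 5, 6, 2, 20, 13, 7, 1, 16, 0, 19, 18, 10, 4, 22, 15, 17, 21, 14, 23]
    [14, 5, 22, 1, 10, 16, 4, 18, 6, 12, 19, 11, 17, 13, 21, 3, 15, 7, 9, 8, 20, 2, 0, 23]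
    [(1, 1), (2, 1), (2, 2), (4, 2), (4, 3), (6, 3), (6, 4), (7, 4), (9, 4), (9, 5), (10, 5), (12, 5), (12, 6), (14, 6), (14, 7), (15, 7), (16, 6), (18, 6), (18, 3), (19, 2), (21, 21), (21, 22), (22, 22), (2, 24), (2, 25), (3, 25), (3, 26), (3, 28), (4, 28), (4, 30), (5, 30), (5, 32), (6, 32), (6, 33), (5, 35), (4, 36), (5, 36), (4, 38), (3, 38), (1, 40), (41, 29), (9, 0), (42, 36), (14, 0), (2, 2), (1, 1), (4, 1), (3, 2), (6, 2), (5, 3), (8, 3), (9, 3), (10, 3), (9, 4), (12, 4), (13, 3), (12, 3), (15, 3), (16, 3), (17, 3), (18, 3), (17, 4), (18, 3), (21, 21), (22, 20), (21, 23), (22, 22), (3, 25), (4, 24), (4, 27), (5, 26), (5, 29), (5, 30), (6, 29), (6, 32), (6, 33), (6, 32), (6, 33), (6, 36), (3, 37), (1, 36), (1, 39), (38, 27), (13, 0), (42, 36), (7, 0), (2, 2), (1, 3), (2, 2), (5, 2), (6, 2), (5, 3), (8, 3), (7, 4), (8, 4), (11, 4), (10, 4), (13, 4), (12, 3), (15, 3), (16,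 3), (15, 4), (16, 4), (17, 4), (20, 20), (21, 19), (20, 22), (21, 21), (3, 24), (4, 23), (4, 26), (4, 27), (4, 28), (5, 27), (4, 30), (5, 29), (5, 32), (6, 31), (6, 34), (7, 33), (7, 34), (6, 35), (7, 25), (39, 34), (18, 0), (2, 2), (1, 3), (4, 2), (3, 3), (6, 3), (5, 4), (8, 4), (7, 4), (10, 4), (9, 5), (10, 5), (13, 5), (12, 6), (15, 6), (14, 6), (15, 6), (18, 3), (19, 19), (20, 18), (1, 21), (2, 20), (2, 23), (3, 22), (3, 25), (4, 24), (4, 27), (5, 26), (5, 27), (3, 30), (2, 29), (2, 30), (2, 33), (3, 32), (3, 35), (3, 34), (37, 26), (7, 0), (4, 31), (38, 34), (41, 0), (3, 3), (3, 4), (2, 5), (6, 5), (4, 4), (5, 4), (9, 4), (7, 5), (8, 5), (9, 5), (13, 5), (13, 6), (15, 15), (16, 15), (17, 14), (17, 18), (16, 16), (4, 17), (4, 21), (5, 19), (5, 20), (5, 21), (5, 25), (6, 25), (26, 13), (2, 0), (0, 0), (1, 1), (192, 133), (0, 101), (0, 69), (0, 27), (0, 5), (182, 154), (0, 107),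 (0, 66), (0, 32), (0, 11), (191, 99), (0, 72), (0, 43), (0, 15), (207, 163), (0, 104), (0, 76), (0, 40), (14, 19), (10, 21), (7, 22), (4, 44)] := by
  decide +kernel

set_option maxRecDepth 1000000 in
theorem posOK_5_7_7 : PosOK 5 7 7
    [16, 20, 15, 22, 1, 0, 14, 21, 8, 18, 6, 11, 2, 13, 7, 17, 3, 19, 4, 12, 9, 10, 5, 23]
    [1, 4, 10, 3, 14, 5, 20, 6, 19, 15, 11, 8, 17, 0, 9, 13, 18, 22, 2, 16, 12, 7, 21, 23]
    [(1, 1), (1, 2), (3, 2), (3, 3), (5, 3), (5, 3), (7, 3), (7, 4), (8, 4), (10, 4), (10, 5), (12, 5), (12, 6), (13, 5), (15, 5), (15, 3), (17, 3), (17, 4), (19, 4), (19, 1), (21, 21), (21, 21), (1, 23), (2, 23), (2, 25), (3, 25), (3, 27), (3, 27), (3, 28), (3, 30), (4, 30), (4, 31), (2, 33), (3, 33), (3, 34), (3, 35), (2, 37), (3, 37), (2, 38), (2, 40), (7, 40), (41, 27), (21, 0), (2, 2), (1, 3), (4, 2), (3, 3), (6, 3), (5, 4), (8, 4), (7, 5), (8, 5), (9, 4), (12, 4),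 (11, 5), (14, 5), (15, 5), (14, 5), (17, 5), (16, 5), (17, 5), (18, 5), (21, 21), (22, 20), (21, 23), (22, 22), (1, 25), (2, 24), (2, 27), (3, 26), (3, 29), (4, 28), (3, 31), (4, 30), (4, 33), (5, 32), (5, 33), (5, 36), (3, 37), (3, 38), (4, 37), (5, 19), (14, 30), (40, 24), (5, 0), (3, 3), (3, 4), (2, 4), (6, 3), (6, 4), (5, 5), (9, 5), (9, 6), (11, 6), (9, 7), (12, 7), (11, 8), (14, 8), (13, 6), (14, 5), (18, 3), (16, 2), (20, 20), (21, 20), (21, 22), (22, 20), (21, 24), (22, 24), (23, 23), (6, 27), (6, 25), (6, 29), (7, 27), (7, 28), (5, 32), (6, 30), (3, 31), (3, 35), (3, 33), (37, 26), (11, 0), (38, 39), (10, 0), (38, 35), (6, 0), (43, 25), (41, 0), (4, 6), (3, 7), (2, 8), (5, 7), (4, 8), (11, 7), (10, 8), (9, 9), (14, 8), (13, 9), (12, 10), (11, 11), (14, 10), (15, 9), (16, 9), (21, 19), (22, 18), (23, 17), (22, 20), (23, 19), (22, 22), (23, 21), (22, 22), (7, 25), (8, 24),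 (8, 27), (9, 26), (9, 27), (8, 28), (6, 33), (34, 30), (5, 0), (38, 32), (5, 0), (36, 25), (13, 0), (4, 2), (3, 3), (2, 4), (7, 3), (6, 4), (5, 5), (6, 5), (7, 5), (12, 5), (11, 6), (10, 7), (13, 7), (16, 7), (15, 17), (16, 16), (17, 15), (16, 20), (17, 19), (18, 18), (5, 19), (5, 20), (5, 25), (6, 24), (7, 23), (7, 26), (7, 29), (4, 21), (0, 0), (1, 1), (192, 133), (0, 97), (0, 60), (0, 29), (0, 5), (192, 141), (0, 101), (0, 65), (0, 28), (0, 10), (200, 161), (0, 115), (0, 62), (0, 33), (197, 155), (0, 113), (0, 68), (0, 39), (0, 19), (15, 20), (11, 21), (8, 41), (4, 23)] := by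
  decide +kernel

set_option maxRecDepth 1000000 in
theorem posOK_5_7_11 : PosOK 5 7 11
    [4, 17, 6, 21, 10, 14, 15, 7, 12, 3, 8, 9, 0, 18, 2, 5, 13, 16, 1, 11, 20, 19, 22, 23]
    [22, 2, 17, 3, 5, 12, 1, 9, 7, 15, 8, 13, 19, 20, 4, 0, 16, 11, 14, 21, 6, 18, 10, 23]
    [(1, 1), (1, 2), (3, 1), (4, 1), (4, 2), (5, 2), (7, 2), (7, 2), (8, 2), (10, 2), (10, 3), (12, 3), (12, 4), (14, 4), (14, 5), (15, 5), (17, 5), (17, 5), (18, 5), (19, 1), (21, 21), (22, 21), (22, 23), (23, 23), (3, 25), (3, 25), (3, 27), (4, 27), (4, 29), (5, 29), (5, 30), (5, 31), (5, 32), (5, 33), (5, 35), (6, 35), (4, 36), (3, 38), (3, 39), (0, 40), (40, 40), (16, 0), (43, 28), (4, 0), (2, 2), (1, 3), (4, 2), (5, 2), (4, 3), (5, 3), (6, 3), (9, 3), (8, 4), (11, 4), (10, 5), (13, 5), (12, 6), (15, 6), (16, 6), (15, 4), (18, 3), (17, 2), (18, 1), (21, 21), (22, 20), (21, 23), (2, 24), (3, 23), (3, 24), (3,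 25), (3, 28), (4, 27), (4, 28), (4, 31), (3, 32), (4, 31), (4, 32), (4, 35), (4, 36), (4, 35), (4, 38), (2, 37), (38, 33), (5, 0), (42, 38), (1, 0), (1, 1), (3, 1), (3, 2), (5, 2), (5, 3), (7, 3), (7, 4), (9, 4), (9, 5), (11, 5), (12, 5), (13, 4), (13, 4), (15, 3), (16, 2), (16, 2), (18, 1), (19, 18), (0, 20), (1, 20), (1, 22), (2, 22), (2, 24), (3, 24), (3, 26), (4, 26), (4, 27), (3, 29), (2, 29), (2, 31), (2, 32), (3, 32), (3, 33), (3, 34), (2, 36), (2, 37), (7, 36), (9, 31), (1, 1), (1, 2), (3, 2), (3, 3), (5, 3), (5, 4), (7, 4), (7, 5), (9, 5), (9, 6), (11, 5), (12, 5), (13, 3), (14, 3), (14, 3), (15, 3), (17, 2), (18, 18), (19, 18), (19, 20), (20, 20), (3, 22), (4, 22), (4, 24), (5, 24), (5, 26), (4, 27), (3, 28), (4, 28), (4, 30), (4, 31), (3, 32), (3, 32), (1, 34), (34, 32), (7, 0), (37, 34), (17, 0), (15, 32), (1, 3), (4, 2), (3, 3), (3, 4), (5, 4), (5, 5), (9, 5), (8,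 6), (8, 7), (9, 7), (10, 7), (11, 7), (15, 15), (16, 14), (15, 17), (16, 16), (17, 16), (17, 18), (5, 19), (5, 20), (3, 23), (4, 22), (5, 22), (5, 26), (25, 14), (25, 0), (0, 0), (1, 1), (175, 131), (0, 106), (0, 66), (194, 145), (0, 94), (0, 56), (0, 23), (0, 9), (180, 152), (0, 98), (0, 75), (0, 33), (0, 14), (200, 156), (0, 116), (0, 83), (0, 39), (15, 81), (11, 20), (7, 21), (4, 43)] := by
  decide +kernel

set_option maxRecDepth 1000000 in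
theorem posOK_5_7_23 : PosOK 5 7 23
    [3, 8, 20, 5, 12, 4, 7, 1, 14, 19, 9, 15, 0, 13, 6, 16, 21, 17, 18, 2, 10, 22, 11, 23]
    [21, 9, 5, 13, 22, 11, 18, 7, 3, 2, 10, 12, 17, 15, 0, 19, 20, 1, 16, 4, 14, 6, 8, 23]
    [(1, 1), (1, 2), (3, 2), (3, 3), (5, 3), (5, 4), (6, 4), (7, 4), (9, 4), (9, 5), (11, 5), (12, 4), (12, 5), (14, 5), (15, 5), (15, 4), (16, 4), (18, 4), (18, 3), (20, 2), (21, 21), (22, 21), (22, 23), (23, 23), (3, 25), (4, 25), (4, 27), (4, 28), (4, 29), (5, 29), (5, 31), (5, 32), (6, 32), (6, 34), (6, 35), (7, 35), (6, 36), (5, 38), (5, 38), (4, 40), (41, 25), (18, 0), (43, 42), (16, 0), (2, 2), (1, 3), (4, 1), (5, 1), (4, 2), (5, 2), (8, 2), (7, 3), (10, 3), (9, 4), (12, 4), (11, 5), (12, 5), (15, 4), (14, 5), (15, 5), (18, 4), (19, 4), (18, 5), (21, 5), (22, 22), (23, 21), (22, 24), (23, 23), (2, 26), (3, 25), (3, 28), (4, 27), (4, 30), (5, 29), (5, 32), (6,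 31), (5, 34), (6, 33), (6, 36), (7, 35), (7, 36), (6, 39), (2, 38), (7, 39), (42, 25), (6, 0), (2, 2), (1, 3), (4, 2), (5, 2), (4, 3), (7, 3), (8, 3), (7, 4), (10, 4), (9, 5), (10, 5), (13, 5), (14, 5), (15, 5), (16, 5), (17, 5), (18, 5), (19, 2), (20, 20), (21, 19), (20, 22), (21, 21), (3, 24), (3, 23), (3, 26), (3, 27), (4, 26), (4, 29), (4, 30), (5, 29), (4, 32), (4, 33), (5, 32), (4, 35), (4, 36), (4, 37), (38, 23), (6, 0), (38, 26), (19, 0), (2, 2), (1, 3), (4, 1), (3, 2), (6, 2), (5, 3), (8, 3), (7, 4), (10, 4), (11, 4), (12, 4), (13, 3), (12, 4), (15, 4), (14, 4), (15, 4), (16, 2), (19, 0), (20, 20), (21, 19), (1, 22), (2, 21), (2, 22), (2, 25), (3, 24), (3, 27), (4, 26), (4, 29), (3, 30), (3, 31), (3, 32), (3, 33), (4, 32), (3, 35), (3, 36), (3, 35), (38, 30), (14, 0), (2, 26), (39, 29), (6, 0), (3, 3), (3, 4), (2, 5), (6, 5), (6, 6), (7, 5), (6, 6), (9, 6), (8, 7), (11,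 7), (10, 5), (11, 3), (15, 15), (16, 15), (17, 14), (17, 18), (16, 19), (17, 19), (18, 18), (6, 21), (6, 22), (7, 21), (7, 22), (2, 26), (24, 21), (9, 0), (0, 0), (1, 1), (180, 146), (0, 95), (0, 68), (0, 33), (0, 6), (197, 148), (0, 102), (0, 65), (0, 34), (0, 11), (195, 114), (0, 62), (0, 42), (0, 14), (195, 152), (0, 117), (0, 84), (0, 47), (0, 19), (15, 21), (11, 22), (8, 22), (4, 23)] := by
  decide +kernel

set_option maxRecDepth 1000000 in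
theorem posOK_5_11_11 : PosOK 5 11 11
    [13, 22, 9, 2, 4, 11, 6, 7, 5, 17, 3, 16, 18, 21, 8, 20, 14, 10, 19, 1, 0, 15, 12, 23]
    [18, 17, 19, 1, 16, 15, 3, 9, 20, 2, 12, 11, 8, 10, 0, 6, 21, 13, 22, 4, 5, 14, 7, 23]
    [(1, 1), (1, 2), (3, 2), (3, 3), (5, 3), (5, 4), (7, 4), (7, 5), (9, 5), (9, 6), (10, 6), (12, 6), (12, 7), (14, 7), (15, 7), (15, 6), (16, 6), (17, 6), (18, 6), (20, 0), (21, 21), (22, 21), (22, 23), (23, 23), (3, 24), (3, 25), (3, 27), (4, 27), (4, 29), (3, 30), (4, 30), (3, 31), (3, 32), (3, 34), (4, 34), (3, 35), (3, 37), (3, 37), (1, 38), (1, 39), (4, 25), (41, 42), (11, 0), (2, 2), (1, 3), (4, 1), (3, 2), (6, 2), (5, 3), (8, 3), (7, 4), (10, 4), (9, 5), (12, 5), (11, 6), (14, 6), (13, 7), (16, 7), (15, 8), (16, 7), (19, 6), (20, 4), (19, 5), (22, 22), (23, 21), (1, 24), (2, 23), (2, 26), (3, 25), (3, 28), (4, 27), (4, 30), (5, 29), (5, 32), (6, 31), (6,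 34), (6, 33), (6, 36), (6, 35), (6, 38), (7, 37), (6, 40), (5, 41), (40, 39), (1, 0), (21, 28), (1, 1), (1, 2), (3, 1), (3, 2), (4, 2), (6, 2), (6, 3), (8, 3), (8, 4), (10, 4), (10, 4), (12, 3), (12, 4), (14, 4), (15, 4), (15, 5), (17, 2), (17, 3), (18, 2), (20, 20), (21, 20), (1, 22), (2, 22), (2, 24), (3, 24), (3, 26), (4, 26), (4, 28), (5, 28), (5, 30), (6, 30), (6, 31), (5, 32), (4, 34), (3, 35), (3, 35), (3, 37), (2, 37), (1, 30), (39, 29), (15, 0), (2, 2), (3, 1), (2, 2), (5, 2), (4, 3), (7, 3), (6, 4), (9, 4), (10, 4), (9, 5), (12, 5), (11, 6), (14, 5), (13, 6), (16, 4), (15, 5), (18, 4), (19, 19), (20, 18), (19, 21), (20, 20), (3, 23), (4, 22), (4, 23), (4, 26), (5, 25), (5, 28), (5, 29), (6, 28), (6, 31), (7, 30), (7, 33), (6, 32), (2, 35), (34, 17), (10, 0), (36, 30), (3, 0), (40, 24), (39, 0), (8, 35), (3, 5), (2, 6), (3, 5), (3, 6), (4, 5), (10, 5), (9, 6), (8, 7),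 (8, 7), (10, 3), (11, 3), (16, 14), (17, 13), (18, 13), (17, 15), (18, 15), (4, 17), (4, 17), (4, 23), (5, 22), (5, 20), (5, 26), (6, 25), (1, 13), (0, 0), (1, 1), (185, 135), (0, 100), (0, 61), (0, 27), (0, 6), (195, 152), (0, 113), (0, 74), (0, 37), (203, 141), (0, 108), (0, 62), (0, 35), (0, 14), (202, 150), (0, 118), (0, 82), (0, 41), (0, 19), (15, 21), (12, 49), (8, 22), (4, 23)] := by
  decide +kernel

set_option maxRecDepth 1000000 in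
theorem posOK_5_11_23 : PosOK 5 11 23
    [16, 22, 0, 3, 19, 11, 2, 4, 14, 21, 9, 17, 12, 15, 5, 10, 20, 8, 18, 1, 6, 13, 7, 23]
    [9, 10, 8, 22, 4, 2, 0, 18, 16, 7, 21, 3, 19, 6, 11, 12, 14, 13, 20, 5, 1, 17, 15, 23]
    [(1, 1), (1, 2), (3, 2), (3, 3), (5, 3), (5, 4), (7, 4), (7, 5), (9, 5), (9, 6), (11, 6), (11, 7), (13, 7), (14, 7), (14, 8), (15, 7), (17, 7), (18, 7), (19, 7), (19, 2), (21, 20), (21, 22), (22, 22), (2, 24), (3, 24), (3, 26), (4, 26), (4, 28), (5, 28), (5, 30), (5, 31), (6, 31), (5, 32), (5, 34), (6, 34), (6, 36), (4, 36), (4, 38), (3, 38), (1, 39), (41, 41), (19, 0), (42, 41), (4, 0), (2, 2), (1, 3), (4, 2), (3, 3), (6, 3), (5, 4), (8, 4), (9, 4), (8, 5), (11, 5), (10, 6), (13, 6), (12, 7), (13, 4), (16, 4), (15, 5), (16, 5), (17, 4), (18, 1), (21, 21), (22, 20), (21, 23), (22, 22), (3, 25), (4, 24), (4, 27), (5, 26), (5, 29), (6, 28), (6, 29), (6, 32), (4,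 31), (4, 34), (5, 33), (5, 36), (6, 35), (3, 36), (1, 39), (38, 32), (6, 0), (42, 25), (16, 0), (10, 39), (3, 3), (2, 4), (2, 5), (6, 4), (4, 5), (8, 5), (6, 5), (7, 5), (11, 5), (9, 6), (10, 6), (14, 6), (12, 7), (16, 7), (15, 8), (15, 8), (16, 6), (20, 20), (21, 18), (20, 22), (21, 20), (21, 22), (22, 22), (5, 24), (6, 24), (6, 25), (6, 26), (6, 30), (7, 28), (7, 32), (8, 31), (9, 31), (9, 33), (5, 36), (5, 19), (7, 32), (37, 19), (15, 0), (3, 3), (3, 4), (2, 5), (6, 5), (7, 4), (5, 5), (8, 5), (10, 5), (11, 5), (9, 6), (12, 5), (11, 6), (12, 6), (13, 6), (17, 5), (17, 5), (19, 19), (20, 19), (20, 21), (21, 19), (20, 23), (21, 23), (22, 22), (6, 25), (6, 27), (7, 25), (7, 29), (8, 27), (8, 31), (8, 32), (9, 30), (7, 34), (35, 23), (33, 0), (37, 28), (37, 0), (39, 34), (6, 0), (4, 2), (1, 3), (6, 2), (5, 3), (4, 4), (9, 4), (6, 5), (11, 5), (8, 6), (11, 6), (14, 6), (11, 7), (14,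 7), (15, 17), (16, 14), (15, 19), (16, 18), (17, 17), (4, 22), (5, 19), (5, 24), (6, 21), (6, 24), (6, 27), (7, 24), (7, 27), (26, 25), (2, 0), (0, 0), (1, 1), (187, 131), (0, 94), (0, 55), (0, 31), (183, 135), (0, 94), (0, 70), (0, 32), (0, 10), (190, 157), (0, 109), (0, 69), (0, 36), (204, 161), (0, 107), (0, 80), (0, 41), (0, 18), (15, 46), (11, 21), (8, 44), (4, 22)] := by
  decide +kernel

set_option maxRecDepth 1000000 in
theorem posOK_5_23_23 : PosOK 5 23 23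
    [22, 8, 11, 3, 19, 16, 14, 12, 21, 9, 10, 4, 1, 17, 5, 2, 18, 0, 6, 15, 13, 7, 20, 23]
    [7, 14, 12, 10, 3, 17, 0, 20, 16, 22, 8, 19, 6, 2, 5, 11, 18, 4, 9, 1, 15, 13, 21, 23]
    [(1, 1), (1, 2), (3, 2), (4, 2), (4, 3), (6, 2), (6, 3), (8, 3), (8, 4), (9, 4), (11, 4), (11, 5), (12, 4), (13, 3), (14, 3), (16, 3), (16, 3), (18, 2), (18, 1), (19, 1), (21, 21), (22, 21), (22, 23), (23, 23), (3, 25), (4, 25), (4, 27), (4, 28), (4, 29), (5, 29), (5, 31), (5, 32), (5, 32), (3, 34), (3, 34), (3, 35), (3, 36), (1, 37), (1, 39), (2, 39), (1, 27), (42, 27), (8, 0), (2, 2), (1, 3), (4, 2), (3, 3), (6, 3), (5, 4), (8, 4), (7, 5), (10, 4), (9, 4), (12, 4), (11, 5), (14, 5), (15, 5), (14, 6), (15, 4), (18, 4), (19, 3), (18, 0), (21, 21), (22, 20), (21, 23), (2, 24), (3, 23), (3, 26), (4, 25), (4, 28), (5, 27), (5, 28), (3, 31), (3, 32), (3, 33), (4, 32), (4, 33), (3, 34), (3, 35), (3,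 38), (2, 39), (38, 26), (6, 0), (42, 40), (20, 0), (44, 27), (8, 0), (2, 4), (1, 5), (6, 4), (5, 5), (4, 6), (7, 5), (6, 6), (11, 6), (10, 7), (9, 8), (12, 7), (11, 5), (16, 4), (17, 3), (16, 4), (15, 5), (18, 5), (21, 21), (22, 20), (23, 19), (22, 24), (23, 21), (22, 26), (23, 25), (24, 24), (7, 29), (7, 28), (7, 29), (6, 32), (7, 29), (7, 30), (7, 33), (7, 34), (5, 37), (36, 23), (16, 0), (38, 22), (4, 0), (38, 42), (5, 0), (4, 2), (3, 3), (2, 4), (7, 3), (6, 4), (9, 4), (10, 3), (9, 4), (8, 5), (9, 5), (14, 5), (11, 6), (12, 6), (17, 6), (14, 7), (15, 5), (20, 3), (19, 17), (18, 22), (19, 21), (20, 20), (3, 25), (4, 22), (4, 23), (4, 24), (4, 29), (5, 28), (4, 31), (4, 28), (4, 33), (5, 32), (5, 35), (5, 34), (3, 33), (34, 24), (2, 0), (40, 21), (12, 0), (42, 32), (20, 0), (4, 4), (3, 5), (2, 6), (7, 5), (4, 6), (7, 4), (6, 4), (11, 4), (10, 4), (13, 4), (14, 4), (13, 1), (16,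 16), (17, 15), (18, 14), (17, 19), (18, 16), (17, 21), (5, 20), (6, 19), (6, 24), (3, 23), (4, 22), (2, 27), (26, 21), (9, 0), (0, 0), (1, 1), (189, 139), (0, 100), (0, 61), (0, 24), (0, 5), (201, 139), (0, 103), (0, 66), (0, 38), (0, 10), (187, 153), (0, 123), (0, 80), (0, 29), (197, 165), (0, 125), (0, 80), (0, 45), (0, 20), (15, 20), (11, 21), (8, 37), (4, 24)] := by
  decide +kernel

set_option maxRecDepth 1000000 in
theorem posOK_7_7_7 : PosOK 7 7 7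
    [7, 9, 11, 2, 5, 1, 3, 19, 17, 8, 6, 12, 13, 10, 4, 20, 15, 14, 18, 22, 0, 21, 16, 23]
    [4, 18, 20, 0, 22, 7, 5, 19, 12, 8, 13, 11, 14, 3, 17, 1, 16, 2, 6, 15, 9, 10, 21, 23]
    [(1, 1), (2, 1), (2, 2), (3, 2), (5, 2), (6, 2), (6, 3), (8, 3), (9, 3), (9, 4), (10, 3), (12, 2), (12, 2), (13, 2), (15, 2), (15, 3), (17, 3), (18, 2), (18, 3), (20, 0), (21, 21), (22, 21), (22, 23), (23, 23), (3, 25), (4, 25), (4, 26), (4, 28), (5, 28), (5, 30), (5, 31), (5, 32), (5, 33), (6, 33), (6, 34), (6, 35), (6, 37), (6, 37), (6, 38), (6, 40), (12, 29), (41, 33), (2, 0), (22, 39), (3, 3), (2, 4), (2, 5), (6, 4), (4, 5), (8, 5), (9, 5), (7, 5), (9, 5), (12, 5), (11, 6), (11, 6), (15, 6), (13, 7), (17, 7), (18, 6), (19, 5), (17, 4), (21, 21), (22, 20), (23, 20), (21, 22), (22, 22), (4, 26), (5, 25), (6, 25), (6, 27), (7, 27), (7, 31), (8, 30), (8, 31), (7, 32), (6, 32), (6, 33), (6, 35),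 (5, 35), (5, 39), (38, 31), (3, 0), (39, 30), (13, 0), (0, 2), (3, 1), (2, 2), (5, 2), (4, 3), (5, 3), (8, 3), (7, 3), (8, 3), (11, 3), (10, 3), (13, 3), (14, 3), (15, 3), (14, 4), (17, 3), (18, 2), (19, 2), (20, 18), (19, 21), (20, 20), (2, 23), (2, 24), (3, 23), (3, 24), (3, 27), (3, 28), (2, 29), (3, 28), (3, 31), (4, 30), (3, 31), (3, 34), (3, 33), (2, 34), (2, 35), (16, 31), (37, 32), (16, 0), (2, 2), (1, 3), (4, 2), (3, 3), (4, 3), (7, 3), (8, 3), (7, 4), (8, 4), (9, 4), (12, 4), (13, 3), (14, 3), (15, 3), (14, 4), (15, 4), (18, 4), (19, 19), (20, 18), (19, 21), (20, 20), (3, 21), (3, 24), (4, 23), (4, 26), (5, 25), (5, 26), (4, 29), (4, 30), (5, 29), (5, 30), (5, 33), (4, 32), (3, 33), (36, 34), (9, 0), (5, 20), (39, 21), (8, 0), (2, 3), (4, 3), (2, 4), (5, 3), (4, 4), (8, 3), (8, 4), (10, 4), (8, 5), (12, 5), (10, 6), (13, 6), (15, 15), (16, 15), (16, 17), (17, 15), (16,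 18), (4, 19), (4, 21), (5, 19), (5, 23), (6, 23), (7, 22), (7, 26), (2, 21), (0, 0), (1, 1), (185, 140), (0, 90), (0, 57), (0, 18), (0, 6), (192, 149), (0, 101), (0, 66), (0, 30), (0, 10), (190, 156), (0, 63), (0, 42), (0, 14), (186, 151), (0, 111), (0, 80), (0, 43), (0, 20), (15, 21), (11, 21), (8, 22), (4, 24)] := by
  decide +kernel

set_option maxRecDepth 1000000 in
theorem posOK_7_7_11 : PosOK 7 7 11
    [8, 10, 7, 6, 12, 22, 15, 20, 4, 2, 14, 11, 3, 9, 19, 0, 21, 5, 18, 17, 16, 13, 1, 23]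
    [15, 7, 18, 4, 12, 14, 1, 11, 8, 17, 5, 9, 2, 0, 13, 22, 6, 16, 19, 20, 3, 21, 10, 23]
    [(1, 1), (1, 1), (3, 1), (4, 1), (4, 2), (6, 2), (6, 3), (7, 3), (9, 3), (9, 4), (11, 4), (11, 4), (13, 4), (13, 5), (15, 5), (15, 6), (17, 3), (17, 3), (19, 3), (20, 2), (21, 21), (21, 22), (22, 22), (2, 24), (3, 24), (2, 26), (3, 26), (3, 28), (4, 28), (4, 29), (4, 31), (5, 31), (4, 33), (4, 34), (5, 34), (5, 35), (3, 37), (3, 38), (3, 38), (3, 39), (4, 22), (41, 25), (1, 1), (1, 2), (3, 2), (3, 3), (5, 2), (5, 3), (7, 3), (7, 4), (9, 4), (9, 5), (11, 5), (12, 5), (12, 4), (14, 4), (15, 4), (15, 3), (17, 3), (17, 4), (19, 3), (20, 20), (21, 20), (21, 22), (2, 23), (3, 23), (3, 25), (4, 25), (4, 27), (5, 27), (5, 29), (6, 29), (6, 31), (6, 32), (3, 33), (3, 34), (4, 34), (4, 35), (3, 37), (4, 37), (18, 24), (39, 30), (15, 0), (2, 2), (1, 3), (4, 2), (3, 2), (6, 2), (5, 3), (8, 3), (9,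 3), (10, 3), (9, 4), (12, 4), (13, 3), (12, 4), (13, 4), (14, 3), (15, 3), (16, 3), (17, 2), (20, 20), (21, 19), (20, 22), (21, 21), (3, 22), (3, 23), (3, 26), (4, 25), (3, 28), (3, 27), (3, 28), (3, 29), (2, 30), (2, 33), (3, 32), (3, 33), (1, 36), (2, 35), (14, 34), (5, 22), (0, 1), (2, 1), (2, 2), (4, 2), (5, 2), (6, 2), (6, 3), (8, 3), (8, 4), (9, 4), (10, 4), (12, 4), (12, 5), (14, 5), (15, 4), (15, 5), (17, 2), (18, 18), (19, 18), (19, 20), (20, 20), (3, 22), (4, 22), (4, 24), (5, 24), (5, 26), (5, 26), (5, 28), (5, 29), (4, 29), (4, 31), (5, 31), (3, 32), (3, 33), (34, 28), (9, 0), (36, 26), (7, 0), (38, 21), (8, 0), (4, 4), (3, 5), (2, 6), (7, 5), (6, 6), (5, 7), (8, 5), (9, 5), (8, 6), (11, 6), (10, 3), (15, 3), (12, 3), (17, 17), (18, 16), (17, 19), (18, 18), (19, 17), (18, 20), (5, 21), (5, 22), (6, 21), (6, 26), (6, 27), (6, 24), (29, 19), (10, 0), (0, 0), (1, 1), (186,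 138), (0, 102), (0, 69), (0, 26), (0, 5), (193, 148), (0, 101), (0, 34), (0, 9), (187, 157), (0, 102), (0, 81), (0, 45), (0, 15), (195, 154), (0, 124), (0, 75), (0, 35), (14, 19), (11, 20), (7, 22), (4, 39)] := by
  decide +kernel

set_option maxRecDepth 1000000 in
theorem posOK_7_7_23 : PosOK 7 7 23
    [0, 18, 20, 2, 6, 7, 8, 15, 12, 16, 11, 9, 19, 1, 17, 10, 5, 4, 21, 14, 13, 3, 22, 23]
    [1, 8, 10, 7, 4, 12, 11, 14, 16, 6, 13, 15, 22, 19, 9, 3, 17, 21, 18, 5, 0, 20, 2, 23]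
    [(1, 0), (1, 1), (3, 1), (4, 1), (4, 2), (6, 2), (6, 3), (8, 3), (8, 4), (10, 4), (10, 5), (12, 5), (12, 6), (14, 6), (15, 6), (16, 4), (16, 4), (18, 4), (18, 3), (20, 3), (21, 3), (21, 22), (22, 22), (1, 24), (2, 24), (2, 26), (3, 26), (3, 27), (3, 28), (3, 30), (3, 31), (4, 31), (4, 33), (5, 33), (5, 35), (6, 35), (6, 37), (6, 38), (6, 39), (5, 40), (6, 40), (0, 42), (42, 30), (3, 0), (44, 40), (20, 0), (2, 2), (1, 3), (4, 2), (5, 2), (4, 3), (7, 3), (8, 3), (7, 4), (10, 4), (11, 4), (12, 4), (11, 5), (12, 5), (15, 5), (16, 4), (15, 2), (16, 2), (19, 2), (18, 3), (21, 21), (22, 20), (21, 23), (22, 22), (3, 25), (3, 26), (4, 25), (4, 28), (4, 29), (5, 28), (5, 31), (5, 32), (6, 31), (6, 34), (6, 35), (5, 36), (5, 37), (5, 38), (2, 39), (11, 24), (41, 22), (14, 0), (2, 2), (1, 3), (4, 2), (3, 3), (6, 2), (5, 3), (8, 3), (9, 3), (8, 4), (9, 4), (12, 4), (13, 3), (12, 3), (15,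 3), (14, 4), (15, 4), (18, 4), (19, 4), (20, 20), (21, 19), (20, 22), (21, 21), (3, 24), (4, 23), (4, 26), (4, 27), (4, 28), (5, 27), (5, 28), (5, 29), (5, 32), (5, 33), (5, 34), (3, 33), (3, 36), (3, 37), (38, 32), (3, 0), (9, 23), (1, 1), (1, 2), (3, 2), (3, 3), (5, 3), (6, 3), (6, 4), (8, 4), (9, 4), (10, 4), (11, 4), (11, 5), (13, 5), (13, 5), (14, 4), (16, 3), (16, 2), (18, 18), (19, 18), (19, 20), (20, 20), (3, 21), (3, 23), (2, 24), (3, 24), (3, 26), (3, 27), (4, 27), (2, 29), (3, 29), (3, 30), (3, 31), (3, 33), (3, 34), (34, 24), (3, 0), (6, 34), (38, 33), (5, 0), (2, 3), (4, 3), (2, 4), (5, 3), (4, 4), (8, 3), (8, 4), (10, 4), (8, 5), (12, 5), (10, 6), (13, 6), (15, 15), (16, 15), (16, 17), (17, 15), (16, 18), (4, 19), (4, 21), (5, 19), (5, 23), (6, 23), (7, 22), (7, 26), (0, 13), (0, 0), (1, 1), (192, 135), (0, 105), (0, 54), (0, 25), (0, 5), (188, 150), (0, 96), (0,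 65), (0, 27), (0, 10), (201, 142), (0, 115), (0, 68), (0, 42), (191, 160), (0, 111), (0, 70), (0, 36), (0, 20), (15, 20), (11, 21), (8, 50), (4, 24)] := by
  decide +kernel

set_option maxRecDepth 1000000 in
theorem posOK_7_11_11 : PosOK 7 11 11
    [5, 10, 22, 17, 13, 20, 4, 9, 12, 8, 7, 11, 21, 14, 2, 6, 0, 16, 18, 3, 19, 1, 15, 23]
    [13, 6, 9, 1, 11, 7, 18, 14, 21, 5, 12, 17, 8, 16, 22, 10, 4, 15, 19, 2, 20, 0, 3, 23]
    [(1, 1), (1, 2), (3, 2), (3, 3), (5, 3), (6, 3), (7, 3), (7, 4), (8, 4), (10, 4), (11, 4), (12, 3), (12, 3), (14, 3), (14, 4), (16, 4), (16, 5), (18, 5), (18, 6), (19, 1), (21, 21), (22, 21), (22, 23), (23, 23), (3, 25), (4, 25), (4, 27), (4, 27), (4, 29), (4, 30), (5, 30), (4, 32), (4, 33), (5, 33), (5, 35), (6, 35), (6, 37), (7, 37), (7, 38), (4, 39), (9, 32), (42, 24), (9, 0), (2, 2), (1, 3), (4, 2), (5, 2), (6, 2), (5, 3), (8, 3), (9, 3), (8, 4), (11,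 4), (10, 5), (13, 4), (12, 4), (15, 4), (16, 4), (15, 5), (16, 4), (17, 4), (20, 4), (21, 21), (22, 20), (21, 23), (2, 24), (3, 23), (3, 26), (4, 25), (4, 28), (4, 29), (4, 30), (4, 29), (3, 32), (4, 31), (3, 34), (3, 35), (3, 36), (4, 35), (4, 36), (1, 37), (5, 22), (39, 20), (42, 0), (2, 2), (1, 3), (4, 2), (3, 3), (6, 3), (5, 4), (8, 3), (7, 4), (10, 4), (9, 4), (10, 4), (11, 4), (14, 4), (13, 4), (16, 4), (15, 3), (18, 2), (19, 2), (20, 20), (21, 19), (20, 22), (21, 21), (3, 24), (4, 23), (4, 26), (5, 25), (4, 26), (4, 29), (5, 28), (5, 31), (6, 30), (6, 33), (6, 32), (5, 33), (5, 34), (4, 35), (3, 19), (37, 19), (13, 0), (20, 31), (3, 1), (2, 2), (5, 2), (4, 3), (4, 4), (6, 4), (9, 4), (8, 5), (8, 6), (10, 6), (11, 6), (11, 7), (12, 7), (14, 7), (15, 6), (18, 6), (16, 5), (18, 20), (19, 19), (20, 19), (20, 23), (21, 21), (4, 23), (5, 23), (5, 27), (6, 26), (7, 26), (7, 28),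 (8, 28), (7, 30), (7, 30), (6, 31), (4, 33), (5, 33), (35, 28), (17, 0), (36, 37), (40, 33), (4, 0), (0, 3), (4, 3), (2, 4), (5, 3), (6, 3), (5, 3), (8, 3), (10, 3), (10, 4), (9, 5), (10, 5), (13, 3), (15, 14), (16, 13), (14, 16), (2, 18), (3, 16), (3, 19), (3, 21), (4, 21), (5, 20), (5, 21), (4, 25), (5, 25), (4, 27), (28, 27), (10, 0), (0, 0), (1, 1), (177, 139), (0, 92), (0, 54), (0, 30), (0, 6), (189, 140), (0, 110), (0, 76), (0, 34), (0, 10), (182, 150), (0, 102), (0, 74), (0, 32), (0, 16), (204, 150), (0, 120), (0, 79), (0, 44), (15, 21), (11, 21), (7, 23), (4, 48)] := by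
  decide +kernel

set_option maxRecDepth 1000000 in
theorem posOK_7_11_23 : PosOK 7 11 23
    [5, 15, 10, 18, 12, 20, 6, 17, 11, 22, 13, 9, 16, 8, 19, 0, 3, 4, 7, 1, 14, 21, 2, 23]
    [6, 22, 18, 21, 5, 15, 11, 16, 4, 9, 8, 13, 17, 1, 19, 12, 0, 14, 10, 2, 3, 7, 20, 23]
    [(1, 1), (1, 2), (2, 2), (4, 2), (4, 3), (5, 3), (7, 3), (7, 4), (9, 4), (10, 4), (10, 5), (12, 5), (12, 6), (14, 6), (15, 6), (15, 7), (16, 7), (18, 7), (18, 8), (20, 6), (21, 21), (22, 21), (22, 23), (23, 23), (3, 25), (4, 25), (4, 26), (3, 28), (4, 28), (4, 30), (4, 31), (5, 31), (5, 33), (6, 33), (6, 35), (7, 35), (6, 37), (5, 37), (2, 39), (0, 40), (40, 34), (8, 0), (43, 39), (3, 0), (2, 2), (1, 3), (2, 2), (5, 2), (4, 3), (7, 3), (6, 4), (9, 4), (8, 5), (11, 5), (10, 6), (13, 6), (12, 7), (15, 6), (14, 7), (15, 7), (18, 5), (17, 6), (20, 6), (21, 21), (22, 20), (21, 23), (22, 22), (3, 25), (4, 24), (4,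 27), (5, 26), (5, 29), (6, 28), (6, 31), (7, 30), (7, 33), (8, 32), (7, 35), (7, 36), (5, 35), (4, 38), (4, 37), (38, 24), (4, 0), (40, 33), (11, 0), (44, 30), (17, 0), (4, 4), (3, 5), (6, 4), (5, 5), (4, 6), (9, 5), (8, 6), (11, 5), (10, 6), (13, 5), (12, 6), (15, 6), (14, 7), (17, 6), (16, 7), (15, 4), (20, 4), (19, 21), (20, 20), (19, 21), (2, 22), (2, 23), (3, 22), (3, 27), (4, 26), (4, 29), (5, 28), (6, 27), (5, 32), (6, 31), (6, 34), (7, 31), (6, 32), (6, 35), (34, 19), (4, 0), (8, 24), (1, 1), (1, 2), (2, 2), (3, 2), (5, 2), (5, 3), (7, 3), (7, 3), (8, 3), (10, 3), (10, 4), (12, 4), (12, 5), (14, 5), (15, 4), (16, 4), (16, 1), (18, 18), (19, 18), (19, 20), (20, 20), (3, 21), (3, 22), (3, 24), (4, 24), (4, 26), (4, 27), (4, 28), (4, 28), (4, 29), (4, 30), (3, 32), (4, 32), (3, 33), (34, 17), (5, 0), (37, 28), (17, 0), (15, 28), (3, 3), (2, 4), (5, 3), (4, 4), (4, 5), (8,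 5), (7, 6), (8, 6), (11, 6), (10, 7), (11, 3), (12, 3), (15, 15), (16, 14), (17, 14), (16, 18), (17, 17), (18, 17), (18, 18), (6, 20), (6, 23), (7, 22), (3, 23), (3, 24), (24, 21), (0, 0), (1, 1), (175, 146), (0, 104), (0, 68), (0, 27), (0, 5), (182, 138), (0, 106), (0, 60), (0, 24), (190, 144), (0, 106), (0, 66), (0, 31), (0, 14), (201, 146), (0, 118), (0, 66), (0, 47), (0, 20), (15, 20), (12, 36), (8, 22), (4, 24)] := by
  decide +kernel

set_option maxRecDepth 1000000 in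
theorem posOK_7_23_23 : PosOK 7 23 23
    [11, 4, 18, 20, 15, 12, 19, 13, 1, 7, 3, 16, 17, 0, 14, 10, 22, 6, 5, 2, 8, 21, 9, 23]
    [3, 18, 7, 16, 8, 9, 5, 22, 6, 21, 14, 13, 19, 10, 0, 12, 4, 1, 20, 17, 2, 15, 11, 23]
    [(1, 1), (1, 2), (3, 2), (4, 2), (4, 3), (5, 3), (7, 3), (7, 4), (9, 4), (10, 4), (10, 4), (12, 4), (12, 5), (14, 5), (14, 6), (15, 6), (16, 6), (18, 4), (18, 5), (20, 2), (21, 21), (22, 21), (22, 22), (2, 24), (3, 24), (3, 25), (3, 27), (3, 27), (3, 29), (4, 29), (4, 31), (4, 32), (5, 32), (5, 34), (6, 34), (6, 35), (6, 37), (5, 38), (3, 39), (4, 39), (9, 39), (5, 24), (1, 1), (1, 2), (2, 2), (4, 1), (4, 2), (6, 2), (7, 2), (7, 3), (9, 3), (9, 4), (11, 4), (11, 4), (12, 4), (13, 4), (15, 4), (16, 3), (17, 3), (17, 4), (18, 4), (20, 20), (20, 21), (21, 21), (2, 23), (3, 23), (3, 24), (3, 26), (3, 27), (4, 27), (4, 28), (4, 30), (5, 30), (3, 32), (4, 32), (4,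 33), (4, 34), (3, 35), (3, 37), (0, 38), (38, 39), (12, 0), (3, 34), (0, 1), (2, 1), (2, 2), (4, 2), (5, 2), (5, 3), (7, 3), (7, 4), (9, 4), (9, 5), (11, 5), (11, 6), (13, 6), (14, 6), (15, 6), (16, 4), (16, 3), (17, 1), (19, 19), (20, 19), (20, 21), (21, 21), (3, 23), (4, 23), (4, 25), (5, 25), (5, 27), (6, 27), (6, 29), (6, 30), (6, 30), (4, 32), (4, 33), (3, 33), (3, 34), (2, 35), (14, 24), (38, 20), (3, 0), (40, 35), (11, 0), (16, 33), (3, 5), (2, 6), (5, 5), (4, 6), (4, 7), (6, 5), (6, 6), (12, 6), (8, 7), (14, 7), (15, 7), (11, 6), (13, 6), (13, 6), (14, 5), (16, 3), (21, 19), (22, 18), (23, 18), (22, 22), (23, 21), (24, 21), (5, 27), (6, 24), (7, 24), (7, 30), (7, 29), (8, 27), (8, 29), (8, 30), (8, 35), (9, 31), (8, 33), (10, 29), (35, 29), (14, 0), (37, 30), (4, 0), (4, 4), (3, 5), (2, 6), (7, 5), (6, 6), (5, 4), (10, 4), (9, 5), (8, 6), (13, 6), (12, 7), (11, 7), (12,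 7), (17, 17), (18, 16), (19, 15), (18, 20), (19, 17), (18, 22), (5, 19), (5, 24), (5, 25), (6, 24), (4, 27), (5, 26), (10, 14), (0, 0), (1, 1), (179, 136), (0, 109), (0, 68), (0, 19), (0, 5), (192, 145), (0, 114), (0, 73), (0, 32), (0, 10), (187, 155), (0, 103), (0, 62), (0, 32), (0, 15), (195, 159), (0, 79), (0, 49), (0, 19), (15, 20), (11, 21), (7, 22), (4, 23)] := by
  decide +kernel

set_option maxRecDepth 1000000 in
theorem posOK_11_11_11 : PosOK 11 11 11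
    [12, 3, 4, 15, 11, 7, 21, 6, 1, 13, 0, 16, 8, 22, 9, 5, 17, 20, 14, 19, 18, 10, 2, 23]
    [14, 18, 12, 13, 20, 8, 2, 3, 0, 1, 9, 17, 16, 6, 10, 15, 11, 19, 22, 21, 5, 7, 4, 23]
    [(1, 1), (1, 2), (3, 2), (3, 3), (5, 3), (6, 3), (6, 4), (8, 4), (9, 3), (9, 4), (11, 4), (11, 5), (13, 4), (13, 5), (15, 5), (15, 4), (16, 4), (18, 4), (18, 5), (20, 3), (21, 21), (22, 21), (22, 23), (23, 23), (3, 25), (4, 25), (4, 27), (4, 27), (4, 29), (5, 29), (5, 31), (6, 31), (6, 32), (6, 33), (6, 35), (6, 36), (6, 36), (5, 38), (5, 39), (6, 39), (41, 23), (42, 0), (18, 26), (1, 1), (1, 2), (3, 2), (3, 3), (5, 3), (5, 4), (7, 4), (7, 5), (8, 5), (10, 5), (10, 6), (12, 6), (13, 5), (13, 6), (15, 6), (15, 5), (17, 3), (18, 1), (19, 1), (20, 20), (21, 20), (21, 22), (22, 22), (3, 24), (4, 24), (4, 26), (5, 26), (5, 28), (6, 28), (6, 30), (7, 30), (7, 32), (8, 32), (7, 33), (6, 34), (5, 36), (2,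 37), (0, 37), (38, 21), (5, 0), (41, 24), (11, 0), (0, 2), (3, 1), (2, 2), (5, 2), (4, 3), (7, 3), (6, 4), (9, 4), (8, 5), (11, 5), (12, 5), (11, 6), (14, 6), (15, 5), (16, 5), (15, 6), (18, 6), (17, 4), (20, 18), (19, 21), (20, 20), (2, 21), (2, 24), (3, 23), (3, 24), (2, 25), (2, 28), (3, 27), (3, 30), (4, 29), (4, 32), (3, 33), (3, 34), (3, 35), (2, 34), (2, 37), (36, 21), (39, 0), (40, 28), (8, 0), (2, 2), (1, 3), (4, 2), (3, 3), (6, 3), (5, 4), (6, 4), (9, 4), (8, 5), (11, 3), (10, 4), (13, 3), (12, 4), (15, 3), (14, 3), (15, 3), (16, 2), (19, 19), (20, 18), (19, 21), (20, 20), (3, 23), (4, 22), (4, 25), (4, 26), (5, 25), (5, 28), (5, 29), (5, 30), (5, 31), (5, 30), (5, 33), (5, 32), (3, 33), (34, 26), (35, 0), (36, 24), (8, 0), (15, 23), (3, 3), (2, 4), (2, 5), (6, 4), (5, 5), (8, 5), (7, 5), (7, 6), (9, 6), (9, 6), (13, 6), (11, 7), (15, 15), (16, 14), (17, 14), (16, 18),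 (17, 17), (18, 17), (5, 18), (5, 20), (6, 20), (6, 21), (3, 25), (4, 23), (3, 24), (28, 15), (8, 0), (0, 0), (1, 1), (188, 145), (0, 98), (0, 64), (0, 22), (0, 5), (185, 139), (0, 102), (0, 59), (0, 28), (0, 11), (193, 160), (0, 117), (0, 70), (0, 37), (0, 16), (208, 147), (0, 116), (0, 84), (0, 43), (0, 20), (16, 21), (12, 23), (8, 24), (4, 24)] := by
  decide +kernel

set_option maxRecDepth 1000000 in
theorem posOK_11_11_23 : PosOK 11 11 23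
    [12, 16, 11, 3, 10, 18, 21, 4, 9, 14, 5, 22, 20, 17, 19, 2, 8, 15, 1, 7, 13, 0, 6, 23]
    [7, 1, 6, 11, 22, 3, 4, 20, 2, 18, 14, 0, 19, 9, 5, 8, 15, 12, 21, 10, 17, 16, 13, 23]
    [(1, 1), (1, 2), (3, 2), (4, 2), (4, 3), (5, 3), (6, 3), (7, 3), (9, 3), (10, 3), (10, 4), (12, 4), (12, 4), (14, 4), (14, 5), (15, 5), (17, 4), (18, 4), (19, 4), (19, 2), (21, 21), (22, 21), (22, 23), (23, 23), (3, 25), (3, 26), (4, 26), (4, 28), (5, 28), (4, 29), (4, 31), (5, 31), (5, 32), (5, 34), (6, 34), (5, 36), (5, 36), (4, 38), (3, 39), (2, 39), (40, 27), (42, 0), (43, 29), (4, 0), (2, 2), (1, 3), (4, 2), (3, 3), (6, 3), (5, 4), (8, 4), (7, 5), (8, 5), (11, 5), (10, 6), (11, 6), (14, 5), (13, 5), (14, 3), (17, 3), (16, 3), (19, 3), (20, 2), (21, 21), (22, 20), (21, 23), (22, 22), (3, 25), (3, 26), (3, 27), (4, 26), (4, 27), (4, 30), (4, 31), (4, 32), (5, 31), (5, 32), (5, 33), (4, 36), (3,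 37), (3, 36), (2, 39), (40, 24), (5, 0), (42, 25), (20, 0), (2, 2), (1, 3), (4, 2), (5, 2), (4, 3), (7, 3), (6, 4), (9, 4), (8, 5), (9, 5), (10, 5), (13, 5), (12, 5), (13, 4), (16, 4), (17, 3), (16, 0), (19, 0), (20, 20), (21, 19), (20, 22), (2, 23), (3, 22), (3, 25), (4, 24), (4, 25), (4, 26), (4, 29), (3, 28), (3, 31), (4, 30), (4, 31), (4, 32), (4, 35), (1, 36), (1, 37), (2, 36), (39, 28), (13, 0), (2, 2), (1, 3), (4, 2), (3, 2), (6, 2), (5, 3), (8, 3), (7, 4), (8, 4), (9, 4), (12, 4), (11, 4), (12, 2), (15, 2), (16, 2), (15, 3), (16, 2), (19, 19), (20, 18), (19, 21), (20, 20), (3, 21), (3, 24), (4, 23), (4, 26), (5, 25), (4, 28), (3, 27), (3, 28), (3, 31), (4, 30), (4, 31), (4, 32), (3, 33), (7, 27), (37, 22), (10, 0), (37, 22), (13, 0), (4, 4), (1, 5), (6, 2), (5, 3), (6, 3), (5, 4), (10, 4), (9, 5), (8, 5), (11, 5), (10, 5), (13, 5), (14, 4), (17, 17), (18, 14), (15, 19),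 (16, 18), (3, 19), (4, 18), (4, 23), (5, 22), (5, 21), (5, 24), (5, 23), (5, 26), (4, 27), (28, 21), (13, 0), (0, 0), (1, 1), (176, 137), (0, 91), (0, 59), (0, 37), (0, 5), (192, 157), (0, 103), (0, 78), (0, 38), (0, 11), (191, 141), (0, 109), (0, 74), (0, 34), (0, 16), (198, 155), (0, 117), (0, 78), (0, 35), (0, 20), (16, 21), (12, 23), (8, 24), (4, 24)] := by
  decide +kernel

set_option maxRecDepth 1000000 in
theorem posOK_11_23_23 : PosOK 11 23 23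
    [1, 20, 5, 11, 13, 10, 7, 19, 21, 0, 18, 2, 12, 15, 8, 22, 3, 14, 4, 17, 6, 9, 16, 23]
    [6, 16, 8, 22, 3, 20, 5, 2, 12, 18, 4, 17, 10, 15, 13, 0, 7, 14, 11, 1, 19, 9, 21, 23]
    [(1, 1), (1, 2), (3, 2), (3, 3), (4, 3), (6, 3), (6, 3), (8, 3), (9, 3), (10, 3), (10, 4), (11, 4), (13, 4), (13, 5), (15, 5), (15, 4), (16, 4), (18, 3), (19, 2), (20, 1), (21, 21), (21, 22), (1, 23), (2, 23), (2, 25), (3, 25), (3, 26), (3, 27), (3, 29), (4, 29), (4, 31), (4, 32), (5, 32), (5, 34), (4, 35), (5, 35), (5, 37), (4, 38), (4, 38), (2, 39), (40, 38), (8, 0), (43, 35), (8, 0), (2, 2), (1, 3), (4, 2), (3, 3), (4, 3), (7, 3), (8, 3), (7, 4), (10, 4), (9, 5), (10, 5), (13, 5), (12, 6), (13, 5), (14, 5), (15, 5), (18, 3), (17, 3), (20, 1), (21, 21), (22, 20), (21, 23), (2, 22), (2, 25), (3, 24), (3, 25), (3, 28), (4, 27), (4, 30), (3, 31), (4, 30), (4, 31), (4, 32), (4, 33), (4, 36), (4, 35),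 (2, 36), (0, 37), (38, 36), (39, 38), (4, 0), (2, 2), (1, 3), (4, 1), (3, 2), (6, 2), (5, 3), (8, 3), (7, 4), (10, 4), (9, 5), (12, 5), (13, 5), (12, 6), (15, 6), (14, 7), (17, 5), (18, 5), (17, 5), (20, 20), (0, 21), (1, 20), (1, 23), (2, 22), (2, 25), (3, 24), (3, 27), (3, 28), (3, 29), (3, 30), (3, 31), (3, 32), (4, 31), (4, 34), (3, 33), (3, 36), (1, 35), (1, 36), (10, 28), (38, 40), (11, 0), (42, 27), (8, 0), (4, 4), (3, 5), (2, 6), (5, 5), (8, 4), (7, 5), (6, 6), (9, 6), (12, 6), (11, 7), (10, 8), (13, 8), (16, 8), (15, 6), (18, 6), (19, 4), (20, 20), (21, 17), (20, 22), (21, 21), (20, 24), (4, 25), (5, 24), (6, 23), (6, 28), (6, 29), (7, 28), (7, 27), (7, 32), (8, 31), (8, 30), (8, 33), (34, 30), (33, 0), (9, 26), (35, 24), (13, 0), (2, 3), (1, 4), (5, 2), (5, 3), (4, 4), (8, 4), (6, 5), (7, 5), (10, 5), (11, 5), (12, 5), (13, 3), (14, 3), (16, 13), (16, 17), (17, 15), (16,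 18), (17, 17), (4, 21), (5, 21), (3, 22), (3, 24), (4, 24), (3, 25), (3, 27), (6, 16), (0, 0), (1, 1), (193, 141), (0, 107), (0, 53), (0, 24), (0, 6), (186, 139), (0, 110), (0, 61), (0, 35), (188, 140), (0, 116), (0, 38), (0, 14), (190, 157), (0, 106), (0, 73), (0, 36), (0, 19), (14, 20), (11, 46), (8, 22), (4, 23)] := by
  decide +kernel

set_option maxRecDepth 1000000 in
theorem posOK_23_23_23 : PosOK 23 23 23
    [10, 18, 6, 13, 1, 4, 16, 14, 0, 8, 20, 7, 15, 11, 17, 21, 19, 22, 12, 5, 2, 3, 9, 23]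
    [16, 8, 1, 7, 12, 11, 9, 6, 17, 15, 22, 20, 0, 4, 19, 10, 3, 13, 21, 5, 18, 2, 14, 23]
    [(1, 1), (1, 2), (3, 2), (3, 3), (5, 3), (5, 4), (7, 4), (7, 5), (9, 5), (10, 5), (10, 6), (12, 6), (12, 7), (14, 7), (14, 8), (16, 8), (16, 9), (18, 9), (19, 9), (19, 10), (21, 21), (22, 21), (22, 23), (23, 23), (3, 25), (4, 25), (4, 26), (4, 27), (4, 29), (5, 29), (5, 31), (6, 31), (6, 32), (6, 33), (6, 34), (6, 36), (6, 37), (6, 38), (6, 38), (3, 40), (41, 24), (41, 26), (15, 0), (2, 2), (1, 3), (4, 2), (3, 3), (6, 3), (5, 4), (8, 3), (7, 4), (10, 4), (11, 3), (10, 4), (13, 4), (12, 5), (13, 5), (16, 4), (15, 5), (16, 3), (19, 2), (20, 0), (21, 21), (22, 20), (21, 23), (22, 22), (3, 25), (4, 24), (4, 27), (4, 28), (5, 27), (5, 30), (6, 29), (6, 32), (7, 31), (7, 34), (7, 35), (6, 34), (4, 37), (2, 36), (2, 39), (38, 19), (41, 0), (5, 30), (1, 1), (1, 2), (3, 1), (3, 2), (5, 2), (5,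 3), (7, 3), (8, 3), (8, 4), (10, 3), (10, 3), (12, 3), (12, 4), (14, 4), (15, 2), (15, 3), (17, 3), (17, 4), (19, 4), (20, 20), (20, 21), (1, 22), (2, 22), (2, 24), (3, 24), (3, 26), (4, 26), (4, 28), (5, 28), (5, 30), (6, 30), (4, 32), (3, 33), (4, 33), (2, 35), (2, 36), (3, 36), (37, 18), (16, 0), (39, 40), (15, 0), (0, 2), (3, 1), (4, 1), (3, 2), (6, 2), (5, 3), (8, 3), (7, 4), (8, 4), (9, 4), (12, 4), (11, 5), (12, 4), (13, 3), (14, 1), (17, 1), (18, 1), (19, 17), (18, 20), (19, 19), (2, 20), (2, 23), (3, 22), (3, 25), (4, 24), (4, 25), (4, 28), (4, 29), (5, 28), (4, 31), (4, 32), (4, 31), (3, 32), (2, 33), (4, 34), (35, 31), (15, 0), (39, 33), (8, 0), (4, 4), (3, 5), (2, 6), (7, 5), (4, 6), (7, 4), (6, 5), (7, 5), (12, 5), (11, 5), (14, 4), (13, 2), (16, 16), (17, 15), (18, 14), (17, 15), (16, 20), (4, 19), (5, 18), (5, 23), (6, 20), (4, 21), (4, 22), (3, 23), (28, 22), (9,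 0), (0, 0), (1, 1), (179, 146), (0, 93), (0, 53), (0, 24), (0, 6), (195, 151), (0, 98), (0, 58), (0, 32), (195, 154), (0, 103), (0, 71), (0, 33), (197, 150), (0, 103), (0, 79), (0, 17), (13, 19), (10, 42), (7, 40), (4, 21)] := by
  decide +kernel

end Cfsg.Agent.Lib.Helper28.M23Gen
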