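import Cfsg.Agent.Lib.Helper28.ElemFix
import Cfsg.Agent.Lib.Helper28.OutM23
import Cfsg.Agent.Lib.Helper28.FusionM22

set_option autoImplicit false

/-!
# Generating pairs of `M23` certified by straight-line programs

A pair `x, y` of elements of `M23` (given by image lists) generates `M23` as soon as a
straight-line program in `x, y` produces the four standard generators `m23tabs`.
-/

namespace Cfsg.Agent.Lib.Helper28.M23Gen

open Cfsg MulAction Cfsg.Agent.Lib.Helper28
open scoped Pointwise

/-- run a straight-line program: every instruction multiplies two earlier entries (addressed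
from the newest entry) and pushes the product -/
def slpRun : List (ℕ × ℕ) → List (List ℕ) → List (List ℕ)
  | [], acc => acc
  | (i, j) :: rest, acc => slpRun rest (compL (acc.getD i idList) (acc.getD j idList) :: acc)

theorem getD_sound (K : Subgroup (Equiv.Perm GolayPt)) (acc : List (List ℕ))
    (h : ∀ l ∈ acc, GoodPerm l ∧ permOfList l ∈ K) (i : ℕ) :
    GoodPerm (acc.getD i idList) ∧ permOfList (acc.getD i idList) ∈ K := by
  by_cases hi : i < acc.length
  · rw [List.getD_eq_getElem acc idList hi]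
    exact h _ (List.getElem_mem hi)
  · rw [List.getD_eq_default acc idList (Nat.le_of_not_lt hi)]
    exact ⟨goodPerm_idList, by rw [permOfList_idList]; exact K.one_mem⟩

theorem slpRun_sound (K : Subgroup (Equiv.Perm GolayPt)) :
    ∀ (prog : List (ℕ × ℕ)) (acc : List (List ℕ)),
      (∀ l ∈ acc, GoodPerm l ∧ permOfList l ∈ K) →
      ∀ l ∈ slpRun prog acc, GoodPerm l ∧ permOfList l ∈ K := by
  intro prog
  induction prog with
  | nil => intro acc h l hl; exact h l hl
  | cons ij rest ih =>
    intro acc h l hl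
    obtain ⟨i, j⟩ := ij
    unfold slpRun at hl
    apply ih _ _ l hl
    intro l' hl'
    rcases List.mem_cons.mp hl' with rfl | hmem
    · obtain ⟨g1, k1⟩ := getD_sound K acc h i
      obtain ⟨g2, k2⟩ := getD_sound K acc h j
      exact ⟨goodPerm_compL g1 g2, by rw [← permOfList_compL g1 g2]; exact K.mul_mem k1 k2⟩
    · exact h l' hmem

/-- powers of an image list -/
def powL (l : List ℕ) : ℕ → List ℕ
  | 0 => idList
  | k + 1 => compL l (powL l k)

theorem goodPerm_powL {l : List ℕ} (hl : GoodPerm l) : ∀ k, GoodPerm (powL l k)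
  | 0 => goodPerm_idList
  | k + 1 => goodPerm_compL hl (goodPerm_powL hl k)

theorem permOfList_powL {l : List ℕ} (hl : GoodPerm l) :
    ∀ k, permOfList (powL l k) = permOfList l ^ k
  | 0 => by rw [pow_zero]; exact permOfList_idList
  | k + 1 => by
    show permOfList (compL l (powL l k)) = _
    rw [← permOfList_compL hl (goodPerm_powL hl k), permOfList_powL hl k, pow_succ']

theorem orderOf_of_powL {l : List ℕ} (hl : GoodPerm l) (p : ℕ) (hp : p.Prime)
    (hpow : powL l p = idList) (hne : l ≠ idList) : orderOf (permOfList l) = p := by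
  haveI : Fact p.Prime := ⟨hp⟩
  apply orderOf_permOfList hl p hne
  rw [← permOfList_powL hl, hpow, permOfList_idList]

/-- image lists of the four standard generators -/
def m23L (i : Fin 4) : List ℕ := List.ofFn fun a : Fin 24 => (m23tabs i a).val

set_option maxRecDepth 100000 in
theorem m23L_check : ∀ (i : Fin 4) (a : Fin 24), (m23L i).getD a.val 0 = (m23tabs i a).val := by
  decide +kernel

theorem tabPerm_eq_m23L (i : Fin 4) (hl : GoodPerm (m23L i)) :
    tabPerm (m23tabs i) (m23tabs_inj i) = permOfList (m23L i) := by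
  apply perm_ext_of_table (m23tabs i) (tabPerm_pt _ _)
  intro a
  rw [← ptN_val a, permOfList_ptN hl a.2, m23L_check, ptN_val]

/-- the decidable certificate of a generating pair -/
def PosOK (p q r : ℕ) (lx ly : List ℕ) (prog : List (ℕ × ℕ)) : Prop :=
  ListM24 lx ∧ ListM24 ly ∧ lx.getD 23 0 = 23 ∧ ly.getD 23 0 = 23 ∧
  powL lx p = idList ∧ lx ≠ idList ∧ powL ly q = idList ∧ ly ≠ idList ∧
  powL (compL lx ly) r = idList ∧ compL lx ly ≠ idList ∧
  (slpRun prog [ly, lx]).take 4 = [m23L 3, m23L 2, m23L 1, m23L 0]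

instance (p q r : ℕ) (lx ly : List ℕ) (prog : List (ℕ × ℕ)) : Decidable (PosOK p q r lx ly prog) := by
  unfold PosOK; infer_instance

theorem mem_M23_of_list {l : List ℕ} (h : ListM24 l) (h23 : l.getD 23 0 = 23) :
    permOfList l ∈ Spor.M23 := by
  refine ⟨h.mem, ?_⟩
  show permOfList l ∈ stabilizer (Equiv.Perm GolayPt) (none : GolayPt)
  rw [mem_stabilizer_iff, Equiv.Perm.smul_def, ← ptN_23,
    permOfList_ptN h.1 (by norm_num : 23 < 24), h23]

theorem pos_case (p q r : ℕ) (hp : p.Prime) (hq : q.Prime) (hr : r.Prime) (lx ly : List ℕ)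
    (prog : List (ℕ × ℕ)) (h : PosOK p q r lx ly prog) :
    ∃ x y z : Spor.M23, orderOf x = p ∧ orderOf y = q ∧ orderOf z = r ∧ x * y * z = 1 ∧
      Subgroup.closure {x, y} = (⊤ : Subgroup Spor.M23) := by
  obtain ⟨hx, hy, hx23, hy23, hxp, hxne, hyq, hyne, hzr, hzne, hslp⟩ := h
  set X := permOfList lx with hX
  set Y := permOfList ly with hY
  have hXm : X ∈ Spor.M23 := mem_M23_of_list hx hx23
  have hYm : Y ∈ Spor.M23 := mem_M23_of_list hy hy23
  refine ⟨⟨X, hXm⟩, ⟨Y, hYm⟩, (⟨X, hXm⟩ * ⟨Y, hYm⟩)⁻¹, ?_, ?_, ?_, ?_, ?_⟩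
  · rw [← Subgroup.orderOf_coe]
    exact orderOf_of_powL hx.1 p hp hxp hxne
  · rw [← Subgroup.orderOf_coe]
    exact orderOf_of_powL hy.1 q hq hyq hyne
  · rw [orderOf_inv, ← Subgroup.orderOf_coe]
    show orderOf (X * Y) = r
    rw [hX, hY, permOfList_compL hx.1 hy.1]
    exact orderOf_of_powL (goodPerm_compL hx.1 hy.1) r hr hzr hzne
  · exact mul_inv_cancel _
  · -- generation
    set K := Subgroup.closure ({X, Y} : Set (Equiv.Perm GolayPt)) with hK
    have hacc : ∀ l ∈ [ly, lx], GoodPerm l ∧ permOfList l ∈ K := by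
      intro l hl
      rcases List.mem_cons.mp hl with rfl | hl
      · exact ⟨hy.1, Subgroup.subset_closure (Set.mem_insert_of_mem _ rfl)⟩
      · rcases List.mem_cons.mp hl with rfl | hl
        · exact ⟨hx.1, Subgroup.subset_closure (Set.mem_insert _ _)⟩
        · exact absurd hl List.not_mem_nil
    have hsound := slpRun_sound K prog [ly, lx] hacc
    have hgen : ∀ i : Fin 4, tabPerm (m23tabs i) (m23tabs_inj i) ∈ K := by
      intro i
      have hmem : m23L i ∈ slpRun prog [ly, lx] := by
        apply List.mem_of_mem_take (i := 4)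
        rw [hslp]
        fin_cases i <;> simp
      obtain ⟨hg, hk⟩ := hsound _ hmem
      rw [tabPerm_eq_m23L i hg]
      exact hk
    have hle : Spor.M23 ≤ K := by
      rw [M23_eq_G23]
      refine le_trans G23_le_closure ?_
      rw [Subgroup.closure_le]
      rintro _ ⟨i, rfl⟩
      exact hgen i
    rw [eq_top_iff]
    intro g _
    have hg : g.1 ∈ K := hle g.2
    have hmap : (Subgroup.closure ({⟨X, hXm⟩, ⟨Y, hYm⟩} : Set Spor.M23)).map Spor.M23.subtype
        = K := by
      rw [MonoidHom.map_closure, hK]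
      congr 1
      ext w
      simp only [Set.mem_image, Set.mem_insert_iff, Set.mem_singleton_iff]
      constructor
      · rintro ⟨v, hv | hv, rfl⟩
        · left; rw [hv]; rfl
        · right; rw [hv]; rfl
      · rintro (rfl | rfl)
        · exact ⟨⟨X, hXm⟩, Or.inl rfl, rfl⟩
        · exact ⟨⟨Y, hYm⟩, Or.inr rfl, rfl⟩
    rw [← hmap] at hg
    obtain ⟨g', hg', hgg'⟩ := hg
    have : g' = g := Subtype.ext hgg'
    rw [← this]
    exact hg'

end Cfsg.Agent.Lib.Helper28.M23Gen
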