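import Cfsg.Agent.Lib.Helper28.M24Words

set_option autoImplicit false

/-!
A base and strong generating data for `Cfsg.M24`: base points `∞, 0, 1, 2, 3, 5, 4`, and for every
level an explicit word (in the three standard generators) fixing the earlier base points and
moving the next base point to any prescribed point of its basic orbit.  Consequence: `M24` (and
already the subgroup generated by the three standard generators) is 5-transitive.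
-/

namespace Cfsg.Agent.Lib.Helper28

open Cfsg

/-- the base `∞, 0, 1, 2, 3, 5, 4` -/
def m24base : Fin 7 → Fin 24 := ![23, 0, 1, 2, 3, 5, 4]

/-- bit masks of the basic orbits -/
def m24omega : Fin 7 → ℕ := ![16777215, 8388607, 8388606, 8388604, 8388600, 147488, 8241104]

/-- transversal words -/
def m24tr : Fin 7 → Fin 24 → List (Fin 5) := ![
  ![[2],
    [0, 2],
    [0, 0, 2],
    [0, 0, 0, 2],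
    [4, 0, 0, 2],
    [1, 4, 0, 2],
    [4, 0, 2],
    [0, 4, 0, 2],
    [0, 0, 4, 0, 2],
    [2, 1, 4, 0, 2],
    [1, 2, 0, 0, 2],
    [2, 0, 0, 2],
    [2, 1, 1, 2],
    [1, 3, 1, 2],
    [3, 1, 2],
    [0, 3, 1, 2],
    [1, 1, 3, 0, 2],
    [1, 3, 0, 2],
    [3, 0, 2],
    [4, 1, 2],
    [1, 1, 1, 2],
    [1, 1, 2],
    [1, 2],
    []],
  ![[],
    [0],
    [0, 0],
    [0, 0, 0],
    [4, 0, 0],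
    [1, 4, 0],
    [4, 0],
    [0, 4, 0],
    [0, 0, 4, 0],
    [3, 1, 3, 1],
    [4, 0, 4, 0],
    [4, 4, 1],
    [1, 1, 3, 1],
    [1, 3, 1],
    [3, 1],
    [0, 3, 1],
    [1, 1, 3, 0],
    [1, 3, 0],
    [3, 0],
    [4, 1],
    [1, 1, 1],
    [1, 1],
    [1],
    []],
  ![[],
    [],
    [4, 4],
    [0, 3, 0, 4, 4, 0, 0],
    [3, 3],
    [0, 0, 3, 1, 4, 0],
    [4],
    [0, 0, 4, 1, 1, 1],
    [4, 1, 1, 4, 4, 0],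
    [1, 3, 0, 4, 1, 1],
    [0, 3, 1, 3, 1, 1],
    [0, 4, 4, 1, 3, 0],
    [1, 3, 3, 0, 0, 4],
    [3, 1, 1, 4, 4, 0],
    [0, 0, 4, 0, 0, 3, 0],
    [1, 1, 4, 4, 0, 3],
    [1, 1, 4, 4, 0],
    [0, 0, 0, 3, 1, 1],
    [3],
    [1, 1, 3, 0, 0, 0, 0],
    [1, 3, 0, 0, 4, 0, 0],
    [3, 0, 0, 3, 1, 4, 0],
    [1, 1, 1, 3, 0, 0, 0],
    []],
  ![[],
    [],
    [],
    [3, 0, 3, 0, 3, 0],
    [0, 3, 1, 3, 3, 1, 3, 0, 0],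
    [1, 1, 4, 0, 0, 3, 3, 0],
    [4, 2, 1, 4, 1, 4, 1, 3, 2],
    [0, 3, 1, 4, 4, 0, 3, 0, 0],
    [3, 1, 3, 3, 0, 0, 3],
    [3, 1, 3, 1, 4, 4, 1, 1],
    [4, 0, 3, 1, 1, 1, 1, 3],
    [1, 1, 1, 4, 1, 4, 0, 0],
    [4, 1, 1, 4, 4, 0, 4],
    [3, 0, 4, 4, 0, 4, 1, 3, 1],
    [4, 1, 3, 3, 1, 4, 0, 0, 0],
    [1, 1, 4, 4, 0, 4, 4],
    [1, 1, 4, 0, 3, 0, 3, 0, 0],
    [4, 0, 0, 0, 0, 4, 1, 3],
    [3, 3, 0, 4, 4, 1, 3, 0, 4],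
    [1, 4, 4, 0, 3, 1, 3, 3, 0],
    [3, 3, 1, 3, 3, 0, 0],
    [4, 4, 0, 0, 0, 0, 4, 1],
    [1, 4, 4, 1, 1, 3, 0, 0],
    []],
  ![[],
    [],
    [],
    [],
    [4, 1, 4, 1, 4, 1],
    [1, 4, 4, 1, 1, 1, 4, 1, 3, 0, 0],
    [4, 4, 0, 0, 3, 0, 4, 0, 0],
    [4, 4, 1, 4, 1, 3, 3, 1, 1, 1, 3, 1, 1],
    [0, 4, 1, 4, 1, 1, 4, 4, 0, 3, 0],
    [1, 4, 1, 3, 0, 4, 0, 4, 0, 3],
    [3, 3, 2, 0, 0, 0, 3, 1, 1, 3, 2],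
    [2, 1, 3, 1, 3, 1, 4, 4, 1, 2],
    [0, 3, 3, 1, 4, 1, 1, 1, 3, 1, 3, 0],
    [1, 4, 0, 0, 0, 3, 1, 1, 1, 3, 0],
    [3, 0, 0, 0, 3, 3, 1, 4, 0],
    [0, 0, 0, 0, 0, 4, 0, 0, 0, 0, 3],
    [3, 3, 0, 4, 4, 0, 0, 4, 4, 0, 3, 1],
    [1, 3, 0, 4, 4, 1, 1, 1, 4],
    [1, 4, 0, 0, 0, 4, 1, 1, 1, 3, 0],
    [1, 1, 3, 1, 4, 1, 1, 3, 3],
    [1, 4, 1, 3, 3, 0, 0, 3, 0, 3, 1],
    [4, 1, 3, 1, 3, 1, 4, 0, 3, 0],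
    [3, 1, 1, 4, 1, 1, 3, 0, 4, 4, 1],
    []],
  ![[],
    [],
    [],
    [],
    [],
    [],
    [],
    [],
    [],
    [],
    [],
    [],
    [],
    [],
    [1, 3, 3, 1, 4, 0, 3, 0, 0, 0, 0],
    [],
    [],
    [1, 1, 1, 1, 4, 1, 3, 0, 4, 4, 0],
    [],
    [],
    [],
    [],
    [],
    []],
  ![[],
    [],
    [],
    [],
    [],
    [],
    [1, 4, 1, 4, 0, 0, 0, 3, 0, 4, 4, 1, 4, 0],
    [1, 3, 3, 1, 4, 0, 3, 0, 0, 0, 0, 3, 0, 0, 0, 0, 3, 1, 3, 0, 0, 0, 4, 0],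
    [1, 1, 1, 1, 4, 1, 3, 0, 4, 4, 0, 4, 1, 1, 1, 3, 1, 3, 1, 4, 1, 3, 3, 1, 3, 3, 1, 4, 0, 3, 0, 0, 0, 0],
    [1, 4, 4, 1, 4, 0, 0, 0, 3, 0, 4, 4, 1, 4, 1, 4, 0, 0, 0, 3, 0, 4, 4, 1, 4, 0],
    [3, 0, 4, 0, 0, 0, 4, 0, 3, 0, 4, 4, 1, 4, 1, 4, 0, 0, 0, 3, 0, 4, 4, 1, 4, 0],
    [3, 0, 4, 0, 0, 0, 4, 0, 3, 0, 4, 4],
    [1, 4, 4, 1, 4, 0, 0, 0, 3, 0, 4, 4],
    [1, 3, 3, 1, 4, 0, 3, 0, 0, 0, 0, 4, 0, 3, 1, 4, 1, 1, 4, 4, 1, 3, 3, 1, 4],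
    [],
    [3, 0, 4, 0, 0, 0, 4, 0, 3, 0, 4, 4, 4, 1, 1, 1, 3, 1, 3, 1, 4, 1, 3, 3],
    [4, 1, 1, 1, 3, 1, 3, 1, 4, 1, 3, 3, 1, 4, 1, 4, 0, 0, 0, 3, 0, 4, 4, 1, 4, 0],
    [],
    [1, 3, 3, 1, 4, 0, 3, 0, 0, 0, 0, 1, 1, 1, 1, 4, 0, 0, 3, 0, 4, 4, 1, 3, 0],
    [3, 0, 4, 0, 0, 0, 4, 0, 3, 0, 4, 4, 1, 1, 4, 0, 0, 0, 3, 0, 4, 4, 1, 4, 4, 0],
    [1, 1, 4, 0, 0, 0, 3, 0, 4, 4, 1, 4, 4, 0],
    [4, 1, 1, 1, 3, 1, 3, 1, 4, 1, 3, 3],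
    [3, 0, 4, 0, 0, 0, 4, 0, 3, 0, 4, 4, 1, 4, 4, 1, 4, 0, 0, 0, 3, 0, 4, 4],
    []]]

set_option maxRecDepth 100000 in
set_option maxHeartbeats 4000000 in
theorem m24tr_spec : ∀ (k : Fin 7) (p : Fin 24), (m24omega k).testBit p.val = true →
    (∀ j : Fin 7, j < k → wordTab (m24tr k p) (m24base j) = m24base j) ∧
      wordTab (m24tr k p) (m24base k) = p := by
  decide +kernel

/-- the level lemma for permutations -/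
theorem m24_level (k : Fin 7) (p : Fin 24) (hp : (m24omega k).testBit p.val = true) :
    ∃ g ∈ Subgroup.closure m24gens,
      (∀ j : Fin 7, j < k → g (Helper4.pt (m24base j)) = Helper4.pt (m24base j)) ∧
        g (Helper4.pt (m24base k)) = Helper4.pt p := by
  obtain ⟨h1, h2⟩ := m24tr_spec k p hp
  refine ⟨wordPerm (m24tr k p), wordPerm_mem_closure _, fun j hj => ?_, ?_⟩
  · rw [wordPerm_pt, h1 j hj]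
  · rw [wordPerm_pt, h2]

end Cfsg.Agent.Lib.Helper28
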