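import Cfsg.Agent.Lib.Helper28.M24Mem

set_option autoImplicit false

/-!
Words in the three standard generators of `Cfsg.M24` (and two inverses), evaluated on the
enumerated points through tables.
-/

namespace Cfsg.Agent.Lib.Helper28

open Cfsg

/-- the shift `x ↦ x + 1` -/
def m24shift : Equiv.Perm GolayPt := Equiv.optionCongr (Equiv.addRight (1 : ZMod 23))

def shiftTab : Fin 24 → Fin 24 :=
  ![1, 2, 3, 4, 5, 6, 7, 8, 9, 10, 11, 12, 13, 14, 15, 16, 17, 18, 19, 20, 21, 22, 0, 23]

def shiftInvTab : Fin 24 → Fin 24 :=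
  ![22, 0, 1, 2, 3, 4, 5, 6, 7, 8, 9, 10, 11, 12, 13, 14, 15, 16, 17, 18, 19, 20, 21, 23]

def cubeTwistInvTab : Fin 24 → Fin 24 :=
  ![0, 6, 4, 3, 18, 7, 2, 10, 12, 13, 20, 17, 9, 16, 22, 15, 8, 14, 1, 11, 21, 5, 19, 23]

set_option maxRecDepth 100000 in
theorem shift_tab : ∀ a, m24shift (Helper4.pt a) = Helper4.pt (shiftTab a) := by
  decide

set_option maxRecDepth 100000 in
set_option maxHeartbeats 4000000 in
theorem shift_check : ∀ (t : ZMod 23) (a : Fin 24),
    (if (Helper4.masks (shiftTab a)).testBit t.val then (1 : ZMod 2) else 0) =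
      ∑ j : Fin 12, (if (Helper4.masks (shiftTab (pv j))).testBit t.val then (1 : ZMod 2) else 0) *
        (if (hm j).testBit a.val then 1 else 0) := by
  decide +kernel

theorem m24shift_mem_M24 : m24shift ∈ M24 :=
  mem_M24_of_table m24shift shiftTab shift_tab shift_check

theorem cubeTwist_tab (a : Fin 24) : cubeTwist (Helper4.pt a) = Helper4.pt (cubeTwistTab a) := by
  have : cubeTwist (Helper4.pt a) = cubeTwistFun (Helper4.pt a) := by
    unfold cubeTwist
    rw [Equiv.ofBijective_apply]
  rw [this]; exact cubeTwistFun_tab a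

/-- the table of an inverse permutation -/
theorem inv_tab (σ : Equiv.Perm GolayPt) (t t' : Fin 24 → Fin 24)
    (h : ∀ a, σ (Helper4.pt a) = Helper4.pt (t a)) (ht : ∀ a, t (t' a) = a) (a : Fin 24) :
    σ⁻¹ (Helper4.pt a) = Helper4.pt (t' a) := by
  rw [Equiv.Perm.inv_eq_iff_eq, h, ht]

theorem shiftInv_tab (a : Fin 24) : m24shift⁻¹ (Helper4.pt a) = Helper4.pt (shiftInvTab a) :=
  inv_tab m24shift shiftTab shiftInvTab shift_tab (by decide) a

theorem cubeTwistInv_tab (a : Fin 24) :
    cubeTwist⁻¹ (Helper4.pt a) = Helper4.pt (cubeTwistInvTab a) :=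
  inv_tab cubeTwist cubeTwistTab cubeTwistInvTab cubeTwist_tab (by decide) a

/-- the five letters: shift, shift⁻¹, projInv, cubeTwist, cubeTwist⁻¹ -/
noncomputable def m24gen : Fin 5 → Equiv.Perm GolayPt :=
  ![m24shift, m24shift⁻¹, projInv, cubeTwist, cubeTwist⁻¹]

def m24genTab : Fin 5 → Fin 24 → Fin 24 :=
  ![shiftTab, shiftInvTab, projInvTab, cubeTwistTab, cubeTwistInvTab]

theorem m24gen_tab (i : Fin 5) (a : Fin 24) :
    m24gen i (Helper4.pt a) = Helper4.pt (m24genTab i a) := by
  fin_cases i
  · exact shift_tab a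
  · exact shiftInv_tab a
  · exact projInv_tab a
  · exact cubeTwist_tab a
  · exact cubeTwistInv_tab a

/-- the three standard generators -/
def m24gens : Set (Equiv.Perm GolayPt) := {m24shift, projInv, cubeTwist}

theorem m24gen_mem_closure (i : Fin 5) : m24gen i ∈ Subgroup.closure m24gens := by
  have h1 : m24shift ∈ Subgroup.closure m24gens := Subgroup.subset_closure (Or.inl rfl)
  have h2 : projInv ∈ Subgroup.closure m24gens := Subgroup.subset_closure (Or.inr (Or.inl rfl))
  have h3 : cubeTwist ∈ Subgroup.closure m24gens := Subgroup.subset_closure (Or.inr (Or.inr rfl))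
  fin_cases i
  · exact h1
  · exact Subgroup.inv_mem _ h1
  · exact h2
  · exact h3
  · exact Subgroup.inv_mem _ h3

theorem m24gens_closure_le : Subgroup.closure m24gens ≤ M24 := by
  rw [Subgroup.closure_le]
  rintro g hg
  simp only [m24gens, Set.mem_insert_iff, Set.mem_singleton_iff] at hg
  rcases hg with rfl | rfl | rfl
  · exact m24shift_mem_M24
  · exact projInv_mem_M24
  · exact cubeTwist_mem_M24

/-- the permutation spelled by a word -/
noncomputable def wordPerm (w : List (Fin 5)) : Equiv.Perm GolayPt := (w.map m24gen).prod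

/-- the action of a word on the enumerated points -/
def wordTab (w : List (Fin 5)) (a : Fin 24) : Fin 24 := w.foldr (fun i x => m24genTab i x) a

theorem wordPerm_pt (w : List (Fin 5)) (a : Fin 24) :
    wordPerm w (Helper4.pt a) = Helper4.pt (wordTab w a) := by
  induction w with
  | nil => rfl
  | cons i w ih =>
    unfold wordPerm at ih ⊢
    rw [List.map_cons, List.prod_cons, Equiv.Perm.mul_apply, ih, m24gen_tab]
    rfl

theorem wordPerm_mem_closure (w : List (Fin 5)) : wordPerm w ∈ Subgroup.closure m24gens := by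
  unfold wordPerm
  apply Subgroup.list_prod_mem
  intro x hx
  rw [List.mem_map] at hx
  obtain ⟨i, _, rfl⟩ := hx
  exact m24gen_mem_closure i

theorem wordPerm_mem_M24 (w : List (Fin 5)) : wordPerm w ∈ M24 :=
  m24gens_closure_le (wordPerm_mem_closure w)

end Cfsg.Agent.Lib.Helper28
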