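import Cfsg.Agent.Lib.Helper28.M12Trans

set_option autoImplicit false

/-!
Maximality of a point stabilizer from the sizes of its suborbits: if no proper non-trivial union
of suborbits (together with the point) has a size dividing the degree, the stabilizer is maximal.
-/

namespace Cfsg.Agent.Lib.Helper28

open MulAction
open scoped Pointwise

theorem ncard_biUnion_of_disjoint {X ι : Type*} [DecidableEq ι] (P : ι → Set X)
    (hfin : ∀ i, (P i).Finite) (hdisj : ∀ i j, i ≠ j → Disjoint (P i) (P j)) (S : Finset ι) :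
    (⋃ i ∈ S, P i).ncard = ∑ i ∈ S, (P i).ncard ∧ (⋃ i ∈ S, P i).Finite := by
  induction S using Finset.induction_on with
  | empty => simp
  | insert a S ha ih =>
    have hU : (⋃ i ∈ insert a S, P i) = P a ∪ ⋃ i ∈ S, P i := by
      ext y
      simp only [Finset.mem_insert, Set.mem_iUnion, Set.mem_union, exists_prop]
      constructor
      · rintro ⟨i, rfl | hi, hy⟩
        · exact Or.inl hy
        · exact Or.inr ⟨i, hi, hy⟩
      · rintro (hy | ⟨i, hi, hy⟩)
        · exact ⟨a, Or.inl rfl, hy⟩
        · exact ⟨i, Or.inr hi, hy⟩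
    have hd : Disjoint (P a) (⋃ i ∈ S, P i) := by
      rw [Set.disjoint_left]
      intro y hya hyU
      simp only [Set.mem_iUnion, exists_prop] at hyU
      obtain ⟨i, hi, hy⟩ := hyU
      have hne : a ≠ i := fun h => ha (h ▸ hi)
      exact Set.disjoint_left.mp (hdisj a i hne) hya hy
    rw [hU, Set.ncard_union_eq hd (hfin a) ih.2, ih.1, Finset.sum_insert ha]
    exact ⟨rfl, (hfin a).union ih.2⟩

/-- maximality of a point stabilizer from suborbit arithmetic -/
theorem isCoatom_stabilizer_of_suborbits {G X : Type*} [Group G] [Finite G] [MulAction G X] (x : X)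
    {ι : Type*} [Fintype ι] [DecidableEq ι] (P : ι → Set X) (n : ι → ℕ) (N : ℕ)
    (hN : (orbit G x).ncard = N)
    (hn : ∀ i, (P i).ncard = n i)
    (hcover : ∀ g : G, g • x ≠ x → ∃ i, g • x ∈ P i)
    (htrans : ∀ i, ∀ y ∈ P i, ∀ z ∈ P i, ∃ h : G, h • x = x ∧ h • y = z)
    (hx : ∀ i, x ∉ P i)
    (hdisj : ∀ i j, i ≠ j → Disjoint (P i) (P j))
    (harith : ∀ S : Finset ι, (1 + ∑ i ∈ S, n i) ∣ N → S = ∅ ∨ S = Finset.univ)
    (hne : ∃ g : G, g • x ≠ x) :
    IsCoatom (stabilizer G x) := by
  classical
  have hfin : ∀ i, (P i).Finite := by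
    intro i
    by_cases he : (P i).Nonempty
    · obtain ⟨y, hy⟩ := he
      apply Set.Finite.subset (Set.finite_range (fun g : G => g • y))
      intro z hz
      obtain ⟨h, _, hh⟩ := htrans i y hy z hz
      exact ⟨h, hh⟩
    · rw [Set.not_nonempty_iff_eq_empty] at he
      rw [he]; exact Set.finite_empty
  have hGcard : Nat.card (stabilizer G x) * N = Nat.card G := by
    rw [← hN, ← MulAction.index_stabilizer]
    exact Subgroup.card_mul_index _
  have hHpos : 0 < Nat.card (stabilizer G x) := Nat.card_pos
  constructor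
  · intro htop
    obtain ⟨g, hg⟩ := hne
    apply hg
    have : g ∈ stabilizer G x := by rw [htop]; exact Subgroup.mem_top g
    exact this
  · intro K hK
    have hle : stabilizer G x ≤ K := le_of_lt hK
    set Ω : Set X := orbit K x with hΩ
    set S : Finset ι := Finset.univ.filter (fun i => (P i ∩ Ω).Nonempty) with hS
    have hxΩ : x ∈ Ω := mem_orbit_self x
    have hΩeq : Ω = insert x (⋃ i ∈ S, P i) := by
      ext y
      constructor
      · rintro ⟨k, rfl⟩
        by_cases hk : (k : G) • x = x
        · left; exact hk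
        · right
          obtain ⟨i, hi⟩ := hcover k hk
          simp only [Set.mem_iUnion, exists_prop]
          refine ⟨i, ?_, hi⟩
          rw [hS, Finset.mem_filter]
          exact ⟨Finset.mem_univ _, ⟨(k : G) • x, hi, ⟨k, rfl⟩⟩⟩
      · rintro (rfl | hy)
        · exact hxΩ
        · simp only [Set.mem_iUnion, exists_prop] at hy
          obtain ⟨i, hi, hy⟩ := hy
          rw [hS, Finset.mem_filter] at hi
          obtain ⟨z, hz, ⟨k, hk⟩⟩ := hi.2
          obtain ⟨h, hhx, hhz⟩ := htrans i z hz y hy
          have hhK : h ∈ K := hle hhx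
          refine ⟨⟨h, hhK⟩ * k, ?_⟩
          show (⟨h, hhK⟩ * k : K) • x = y
          rw [mul_smul]
          have hk' : k • x = z := hk
          rw [hk']
          exact hhz
    have hxU : ∀ T : Finset ι, x ∉ ⋃ i ∈ T, P i := by
      intro T hxT
      simp only [Set.mem_iUnion, exists_prop] at hxT
      obtain ⟨i, _, hi⟩ := hxT
      exact hx i hi
    have hcardΩ : Ω.ncard = 1 + ∑ i ∈ S, n i := by
      obtain ⟨h1, h2⟩ := ncard_biUnion_of_disjoint P hfin hdisj S
      rw [hΩeq, Set.ncard_insert_of_notMem (hxU S) h2, h1, add_comm]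
      congr 1
      exact Finset.sum_congr rfl (fun i _ => hn i)
    have hKcard : Nat.card K = Ω.ncard * Nat.card (stabilizer G x) := by
      have := card_eq_orbit_mul_card_inf_stabilizer' K x
      rw [inf_eq_right.mpr hle] at this
      exact this
    have hdvd : Ω.ncard ∣ N := by
      have h1 : Nat.card K ∣ Nat.card G := Subgroup.card_subgroup_dvd_card K
      rw [hKcard, ← hGcard, mul_comm (Nat.card _) N] at h1
      exact Nat.dvd_of_mul_dvd_mul_right hHpos h1
    rw [hcardΩ] at hdvd
    rcases harith S hdvd with hemp | huniv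
    · exfalso
      obtain ⟨k, hkK, hkH⟩ := SetLike.exists_of_lt hK
      have hk : k • x ≠ x := hkH
      have hkΩ : k • x ∈ Ω := ⟨⟨k, hkK⟩, rfl⟩
      rw [hΩeq, hemp] at hkΩ
      simp at hkΩ
      exact hk hkΩ
    · have hΩorb : Ω = orbit G x := by
        apply Set.Subset.antisymm
        · rintro _ ⟨k, rfl⟩
          exact ⟨k, rfl⟩
        · rintro _ ⟨g, rfl⟩
          by_cases hg : g • x = x
          · show g • x ∈ Ω
            rw [hg]; exact hxΩ
          · obtain ⟨i, hi⟩ := hcover g hg
            show g • x ∈ Ω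
            rw [hΩeq, huniv]
            right
            simp only [Finset.mem_univ, Set.iUnion_true, Set.mem_iUnion]
            exact ⟨i, hi⟩
      rw [hΩorb, hN, mul_comm, hGcard] at hKcard
      exact Subgroup.card_eq_iff_eq_top K |>.mp hKcard

end Cfsg.Agent.Lib.Helper28
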