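import Cfsg.Agent.Lib.Helper28.MaxOrbit

set_option autoImplicit false

/-!
Maximality of a point stabilizer from the list of its orbits with pairwise distinct sizes.
-/

namespace Cfsg.Agent.Lib.Helper28

open MulAction
open scoped Pointwise

theorem orbit_stabilizer_self {G Y : Type*} [Group G] [MulAction G Y] (x : Y) :
    orbit (stabilizer G x) x = {x} := by
  ext y
  constructor
  · rintro ⟨g, rfl⟩
    exact g.2
  · intro hy
    rw [Set.mem_singleton_iff] at hy
    rw [hy]
    exact mem_orbit_self x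

theorem isCoatom_stabilizer_of_orbit_list {G Y : Type*} [Group G] [Finite G] [MulAction G Y]
    (x : Y) {k : ℕ} (X : Fin k → Y) (n : Fin k → ℕ) (N : ℕ) (hN : (orbit G x).ncard = N)
    (hn : ∀ i, (orbit (stabilizer G x) (X i)).ncard = n i)
    (hcov : orbit G x = {x} ∪ ⋃ i, orbit (stabilizer G x) (X i))
    (hinj : Function.Injective n) (hn1 : ∀ i, n i ≠ 1)
    (harith : ∀ S : Finset (Fin k), (1 + ∑ i ∈ S, n i) ∣ N → S = ∅ ∨ S = Finset.univ)
    (hk : 0 < k) : IsCoatom (stabilizer G x) := by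
  classical
  have hxnot : ∀ i, x ∉ orbit (stabilizer G x) (X i) := by
    intro i hx
    have h1 : orbit (stabilizer G x) x = orbit (stabilizer G x) (X i) := orbit_eq_iff.mpr hx
    have h2 := hn i
    rw [← h1, orbit_stabilizer_self, Set.ncard_singleton] at h2
    exact hn1 i h2.symm
  refine isCoatom_stabilizer_of_suborbits (G := G) x
    (fun i : Fin k => orbit (stabilizer G x) (X i)) n N hN hn ?_ ?_ hxnot ?_ harith ?_
  · intro g hg
    have : g • x ∈ orbit G x := ⟨g, rfl⟩
    rw [hcov] at this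
    rcases this with h | h
    · exact absurd h hg
    · exact Set.mem_iUnion.mp h
  · rintro i _ ⟨a, rfl⟩ _ ⟨b, rfl⟩
    refine ⟨(b * a⁻¹ : stabilizer G x).1, (b * a⁻¹ : stabilizer G x).2, ?_⟩
    show (b * a⁻¹ : stabilizer G x) • a • X i = b • X i
    rw [smul_smul, inv_mul_cancel_right]
  · intro i j hij
    rw [Set.disjoint_left]
    intro y hy hy'
    apply hij
    apply hinj
    have h1 : orbit (stabilizer G x) y = orbit (stabilizer G x) (X i) := orbit_eq_iff.mpr hy
    have h2 : orbit (stabilizer G x) y = orbit (stabilizer G x) (X j) := orbit_eq_iff.mpr hy'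
    rw [← hn i, ← hn j, ← h1, ← h2]
  · have h0 : X ⟨0, hk⟩ ∈ orbit G x := by
      rw [hcov]
      right
      exact Set.mem_iUnion.mpr ⟨⟨0, hk⟩, mem_orbit_self _⟩
    obtain ⟨g, hg⟩ := h0
    refine ⟨g, ?_⟩
    intro hgx
    apply hxnot ⟨0, hk⟩
    have hg' : g • x = X ⟨0, hk⟩ := hg
    rw [← hg', hgx]
    exact mem_orbit_self _

end Cfsg.Agent.Lib.Helper28
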