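import Cfsg.Agent.Lib.Helper28.McLADefs

/-!
# Certificates for the automorphisms of the McLaughlin group: the small checks

Generated by a script.
-/

set_option autoImplicit false
set_option Elab.async false

namespace Cfsg.Agent.Lib.Helper28.McLA

open Cfsg.Agent.Lib.Helper28.BSGS Cfsg.Agent.Lib.Helper28.McLAData
open Cfsg.Agent.Lib.Helper28.BSGSMat (Tree sortedB)

set_option maxRecDepth 1000000 in
theorem gens_ok : gensOK 275 9 GENS = true := by
  decide +kernel

set_option maxRecDepth 1000000 in
theorem size_ok : codeSize LEVELS = 898128000 := by
  decide +kernel

set_option maxRecDepth 1000000 in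
theorem slp_ok : slpOK [ta, tai, tb] SLP = true := by
  decide +kernel

set_option maxRecDepth 1000000 in
theorem pair_a : pairOK 275 9 ta tai = true := by
  decide +kernel

set_option maxRecDepth 1000000 in
theorem pair_b : pairOK 275 9 tb tb = true := by
  decide +kernel

set_option maxRecDepth 1000000 in
theorem pair_c : pairOK 275 9 tc tci = true := by
  decide +kernel

set_option maxRecDepth 1000000 in
theorem pair_s : pairOK 275 9 ts ts = true := by
  decide +kernel

set_option maxRecDepth 1000000 in
theorem pair_y : pairOK 275 9 ty tyi = true := by
  decide +kernel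

set_option maxRecDepth 1000000 in
theorem pair_q : pairOK 275 9 tq tqi = true := by
  decide +kernel

set_option maxRecDepth 1000000 in
theorem pair_sbs : pairOK 275 9 tsbs tsbs = true := by
  decide +kernel

set_option maxRecDepth 1000000 in
theorem pair_p0 : pairOK 275 9 tp0 tpi0 = true := by
  decide +kernel

set_option maxRecDepth 1000000 in
theorem pair_p1 : pairOK 275 9 tp1 tpi1 = true := by
  decide +kernel

set_option maxRecDepth 1000000 in
theorem pair_p2 : pairOK 275 9 tp2 tpi2 = true := by
  decide +kernel

set_option maxRecDepth 1000000 in
theorem pair_p3 : pairOK 275 9 tp3 tpi3 = true := by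
  decide +kernel

set_option maxRecDepth 1000000 in
theorem wa_eq : wordEq 275 9 [ta] [tp0, tp2, tp2] = true := by
  decide +kernel

set_option maxRecDepth 1000000 in
theorem wb_eq : wordEq 275 9 [tb] [tp0, tp3, tp1, tp0, tp3, tp1, tp0, tp3, tp1, tp0, tp3, tp1] = true := by
  decide +kernel

set_option maxRecDepth 1000000 in
theorem rels_ok : RELS.all (relHolds ta tb) = true := by
  decide +kernel

set_option maxRecDepth 1000000 in
theorem good_ok : (List.range 14).all goodOK = true := by
  decide +kernel

set_option maxRecDepth 1000000 in
theorem len_GOODL : GOODL.length = 14 := by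
  decide +kernel

set_option maxRecDepth 1000000 in
theorem len_IV : IV.toList.length = 22275 := by
  decide +kernel

set_option maxRecDepth 1000000 in
theorem iv_sorted : sortedB (IV.toList.map fun e => e.1) = true := by
  decide +kernel

set_option maxRecDepth 1000000 in
theorem len_ST : ST.toList.length = 128 := by
  decide +kernel

set_option maxRecDepth 1000000 in
theorem st_sorted : sortedB (ST.toList.map fun e => e.1) = true := by
  decide +kernel

set_option maxRecDepth 1000000 in
theorem c_conj : wordEq 275 9 [tc, ta, tci] [ta, ta] = true := by
  decide +kernel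

set_option maxRecDepth 1000000 in
theorem s_conj : wordEq 275 9 [ts, ta, ts] [tai] = true := by
  decide +kernel

set_option maxRecDepth 1000000 in
theorem s_sq : wordId 275 9 [ts, ts] = true := by
  decide +kernel

set_option maxRecDepth 1000000 in
theorem s_ne : wordId 275 9 [ts] = false := by
  decide +kernel

set_option maxRecDepth 1000000 in
theorem sbs_eq : wordEq 275 9 [ts, tb, ts] [tsbs] = true := by
  decide +kernel

set_option maxRecDepth 1000000 in
theorem y_comm : wordEq 275 9 [ty, ta] [ta, ty] = true := by
  decide +kernel

set_option maxRecDepth 1000000 in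
theorem a_pow : wordId 275 9 (List.replicate 7 ta) = true := by
  decide +kernel

set_option maxRecDepth 1000000 in
theorem a_ne : wordId 275 9 [ta] = false := by
  decide +kernel

set_option maxRecDepth 1000000 in
theorem b_sq : wordId 275 9 [tb, tb] = true := by
  decide +kernel

set_option maxRecDepth 1000000 in
theorem b_ne : wordId 275 9 [tb] = false := by
  decide +kernel

set_option maxRecDepth 1000000 in
theorem fix_s : fixCount ts = 11 := by
  decide +kernel

set_option maxRecDepth 1000000 in
theorem fix_q : ((List.range 275).filter fun i => Nat.beq (look 9 tq i) i) = [119] := by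
  decide +kernel

set_option maxRecDepth 1000000 in
theorem gens_slp : GENS.all (fun g => (g.1 == ta && g.2 == tai) || (g.1 == tb && g.2 == tb) || SLP.any (fun e => e.1 == g.1 && e.2.1 == g.2)) = true := by
  decide +kernel

set_option maxRecDepth 1000000 in
theorem gens_ab : (GENS.contains (ta, tai) && GENS.contains (tb, tb)) = true := by
  decide +kernel

set_option maxRecDepth 1000000 in
theorem known_ok : (tc :: tsbs :: ty :: tyi :: tq :: SGL).all (fun t => (slpKnown [ta, tai, tb] SLP).contains t) = true := by
  decide +kernel

set_option maxRecDepth 1000000 in
theorem st_one : (ST.toList.any fun e => wordId 275 9 [e.2.1]) = true := by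
  decide +kernel

set_option maxRecDepth 1000000 in
theorem st_idx : (ST.toList.all fun e => decide (e.2.2.2 / 1000 < 10)) = true := by
  decide +kernel

set_option maxRecDepth 1000000 in
theorem len_SGL : SGL.length = 10 := by
  decide +kernel

set_option maxRecDepth 1000000 in
theorem tr0_all : ((List.range 275).all fun x => mtr0.any fun e => Nat.beq e.1 x) = true := by
  decide +kernel

set_option maxRecDepth 1000000 in
theorem len_XN : XN.length = 275 := by
  decide +kernel

end Cfsg.Agent.Lib.Helper28.McLA
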