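import Cfsg.Agent.Lib.Helper28.McLACert7

/-!
# Certificates for the automorphisms of the McLaughlin group: the table of involutions, part 11

Generated by a script.
-/

set_option autoImplicit false
set_option Elab.async false

namespace Cfsg.Agent.Lib.Helper28.McLA

open Cfsg.Agent.Lib.Helper28.BSGS Cfsg.Agent.Lib.Helper28.McLAData
open Cfsg.Agent.Lib.Helper28.BSGSMat (Tree sortedB)

set_option maxRecDepth 1000000 in
theorem miv120_ok : ((mchunk 64 IV.toList 120).all ivOK) = true := by
  decide +kernel

set_option maxRecDepth 1000000 in
theorem miv121_ok : ((mchunk 64 IV.toList 121).all ivOK) = true := by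
  decide +kernel

set_option maxRecDepth 1000000 in
theorem miv122_ok : ((mchunk 64 IV.toList 122).all ivOK) = true := by
  decide +kernel

set_option maxRecDepth 1000000 in
theorem miv123_ok : ((mchunk 64 IV.toList 123).all ivOK) = true := by
  decide +kernel

set_option maxRecDepth 1000000 in
theorem miv124_ok : ((mchunk 64 IV.toList 124).all ivOK) = true := by
  decide +kernel

set_option maxRecDepth 1000000 in
theorem miv125_ok : ((mchunk 64 IV.toList 125).all ivOK) = true := by
  decide +kernel

set_option maxRecDepth 1000000 in
theorem miv126_ok : ((mchunk 64 IV.toList 126).all ivOK) = true := by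
  decide +kernel

set_option maxRecDepth 1000000 in
theorem miv127_ok : ((mchunk 64 IV.toList 127).all ivOK) = true := by
  decide +kernel

set_option maxRecDepth 1000000 in
theorem miv128_ok : ((mchunk 64 IV.toList 128).all ivOK) = true := by
  decide +kernel

set_option maxRecDepth 1000000 in
theorem miv129_ok : ((mchunk 64 IV.toList 129).all ivOK) = true := by
  decide +kernel

set_option maxRecDepth 1000000 in
theorem miv130_ok : ((mchunk 64 IV.toList 130).all ivOK) = true := by
  decide +kernel

set_option maxRecDepth 1000000 in
theorem miv131_ok : ((mchunk 64 IV.toList 131).all ivOK) = true := by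
  decide +kernel

end Cfsg.Agent.Lib.Helper28.McLA
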