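import Cfsg.Agent.Lib.Helper28.McLACert8

/-!
# Certificates for the automorphisms of the McLaughlin group: the table of involutions, part 12

Generated by a script.
-/

set_option autoImplicit false
set_option Elab.async false

namespace Cfsg.Agent.Lib.Helper28.McLA

open Cfsg.Agent.Lib.Helper28.BSGS Cfsg.Agent.Lib.Helper28.McLAData
open Cfsg.Agent.Lib.Helper28.BSGSMat (Tree sortedB)

set_option maxRecDepth 1000000 in
theorem miv132_ok : ((mchunk 64 IV.toList 132).all ivOK) = true := by
  decide +kernel

set_option maxRecDepth 1000000 in
theorem miv133_ok : ((mchunk 64 IV.toList 133).all ivOK) = true := by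
  decide +kernel

set_option maxRecDepth 1000000 in
theorem miv134_ok : ((mchunk 64 IV.toList 134).all ivOK) = true := by
  decide +kernel

set_option maxRecDepth 1000000 in
theorem miv135_ok : ((mchunk 64 IV.toList 135).all ivOK) = true := by
  decide +kernel

set_option maxRecDepth 1000000 in
theorem miv136_ok : ((mchunk 64 IV.toList 136).all ivOK) = true := by
  decide +kernel

set_option maxRecDepth 1000000 in
theorem miv137_ok : ((mchunk 64 IV.toList 137).all ivOK) = true := by
  decide +kernel

set_option maxRecDepth 1000000 in
theorem miv138_ok : ((mchunk 64 IV.toList 138).all ivOK) = true := by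
  decide +kernel

set_option maxRecDepth 1000000 in
theorem miv139_ok : ((mchunk 64 IV.toList 139).all ivOK) = true := by
  decide +kernel

set_option maxRecDepth 1000000 in
theorem miv140_ok : ((mchunk 64 IV.toList 140).all ivOK) = true := by
  decide +kernel

set_option maxRecDepth 1000000 in
theorem miv141_ok : ((mchunk 64 IV.toList 141).all ivOK) = true := by
  decide +kernel

set_option maxRecDepth 1000000 in
theorem miv142_ok : ((mchunk 64 IV.toList 142).all ivOK) = true := by
  decide +kernel

set_option maxRecDepth 1000000 in
theorem miv143_ok : ((mchunk 64 IV.toList 143).all ivOK) = true := by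
  decide +kernel

end Cfsg.Agent.Lib.Helper28.McLA
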