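import Cfsg.Agent.Lib.Helper28.McLACert10

/-!
# Certificates for the automorphisms of the McLaughlin group: the table of involutions, part 14

Generated by a script.
-/

set_option autoImplicit false
set_option Elab.async false

namespace Cfsg.Agent.Lib.Helper28.McLA

open Cfsg.Agent.Lib.Helper28.BSGS Cfsg.Agent.Lib.Helper28.McLAData
open Cfsg.Agent.Lib.Helper28.BSGSMat (Tree sortedB)

set_option maxRecDepth 1000000 in
theorem miv156_ok : ((mchunk 64 IV.toList 156).all ivOK) = true := by
  decide +kernel

set_option maxRecDepth 1000000 in
theorem miv157_ok : ((mchunk 64 IV.toList 157).all ivOK) = true := by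
  decide +kernel

set_option maxRecDepth 1000000 in
theorem miv158_ok : ((mchunk 64 IV.toList 158).all ivOK) = true := by
  decide +kernel

set_option maxRecDepth 1000000 in
theorem miv159_ok : ((mchunk 64 IV.toList 159).all ivOK) = true := by
  decide +kernel

set_option maxRecDepth 1000000 in
theorem miv160_ok : ((mchunk 64 IV.toList 160).all ivOK) = true := by
  decide +kernel

set_option maxRecDepth 1000000 in
theorem miv161_ok : ((mchunk 64 IV.toList 161).all ivOK) = true := by
  decide +kernel

set_option maxRecDepth 1000000 in
theorem miv162_ok : ((mchunk 64 IV.toList 162).all ivOK) = true := by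
  decide +kernel

set_option maxRecDepth 1000000 in
theorem miv163_ok : ((mchunk 64 IV.toList 163).all ivOK) = true := by
  decide +kernel

set_option maxRecDepth 1000000 in
theorem miv164_ok : ((mchunk 64 IV.toList 164).all ivOK) = true := by
  decide +kernel

set_option maxRecDepth 1000000 in
theorem miv165_ok : ((mchunk 64 IV.toList 165).all ivOK) = true := by
  decide +kernel

set_option maxRecDepth 1000000 in
theorem miv166_ok : ((mchunk 64 IV.toList 166).all ivOK) = true := by
  decide +kernel

set_option maxRecDepth 1000000 in
theorem miv167_ok : ((mchunk 64 IV.toList 167).all ivOK) = true := by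
  decide +kernel

end Cfsg.Agent.Lib.Helper28.McLA
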