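import Cfsg.Agent.Lib.Helper28.McLACert11

/-!
# Certificates for the automorphisms of the McLaughlin group: the table of involutions, part 15

Generated by a script.
-/

set_option autoImplicit false
set_option Elab.async false

namespace Cfsg.Agent.Lib.Helper28.McLA

open Cfsg.Agent.Lib.Helper28.BSGS Cfsg.Agent.Lib.Helper28.McLAData
open Cfsg.Agent.Lib.Helper28.BSGSMat (Tree sortedB)

set_option maxRecDepth 1000000 in
theorem miv168_ok : ((mchunk 64 IV.toList 168).all ivOK) = true := by
  decide +kernel

set_option maxRecDepth 1000000 in
theorem miv169_ok : ((mchunk 64 IV.toList 169).all ivOK) = true := by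
  decide +kernel

set_option maxRecDepth 1000000 in
theorem miv170_ok : ((mchunk 64 IV.toList 170).all ivOK) = true := by
  decide +kernel

set_option maxRecDepth 1000000 in
theorem miv171_ok : ((mchunk 64 IV.toList 171).all ivOK) = true := by
  decide +kernel

set_option maxRecDepth 1000000 in
theorem miv172_ok : ((mchunk 64 IV.toList 172).all ivOK) = true := by
  decide +kernel

set_option maxRecDepth 1000000 in
theorem miv173_ok : ((mchunk 64 IV.toList 173).all ivOK) = true := by
  decide +kernel

set_option maxRecDepth 1000000 in
theorem miv174_ok : ((mchunk 64 IV.toList 174).all ivOK) = true := by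
  decide +kernel

set_option maxRecDepth 1000000 in
theorem miv175_ok : ((mchunk 64 IV.toList 175).all ivOK) = true := by
  decide +kernel

set_option maxRecDepth 1000000 in
theorem miv176_ok : ((mchunk 64 IV.toList 176).all ivOK) = true := by
  decide +kernel

set_option maxRecDepth 1000000 in
theorem miv177_ok : ((mchunk 64 IV.toList 177).all ivOK) = true := by
  decide +kernel

set_option maxRecDepth 1000000 in
theorem miv178_ok : ((mchunk 64 IV.toList 178).all ivOK) = true := by
  decide +kernel

set_option maxRecDepth 1000000 in
theorem miv179_ok : ((mchunk 64 IV.toList 179).all ivOK) = true := by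
  decide +kernel

end Cfsg.Agent.Lib.Helper28.McLA
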