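import Cfsg.Agent.Lib.Helper28.McLACert12

/-!
# Certificates for the automorphisms of the McLaughlin group: the table of involutions, part 16

Generated by a script.
-/

set_option autoImplicit false
set_option Elab.async false

namespace Cfsg.Agent.Lib.Helper28.McLA

open Cfsg.Agent.Lib.Helper28.BSGS Cfsg.Agent.Lib.Helper28.McLAData
open Cfsg.Agent.Lib.Helper28.BSGSMat (Tree sortedB)

set_option maxRecDepth 1000000 in
theorem miv180_ok : ((mchunk 64 IV.toList 180).all ivOK) = true := by
  decide +kernel

set_option maxRecDepth 1000000 in
theorem miv181_ok : ((mchunk 64 IV.toList 181).all ivOK) = true := by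
  decide +kernel

set_option maxRecDepth 1000000 in
theorem miv182_ok : ((mchunk 64 IV.toList 182).all ivOK) = true := by
  decide +kernel

set_option maxRecDepth 1000000 in
theorem miv183_ok : ((mchunk 64 IV.toList 183).all ivOK) = true := by
  decide +kernel

set_option maxRecDepth 1000000 in
theorem miv184_ok : ((mchunk 64 IV.toList 184).all ivOK) = true := by
  decide +kernel

set_option maxRecDepth 1000000 in
theorem miv185_ok : ((mchunk 64 IV.toList 185).all ivOK) = true := by
  decide +kernel

set_option maxRecDepth 1000000 in
theorem miv186_ok : ((mchunk 64 IV.toList 186).all ivOK) = true := by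
  decide +kernel

set_option maxRecDepth 1000000 in
theorem miv187_ok : ((mchunk 64 IV.toList 187).all ivOK) = true := by
  decide +kernel

set_option maxRecDepth 1000000 in
theorem miv188_ok : ((mchunk 64 IV.toList 188).all ivOK) = true := by
  decide +kernel

set_option maxRecDepth 1000000 in
theorem miv189_ok : ((mchunk 64 IV.toList 189).all ivOK) = true := by
  decide +kernel

set_option maxRecDepth 1000000 in
theorem miv190_ok : ((mchunk 64 IV.toList 190).all ivOK) = true := by
  decide +kernel

set_option maxRecDepth 1000000 in
theorem miv191_ok : ((mchunk 64 IV.toList 191).all ivOK) = true := by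
  decide +kernel

end Cfsg.Agent.Lib.Helper28.McLA
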