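import Cfsg.Agent.Lib.Helper28.McLACert13

/-!
# Certificates for the automorphisms of the McLaughlin group: the table of involutions, part 17

Generated by a script.
-/

set_option autoImplicit false
set_option Elab.async false

namespace Cfsg.Agent.Lib.Helper28.McLA

open Cfsg.Agent.Lib.Helper28.BSGS Cfsg.Agent.Lib.Helper28.McLAData
open Cfsg.Agent.Lib.Helper28.BSGSMat (Tree sortedB)

set_option maxRecDepth 1000000 in
theorem miv192_ok : ((mchunk 64 IV.toList 192).all ivOK) = true := by
  decide +kernel

set_option maxRecDepth 1000000 in
theorem miv193_ok : ((mchunk 64 IV.toList 193).all ivOK) = true := by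
  decide +kernel

set_option maxRecDepth 1000000 in
theorem miv194_ok : ((mchunk 64 IV.toList 194).all ivOK) = true := by
  decide +kernel

set_option maxRecDepth 1000000 in
theorem miv195_ok : ((mchunk 64 IV.toList 195).all ivOK) = true := by
  decide +kernel

set_option maxRecDepth 1000000 in
theorem miv196_ok : ((mchunk 64 IV.toList 196).all ivOK) = true := by
  decide +kernel

set_option maxRecDepth 1000000 in
theorem miv197_ok : ((mchunk 64 IV.toList 197).all ivOK) = true := by
  decide +kernel

set_option maxRecDepth 1000000 in
theorem miv198_ok : ((mchunk 64 IV.toList 198).all ivOK) = true := by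
  decide +kernel

set_option maxRecDepth 1000000 in
theorem miv199_ok : ((mchunk 64 IV.toList 199).all ivOK) = true := by
  decide +kernel

set_option maxRecDepth 1000000 in
theorem miv200_ok : ((mchunk 64 IV.toList 200).all ivOK) = true := by
  decide +kernel

set_option maxRecDepth 1000000 in
theorem miv201_ok : ((mchunk 64 IV.toList 201).all ivOK) = true := by
  decide +kernel

set_option maxRecDepth 1000000 in
theorem miv202_ok : ((mchunk 64 IV.toList 202).all ivOK) = true := by
  decide +kernel

set_option maxRecDepth 1000000 in
theorem miv203_ok : ((mchunk 64 IV.toList 203).all ivOK) = true := by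
  decide +kernel

end Cfsg.Agent.Lib.Helper28.McLA
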