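import Cfsg.Agent.Lib.Helper28.McLACert14

/-!
# Certificates for the automorphisms of the McLaughlin group: the table of involutions, part 18

Generated by a script.
-/

set_option autoImplicit false
set_option Elab.async false

namespace Cfsg.Agent.Lib.Helper28.McLA

open Cfsg.Agent.Lib.Helper28.BSGS Cfsg.Agent.Lib.Helper28.McLAData
open Cfsg.Agent.Lib.Helper28.BSGSMat (Tree sortedB)

set_option maxRecDepth 1000000 in
theorem miv204_ok : ((mchunk 64 IV.toList 204).all ivOK) = true := by
  decide +kernel

set_option maxRecDepth 1000000 in
theorem miv205_ok : ((mchunk 64 IV.toList 205).all ivOK) = true := by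
  decide +kernel

set_option maxRecDepth 1000000 in
theorem miv206_ok : ((mchunk 64 IV.toList 206).all ivOK) = true := by
  decide +kernel

set_option maxRecDepth 1000000 in
theorem miv207_ok : ((mchunk 64 IV.toList 207).all ivOK) = true := by
  decide +kernel

set_option maxRecDepth 1000000 in
theorem miv208_ok : ((mchunk 64 IV.toList 208).all ivOK) = true := by
  decide +kernel

set_option maxRecDepth 1000000 in
theorem miv209_ok : ((mchunk 64 IV.toList 209).all ivOK) = true := by
  decide +kernel

set_option maxRecDepth 1000000 in
theorem miv210_ok : ((mchunk 64 IV.toList 210).all ivOK) = true := by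
  decide +kernel

set_option maxRecDepth 1000000 in
theorem miv211_ok : ((mchunk 64 IV.toList 211).all ivOK) = true := by
  decide +kernel

set_option maxRecDepth 1000000 in
theorem miv212_ok : ((mchunk 64 IV.toList 212).all ivOK) = true := by
  decide +kernel

set_option maxRecDepth 1000000 in
theorem miv213_ok : ((mchunk 64 IV.toList 213).all ivOK) = true := by
  decide +kernel

set_option maxRecDepth 1000000 in
theorem miv214_ok : ((mchunk 64 IV.toList 214).all ivOK) = true := by
  decide +kernel

set_option maxRecDepth 1000000 in
theorem miv215_ok : ((mchunk 64 IV.toList 215).all ivOK) = true := by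
  decide +kernel

end Cfsg.Agent.Lib.Helper28.McLA
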