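import Cfsg.Agent.Lib.Helper28.McLACertC

/-!
# Certificates for the automorphisms of the McLaughlin group: the table of involutions, part 2

Generated by a script.
-/

set_option autoImplicit false
set_option Elab.async false

namespace Cfsg.Agent.Lib.Helper28.McLA

open Cfsg.Agent.Lib.Helper28.BSGS Cfsg.Agent.Lib.Helper28.McLAData
open Cfsg.Agent.Lib.Helper28.BSGSMat (Tree sortedB)

set_option maxRecDepth 1000000 in
theorem miv12_ok : ((mchunk 64 IV.toList 12).all ivOK) = true := by
  decide +kernel

set_option maxRecDepth 1000000 in
theorem miv13_ok : ((mchunk 64 IV.toList 13).all ivOK) = true := by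
  decide +kernel

set_option maxRecDepth 1000000 in
theorem miv14_ok : ((mchunk 64 IV.toList 14).all ivOK) = true := by
  decide +kernel

set_option maxRecDepth 1000000 in
theorem miv15_ok : ((mchunk 64 IV.toList 15).all ivOK) = true := by
  decide +kernel

set_option maxRecDepth 1000000 in
theorem miv16_ok : ((mchunk 64 IV.toList 16).all ivOK) = true := by
  decide +kernel

set_option maxRecDepth 1000000 in
theorem miv17_ok : ((mchunk 64 IV.toList 17).all ivOK) = true := by
  decide +kernel

set_option maxRecDepth 1000000 in
theorem miv18_ok : ((mchunk 64 IV.toList 18).all ivOK) = true := by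
  decide +kernel

set_option maxRecDepth 1000000 in
theorem miv19_ok : ((mchunk 64 IV.toList 19).all ivOK) = true := by
  decide +kernel

set_option maxRecDepth 1000000 in
theorem miv20_ok : ((mchunk 64 IV.toList 20).all ivOK) = true := by
  decide +kernel

set_option maxRecDepth 1000000 in
theorem miv21_ok : ((mchunk 64 IV.toList 21).all ivOK) = true := by
  decide +kernel

set_option maxRecDepth 1000000 in
theorem miv22_ok : ((mchunk 64 IV.toList 22).all ivOK) = true := by
  decide +kernel

set_option maxRecDepth 1000000 in
theorem miv23_ok : ((mchunk 64 IV.toList 23).all ivOK) = true := by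
  decide +kernel

end Cfsg.Agent.Lib.Helper28.McLA
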