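import Cfsg.Agent.Lib.Helper28.McLACert17

/-!
# Certificates for the automorphisms of the McLaughlin group: the table of involutions, part 21

Generated by a script.
-/

set_option autoImplicit false
set_option Elab.async false

namespace Cfsg.Agent.Lib.Helper28.McLA

open Cfsg.Agent.Lib.Helper28.BSGS Cfsg.Agent.Lib.Helper28.McLAData
open Cfsg.Agent.Lib.Helper28.BSGSMat (Tree sortedB)

set_option maxRecDepth 1000000 in
theorem miv240_ok : ((mchunk 64 IV.toList 240).all ivOK) = true := by
  decide +kernel

set_option maxRecDepth 1000000 in
theorem miv241_ok : ((mchunk 64 IV.toList 241).all ivOK) = true := by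
  decide +kernel

set_option maxRecDepth 1000000 in
theorem miv242_ok : ((mchunk 64 IV.toList 242).all ivOK) = true := by
  decide +kernel

set_option maxRecDepth 1000000 in
theorem miv243_ok : ((mchunk 64 IV.toList 243).all ivOK) = true := by
  decide +kernel

set_option maxRecDepth 1000000 in
theorem miv244_ok : ((mchunk 64 IV.toList 244).all ivOK) = true := by
  decide +kernel

set_option maxRecDepth 1000000 in
theorem miv245_ok : ((mchunk 64 IV.toList 245).all ivOK) = true := by
  decide +kernel

set_option maxRecDepth 1000000 in
theorem miv246_ok : ((mchunk 64 IV.toList 246).all ivOK) = true := by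
  decide +kernel

set_option maxRecDepth 1000000 in
theorem miv247_ok : ((mchunk 64 IV.toList 247).all ivOK) = true := by
  decide +kernel

set_option maxRecDepth 1000000 in
theorem miv248_ok : ((mchunk 64 IV.toList 248).all ivOK) = true := by
  decide +kernel

set_option maxRecDepth 1000000 in
theorem miv249_ok : ((mchunk 64 IV.toList 249).all ivOK) = true := by
  decide +kernel

set_option maxRecDepth 1000000 in
theorem miv250_ok : ((mchunk 64 IV.toList 250).all ivOK) = true := by
  decide +kernel

set_option maxRecDepth 1000000 in
theorem miv251_ok : ((mchunk 64 IV.toList 251).all ivOK) = true := by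
  decide +kernel

end Cfsg.Agent.Lib.Helper28.McLA
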