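import Cfsg.Agent.Lib.Helper28.McLACert19

/-!
# Certificates for the automorphisms of the McLaughlin group: the table of involutions, part 23

Generated by a script.
-/

set_option autoImplicit false
set_option Elab.async false

namespace Cfsg.Agent.Lib.Helper28.McLA

open Cfsg.Agent.Lib.Helper28.BSGS Cfsg.Agent.Lib.Helper28.McLAData
open Cfsg.Agent.Lib.Helper28.BSGSMat (Tree sortedB)

set_option maxRecDepth 1000000 in
theorem miv264_ok : ((mchunk 64 IV.toList 264).all ivOK) = true := by
  decide +kernel

set_option maxRecDepth 1000000 in
theorem miv265_ok : ((mchunk 64 IV.toList 265).all ivOK) = true := by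
  decide +kernel

set_option maxRecDepth 1000000 in
theorem miv266_ok : ((mchunk 64 IV.toList 266).all ivOK) = true := by
  decide +kernel

set_option maxRecDepth 1000000 in
theorem miv267_ok : ((mchunk 64 IV.toList 267).all ivOK) = true := by
  decide +kernel

set_option maxRecDepth 1000000 in
theorem miv268_ok : ((mchunk 64 IV.toList 268).all ivOK) = true := by
  decide +kernel

set_option maxRecDepth 1000000 in
theorem miv269_ok : ((mchunk 64 IV.toList 269).all ivOK) = true := by
  decide +kernel

set_option maxRecDepth 1000000 in
theorem miv270_ok : ((mchunk 64 IV.toList 270).all ivOK) = true := by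
  decide +kernel

set_option maxRecDepth 1000000 in
theorem miv271_ok : ((mchunk 64 IV.toList 271).all ivOK) = true := by
  decide +kernel

set_option maxRecDepth 1000000 in
theorem miv272_ok : ((mchunk 64 IV.toList 272).all ivOK) = true := by
  decide +kernel

set_option maxRecDepth 1000000 in
theorem miv273_ok : ((mchunk 64 IV.toList 273).all ivOK) = true := by
  decide +kernel

set_option maxRecDepth 1000000 in
theorem miv274_ok : ((mchunk 64 IV.toList 274).all ivOK) = true := by
  decide +kernel

set_option maxRecDepth 1000000 in
theorem miv275_ok : ((mchunk 64 IV.toList 275).all ivOK) = true := by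
  decide +kernel

end Cfsg.Agent.Lib.Helper28.McLA
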