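import Cfsg.Agent.Lib.Helper28.McLACert20

/-!
# Certificates for the automorphisms of the McLaughlin group: the table of involutions, part 24

Generated by a script.
-/

set_option autoImplicit false
set_option Elab.async false

namespace Cfsg.Agent.Lib.Helper28.McLA

open Cfsg.Agent.Lib.Helper28.BSGS Cfsg.Agent.Lib.Helper28.McLAData
open Cfsg.Agent.Lib.Helper28.BSGSMat (Tree sortedB)

set_option maxRecDepth 1000000 in
theorem miv276_ok : ((mchunk 64 IV.toList 276).all ivOK) = true := by
  decide +kernel

set_option maxRecDepth 1000000 in
theorem miv277_ok : ((mchunk 64 IV.toList 277).all ivOK) = true := by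
  decide +kernel

set_option maxRecDepth 1000000 in
theorem miv278_ok : ((mchunk 64 IV.toList 278).all ivOK) = true := by
  decide +kernel

set_option maxRecDepth 1000000 in
theorem miv279_ok : ((mchunk 64 IV.toList 279).all ivOK) = true := by
  decide +kernel

set_option maxRecDepth 1000000 in
theorem miv280_ok : ((mchunk 64 IV.toList 280).all ivOK) = true := by
  decide +kernel

set_option maxRecDepth 1000000 in
theorem miv281_ok : ((mchunk 64 IV.toList 281).all ivOK) = true := by
  decide +kernel

set_option maxRecDepth 1000000 in
theorem miv282_ok : ((mchunk 64 IV.toList 282).all ivOK) = true := by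
  decide +kernel

set_option maxRecDepth 1000000 in
theorem miv283_ok : ((mchunk 64 IV.toList 283).all ivOK) = true := by
  decide +kernel

set_option maxRecDepth 1000000 in
theorem miv284_ok : ((mchunk 64 IV.toList 284).all ivOK) = true := by
  decide +kernel

set_option maxRecDepth 1000000 in
theorem miv285_ok : ((mchunk 64 IV.toList 285).all ivOK) = true := by
  decide +kernel

set_option maxRecDepth 1000000 in
theorem miv286_ok : ((mchunk 64 IV.toList 286).all ivOK) = true := by
  decide +kernel

set_option maxRecDepth 1000000 in
theorem miv287_ok : ((mchunk 64 IV.toList 287).all ivOK) = true := by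
  decide +kernel

end Cfsg.Agent.Lib.Helper28.McLA
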