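import Cfsg.Agent.Lib.Helper28.McLACert22

/-!
# Certificates for the automorphisms of the McLaughlin group: the table of involutions, part 26

Generated by a script.
-/

set_option autoImplicit false
set_option Elab.async false

namespace Cfsg.Agent.Lib.Helper28.McLA

open Cfsg.Agent.Lib.Helper28.BSGS Cfsg.Agent.Lib.Helper28.McLAData
open Cfsg.Agent.Lib.Helper28.BSGSMat (Tree sortedB)

set_option maxRecDepth 1000000 in
theorem miv300_ok : ((mchunk 64 IV.toList 300).all ivOK) = true := by
  decide +kernel

set_option maxRecDepth 1000000 in
theorem miv301_ok : ((mchunk 64 IV.toList 301).all ivOK) = true := by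
  decide +kernel

set_option maxRecDepth 1000000 in
theorem miv302_ok : ((mchunk 64 IV.toList 302).all ivOK) = true := by
  decide +kernel

set_option maxRecDepth 1000000 in
theorem miv303_ok : ((mchunk 64 IV.toList 303).all ivOK) = true := by
  decide +kernel

set_option maxRecDepth 1000000 in
theorem miv304_ok : ((mchunk 64 IV.toList 304).all ivOK) = true := by
  decide +kernel

set_option maxRecDepth 1000000 in
theorem miv305_ok : ((mchunk 64 IV.toList 305).all ivOK) = true := by
  decide +kernel

set_option maxRecDepth 1000000 in
theorem miv306_ok : ((mchunk 64 IV.toList 306).all ivOK) = true := by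
  decide +kernel

set_option maxRecDepth 1000000 in
theorem miv307_ok : ((mchunk 64 IV.toList 307).all ivOK) = true := by
  decide +kernel

set_option maxRecDepth 1000000 in
theorem miv308_ok : ((mchunk 64 IV.toList 308).all ivOK) = true := by
  decide +kernel

set_option maxRecDepth 1000000 in
theorem miv309_ok : ((mchunk 64 IV.toList 309).all ivOK) = true := by
  decide +kernel

set_option maxRecDepth 1000000 in
theorem miv310_ok : ((mchunk 64 IV.toList 310).all ivOK) = true := by
  decide +kernel

set_option maxRecDepth 1000000 in
theorem miv311_ok : ((mchunk 64 IV.toList 311).all ivOK) = true := by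
  decide +kernel

end Cfsg.Agent.Lib.Helper28.McLA
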