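import Cfsg.Agent.Lib.Helper28.McLACert25

/-!
# Certificates for the automorphisms of the McLaughlin group: the table of involutions, part 29

Generated by a script.
-/

set_option autoImplicit false
set_option Elab.async false

namespace Cfsg.Agent.Lib.Helper28.McLA

open Cfsg.Agent.Lib.Helper28.BSGS Cfsg.Agent.Lib.Helper28.McLAData
open Cfsg.Agent.Lib.Helper28.BSGSMat (Tree sortedB)

set_option maxRecDepth 1000000 in
theorem miv336_ok : ((mchunk 64 IV.toList 336).all ivOK) = true := by
  decide +kernel

set_option maxRecDepth 1000000 in
theorem miv337_ok : ((mchunk 64 IV.toList 337).all ivOK) = true := by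
  decide +kernel

set_option maxRecDepth 1000000 in
theorem miv338_ok : ((mchunk 64 IV.toList 338).all ivOK) = true := by
  decide +kernel

set_option maxRecDepth 1000000 in
theorem miv339_ok : ((mchunk 64 IV.toList 339).all ivOK) = true := by
  decide +kernel

set_option maxRecDepth 1000000 in
theorem miv340_ok : ((mchunk 64 IV.toList 340).all ivOK) = true := by
  decide +kernel

set_option maxRecDepth 1000000 in
theorem miv341_ok : ((mchunk 64 IV.toList 341).all ivOK) = true := by
  decide +kernel

set_option maxRecDepth 1000000 in
theorem miv342_ok : ((mchunk 64 IV.toList 342).all ivOK) = true := by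
  decide +kernel

set_option maxRecDepth 1000000 in
theorem miv343_ok : ((mchunk 64 IV.toList 343).all ivOK) = true := by
  decide +kernel

set_option maxRecDepth 1000000 in
theorem miv344_ok : ((mchunk 64 IV.toList 344).all ivOK) = true := by
  decide +kernel

set_option maxRecDepth 1000000 in
theorem miv345_ok : ((mchunk 64 IV.toList 345).all ivOK) = true := by
  decide +kernel

set_option maxRecDepth 1000000 in
theorem miv346_ok : ((mchunk 64 IV.toList 346).all ivOK) = true := by
  decide +kernel

set_option maxRecDepth 1000000 in
theorem miv347_ok : ((mchunk 64 IV.toList 347).all ivOK) = true := by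
  decide +kernel

end Cfsg.Agent.Lib.Helper28.McLA
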