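import Cfsg.Agent.Lib.Helper28.McLACertC

/-!
# Certificates for the automorphisms of the McLaughlin group: the table of involutions, part 3

Generated by a script.
-/

set_option autoImplicit false
set_option Elab.async false

namespace Cfsg.Agent.Lib.Helper28.McLA

open Cfsg.Agent.Lib.Helper28.BSGS Cfsg.Agent.Lib.Helper28.McLAData
open Cfsg.Agent.Lib.Helper28.BSGSMat (Tree sortedB)

set_option maxRecDepth 1000000 in
theorem miv24_ok : ((mchunk 64 IV.toList 24).all ivOK) = true := by
  decide +kernel

set_option maxRecDepth 1000000 in
theorem miv25_ok : ((mchunk 64 IV.toList 25).all ivOK) = true := by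
  decide +kernel

set_option maxRecDepth 1000000 in
theorem miv26_ok : ((mchunk 64 IV.toList 26).all ivOK) = true := by
  decide +kernel

set_option maxRecDepth 1000000 in
theorem miv27_ok : ((mchunk 64 IV.toList 27).all ivOK) = true := by
  decide +kernel

set_option maxRecDepth 1000000 in
theorem miv28_ok : ((mchunk 64 IV.toList 28).all ivOK) = true := by
  decide +kernel

set_option maxRecDepth 1000000 in
theorem miv29_ok : ((mchunk 64 IV.toList 29).all ivOK) = true := by
  decide +kernel

set_option maxRecDepth 1000000 in
theorem miv30_ok : ((mchunk 64 IV.toList 30).all ivOK) = true := by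
  decide +kernel

set_option maxRecDepth 1000000 in
theorem miv31_ok : ((mchunk 64 IV.toList 31).all ivOK) = true := by
  decide +kernel

set_option maxRecDepth 1000000 in
theorem miv32_ok : ((mchunk 64 IV.toList 32).all ivOK) = true := by
  decide +kernel

set_option maxRecDepth 1000000 in
theorem miv33_ok : ((mchunk 64 IV.toList 33).all ivOK) = true := by
  decide +kernel

set_option maxRecDepth 1000000 in
theorem miv34_ok : ((mchunk 64 IV.toList 34).all ivOK) = true := by
  decide +kernel

set_option maxRecDepth 1000000 in
theorem miv35_ok : ((mchunk 64 IV.toList 35).all ivOK) = true := by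
  decide +kernel

end Cfsg.Agent.Lib.Helper28.McLA
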