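import Cfsg.Agent.Lib.Helper28.McLACert26

/-!
# Certificates for the automorphisms of the McLaughlin group: the table of involutions, part 30

Generated by a script.
-/

set_option autoImplicit false
set_option Elab.async false

namespace Cfsg.Agent.Lib.Helper28.McLA

open Cfsg.Agent.Lib.Helper28.BSGS Cfsg.Agent.Lib.Helper28.McLAData
open Cfsg.Agent.Lib.Helper28.BSGSMat (Tree sortedB)

set_option maxRecDepth 1000000 in
theorem miv348_ok : ((mchunk 64 IV.toList 348).all ivOK) = true := by
  decide +kernel

end Cfsg.Agent.Lib.Helper28.McLA
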