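import Cfsg.Agent.Lib.Helper28.McLACertC

/-!
# Certificates for the automorphisms of the McLaughlin group: the table of involutions, part 4

Generated by a script.
-/

set_option autoImplicit false
set_option Elab.async false

namespace Cfsg.Agent.Lib.Helper28.McLA

open Cfsg.Agent.Lib.Helper28.BSGS Cfsg.Agent.Lib.Helper28.McLAData
open Cfsg.Agent.Lib.Helper28.BSGSMat (Tree sortedB)

set_option maxRecDepth 1000000 in
theorem miv36_ok : ((mchunk 64 IV.toList 36).all ivOK) = true := by
  decide +kernel

set_option maxRecDepth 1000000 in
theorem miv37_ok : ((mchunk 64 IV.toList 37).all ivOK) = true := by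
  decide +kernel

set_option maxRecDepth 1000000 in
theorem miv38_ok : ((mchunk 64 IV.toList 38).all ivOK) = true := by
  decide +kernel

set_option maxRecDepth 1000000 in
theorem miv39_ok : ((mchunk 64 IV.toList 39).all ivOK) = true := by
  decide +kernel

set_option maxRecDepth 1000000 in
theorem miv40_ok : ((mchunk 64 IV.toList 40).all ivOK) = true := by
  decide +kernel

set_option maxRecDepth 1000000 in
theorem miv41_ok : ((mchunk 64 IV.toList 41).all ivOK) = true := by
  decide +kernel

set_option maxRecDepth 1000000 in
theorem miv42_ok : ((mchunk 64 IV.toList 42).all ivOK) = true := by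
  decide +kernel

set_option maxRecDepth 1000000 in
theorem miv43_ok : ((mchunk 64 IV.toList 43).all ivOK) = true := by
  decide +kernel

set_option maxRecDepth 1000000 in
theorem miv44_ok : ((mchunk 64 IV.toList 44).all ivOK) = true := by
  decide +kernel

set_option maxRecDepth 1000000 in
theorem miv45_ok : ((mchunk 64 IV.toList 45).all ivOK) = true := by
  decide +kernel

set_option maxRecDepth 1000000 in
theorem miv46_ok : ((mchunk 64 IV.toList 46).all ivOK) = true := by
  decide +kernel

set_option maxRecDepth 1000000 in
theorem miv47_ok : ((mchunk 64 IV.toList 47).all ivOK) = true := by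
  decide +kernel

end Cfsg.Agent.Lib.Helper28.McLA
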