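import Cfsg.Agent.Lib.Helper28.McLACert1

/-!
# Certificates for the automorphisms of the McLaughlin group: the table of involutions, part 5

Generated by a script.
-/

set_option autoImplicit false
set_option Elab.async false

namespace Cfsg.Agent.Lib.Helper28.McLA

open Cfsg.Agent.Lib.Helper28.BSGS Cfsg.Agent.Lib.Helper28.McLAData
open Cfsg.Agent.Lib.Helper28.BSGSMat (Tree sortedB)

set_option maxRecDepth 1000000 in
theorem miv48_ok : ((mchunk 64 IV.toList 48).all ivOK) = true := by
  decide +kernel

set_option maxRecDepth 1000000 in
theorem miv49_ok : ((mchunk 64 IV.toList 49).all ivOK) = true := by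
  decide +kernel

set_option maxRecDepth 1000000 in
theorem miv50_ok : ((mchunk 64 IV.toList 50).all ivOK) = true := by
  decide +kernel

set_option maxRecDepth 1000000 in
theorem miv51_ok : ((mchunk 64 IV.toList 51).all ivOK) = true := by
  decide +kernel

set_option maxRecDepth 1000000 in
theorem miv52_ok : ((mchunk 64 IV.toList 52).all ivOK) = true := by
  decide +kernel

set_option maxRecDepth 1000000 in
theorem miv53_ok : ((mchunk 64 IV.toList 53).all ivOK) = true := by
  decide +kernel

set_option maxRecDepth 1000000 in
theorem miv54_ok : ((mchunk 64 IV.toList 54).all ivOK) = true := by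
  decide +kernel

set_option maxRecDepth 1000000 in
theorem miv55_ok : ((mchunk 64 IV.toList 55).all ivOK) = true := by
  decide +kernel

set_option maxRecDepth 1000000 in
theorem miv56_ok : ((mchunk 64 IV.toList 56).all ivOK) = true := by
  decide +kernel

set_option maxRecDepth 1000000 in
theorem miv57_ok : ((mchunk 64 IV.toList 57).all ivOK) = true := by
  decide +kernel

set_option maxRecDepth 1000000 in
theorem miv58_ok : ((mchunk 64 IV.toList 58).all ivOK) = true := by
  decide +kernel

set_option maxRecDepth 1000000 in
theorem miv59_ok : ((mchunk 64 IV.toList 59).all ivOK) = true := by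
  decide +kernel

end Cfsg.Agent.Lib.Helper28.McLA
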