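import Cfsg.Agent.Lib.Helper28.McLACert2

/-!
# Certificates for the automorphisms of the McLaughlin group: the table of involutions, part 6

Generated by a script.
-/

set_option autoImplicit false
set_option Elab.async false

namespace Cfsg.Agent.Lib.Helper28.McLA

open Cfsg.Agent.Lib.Helper28.BSGS Cfsg.Agent.Lib.Helper28.McLAData
open Cfsg.Agent.Lib.Helper28.BSGSMat (Tree sortedB)

set_option maxRecDepth 1000000 in
theorem miv60_ok : ((mchunk 64 IV.toList 60).all ivOK) = true := by
  decide +kernel

set_option maxRecDepth 1000000 in
theorem miv61_ok : ((mchunk 64 IV.toList 61).all ivOK) = true := by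
  decide +kernel

set_option maxRecDepth 1000000 in
theorem miv62_ok : ((mchunk 64 IV.toList 62).all ivOK) = true := by
  decide +kernel

set_option maxRecDepth 1000000 in
theorem miv63_ok : ((mchunk 64 IV.toList 63).all ivOK) = true := by
  decide +kernel

set_option maxRecDepth 1000000 in
theorem miv64_ok : ((mchunk 64 IV.toList 64).all ivOK) = true := by
  decide +kernel

set_option maxRecDepth 1000000 in
theorem miv65_ok : ((mchunk 64 IV.toList 65).all ivOK) = true := by
  decide +kernel

set_option maxRecDepth 1000000 in
theorem miv66_ok : ((mchunk 64 IV.toList 66).all ivOK) = true := by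
  decide +kernel

set_option maxRecDepth 1000000 in
theorem miv67_ok : ((mchunk 64 IV.toList 67).all ivOK) = true := by
  decide +kernel

set_option maxRecDepth 1000000 in
theorem miv68_ok : ((mchunk 64 IV.toList 68).all ivOK) = true := by
  decide +kernel

set_option maxRecDepth 1000000 in
theorem miv69_ok : ((mchunk 64 IV.toList 69).all ivOK) = true := by
  decide +kernel

set_option maxRecDepth 1000000 in
theorem miv70_ok : ((mchunk 64 IV.toList 70).all ivOK) = true := by
  decide +kernel

set_option maxRecDepth 1000000 in
theorem miv71_ok : ((mchunk 64 IV.toList 71).all ivOK) = true := by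
  decide +kernel

end Cfsg.Agent.Lib.Helper28.McLA
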