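import Cfsg.Agent.Lib.Helper28.McLACert4

/-!
# Certificates for the automorphisms of the McLaughlin group: the table of involutions, part 8

Generated by a script.
-/

set_option autoImplicit false
set_option Elab.async false

namespace Cfsg.Agent.Lib.Helper28.McLA

open Cfsg.Agent.Lib.Helper28.BSGS Cfsg.Agent.Lib.Helper28.McLAData
open Cfsg.Agent.Lib.Helper28.BSGSMat (Tree sortedB)

set_option maxRecDepth 1000000 in
theorem miv84_ok : ((mchunk 64 IV.toList 84).all ivOK) = true := by
  decide +kernel

set_option maxRecDepth 1000000 in
theorem miv85_ok : ((mchunk 64 IV.toList 85).all ivOK) = true := by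
  decide +kernel

set_option maxRecDepth 1000000 in
theorem miv86_ok : ((mchunk 64 IV.toList 86).all ivOK) = true := by
  decide +kernel

set_option maxRecDepth 1000000 in
theorem miv87_ok : ((mchunk 64 IV.toList 87).all ivOK) = true := by
  decide +kernel

set_option maxRecDepth 1000000 in
theorem miv88_ok : ((mchunk 64 IV.toList 88).all ivOK) = true := by
  decide +kernel

set_option maxRecDepth 1000000 in
theorem miv89_ok : ((mchunk 64 IV.toList 89).all ivOK) = true := by
  decide +kernel

set_option maxRecDepth 1000000 in
theorem miv90_ok : ((mchunk 64 IV.toList 90).all ivOK) = true := by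
  decide +kernel

set_option maxRecDepth 1000000 in
theorem miv91_ok : ((mchunk 64 IV.toList 91).all ivOK) = true := by
  decide +kernel

set_option maxRecDepth 1000000 in
theorem miv92_ok : ((mchunk 64 IV.toList 92).all ivOK) = true := by
  decide +kernel

set_option maxRecDepth 1000000 in
theorem miv93_ok : ((mchunk 64 IV.toList 93).all ivOK) = true := by
  decide +kernel

set_option maxRecDepth 1000000 in
theorem miv94_ok : ((mchunk 64 IV.toList 94).all ivOK) = true := by
  decide +kernel

set_option maxRecDepth 1000000 in
theorem miv95_ok : ((mchunk 64 IV.toList 95).all ivOK) = true := by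
  decide +kernel

end Cfsg.Agent.Lib.Helper28.McLA
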