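import Cfsg.Agent.Lib.Helper28.McLACertA3

/-!
# Certificates for the automorphisms of the McLaughlin group: the Schreier–Sims chain

Generated by a script.
-/

set_option autoImplicit false
set_option Elab.async false

namespace Cfsg.Agent.Lib.Helper28.McLA

open Cfsg.Agent.Lib.Helper28.BSGS Cfsg.Agent.Lib.Helper28.McLAData
open Cfsg.Agent.Lib.Helper28.BSGSMat (Tree sortedB)

theorem msift0 : ∀ i, i < 6 → siftGen (0, mtr0) [(1, mtr1), (2, mtr2), (3, mtr3), (4, mtr4)] (GENS.getD i (0, 0)) = true := by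
  intro i hi
  interval_cases i
  · exact msift0_0
  · exact msift0_1
  · exact msift0_2
  · exact msift0_3
  · exact msift0_4
  · exact msift0_5

theorem msift1 : ∀ i, i < 5 → siftGen (1, mtr1) [(2, mtr2), (3, mtr3), (4, mtr4)] ((nextGens 9 GENS 0).getD i (0, 0)) = true := by
  intro i hi
  interval_cases i
  · exact msift1_0
  · exact msift1_1
  · exact msift1_2
  · exact msift1_3
  · exact msift1_4

theorem chain_ok : checkChain 275 9 GENS LEVELS = true := by
  have e : LEVELS = [(0, mtr0), (1, mtr1), (2, mtr2), (3, mtr3), (4, mtr4)] := rfl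
  rw [e]
  refine checkChain_cons _ _ _ (levelOK_of _ _ _ 6 mlen0 mpre0 msift0) ?_
  refine checkChain_cons _ _ _ (levelOK_of _ _ _ 5 mlen1 mpre1 msift1) ?_
  refine checkChain_cons _ _ _ (levelOK_of _ _ _ 4 mlen2 mpre2 (fun i hi => msift2 ⟨i, hi⟩)) ?_
  refine checkChain_cons _ _ _ (levelOK_of _ _ _ 3 mlen3 mpre3 (fun i hi => msift3 ⟨i, hi⟩)) ?_
  refine checkChain_cons _ _ _ (levelOK_of _ _ _ 1 mlen4 mpre4 (fun i hi => msift4 ⟨i, hi⟩)) ?_
  unfold checkChain
  exact mlen5

end Cfsg.Agent.Lib.Helper28.McLA
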