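import Cfsg.Agent.Lib.Helper28.McLACertA0

/-!
# Certificates for the automorphisms of the McLaughlin group: the Schreier–Sims chain, part 2

Generated by a script.
-/

set_option autoImplicit false
set_option Elab.async false

namespace Cfsg.Agent.Lib.Helper28.McLA

open Cfsg.Agent.Lib.Helper28.BSGS Cfsg.Agent.Lib.Helper28.McLAData
open Cfsg.Agent.Lib.Helper28.BSGSMat (Tree sortedB)

set_option maxRecDepth 1000000 in
theorem msift0_3 : siftGen (0, mtr0) [(1, mtr1), (2, mtr2), (3, mtr3), (4, mtr4)] (GENS.getD 3 (0, 0)) = true := by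
  decide +kernel

set_option maxRecDepth 1000000 in
theorem msift0_4 : siftGen (0, mtr0) [(1, mtr1), (2, mtr2), (3, mtr3), (4, mtr4)] (GENS.getD 4 (0, 0)) = true := by
  decide +kernel

set_option maxRecDepth 1000000 in
theorem msift0_5 : siftGen (0, mtr0) [(1, mtr1), (2, mtr2), (3, mtr3), (4, mtr4)] (GENS.getD 5 (0, 0)) = true := by
  decide +kernel

end Cfsg.Agent.Lib.Helper28.McLA
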