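import Cfsg.Agent.Lib.Helper28.McLACertA1

/-!
# Certificates for the automorphisms of the McLaughlin group: the Schreier–Sims chain, part 3

Generated by a script.
-/

set_option autoImplicit false
set_option Elab.async false

namespace Cfsg.Agent.Lib.Helper28.McLA

open Cfsg.Agent.Lib.Helper28.BSGS Cfsg.Agent.Lib.Helper28.McLAData
open Cfsg.Agent.Lib.Helper28.BSGSMat (Tree sortedB)

set_option maxRecDepth 1000000 in
theorem mlen1 : (nextGens 9 GENS 0).length = 5 := by
  decide +kernel

set_option maxRecDepth 1000000 in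
theorem mpre1 : levelPre (nextGens 9 GENS 0) (1, mtr1) = true := by
  decide +kernel

set_option maxRecDepth 1000000 in
theorem msift1_0 : siftGen (1, mtr1) [(2, mtr2), (3, mtr3), (4, mtr4)] ((nextGens 9 GENS 0).getD 0 (0, 0)) = true := by
  decide +kernel

set_option maxRecDepth 1000000 in
theorem msift1_1 : siftGen (1, mtr1) [(2, mtr2), (3, mtr3), (4, mtr4)] ((nextGens 9 GENS 0).getD 1 (0, 0)) = true := by
  decide +kernel

set_option maxRecDepth 1000000 in
theorem msift1_2 : siftGen (1, mtr1) [(2, mtr2), (3, mtr3), (4, mtr4)] ((nextGens 9 GENS 0).getD 2 (0, 0)) = true := by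
  decide +kernel

set_option maxRecDepth 1000000 in
theorem msift1_3 : siftGen (1, mtr1) [(2, mtr2), (3, mtr3), (4, mtr4)] ((nextGens 9 GENS 0).getD 3 (0, 0)) = true := by
  decide +kernel

set_option maxRecDepth 1000000 in
theorem msift1_4 : siftGen (1, mtr1) [(2, mtr2), (3, mtr3), (4, mtr4)] ((nextGens 9 GENS 0).getD 4 (0, 0)) = true := by
  decide +kernel

end Cfsg.Agent.Lib.Helper28.McLA
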