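import Cfsg.Agent.Lib.Helper28.McLACertA2

/-!
# Certificates for the automorphisms of the McLaughlin group: the Schreier–Sims chain, part 4

Generated by a script.
-/

set_option autoImplicit false
set_option Elab.async false

namespace Cfsg.Agent.Lib.Helper28.McLA

open Cfsg.Agent.Lib.Helper28.BSGS Cfsg.Agent.Lib.Helper28.McLAData
open Cfsg.Agent.Lib.Helper28.BSGSMat (Tree sortedB)

set_option maxRecDepth 1000000 in
theorem mlen2 : (nextGens 9 (nextGens 9 GENS 0) 1).length = 4 := by
  decide +kernel

set_option maxRecDepth 1000000 in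
theorem mpre2 : levelPre (nextGens 9 (nextGens 9 GENS 0) 1) (2, mtr2) = true := by
  decide +kernel

set_option maxRecDepth 1000000 in
theorem msift2 : ∀ i : Fin 4, siftGen (2, mtr2) [(3, mtr3), (4, mtr4)] ((nextGens 9 (nextGens 9 GENS 0) 1).getD i.val (0, 0)) = true := by
  decide +kernel

set_option maxRecDepth 1000000 in
theorem mlen3 : (nextGens 9 (nextGens 9 (nextGens 9 GENS 0) 1) 2).length = 3 := by
  decide +kernel

set_option maxRecDepth 1000000 in
theorem mpre3 : levelPre (nextGens 9 (nextGens 9 (nextGens 9 GENS 0) 1) 2) (3, mtr3) = true := by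
  decide +kernel

set_option maxRecDepth 1000000 in
theorem msift3 : ∀ i : Fin 3, siftGen (3, mtr3) [(4, mtr4)] ((nextGens 9 (nextGens 9 (nextGens 9 GENS 0) 1) 2).getD i.val (0, 0)) = true := by
  decide +kernel

set_option maxRecDepth 1000000 in
theorem mlen4 : (nextGens 9 (nextGens 9 (nextGens 9 (nextGens 9 GENS 0) 1) 2) 3).length = 1 := by
  decide +kernel

set_option maxRecDepth 1000000 in
theorem mpre4 : levelPre (nextGens 9 (nextGens 9 (nextGens 9 (nextGens 9 GENS 0) 1) 2) 3) (4, mtr4) = true := by
  decide +kernel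

set_option maxRecDepth 1000000 in
theorem msift4 : ∀ i : Fin 1, siftGen (4, mtr4) [] ((nextGens 9 (nextGens 9 (nextGens 9 (nextGens 9 GENS 0) 1) 2) 3).getD i.val (0, 0)) = true := by
  decide +kernel

set_option maxRecDepth 1000000 in
theorem mlen5 : (nextGens 9 (nextGens 9 (nextGens 9 (nextGens 9 (nextGens 9 GENS 0) 1) 2) 3) 4).isEmpty = true := by
  decide +kernel

end Cfsg.Agent.Lib.Helper28.McLA
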