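import Cfsg.Agent.Lib.Helper28.McLACertA
import Cfsg.Agent.Lib.Helper28.McLACert30
import Cfsg.Agent.Lib.Helper28.McLACert29
import Cfsg.Agent.Lib.Helper28.McLACert28
import Cfsg.Agent.Lib.Helper28.McLACert27

/-!
# Certificates for the automorphisms of the McLaughlin group: all entries of the table of involutions

Generated by a script.
-/

set_option autoImplicit false
set_option Elab.async false

namespace Cfsg.Agent.Lib.Helper28.McLA

open Cfsg.Agent.Lib.Helper28.BSGS Cfsg.Agent.Lib.Helper28.McLAData
open Cfsg.Agent.Lib.Helper28.BSGSMat (Tree sortedB)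

theorem miv_chunks : ∀ i, i < 349 → ((mchunk 64 IV.toList i).all ivOK) = true := by
  intro i hi
  interval_cases i
  · exact miv0_ok
  · exact miv1_ok
  · exact miv2_ok
  · exact miv3_ok
  · exact miv4_ok
  · exact miv5_ok
  · exact miv6_ok
  · exact miv7_ok
  · exact miv8_ok
  · exact miv9_ok
  · exact miv10_ok
  · exact miv11_ok
  · exact miv12_ok
  · exact miv13_ok
  · exact miv14_ok
  · exact miv15_ok
  · exact miv16_ok
  · exact miv17_ok
  · exact miv18_ok
  · exact miv19_ok
  · exact miv20_ok
  · exact miv21_ok
  · exact miv22_ok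
  · exact miv23_ok
  · exact miv24_ok
  · exact miv25_ok
  · exact miv26_ok
  · exact miv27_ok
  · exact miv28_ok
  · exact miv29_ok
  · exact miv30_ok
  · exact miv31_ok
  · exact miv32_ok
  · exact miv33_ok
  · exact miv34_ok
  · exact miv35_ok
  · exact miv36_ok
  · exact miv37_ok
  · exact miv38_ok
  · exact miv39_ok
  · exact miv40_ok
  · exact miv41_ok
  · exact miv42_ok
  · exact miv43_ok
  · exact miv44_ok
  · exact miv45_ok
  · exact miv46_ok
  · exact miv47_ok
  · exact miv48_ok
  · exact miv49_ok
  · exact miv50_ok
  · exact miv51_ok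
  · exact miv52_ok
  · exact miv53_ok
  · exact miv54_ok
  · exact miv55_ok
  · exact miv56_ok
  · exact miv57_ok
  · exact miv58_ok
  · exact miv59_ok
  · exact miv60_ok
  · exact miv61_ok
  · exact miv62_ok
  · exact miv63_ok
  · exact miv64_ok
  · exact miv65_ok
  · exact miv66_ok
  · exact miv67_ok
  · exact miv68_ok
  · exact miv69_ok
  · exact miv70_ok
  · exact miv71_ok
  · exact miv72_ok
  · exact miv73_ok
  · exact miv74_ok
  · exact miv75_ok
  · exact miv76_ok
  · exact miv77_ok
  · exact miv78_ok
  · exact miv79_ok
  · exact miv80_ok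
  · exact miv81_ok
  · exact miv82_ok
  · exact miv83_ok
  · exact miv84_ok
  · exact miv85_ok
  · exact miv86_ok
  · exact miv87_ok
  · exact miv88_ok
  · exact miv89_ok
  · exact miv90_ok
  · exact miv91_ok
  · exact miv92_ok
  · exact miv93_ok
  · exact miv94_ok
  · exact miv95_ok
  · exact miv96_ok
  · exact miv97_ok
  · exact miv98_ok
  · exact miv99_ok
  · exact miv100_ok
  · exact miv101_ok
  · exact miv102_ok
  · exact miv103_ok
  · exact miv104_ok
  · exact miv105_ok
  · exact miv106_ok
  · exact miv107_ok
  · exact miv108_ok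
  · exact miv109_ok
  · exact miv110_ok
  · exact miv111_ok
  · exact miv112_ok
  · exact miv113_ok
  · exact miv114_ok
  · exact miv115_ok
  · exact miv116_ok
  · exact miv117_ok
  · exact miv118_ok
  · exact miv119_ok
  · exact miv120_ok
  · exact miv121_ok
  · exact miv122_ok
  · exact miv123_ok
  · exact miv124_ok
  · exact miv125_ok
  · exact miv126_ok
  · exact miv127_ok
  · exact miv128_ok
  · exact miv129_ok
  · exact miv130_ok
  · exact miv131_ok
  · exact miv132_ok
  · exact miv133_ok
  · exact miv134_ok
  · exact miv135_ok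
  · exact miv136_ok
  · exact miv137_ok
  · exact miv138_ok
  · exact miv139_ok
  · exact miv140_ok
  · exact miv141_ok
  · exact miv142_ok
  · exact miv143_ok
  · exact miv144_ok
  · exact miv145_ok
  · exact miv146_ok
  · exact miv147_ok
  · exact miv148_ok
  · exact miv149_ok
  · exact miv150_ok
  · exact miv151_ok
  · exact miv152_ok
  · exact miv153_ok
  · exact miv154_ok
  · exact miv155_ok
  · exact miv156_ok
  · exact miv157_ok
  · exact miv158_ok
  · exact miv159_ok
  · exact miv160_ok
  · exact miv161_ok
  · exact miv162_ok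
  · exact miv163_ok
  · exact miv164_ok
  · exact miv165_ok
  · exact miv166_ok
  · exact miv167_ok
  · exact miv168_ok
  · exact miv169_ok
  · exact miv170_ok
  · exact miv171_ok
  · exact miv172_ok
  · exact miv173_ok
  · exact miv174_ok
  · exact miv175_ok
  · exact miv176_ok
  · exact miv177_ok
  · exact miv178_ok
  · exact miv179_ok
  · exact miv180_ok
  · exact miv181_ok
  · exact miv182_ok
  · exact miv183_ok
  · exact miv184_ok
  · exact miv185_ok
  · exact miv186_ok
  · exact miv187_ok
  · exact miv188_ok
  · exact miv189_ok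
  · exact miv190_ok
  · exact miv191_ok
  · exact miv192_ok
  · exact miv193_ok
  · exact miv194_ok
  · exact miv195_ok
  · exact miv196_ok
  · exact miv197_ok
  · exact miv198_ok
  · exact miv199_ok
  · exact miv200_ok
  · exact miv201_ok
  · exact miv202_ok
  · exact miv203_ok
  · exact miv204_ok
  · exact miv205_ok
  · exact miv206_ok
  · exact miv207_ok
  · exact miv208_ok
  · exact miv209_ok
  · exact miv210_ok
  · exact miv211_ok
  · exact miv212_ok
  · exact miv213_ok
  · exact miv214_ok
  · exact miv215_ok
  · exact miv216_ok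
  · exact miv217_ok
  · exact miv218_ok
  · exact miv219_ok
  · exact miv220_ok
  · exact miv221_ok
  · exact miv222_ok
  · exact miv223_ok
  · exact miv224_ok
  · exact miv225_ok
  · exact miv226_ok
  · exact miv227_ok
  · exact miv228_ok
  · exact miv229_ok
  · exact miv230_ok
  · exact miv231_ok
  · exact miv232_ok
  · exact miv233_ok
  · exact miv234_ok
  · exact miv235_ok
  · exact miv236_ok
  · exact miv237_ok
  · exact miv238_ok
  · exact miv239_ok
  · exact miv240_ok
  · exact miv241_ok
  · exact miv242_ok
  · exact miv243_ok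
  · exact miv244_ok
  · exact miv245_ok
  · exact miv246_ok
  · exact miv247_ok
  · exact miv248_ok
  · exact miv249_ok
  · exact miv250_ok
  · exact miv251_ok
  · exact miv252_ok
  · exact miv253_ok
  · exact miv254_ok
  · exact miv255_ok
  · exact miv256_ok
  · exact miv257_ok
  · exact miv258_ok
  · exact miv259_ok
  · exact miv260_ok
  · exact miv261_ok
  · exact miv262_ok
  · exact miv263_ok
  · exact miv264_ok
  · exact miv265_ok
  · exact miv266_ok
  · exact miv267_ok
  · exact miv268_ok
  · exact miv269_ok
  · exact miv270_ok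
  · exact miv271_ok
  · exact miv272_ok
  · exact miv273_ok
  · exact miv274_ok
  · exact miv275_ok
  · exact miv276_ok
  · exact miv277_ok
  · exact miv278_ok
  · exact miv279_ok
  · exact miv280_ok
  · exact miv281_ok
  · exact miv282_ok
  · exact miv283_ok
  · exact miv284_ok
  · exact miv285_ok
  · exact miv286_ok
  · exact miv287_ok
  · exact miv288_ok
  · exact miv289_ok
  · exact miv290_ok
  · exact miv291_ok
  · exact miv292_ok
  · exact miv293_ok
  · exact miv294_ok
  · exact miv295_ok
  · exact miv296_ok
  · exact miv297_ok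
  · exact miv298_ok
  · exact miv299_ok
  · exact miv300_ok
  · exact miv301_ok
  · exact miv302_ok
  · exact miv303_ok
  · exact miv304_ok
  · exact miv305_ok
  · exact miv306_ok
  · exact miv307_ok
  · exact miv308_ok
  · exact miv309_ok
  · exact miv310_ok
  · exact miv311_ok
  · exact miv312_ok
  · exact miv313_ok
  · exact miv314_ok
  · exact miv315_ok
  · exact miv316_ok
  · exact miv317_ok
  · exact miv318_ok
  · exact miv319_ok
  · exact miv320_ok
  · exact miv321_ok
  · exact miv322_ok
  · exact miv323_ok
  · exact miv324_ok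
  · exact miv325_ok
  · exact miv326_ok
  · exact miv327_ok
  · exact miv328_ok
  · exact miv329_ok
  · exact miv330_ok
  · exact miv331_ok
  · exact miv332_ok
  · exact miv333_ok
  · exact miv334_ok
  · exact miv335_ok
  · exact miv336_ok
  · exact miv337_ok
  · exact miv338_ok
  · exact miv339_ok
  · exact miv340_ok
  · exact miv341_ok
  · exact miv342_ok
  · exact miv343_ok
  · exact miv344_ok
  · exact miv345_ok
  · exact miv346_ok
  · exact miv347_ok
  · exact miv348_ok

theorem miv_all : ∀ e ∈ IV.toList, ivOK e = true :=
  all_of_mchunks (s := 64) (by norm_num) IV.toList ivOK 349 (by rw [len_IV]; norm_num) miv_chunks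

end Cfsg.Agent.Lib.Helper28.McLA
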