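import Cfsg.Agent.Lib.Helper28.McLACert0

/-!
# Certificates for the automorphisms of the McLaughlin group: the Sylow 2-subgroup

Generated by a script.
-/

set_option autoImplicit false
set_option Elab.async false

namespace Cfsg.Agent.Lib.Helper28.McLA

open Cfsg.Agent.Lib.Helper28.BSGS Cfsg.Agent.Lib.Helper28.McLAData
open Cfsg.Agent.Lib.Helper28.BSGSMat (Tree sortedB)

set_option maxRecDepth 1000000 in
theorem mst0_ok : ((mchunk 32 ST.toList 0).all stOK) = true := by
  decide +kernel

set_option maxRecDepth 1000000 in
theorem mst1_ok : ((mchunk 32 ST.toList 1).all stOK) = true := by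
  decide +kernel

set_option maxRecDepth 1000000 in
theorem mst2_ok : ((mchunk 32 ST.toList 2).all stOK) = true := by
  decide +kernel

set_option maxRecDepth 1000000 in
theorem mst3_ok : ((mchunk 32 ST.toList 3).all stOK) = true := by
  decide +kernel

theorem mst_chunks : ∀ i, i < 4 → ((mchunk 32 ST.toList i).all stOK) = true := by
  intro i hi
  interval_cases i
  · exact mst0_ok
  · exact mst1_ok
  · exact mst2_ok
  · exact mst3_ok

theorem st_all : ∀ e ∈ ST.toList, stOK e = true :=
  all_of_mchunks (s := 32) (by norm_num) ST.toList stOK 4 (by rw [len_ST]) mst_chunks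

end Cfsg.Agent.Lib.Helper28.McLA
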