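import Cfsg.Agent.Lib.Helper28.McLACertL2

/-!
# Certificates for the automorphisms of the McLaughlin group: the lattice side

The 275 integer lists are distinct.
-/

set_option autoImplicit false
set_option Elab.async false

namespace Cfsg.Agent.Lib.Helper28.McLA

open Cfsg.Agent.Lib.Helper28.BSGS Cfsg.Agent.Lib.Helper28.McLAData
open Cfsg.Agent.Helper4.CO

theorem xl_distinct : ∀ i j : Fin 275, i ≠ j → dotL (xl i.val) (xl j.val) ≠ 32 := by
  intro i j hij
  have hij' : i.val ≠ j.val := fun h => hij (Fin.ext h)
  have hi := i.isLt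
  have key : ∀ (k : ℕ) (hk : k < 11),
      (∀ i' : Fin 25, ∀ j : Fin 275, 25 * k + i'.val ≠ j.val →
        dotL (xl (25 * k + i'.val)) (xl j.val) ≠ 32) := by
    intro k hk
    interval_cases k
    · exact xl_distinct_0
    · exact xl_distinct_1
    · exact xl_distinct_2
    · exact xl_distinct_3
    · exact xl_distinct_4
    · exact xl_distinct_5
    · exact xl_distinct_6
    · exact xl_distinct_7
    · exact xl_distinct_8
    · exact xl_distinct_9
    · exact xl_distinct_10
  have h := key (i.val / 25) (by omega) ⟨i.val % 25, Nat.mod_lt _ (by norm_num)⟩ j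
  have e : 25 * (i.val / 25) + i.val % 25 = i.val := Nat.div_add_mod _ _
  simp only [e] at h
  exact h hij'

end Cfsg.Agent.Lib.Helper28.McLA
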