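import Cfsg.Agent.Lib.Helper28.McLADefs
import Cfsg.Agent.Lib.Helper4.Orb.McL.Cfg

/-!
# Certificates for the automorphisms of the McLaughlin group: the lattice side, part 1

The 275 integer lists code vectors of the rank-24 lattice with the right inner products, and the
four explicit automorphisms of the lattice permute them as the four tables say.
-/

set_option autoImplicit false
set_option Elab.async false

namespace Cfsg.Agent.Lib.Helper28.McLA

open Cfsg.Agent.Lib.Helper28.BSGS Cfsg.Agent.Lib.Helper28.McLAData
open Cfsg.Agent.Helper4.CO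

set_option maxRecDepth 1000000 in
theorem xl_in : ∀ i : Fin 275, InLP (xl i.val) := by
  decide +kernel

set_option maxRecDepth 1000000 in
theorem xl_dots : ∀ i : Fin 275, dotL (xl i.val) (xl i.val) = 32 ∧
    dotL Cfsg.Agent.Helper4.CO.McL.anc0 (xl i.val) = 24 ∧
    dotL Cfsg.Agent.Helper4.CO.McL.anc1 (xl i.val) = 16 := by
  decide +kernel

set_option maxRecDepth 1000000 in
theorem act_p0 : ∀ i : Fin 275,
    Cfsg.Agent.Helper4.CO.McL.g0.act (xl i.val) = xl (look 9 tp0 i.val) := by
  decide +kernel

set_option maxRecDepth 1000000 in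
theorem act_p1 : ∀ i : Fin 275,
    Cfsg.Agent.Helper4.CO.McL.g1.act (xl i.val) = xl (look 9 tp1 i.val) := by
  decide +kernel

set_option maxRecDepth 1000000 in
theorem act_p2 : ∀ i : Fin 275,
    Cfsg.Agent.Helper4.CO.McL.g2.act (xl i.val) = xl (look 9 tp2 i.val) := by
  decide +kernel

set_option maxRecDepth 1000000 in
theorem act_p3 : ∀ i : Fin 275,
    Cfsg.Agent.Helper4.CO.McL.g3.act (xl i.val) = xl (look 9 tp3 i.val) := by
  decide +kernel

end Cfsg.Agent.Lib.Helper28.McLA
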