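import Cfsg.Agent.Lib.Helper28.McLACertL0

/-!
# Certificates for the automorphisms of the McLaughlin group: the lattice side, part 2

The 275 integer lists are distinct: the first six blocks of 25 rows.
-/

set_option autoImplicit false
set_option Elab.async false

namespace Cfsg.Agent.Lib.Helper28.McLA

open Cfsg.Agent.Lib.Helper28.BSGS Cfsg.Agent.Lib.Helper28.McLAData
open Cfsg.Agent.Helper4.CO

set_option maxRecDepth 1000000 in
theorem xl_distinct_0 : ∀ i : Fin 25, ∀ j : Fin 275, 25 * 0 + i.val ≠ j.val →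
    dotL (xl (25 * 0 + i.val)) (xl j.val) ≠ 32 := by
  decide +kernel

set_option maxRecDepth 1000000 in
theorem xl_distinct_1 : ∀ i : Fin 25, ∀ j : Fin 275, 25 * 1 + i.val ≠ j.val →
    dotL (xl (25 * 1 + i.val)) (xl j.val) ≠ 32 := by
  decide +kernel

set_option maxRecDepth 1000000 in
theorem xl_distinct_2 : ∀ i : Fin 25, ∀ j : Fin 275, 25 * 2 + i.val ≠ j.val →
    dotL (xl (25 * 2 + i.val)) (xl j.val) ≠ 32 := by
  decide +kernel

set_option maxRecDepth 1000000 in
theorem xl_distinct_3 : ∀ i : Fin 25, ∀ j : Fin 275, 25 * 3 + i.val ≠ j.val →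
    dotL (xl (25 * 3 + i.val)) (xl j.val) ≠ 32 := by
  decide +kernel

set_option maxRecDepth 1000000 in
theorem xl_distinct_4 : ∀ i : Fin 25, ∀ j : Fin 275, 25 * 4 + i.val ≠ j.val →
    dotL (xl (25 * 4 + i.val)) (xl j.val) ≠ 32 := by
  decide +kernel

set_option maxRecDepth 1000000 in
theorem xl_distinct_5 : ∀ i : Fin 25, ∀ j : Fin 275, 25 * 5 + i.val ≠ j.val →
    dotL (xl (25 * 5 + i.val)) (xl j.val) ≠ 32 := by
  decide +kernel

end Cfsg.Agent.Lib.Helper28.McLA
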