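import Cfsg.Agent.Lib.Helper28.McLACertL1

/-!
# Certificates for the automorphisms of the McLaughlin group: the lattice side, part 3

The 275 integer lists are distinct: the last five blocks of 25 rows.
-/

set_option autoImplicit false
set_option Elab.async false

namespace Cfsg.Agent.Lib.Helper28.McLA

open Cfsg.Agent.Lib.Helper28.BSGS Cfsg.Agent.Lib.Helper28.McLAData
open Cfsg.Agent.Helper4.CO

set_option maxRecDepth 1000000 in
theorem xl_distinct_6 : ∀ i : Fin 25, ∀ j : Fin 275, 25 * 6 + i.val ≠ j.val →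
    dotL (xl (25 * 6 + i.val)) (xl j.val) ≠ 32 := by
  decide +kernel

set_option maxRecDepth 1000000 in
theorem xl_distinct_7 : ∀ i : Fin 25, ∀ j : Fin 275, 25 * 7 + i.val ≠ j.val →
    dotL (xl (25 * 7 + i.val)) (xl j.val) ≠ 32 := by
  decide +kernel

set_option maxRecDepth 1000000 in
theorem xl_distinct_8 : ∀ i : Fin 25, ∀ j : Fin 275, 25 * 8 + i.val ≠ j.val →
    dotL (xl (25 * 8 + i.val)) (xl j.val) ≠ 32 := by
  decide +kernel

set_option maxRecDepth 1000000 in
theorem xl_distinct_9 : ∀ i : Fin 25, ∀ j : Fin 275, 25 * 9 + i.val ≠ j.val →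
    dotL (xl (25 * 9 + i.val)) (xl j.val) ≠ 32 := by
  decide +kernel

set_option maxRecDepth 1000000 in
theorem xl_distinct_10 : ∀ i : Fin 25, ∀ j : Fin 275, 25 * 10 + i.val ≠ j.val →
    dotL (xl (25 * 10 + i.val)) (xl j.val) ≠ 32 := by
  decide +kernel

end Cfsg.Agent.Lib.Helper28.McLA
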