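import Cfsg.Prelude.Def_Spor_Conway
import Cfsg.Prelude.Def_KGroupFacts
import Cfsg.Agent.Lib.Helper4.Orb.GrpMcL
import Cfsg.Agent.Lib.Helper28.McLACertL
import Cfsg.Agent.Lib.Helper28.McLA

/-!
# The McLaughlin group of the list and the group on 275 points

The stabilizer of the vectors `(5, 1, …, 1)` and `(4, 4, 0, …, 0)` of the rank-24 lattice is simple
of order `898128000` and acts faithfully on 275 vectors.  Four explicit automorphisms in this
stabilizer induce four explicit permutations of the 275 vectors, and the two generators `a`, `b` of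
the explicit group of order `898128000` on 275 points are products of these.  Hence the stabilizer
is isomorphic to the explicit group, and the outer automorphism group of the McLaughlin group has
order two.
-/

set_option autoImplicit false
set_option maxRecDepth 100000

namespace Cfsg.Agent.Lib.Helper28.McLB

/-- isomorphic groups have outer automorphism groups of the same order -/
theorem out_card_congr {G : Type*} {H : Type*} [Group G] [Group H] (e : G ≃* H) :
    Nat.card (Cfsg.Out G) = Nat.card (Cfsg.Out H) := by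
  show Nat.card (MulAut G ⧸ Cfsg.Inn G) = Nat.card (MulAut H ⧸ Cfsg.Inn H)
  rw [← Subgroup.index_eq_card, ← Subgroup.index_eq_card,
    ← Subgroup.index_map_equiv (Cfsg.Inn G) (MulAut.congr e)]
  congr 1
  ext φ
  constructor
  · rintro ⟨ψ, ⟨g, rfl⟩, rfl⟩
    refine ⟨e g, ?_⟩
    ext x
    simp [MulAut.congr]
  · rintro ⟨h, rfl⟩
    refine ⟨MulAut.conj (e.symm h), ⟨e.symm h, rfl⟩, ?_⟩
    ext x
    simp [MulAut.congr]

open Cfsg Cfsg.Spor MulAction
open Cfsg.Agent.Helper4.CO Cfsg.Agent.Helper4.CO.Grp Cfsg.Agent.Helper4.LC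
open Cfsg.Agent.Lib.Helper28.McLA Cfsg.Agent.Lib.Helper28.McLAData Cfsg.Agent.Lib.Helper28.BSGS

/-! ### the 275 vectors -/

/-- the lattice group -/
abbrev HB : Subgroup ↥Co0 := stabilizer ↥Co0 mU ⊓ stabilizer ↥Co0 mV

theorem hB : SimpCard ↥HB 898128000 := mcl_base

/-- the 275 vectors -/
def xs (i : Fin 275) : leechLattice := mkL (xl i.val) (xl_in i)

theorem xs_coe (i : Fin 275) : ((xs i : leechLattice) : GolayPt → ℤ) = toV (xl i.val) := rfl

/-- the set of the 275 vectors -/
def X : Set leechLattice := dotSet 32 mU mV 0 (24, 16, 0)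

theorem mU_coe : ((mU : leechLattice) : GolayPt → ℤ) = toV McL.anc0 := rfl

theorem mV_coe : ((mV : leechLattice) : GolayPt → ℤ) = toV McL.anc1 := rfl

theorem xs_mem (i : Fin 275) : xs i ∈ X := by
  unfold X
  rw [mem_dotSet_zero3]
  obtain ⟨h1, h2, h3⟩ := xl_dots i
  refine ⟨?_, ?_, ?_⟩
  · rw [xs_coe, sqNorm_toV _ (xl_in i).1]; exact h1
  · rw [mU_coe, xs_coe, dotInt_toV _ _ McL.anc0_in.1 (xl_in i).1]; exact h2
  · rw [mV_coe, xs_coe, dotInt_toV _ _ McL.anc1_in.1 (xl_in i).1]; exact h3

theorem xs_inj : Function.Injective xs := by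
  intro i j h
  by_contra hne
  apply xl_distinct i j hne
  have h1 : dotInt ((xs i : leechLattice) : GolayPt → ℤ) ((xs j : leechLattice) : GolayPt → ℤ) =
      32 := by
    rw [h, dotInt_self']
    exact (mem_dotSet_zero3.mp (xs_mem j)).1
  rw [xs_coe, xs_coe, dotInt_toV _ _ (xl_in i).1 (xl_in j).1] at h1
  exact h1

theorem X_ncard : X.ncard = 275 := McL.card_R mU mV mU_norm mV_memP

theorem range_xs : Set.range xs = X := by
  have hfin : X.Finite := Set.finite_of_ncard_ne_zero (by rw [X_ncard]; norm_num)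
  apply Set.eq_of_subset_of_ncard_le _ _ hfin
  · rintro _ ⟨i, rfl⟩
    exact xs_mem i
  · rw [X_ncard, ← Set.image_univ, Set.ncard_image_of_injective _ xs_inj, Set.ncard_univ,
      Nat.card_fin]

/-! ### the action -/

theorem smul_mem_X (g : ↥Co0) (hu : g • mU = mU) (hv : g • mV = mV) {x : leechLattice}
    (hx : x ∈ X) : g • x ∈ X := by
  unfold X at hx ⊢
  rw [mem_dotSet_zero3] at hx ⊢
  refine ⟨by rw [co0_sqNorm']; exact hx.1, ?_, ?_⟩
  · have h := co0_dot' g mU x
    rw [hu] at h
    rw [h]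
    exact hx.2.1
  · have h := co0_dot' g mV x
    rw [hv] at h
    rw [h]
    exact hx.2.2

theorem stab_u (g : ↥HB) : g.1 • mU = mU :=
  MulAction.mem_stabilizer_iff.mp (Subgroup.mem_inf.mp g.2).1

theorem stab_v (g : ↥HB) : g.1 • mV = mV :=
  MulAction.mem_stabilizer_iff.mp (Subgroup.mem_inf.mp g.2).2

theorem exists_idx (g : ↥HB) (i : Fin 275) : ∃ j, xs j = g.1 • xs i := by
  have h : g.1 • xs i ∈ Set.range xs := by
    rw [range_xs]
    exact smul_mem_X g.1 (stab_u g) (stab_v g) (xs_mem i)
  exact h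

/-- the index of the image of the `i`-th vector -/
noncomputable def idx (g : ↥HB) (i : Fin 275) : Fin 275 := (exists_idx g i).choose

theorem idx_spec (g : ↥HB) (i : Fin 275) : xs (idx g i) = g.1 • xs i :=
  (exists_idx g i).choose_spec

theorem idx_eq {g : ↥HB} {i j : Fin 275} (h : xs j = g.1 • xs i) : idx g i = j :=
  xs_inj (by rw [idx_spec, h])

theorem idx_one (i : Fin 275) : idx 1 i = i :=
  idx_eq (by rw [Subgroup.coe_one, one_smul])

theorem idx_mul (g h : ↥HB) (i : Fin 275) : idx (g * h) i = idx g (idx h i) :=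
  idx_eq (by rw [idx_spec, idx_spec, Subgroup.coe_mul, mul_smul])

/-- the action on the indices -/
noncomputable def fP : ↥HB →* Equiv.Perm (Fin 275) where
  toFun g :=
    { toFun := idx g
      invFun := idx g⁻¹
      left_inv := fun i => by rw [← idx_mul, inv_mul_cancel, idx_one]
      right_inv := fun i => by rw [← idx_mul, mul_inv_cancel, idx_one] }
  map_one' := Equiv.ext fun i => idx_one i
  map_mul' g h := Equiv.ext fun i => idx_mul g h i

theorem fP_apply (g : ↥HB) (i : Fin 275) : fP g i = idx g i := rfl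

theorem fP_inj : Function.Injective fP := by
  rw [← MonoidHom.ker_eq_bot_iff, eq_bot_iff]
  intro g hg
  rw [MonoidHom.mem_ker] at hg
  rw [Subgroup.mem_bot]
  apply Subtype.ext
  apply faithful_base g.1 (stab_u g) (stab_v g)
  intro r hr
  have hr' : r ∈ Set.range xs := by rw [range_xs]; exact hr
  obtain ⟨i, rfl⟩ := hr'
  have h1 : fP g i = i := by rw [hg]; rfl
  rw [fP_apply] at h1
  rw [← idx_spec, h1]

/-! ### the generators -/

theorem gen_elt (gen : Gen) (hgen : gen ∈ McL.gens) (t t' : ℕ)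
    (hact : ∀ i : Fin 275, gen.act (xl i.val) = xl (look 9 t i.val))
    (ht : pairOK 275 9 t t' = true) : permOf 275 9 t t' ∈ fP.range := by
  obtain ⟨hgood, _, hfix⟩ := McL.gensOK.2 gen hgen
  obtain ⟨g', hg'⟩ := Gen.elt gen hgood
  have hu : g' • mU = mU := by
    apply Subtype.ext
    rw [(hg' McL.anc0 McL.anc0_in.1).2 mU rfl, hfix McL.anc0 (by simp [McL.anchors])]
    rfl
  have hv : g' • mV = mV := by
    apply Subtype.ext
    rw [(hg' McL.anc1 McL.anc1_in.1).2 mV rfl, hfix McL.anc1 (by simp [McL.anchors])]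
    rfl
  have hmem : g' ∈ HB := Subgroup.mem_inf.mpr
    ⟨MulAction.mem_stabilizer_iff.mpr hu, MulAction.mem_stabilizer_iff.mpr hv⟩
  refine ⟨⟨g', hmem⟩, ?_⟩
  apply Equiv.ext
  intro i
  rw [fP_apply]
  apply idx_eq
  apply Subtype.ext
  rw [(hg' (xl i.val) (xl_in i).1).2 (xs i) rfl, hact i, xs_coe, permOf_apply ht i]

/-- the product of a list of permutations acts through the list of their tables -/
theorem acts_list : ∀ ps : List (McLA.P275 × ℕ), (∀ p ∈ ps, McLA.ActsT p.1 p.2) →
    ActsByW 275 9 (ps.map Prod.fst).prod (ps.map Prod.snd) := by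
  intro ps
  induction ps with
  | nil => intro _; exact actsByW_one 275 9
  | cons p ps ih =>
    intro h
    rw [List.map_cons, List.map_cons, List.prod_cons]
    exact actsByW_cons (h p List.mem_cons_self) (ih fun p' hp' => h p' (List.mem_cons_of_mem _ hp'))

/-- the four permutations -/
def p0 : McLA.P275 := permOf 275 9 tp0 tpi0
/-- the four permutations -/
def p1 : McLA.P275 := permOf 275 9 tp1 tpi1
/-- the four permutations -/
def p2 : McLA.P275 := permOf 275 9 tp2 tpi2
/-- the four permutations -/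
def p3 : McLA.P275 := permOf 275 9 tp3 tpi3

theorem p0_mem : p0 ∈ fP.range := gen_elt McL.g0 (by simp [McL.gens]) tp0 tpi0 act_p0 pair_p0
theorem p1_mem : p1 ∈ fP.range := gen_elt McL.g1 (by simp [McL.gens]) tp1 tpi1 act_p1 pair_p1
theorem p2_mem : p2 ∈ fP.range := gen_elt McL.g2 (by simp [McL.gens]) tp2 tpi2 act_p2 pair_p2
theorem p3_mem : p3 ∈ fP.range := gen_elt McL.g3 (by simp [McL.gens]) tp3 tpi3 act_p3 pair_p3

theorem p0_acts : McLA.ActsT p0 tp0 := McLA.actsT_permOf pair_p0
theorem p1_acts : McLA.ActsT p1 tp1 := McLA.actsT_permOf pair_p1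
theorem p2_acts : McLA.ActsT p2 tp2 := McLA.actsT_permOf pair_p2
theorem p3_acts : McLA.ActsT p3 tp3 := McLA.actsT_permOf pair_p3

/-! ### the two groups -/

theorem a_mem_range : McLA.a ∈ fP.range := by
  have h1 := acts_list [(p0, tp0), (p2, tp2), (p2, tp2)] (by
    intro p hp
    simp only [List.mem_cons, List.not_mem_nil, or_false] at hp
    rcases hp with rfl | rfl | rfl
    · exact p0_acts
    · exact p2_acts
    · exact p2_acts)
  have h2 : McLA.a = ([(p0, tp0), (p2, tp2), (p2, tp2)].map Prod.fst).prod :=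
    eq_of_wordEq 275 9 McLA.a_acts.word h1 wa_eq
  rw [h2]
  apply Subgroup.list_prod_mem
  intro x hx
  simp only [List.map_cons, List.map_nil, List.mem_cons, List.not_mem_nil, or_false] at hx
  rcases hx with rfl | rfl | rfl
  · exact p0_mem
  · exact p2_mem
  · exact p2_mem

theorem b_mem_range : McLA.b ∈ fP.range := by
  have h1 := acts_list [(p0, tp0), (p3, tp3), (p1, tp1), (p0, tp0), (p3, tp3), (p1, tp1),
    (p0, tp0), (p3, tp3), (p1, tp1), (p0, tp0), (p3, tp3), (p1, tp1)] (by
    intro p hp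
    simp only [List.mem_cons, List.not_mem_nil, or_false] at hp
    rcases hp with rfl | rfl | rfl | rfl | rfl | rfl | rfl | rfl | rfl | rfl | rfl | rfl
    · exact p0_acts
    · exact p3_acts
    · exact p1_acts
    · exact p0_acts
    · exact p3_acts
    · exact p1_acts
    · exact p0_acts
    · exact p3_acts
    · exact p1_acts
    · exact p0_acts
    · exact p3_acts
    · exact p1_acts)
  have h2 : McLA.b = ([(p0, tp0), (p3, tp3), (p1, tp1), (p0, tp0), (p3, tp3), (p1, tp1),
      (p0, tp0), (p3, tp3), (p1, tp1), (p0, tp0), (p3, tp3), (p1, tp1)].map Prod.fst).prod :=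
    eq_of_wordEq 275 9 McLA.b_acts.word h1 wb_eq
  rw [h2]
  apply Subgroup.list_prod_mem
  intro x hx
  simp only [List.map_cons, List.map_nil, List.mem_cons, List.not_mem_nil, or_false] at hx
  rcases hx with rfl | rfl | rfl | rfl | rfl | rfl | rfl | rfl | rfl | rfl | rfl | rfl
  · exact p0_mem
  · exact p3_mem
  · exact p1_mem
  · exact p0_mem
  · exact p3_mem
  · exact p1_mem
  · exact p0_mem
  · exact p3_mem
  · exact p1_mem
  · exact p0_mem
  · exact p3_mem
  · exact p1_mem

theorem range_eq : fP.range = McLA.Kab := by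
  have hle : McLA.Kab ≤ fP.range := by
    unfold McLA.Kab
    rw [Subgroup.closure_le]
    intro x hx
    rcases hx with rfl | hx
    · exact a_mem_range
    · rw [Set.mem_singleton_iff] at hx
      rw [hx]
      exact b_mem_range
  have hc : Nat.card fP.range = Nat.card McLA.Kab := by
    rw [← Nat.card_congr (MonoidHom.ofInjective fP_inj).toEquiv, hB.2, McLA.card_Kab]
  exact (Subgroup.eq_of_le_of_card_ge hle (by rw [hc])).symm

/-- the lattice group is the group on 275 points -/
noncomputable def hbEquiv : ↥HB ≃* ↥McLA.Kab :=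
  (MonoidHom.ofInjective fP_inj).trans (MulEquiv.subgroupCongr range_eq)

/-! ### the McLaughlin group of the list -/

/-- the vector `(5, 1, …, 1)` with the 5 at the extra point -/
def uu : leechLattice := -leechV

theorem uu_norm : sqNorm (uu : GolayPt → ℤ) = 48 := by
  show sqNorm (-vecV) = 48
  decide +kernel

theorem uu_dot : dotInt (uu : GolayPt → ℤ) (leechU : GolayPt → ℤ) = 24 := by
  show dotInt (-vecV) vecU = 24
  decide +kernel

theorem leechU_norm : sqNorm (leechU : GolayPt → ℤ) = 32 := by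
  show sqNorm vecU = 32
  decide +kernel

theorem leechU_mem : leechU ∈ dotSet 32 uu 0 0 (24, 0, 0) := by
  rw [mem_dotSet_zero23]
  exact ⟨leechU_norm, uu_dot⟩

/-- the stabilizer of the two vectors of the list -/
abbrev ML : Subgroup ↥Co0 := stabilizer ↥Co0 uu ⊓ stabilizer ↥Co0 leechU

theorem mem_McL_iff (g : Equiv.Perm leechLattice) :
    g ∈ Spor.McL ↔ g ∈ Co0 ∧ g leechV = leechV ∧ g leechU = leechU := by
  unfold Spor.McL Spor.Co3
  rw [Subgroup.mem_inf, Subgroup.mem_inf, MulAction.mem_stabilizer_iff,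
    MulAction.mem_stabilizer_iff, and_assoc]
  exact Iff.rfl

/-- the McLaughlin group of the list is the stabilizer of the two vectors -/
def mclEquiv : ↥Spor.McL ≃* ↥ML where
  toFun g := ⟨⟨g.1, ((mem_McL_iff g.1).mp g.2).1⟩, by
    obtain ⟨h0, h1, h2⟩ := (mem_McL_iff g.1).mp g.2
    have hv : (⟨g.1, h0⟩ : ↥Co0) • leechV = leechV := h1
    have hu : (⟨g.1, h0⟩ : ↥Co0) • leechU = leechU := h2
    refine Subgroup.mem_inf.mpr ⟨MulAction.mem_stabilizer_iff.mpr ?_,
      MulAction.mem_stabilizer_iff.mpr hu⟩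
    show (⟨g.1, h0⟩ : ↥Co0) • (-leechV) = -leechV
    rw [co0_smul_neg, hv]⟩
  invFun g := ⟨g.1.1, by
    rw [mem_McL_iff]
    have hu : g.1 • uu = uu := MulAction.mem_stabilizer_iff.mp (Subgroup.mem_inf.mp g.2).1
    have hv : g.1 • leechU = leechU := MulAction.mem_stabilizer_iff.mp (Subgroup.mem_inf.mp g.2).2
    refine ⟨g.1.2, ?_, hv⟩
    show g.1 • leechV = leechV
    have h1 : g.1 • (-leechV) = -leechV := hu
    rw [co0_smul_neg] at h1
    exact neg_injective h1⟩
  left_inv g := rfl
  right_inv g := rfl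
  map_mul' g h := rfl

theorem ml_iso : Nonempty (↥ML ≃* ↥HB) := by
  obtain ⟨h, hb⟩ := McL.exists_based uu leechU uu_norm leechU_mem
  have e := conjStab2 h uu leechU
  have h1 : h • uu = mU := Subtype.ext (by rw [hb.1]; rfl)
  have h2 : h • leechU = mV := Subtype.ext (by rw [hb.2.1]; rfl)
  rw [h1, h2] at e
  exact ⟨e⟩

/-- the outer automorphism group of the McLaughlin group has order two -/
theorem main : Nat.card (Cfsg.Out ↥Cfsg.Spor.McL) = 2 := by
  obtain ⟨e⟩ := ml_iso
  rw [out_card_congr ((mclEquiv.trans e).trans hbEquiv)]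
  exact McLA.out_card

end Cfsg.Agent.Lib.Helper28.McLB
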