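import Cfsg.Agent.Lib.Helper28.McLA

/-!
# The number of involutions of the McLaughlin group on 275 points

Every involution of the group `Kab` generated by the two permutations `a`, `b` of 275 points lies in
the table of 22275 entries, and a table entry determines the permutation.  Hence the group has at
most 22275 involutions.
-/

set_option autoImplicit false

namespace Cfsg.Agent.Lib.Helper28.McLA

open Cfsg.Agent.Lib.Helper28.BSGS Cfsg.Agent.Lib.Helper28.McLAData

/-- the group on 275 points has at most 22275 involutions -/
theorem invol_card_le : Nat.card {t : Kab // t * t = 1 ∧ t ≠ 1} ≤ 22275 := by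
  classical
  have h : ∀ t : {t : Kab // t * t = 1 ∧ t ≠ 1},
      ∃ i : Fin 22275, ActsT ((t.1 : Kab) : P275) ((IV.toList.getD i.val (0, 0, 0, 0)).2.1) := by
    intro t
    obtain ⟨e, he, hact⟩ := invol_mem t.1 t.2.1 t.2.2
    obtain ⟨n, hn, rfl⟩ := List.getElem_of_mem he
    refine ⟨⟨n, by rw [← len_IV]; exact hn⟩, ?_⟩
    rw [List.getD_eq_getElem _ _ hn]
    exact hact
  choose f hf using h
  have hinj : Function.Injective f := by
    intro t t' htt
    have h1 := hf t
    have h2 := hf t'
    rw [← htt] at h2
    exact Subtype.ext (Subtype.ext (h1.ext h2))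
  calc Nat.card {t : Kab // t * t = 1 ∧ t ≠ 1} ≤ Nat.card (Fin 22275) :=
        Nat.card_le_card_of_injective f hinj
    _ = 22275 := Nat.card_fin 22275

end Cfsg.Agent.Lib.Helper28.McLA
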