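import Cfsg.Agent.Lib.Helper28.McLBridge
import Cfsg.Agent.Lib.Helper28.McLWBData
import Cfsg.Agent.Lib.Helper12.McLWData

/-!
# S2047, piece [B]: the seven elements in the McLaughlin group of the list

The five generators `a, …, e` and the two elements `u₁, u₂ = a` are explicit permutations of the 275
points on which the group `McLA.Kab` of order `898128000` acts.  Two straight-line programs show
that the seven elements lie in `Kab` and that `a, …, e` generate `Kab`; the relators are checked
pointwise; the isomorphism of `McLBridge` carries everything to `Spor.McL`.  The orders of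
`⟨a, b⟩` and `⟨u₁, u₂⟩` enter as hypotheses here.
-/

set_option autoImplicit false
set_option maxRecDepth 100000

namespace Cfsg.Agent.Lib.Helper12.McLW.Helper28

open Cfsg.H5.TCk
open Cfsg.Agent.Lib.Helper28
open Cfsg.Agent.Lib.Helper28.BSGS
open Cfsg.Agent.Lib.Helper28.McLAData (ta tai tb)

/-! ### generalities on words -/

theorem ev_congr_of_lt {Γ : Type*} [Group Γ] (γ γ' : ℕ → Γ) (n : ℕ) (h : ∀ i < n, γ i = γ' i) :
    ∀ w : List ℕ, (∀ l ∈ w, l < 2 * n) → ev γ w = ev γ' w := by
  intro w
  induction w with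
  | nil => intro _; rfl
  | cons l w ih =>
    intro hw
    have hl : l < 2 * n := hw l List.mem_cons_self
    have hgl : gl γ l = gl γ' l := by
      unfold gl
      have : l / 2 < n := by omega
      rw [h _ this]
    show gl γ l * ev γ w = gl γ' l * ev γ' w
    rw [hgl, ih fun l' hl' => hw l' (List.mem_cons_of_mem _ hl')]

theorem exists_lift {G : Type*} [Group G] {P : Type*} [Group P] (φ : G →* P) (γ : ℕ → P) (n : ℕ)
    (h : ∀ i < n, γ i ∈ φ.range) : ∃ g : ℕ → G, ∀ i < n, φ (g i) = γ i := by
  classical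
  refine ⟨fun i => if h' : i < n then (h i h').choose else 1, fun i hi => ?_⟩
  simp only [dif_pos hi]
  exact (h i hi).choose_spec

theorem ev_eq_one_of_map {G : Type*} [Group G] {P : Type*} [Group P] (φ : G →* P)
    (hφ : Function.Injective φ) (g : ℕ → G) (γ : ℕ → P) (n : ℕ) (hg : ∀ i < n, φ (g i) = γ i)
    (r : List ℕ) (hl : ∀ l ∈ r, l < 2 * n) (h1 : ev γ r = 1) : ev g r = 1 := by
  apply hφ
  rw [map_one, Cfsg.H5.StemTC.map_ev, ev_congr_of_lt (fun i => φ (g i)) γ n hg r hl]
  exact h1

theorem closure_map_eq {G : Type*} [Group G] {P : Type*} [Group P] (φ : G →* P) (g : ℕ → G)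
    (γ : ℕ → P) (n : ℕ) (hg : ∀ i < n, φ (g i) = γ i) :
    (Subgroup.closure (Set.range fun i : Fin n => g i.val)).map φ =
      Subgroup.closure (Set.range fun i : Fin n => γ i.val) := by
  rw [MonoidHom.map_closure, ← Set.range_comp]
  have : (φ ∘ fun i : Fin n => g i.val) = fun i : Fin n => γ i.val :=
    funext fun i => hg i.val i.isLt
  rw [this]

theorem card_map_of_injective {G : Type*} [Group G] {P : Type*} [Group P] (φ : G →* P)
    (hφ : Function.Injective φ) (S : Subgroup G) : Nat.card (S.map φ) = Nat.card S :=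
  (Nat.card_congr (Subgroup.equivMapOfInjective S φ hφ).toEquiv).symm

/-- a tuple in the image of an embedding gives a tuple in the group -/
theorem exists_tuple_of_embedding {G : Type*} [Group G] {P : Type*} [Group P] (φ : G →* P)
    (hφ : Function.Injective φ) (γ υ : ℕ → P)
    (hcard : Nat.card G = 898128000)
    (hgen : Subgroup.closure (Set.range fun i : Fin 5 => γ i.val) = φ.range)
    (hυ : ∀ i < 2, υ i ∈ φ.range)
    (hG : ∀ r ∈ relsG, (∀ l ∈ r, l < 2 * 5) ∧ ev γ r = 1)
    (h168 : 168 ≤ Nat.card (Subgroup.closure (Set.range fun i : Fin 2 => γ i.val)))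
    (hU : ∀ r ∈ relsU, (∀ l ∈ r, l < 2 * 2) ∧ ev υ r = 1)
    (h40320 : 40320 ≤ Nat.card (Subgroup.closure (Set.range fun i : Fin 2 => υ i.val))) :
    ∃ g u : ℕ → G, IsMcLTuple g u := by
  have hγ : ∀ i < 5, γ i ∈ φ.range := by
    intro i hi
    rw [← hgen]
    exact Subgroup.subset_closure ⟨⟨i, hi⟩, rfl⟩
  obtain ⟨g, hg⟩ := exists_lift φ γ 5 hγ
  obtain ⟨u, hu⟩ := exists_lift φ υ 2 hυ
  have hg2 : ∀ i < 2, φ (g i) = γ i := fun i hi => hg i (by omega)
  refine ⟨g, u, hcard, ?_, ?_, ?_, ?_, ?_⟩
  · apply Subgroup.map_injective hφ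
    rw [closure_map_eq φ g γ 5 hg, hgen, ← MonoidHom.range_eq_map]
  · intro r hr
    exact ev_eq_one_of_map φ hφ g γ 5 hg r (hG r hr).1 (hG r hr).2
  · rw [← card_map_of_injective φ hφ, closure_map_eq φ g γ 2 hg2]
    exact h168
  · intro r hr
    exact ev_eq_one_of_map φ hφ u υ 2 hu r (hU r hr).1 (hU r hr).2
  · rw [← card_map_of_injective φ hφ, closure_map_eq φ u υ 2 hu]
    exact h40320

/-! ### permutations given by a list of tables -/

/-- the `i`-th generator of a list of letter tables -/
def pgen (L : List ℕ) (i : ℕ) : McLA.P275 :=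
  permOf 275 9 (L.getD (2 * i) 0) (L.getD (2 * i + 1) 0)

/-- the first `m` pairs of the list are mutually inverse tables -/
def pairsOK (L : List ℕ) (m : ℕ) : Bool :=
  (List.range m).all fun i => pairOK 275 9 (L.getD (2 * i) 0) (L.getD (2 * i + 1) 0)

theorem gl_acts {L : List ℕ} {m : ℕ} (h : pairsOK L m = true) {l : ℕ} (hl : l < 2 * m) :
    McLA.ActsT (gl (pgen L) l) (L.getD l 0) := by
  have hp : pairOK 275 9 (L.getD (2 * (l / 2)) 0) (L.getD (2 * (l / 2) + 1) 0) = true := by
    unfold pairsOK at h
    rw [List.all_eq_true] at h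
    exact h (l / 2) (List.mem_range.mpr (by omega))
  unfold gl
  by_cases h2 : l % 2 = 0
  · rw [if_pos h2]
    have e : L.getD l 0 = L.getD (2 * (l / 2)) 0 := by
      congr 1
      omega
    rw [e]
    exact McLA.actsT_permOf hp
  · rw [if_neg h2]
    have e : L.getD l 0 = L.getD (2 * (l / 2) + 1) 0 := by
      congr 1
      omega
    rw [e]
    exact McLA.actsT_permOf_inv hp

theorem acts_ev {L : List ℕ} {m : ℕ} (h : pairsOK L m = true) :
    ∀ w : List ℕ, (w.all fun l => decide (l < 2 * m)) = true →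
      ActsByW 275 9 (ev (pgen L) w) (w.map fun l => L.getD l 0) := by
  intro w
  induction w with
  | nil => intro _; exact actsByW_one 275 9
  | cons l w ih =>
    intro hw
    rw [List.all_cons, Bool.and_eq_true, decide_eq_true_eq] at hw
    rw [List.map_cons]
    exact actsByW_cons (gl_acts h hw.1) (ih hw.2)

/-- all relators are words in the first `m` generators that act trivially -/
def relsOK (L : List ℕ) (m : ℕ) (rels : List (List ℕ)) : Bool :=
  rels.all fun r => (r.all fun l => decide (l < 2 * m)) &&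
    wordId 275 9 (r.map fun l => L.getD l 0)

theorem relsOK_spec {L : List ℕ} {m : ℕ} (h : pairsOK L m = true) {rels : List (List ℕ)}
    (hr : relsOK L m rels = true) :
    ∀ r ∈ rels, (∀ l ∈ r, l < 2 * m) ∧ ev (pgen L) r = 1 := by
  intro r hmem
  unfold relsOK at hr
  rw [List.all_eq_true] at hr
  have h1 := hr r hmem
  rw [Bool.and_eq_true] at h1
  refine ⟨?_, eq_one_of_wordId 275 9 (acts_ev h r h1.1) h1.2⟩
  intro l hlr
  have h2 := h1.1
  rw [List.all_eq_true] at h2
  exact of_decide_eq_true (h2 l hlr)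

/-- the letter tables belong to elements of a subgroup containing the generators -/
theorem inK_of_gens {L : List ℕ} {m : ℕ} (h : pairsOK L m = true) (hL : L.length = 2 * m)
    (K : Subgroup McLA.P275) (hK : ∀ i < m, pgen L i ∈ K) : ∀ t ∈ L, McLA.InK K t := by
  intro t ht
  obtain ⟨l, hl, rfl⟩ := List.mem_iff_getElem.mp ht
  have hl' : l < 2 * m := by rw [← hL]; exact hl
  refine ⟨gl (pgen L) l, Cfsg.H5.StemTC.gl_mem (pgen L) K m hK l hl', ?_⟩
  have := gl_acts h hl'
  rwa [List.getD_eq_getElem _ _ hl] at this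

/-- a generator whose table belongs to an element of `K` lies in `K` -/
theorem pgen_mem {L : List ℕ} {m : ℕ} (h : pairsOK L m = true) (K : Subgroup McLA.P275)
    {i : ℕ} (hi : i < m) (hk : McLA.InK K (L.getD (2 * i) 0)) : pgen L i ∈ K := by
  obtain ⟨g, hg, hact⟩ := hk
  have hp : pairOK 275 9 (L.getD (2 * i) 0) (L.getD (2 * i + 1) 0) = true := by
    unfold pairsOK at h
    rw [List.all_eq_true] at h
    exact h i (List.mem_range.mpr hi)
  have : pgen L i = g := (McLA.actsT_permOf hp).ext hact
  rw [this]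
  exact hg

/-! ### the seven elements -/

/-- the five generators `a, …, e` on 275 points -/
def pg : ℕ → McLA.P275 := pgen ltab

/-- the two elements `u₁, u₂` on 275 points -/
def pu : ℕ → McLA.P275 := pgen ltabU

theorem pairs_ltab : pairsOK ltab 5 = true := by decide +kernel

theorem pairs_ltabU : pairsOK ltabU 2 = true := by decide +kernel

theorem relsG_ok : relsOK ltab 5 relsG = true := by decide +kernel

theorem relsU_ok : relsOK ltabU 2 relsU = true := by decide +kernel

theorem slpIn_ok : McLA.slpOK [ta, tai, tb] slpIn = true := by decide +kernel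

theorem slpIn_targets :
    ((ltab ++ ltabU).all fun t => (McLA.slpKnown [ta, tai, tb] slpIn).contains t) = true := by
  decide +kernel

theorem slpOut_ok : McLA.slpOK ltab slpOut = true := by decide +kernel

theorem slpOut_targets :
    ([ta, tb].all fun t => (McLA.slpKnown ltab slpOut).contains t) = true := by
  decide +kernel

theorem inKab_of_mem {t : ℕ} (ht : t ∈ ltab ++ ltabU) : McLA.InK McLA.Kab t := by
  have h := slpIn_targets
  rw [List.all_eq_true] at h
  exact McLA.slp_sound McLA.Kab slpIn _ McLA.known0 slpIn_ok t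
    (List.contains_iff_mem.mp (h t ht))

theorem pg_mem_Kab {i : ℕ} (hi : i < 5) : pg i ∈ McLA.Kab := by
  apply pgen_mem pairs_ltab McLA.Kab hi
  apply inKab_of_mem
  apply List.mem_append_left
  have hl : 2 * i < ltab.length := by
    show 2 * i < 10
    omega
  rw [List.getD_eq_getElem _ _ hl]
  exact List.getElem_mem hl

theorem pu_mem_Kab {i : ℕ} (hi : i < 2) : pu i ∈ McLA.Kab := by
  apply pgen_mem pairs_ltabU McLA.Kab hi
  apply inKab_of_mem
  apply List.mem_append_right
  have hl : 2 * i < ltabU.length := by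
    show 2 * i < 4
    omega
  rw [List.getD_eq_getElem _ _ hl]
  exact List.getElem_mem hl

/-- the group generated by the five elements -/
def K5 : Subgroup McLA.P275 := Subgroup.closure (Set.range fun i : Fin 5 => pg i.val)

theorem K5_le : K5 ≤ McLA.Kab := by
  unfold K5
  rw [Subgroup.closure_le]
  rintro _ ⟨i, rfl⟩
  exact pg_mem_Kab i.isLt

theorem known_K5 : ∀ t ∈ McLA.slpKnown ltab slpOut, McLA.InK K5 t := by
  apply McLA.slp_sound K5 slpOut ltab _ slpOut_ok
  apply inK_of_gens pairs_ltab rfl K5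
  intro i hi
  exact Subgroup.subset_closure ⟨⟨i, hi⟩, rfl⟩

theorem Kab_le : McLA.Kab ≤ K5 := by
  have h := slpOut_targets
  rw [List.all_eq_true] at h
  unfold McLA.Kab
  rw [Subgroup.closure_le]
  intro x hx
  rcases hx with rfl | hx
  · obtain ⟨g, hg, hact⟩ := known_K5 ta (List.contains_iff_mem.mp (h ta List.mem_cons_self))
    rw [SetLike.mem_coe, McLA.a_acts.ext hact]
    exact hg
  · rw [Set.mem_singleton_iff] at hx
    obtain ⟨g, hg, hact⟩ := known_K5 tb (List.contains_iff_mem.mp
      (h tb (List.mem_cons_of_mem _ List.mem_cons_self)))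
    rw [SetLike.mem_coe, hx, McLA.b_acts.ext hact]
    exact hg

theorem K5_eq : Subgroup.closure (Set.range fun i : Fin 5 => pg i.val) = McLA.Kab :=
  le_antisymm K5_le Kab_le

/-! ### the two small groups -/

theorem closure_pgen_two (L : List ℕ) (a a' b b' : ℕ) (rest : List ℕ)
    (hL : L = a :: a' :: b :: b' :: rest) :
    Subgroup.closure (Set.range fun i : Fin 2 => pgen L i.val) =
      genGroup 275 9 [(a, a'), (b, b')] := by
  subst hL
  unfold genGroup
  apply le_antisymm
  · rw [Subgroup.closure_le]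
    rintro _ ⟨i, rfl⟩
    apply Subgroup.subset_closure
    fin_cases i
    · exact mem_semGens 275 9 (g := (a, a')) List.mem_cons_self
    · exact mem_semGens 275 9 (g := (b, b')) (List.mem_cons_of_mem _ List.mem_cons_self)
  · rw [Subgroup.closure_le]
    intro x hx
    have hx' : x ∈ semGens 275 9 [(a, a'), (b, b')] := hx
    unfold semGens at hx'
    obtain ⟨g, hg, rfl⟩ := List.mem_map.mp hx'
    simp only [List.mem_cons, List.not_mem_nil, or_false] at hg
    rcases hg with rfl | rfl
    · exact Subgroup.subset_closure ⟨0, rfl⟩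
    · exact Subgroup.subset_closure ⟨1, rfl⟩

theorem closure_AB : Subgroup.closure (Set.range fun i : Fin 2 => pg i.val) =
    genGroup 275 9 tabsAB :=
  closure_pgen_two ltab Ta Tai Tb Tbi _ rfl

theorem closure_U : Subgroup.closure (Set.range fun i : Fin 2 => pu i.val) =
    genGroup 275 9 tabsU :=
  closure_pgen_two ltabU Tu1 Tu1i Ta Tai _ rfl

/-! ### the bridge -/

/-- the embedding of the McLaughlin group of the list into the permutations of 275 points -/
noncomputable def emb (e : ↥McLB.ML ≃* ↥McLB.HB) : ↥Cfsg.Spor.McL →* McLA.P275 :=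
  McLA.Kab.subtype.comp ((McLB.mclEquiv.trans e).trans McLB.hbEquiv).toMonoidHom

theorem emb_injective (e : ↥McLB.ML ≃* ↥McLB.HB) : Function.Injective (emb e) := by
  unfold emb
  exact (Subgroup.subtype_injective _).comp (MulEquiv.injective _)

theorem emb_range (e : ↥McLB.ML ≃* ↥McLB.HB) : (emb e).range = McLA.Kab := by
  ext x
  constructor
  · rintro ⟨g, rfl⟩
    exact (((McLB.mclEquiv.trans e).trans McLB.hbEquiv) g).2
  · intro hx
    refine ⟨((McLB.mclEquiv.trans e).trans McLB.hbEquiv).symm ⟨x, hx⟩, ?_⟩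
    show ((((McLB.mclEquiv.trans e).trans McLB.hbEquiv)
      (((McLB.mclEquiv.trans e).trans McLB.hbEquiv).symm ⟨x, hx⟩) : ↥McLA.Kab) : McLA.P275) = x
    rw [MulEquiv.apply_symm_apply]

theorem card_McL (e : ↥McLB.ML ≃* ↥McLB.HB) : Nat.card ↥Cfsg.Spor.McL = 898128000 := by
  rw [Nat.card_congr ((McLB.mclEquiv.trans e).trans McLB.hbEquiv).toEquiv]
  exact McLA.card_Kab

/-- the tuple, given the orders of the two small groups -/
theorem exists_tuple_of_cards (hAB : 168 ≤ Nat.card (genGroup 275 9 tabsAB))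
    (hU : 40320 ≤ Nat.card (genGroup 275 9 tabsU)) :
    ∃ g u : ℕ → ↥Cfsg.Spor.McL, IsMcLTuple g u := by
  obtain ⟨e⟩ := McLB.ml_iso
  apply exists_tuple_of_embedding (emb e) (emb_injective e) pg pu (card_McL e)
  · rw [emb_range]
    exact K5_eq
  · intro i hi
    rw [emb_range]
    exact pu_mem_Kab hi
  · exact relsOK_spec pairs_ltab relsG_ok
  · rw [closure_AB]
    exact hAB
  · exact relsOK_spec pairs_ltabU relsU_ok
  · rw [closure_U]
    exact hU

end Cfsg.Agent.Lib.Helper12.McLW.Helper28
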