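import Mathlib
import Cfsg.Prelude.Def_GeometricClasses
import Cfsg.Agent.Lib.Helper1.S5630CoreFF

/-!
# Even orthogonal rows: E-SUBF (helper1's skeleton v2): a finite field of non-prime order has a subfield of prime index

Wrapper of helper1's CORE-FFb `exists_prime_index_subfield` applied to the fixed field of the Frobenius map (of prime order).
-/

set_option autoImplicit false

namespace Cfsg.Agent.Lib.Helper28.OECorSUBF

open Cfsg.Agent.Lib.Helper1.S5630FF

variable {F : Type*} [Field F] [Fintype F]

/-- **E-SUBF** -/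
theorem exists_subfield_of_not_prime (hq : ¬ (Fintype.card F).Prime) :
    ∃ (F₀ : Subfield F) (r : ℕ), r.Prime ∧ Fintype.card F = Nat.card F₀ ^ r := by
  classical
  obtain ⟨p, hp⟩ := CharP.exists F
  have := hp
  have : Fact p.Prime := ⟨CharP.char_is_prime F p⟩
  obtain ⟨a, hpa, hcard⟩ := FiniteField.card F p
  let φ : F →+* F := frobenius F p
  have hF₀ : Nat.card ↥(φ.eqLocusField (RingHom.id F) : Subfield F) = p := by
    change Nat.card ↥((φ.eqLocusField (RingHom.id F) : Subfield F) : Set F) = p
    rw [Nat.card_coe_set_eq]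
    have : ((φ.eqLocusField (RingHom.id F) : Subfield F) : Set F) = {x : F | x ^ p = x} := by
      ext x
      simp only [SetLike.mem_coe, RingHom.mem_eqLocusField, RingHom.id_apply, Set.mem_ofPred_eq, φ, frobenius_def]
    rw [this]
    exact ncard_pow_eq_self p a hpa.two_le hcard
  have hne : (φ.eqLocusField (RingHom.id F) : Subfield F) ≠ ⊤ := by
    intro h
    apply hq
    have h1 : Nat.card ↥(⊤ : Subfield F) = Fintype.card F := by
      rw [Nat.card_congr (Subfield.topEquiv (K := F)).toEquiv, Nat.card_eq_fintype_card]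
    rw [h, h1] at hF₀
    rw [hF₀]
    exact hpa
  obtain ⟨F₁, r, -, hr, hc⟩ := exists_prime_index_subfield _ hne
  exact ⟨F₁, r, hr, hc⟩

end Cfsg.Agent.Lib.Helper28.OECorSUBF
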