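import Mathlib
import Cfsg.Agent.Lib.Helper28.OTDefs
import Cfsg.Agent.Lib.Helper7.OTEnd

/-!
# S5681 / S5709: END-GEO in the `Ts2` vocabulary (wrapper around helper7's `OTEnd.support_contra`)  (helper28)
-/

set_option autoImplicit false

namespace Cfsg.Agent.Lib.Helper28.OTEndW

open Matrix Module
open Cfsg.Agent.Lib.Helper3.SpT (bf)
open Cfsg.Agent.Lib.Helper13.TensSO (OrthG)
open Cfsg.Agent.Lib.Helper28.OT

variable {F : Type*} [Field F] [Fintype F] {b : ℕ} {J2 : Matrix (Fin b) (Fin b) F}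

theorem symG_of_orthG (hJ2 : OrthG J2) : Cfsg.Agent.Lib.Helper27.SpOB.SymG J2 := ⟨hJ2.symm, hJ2.nondeg⟩

/-- a totally singular line has a `Ts2` basis -/
theorem exists_ts2_of_isTSLine (hJ2 : OrthG J2) (π : Submodule F (Fin b → F))
    (hπ : Cfsg.Agent.Lib.Helper7.OTEnd.IsTSLine J2 π) :
    ∃ k1 k2 : Fin b → F, Ts2 J2 k1 k2 ∧ π = Submodule.span F {k1, k2} := by
  obtain ⟨hdim, hts⟩ := hπ
  obtain ⟨bas⟩ : Nonempty (Basis (Fin 2) F π) := ⟨Module.finBasisOfFinrankEq F π hdim⟩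
  refine ⟨(bas 0 : Fin b → F), (bas 1 : Fin b → F), ⟨?_, hts _ (bas 0).2 _ (bas 0).2, hts _ (bas 0).2 _ (bas 1).2,
    hts _ (bas 1).2 _ (bas 1).2⟩, ?_⟩
  · intro c1 c2 h
    have hli := bas.linearIndependent
    rw [Fintype.linearIndependent_iff] at hli
    have h' : ∑ i : Fin 2, (![c1, c2] i) • bas i = 0 := by
      apply Subtype.ext
      rw [Fin.sum_univ_two]
      simpa using h
    have h0 := hli ![c1, c2] h'
    exact ⟨by simpa using h0 0, by simpa using h0 1⟩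
  · apply le_antisymm
    · intro x hx
      have hx' := bas.sum_repr ⟨x, hx⟩
      rw [Fin.sum_univ_two] at hx'
      have hx'' : x = bas.repr ⟨x, hx⟩ 0 • (bas 0 : Fin b → F) + bas.repr ⟨x, hx⟩ 1 • (bas 1 : Fin b → F) := by
        have := congrArg Subtype.val hx'
        simpa using this.symm
      rw [hx'']
      exact Submodule.add_mem _ (Submodule.smul_mem _ _ (Submodule.subset_span (by simp)))
        (Submodule.smul_mem _ _ (Submodule.subset_span (by simp)))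
    · rw [Submodule.span_le]
      rintro x (rfl | rfl)
      · exact (bas 0).2
      · exact (bas 1).2

/-- END-GEO in the `Ts2` vocabulary -/
theorem end_contra (hJ2 : OrthG J2) (h2 : (2 : F) ≠ 0) (hb : 5 ≤ b) (W' : Submodule F (Fin b → F))
    (h : ∀ k1 k2 : Fin b → F, Ts2 J2 k1 k2 → finrank F ↥(W' ⊔ Submodule.span F {k1, k2}) = 4)
    (hW2 : finrank F W' = 2 → ∀ x ∈ W', ∀ y ∈ W', bf J2 x y = 0) : False := by
  refine Cfsg.Agent.Lib.Helper7.OTEnd.support_contra h2 (symG_of_orthG hJ2) hb W' ?_ hW2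
  intro π hπ
  obtain ⟨k1, k2, hk, rfl⟩ := exists_ts2_of_isTSLine hJ2 π hπ
  exact h k1 k2 hk

/-- EXISTS-TS2 -/
theorem exists_ts2 (hJ2 : OrthG J2) (h2 : (2 : F) ≠ 0) (hb : 5 ≤ b) : ∃ k1 k2 : Fin b → F, Ts2 J2 k1 k2 := by
  obtain ⟨k₀, hk₀0, hk₀⟩ := Cfsg.Agent.Lib.Helper1.S5666BGEO.exists_singular (symG_of_orthG hJ2) (by omega : 3 ≤ b)
  obtain ⟨π₀, hπ₀, -⟩ := Cfsg.Agent.Lib.Helper7.OTEnd.exists_tsline_through h2 (symG_of_orthG hJ2) hb k₀ hk₀0 hk₀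
  obtain ⟨k1, k2, hk, -⟩ := exists_ts2_of_isTSLine hJ2 π₀ hπ₀
  exact ⟨k1, k2, hk⟩

end Cfsg.Agent.Lib.Helper28.OTEndW
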