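import Mathlib
import Cfsg.Agent.Lib.Helper28.OTDefs
import Cfsg.Agent.Lib.Helper28.OTExitDefs
import Cfsg.Agent.Lib.Helper22.OTRootB
import Cfsg.Agent.Lib.Helper16.OTRootC
import Cfsg.Agent.Lib.Helper9.OTX1
import Cfsg.Agent.Lib.Helper22.OTX2
import Cfsg.Agent.Lib.Helper17.OTT2a
import Cfsg.Agent.Lib.Helper18.OTT2bB

/-!
# S5681 / S5709 EXIT, step T2 : under (B0s) the stabiliser in `M` of `L = U ⊗ π` lies in `N0`  (helper28, assembly)

Pieces: X1 (helper9: the elements `1 ⊗ ρ_{k,d}`), X2 (helper22: calculus of `Q_L`, `Z_L`), T2a (helper17), T2b (helper18).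
-/

set_option autoImplicit false
set_option linter.unusedSectionVars false
set_option linter.unusedVariables false

namespace Cfsg.Agent.Lib.Helper28.OTT2

open Matrix Module
open Cfsg.Agent.Lib.Helper16.Tens Cfsg.Agent.Lib.Helper10.TensFund
open Cfsg.Agent.Lib.Helper3.SpT (bf E adj uni Over)
open Cfsg.Agent.Lib.Helper13.TensSO (OrthG IsoG)
open Cfsg.Agent.Lib.Helper28.OT Cfsg.Agent.Lib.Helper28.OTX
open Cfsg.Agent.Lib.Helper16.OTRootC (oneK oneK_val oneK_mem_IsoG rho oneK_rho Om_le_IsoG)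
open Cfsg.Agent.Lib.Helper22.OTRootB (Rg_conj yL_mem_kron bf_span_pair)
open Cfsg.Agent.Lib.Helper9.OTX1 (oneK_mem_kron rhoW_mem_IsoG oneK_rhoW_mem_Om oneK_rhoW_InQ Rg_oneK_sub_one)
open Cfsg.Agent.Lib.Helper22.OTX2 (InQ_conj InQ_comm)
open Cfsg.Agent.Lib.Helper17.OTT2a (t2a)
open Cfsg.Agent.Lib.Helper18.OTT2bB (t2b)
open scoped Kronecker

variable {F : Type*} [Field F] [Fintype F] {a b : ℕ}
variable {J1 : Matrix (Fin a) (Fin a) F} {J2 : Matrix (Fin b) (Fin b) F}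
variable {Q : QuadraticForm F (Fin a × Fin b → F)}
variable {M : Subgroup (GL (Fin a × Fin b) F)}
variable {k1 k2 : Fin b → F}

local notation "K" => Cfsg.Geo.kroneckerSubgroup a b F
local notation "V" => (Fin a × Fin b → F)

theorem stab_le_kron (hS : SetupO J1 J2 Q) (hpar : Odd a ∨ Odd b) (ha : 1 ≤ a) (hb : 5 ≤ b) (hM : Over Q M) (h : Ts2 J2 k1 k2)
    (hB : B0s J1 J2 M k1 k2) (m : GL (Fin a × Fin b) F) (hmM : m ∈ M)
    (hmL : img m (Lp (a := a) k1 k2) = Lp (a := a) k1 k2) : m ∈ K := by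
  have hMI : M ≤ IsoG (J1 ⊗ₖ J2) := hM.le_Om.trans (Om_le_IsoG hS)
  have hmI := hMI hmM
  have key : ∀ (k d : Fin b → F) (hk : k ∈ Submodule.span F {k1, k2}) (hd : d ∈ piPerp J2 k1 k2) (hk' : bf J2 k k = 0)
      (hkd : bf J2 k d = 0), ∃ r' : GL (Fin b) F,
        m * oneK (a := a) (rhoW hS.h2 hS.two k d hk' hkd) * m⁻¹ = oneK (a := a) r' := by
    intro k d hk hd hk' hkd
    have hρM : oneK (a := a) (rhoW hS.h2 hS.two k d hk' hkd) ∈ M :=
      hM.kron_mem _ (oneK_mem_kron _) (oneK_rhoW_mem_Om hS hb k d hk' hkd)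
    have hgM : m * oneK (a := a) (rhoW hS.h2 hS.two k d hk' hkd) * m⁻¹ ∈ M :=
      M.mul_mem (M.mul_mem hmM hρM) (M.inv_mem hmM)
    have hgQ : InQ J2 k1 k2 (m * oneK (a := a) (rhoW hS.h2 hS.two k d hk' hkd) * m⁻¹) :=
      InQ_conj hS.h1 hS.h2 h m hmI hmL (oneK_rhoW_InQ hS.h2 hS.two h hk hd hk' hkd)
    obtain ⟨d1, d2, hd1, hd2, hd1p, hd2p, hZ⟩ := t2a hS hb h _ hgQ (by
      intro k' d' hk2 hd2 hk2' hkd2
      have hρ'M : oneK (a := a) (rhoW hS.h2 hS.two k' d' hk2' hkd2) ∈ M :=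
        hM.kron_mem _ (oneK_mem_kron _) (oneK_rhoW_mem_Om hS hb k' d' hk2' hkd2)
      have hcM := M.mul_mem (M.mul_mem (M.mul_mem hgM hρ'M) (M.inv_mem hgM)) (M.inv_mem hρ'M)
      have hcZ := InQ_comm hS.h2 h hgQ (oneK_rhoW_InQ (a := a) hS.h2 hS.two h hk2 hd2 hk2' hkd2)
      have := hB _ hcM 1 (Subgroup.one_mem _) (Subgroup.one_mem _) (by rw [inv_one, mul_one]; exact hcZ)
      rw [inv_one, mul_one] at this
      exact this)
    have hrI : oneK (a := a) (rhoW hS.h2 hS.two k1 d1 h.h11 hd1 * rhoW hS.h2 hS.two k2 d2 h.h22 hd2) ∈ IsoG (J1 ⊗ₖ J2) :=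
      oneK_mem_IsoG _ (Subgroup.mul_mem _ (rhoW_mem_IsoG hS.h2 hS.two _ _ _ _) (rhoW_mem_IsoG hS.h2 hS.two _ _ _ _))
    obtain ⟨c, hc⟩ := hB _ hgM _ (oneK_mem_kron _) hrI hZ
    refine ⟨rho hS.h2 h c * (rhoW hS.h2 hS.two k1 d1 h.h11 hd1 * rhoW hS.h2 hS.two k2 d2 h.h22 hd2), ?_⟩
    rw [map_mul, oneK_rho]
    have e : m * oneK (a := a) (rhoW hS.h2 hS.two k d hk' hkd) * m⁻¹ *
        (oneK (a := a) (rhoW hS.h2 hS.two k1 d1 h.h11 hd1 * rhoW hS.h2 hS.two k2 d2 h.h22 hd2))⁻¹ = yL (a := a) hS.h2 h c :=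
      Units.ext (by rw [hc, yL_val])
    rw [← e, inv_mul_cancel_right]
  have hX : ∀ k d : Fin b → F, k ∈ Submodule.span F {k1, k2} → d ∈ piPerp J2 k1 k2 →
      ∃ X' : Submodule F (Fin b → F), img m (tW (a := a) (Rg (SgN J2 k d))) = tW (a := a) X' := by
    intro k d hk hd
    have hk' : bf J2 k k = 0 := bf_span_pair hS.h2 h hk hk
    have hkd : bf J2 k d = 0 := by
      obtain ⟨c1, c2, rfl⟩ := Submodule.mem_span_pair.mp hk
      rw [Cfsg.Agent.Lib.Helper3.SpT.bf_add_left, Cfsg.Agent.Lib.Helper3.SpT.bf_smul_left,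
        Cfsg.Agent.Lib.Helper3.SpT.bf_smul_left, hS.h2.symm k1 d, hS.h2.symm k2 d, hd.1, hd.2]
      simp
    obtain ⟨r', hr'⟩ := key k d hk hd hk' hkd
    refine ⟨Rg ((r' : Matrix (Fin b) (Fin b) F) - 1), ?_⟩
    have e1 := Rg_oneK_sub_one (a := a) (rhoW hS.h2 hS.two k d hk' hkd)
    rw [rhoW_val, add_sub_cancel_left] at e1
    rw [← e1, ← Rg_oneK_sub_one r', ← hr']
    have e2 : ((m * oneK (a := a) (rhoW hS.h2 hS.two k d hk' hkd) * m⁻¹ : GL (Fin a × Fin b) F) :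
        Matrix (Fin a × Fin b) (Fin a × Fin b) F) - 1 =
        (m : Matrix (Fin a × Fin b) (Fin a × Fin b) F) *
          (((oneK (a := a) (rhoW hS.h2 hS.two k d hk' hkd) : GL (Fin a × Fin b) F) :
            Matrix (Fin a × Fin b) (Fin a × Fin b) F) - 1) *
          ((m⁻¹ : GL (Fin a × Fin b) F) : Matrix (Fin a × Fin b) (Fin a × Fin b) F) := by
      rw [Units.val_mul, Units.val_mul, mul_sub, sub_mul, mul_one, ← Units.val_mul m m⁻¹, mul_inv_cancel, Units.val_one]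
    rw [e2, Rg_conj]
  obtain ⟨l, hlK, hlI, hZ⟩ := t2b hS hpar ha hb h m hmI hmL hX
  obtain ⟨c, hc⟩ := hB m hmM l hlK hlI hZ
  have e : m * l⁻¹ = yL (a := a) hS.h2 h c := Units.ext (by rw [hc, yL_val])
  have : m = yL (a := a) hS.h2 h c * l := by rw [← e, inv_mul_cancel_right]
  rw [this]
  exact Subgroup.mul_mem _ (yL_mem_kron hS.h2 h c) hlK

end Cfsg.Agent.Lib.Helper28.OTT2
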