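import Mathlib
import Cfsg.Agent.Lib.Helper28.OTDefs
import Cfsg.Agent.Lib.Helper28.OTExitDefs
import Cfsg.Agent.Lib.Helper28.OTT2
import Cfsg.Agent.Lib.Helper18.OTTrans
import Cfsg.Agent.Lib.Helper3.OTT4
import Cfsg.Agent.Lib.Helper12.OTT3

/-!
# S5681 / S5709 : the EXIT - if `HypA` fails then `Ω ≤ M`  (helper28, assembly)

`¬ HypA` gives `m ∈ M \ N0` stabilising a standard `L = U ⊗ π` (helper18 `exists_stab_of_not_hypA`); under (B0s) this is impossible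
(T2, `OTT2.stab_le_kron`); if (B0s) fails, all long root elements lie in `M` (T3, helper12) and then `Ω ≤ M` (T4, helper3).
-/

set_option autoImplicit false
set_option linter.unusedSectionVars false
set_option linter.unusedVariables false

namespace Cfsg.Agent.Lib.Helper28.OTExit

open Matrix Module
open Cfsg.Agent.Lib.Helper16.Tens Cfsg.Agent.Lib.Helper10.TensFund
open Cfsg.Agent.Lib.Helper3.SpT (bf E adj uni Over)
open Cfsg.Agent.Lib.Helper13.TensSO (OrthG IsoG)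
open Cfsg.Agent.Lib.Helper28.OT Cfsg.Agent.Lib.Helper28.OTX
open Cfsg.Agent.Lib.Helper28.OTT2 (stab_le_kron)
open scoped Kronecker

variable {F : Type*} [Field F] [Fintype F] {a b : ℕ}
variable {J1 : Matrix (Fin a) (Fin a) F} {J2 : Matrix (Fin b) (Fin b) F}
variable {Q : QuadraticForm F (Fin a × Fin b → F)}
variable {M : Subgroup (GL (Fin a × Fin b) F)}

theorem setupO_bridge (hS : SetupO J1 J2 Q) : Cfsg.Agent.Lib.Helper3.OTT.SetupO J1 J2 Q :=
  ⟨⟨hS.h1.symm, hS.h1.nondeg⟩, ⟨hS.h2.symm, hS.h2.nondeg⟩, hS.polar, hS.two⟩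

theorem exit_of_not_hypA (hS : SetupO J1 J2 Q) (hao : Odd a) (ha : 3 ≤ a) (hb : 5 ≤ b)
    (hex : ¬ (Fintype.card F = 3 ∧ a = 3)) (hM : Over Q M) (hA : ¬ HypA J2 M) :
    Cfsg.Geo.omegaGL (⇑Q) ≤ M := by
  obtain ⟨k1, k2, h, m, hmM, hmL, hmK⟩ := Cfsg.Agent.Lib.Helper18.OTTrans.exists_stab_of_not_hypA hS hb hM hA
  by_cases hB : B0s J1 J2 M k1 k2
  · exact absurd (stab_le_kron hS (Or.inl hao) (by omega) hb hM h hB m hmM hmL) hmK
  · exact Cfsg.Agent.Lib.Helper3.OTT.T4 (setupO_bridge hS) (by omega) hb M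
      (Cfsg.Agent.Lib.Helper12.OTT3.t3 hS hao ha hb hex hM h hB)

theorem exit_of_not_hypA_four (hS : SetupO J1 J2 Q) (ha : a = 4) (hU : ¬ ∃ u1 u2 : Fin a → F, Ts2 J1 u1 u2) (hbo : Odd b)
    (hb : 5 ≤ b) (hM : Over Q M) (hA : ¬ HypA J2 M) :
    Cfsg.Geo.omegaGL (⇑Q) ≤ M := by
  obtain ⟨k1, k2, h, m, hmM, hmL, hmK⟩ := Cfsg.Agent.Lib.Helper18.OTTrans.exists_stab_of_not_hypA hS hb hM hA
  by_cases hB : B0s J1 J2 M k1 k2
  · exact absurd (stab_le_kron hS (Or.inr hbo) (by omega) hb hM h hB m hmM hmL) hmK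
  · exact Cfsg.Agent.Lib.Helper3.OTT.T4 (setupO_bridge hS) (by omega) hb M
      (Cfsg.Agent.Lib.Helper12.OTT3.t3_four hS ha hU hbo hb hM h hB)

end Cfsg.Agent.Lib.Helper28.OTExit
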