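import Mathlib
import Cfsg.Agent.Lib.Helper28.OTDefs
import Cfsg.Agent.Lib.Helper2.OTNP
import Cfsg.Agent.Lib.Helper8.OTRootA
import Cfsg.Agent.Lib.Helper22.OTRootB
import Cfsg.Agent.Lib.Helper16.OTRootC
import Cfsg.Agent.Lib.Helper14.OTQP
import Cfsg.Agent.Lib.Helper1.OTINV
import Cfsg.Agent.Lib.Helper7.OTEndGeo

/-!
# S5681 / S5709 : T1 - under `HypE1`, an overgroup `M` of `N0 ⊓ Ω` inside `Ω` lies in `N0`  (helper28, assembly)

Pieces: NP (helper2, Sylow trick), ROOT-A (helper8), ROOT-B + END-TS (helper22), ROOT-C (helper16), QP (helper14, quadratic pairs + Dickson),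
INV (helper1), END-GEO (helper7).
-/

set_option autoImplicit false
set_option linter.unusedSectionVars false
set_option linter.unusedVariables false

namespace Cfsg.Agent.Lib.Helper28.OTT1

open Matrix Module
open Cfsg.Agent.Lib.Helper16.Tens Cfsg.Agent.Lib.Helper10.TensFund
open Cfsg.Agent.Lib.Helper3.SpT (bf E adj uni Over)
open Cfsg.Agent.Lib.Helper13.TensSO (OrthG IsoG)
open Cfsg.Agent.Lib.Helper28.OT
open Cfsg.Agent.Lib.Helper2.OTNP (not_pgroup)
open Cfsg.Agent.Lib.Helper8.OTRootA (finrank_tW tW_le_tW_iff tW_inf exists_supp)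
open Cfsg.Agent.Lib.Helper22.OTRootB (finrank_Lp Rg_nL yL_mem_kron Lp_ts Rg_conj img_ts ts_of_tW_ts)
open Cfsg.Agent.Lib.Helper16.OTRootC (yL_mem_Om Om_le_IsoG)
open Cfsg.Agent.Lib.Helper14.OTQP (qp_invol qp_central)
open Cfsg.Agent.Lib.Helper1.OTINV (inv_struct)
open Cfsg.Agent.Lib.Helper7.OTEndGeo (end_contra)
open scoped Kronecker

variable {F : Type*} [Field F] [Fintype F] {a b : ℕ}
variable {J1 : Matrix (Fin a) (Fin a) F} {J2 : Matrix (Fin b) (Fin b) F}
variable {Q : QuadraticForm F (Fin a × Fin b → F)}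
variable {M : Subgroup (GL (Fin a × Fin b) F)}

local notation "K" => Cfsg.Geo.kroneckerSubgroup a b F
local notation "V" => (Fin a × Fin b → F)

theorem conj_val (g : GL (Fin a × Fin b) F) (y0 : GL (Fin a × Fin b) F) (n0 : Matrix (Fin a × Fin b) (Fin a × Fin b) F)
    (h0 : (y0 : Matrix (Fin a × Fin b) (Fin a × Fin b) F) = 1 + n0) :
    ((g * y0 * g⁻¹ : GL (Fin a × Fin b) F) : Matrix (Fin a × Fin b) (Fin a × Fin b) F) =
      1 + (g : Matrix (Fin a × Fin b) (Fin a × Fin b) F) * n0 * ((g⁻¹ : GL (Fin a × Fin b) F) : Matrix (Fin a × Fin b) (Fin a × Fin b) F) := by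
  rw [Units.val_mul, Units.val_mul, h0, mul_add, add_mul, mul_one, ← Units.val_mul, mul_inv_cancel, Units.val_one]

theorem conj_sq (g : GL (Fin a × Fin b) F) (n0 : Matrix (Fin a × Fin b) (Fin a × Fin b) F) (h0 : n0 * n0 = 0) :
    ((g : Matrix (Fin a × Fin b) (Fin a × Fin b) F) * n0 * ((g⁻¹ : GL (Fin a × Fin b) F) : Matrix (Fin a × Fin b) (Fin a × Fin b) F)) *
      ((g : Matrix (Fin a × Fin b) (Fin a × Fin b) F) * n0 * ((g⁻¹ : GL (Fin a × Fin b) F) : Matrix (Fin a × Fin b) (Fin a × Fin b) F)) = 0 := by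
  have h1 : ((g⁻¹ : GL (Fin a × Fin b) F) : Matrix (Fin a × Fin b) (Fin a × Fin b) F) * (g : Matrix (Fin a × Fin b) (Fin a × Fin b) F) = 1 := by
    rw [← Units.val_mul, inv_mul_cancel, Units.val_one]
  calc _ = (g : Matrix (Fin a × Fin b) (Fin a × Fin b) F) * n0 *
        (((g⁻¹ : GL (Fin a × Fin b) F) : Matrix (Fin a × Fin b) (Fin a × Fin b) F) * (g : Matrix (Fin a × Fin b) (Fin a × Fin b) F)) * n0 *
        ((g⁻¹ : GL (Fin a × Fin b) F) : Matrix (Fin a × Fin b) (Fin a × Fin b) F) := by simp only [mul_assoc]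
    _ = 0 := by rw [h1, mul_one, mul_assoc (g : Matrix (Fin a × Fin b) (Fin a × Fin b) F), h0]; simp

/-- **T1**: under `HypE1`, `M ≤ N0`. -/
theorem le_kron_of_hypE1 (p : ℕ) [Fact p.Prime] [CharP F p] (hS : SetupO J1 J2 Q) (hpar : Odd a ∨ Odd b) (hb : 5 ≤ b) (ha : 1 ≤ a)
    (hts : ∃ k1 k2 : Fin b → F, Ts2 J2 k1 k2) (hM : Over Q M) (hE1 : HypE1 J2 M) : M ≤ K := by
  have hp2 : p ≠ 2 := by
    intro h
    apply hS.two
    have := CharP.cast_eq_zero F p
    rw [h] at this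
    exact_mod_cast this
  by_contra hcon
  obtain ⟨g, hgM, hgK⟩ := SetLike.not_le_iff_exists.mp hcon
  obtain ⟨k10, k20, h0⟩ := hts
  -- the nonstandard root element
  have hy0M : yL (a := a) hS.h2 h0 1 ∈ M := hM.kron_mem _ (yL_mem_kron hS.h2 h0 1) (yL_mem_Om hS hb h0 1)
  set y0 : GL (Fin a × Fin b) F := yL (a := a) hS.h2 h0 1 with hy0
  set y' : GL (Fin a × Fin b) F := g * y0 * g⁻¹ with hy'
  have hy'M : y' ∈ M := M.mul_mem (M.mul_mem hgM hy0M) (M.inv_mem hgM)
  have hMI : M ≤ IsoG (J1 ⊗ₖ J2) := hM.le_Om.trans (Om_le_IsoG hS)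
  set n0 : Matrix (Fin a × Fin b) (Fin a × Fin b) F := (1 : F) • nL (a := a) J2 k10 k20 with hn0
  have hn0sq : n0 * n0 = 0 := smul_nL_sq hS.h2 h0 1
  set n' : Matrix (Fin a × Fin b) (Fin a × Fin b) F :=
    (g : Matrix (Fin a × Fin b) (Fin a × Fin b) F) * n0 * ((g⁻¹ : GL (Fin a × Fin b) F) : Matrix (Fin a × Fin b) (Fin a × Fin b) F) with hn'
  have hy'val : (y' : Matrix (Fin a × Fin b) (Fin a × Fin b) F) = 1 + n' := conj_val g y0 n0 (yL_val hS.h2 h0 1)
  have hn'sq : n' * n' = 0 := conj_sq g n0 hn0sq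
  set L' : Submodule F V := img g (Lp (a := a) k10 k20) with hL'
  have hRn' : Rg n' = L' := by rw [hn', Rg_conj, hn0, Rg_nL hS.h2 h0 1 one_ne_zero]
  have hL'dim : finrank F L' = 2 * a := by rw [hL', finrank_img, finrank_Lp hS.h2 h0]
  have hL'ts : ∀ x ∈ L', ∀ y ∈ L', bf (J1 ⊗ₖ J2) x y = 0 := img_ts g (hMI hgM) _ (Lp_ts hS.h1 hS.h2 h0)
  -- the E1 consequences
  have hfix2 : ∀ h ∈ M, h⁻¹ * y' * h ∈ K → g⁻¹ * h ∈ K := by
    intro h hhM hh
    apply hE1 (g⁻¹ * h) (M.mul_mem (M.inv_mem hgM) hhM) k10 k20 1 y0 h0 one_ne_zero (yL_val hS.h2 h0 1)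
    have : (g⁻¹ * h)⁻¹ * y0 * (g⁻¹ * h) = h⁻¹ * y' * h := by
      rw [hy']; group
    rw [this]
    exact hh
  have hkey : ∀ k1 k2 : Fin b → F, ∀ h : Ts2 J2 k1 k2,
      ¬ IsPGroup p (Subgroup.closure ({yL (a := a) hS.h2 h 1, y'} : Set (GL (Fin a × Fin b) F))) := by
    intro k1 k2 h
    refine not_pgroup p M K (yL (a := a) hS.h2 h 1) y' g
      (hM.kron_mem _ (yL_mem_kron hS.h2 h 1) (yL_mem_Om hS hb h 1)) hy'M hgM (yL_mem_kron hS.h2 h 1) ?_ hfix2 hgK
    intro h' hh'M hh'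
    exact hE1 h' hh'M k1 k2 1 _ h one_ne_zero (yL_val hS.h2 h 1) hh'
  -- the W-support of L'
  obtain ⟨W', hW'1, hW'2⟩ := exists_supp (a := a) L'
  -- every t.s. line gives a hyperbolic 4-space
  have hall : ∀ k1 k2 : Fin b → F, Ts2 J2 k1 k2 → finrank F ↥(W' ⊔ Submodule.span F {k1, k2}) = 4 := by
    intro k1 k2 h
    set y : GL (Fin a × Fin b) F := yL (a := a) hS.h2 h 1 with hy
    have hyM : y ∈ M := hM.kron_mem _ (yL_mem_kron hS.h2 h 1) (yL_mem_Om hS hb h 1)
    set n : Matrix (Fin a × Fin b) (Fin a × Fin b) F := (1 : F) • nL (a := a) J2 k1 k2 with hn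
    have hnsq : n * n = 0 := smul_nL_sq hS.h2 h 1
    have hyval : (y : Matrix (Fin a × Fin b) (Fin a × Fin b) F) = 1 + n := yL_val hS.h2 h 1
    obtain ⟨z, hzD, hzz, hz1⟩ := qp_invol p hp2 n n' hnsq hn'sq y y' hyval hy'val (hkey k1 k2 h)
    obtain ⟨hc1, hc2, hd1, hd2, hd3⟩ := qp_central hS.two n n' hnsq hn'sq y y' hyval hy'val z hzD hzz
    have hDM : Subgroup.closure ({y, y'} : Set (GL (Fin a × Fin b) F)) ≤ M := by
      rw [Subgroup.closure_le]
      rintro x (rfl | rfl)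
      · exact hyM
      · exact hy'M
    have hzM : z ∈ M := hDM hzD
    -- z commutes with y, so z ∈ N0
    have hzy : z⁻¹ * y * z = y := by
      have : (z : Matrix (Fin a × Fin b) (Fin a × Fin b) F) * (y : Matrix (Fin a × Fin b) (Fin a × Fin b) F) =
          (y : Matrix (Fin a × Fin b) (Fin a × Fin b) F) * (z : Matrix (Fin a × Fin b) (Fin a × Fin b) F) := by
        rw [hyval, mul_add, add_mul, mul_one, one_mul, hc1]
      have h2 : z * y = y * z := Units.ext (by rw [Units.val_mul, Units.val_mul, this])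
      rw [mul_assoc, ← h2, ← mul_assoc, inv_mul_cancel, one_mul]
    have hzK : z ∈ K := by
      apply hE1 z hzM k1 k2 1 y h one_ne_zero hyval
      rw [hzy]
      exact yL_mem_kron hS.h2 h 1
    have hne : Vm (z : Matrix (Fin a × Fin b) (Fin a × Fin b) F) ≠ ⊥ := by
      intro hbot
      apply hz1
      have hinj : Function.Injective (Matrix.toLin' ((z : Matrix (Fin a × Fin b) (Fin a × Fin b) F) + 1)) :=
        LinearMap.ker_eq_bot.mp hbot
      have hzz' : (z : Matrix (Fin a × Fin b) (Fin a × Fin b) F) * (z : Matrix (Fin a × Fin b) (Fin a × Fin b) F) = 1 := by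
        rw [← Units.val_mul, hzz, Units.val_one]
      have hprod : ((z : Matrix (Fin a × Fin b) (Fin a × Fin b) F) + 1) * ((z : Matrix (Fin a × Fin b) (Fin a × Fin b) F) - 1) = 0 := by
        rw [add_mul, mul_sub, mul_sub, hzz']; simp
      have hz0 : (z : Matrix (Fin a × Fin b) (Fin a × Fin b) F) - 1 = 0 := by
        apply Matrix.toLin'.injective
        apply LinearMap.ext
        intro v
        apply hinj
        rw [map_zero, LinearMap.zero_apply, map_zero, Matrix.toLin'_apply, Matrix.toLin'_apply, Matrix.mulVec_mulVec, hprod,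
          Matrix.zero_mulVec]
      exact Units.ext (by rw [Units.val_one]; exact sub_eq_zero.mp hz0)
    have hRn : Rg n = Lp (a := a) k1 k2 := by rw [hn, Rg_nL hS.h2 h 1 one_ne_zero]
    have hcomm : (z : Matrix (Fin a × Fin b) (Fin a × Fin b) F) * nL (a := a) J2 k1 k2 =
        nL (a := a) J2 k1 k2 * (z : Matrix (Fin a × Fin b) (Fin a × Fin b) F) := by
      have := hc1
      rw [hn, one_smul] at this
      exact this
    rw [hRn] at hd1 hd3
    rw [hRn'] at hd2 hd3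
    obtain ⟨W4, hW4, hk1, hk2, hV⟩ := inv_struct hS hpar hb ha h z hzK (hMI hzM) hzz hcomm hne hd1
    -- dim count: Vm z ⊓ L' has dimension 2a = dim L', so L' ≤ Vm z = U ⊗ W4
    have h4 : finrank F (Vm (z : Matrix (Fin a × Fin b) (Fin a × Fin b) F)) = a * 4 := by
      rw [hV, finrank_tW, hW4]
    have h5 : finrank F ↥(Vm (z : Matrix (Fin a × Fin b) (Fin a × Fin b) F) ⊓ L') = finrank F L' := by
      rw [hL'dim]; omega
    have h6 : Vm (z : Matrix (Fin a × Fin b) (Fin a × Fin b) F) ⊓ L' = L' :=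
      Submodule.eq_of_le_of_finrank_eq inf_le_right h5
    have h7 : L' ≤ tW (a := a) W4 := by
      rw [← hV, ← h6]
      exact inf_le_left
    have hπ : Submodule.span F {k1, k2} ≤ W4 := by
      rw [Submodule.span_le]
      rintro x (rfl | rfl)
      · exact hk1
      · exact hk2
    have hle : W' ⊔ Submodule.span F {k1, k2} ≤ W4 := sup_le (hW'2 W4 h7) hπ
    -- conversely U ⊗ W4 = Vm z ≤ U ⊗ π + L' ≤ U ⊗ (W' + π)
    have hge : W4 ≤ W' ⊔ Submodule.span F {k1, k2} := by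
      rw [← tW_le_tW_iff (a := a) ha, ← hV]
      refine hd3.trans (sup_le (inf_le_right.trans ?_) (inf_le_right.trans ?_))
      · exact tW_mono le_sup_right
      · exact hW'1.trans (tW_mono le_sup_left)
    rw [le_antisymm hle hge, hW4]
  refine end_contra hS.h2 hS.two hb W' hall ?_
  intro hW'dim
  apply ts_of_tW_ts hS.h1 hS.two ha W'
  have : L' = tW (a := a) W' := by
    apply Submodule.eq_of_le_of_finrank_eq hW'1
    rw [hL'dim, finrank_tW, hW'dim, mul_comm]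
  rw [← this]
  exact hL'ts

end Cfsg.Agent.Lib.Helper28.OTT1
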