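import Mathlib
import Cfsg.Agent.Lib.Helper28.OTDefs
import Cfsg.Agent.Lib.Helper28.OTT1
import Cfsg.Agent.Lib.Helper28.OTExit
import Cfsg.Agent.Lib.Helper7.OTEndGeo
import Cfsg.Agent.Lib.Helper18.OTE1A
import Cfsg.Agent.Lib.Helper25.OTStrict
import Cfsg.Agent.Lib.Helper21.OTBridge
import Cfsg.Agent.Lib.Helper22.OTBridgeS
import Cfsg.Agent.Lib.Helper18.TensOmegaBridge

/-!
# S5681 / S5709 : `(O_a ⊗ O_b) ∩ Ω` is maximal in `Ω_{ab}(q)`, `q` odd  (helper28, final assembly)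

`main` : `N0 ⊓ Ω ≤ M ≤ Ω` ⇒ `M ≤ N0` or `Ω ≤ M`  (T1 under `HypA` via E1A; the EXIT otherwise);  `kron_maximal`;  the two frozen shapes.
-/

set_option autoImplicit false
set_option linter.unusedSectionVars false
set_option linter.unusedVariables false

namespace Cfsg.Agent.Lib.Helper28.OTMain

open Matrix Module
open Cfsg.Agent.Lib.Helper16.Tens Cfsg.Agent.Lib.Helper10.TensFund
open Cfsg.Agent.Lib.Helper3.SpT (bf E adj uni Over)
open Cfsg.Agent.Lib.Helper13.TensSO (OrthG IsoG)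
open Cfsg.Agent.Lib.Helper28.OT
open Cfsg.Agent.Lib.Helper28.OTT1 (le_kron_of_hypE1)
open Cfsg.Agent.Lib.Helper28.OTExit (exit_of_not_hypA exit_of_not_hypA_four)
open Cfsg.Agent.Lib.Helper7.OTEndGeo (exists_ts2)
open Cfsg.Agent.Lib.Helper18.OTE1A (hypE1_of_hypA)
open Cfsg.Agent.Lib.Helper25.OTStrict (strict)
open Cfsg.Agent.Lib.Helper21.OTBridge (bridgeOT)
open Cfsg.Agent.Lib.Helper22.OTBridgeS (quadFormOdd_smul quadFormOdd_polar_bilinear no_ts2_of_minus two_ne_zero_of_odd)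
open scoped Kronecker

section core

variable {F : Type*} [Field F] [Fintype F] {a b : ℕ}
variable {J1 : Matrix (Fin a) (Fin a) F} {J2 : Matrix (Fin b) (Fin b) F}
variable {Q : QuadraticForm F (Fin a × Fin b → F)}
variable {M : Subgroup (GL (Fin a × Fin b) F)}

local notation "K" => Cfsg.Geo.kroneckerSubgroup a b F
local notation "V" => (Fin a × Fin b → F)

/-- **core**: `N0 ⊓ Ω ≤ M ≤ Ω` ⇒ `M ≤ N0` or `Ω ≤ M`. -/
theorem main (hS : SetupO J1 J2 Q) (hU : Odd a ∨ (a = 4 ∧ (¬ ∃ u1 u2 : Fin a → F, Ts2 J1 u1 u2) ∧ Odd b))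
    (hab : ¬ b ∣ a) (ha : 3 ≤ a) (hb : 5 ≤ b)
    (hex : ¬ (Fintype.card F = 3 ∧ a = 3)) (hM : Over Q M) : M ≤ K ∨ Cfsg.Geo.omegaGL (⇑Q) ≤ M := by
  obtain ⟨p, hp⟩ := CharP.exists F
  have := hp
  have : Fact p.Prime := ⟨CharP.char_is_prime F p⟩
  have hpar : Odd a ∨ Odd b := by
    rcases hU with h | ⟨_, _, h⟩
    · exact Or.inl h
    · exact Or.inr h
  by_cases hA : HypA J2 M
  · left
    exact le_kron_of_hypE1 p hS hpar hb (by omega) (exists_ts2 hS.h2 hS.two hb) hM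
      (hypE1_of_hypA hS hab (by omega) hb hM hA)
  · right
    rcases hU with hao | ⟨h4, hU4, hbo⟩
    · exact exit_of_not_hypA hS hao ha hb hex hM hA
    · exact exit_of_not_hypA_four hS h4 hU4 hbo hb hM hA

/-- the Kronecker subgroup is maximal in `Ω` -/
theorem kron_maximal (hS : SetupO J1 J2 Q) (hU : Odd a ∨ (a = 4 ∧ (¬ ∃ u1 u2 : Fin a → F, Ts2 J1 u1 u2) ∧ Odd b))
    (hab : ¬ b ∣ a) (ha : 3 ≤ a) (hb : 5 ≤ b)
    (hex : ¬ (Fintype.card F = 3 ∧ a = 3)) :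
    Cfsg.Geo.IsMaximalIn (Cfsg.Geo.omegaGL (⇑Q)) (K ⊓ Cfsg.Geo.omegaGL (⇑Q)) := by
  refine ⟨lt_of_le_of_ne inf_le_right ?_, ?_⟩
  · intro h
    apply strict hS ha hb
    rw [← h]
    exact inf_le_left
  · intro M hM1 hM2
    have hM : Over Q M := ⟨hM2, fun g hgK hgO => hM1 ⟨hgK, hgO⟩⟩
    rcases main hS hU hab ha hb hex hM with h | h
    · left
      exact le_antisymm (le_inf h hM2) hM1
    · right
      exact le_antisymm hM2 h

end core

/-- the frozen shape of S5681 -/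
theorem S5681_final {F : Type*} [Field F] [Fintype F] (hodd : Odd (Fintype.card F)) (m : ℕ) (hm : 6 ≤ m) (n₁ n₂ : ℕ)
    (h1 : 3 ≤ n₁) (h12 : n₁ < n₂) (hex : ¬ (Fintype.card F = 3 ∧ n₁ = 3))
    (e : (Unit ⊕ (Fin m ⊕ Fin m)) ≃ Fin n₁ × Fin n₂) (P : Matrix.GeneralLinearGroup (Unit ⊕ (Fin m ⊕ Fin m)) F)
    (f₁ : (Fin n₁ → F) → (Fin n₁ → F) → F) (f₂ : (Fin n₂ → F) → (Fin n₂ → F) → F)
    (hf₁ : Cfsg.Geo.IsSymmetricForm f₁) (hf₂ : Cfsg.Geo.IsSymmetricForm f₂)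
    (hT : Cfsg.Geo.IsTensorFormStructure id (QuadraticMap.polar (Cfsg.quadFormOdd m F)) f₁ f₂ e P) :
    Cfsg.Geo.IsMaximalIn (Cfsg.Geo.omegaGL (Cfsg.quadFormOdd m F))
      (Cfsg.Geo.tensorProductSubgroup n₁ n₂ e P ⊓ Cfsg.Geo.omegaGL (Cfsg.quadFormOdd m F)) := by
  have hcard : n₁ * n₂ = 2 * m + 1 := by
    have := Fintype.card_congr e
    simp [Fintype.card_sum, Fintype.card_prod] at this
    omega
  have ho1 : Odd n₁ := by
    rcases Nat.even_or_odd n₁ with h | h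
    · exfalso
      have : Even (n₁ * n₂) := h.mul_right n₂
      rw [hcard] at this
      exact (Nat.not_even_iff_odd.mpr ⟨m, rfl⟩) this
    · exact h
  have ho2 : Odd n₂ := by
    rcases Nat.even_or_odd n₂ with h | h
    · exfalso
      have : Even (n₁ * n₂) := h.mul_left n₁
      rw [hcard] at this
      exact (Nat.not_even_iff_odd.mpr ⟨m, rfl⟩) this
    · exact h
  have hb : 5 ≤ n₂ := by
    obtain ⟨k, hk⟩ := ho2
    omega
  refine bridgeOT _ (quadFormOdd_smul m) (quadFormOdd_polar_bilinear m) (two_ne_zero_of_odd hodd) n₁ n₂ e P f₁ f₂ hf₁ hf₂ hT ?_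
  intro c hc Q' hS
  exact kron_maximal hS (Or.inl ho1) (fun hd => by
    have := Nat.le_of_dvd (by omega) hd
    omega) h1 hb hex

/-- the frozen shape of S5709 -/
theorem S5709_final {F : Type*} [Field F] [Fintype F] {n : ℕ} (hn : 13 ≤ n) (heven : Even n) (Q : (Fin n → F) → F)
    (hQ : Cfsg.Geo.IsNondegenerateQuadraticForm Q) (hminus : ¬ Cfsg.Geo.IsPlusTypeOn Q ⊤) (hodd : Odd (Fintype.card F))
    (n₁ n₂ : ℕ) (h1 : 3 ≤ n₁) (h1o : Odd n₁) (h2 : 4 ≤ n₂) (h2e : Even n₂) (hex : ¬ (Fintype.card F = 3 ∧ n₁ = 3))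
    (e : (Fin n) ≃ Fin n₁ × Fin n₂) (P : Matrix.GeneralLinearGroup (Fin n) F)
    (f₁ : (Fin n₁ → F) → (Fin n₁ → F) → F) (f₂ : (Fin n₂ → F) → (Fin n₂ → F) → F)
    (hf₁ : Cfsg.Geo.IsSymmetricForm f₁) (hf₂ : Cfsg.Geo.IsSymmetricForm f₂)
    (hf₂m : ¬ Cfsg.Geo.IsPlusTypeOn (fun v : Fin n₂ → F => f₂ v v) ⊤)
    (hT : Cfsg.Geo.IsTensorFormStructure id (QuadraticMap.polar Q) f₁ f₂ e P) :
    Cfsg.Geo.IsMaximalIn (Cfsg.Geo.omegaGL Q) (Cfsg.Geo.tensorProductSubgroup n₁ n₂ e P ⊓ Cfsg.Geo.omegaGL Q) := by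
  have hcard : n₁ * n₂ = n := by
    have := Fintype.card_congr e
    simpa [Fintype.card_prod] using this.symm
  have h2F := two_ne_zero_of_odd hodd
  by_cases h6 : 6 ≤ n₂
  · -- case A: a = n₁ odd, b = n₂ ≥ 6 even
    refine bridgeOT Q hQ.smul hQ.polar_bilinear h2F n₁ n₂ e P f₁ f₂ hf₁ hf₂ hT ?_
    intro c hc Q' hS
    refine kron_maximal hS (Or.inl h1o) (fun hd => ?_) h1 (by omega) hex
    have : Even n₁ := by
      obtain ⟨k, hk⟩ := hd
      rw [hk]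
      exact h2e.mul_right k
    exact (Nat.not_even_iff_odd.mpr h1o) this
  · -- case B: n₂ = 4, swap the factors: a = 4 (minus type), b = n₁ ≥ 5 odd
    have h4 : n₂ = 4 := by
      obtain ⟨j, hj⟩ := h2e
      omega
    subst h4
    have h5 : 5 ≤ n₁ := by
      obtain ⟨i, hi⟩ := h1o
      omega
    rw [Cfsg.Agent.Lib.Helper18.TensOmegaBridge.tensorProductSubgroup_swap]
    refine bridgeOT Q hQ.smul hQ.polar_bilinear h2F 4 n₁ _ P f₂ f₁ hf₂ hf₁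
      (Cfsg.Agent.Lib.Helper18.TensOmegaBridge.isTensorFormStructure_swap _ f₁ f₂ e P hT) ?_
    intro c hc Q' hS
    refine kron_maximal hS (Or.inr ⟨rfl, no_ts2_of_minus f₂ hf₂ hf₂m c hc, h1o⟩) (fun hd => ?_) (by omega) h5
      (fun h => by omega)
    have := Nat.le_of_dvd (by omega) hd
    omega

end Cfsg.Agent.Lib.Helper28.OTMain
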