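import Cfsg.Agent.Lib.Helper3.Dodecad
import Cfsg.Agent.Lib.Helper28.SixSets
import Cfsg.Agent.Lib.Helper28.OctadReg
import Cfsg.Agent.Lib.Helper28.ThreeSets
import Cfsg.Agent.S0360

set_option autoImplicit false

/-!
Octads through or avoiding one or two points: counts `253, 506, 77, 176`, and transitivity of
`M24` on octads with one or two marked points inside or outside.
-/

namespace Cfsg.Agent.Lib.Helper28

open Cfsg MulAction
open scoped Pointwise
open Cfsg.Agent.Lib.Helper3.Steiner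

theorem ncard_octads_through (x : GolayPt) : {y | y ∈ octads ∧ x ∈ y}.ncard = 253 := by
  classical
  have h := octads_lam1 {x} (Finset.card_singleton x)
  rw [← h, ← Set.ncard_coe_finset]
  congr 1
  ext y
  simp [mem_blocksF]

theorem ncard_octads_through_two {p q : GolayPt} (hpq : p ≠ q) :
    {y | y ∈ octads ∧ p ∈ y ∧ q ∈ y}.ncard = 77 := by
  classical
  have h := octads_lam2 {p, q} (Finset.card_pair hpq)
  rw [← h, ← Set.ncard_coe_finset]
  congr 1
  ext y
  simp [mem_blocksF, Finset.insert_subset_iff]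

theorem ncard_octads_avoiding (x : GolayPt) : {y | y ∈ octads ∧ x ∉ y}.ncard = 506 := by
  classical
  have h1 := ncard_octads_through x
  have h0 : octads.ncard = 759 := Cfsg.Agent.S0360.result
  have hd : {y | y ∈ octads ∧ x ∉ y} = octads \ {y | y ∈ octads ∧ x ∈ y} := by
    ext y
    simp only [Set.mem_setOf_eq, Set.mem_diff]
    tauto
  rw [hd, Set.ncard_diff (fun y hy => hy.1) (Set.toFinite _), h0, h1]

theorem ncard_octads_through_avoiding {p q : GolayPt} (hpq : p ≠ q) :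
    {y | y ∈ octads ∧ p ∈ y ∧ q ∉ y}.ncard = 176 := by
  classical
  have h1 := ncard_octads_through p
  have h2 := ncard_octads_through_two hpq
  have hd : {y | y ∈ octads ∧ p ∈ y ∧ q ∉ y} =
      {y | y ∈ octads ∧ p ∈ y} \ {y | y ∈ octads ∧ p ∈ y ∧ q ∈ y} := by
    ext y
    simp only [Set.mem_setOf_eq, Set.mem_diff]
    tauto
  have hsub : {y | y ∈ octads ∧ p ∈ y ∧ q ∈ y} ⊆ {y | y ∈ octads ∧ p ∈ y} :=
    fun y hy => ⟨hy.1, hy.2.1⟩
  rw [hd, Set.ncard_diff hsub (Set.toFinite _), h1, h2]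

/-- `M24` is transitive on the pairs of an octad and one of its points -/
theorem M24_flag_transitive {o o' : Finset GolayPt} (ho : o ∈ octads) (ho' : o' ∈ octads)
    {x x' : GolayPt} (hx : x ∈ o) (hx' : x' ∈ o') : ∃ g ∈ M24, g • o = o' ∧ g x = x' := by
  obtain ⟨g₁, hg₁, rfl⟩ := M24_octad_transitive ho ho'
  have h1 : g₁ x ∈ g₁ • o := Finset.smul_mem_smul_finset hx
  obtain ⟨g₂, hg₂, hg₂o, hmap⟩ := octad_stab_map_list ho' [g₁ x] [x'] (by simp) (by simp)
    (by simpa using h1) (by simpa using hx') rfl (by simp)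
  refine ⟨g₂ * g₁, M24.mul_mem hg₂ hg₁, by rw [mul_smul, hg₂o], ?_⟩
  simpa using hmap

/-- `M24` is transitive on the pairs of an octad and two of its points -/
theorem M24_flag_two_transitive {o o' : Finset GolayPt} (ho : o ∈ octads) (ho' : o' ∈ octads)
    {p q p' q' : GolayPt} (hp : p ∈ o) (hq : q ∈ o) (hpq : p ≠ q) (hp' : p' ∈ o') (hq' : q' ∈ o')
    (hpq' : p' ≠ q') : ∃ g ∈ M24, g • o = o' ∧ g p = p' ∧ g q = q' := by
  obtain ⟨g₁, hg₁, rfl⟩ := M24_octad_transitive ho ho'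
  have h1 : g₁ p ∈ g₁ • o := Finset.smul_mem_smul_finset hp
  have h2 : g₁ q ∈ g₁ • o := Finset.smul_mem_smul_finset hq
  have hne : g₁ p ≠ g₁ q := fun h => hpq (g₁.injective h)
  obtain ⟨g₂, hg₂, hg₂o, hmap⟩ := octad_stab_map_list ho' [g₁ p, g₁ q] [p', q']
    (by simpa using hne) (by simpa using hpq')
    (by
      intro z hz
      simp only [List.mem_cons, List.not_mem_nil, or_false] at hz
      rcases hz with rfl | rfl
      · exact h1
      · exact h2)
    (by
      intro z hz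
      simp only [List.mem_cons, List.not_mem_nil, or_false] at hz
      rcases hz with rfl | rfl
      · exact hp'
      · exact hq') rfl (by simp)
  simp only [List.map_cons, List.map_nil, List.cons.injEq, and_true] at hmap
  exact ⟨g₂ * g₁, M24.mul_mem hg₂ hg₁, by rw [mul_smul, hg₂o], hmap.1, hmap.2⟩

/-- `M24` is transitive on the pairs of an octad and a point outside -/
theorem M24_antiflag_transitive {o o' : Finset GolayPt} (ho : o ∈ octads) (ho' : o' ∈ octads)
    {x x' : GolayPt} (hx : x ∉ o) (hx' : x' ∉ o') : ∃ g ∈ M24, g • o = o' ∧ g x = x' := by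
  obtain ⟨g₁, hg₁, rfl⟩ := M24_octad_transitive ho ho'
  have h1 : g₁ x ∉ g₁ • o := by
    intro hc
    exact hx ((Finset.smul_mem_smul_finset_iff g₁).mp hc)
  obtain ⟨g₂, hg₂, hg₂x⟩ := octadKer_transitive ho' h1 hx'
  obtain ⟨hg₂M, hfix⟩ := mem_octadKer.mp hg₂
  refine ⟨g₂ * g₁, M24.mul_mem hg₂M hg₁, by rw [mul_smul, smul_eq_self_of_fix hfix], ?_⟩
  exact hg₂x

/-- `M24` is transitive on the triples of an octad, one of its points and a point outside -/
theorem M24_flag_antiflag_transitive {o o' : Finset GolayPt} (ho : o ∈ octads)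
    (ho' : o' ∈ octads) {p q p' q' : GolayPt} (hp : p ∈ o) (hq : q ∉ o) (hp' : p' ∈ o')
    (hq' : q' ∉ o') : ∃ g ∈ M24, g • o = o' ∧ g p = p' ∧ g q = q' := by
  obtain ⟨g₁, hg₁, hg₁o, hg₁p⟩ := M24_flag_transitive ho ho' hp hp'
  subst hg₁o
  have h1 : g₁ q ∉ g₁ • o := by
    intro hc
    exact hq ((Finset.smul_mem_smul_finset_iff g₁).mp hc)
  obtain ⟨g₂, hg₂, hg₂x⟩ := octadKer_transitive ho' h1 hq'
  obtain ⟨hg₂M, hfix⟩ := mem_octadKer.mp hg₂
  refine ⟨g₂ * g₁, M24.mul_mem hg₂M hg₁, by rw [mul_smul, smul_eq_self_of_fix hfix], ?_, hg₂x⟩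
  show g₂ (g₁ p) = p'
  rw [hg₁p]
  exact hfix p' hp'

end Cfsg.Agent.Lib.Helper28
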