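import Cfsg.Agent.Lib.Helper28.OctadSix

set_option autoImplicit false

/-!
The number of octads meeting a given octad in a prescribed subset of 2 or 4 points.
-/

namespace Cfsg.Agent.Lib.Helper28

open Cfsg MulAction
open scoped Pointwise

open Cfsg.Agent.Lib.Helper3.Steiner in
/-- the octads meeting `o` exactly in `s` -/
noncomputable def octadsMeetingIn (o s : Finset GolayPt) : Finset (Finset GolayPt) :=
  (blocksF octads).filter (fun c => o ∩ c = s)

open Cfsg.Agent.Lib.Helper3.Steiner in
theorem mem_octadsMeetingIn {o s c : Finset GolayPt} :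
    c ∈ octadsMeetingIn o s ↔ c ∈ octads ∧ o ∩ c = s := by
  unfold octadsMeetingIn
  rw [Finset.mem_filter, mem_blocksF]

theorem card_octadsMeetingIn_smul {g : Equiv.Perm GolayPt} (hg : g ∈ M24) (o s : Finset GolayPt) :
    (octadsMeetingIn (g • o) (g • s)).card = (octadsMeetingIn o s).card := by
  classical
  symm
  apply Finset.card_bij (fun c _ => g • c)
  · intro c hc
    rw [mem_octadsMeetingIn] at hc ⊢
    exact ⟨smul_mem_octads hg hc.1, by rw [← Finset.smul_finset_inter, hc.2]⟩
  · intro c _ c' _ h
    exact smul_left_cancel g h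
  · intro c hc
    rw [mem_octadsMeetingIn] at hc
    refine ⟨g⁻¹ • c, ?_, smul_inv_smul g c⟩
    rw [mem_octadsMeetingIn]
    refine ⟨smul_mem_octads (M24.inv_mem hg) hc.1, ?_⟩
    have : g • (o ∩ g⁻¹ • c) = g • s := by
      rw [Finset.smul_finset_inter, smul_inv_smul, hc.2]
    exact smul_left_cancel g this

open Cfsg.Agent.Lib.Helper3.Steiner in
theorem card_octadsMeetingIn {o : Finset GolayPt} (ho : o ∈ octads) {s : Finset GolayPt}
    (hs : s ⊆ o) (j N : ℕ) (hj : s.card = j) (hN : (octadsMeeting o j).ncard = N) (hj6 : j ≤ 6) :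
    (Nat.choose 8 j) * (octadsMeetingIn o s).card = N := by
  classical
  have hset : octadsMeeting o j =
      (((Finset.powersetCard j o).biUnion (fun s' => octadsMeetingIn o s') :
        Finset (Finset GolayPt)) : Set (Finset GolayPt)) := by
    ext c
    rw [Finset.mem_coe, Finset.mem_biUnion]
    constructor
    · rintro ⟨hc, hcj⟩
      exact ⟨o ∩ c, Finset.mem_powersetCard.mpr ⟨Finset.inter_subset_left, hcj⟩,
        mem_octadsMeetingIn.mpr ⟨hc, rfl⟩⟩
    · rintro ⟨s', hs', hc⟩
      rw [Finset.mem_powersetCard] at hs'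
      rw [mem_octadsMeetingIn] at hc
      exact ⟨hc.1, by rw [hc.2, hs'.2]⟩
  rw [hset, Set.ncard_coe_finset, Finset.card_biUnion] at hN
  · have hconst : ∀ s' ∈ Finset.powersetCard j o,
        (octadsMeetingIn o s').card = (octadsMeetingIn o s).card := by
      intro s' hs'
      rw [Finset.mem_powersetCard] at hs'
      obtain ⟨g, hg, hgo, hgs, _⟩ := octad_stab_map_two ho s' ∅ s ∅ hs'.1 (Finset.empty_subset _)
        hs (Finset.empty_subset _) (Finset.disjoint_empty_right _) (Finset.disjoint_empty_right _)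
        (by rw [hs'.2, hj]) rfl (by rw [hs'.2, Finset.card_empty]; exact hj6)
      have := card_octadsMeetingIn_smul hg o s'
      rw [hgo, hgs] at this
      exact this.symm
    rw [Finset.sum_congr rfl hconst, Finset.sum_const, Finset.card_powersetCard,
      octad_card ho, smul_eq_mul] at hN
    exact hN
  · intro s1 _ s2 _ hne
    show Disjoint (octadsMeetingIn o s1) (octadsMeetingIn o s2)
    rw [Finset.disjoint_left]
    intro c h1 h2
    rw [mem_octadsMeetingIn] at h1 h2
    exact hne (h1.2.symm.trans h2.2)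

theorem ncard_octads_inter_eq {o : Finset GolayPt} (ho : o ∈ octads) {s : Finset GolayPt}
    (hs : s ⊆ o) :
    (s.card = 2 → {o' : Finset GolayPt | o' ∈ octads ∧ o ∩ o' = s}.ncard = 16) ∧
    (s.card = 4 → {o' : Finset GolayPt | o' ∈ octads ∧ o ∩ o' = s}.ncard = 4) := by
  have hset : {o' : Finset GolayPt | o' ∈ octads ∧ o ∩ o' = s} =
      ((octadsMeetingIn o s : Finset (Finset GolayPt)) : Set (Finset GolayPt)) := by
    ext c
    rw [Finset.mem_coe, mem_octadsMeetingIn]
    rfl
  obtain ⟨n4, n2, _⟩ := ncard_octadsMeeting ho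
  rw [hset, Set.ncard_coe_finset]
  constructor
  · intro h2
    have := card_octadsMeetingIn ho hs 2 448 h2 n2 (by norm_num)
    have h28 : Nat.choose 8 2 = 28 := by decide
    rw [h28] at this
    omega
  · intro h4
    have := card_octadsMeetingIn ho hs 4 280 h4 n4 (by norm_num)
    have h70 : Nat.choose 8 4 = 70 := by decide
    rw [h70] at this
    omega

end Cfsg.Agent.Lib.Helper28
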