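import Cfsg.Agent.Lib.Helper28.OctadStab

set_option autoImplicit false

/-!
Transitivity of `Cfsg.M24` on ordered pairs of octads with a given intersection size, and the
orders of the joint stabilizers.
-/

namespace Cfsg.Agent.Lib.Helper28

open Cfsg MulAction
open scoped Pointwise

/-- the octads meeting `b` in `t` points -/
def octadsMeeting (b : Finset GolayPt) (t : ℕ) : Set (Finset GolayPt) :=
  {c | c ∈ octads ∧ (b ∩ c).card = t}

theorem mem_octadsMeeting {b c : Finset GolayPt} {t : ℕ} :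
    c ∈ octadsMeeting b t ↔ c ∈ octads ∧ (b ∩ c).card = t := Iff.rfl

theorem smul_mem_octadsMeeting {g : Equiv.Perm GolayPt} (hg : g ∈ M24) {b c : Finset GolayPt}
    {t : ℕ} (hc : c ∈ octadsMeeting b t) : g • c ∈ octadsMeeting (g • b) t := by
  refine ⟨smul_mem_octads hg hc.1, ?_⟩
  rw [← Finset.smul_finset_inter, Finset.card_smul_finset]
  exact hc.2

theorem popc_and (m m' : ℕ) : popc (m &&& m') = (maskSet m' ∩ maskSet m).card := by
  rw [card_maskSet_inter]
  unfold popc
  congr 1
  ext a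
  simp only [Finset.mem_filter, Finset.mem_univ, true_and, Nat.testBit_and, Bool.and_eq_true]
  exact And.comm

theorem maskSet_mem_octadsMeeting (m t : ℕ) (h : IsCodeMask m) (h8 : popc m = 8)
    (ht : popc (m &&& 8536111) = t) : maskSet m ∈ octadsMeeting baseOctad t := by
  refine ⟨maskSet_mem_octads m h h8, ?_⟩
  rw [← ht, popc_and]
  rfl

theorem ncard_octadsMeeting {b : Finset GolayPt} (hb : b ∈ octads) :
    (octadsMeeting b 4).ncard = 280 ∧ (octadsMeeting b 2).ncard = 448 ∧
      (octadsMeeting b 0).ncard = 30 := ncard_octads_inter hb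

theorem OStab_transitive_aux (root : ℕ) (cert : List (ℕ × ℕ × Fin 2)) (t n : ℕ)
    (hroot : maskSet root ∈ octadsMeeting baseOctad t)
    (hok : certOK ostabs [root] cert = true ∧ (root :: certMasks cert).Nodup ∧
      (root :: certMasks cert).length = n ∧ ∀ m ∈ root :: certMasks cert, m < 2 ^ 24)
    (hn : (octadsMeeting baseOctad t).ncard = n) :
    ∀ c ∈ octadsMeeting baseOctad t, ∃ g ∈ OStab, g • maskSet root = c := by
  classical
  obtain ⟨h1, h2, h3, h4⟩ := hok
  have horb := cert_orbit OStab ostabs ostabs_inj ostab_gen_mem root cert h1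
  have hcard := card_image_maskSet _ h2 h4
  have hsub : (((root :: certMasks cert).toFinset.image maskSet : Finset (Finset GolayPt)) :
      Set (Finset GolayPt)) ⊆ octadsMeeting baseOctad t := by
    intro c hc
    rw [Finset.mem_coe, Finset.mem_image] at hc
    obtain ⟨m, hm, rfl⟩ := hc
    rw [List.mem_toFinset] at hm
    obtain ⟨g, hg, hgm⟩ := horb m hm
    rw [← hgm]
    have := smul_mem_octadsMeeting (mem_OStab.mp hg).1 hroot
    rwa [(mem_OStab.mp hg).2] at this
  have heq := Set.eq_of_subset_of_ncard_le hsub (by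
    rw [Set.ncard_coe_finset, hcard, h3, hn]) (Set.toFinite _)
  intro c hc
  rw [← heq, Finset.mem_coe, Finset.mem_image] at hc
  obtain ⟨m, hm, rfl⟩ := hc
  rw [List.mem_toFinset] at hm
  exact horb m hm

theorem OStab_transitive_root {t : ℕ} (ht : t = 0 ∨ t = 4 ∨ t = 2) :
    ∃ root : ℕ, maskSet root ∈ octadsMeeting baseOctad t ∧
      ∀ c ∈ octadsMeeting baseOctad t, ∃ g ∈ OStab, g • maskSet root = c := by
  obtain ⟨f0, f4, f2⟩ := oroot_facts
  obtain ⟨n4, n2, n0⟩ := ncard_octadsMeeting baseOctad_mem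
  rcases ht with rfl | rfl | rfl
  · have hr := maskSet_mem_octadsMeeting oroot0 0 f0.1 f0.2.1 f0.2.2
    exact ⟨oroot0, hr, OStab_transitive_aux oroot0 ocert0 0 30 hr ocert0_ok n0⟩
  · have hr := maskSet_mem_octadsMeeting oroot4 4 f4.1 f4.2.1 f4.2.2
    exact ⟨oroot4, hr, OStab_transitive_aux oroot4 ocert4 4 280 hr ocert4_ok n4⟩
  · have hr := maskSet_mem_octadsMeeting oroot2 2 f2.1 f2.2.1 f2.2.2
    exact ⟨oroot2, hr, OStab_transitive_aux oroot2 ocert2 2 448 hr ocert2_ok n2⟩

/-- the stabilizer of the base octad is transitive on the octads meeting it in `t` points -/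
theorem OStab_transitive {t : ℕ} (ht : t = 0 ∨ t = 4 ∨ t = 2) {c c' : Finset GolayPt}
    (hc : c ∈ octadsMeeting baseOctad t) (hc' : c' ∈ octadsMeeting baseOctad t) :
    ∃ g ∈ OStab, g • c = c' := by
  obtain ⟨root, _, hr⟩ := OStab_transitive_root ht
  obtain ⟨g, hg, rfl⟩ := hr c hc
  obtain ⟨g', hg', rfl⟩ := hr c' hc'
  refine ⟨g' * g⁻¹, OStab.mul_mem hg' (OStab.inv_mem hg), ?_⟩
  rw [mul_smul, inv_smul_smul]

/-- two distinct octads meet in 0, 2 or 4 points -/
theorem octad_inter_card {b c : Finset GolayPt} (hb : b ∈ octads) (hc : c ∈ octads)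
    (hbc : b ≠ c) : (b ∩ c).card = 0 ∨ (b ∩ c).card = 2 ∨ (b ∩ c).card = 4 :=
  Cfsg.Agent.Lib.Helper3.Steiner.inter_card_5824 fintype_card_golayPt
    octads_isSteinerSystem hb hc hbc

theorem octad_card {b : Finset GolayPt} (hb : b ∈ octads) : b.card = 8 :=
  ((mem_octads_iff b).mp hb).2

/-- `M24` is transitive on ordered pairs of octads with a given intersection size -/
theorem octad_pair_transitive {b c b' c' : Finset GolayPt} (hb : b ∈ octads) (hc : c ∈ octads)
    (hb' : b' ∈ octads) (hc' : c' ∈ octads) (h : (b ∩ c).card = (b' ∩ c').card) :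
    ∃ g ∈ M24, g • b = b' ∧ g • c = c' := by
  by_cases hbc : b = c
  · subst hbc
    rw [Finset.inter_self, octad_card hb] at h
    have hsub : b' ⊆ c' := by
      have h1 : b' ∩ c' = b' := Finset.eq_of_subset_of_card_le Finset.inter_subset_left
        (by rw [← h, octad_card hb'])
      exact Finset.inter_eq_left.mp h1
    have heq : b' = c' := Finset.eq_of_subset_of_card_le hsub
      (by rw [octad_card hb', octad_card hc'])
    subst heq
    obtain ⟨g, hg, hgb⟩ := M24_octad_transitive hb hb'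
    exact ⟨g, hg, hgb, hgb⟩
  · have ht := octad_inter_card hb hc hbc
    have ht' : (b ∩ c).card = 0 ∨ (b ∩ c).card = 4 ∨ (b ∩ c).card = 2 := by tauto
    obtain ⟨x, hx, hxb⟩ := M24_octad_transitive hb baseOctad_mem
    obtain ⟨y, hy, hyb⟩ := M24_octad_transitive hb' baseOctad_mem
    have h1 : x • c ∈ octadsMeeting baseOctad (b ∩ c).card := by
      have := smul_mem_octadsMeeting hx (b := b) (c := c) (t := (b ∩ c).card) ⟨hc, rfl⟩
      rwa [hxb] at this
    have h2 : y • c' ∈ octadsMeeting baseOctad (b ∩ c).card := by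
      have := smul_mem_octadsMeeting hy (b := b') (c := c') (t := (b ∩ c).card) ⟨hc', h.symm⟩
      rwa [hyb] at this
    obtain ⟨g, hg, hgc⟩ := OStab_transitive ht' h1 h2
    obtain ⟨hgM, hgb⟩ := mem_OStab.mp hg
    refine ⟨y⁻¹ * g * x, M24.mul_mem (M24.mul_mem (M24.inv_mem hy) hgM) hx, ?_, ?_⟩
    · rw [mul_smul, mul_smul, hxb, hgb, ← hyb, inv_smul_smul]
    · rw [mul_smul, mul_smul, hgc, inv_smul_smul]

/-- the orbit of an octad under the stabilizer of another octad -/
theorem orbit_stabilizer_octad {b c : Finset GolayPt} (hb : b ∈ octads) (hc : c ∈ octads) :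
    orbit (stabilizer M24 b) c = octadsMeeting b (b ∩ c).card := by
  ext c'
  constructor
  · rintro ⟨g, rfl⟩
    have := smul_mem_octadsMeeting g.1.2 (b := b) (c := c) (t := (b ∩ c).card) ⟨hc, rfl⟩
    have hgb : (g.1.1 : Equiv.Perm GolayPt) • b = b := g.2
    rw [hgb] at this
    exact this
  · rintro ⟨hc', ht⟩
    obtain ⟨g, hg, hgb, hgc⟩ := octad_pair_transitive hb hc hb hc' ht.symm
    exact ⟨⟨⟨g, hg⟩, hgb⟩, hgc⟩

/-- orders of joint stabilizers of two octads -/
theorem card_stabilizer_octad_pair {b c : Finset GolayPt} (hb : b ∈ octads) (hc : c ∈ octads) :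
    ((b ∩ c).card = 0 → Nat.card ↥(stabilizer M24 b ⊓ stabilizer M24 c) = 10752) ∧
    ((b ∩ c).card = 4 → Nat.card ↥(stabilizer M24 b ⊓ stabilizer M24 c) = 1152) ∧
    ((b ∩ c).card = 2 → Nat.card ↥(stabilizer M24 b ⊓ stabilizer M24 c) = 720) := by
  have h1 := card_eq_orbit_mul_card_inf_stabilizer' (stabilizer M24 b) c
  rw [card_stabilizer_octad hb, orbit_stabilizer_octad hb hc] at h1
  obtain ⟨n4, n2, n0⟩ := ncard_octadsMeeting hb
  refine ⟨fun h => ?_, fun h => ?_, fun h => ?_⟩
  · rw [h, n0] at h1; omega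
  · rw [h, n4] at h1; omega
  · rw [h, n2] at h1; omega

end Cfsg.Agent.Lib.Helper28
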