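import Cfsg.Agent.Lib.Helper28.OctadAlt
import Cfsg.Agent.Lib.Helper28.M24Multi

set_option autoImplicit false

/-!
Six-fold transitivity of the stabilizer of an octad on the octad, in terms of sets.
-/

namespace Cfsg.Agent.Lib.Helper28

open Cfsg MulAction
open scoped Pointwise

/-- list form of multiple transitivity -/
theorem exists_map_list_of_isMultiplyPretransitive {G α : Type*} [Group G] [MulAction G α]
    [Finite α] (n : ℕ) [IsMultiplyPretransitive G α n] (hn : n ≤ Nat.card α)
    (l l' : List α) (hl : l.Nodup) (hl' : l'.Nodup)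
    (hlen : l.length = l'.length) (h5 : l.length ≤ n) : ∃ g : G, l.map (fun x => g • x) = l' := by
  haveI : IsMultiplyPretransitive G α l.length := isMultiplyPretransitive_of_le (n := n) h5 hn
  let x : Fin l.length ↪ α := ⟨l.get, List.nodup_iff_injective_get.mp hl⟩
  let y : Fin l.length ↪ α :=
    ⟨fun i => l'.get (i.cast hlen), fun i j h => by
      have := List.nodup_iff_injective_get.mp hl' h
      exact Fin.cast_injective _ this⟩
  obtain ⟨g, hg⟩ := exists_smul_eq (M := G) x y
  refine ⟨g, ?_⟩
  apply List.ext_getElem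
  · rw [List.length_map, hlen]
  · intro i h1 h2
    rw [List.getElem_map]
    rw [List.length_map] at h1
    have := congrArg (fun e : Fin l.length ↪ α => e ⟨i, h1⟩) hg
    exact this

theorem octad_stab_map_two {o : Finset GolayPt} (ho : o ∈ octads) (A B A' B' : Finset GolayPt)
    (hA : A ⊆ o) (hB : B ⊆ o) (hA' : A' ⊆ o) (hB' : B' ⊆ o) (hAB : Disjoint A B)
    (hAB' : Disjoint A' B') (hcA : A.card = A'.card) (hcB : B.card = B'.card)
    (h6 : A.card + B.card ≤ 6) : ∃ g ∈ M24, g • o = o ∧ g • A = A' ∧ g • B = B' := by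
  classical
  have hcard : Nat.card ↥o = 8 := by
    rw [Nat.card_eq_fintype_card, Fintype.card_coe, octad_card ho]
  haveI : IsMultiplyPretransitive (alternatingGroup ↥o) ↥o 6 := by
    have := alternatingGroup.isMultiplyPretransitive ↥o
    rwa [hcard] at this
  -- lists in the subtype
  let L : Finset GolayPt → List ↥o := fun A => (A.subtype (· ∈ o)).toList
  have hLmem : ∀ (A : Finset GolayPt) (x : ↥o), x ∈ L A ↔ (x : GolayPt) ∈ A := by
    intro A x
    simp only [L, Finset.mem_toList, Finset.mem_subtype]
  have hLlen : ∀ A : Finset GolayPt, A ⊆ o → (L A).length = A.card := by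
    intro A hA
    simp only [L, Finset.length_toList, Finset.card_subtype]
    congr 1
    exact Finset.filter_true_of_mem (fun x hx => hA hx)
  have hLnd : ∀ A : Finset GolayPt, (L A).Nodup := fun A => Finset.nodup_toList _
  have hnd : ∀ A B : Finset GolayPt, Disjoint A B → (L A ++ L B).Nodup := by
    intro A B hAB
    rw [List.nodup_append]
    refine ⟨hLnd A, hLnd B, ?_⟩
    intro a ha b hb hab
    rw [hLmem] at ha hb
    exact Finset.disjoint_left.mp hAB ha (hab ▸ hb)
  obtain ⟨e, he⟩ := exists_map_list_of_isMultiplyPretransitive (G := alternatingGroup ↥o) 6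
    (by rw [hcard]; norm_num) (L A ++ L B) (L A' ++ L B') (hnd A B hAB) (hnd A' B' hAB')
    (by rw [List.length_append, List.length_append, hLlen A hA, hLlen B hB, hLlen A' hA',
      hLlen B' hB', hcA, hcB])
    (by rw [List.length_append, hLlen A hA, hLlen B hB]; exact h6)
  obtain ⟨g, hg, hgo, hge⟩ := exists_M24_of_even ho e.1 e.2
  rw [List.map_append] at he
  have h1 := List.append_inj he (by rw [List.length_map, hLlen A hA, hLlen A' hA', hcA])
  have key : ∀ A A' : Finset GolayPt, A ⊆ o → A.card = A'.card →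
      (L A).map (fun x => e • x) = L A' → g • A = A' := by
    intro A A' hA hc h
    apply Finset.eq_of_subset_of_card_le
    · intro y hy
      rw [Finset.mem_smul_finset] at hy
      obtain ⟨x, hx, rfl⟩ := hy
      have hx' : (⟨x, hA hx⟩ : ↥o) ∈ L A := (hLmem A _).mpr hx
      have h2 : e • (⟨x, hA hx⟩ : ↥o) ∈ L A' := by
        rw [← h]
        exact List.mem_map.mpr ⟨_, hx', rfl⟩
      rw [hLmem] at h2
      have h3 : g x = ((e.1 ⟨x, hA hx⟩ : ↥o) : GolayPt) := hge ⟨x, hA hx⟩
      show g x ∈ A'
      rw [h3]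
      exact h2
    · rw [Finset.card_smul_finset, hc]
  exact ⟨g, hg, hgo, key A A' hA hcA h1.1, key B B' hB hcB h1.2⟩

end Cfsg.Agent.Lib.Helper28
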