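import Cfsg.Agent.Lib.Helper28.OctadAlt
import Cfsg.Agent.Lib.Helper28.OctadReg

set_option autoImplicit false

/-!
The stabilizer of an octad in `Cfsg.M24` is the semidirect product of the pointwise stabilizer by
the stabilizer of a further point, which is an alternating group of degree eight.
-/

namespace Cfsg.Agent.Lib.Helper28

open Cfsg MulAction
open scoped Pointwise

/-- the stabilizer of an octad and a point -/
def octadPt (o : Finset GolayPt) (p : GolayPt) : Subgroup (Equiv.Perm GolayPt) :=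
  M24 ⊓ stabilizer (Equiv.Perm GolayPt) o ⊓ stabilizer (Equiv.Perm GolayPt) p

theorem mem_octadPt {o : Finset GolayPt} {p : GolayPt} {g : Equiv.Perm GolayPt} :
    g ∈ octadPt o p ↔ g ∈ M24 ∧ g • o = o ∧ g p = p := by
  unfold octadPt
  rw [Subgroup.mem_inf, Subgroup.mem_inf, and_assoc]
  exact Iff.rfl

theorem octadKer_le_stab (o : Finset GolayPt) :
    octadKer o ≤ M24 ⊓ stabilizer (Equiv.Perm GolayPt) o := by
  intro g hg
  exact Subgroup.mem_inf.mpr ⟨(Subgroup.mem_inf.mp hg).1,
    fixingSubgroup_le_stabilizer o (Subgroup.mem_inf.mp hg).2⟩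

theorem octadKer_inf_octadPt {o : Finset GolayPt} (ho : o ∈ octads) {p : GolayPt} (hp : p ∉ o) :
    octadKer o ⊓ octadPt o p = ⊥ := by
  rw [Subgroup.eq_bot_iff_forall]
  intro g hg
  obtain ⟨h1, h2⟩ := Subgroup.mem_inf.mp hg
  exact octadKer_free ho h1 hp (mem_octadPt.mp h2).2.2

/-- adjust an element stabilizing the octad by an element of the kernel so that it fixes `p` -/
theorem exists_octadKer_mul_mem_octadPt {o : Finset GolayPt} (ho : o ∈ octads) {p : GolayPt}
    (hp : p ∉ o) {g : Equiv.Perm GolayPt} (hg : g ∈ M24) (hgo : g • o = o) :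
    ∃ k ∈ octadKer o, k * g ∈ octadPt o p := by
  have hgp : g p ∉ o := by
    rw [perm_apply_mem_iff_of_smul_eq hgo]; exact hp
  obtain ⟨k, hk, hkp⟩ := octadKer_transitive ho hgp hp
  refine ⟨k, hk, mem_octadPt.mpr ⟨M24.mul_mem (mem_octadKer.mp hk).1 hg, ?_, ?_⟩⟩
  · rw [mul_smul, hgo]
    exact smul_eq_of_apply_mem_iff (fun x => by
      have := (Subgroup.mem_inf.mp (octadKer_le_stab o hk)).2
      exact perm_apply_mem_iff_of_smul_eq this x)
  · rw [Equiv.Perm.mul_apply, hkp]

theorem octadKer_sup_octadPt {o : Finset GolayPt} (ho : o ∈ octads) {p : GolayPt} (hp : p ∉ o) :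
    octadKer o ⊔ octadPt o p = M24 ⊓ stabilizer (Equiv.Perm GolayPt) o := by
  apply le_antisymm
  · apply sup_le (octadKer_le_stab o)
    unfold octadPt
    exact inf_le_left
  · intro g hg
    obtain ⟨hgM, hgo⟩ := Subgroup.mem_inf.mp hg
    obtain ⟨k, hk, hkg⟩ := exists_octadKer_mul_mem_octadPt ho hp hgM hgo
    have : g = k⁻¹ * (k * g) := by group
    rw [this]
    exact Subgroup.mul_mem_sup ((octadKer o).inv_mem hk) hkg

theorem octadPt_le_stab (o : Finset GolayPt) (p : GolayPt) :
    octadPt o p ≤ M24 ⊓ stabilizer (Equiv.Perm GolayPt) o := by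
  unfold octadPt
  exact inf_le_left

/-- restriction of the stabilizer of an octad and a point to the octad -/
noncomputable def octadPtHom (o : Finset GolayPt) (p : GolayPt) :
    ↥(octadPt o p) →* Equiv.Perm ↥o :=
  (restrictHomOf M24 o).comp (Subgroup.inclusion (octadPt_le_stab o p))

theorem octadPtHom_injective {o : Finset GolayPt} (ho : o ∈ octads) {p : GolayPt} (hp : p ∉ o) :
    Function.Injective (octadPtHom o p) := by
  rw [injective_iff_map_eq_one]
  intro g hg
  have h1 : Subgroup.inclusion (octadPt_le_stab o p) g ∈ (restrictHomOf M24 o).ker := hg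
  rw [mem_ker_restrictHomOf_iff] at h1
  have h2 : g.1 ∈ octadKer o ⊓ octadPt o p :=
    Subgroup.mem_inf.mpr ⟨Subgroup.mem_inf.mpr ⟨(mem_octadPt.mp g.2).1, h1⟩, g.2⟩
  rw [octadKer_inf_octadPt ho hp] at h2
  exact Subtype.ext (Subgroup.mem_bot.mp h2)

theorem octadPtHom_range {o : Finset GolayPt} (ho : o ∈ octads) {p : GolayPt} (hp : p ∉ o) :
    (octadPtHom o p).range = alternatingGroup ↥o := by
  apply le_antisymm
  · rw [← range_restrict_octad ho]
    rintro _ ⟨g, rfl⟩
    exact ⟨_, rfl⟩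
  · intro e he
    rw [← range_restrict_octad ho] at he
    obtain ⟨g, rfl⟩ := he
    obtain ⟨k, hk, hkg⟩ := exists_octadKer_mul_mem_octadPt ho hp g.2.1 g.2.2
    refine ⟨⟨k * g.1, hkg⟩, ?_⟩
    apply Equiv.ext
    intro x
    apply Subtype.ext
    show (k * g.1) x = g.1 x
    rw [Equiv.Perm.mul_apply]
    apply (mem_octadKer.mp hk).2
    exact (perm_apply_mem_iff_of_smul_eq g.2.2 x.1).mpr x.2

/-- the stabilizer of an octad and a point outside it is an alternating group of degree 8 -/
theorem octadPt_equiv {o : Finset GolayPt} (ho : o ∈ octads) {p : GolayPt} (hp : p ∉ o) :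
    Nonempty (↥(octadPt o p) ≃* alternatingGroup (Fin 8)) := by
  have e1 : ↥(octadPt o p) ≃* (octadPtHom o p).range :=
    MonoidHom.ofInjective (octadPtHom_injective ho hp)
  have e2 : ↥(octadPtHom o p).range ≃* ↥(alternatingGroup ↥o) :=
    MulEquiv.subgroupCongr (octadPtHom_range ho hp)
  have hc : Fintype.card ↥o = 8 := by rw [Fintype.card_coe, octad_card ho]
  have e3 : ↥(alternatingGroup ↥o) ≃* ↥(alternatingGroup (Fin 8)) :=
    Equiv.altCongrHom (Fintype.equivFinOfCardEq hc)
  exact ⟨(e1.trans e2).trans e3⟩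

end Cfsg.Agent.Lib.Helper28
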