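import Cfsg.Agent.Lib.Helper28.SixSets

set_option autoImplicit false

/-!
Two octads meeting in two points: their joint stabilizer in `Cfsg.M24` is a symmetric group of
degree six, acting faithfully on the six points of the first octad outside the second.
-/

namespace Cfsg.Agent.Lib.Helper28

open Cfsg MulAction
open scoped Pointwise

set_option maxRecDepth 100000 in
set_option maxHeartbeats 4000000 in
theorem tr6_oroot2_facts : ∀ q : Fin 24, (m24omega 6).testBit q.val = true →
    (∀ a : Fin 24, oroot2.testBit a.val = true → oroot2.testBit (wordTab (m24tr 6 q) a).val = true) →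
      m24tr 6 q = [] := by
  decide +kernel

theorem octadKer_base_inf_stab_oroot2 {g : Equiv.Perm GolayPt} (hg : g ∈ octadKer baseOctad)
    (hinv : g • maskSet oroot2 = maskSet oroot2) : g = 1 := by
  have h6 : g ∈ baseStab M24 6 := by
    unfold octadKer at hg
    rwa [inf_fixingSubgroup_baseOctad] at hg
  obtain ⟨q, hq, rfl⟩ := mem_baseStab_six h6
  have := tr6_oroot2_facts q hq (by
    intro a ha
    have h1 := testBit_apply_of_smul_eq hinv a
    rw [wordPerm_pt, ptInv_pt] at h1
    rw [h1]; exact ha)
  rw [this]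
  rfl

/-- a non-identity element of the pointwise stabilizer of an octad stabilizes no octad meeting it
in two points -/
theorem octadKer_inf_stab_two {o o' : Finset GolayPt} (ho : o ∈ octads) (ho' : o' ∈ octads)
    (h2 : (o ∩ o').card = 2) {g : Equiv.Perm GolayPt} (hg : g ∈ octadKer o)
    (hinv : g • o' = o') : g = 1 := by
  obtain ⟨f0, f4, f2⟩ := oroot_facts
  have hr := maskSet_mem_octadsMeeting oroot2 2 f2.1 f2.2.1 f2.2.2
  obtain ⟨h, hh, hb, hc⟩ := octad_pair_transitive baseOctad_mem hr.1 ho ho' (hr.2.trans h2.symm)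
  rw [← hb, conj_mem_octadKer_iff hh] at hg
  have h1 : (h⁻¹ * g * h) • maskSet oroot2 = maskSet oroot2 := by
    rw [mul_smul, mul_smul, hc, hinv, ← hc, inv_smul_smul]
  have h3 := octadKer_base_inf_stab_oroot2 hg h1
  have : g = h * (h⁻¹ * g * h) * h⁻¹ := by group
  rw [this, h3]
  group

/-- the joint stabilizer of two octads, as a subgroup of the symmetric group -/
def octadPairStab (o o' : Finset GolayPt) : Subgroup (Equiv.Perm GolayPt) :=
  M24 ⊓ stabilizer (Equiv.Perm GolayPt) o ⊓ stabilizer (Equiv.Perm GolayPt) o'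

theorem mem_octadPairStab {o o' : Finset GolayPt} {g : Equiv.Perm GolayPt} :
    g ∈ octadPairStab o o' ↔ g ∈ M24 ∧ g • o = o ∧ g • o' = o' := by
  unfold octadPairStab
  rw [Subgroup.mem_inf, Subgroup.mem_inf, and_assoc]
  exact Iff.rfl

/-- the joint stabilizer inside `M24` and inside the symmetric group -/
def octadPairStabEquiv (o o' : Finset GolayPt) :
    ↥(stabilizer M24 o ⊓ stabilizer M24 o') ≃* ↥(octadPairStab o o') where
  toFun g := ⟨g.1.1, mem_octadPairStab.mpr ⟨g.1.2, (Subgroup.mem_inf.mp g.2).1,
    (Subgroup.mem_inf.mp g.2).2⟩⟩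
  invFun g := ⟨⟨g.1, (mem_octadPairStab.mp g.2).1⟩, Subgroup.mem_inf.mpr
    ⟨(mem_octadPairStab.mp g.2).2.1, (mem_octadPairStab.mp g.2).2.2⟩⟩
  left_inv _ := rfl
  right_inv _ := rfl
  map_mul' _ _ := rfl

theorem octadPairStab_le_sdiff (o o' : Finset GolayPt) :
    octadPairStab o o' ≤ stabilizer (Equiv.Perm GolayPt) (o \ o') := by
  intro g hg
  obtain ⟨_, h1, h2⟩ := mem_octadPairStab.mp hg
  rw [mem_stabilizer_iff]
  apply smul_eq_of_apply_mem_iff
  intro x
  rw [Finset.mem_sdiff, Finset.mem_sdiff, perm_apply_mem_iff_of_smul_eq h1,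
    perm_apply_mem_iff_of_smul_eq h2]

/-- the action of the joint stabilizer on the points of the first octad outside the second -/
noncomputable def octadPairHom (o o' : Finset GolayPt) :
    ↥(octadPairStab o o') →* Equiv.Perm ↥(o \ o') :=
  (restrictHom (o \ o')).comp (Subgroup.inclusion (octadPairStab_le_sdiff o o'))

theorem octadPairHom_injective {o o' : Finset GolayPt} (ho : o ∈ octads) (ho' : o' ∈ octads)
    (h2 : (o ∩ o').card = 2) : Function.Injective (octadPairHom o o') := by
  rw [injective_iff_map_eq_one]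
  intro g hg
  obtain ⟨hgM, hgo, hgo'⟩ := mem_octadPairStab.mp g.2
  have hfix : ∀ p ∈ o \ o', g.1 p = p := by
    intro p hp
    have := congrArg (fun e : Equiv.Perm ↥(o \ o') => ((e ⟨p, hp⟩ : ↥(o \ o')) : GolayPt)) hg
    exact this
  have h6 : (o \ o').card = 6 := by
    have := Finset.card_sdiff_add_card_inter o o'
    rw [h2, octad_card ho] at this
    omega
  have hK := mem_octadKer_of_fix_six ho h6 Finset.sdiff_subset hgM hfix
  exact Subtype.ext (octadKer_inf_stab_two ho ho' h2 hK hgo')

/-- the joint stabilizer of two octads meeting in two points is a symmetric group of degree 6 -/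
theorem octadPairStab_equiv {o o' : Finset GolayPt} (ho : o ∈ octads) (ho' : o' ∈ octads)
    (h2 : (o ∩ o').card = 2) :
    Nonempty (↥(stabilizer M24 o ⊓ stabilizer M24 o') ≃* Equiv.Perm (Fin 6)) := by
  have h6 : (o \ o').card = 6 := by
    have := Finset.card_sdiff_add_card_inter o o'
    rw [h2, octad_card ho] at this
    omega
  have hcard : Nat.card ↥(octadPairStab o o') = 720 := by
    rw [← Nat.card_congr (octadPairStabEquiv o o').toEquiv]
    exact (card_stabilizer_octad_pair ho ho').2.2 h2
  have hbij : Function.Bijective (octadPairHom o o') := by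
    apply (octadPairHom_injective ho ho' h2).bijective_of_nat_card_le
    rw [hcard, Nat.card_eq_fintype_card, Fintype.card_perm, Fintype.card_coe, h6]
    decide
  have hc : Fintype.card ↥(o \ o') = 6 := by rw [Fintype.card_coe, h6]
  exact ⟨((octadPairStabEquiv o o').trans (MulEquiv.ofBijective _ hbij)).trans
    (Fintype.equivFinOfCardEq hc).permCongrHom⟩

end Cfsg.Agent.Lib.Helper28
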