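import Cfsg.Agent.Lib.Helper28.TabPerm

set_option autoImplicit false

/-!
Orbit certificates: a list of masks, each obtained from an earlier one by one of finitely many
table permutations, certifies that all the mask sets lie in the orbit of the root under the group
generated by the table permutations.  The check is a Boolean computation.
-/

namespace Cfsg.Agent.Lib.Helper28

open Cfsg MulAction
open scoped Pointwise

/-- number of points of a mask -/
def popc (m : ℕ) : ℕ := (Finset.univ.filter fun a : Fin 24 => m.testBit a.val = true).card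

theorem card_maskSet' (m : ℕ) : (maskSet m).card = popc m := card_maskSet m

/-- the table `t` maps the mask `pm` into the mask `m`, and the two have equally many points -/
def maskStep (t : Fin 24 → Fin 24) (pm m : ℕ) : Bool :=
  decide (∀ a : Fin 24, pm.testBit a.val = true → m.testBit (t a).val = true) &&
    decide (popc pm = popc m)

theorem smul_maskSet_of_step {g : Equiv.Perm GolayPt} (t : Fin 24 → Fin 24)
    (ht : ∀ a, g (Helper4.pt a) = Helper4.pt (t a)) (pm m : ℕ) (h : maskStep t pm m = true) :
    g • maskSet pm = maskSet m := by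
  unfold maskStep at h
  rw [Bool.and_eq_true, decide_eq_true_eq, decide_eq_true_eq] at h
  apply Finset.eq_of_subset_of_card_le
  · intro x hx
    rw [Finset.mem_smul_finset] at hx
    obtain ⟨y, hy, rfl⟩ := hx
    obtain ⟨a, rfl⟩ := Helper4.pt_bijective.2 y
    rw [pt_mem_maskSet] at hy
    show g (Helper4.pt a) ∈ maskSet m
    rw [ht, pt_mem_maskSet]
    exact h.1 a hy
  · rw [Finset.card_smul_finset, card_maskSet', card_maskSet', h.2]

/-- validity of an orbit certificate -/
def certOK {n : ℕ} (tabs : Fin n → Fin 24 → Fin 24) : List ℕ → List (ℕ × ℕ × Fin n) → Bool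
  | _, [] => true
  | seen, (m, pidx, i) :: rest =>
    decide (pidx < seen.length) && maskStep (tabs i) (seen.getD pidx 0) m &&
      certOK tabs (seen ++ [m]) rest

theorem cert_sound {n : ℕ} (H : Subgroup (Equiv.Perm GolayPt)) (tabs : Fin n → Fin 24 → Fin 24)
    (hinj : ∀ i, TabInj (tabs i)) (hH : ∀ i, tabPerm (tabs i) (hinj i) ∈ H) (root : ℕ)
    (cert : List (ℕ × ℕ × Fin n)) :
    ∀ (seen : List ℕ), (∀ m ∈ seen, ∃ g ∈ H, g • maskSet root = maskSet m) →
      certOK tabs seen cert = true →
      ∀ e ∈ cert, ∃ g ∈ H, g • maskSet root = maskSet e.1 := by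
  induction cert with
  | nil => intro _ _ _ e he; exact absurd he (List.not_mem_nil)
  | cons c rest ih =>
    intro seen hseen hok e he
    obtain ⟨m, pidx, i⟩ := c
    unfold certOK at hok
    rw [Bool.and_eq_true, Bool.and_eq_true, decide_eq_true_eq] at hok
    obtain ⟨⟨hlt, hstep⟩, hrest⟩ := hok
    have hpm : seen.getD pidx 0 ∈ seen := by
      rw [List.getD_eq_getElem _ _ hlt]
      exact List.getElem_mem hlt
    obtain ⟨g0, hg0, hg0m⟩ := hseen _ hpm
    have hm : ∃ g ∈ H, g • maskSet root = maskSet m := by
      refine ⟨tabPerm (tabs i) (hinj i) * g0, H.mul_mem (hH i) hg0, ?_⟩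
      rw [mul_smul, hg0m]
      exact smul_maskSet_of_step (tabs i) (tabPerm_pt _ _) _ _ hstep
    rcases List.mem_cons.mp he with rfl | he'
    · exact hm
    · apply ih (seen ++ [m]) _ hrest e he'
      intro m' hm'
      rcases List.mem_append.mp hm' with h | h
      · exact hseen m' h
      · rw [List.mem_singleton] at h
        rw [h]; exact hm

/-- the masks of a certificate -/
def certMasks {n : ℕ} (cert : List (ℕ × ℕ × Fin n)) : List ℕ := cert.map (·.1)

theorem cert_orbit {n : ℕ} (H : Subgroup (Equiv.Perm GolayPt)) (tabs : Fin n → Fin 24 → Fin 24)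
    (hinj : ∀ i, TabInj (tabs i)) (hH : ∀ i, tabPerm (tabs i) (hinj i) ∈ H) (root : ℕ)
    (cert : List (ℕ × ℕ × Fin n)) (hok : certOK tabs [root] cert = true) :
    ∀ m ∈ root :: certMasks cert, ∃ g ∈ H, g • maskSet root = maskSet m := by
  intro m hm
  rcases List.mem_cons.mp hm with rfl | hm'
  · exact ⟨1, H.one_mem, one_smul _ _⟩
  · unfold certMasks at hm'
    rw [List.mem_map] at hm'
    obtain ⟨e, he, rfl⟩ := hm'
    apply cert_sound H tabs hinj hH root cert [root] _ hok e he
    intro m' hm''
    rw [List.mem_singleton] at hm''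
    rw [hm'']
    exact ⟨1, H.one_mem, one_smul _ _⟩

/-- masks below `2 ^ 24` are determined by their mask sets -/
theorem maskSet_injective {m m' : ℕ} (hm : m < 2 ^ 24) (hm' : m' < 2 ^ 24)
    (h : maskSet m = maskSet m') : m = m' := by
  apply Nat.eq_of_testBit_eq
  intro i
  by_cases hi : i < 24
  · have h1 : Helper4.pt ⟨i, hi⟩ ∈ maskSet m ↔ Helper4.pt ⟨i, hi⟩ ∈ maskSet m' := by rw [h]
    rw [pt_mem_maskSet, pt_mem_maskSet] at h1
    cases hb : m.testBit i <;> cases hb' : m'.testBit i <;> simp_all
  · have h24 : 2 ^ 24 ≤ 2 ^ i := Nat.pow_le_pow_right (by norm_num) (by omega)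
    rw [Nat.testBit_eq_false_of_lt (lt_of_lt_of_le hm h24),
      Nat.testBit_eq_false_of_lt (lt_of_lt_of_le hm' h24)]

/-- the number of mask sets of a duplicate-free list of masks -/
theorem card_image_maskSet (l : List ℕ) (hl : l.Nodup) (hlt : ∀ m ∈ l, m < 2 ^ 24) :
    (l.toFinset.image maskSet).card = l.length := by
  rw [Finset.card_image_of_injOn, List.toFinset_card_of_nodup hl]
  intro m hm m' hm' h
  rw [Finset.mem_coe, List.mem_toFinset] at hm hm'
  exact maskSet_injective (hlt m hm) (hlt m' hm') h

end Cfsg.Agent.Lib.Helper28
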