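import Cfsg.Agent.Lib.Helper28.MaxOrbit

set_option autoImplicit false

/-!
Determining all orbits of a finite group on a finite invariant set from lower bounds: if
pairwise disjoint subsets of orbits exhaust the set and no sum of several of their sizes divides
the group order, they are the orbits.
-/

namespace Cfsg.Agent.Lib.Helper28

open MulAction
open scoped Pointwise

theorem orbits_partition {G Y : Type*} [Group G] [Finite G] [MulAction G Y] (F : Set Y)
    (hfin : F.Finite) (N : ℕ) (hN : F.ncard = N) (hFinv : ∀ (g : G), ∀ y ∈ F, g • y ∈ F)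
    {k : ℕ} (X : Fin k → Y) (hX : ∀ i, X i ∈ F) (S : Fin k → Set Y)
    (hS : ∀ i, S i ⊆ orbit G (X i)) (hdisj : ∀ i j, i ≠ j → Disjoint (S i) (S j))
    (n : Fin k → ℕ) (hn : ∀ i, (S i).ncard = n i) (hsum : ∑ i, n i = N) (c : ℕ)
    (hc : Nat.card G = c)
    (harith : ∀ J : Finset (Fin k), J.Nonempty → (∑ j ∈ J, n j) ∣ c → ∃ j, J = {j}) :
    (∀ i, (orbit G (X i)).ncard = n i) ∧ F = ⋃ i, orbit G (X i) := by
  classical
  have horbF : ∀ i, orbit G (X i) ⊆ F := by
    rintro i _ ⟨g, rfl⟩
    exact hFinv g _ (hX i)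
  have hSF : ∀ i, S i ⊆ F := fun i => (hS i).trans (horbF i)
  have hSfin : ∀ i, (S i).Finite := fun i => hfin.subset (hSF i)
  have hU : (⋃ i ∈ (Finset.univ : Finset (Fin k)), S i) = F := by
    apply Set.eq_of_subset_of_ncard_le _ _ hfin
    · intro y hy
      simp only [Finset.mem_univ, Set.iUnion_true, Set.mem_iUnion] at hy
      obtain ⟨i, hi⟩ := hy
      exact hSF i hi
    · rw [(ncard_biUnion_of_disjoint S hSfin hdisj Finset.univ).1, hN, ← hsum]
      exact le_of_eq (Finset.sum_congr rfl (fun i _ => (hn i).symm))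
  have hcover : ∀ y ∈ F, ∃ j, y ∈ S j := by
    intro y hy
    rw [← hU] at hy
    simp only [Finset.mem_univ, Set.iUnion_true, Set.mem_iUnion] at hy
    exact hy
  have hcard : ∀ i, (orbit G (X i)).ncard = n i := by
    intro i
    set J : Finset (Fin k) := Finset.univ.filter (fun j => X j ∈ orbit G (X i)) with hJ
    have hO : orbit G (X i) = ⋃ j ∈ J, S j := by
      apply Set.Subset.antisymm
      · intro y hy
        obtain ⟨j, hj⟩ := hcover y (horbF i hy)
        simp only [Set.mem_iUnion, exists_prop]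
        refine ⟨j, ?_, hj⟩
        rw [hJ, Finset.mem_filter]
        refine ⟨Finset.mem_univ _, ?_⟩
        have h1 : orbit G y = orbit G (X j) := orbit_eq_iff.mpr (hS j hj)
        have h2 : orbit G y = orbit G (X i) := orbit_eq_iff.mpr hy
        rw [← h2, h1]
        exact mem_orbit_self _
      · intro y hy
        simp only [Set.mem_iUnion, exists_prop] at hy
        obtain ⟨j, hj, hy⟩ := hy
        rw [hJ, Finset.mem_filter] at hj
        have h1 : orbit G (X j) = orbit G (X i) := orbit_eq_iff.mpr hj.2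
        rw [← h1]
        exact hS j hy
    have hsize : (orbit G (X i)).ncard = ∑ j ∈ J, n j := by
      rw [hO, (ncard_biUnion_of_disjoint S hSfin hdisj J).1]
      exact Finset.sum_congr rfl (fun j _ => hn j)
    have hdvd : (orbit G (X i)).ncard ∣ c := by
      rw [← hc, ← MulAction.index_stabilizer]
      exact Subgroup.index_dvd_card _
    have hiJ : i ∈ J := by
      rw [hJ, Finset.mem_filter]
      exact ⟨Finset.mem_univ _, mem_orbit_self _⟩
    rw [hsize] at hdvd
    obtain ⟨j, hj⟩ := harith J ⟨i, hiJ⟩ hdvd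
    rw [hj, Finset.mem_singleton] at hiJ
    rw [hsize, hj, Finset.sum_singleton, hiJ]
  refine ⟨hcard, ?_⟩
  apply Set.Subset.antisymm
  · intro y hy
    obtain ⟨j, hj⟩ := hcover y hy
    exact Set.mem_iUnion.mpr ⟨j, hS j hj⟩
  · intro y hy
    obtain ⟨j, hj⟩ := Set.mem_iUnion.mp hy
    exact horbF j hj

end Cfsg.Agent.Lib.Helper28
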