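import Cfsg.Agent.Lib.Helper28.CentFive
import Cfsg.Agent.Lib.Helper28.AutGens2
import Cfsg.Agent.Lib.Helper28.OutM23

set_option autoImplicit false

/-!
Subgroups `H ≤ M24` containing `t ↦ 2t` (order 11) and `cubeTwist` (order 5), generated by them
and further elements normalizing `⟨cubeTwist⟩`, with Sylow 11-subgroups of order 11: the
automorphisms of `H` are determined, up to inner ones, by a finite table check.
-/

namespace Cfsg.Agent.Lib.Helper28

open Cfsg MulAction
open scoped Pointwise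

theorem o11_mult11 : ∀ k : Fin 11, 0 < k.val →
    ∃ i : Fin 5, (k.val * 3 ^ i.val) % 11 = 1 ∨ (k.val * 3 ^ i.val) % 11 = 10 := by
  decide

theorem o11_binv_acts : TActs o11_b⁻¹ o11_binvtab :=
  o11_b_acts.inv o11_binvtab o23_tab_inv.2.1

theorem tActs_letters2 {n N : ℕ} {a' : Equiv.Perm GolayPt} {ta : Fin 24 → Fin 24}
    (ha' : TActs a' ta) {e : Fin n → Equiv.Perm GolayPt} {etab : Fin n → Fin 24 → Fin 24}
    (he : ∀ k, TActs (e k) (etab k)) {cb : Fin N → Equiv.Perm GolayPt}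
    {cbtab : Fin N → Fin 24 → Fin 24} (hcb : ∀ j, TActs (cb j) (cbtab j)) (i : Fin n → Fin N)
    (k : Fin (n + 1)) :
    TActs ((Fin.cons a' (fun k => e k * cb (i k)) : Fin (n + 1) → Equiv.Perm GolayPt) k)
      ((Fin.cons ta (fun k x => etab k (cbtab (i k) x)) : Fin (n + 1) → Fin 24 → Fin 24) k) := by
  refine Fin.cases ?_ (fun l => ?_) k
  · simp only [Fin.cons_zero]
    exact ha'
  · simp only [Fin.cons_succ]
    exact (he l).mul (hcb (i l))

theorem out_coset_of_data11 (H : Subgroup (Equiv.Perm GolayPt)) (hH : H ≤ M24)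
    (ha : o11_b ∈ H) (hb : cubeTwist ∈ H) {n N : ℕ} (e : Fin n → Equiv.Perm GolayPt)
    (he : ∀ k, e k ∈ H) (etab : Fin n → Fin 24 → Fin 24) (hetab : ∀ k, TActs (e k) (etab k))
    (m : Fin n → ℕ) (heb : ∀ k, e k * cubeTwist * (e k)⁻¹ = cubeTwist ^ m k)
    (cb : Fin N → Equiv.Perm GolayPt) (hcbH : ∀ j, cb j ∈ H)
    (cbtab : Fin N → Fin 24 → Fin 24) (hcbtab : ∀ j, TActs (cb j) (cbtab j))
    (hCb : ∀ g ∈ H, g * cubeTwist = cubeTwist * g → ∃ j, g = cb j)
    (hfac : (Nat.card H).factorization 11 = 1)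
    (hgen : Subgroup.closure (insert o11_b (insert cubeTwist (Set.range e))) = H)
    (rels : List (List (Fin (n + 1))))
    (hR : ∀ w ∈ rels, ∀ p : Fin 24,
      w.foldr (fun k y => (Fin.cons o11_btab etab : Fin (n + 1) → Fin 24 → Fin 24) k y) p = p)
    (T : Set (MulAut ↥H))
    (hcheck : ∀ (ε : Bool) (i : Fin n → Fin N),
      (∀ w ∈ rels, ∀ p : Fin 24,
        w.foldr (fun k y => (Fin.cons (if ε then o11_btab else o11_binvtab)
          (fun k x => etab k (cbtab (i k) x)) : Fin (n + 1) → Fin 24 → Fin 24) k y) p = p) →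
      ∃ τ ∈ T, τ ⟨o11_b, ha⟩ = (if ε then (⟨o11_b, ha⟩ : ↥H) else (⟨o11_b, ha⟩ : ↥H)⁻¹) ∧
        τ ⟨cubeTwist, hb⟩ = ⟨cubeTwist, hb⟩ ∧
        ∀ k, τ ⟨e k, he k⟩ = (⟨e k, he k⟩ : ↥H) * ⟨cb (i k), hcbH (i k)⟩)
    (φ : MulAut ↥H) : ∃ τ ∈ T, φ * τ⁻¹ ∈ (MulAut.conj : ↥H →* MulAut ↥H).range := by
  have : Fact (Nat.Prime 11) := ⟨by norm_num⟩
  set aM : ↥H := ⟨o11_b, ha⟩ with haM
  set bM : ↥H := ⟨cubeTwist, hb⟩ with hbM
  set eM : Fin n → ↥H := fun k => ⟨e k, he k⟩ with heM
  set cM : Fin N → ↥H := fun j => ⟨cb j, hcbH j⟩ with hcM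
  have hoa : orderOf aM = 11 := by
    apply orderOf_eq_prime
    · apply Subtype.ext
      rw [Subgroup.coe_pow, Subgroup.coe_one]
      exact o11_b_pow
    · intro h
      exact o11_b_ne_one (congrArg Subtype.val h)
  have hval : ∀ (x : Fin (n + 1) → ↥H) (w : List (Fin (n + 1))),
      ((evalW x w : ↥H) : Equiv.Perm GolayPt) =
        evalW (fun k => ((x k : ↥H) : Equiv.Perm GolayPt)) w :=
    fun x w => map_evalW H.subtype x w
  refine aut_coset_of_gens 11 3 6 aM bM eM m cM hfac hoa ?_ (by norm_num) ?_ ?_ ?_ ?_ ?_ rels ?_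
    T ?_ φ
  · -- hba
    apply Subtype.ext
    rw [Subgroup.coe_mul, Subgroup.coe_mul, Subgroup.coe_inv, Subgroup.coe_pow]
    exact o11_hdb
  · intro k hk0 hk11
    obtain ⟨i, hi⟩ := o11_mult11 ⟨k, hk11⟩ hk0
    exact ⟨i.val, hi⟩
  · -- hCa
    intro g hc
    rw [coe_mem_zpowers_iff]
    apply cent_o11_b (hH g.2)
    have := congrArg Subtype.val hc
    rw [Subgroup.coe_mul, Subgroup.coe_mul] at this
    exact this
  · -- hCb
    intro g hc
    have h1 := congrArg Subtype.val hc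
    rw [Subgroup.coe_mul, Subgroup.coe_mul] at h1
    obtain ⟨j, hj⟩ := hCb g.1 g.2 h1
    exact ⟨j, Subtype.ext hj⟩
  · -- heb
    intro k
    apply Subtype.ext
    rw [Subgroup.coe_mul, Subgroup.coe_mul, Subgroup.coe_inv, Subgroup.coe_pow]
    exact heb k
  · -- hgen
    apply closure_eq_top_of_subtype _ _ hgen
    intro g hg
    simp only [Set.mem_insert_iff, Set.mem_range] at hg
    rcases hg with rfl | rfl | ⟨k, rfl⟩
    · exact ⟨ha, Set.mem_insert _ _⟩
    · exact ⟨hb, Set.mem_insert_of_mem _ (Set.mem_insert _ _)⟩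
    · exact ⟨he k, Set.mem_insert_of_mem _ (Set.mem_insert_of_mem _ ⟨k, rfl⟩)⟩
  · -- hR
    intro w hw
    apply Subtype.ext
    rw [hval, Subgroup.coe_one]
    have hfun : (fun k => (((Fin.cons aM eM : Fin (n + 1) → ↥H) k : ↥H) : Equiv.Perm GolayPt)) =
        (Fin.cons o11_b e : Fin (n + 1) → Equiv.Perm GolayPt) := by
      funext k
      refine Fin.cases ?_ (fun l => ?_) k
      · simp only [Fin.cons_zero]; rfl
      · simp only [Fin.cons_succ]; rfl
    rw [hfun]
    exact TActs.ext (tActs_evalW _ _ (tActs_letters0 o11_b_acts hetab) w) TActs.one (hR w hw)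
  · -- hrel
    intro a' i ha' hw
    have hfun : (fun k => (((Fin.cons a' (fun k => eM k * cM (i k)) : Fin (n + 1) → ↥H) k : ↥H) :
        Equiv.Perm GolayPt)) =
        (Fin.cons (a' : Equiv.Perm GolayPt) (fun k => e k * cb (i k)) :
          Fin (n + 1) → Equiv.Perm GolayPt) := by
      funext k
      refine Fin.cases ?_ (fun l => ?_) k
      · simp only [Fin.cons_zero]
      · simp only [Fin.cons_succ]; rfl
    have key : ∀ (ε : Bool) (ta : Fin 24 → Fin 24),
        ta = (if ε then o11_btab else o11_binvtab) → TActs (a' : Equiv.Perm GolayPt) ta →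
        ∀ w ∈ rels, ∀ p : Fin 24,
          w.foldr (fun k y => (Fin.cons (if ε then o11_btab else o11_binvtab)
            (fun k x => etab k (cbtab (i k) x)) : Fin (n + 1) → Fin 24 → Fin 24) k y) p = p := by
      intro ε ta hta hact w hw' p
      have h1 := congrArg Subtype.val (hw w hw')
      rw [hval, Subgroup.coe_one, hfun] at h1
      have h2 := tActs_evalW _ _ (tActs_letters2 hact hetab hcbtab i) w
      rw [h1] at h2
      rw [← hta]
      exact (TActs.tab_eq h2 TActs.one p)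
    rcases ha' with h | h
    · obtain ⟨τ, hτ, h1, h2, h3⟩ := hcheck true i
        (key true o11_btab rfl (by rw [h]; exact o11_b_acts))
      refine ⟨τ, hτ, ?_, h2, h3⟩
      rw [h]
      exact h1
    · obtain ⟨τ, hτ, h1, h2, h3⟩ := hcheck false i
        (key false o11_binvtab rfl (by rw [h, Subgroup.coe_inv]; exact o11_binv_acts))
      refine ⟨τ, hτ, ?_, h2, h3⟩
      rw [h]
      exact h1

end Cfsg.Agent.Lib.Helper28
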