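import Cfsg.Agent.Lib.Helper28.OutMathieu

set_option autoImplicit false

/-!
Every automorphism of `Cfsg.M24` is inner.
-/

namespace Cfsg.Agent.Lib.Helper28

open Cfsg MulAction
open scoped Pointwise

/-- the relations `(a d²)⁵ = 1` and `(a c)³ = 1` -/
def o11_rels : List (List (Fin 3)) :=
  [[0, 2, 2, 0, 2, 2, 0, 2, 2, 0, 2, 2, 0, 2, 2], [0, 1, 0, 1, 0, 1]]

def o11_etab : Fin 2 → Fin 24 → Fin 24 := ![projInvTab, cubeTwistTab]

set_option maxRecDepth 100000 in
theorem o11_rel_hold : ∀ w ∈ o11_rels, ∀ p : Fin 24,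
    w.foldr (fun k y => (Fin.cons shiftTab o11_etab : Fin (2 + 1) → Fin 24 → Fin 24) k y) p = p := by
  decide +kernel

set_option maxRecDepth 1000000 in
set_option maxHeartbeats 4000000 in
theorem o11_rel_check : ∀ (ε : Bool) (i0 i1 : Fin 11),
    (∀ w ∈ o11_rels, ∀ p : Fin 24,
      w.foldr (fun k y => (Fin.cons (if ε then shiftTab else shiftInvTab)
        (fun k x => o11_etab k (o11_btab^[(![i0.val, i1.val] : Fin 2 → ℕ) k] x)) :
          Fin (2 + 1) → Fin 24 → Fin 24) k y) p = p) →
      ε = true ∧ i0 = 0 ∧ i1 = 0 := by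
  decide +kernel

theorem o11_gen_M24 :
    Subgroup.closure (insert m24shift (insert o11_b (Set.range ![projInv, cubeTwist]))) = M24 := by
  apply le_antisymm
  · rw [Subgroup.closure_le]
    intro g hg
    simp only [Set.mem_insert_iff, Set.mem_range] at hg
    rcases hg with rfl | rfl | ⟨k, rfl⟩
    · exact m24shift_mem_M24
    · exact o11_b_mem
    · fin_cases k
      · exact projInv_mem_M24
      · exact cubeTwist_mem_M24
  · rw [← closure_m24gens_eq]
    apply Subgroup.closure_mono
    intro g hg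
    simp only [m24gens, Set.mem_insert_iff, Set.mem_singleton_iff] at hg
    rcases hg with rfl | rfl | rfl
    · exact Set.mem_insert _ _
    · exact Set.mem_insert_of_mem _ (Set.mem_insert_of_mem _ ⟨0, rfl⟩)
    · exact Set.mem_insert_of_mem _ (Set.mem_insert_of_mem _ ⟨1, rfl⟩)

/-- every automorphism of `M24` is inner -/
theorem out_M24 : Nat.card (MulAut ↥M24 ⧸ (MulAut.conj : ↥M24 →* MulAut ↥M24).range) = 1 := by
  apply out_card_one_of_data M24 le_rfl m24shift_mem_M24 o11_b_mem ![projInv, cubeTwist]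
    (fun k => by
      fin_cases k
      · exact projInv_mem_M24
      · exact cubeTwist_mem_M24)
    o11_etab
    (fun k => by
      fin_cases k
      · exact projInv_acts
      · exact cubeTwist_acts)
    ![10, 3]
    (fun k => by
      fin_cases k
      · exact o11_hcb
      · exact o11_hdb)
    (factorization_eq_one_of_card (m := 10644480) (by norm_num) (by rw [card_M24]) (by norm_num))
    o11_gen_M24 o11_rels o11_rel_hold
  intro ε i hi hw
  have hieq : i = ![(⟨i 0, hi 0⟩ : Fin 11).val, (⟨i 1, hi 1⟩ : Fin 11).val] := by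
    funext k
    fin_cases k <;> rfl
  rw [hieq] at hw
  obtain ⟨h1, h2, h3⟩ := o11_rel_check ε ⟨i 0, hi 0⟩ ⟨i 1, hi 1⟩ hw
  refine ⟨h1, fun k => ?_⟩
  fin_cases k
  · exact congrArg Fin.val h2
  · exact congrArg Fin.val h3

end Cfsg.Agent.Lib.Helper28
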