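import Cfsg.Agent.Lib.Helper28.OutM24

set_option autoImplicit false

/-!
Subgroups `H ≤ M24` containing `t ↦ t + 1` and `t ↦ 2t`, generated by them and further elements
normalizing `⟨t ↦ 2t⟩`: if finitely many table relations single out the generators, every
automorphism of `H` is inner.
-/

namespace Cfsg.Agent.Lib.Helper28

open Cfsg MulAction
open scoped Pointwise

theorem tActs_letters {n : ℕ} {a' : Equiv.Perm GolayPt} {ta : Fin 24 → Fin 24} (ha' : TActs a' ta)
    {e : Fin n → Equiv.Perm GolayPt} {etab : Fin n → Fin 24 → Fin 24}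
    (he : ∀ k, TActs (e k) (etab k)) {b : Equiv.Perm GolayPt} {btab : Fin 24 → Fin 24}
    (hb : TActs b btab) (i : Fin n → ℕ) (k : Fin (n + 1)) :
    TActs ((Fin.cons a' (fun k => e k * b ^ i k) : Fin (n + 1) → Equiv.Perm GolayPt) k)
      ((Fin.cons ta (fun k x => etab k (btab^[i k] x)) : Fin (n + 1) → Fin 24 → Fin 24) k) := by
  refine Fin.cases ?_ (fun l => ?_) k
  · simp only [Fin.cons_zero]
    exact ha'
  · simp only [Fin.cons_succ]
    exact (he l).mul (hb.pow (i l))

theorem tActs_letters0 {n : ℕ} {a' : Equiv.Perm GolayPt} {ta : Fin 24 → Fin 24}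
    (ha' : TActs a' ta) {e : Fin n → Equiv.Perm GolayPt} {etab : Fin n → Fin 24 → Fin 24}
    (he : ∀ k, TActs (e k) (etab k)) (k : Fin (n + 1)) :
    TActs ((Fin.cons a' e : Fin (n + 1) → Equiv.Perm GolayPt) k)
      ((Fin.cons ta etab : Fin (n + 1) → Fin 24 → Fin 24) k) := by
  refine Fin.cases ?_ (fun l => ?_) k
  · simp only [Fin.cons_zero]
    exact ha'
  · simp only [Fin.cons_succ]
    exact he l

theorem o11_mult : ∀ k : Fin 23, 0 < k.val →
    ∃ i : Fin 11, (k.val * 2 ^ i.val) % 23 = 1 ∨ (k.val * 2 ^ i.val) % 23 = 22 := by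
  decide

theorem out_card_one_of_data (H : Subgroup (Equiv.Perm GolayPt)) (hH : H ≤ M24)
    (ha : m24shift ∈ H) (hb : o11_b ∈ H) {n : ℕ} (e : Fin n → Equiv.Perm GolayPt)
    (he : ∀ k, e k ∈ H) (etab : Fin n → Fin 24 → Fin 24) (hetab : ∀ k, TActs (e k) (etab k))
    (m : Fin n → ℕ) (heb : ∀ k, e k * o11_b * (e k)⁻¹ = o11_b ^ m k)
    (hfac : (Nat.card H).factorization 23 = 1)
    (hgen : Subgroup.closure (insert m24shift (insert o11_b (Set.range e))) = H)
    (rels : List (List (Fin (n + 1))))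
    (hR : ∀ w ∈ rels, ∀ p : Fin 24,
      w.foldr (fun k y => (Fin.cons shiftTab etab : Fin (n + 1) → Fin 24 → Fin 24) k y) p = p)
    (hcheck : ∀ (ε : Bool) (i : Fin n → ℕ), (∀ k, i k < 11) →
      (∀ w ∈ rels, ∀ p : Fin 24,
        w.foldr (fun k y => (Fin.cons (if ε then shiftTab else shiftInvTab)
          (fun k x => etab k (o11_btab^[i k] x)) : Fin (n + 1) → Fin 24 → Fin 24) k y) p = p) →
      ε = true ∧ ∀ k, i k = 0) :
    Nat.card (MulAut ↥H ⧸ (MulAut.conj : ↥H →* MulAut ↥H).range) = 1 := by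
  have : Fact (Nat.Prime 23) := ⟨by norm_num⟩
  have : Fact (Nat.Prime 11) := ⟨by norm_num⟩
  apply card_out_eq_one
  set aM : ↥H := ⟨m24shift, ha⟩ with haM
  set bM : ↥H := ⟨o11_b, hb⟩ with hbM
  set eM : Fin n → ↥H := fun k => ⟨e k, he k⟩ with heM
  have hoa : orderOf aM = 23 := by
    apply orderOf_eq_prime
    · apply Subtype.ext
      rw [Subgroup.coe_pow, Subgroup.coe_one]
      exact shift_pow
    · intro h
      exact shift_ne_one (congrArg Subtype.val h)
  have hob : orderOf bM = 11 := by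
    apply orderOf_eq_prime
    · apply Subtype.ext
      rw [Subgroup.coe_pow, Subgroup.coe_one]
      exact o11_b_pow
    · intro h
      exact o11_b_ne_one (congrArg Subtype.val h)
  have hval : ∀ (x : Fin (n + 1) → ↥H) (w : List (Fin (n + 1))),
      ((evalW x w : ↥H) : Equiv.Perm GolayPt) = evalW (fun k => ((x k : ↥H) : Equiv.Perm GolayPt)) w :=
    fun x w => map_evalW H.subtype x w
  apply aut_inner_of_gens 23 11 2 1 (by norm_num) aM bM eM m hfac hoa hob
  · -- hba
    apply Subtype.ext
    rw [Subgroup.coe_mul, Subgroup.coe_mul, Subgroup.coe_inv, Subgroup.coe_pow]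
    exact o11_hba
  · norm_num
  · intro k hk0 hk23
    obtain ⟨i, hi⟩ := o11_mult ⟨k, hk23⟩ hk0
    exact ⟨i.val, hi⟩
  · -- hCa
    intro g hc
    rw [coe_mem_zpowers_iff]
    apply cent_shift
    have := congrArg Subtype.val hc
    rw [Subgroup.coe_mul, Subgroup.coe_mul] at this
    exact this
  · -- hCb
    intro g hc
    rw [coe_mem_zpowers_iff]
    apply cent_o11_b (hH g.2)
    have := congrArg Subtype.val hc
    rw [Subgroup.coe_mul, Subgroup.coe_mul] at this
    exact this
  · -- heb
    intro k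
    apply Subtype.ext
    rw [Subgroup.coe_mul, Subgroup.coe_mul, Subgroup.coe_inv, Subgroup.coe_pow]
    exact heb k
  · -- hgen
    apply closure_eq_top_of_subtype _ _ hgen
    intro g hg
    simp only [Set.mem_insert_iff, Set.mem_range] at hg
    rcases hg with rfl | rfl | ⟨k, rfl⟩
    · exact ⟨ha, Set.mem_insert _ _⟩
    · exact ⟨hb, Set.mem_insert_of_mem _ (Set.mem_insert _ _)⟩
    · exact ⟨he k, Set.mem_insert_of_mem _ (Set.mem_insert_of_mem _ ⟨k, rfl⟩)⟩
  · -- hR
    intro w hw
    apply Subtype.ext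
    rw [hval, Subgroup.coe_one]
    have hfun : (fun k => (((Fin.cons aM eM : Fin (n + 1) → ↥H) k : ↥H) : Equiv.Perm GolayPt)) =
        (Fin.cons m24shift e : Fin (n + 1) → Equiv.Perm GolayPt) := by
      funext k
      refine Fin.cases ?_ (fun l => ?_) k
      · simp only [Fin.cons_zero]; rfl
      · simp only [Fin.cons_succ]; rfl
    rw [hfun]
    exact TActs.ext (tActs_evalW _ _ (tActs_letters0 shift_acts hetab) w) TActs.one (hR w hw)
  · -- hrel
    intro a' i ha' hi hw
    have hfun : (fun k => (((Fin.cons a' (fun k => eM k * bM ^ i k) : Fin (n + 1) → ↥H) k : ↥H) :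
        Equiv.Perm GolayPt)) =
        (Fin.cons (a' : Equiv.Perm GolayPt) (fun k => e k * o11_b ^ i k) :
          Fin (n + 1) → Equiv.Perm GolayPt) := by
      funext k
      refine Fin.cases ?_ (fun l => ?_) k
      · simp only [Fin.cons_zero]
      · simp only [Fin.cons_succ]; rfl
    have key : ∀ (ε : Bool) (ta : Fin 24 → Fin 24), ta = (if ε then shiftTab else shiftInvTab) →
        TActs (a' : Equiv.Perm GolayPt) ta → ε = true ∧ ∀ k, i k = 0 := by
      intro ε ta hta hact
      apply hcheck ε i hi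
      intro w hw' p
      have h1 := congrArg Subtype.val (hw w hw')
      rw [hval, Subgroup.coe_one, hfun] at h1
      have h2 := tActs_evalW _ _ (tActs_letters hact hetab o11_b_acts i) w
      rw [h1] at h2
      rw [← hta]
      exact (TActs.tab_eq h2 TActs.one p)
    rcases ha' with h | h
    · obtain ⟨_, h2⟩ := key true shiftTab rfl (by rw [h]; exact shift_acts)
      exact ⟨h, h2⟩
    · obtain ⟨h1, _⟩ := key false shiftInvTab rfl (by
        rw [h, Subgroup.coe_inv]; exact shiftInv_acts)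
      exact absurd h1 (by decide)

end Cfsg.Agent.Lib.Helper28
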