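import Cfsg.Agent.Lib.Helper28.PGenSimple2

/-!
# Normal subgroups of groups generated by elements of prime order

Let `g ^ p = 1` for a prime `p`, and let `N` be a normal subgroup whose order is prime to `p` such
that `p` divides no `q ^ k - 1` with `q ^ k` a prime power dividing `|N|`, `k ≥ 1`.  Then `g`
centralizes `N` (it normalizes a Sylow `q`-subgroup of `N` for every `q` and centralizes it by
counting).  Consequently, in a group generated by elements of the prime orders exactly dividing its
order, every normal subgroup is the whole group or central.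
-/

set_option autoImplicit false

namespace Cfsg.Agent.Lib.Helper28.PGenSimple

open scoped Pointwise

/-- an element `g` with `g ^ p = 1` centralizes a normal subgroup `N` of order prime to `p` if `p`
divides no `q ^ k - 1` for the prime powers `q ^ k > 1` dividing `|N|` -/
theorem commute_of_sylow {G : Type*} [Group G] [Finite G] (N : Subgroup G) [hN : N.Normal]
    (p : ℕ) (hp : p.Prime) (hpN : ¬ p ∣ Nat.card N)
    (hord : ∀ q k : ℕ, q.Prime → 1 ≤ k → q ^ k ∣ Nat.card N → ¬ p ∣ q ^ k - 1)
    (g : G) (hg : g ^ p = 1) : ∀ n ∈ N, g * n = n * g := by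
  classical
  haveI : Fact p.Prime := ⟨hp⟩
  let φ : MulAut N := MulAut.conjNormal g
  have hφp : φ ^ p = 1 := by
    show (MulAut.conjNormal g : MulAut N) ^ p = 1
    rw [← map_pow, hg, map_one]
  let A : Subgroup (MulAut N) := Subgroup.zpowers φ
  have hA : IsPGroup p A := by
    rintro ⟨a, ha⟩
    obtain ⟨j, rfl⟩ := Subgroup.mem_zpowers_iff.mp ha
    refine ⟨1, ?_⟩
    apply Subtype.ext
    show (φ ^ j) ^ p ^ 1 = 1
    rw [pow_one, ← zpow_natCast, ← zpow_mul, mul_comm, zpow_mul, zpow_natCast, hφp, one_zpow]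
  have hφA : φ ∈ A := Subgroup.mem_zpowers φ
  -- the subgroup of fixed points
  let C : Subgroup N :=
    { carrier := {x | ∀ a : A, a • x = x}
      mul_mem' := fun {x y} hx hy a => by rw [smul_mul', hx a, hy a]
      one_mem' := fun a => smul_one a
      inv_mem' := fun {x} hx a => by rw [smul_inv', hx a] }
  have hCmem : ∀ x : N, x ∈ C ↔ ∀ a : A, a • x = x := fun x => Iff.rfl
  have hNpos : Nat.card N ≠ 0 := Nat.card_pos.ne'
  have hCpos : Nat.card C ≠ 0 := Nat.card_pos.ne'
  -- every Sylow subgroup of `N` has a conjugate inside `C`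
  have hsyl : ∀ q : ℕ, q.Prime → q ^ (Nat.card N).factorization q ∣ Nat.card C := by
    intro q hq
    haveI : Fact q.Prime := ⟨hq⟩
    have hnd : ¬ p ∣ Nat.card (Sylow q N) := by
      intro h
      obtain ⟨P0⟩ : Nonempty (Sylow q N) := inferInstance
      exact hpN (dvd_trans h (dvd_trans (Sylow.card_dvd_index P0) (Subgroup.index_dvd_card _)))
    obtain ⟨P, hP⟩ := hA.nonempty_fixed_point_of_prime_not_dvd_card (Sylow q N) hnd
    have hPfix : ∀ a : A, ∀ x : N, x ∈ (P : Subgroup N) → a • x ∈ (P : Subgroup N) := by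
      intro a x hx
      have h1 : a • P = P := hP a
      have h2 : a • x ∈ a • (P : Subgroup N) := Subgroup.smul_mem_pointwise_smul x a _ hx
      have h3 : ((a • P : Sylow q N) : Subgroup N) = a • (P : Subgroup N) :=
        Sylow.pointwise_smul_def
      rw [← h3, h1] at h2
      exact h2
    let S : SubMulAction A N :=
      { carrier := ((P : Subgroup N) : Set N)
        smul_mem' := fun a x hx => hPfix a x hx }
    have hmod := hA.card_modEq_card_fixedPoints S
    -- the fixed points form a subgroup
    let D : Subgroup N := (P : Subgroup N) ⊓ C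
    have hDP : D ≤ (P : Subgroup N) := inf_le_left
    have hcardS : Nat.card S = Nat.card (P : Subgroup N) := rfl
    have hcardF : Nat.card (MulAction.fixedPoints A S) = Nat.card D := by
      apply Nat.card_congr
      refine
        { toFun := fun x => ⟨x.1.1, ⟨x.1.2, fun a => congrArg Subtype.val (x.2 a)⟩⟩
          invFun := fun y => ⟨⟨y.1, y.2.1⟩, fun a => Subtype.ext (y.2.2 a)⟩
          left_inv := fun x => rfl
          right_inv := fun y => rfl }
    rw [hcardS, hcardF] at hmod
    have hPcard : Nat.card (P : Subgroup N) = q ^ (Nat.card N).factorization q :=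
      P.card_eq_multiplicity
    set a := (Nat.card N).factorization q with ha
    have hDdvd : Nat.card D ∣ q ^ a := by
      rw [← hPcard]
      exact Subgroup.card_dvd_of_le hDP
    obtain ⟨c, hca, hDc⟩ := (Nat.dvd_prime_pow hq).mp hDdvd
    have hac : a = c := by
      by_contra hne
      have hlt : c < a := lt_of_le_of_ne hca (Ne.symm hne)
      rw [hPcard, hDc] at hmod
      have h1 : p ∣ q ^ a - q ^ c :=
        (Nat.modEq_iff_dvd' (Nat.pow_le_pow_right hq.pos hca)).mp hmod.symm
      have h2 : q ^ a - q ^ c = q ^ c * (q ^ (a - c) - 1) := by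
        rw [Nat.mul_sub, mul_one, ← pow_add, Nat.add_sub_cancel' hca]
      rw [h2] at h1
      have hqa : q ^ a ∣ Nat.card N := Nat.ordProj_dvd _ _
      rcases (Nat.Prime.dvd_mul hp).mp h1 with h3 | h3
      · have h4 : p ∣ q := hp.dvd_of_dvd_pow h3
        have h5 : p = q := (Nat.prime_dvd_prime_iff_eq hp hq).mp h4
        apply hpN
        rw [h5]
        exact dvd_trans (dvd_pow_self q (by omega)) hqa
      · exact hord q (a - c) hq (by omega)
          (dvd_trans (pow_dvd_pow q (Nat.sub_le a c)) hqa) h3
    have hDeq : D = (P : Subgroup N) := by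
      apply Subgroup.eq_of_le_of_card_ge hDP
      rw [hPcard, hDc, hac]
    have hPC : (P : Subgroup N) ≤ C := by
      rw [← hDeq]
      exact inf_le_right
    rw [← hPcard]
    exact Subgroup.card_dvd_of_le hPC
  have hdvd : Nat.card N ∣ Nat.card C := by
    rw [← Nat.factorization_prime_le_iff_dvd hNpos hCpos]
    intro q hq
    exact (hq.pow_dvd_iff_le_factorization hCpos).mp (hsyl q hq)
  have hCtop : C = ⊤ := by
    apply Subgroup.eq_top_of_card_eq
    exact Nat.dvd_antisymm (Subgroup.card_subgroup_dvd_card C) hdvd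
  intro n hn
  have h1 : (⟨n, hn⟩ : N) ∈ C := by rw [hCtop]; exact Subgroup.mem_top _
  have h2 := (hCmem _).mp h1 ⟨φ, hφA⟩
  have h3 : φ ⟨n, hn⟩ = ⟨n, hn⟩ := h2
  have h4 := congrArg Subtype.val h3
  have h5 : g * n * g⁻¹ = n := h4
  calc g * n = (g * n * g⁻¹) * g := by group
    _ = n * g := by rw [h5]

/-- every normal subgroup is the whole group or central -/
theorem normal_top_or_central {G : Type*} [Group G] [Finite G] (S : Set G)
    (hS : Subgroup.closure S = ⊤) (m p : ℕ) (R : List ℕ)
    (hcard : Nat.card G = m * R.prod)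
    (hR : ∀ r ∈ R, r.Prime ∧ ¬ r * r ∣ Nat.card G) (hp : p ∈ R)
    (hord : ∀ q k : ℕ, q.Prime → 1 ≤ k → q ^ k ∣ m → ¬ p ∣ q ^ k - 1)
    (hprod : ∀ r ∈ R, ∀ t ∈ S, ∃ a b : G, a ^ r = 1 ∧ b ^ r = 1 ∧ t = a * b)
    (N : Subgroup G) [hN : N.Normal] : N = ⊤ ∨ N ≤ Subgroup.center G := by
  by_cases htop : N = ⊤
  · exact Or.inl htop
  right
  have hcardN : Nat.card N * N.index = Nat.card G := Subgroup.card_mul_index N
  have hnot : ∀ r ∈ R, ¬ r ∣ Nat.card N := by
    intro r hr hdvd
    apply htop
    have hidx : ¬ r ∣ N.index := by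
      intro h
      apply (hR r hr).2
      rw [← hcardN]; exact mul_dvd_mul hdvd h
    rw [eq_top_iff, ← hS, Subgroup.closure_le]
    intro t ht
    obtain ⟨a, b, ha, hb, rfl⟩ := hprod r hr t ht
    exact N.mul_mem (mem_of_pow_eq_one N r (hR r hr).1 hidx a ha)
      (mem_of_pow_eq_one N r (hR r hr).1 hidx b hb)
  have hcop : Nat.Coprime (Nat.card N) R.prod := by
    rw [Nat.coprime_list_prod_right_iff]
    intro r hr
    exact ((Nat.Prime.coprime_iff_not_dvd (hR r hr).1).mpr (hnot r hr)).symm
  have hdm : Nat.card N ∣ m := by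
    have h2 : Nat.card N ∣ m * R.prod := by rw [← hcard]; exact Dvd.intro _ hcardN
    exact hcop.dvd_of_dvd_mul_right h2
  have hpp := (hR p hp).1
  have hcomm : ∀ g : G, g ^ p = 1 → ∀ n ∈ N, g * n = n * g :=
    fun g hg => commute_of_sylow N p hpp (hnot p hp)
      (fun q k hq hk hqk => hord q k hq hk (dvd_trans hqk hdm)) g hg
  intro n hn
  rw [Subgroup.mem_center_iff]
  have hcl : ∀ t ∈ Subgroup.closure S, t * n = n * t := by
    intro t ht
    induction ht using Subgroup.closure_induction with
    | mem t ht =>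
      obtain ⟨a, b, ha, hb, rfl⟩ := hprod p hp t ht
      have k1 := hcomm a ha n hn
      have k2 := hcomm b hb n hn
      calc a * b * n = a * (b * n) := by rw [mul_assoc]
        _ = a * (n * b) := by rw [k2]
        _ = (a * n) * b := by rw [mul_assoc]
        _ = (n * a) * b := by rw [k1]
        _ = n * (a * b) := by rw [mul_assoc]
    | one => rw [one_mul, mul_one]
    | mul x y _ _ hx hy =>
      calc x * y * n = x * (y * n) := by rw [mul_assoc]
        _ = x * (n * y) := by rw [hy]
        _ = (x * n) * y := by rw [mul_assoc]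
        _ = (n * x) * y := by rw [hx]
        _ = n * (x * y) := by rw [mul_assoc]
    | inv x _ hx =>
      calc x⁻¹ * n = x⁻¹ * (n * x) * x⁻¹ := by group
        _ = x⁻¹ * (x * n) * x⁻¹ := by rw [hx]
        _ = n * x⁻¹ := by group
  intro t
  exact hcl t (by rw [hS]; exact Subgroup.mem_top t)

end Cfsg.Agent.Lib.Helper28.PGenSimple
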