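import Cfsg.Agent.Lib.Helper28.Data1601
import Cfsg.Agent.Lib.Helper28.CentInvM11
import Cfsg.Agent.Lib.Helper28.PermSimple
import Cfsg.Agent.Lib.Helper28.DodecadPair
import Cfsg.Agent.Lib.Helper28.M9Struct
import Cfsg.Agent.Lib.Helper28.ElemFix
import Cfsg.Agent.Lib.Helper28.CertClasses2
import Cfsg.Agent.Lib.Helper28.OctadStab
import Cfsg.Agent.S0498

set_option autoImplicit false

/-!
The stabilizer of a dodecad, a point on it and a point outside it is a simple group of order 660,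
hence isomorphic to `PSL(2, 11)`.
-/

namespace Cfsg.Agent.Lib.Helper28

open Cfsg MulAction
open scoped Pointwise

theorem inj3 {α : Type*} (a b c : α) (hab : a ≠ b) (hac : a ≠ c) (hbc : b ≠ c) :
    Function.Injective ![a, b, c] := by
  intro i j h
  fin_cases i <;> fin_cases j <;> simp_all

/-- the stabilizer of the base dodecad and the points `0` and `6` -/
def psL : Subgroup (Equiv.Perm GolayPt) := m11B ⊓ stabilizer (Equiv.Perm GolayPt) (ptN 6)

theorem mem_psL {g : Equiv.Perm GolayPt} :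
    g ∈ psL ↔ g ∈ M24 ∧ g • ptSet m9_base = ptSet m9_base ∧ g (ptN 0) = ptN 0 ∧
      g (ptN 6) = ptN 6 := by
  unfold psL
  rw [Subgroup.mem_inf, mem_m11B, and_assoc, and_assoc]
  exact Iff.rfl

theorem ptSet_single (a : ℕ) : ptSet [a] = {ptN a} := by
  simp [ptSet]

theorem psL_fix : ∀ c ∈ psL, c • ptSet [6] = ptSet [6] := by
  intro c hc
  rw [ptSet_single, Finset.smul_finset_singleton]
  congr 1
  exact (mem_psL.mp hc).2.2.2

theorem psL_card_le : Nat.card psL ≤ 660 := by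
  have hs := ps_omodel.nodes_sound m11B ci_mtabs ci_mgens [6] (show GoodSet [6] by decide)
    ps_ocert
  have hnd : ((ps_omodel.nodes ci_mtabs [6] ps_ocert).map ptSet).Nodup :=
    ps_omodel.sem_nodup _ (fun x hx => (hs x hx).1) ps_ocheck.1
  have key := card_mul_le_of_orbit m11B psL (ptSet [6]) inf_le_left psL_fix _ hnd (by
    intro z hz
    obtain ⟨x, hx, rfl⟩ := List.mem_map.mp hz
    exact (hs x hx).2)
  rw [List.length_map, ps_ocheck.2.1, m11B_card] at key
  have e : (7920 : ℕ) = 660 * 12 := by norm_num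
  rw [e] at key
  exact Nat.le_of_mul_le_mul_right key (by norm_num)

theorem ps_l_facts : ∀ l ∈ [ps_l1, ps_l2],
    GoodPerm l ∧ permOfList l ∈ psL ∧ permOfList l ^ 11 = 1 := by
  intro l hl
  obtain ⟨hM, hpow, hset, h0, h6⟩ := ps_gens_check.1 l hl
  have hgood := hM.1
  refine ⟨hgood, mem_psL.mpr ⟨hM.mem, ?_, ?_, ?_⟩, (pow_eq_one_iff_powL hgood 11).mpr hpow⟩
  · rw [smul_ptSet_permOfList hgood m9_base_check.1]
    exact ptSet_eq_of_setEqB hset
  · rw [permOfList_ptN hgood (by norm_num), h0]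
  · rw [permOfList_ptN hgood (by norm_num), h6]

/-- the generating set -/
noncomputable def psS : Set (Equiv.Perm GolayPt) := {permOfList ps_l1, permOfList ps_l2}

theorem ps_hgens (H : Subgroup (Equiv.Perm GolayPt)) (h1 : permOfList ps_l1 ∈ H)
    (h2 : permOfList ps_l2 ∈ H) : ∀ t ∈ ps_tabs, ∃ g ∈ H, ActsBy g t := by
  intro t ht
  obtain ⟨i, hi, rfl⟩ := List.mem_iff_getElem.mp ht
  have hlen := ps_gens_check.2.2.2
  have hi2 : i < 2 := by rw [← hlen]; exact hi
  rw [← List.getD_eq_getElem ps_tabs 0 hi]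
  interval_cases i
  · exact ⟨permOfList ps_l1, h1,
      actsBy_permOfList (ps_l_facts ps_l1 (by simp)).1 ps_gens_check.2.1⟩
  · exact ⟨permOfList ps_l2, h2,
      actsBy_permOfList (ps_l_facts ps_l2 (by simp)).1 ps_gens_check.2.2.1⟩

theorem ps_enum : Nat.card psL = 660 ∧
    ∀ g ∈ psL, ∃ l ∈ ps_model.nodes ps_tabs idList ps_cert, GoodPerm l ∧ g = permOfList l :=
  elems_of_cert_le _ psL ps_tabs
    (ps_hgens psL (ps_l_facts _ (by simp)).2.1 (ps_l_facts _ (by simp)).2.1) ps_cert 660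
    psL_card_le ps_check.1 ps_check.2

theorem psL_le_closure : psL ≤ Subgroup.closure psS := by
  intro g hg
  obtain ⟨l, hl, hgood, rfl⟩ := ps_enum.2 g hg
  obtain ⟨_, g', hg', hgx⟩ := ps_model.nodes_sound (Subgroup.closure psS) ps_tabs
    (ps_hgens _ (Subgroup.subset_closure (by simp [psS]))
      (Subgroup.subset_closure (by simp [psS]))) idList goodPerm_idList ps_cert l hl
  have h1 : g' * permOfList idList = permOfList l := hgx
  rw [permOfList_idList, mul_one] at h1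
  rw [← h1]
  exact hg'

/-- the eleven points outside the base dodecad other than `6` -/
def psD : Set GolayPt := {x | x ∉ ptSet m9_base ∧ x ≠ ptN 6}

theorem pt6_not_mem : ptN 6 ∉ ptSet m9_base := by
  rw [ptN_mem_ptSet m9_base_check.1 (by norm_num)]
  decide

theorem psD_ncard : psD.ncard = 11 := by
  classical
  have : psD = (((ptSet m9_base)ᶜ.erase (ptN 6) : Finset GolayPt) : Set GolayPt) := by
    ext x
    simp [psD, and_comm]
  rw [this, Set.ncard_coe_finset, Finset.card_erase_of_mem (Finset.mem_compl.mpr pt6_not_mem),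
    Finset.card_compl, fintype_card_golayPt, dodecad_card m9_base_check.mem]

theorem psL_faithfulOn : FaithfulOn psL psD where
  inv := by
    intro g hg x hx
    obtain ⟨-, hgd, -, hg6⟩ := mem_psL.mp hg
    refine ⟨fun hcon => hx.1 ?_, fun hcon => hx.2 (g.injective (hcon.trans hg6.symm))⟩
    rw [← hgd] at hcon
    exact (Finset.smul_mem_smul_finset_iff g).mp hcon
  faithful := by
    intro g hg hfix
    obtain ⟨hgM, hgd, -, -⟩ := mem_psL.mp hg
    have hc := compl_mem_dodecads m9_base_check.mem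
    have h24 : ∀ a ∈ [7, 8, 10, 13, 14], a < 24 := by decide
    have hout : ∀ a ∈ [7, 8, 10, 13, 14], a ∉ m9_base := by decide
    apply eq_one_of_fix_five hc hgM (by rw [smul_finset_compl', hgd]) (ptSet [7, 8, 10, 13, 14])
    · intro y hy
      obtain ⟨a, ha, rfl⟩ := mem_ptSet.mp hy
      rw [Finset.mem_compl, ptN_mem_ptSet m9_base_check.1 (h24 a ha)]
      exact hout a ha
    · rw [card_ptSet (by decide)]
      decide
    · intro y hy
      apply hfix
      obtain ⟨a, ha, rfl⟩ := mem_ptSet.mp hy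
      refine ⟨?_, ?_⟩
      · rw [ptN_mem_ptSet m9_base_check.1 (h24 a ha)]
        exact hout a ha
      · intro h
        have := ptN_inj (h24 a ha) (by norm_num) h
        rw [this] at ha
        revert ha
        decide

theorem psL_twoTransOn : TwoTransOn psL psD := by
  intro x hx y hy hxy x' hx' y' hy' hxy'
  have hd₀ := m9_base_check.mem
  have h6 := pt6_not_mem
  let X : Fin 3 ↪ GolayPt := ⟨![ptN 6, x, y], inj3 _ _ _ (Ne.symm hx.2) (Ne.symm hy.2) hxy⟩
  let Y : Fin 3 ↪ GolayPt := ⟨![ptN 6, x', y'], inj3 _ _ _ (Ne.symm hx'.2) (Ne.symm hy'.2) hxy'⟩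
  obtain ⟨g, hg, hgd, hgp, hgX⟩ := dodecad_point_three_transitive hd₀ pt0_mem_base X Y
    (by
      intro i
      fin_cases i
      · exact h6
      · exact hx.1
      · exact hy.1)
    (by
      intro i
      fin_cases i
      · exact h6
      · exact hx'.1
      · exact hy'.1)
  exact ⟨g, mem_psL.mpr ⟨hg, hgd, hgp, hgX 0⟩, hgX 1, hgX 2⟩

theorem psL_nontrivial : Nontrivial psL := by
  rw [← Finite.one_lt_card_iff_nontrivial, ps_enum.1]
  norm_num

theorem pt7_mem_psD : ptN 7 ∈ psD := by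
  refine ⟨?_, ?_⟩
  · rw [ptN_mem_ptSet m9_base_check.1 (by norm_num)]
    decide
  · intro h
    have := ptN_inj (by norm_num) (by norm_num) h
    norm_num at this

/-- the base group is simple -/
theorem psL_isSimpleGroup : IsSimpleGroup psL := by
  apply isSimpleGroup_of_prime_gens psL_faithfulOn psL_twoTransOn (ptN 7) pt7_mem_psD 11
    (by norm_num) (by rw [psD_ncard]) (by rw [ps_enum.1]; norm_num) psS _ psL_le_closure
    psL_nontrivial
  intro s hs
  unfold psS at hs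
  rcases hs with rfl | rfl
  · exact ⟨(ps_l_facts ps_l1 (by simp)).2.1, (ps_l_facts ps_l1 (by simp)).2.2⟩
  · exact ⟨(ps_l_facts ps_l2 (by simp)).2.1, (ps_l_facts ps_l2 (by simp)).2.2⟩

/-! ### transport -/

theorem m11B_trans_out : ∀ z, z ∉ ptSet m9_base → ∃ g ∈ m11B, g (ptN 6) = z := by
  intro z hz
  obtain ⟨a, ha, rfl⟩ : ∃ a, a < 24 ∧ ptN a = z := ⟨(ptInv z).val, (ptInv z).2, ptN_ptInv z⟩
  have ha' : a ∉ m9_base := by rwa [ptN_mem_ptSet m9_base_check.1 ha] at hz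
  have hout := m9_out_check.1 a ha ha'
  have hnode := ps_ocheck.2.2 a hout
  obtain ⟨_, g, hg, hgx⟩ := ps_omodel.nodes_sound m11B ci_mtabs ci_mgens [6]
    (show GoodSet [6] by decide) ps_ocert [a] hnode
  have h1 : g • ptSet [6] = ptSet [a] := hgx
  refine ⟨g, hg, ?_⟩
  rw [ptSet_single, ptSet_single, Finset.smul_finset_singleton, Finset.singleton_inj] at h1
  exact h1

theorem exists_map_dpq {d : Finset GolayPt} (hd : d ∈ dodecads) {p q : GolayPt} (hp : p ∈ d)
    (hq : q ∉ d) : ∃ g ∈ M24, g • d = ptSet m9_base ∧ g p = ptN 0 ∧ g q = ptN 6 := by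
  obtain ⟨g₁, hg₁, hg₁d, hmap⟩ := M24_dodecad_list_transitive hd m9_base_check.mem [p] [ptN 0]
    (List.nodup_singleton _) (List.nodup_singleton _) (by simpa using hp)
    (by simpa using pt0_mem_base) rfl (by simp)
  have hg₁p : g₁ p = ptN 0 := by simpa using hmap
  have hq' : g₁ q ∉ ptSet m9_base := by
    intro hcon
    rw [← hg₁d] at hcon
    exact hq ((Finset.smul_mem_smul_finset_iff g₁).mp hcon)
  obtain ⟨k, hk, hkq⟩ := m11B_trans_out _ hq'
  obtain ⟨hkM, hkd, hk0⟩ := mem_m11B.mp hk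
  refine ⟨k⁻¹ * g₁, M24.mul_mem (M24.inv_mem hkM) hg₁, ?_, ?_, ?_⟩
  · rw [mul_smul, hg₁d, inv_smul_eq_iff, hkd]
  · rw [Equiv.Perm.mul_apply, hg₁p]
    calc k⁻¹ (ptN 0) = k⁻¹ (k (ptN 0)) := by rw [hk0]
      _ = ptN 0 := c2b_inv_apply k _
  · rw [Equiv.Perm.mul_apply, ← hkq, c2b_inv_apply]

section General

variable {d : Finset GolayPt} {p q : GolayPt} {g : Equiv.Perm GolayPt}

theorem conj_mem_psL (hg : g ∈ M24) (hgd : g • d = ptSet m9_base) (hgp : g p = ptN 0)
    (hgq : g q = ptN 6) (z : ↥(stabilizer M24 d ⊓ stabilizer M24 p ⊓ stabilizer M24 q)) :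
    g * (z.1.1 : Equiv.Perm GolayPt) * g⁻¹ ∈ psL := by
  have hzd : (z.1.1 : Equiv.Perm GolayPt) • d = d :=
    (Subgroup.mem_inf.mp (Subgroup.mem_inf.mp z.2).1).1
  have hzp : (z.1.1 : Equiv.Perm GolayPt) p = p :=
    (Subgroup.mem_inf.mp (Subgroup.mem_inf.mp z.2).1).2
  have hzq : (z.1.1 : Equiv.Perm GolayPt) q = q := (Subgroup.mem_inf.mp z.2).2
  refine mem_psL.mpr ⟨M24.mul_mem (M24.mul_mem hg z.1.2) (M24.inv_mem hg), ?_, ?_, ?_⟩
  · rw [← hgd, mul_smul, mul_smul, inv_smul_smul, hzd]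
  · rw [← hgp, Equiv.Perm.mul_apply, Equiv.Perm.mul_apply, c2b_inv_apply, hzp]
  · rw [← hgq, Equiv.Perm.mul_apply, Equiv.Perm.mul_apply, c2b_inv_apply, hzq]

theorem conj_inv_mem_dpq (hg : g ∈ M24) (hgd : g • d = ptSet m9_base) (hgp : g p = ptN 0)
    (hgq : g q = ptN 6) {k : Equiv.Perm GolayPt} (hk : k ∈ psL) :
    g⁻¹ * k * g ∈ M24 ∧ (g⁻¹ * k * g) • d = d ∧ (g⁻¹ * k * g) p = p ∧ (g⁻¹ * k * g) q = q := by
  obtain ⟨hkM, hkd, hkp, hkq⟩ := mem_psL.mp hk
  refine ⟨M24.mul_mem (M24.mul_mem (M24.inv_mem hg) hkM) hg, ?_, ?_, ?_⟩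
  · rw [mul_smul, mul_smul, hgd, hkd, ← hgd, inv_smul_smul]
  · rw [Equiv.Perm.mul_apply, Equiv.Perm.mul_apply, hgp, hkp, ← hgp, c2b_inv_apply]
  · rw [Equiv.Perm.mul_apply, Equiv.Perm.mul_apply, hgq, hkq, ← hgq, c2b_inv_apply]

/-- conjugation onto the base group -/
def psEquiv (hg : g ∈ M24) (hgd : g • d = ptSet m9_base) (hgp : g p = ptN 0)
    (hgq : g q = ptN 6) :
    ↥(stabilizer M24 d ⊓ stabilizer M24 p ⊓ stabilizer M24 q) ≃* ↥psL where
  toFun z := ⟨g * (z.1.1 : Equiv.Perm GolayPt) * g⁻¹, conj_mem_psL hg hgd hgp hgq z⟩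
  invFun k := ⟨⟨g⁻¹ * k.1 * g, (conj_inv_mem_dpq hg hgd hgp hgq k.2).1⟩,
    Subgroup.mem_inf.mpr ⟨Subgroup.mem_inf.mpr ⟨(conj_inv_mem_dpq hg hgd hgp hgq k.2).2.1,
      (conj_inv_mem_dpq hg hgd hgp hgq k.2).2.2.1⟩, (conj_inv_mem_dpq hg hgd hgp hgq k.2).2.2.2⟩⟩
  left_inv z := by
    apply Subtype.ext
    apply Subtype.ext
    show g⁻¹ * (g * (z.1.1 : Equiv.Perm GolayPt) * g⁻¹) * g = (z.1.1 : Equiv.Perm GolayPt)
    group
  right_inv k := by
    apply Subtype.ext
    show g * (g⁻¹ * k.1 * g) * g⁻¹ = k.1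
    group
  map_mul' z w := by
    apply Subtype.ext
    show g * ((z.1.1 : Equiv.Perm GolayPt) * (w.1.1 : Equiv.Perm GolayPt)) * g⁻¹ =
      (g * (z.1.1 : Equiv.Perm GolayPt) * g⁻¹) * (g * (w.1.1 : Equiv.Perm GolayPt) * g⁻¹)
    group

end General

/-- the stabilizer of a dodecad, a point on it and a point outside it is `PSL(2, 11)` -/
theorem stab_dpq_psl (d : Finset GolayPt) (hd : d ∈ dodecads) (p q : GolayPt) (hp : p ∈ d)
    (hq : q ∉ d) :
    Nonempty (↥(stabilizer M24 d ⊓ stabilizer M24 p ⊓ stabilizer M24 q) ≃*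
      Matrix.ProjectiveSpecialLinearGroup (Fin 2) (ZMod 11)) := by
  obtain ⟨g, hg, hgd, hgp, hgq⟩ := exists_map_dpq hd hp hq
  haveI : IsSimpleGroup ↥psL := psL_isSimpleGroup
  haveI : IsSimpleGroup ↥(stabilizer M24 d ⊓ stabilizer M24 p ⊓ stabilizer M24 q) :=
    (psEquiv hg hgd hgp hgq).isSimpleGroup
  have hcard : Nat.card ↥(stabilizer M24 d ⊓ stabilizer M24 p ⊓ stabilizer M24 q) = 660 := by
    rw [Nat.card_congr (psEquiv hg hgd hgp hgq).toEquiv]
    exact ps_enum.1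
  haveI : Fact (Nat.Prime 11) := ⟨by norm_num⟩
  have h2 : 2 * Nat.card ↥(stabilizer M24 d ⊓ stabilizer M24 p ⊓ stabilizer M24 q) =
      11 * (11 ^ 2 - 1) := by
    rw [hcard]
    norm_num
  exact Cfsg.Agent.S0498.result 11 (Or.inl rfl) h2 (F := ZMod 11) (ZMod.card 11)

end Cfsg.Agent.Lib.Helper28
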