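import Mathlib

/-!
# Ree's bound (via Scott's lemma) for a transitive action

If `x * y * z = 1`, `x, y` generate `G` and `G` acts transitively on a finite set `Ω` with
`n` points, then the numbers of cycles satisfy `c(x) + c(y) + c(z) ≤ n + 2`.
-/

namespace Cfsg.Agent.Lib.Helper28.Ree

open MulAction

variable {G : Type*} [Group G] {Ω : Type*} [Fintype Ω] [DecidableEq Ω] [MulAction G Ω]

/-- the permutation representation on `Ω → ℚ` -/
noncomputable def rho (g : G) : (Ω → ℚ) →ₗ[ℚ] (Ω → ℚ) :=
  LinearMap.funLeft ℚ ℚ (fun a => g⁻¹ • a)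

theorem rho_apply (g : G) (f : Ω → ℚ) (a : Ω) : rho g f a = f (g⁻¹ • a) := rfl

theorem rho_mul_apply (g h : G) (f : Ω → ℚ) : rho (g * h) f = rho g (rho h f) := by
  funext a
  simp only [rho_apply, mul_inv_rev, mul_smul]

theorem rho_one_apply (f : Ω → ℚ) : rho (1 : G) f = f := by
  funext a
  simp only [rho_apply, inv_one, one_smul]

theorem rho_single (g : G) (i : Ω) :
    rho g (Pi.single i (1 : ℚ)) = Pi.single (g • i) (1 : ℚ) := by
  funext a
  rw [rho_apply, Pi.single_apply, Pi.single_apply]
  by_cases h : a = g • i
  · rw [if_pos h, if_pos (by rw [h, inv_smul_smul])]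
  · rw [if_neg h, if_neg (fun h' => h (by rw [← h', smul_inv_smul]))]

/-- the defect operator `1 - ρ(g)` -/
noncomputable def dOp (g : G) : (Ω → ℚ) →ₗ[ℚ] (Ω → ℚ) := LinearMap.id - rho g

theorem dOp_apply (g : G) (f : Ω → ℚ) : dOp g f = f - rho g f := rfl

/-- dimension of the space of `g`-invariant functions -/
noncomputable def invDim (g : G) : ℕ := Module.finrank ℚ (LinearMap.ker (dOp (Ω := Ω) g))

/-- the subgroup of elements fixing a function -/
def fixer (f : Ω → ℚ) : Subgroup G where
  carrier := {g | ∀ i, f (g • i) = f i}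
  one_mem' := fun i => by rw [one_smul]
  mul_mem' := fun {g h} hg hh i => by rw [mul_smul, hg, hh]
  inv_mem' := fun {g} hg i => by
    have := hg (g⁻¹ • i)
    rw [smul_inv_smul] at this
    exact this.symm

theorem mem_fixer_of_dOp {g : G} {f : Ω → ℚ} (h : dOp g f = 0) : g ∈ fixer (G := G) f := by
  intro i
  rw [dOp_apply, sub_eq_zero] at h
  have := congrFun h (g • i)
  rw [rho_apply, inv_smul_smul] at this
  exact this

/-- the subgroup of elements moving basis vectors inside a submodule -/
def mover (R : Submodule ℚ (Ω → ℚ)) : Subgroup G where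
  carrier := {g | ∀ i, (Pi.single i (1 : ℚ) - Pi.single (g • i) (1 : ℚ) : Ω → ℚ) ∈ R}
  one_mem' := fun i => by rw [one_smul, sub_self]; exact R.zero_mem
  mul_mem' := fun {g h} hg hh i => by
    have h1 := hh i
    have h2 := hg (h • i)
    have := R.add_mem h1 h2
    rw [mul_smul]
    convert this using 1
    abel
  inv_mem' := fun {g} hg i => by
    have := R.neg_mem (hg (g⁻¹ • i))
    rw [smul_inv_smul] at this
    convert this using 1
    abel

theorem scott [IsPretransitive G Ω] [Nonempty Ω] (x y z : G) (hxyz : x * y * z = 1)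
    (hgen : Subgroup.closure {x, y} = (⊤ : Subgroup G)) :
    invDim (Ω := Ω) x + invDim (Ω := Ω) y + invDim (Ω := Ω) z ≤ Fintype.card Ω + 2 := by
  classical
  obtain ⟨i0⟩ := ‹Nonempty Ω›
  set A := dOp (Ω := Ω) x with hA
  set B := dOp (Ω := Ω) y with hB
  set C := dOp (Ω := Ω) z with hC
  -- the two maps
  let β : (Ω → ℚ) →ₗ[ℚ] (LinearMap.range A × LinearMap.range B × LinearMap.range C) :=
    (A.rangeRestrict ∘ₗ (rho y ∘ₗ rho z)).prod ((B.rangeRestrict ∘ₗ rho z).prod C.rangeRestrict)
  let δ : (LinearMap.range A × LinearMap.range B × LinearMap.range C) →ₗ[ℚ] (Ω → ℚ) :=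
    (LinearMap.range A).subtype.coprod
      ((LinearMap.range B).subtype.coprod (LinearMap.range C).subtype)
  have hδβ : ∀ v, δ (β v) = 0 := by
    intro v
    show A (rho y (rho z v)) + (B (rho z v) + C v) = 0
    rw [hA, hB, hC, dOp_apply, dOp_apply, dOp_apply, ← rho_mul_apply, ← rho_mul_apply,
      ← mul_assoc, hxyz, rho_one_apply]
    abel
  have hle : LinearMap.range β ≤ LinearMap.ker δ := by
    rintro _ ⟨v, rfl⟩
    exact hδβ v
  -- dimension bookkeeping
  have hn : Module.finrank ℚ (Ω → ℚ) = Fintype.card Ω := Module.finrank_fintype_fun_eq_card ℚ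
  have hrA := LinearMap.finrank_range_add_finrank_ker A
  have hrB := LinearMap.finrank_range_add_finrank_ker B
  have hrC := LinearMap.finrank_range_add_finrank_ker C
  have hrβ := LinearMap.finrank_range_add_finrank_ker β
  have hrδ := LinearMap.finrank_range_add_finrank_ker δ
  have hW : Module.finrank ℚ (LinearMap.range A × LinearMap.range B × LinearMap.range C)
      = Module.finrank ℚ (LinearMap.range A) + (Module.finrank ℚ (LinearMap.range B)
        + Module.finrank ℚ (LinearMap.range C)) := by
    rw [Module.finrank_prod, Module.finrank_prod]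
  have hmono : Module.finrank ℚ (LinearMap.range β) ≤ Module.finrank ℚ (LinearMap.ker δ) :=
    Submodule.finrank_mono hle
  -- the kernel of β is at most one-dimensional
  have hkβ : Module.finrank ℚ (LinearMap.ker β) ≤ 1 := by
    let ev : LinearMap.ker β →ₗ[ℚ] ℚ := (LinearMap.proj i0) ∘ₗ (LinearMap.ker β).subtype
    have hinj : Function.Injective ev := by
      rw [← LinearMap.ker_eq_bot, LinearMap.ker_eq_bot']
      rintro ⟨f, hf⟩ hf0
      have hf0' : f i0 = 0 := hf0
      rw [LinearMap.mem_ker] at hf
      have h3 : C f = 0 := by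
        have := congrArg (fun w => ((w.2.2 : LinearMap.range C) : Ω → ℚ)) hf
        exact this
      have hz : rho z f = f := by
        rw [hC, dOp_apply, sub_eq_zero] at h3; exact h3.symm
      have h2 : B f = 0 := by
        have := congrArg (fun w => ((w.2.1 : LinearMap.range B) : Ω → ℚ)) hf
        have h2' : B (rho z f) = 0 := this
        rwa [hz] at h2'
      have hy : rho y f = f := by
        rw [hB, dOp_apply, sub_eq_zero] at h2; exact h2.symm
      have h1 : A f = 0 := by
        have := congrArg (fun w => ((w.1 : LinearMap.range A) : Ω → ℚ)) hf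
        have h1' : A (rho y (rho z f)) = 0 := this
        rwa [hz, hy] at h1'
      have hxm : x ∈ fixer (G := G) f := mem_fixer_of_dOp h1
      have hym : y ∈ fixer (G := G) f := mem_fixer_of_dOp h2
      have htop : fixer (G := G) f = ⊤ := by
        rw [eq_top_iff, ← hgen, Subgroup.closure_le]
        intro g hg
        rcases hg with rfl | rfl
        · exact hxm
        · exact hym
      have hconst : ∀ i, f i = 0 := by
        intro i
        obtain ⟨g, hg⟩ := exists_smul_eq G i0 i
        have : g ∈ fixer (G := G) f := by rw [htop]; exact Subgroup.mem_top g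
        rw [← hg, this i0, hf0']
      apply Subtype.ext
      funext i
      exact hconst i
    have := LinearMap.finrank_le_finrank_of_injective hinj
    rwa [Module.finrank_self] at this
  -- the range of δ has codimension at most one
  have hRδ : Fintype.card Ω ≤ Module.finrank ℚ (LinearMap.range δ) + 1 := by
    set R := LinearMap.range δ with hR
    have hAR : ∀ v, A v ∈ R := fun v => ⟨(A.rangeRestrict v, 0, 0), by
      show A v + (((0 : LinearMap.range B) : Ω → ℚ) + ((0 : LinearMap.range C) : Ω → ℚ)) = A v
      simp⟩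
    have hBR : ∀ v, B v ∈ R := fun v => ⟨(0, B.rangeRestrict v, 0), by
      show ((0 : LinearMap.range A) : Ω → ℚ) + (B v + ((0 : LinearMap.range C) : Ω → ℚ)) = B v
      simp⟩
    have hxm : x ∈ mover (G := G) R := by
      intro i
      have := hAR (Pi.single i 1)
      rwa [hA, dOp_apply, rho_single] at this
    have hym : y ∈ mover (G := G) R := by
      intro i
      have := hBR (Pi.single i 1)
      rwa [hB, dOp_apply, rho_single] at this
    have htop : mover (G := G) R = ⊤ := by
      rw [eq_top_iff, ← hgen, Subgroup.closure_le]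
      intro g hg
      rcases hg with rfl | rfl
      · exact hxm
      · exact hym
    have hdiff : ∀ i, (Pi.single i (1 : ℚ) - Pi.single i0 (1 : ℚ) : Ω → ℚ) ∈ R := by
      intro i
      obtain ⟨g, hg⟩ := exists_smul_eq G i i0
      have : g ∈ mover (G := G) R := by rw [htop]; exact Subgroup.mem_top g
      have := this i
      rwa [hg] at this
    have hall : (⊤ : Submodule ℚ (Ω → ℚ)) ≤ R ⊔ Submodule.span ℚ {Pi.single i0 (1 : ℚ)} := by
      intro f _
      have hf : f = ∑ i, Pi.single i (f i) := (Finset.univ_sum_single f).symm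
      rw [hf]
      apply Submodule.sum_mem
      intro i _
      have : (Pi.single i (f i) : Ω → ℚ) = f i • (Pi.single i (1 : ℚ) - Pi.single i0 (1 : ℚ))
          + f i • Pi.single i0 (1 : ℚ) := by
        funext j
        simp only [Pi.add_apply, Pi.smul_apply, Pi.sub_apply, Pi.single_apply, smul_eq_mul]
        split_ifs <;> ring
      rw [this]
      exact Submodule.add_mem _
        (Submodule.mem_sup_left (R.smul_mem _ (hdiff i)))
        (Submodule.mem_sup_right (Submodule.smul_mem _ _ (Submodule.mem_span_singleton_self _)))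
    have h1 := Submodule.finrank_mono hall
    rw [finrank_top, hn] at h1
    have h2 := Submodule.finrank_add_le_finrank_add_finrank R
      (Submodule.span ℚ {(Pi.single i0 (1 : ℚ) : Ω → ℚ)})
    have h3 : Module.finrank ℚ (Submodule.span ℚ {(Pi.single i0 (1 : ℚ) : Ω → ℚ)}) ≤ 1 := by
      have := finrank_span_le_card (R := ℚ) ({(Pi.single i0 (1 : ℚ) : Ω → ℚ)} : Set (Ω → ℚ))
      simpa using this
    omega
  show Module.finrank ℚ (LinearMap.ker A) + Module.finrank ℚ (LinearMap.ker B)
    + Module.finrank ℚ (LinearMap.ker C) ≤ Fintype.card Ω + 2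
  rw [hn] at hrA hrB hrC hrβ
  omega

/-- number of orbits (cycles, fixed points included) of the cyclic group generated by `g` -/
noncomputable def orbCount (g : G) : ℕ :=
  Nat.card (Quotient (orbitRel (Subgroup.zpowers g) Ω))

theorem orbCount_le_invDim (g : G) : orbCount (Ω := Ω) g ≤ invDim (Ω := Ω) g := by
  classical
  haveI : Fintype (Quotient (orbitRel (Subgroup.zpowers g) Ω)) := Fintype.ofFinite _
  let ι : (Quotient (orbitRel (Subgroup.zpowers g) Ω) → ℚ) →ₗ[ℚ] (Ω → ℚ) :=
    LinearMap.funLeft ℚ ℚ (Quotient.mk (orbitRel (Subgroup.zpowers g) Ω))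
  have hinj : Function.Injective ι :=
    LinearMap.funLeft_injective_of_surjective ℚ ℚ _ Quotient.mk_surjective
  have hle : LinearMap.range ι ≤ LinearMap.ker (dOp (Ω := Ω) g) := by
    rintro _ ⟨φ, rfl⟩
    rw [LinearMap.mem_ker, dOp_apply, sub_eq_zero]
    funext a
    rw [rho_apply]
    show φ (Quotient.mk _ a) = φ (Quotient.mk _ (g⁻¹ • a))
    congr 1
    apply Quotient.sound
    show a ∈ orbit (Subgroup.zpowers g) (g⁻¹ • a)
    refine ⟨⟨g, Subgroup.mem_zpowers g⟩, ?_⟩
    show g • g⁻¹ • a = a
    rw [smul_inv_smul]
  have h1 := Submodule.finrank_mono hle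
  rw [LinearMap.finrank_range_of_inj hinj, Module.finrank_fintype_fun_eq_card] at h1
  unfold orbCount invDim
  rw [Nat.card_eq_fintype_card]
  exact h1

/-- Ree's bound: numbers of cycles of a generating triple with product one in a transitive
action -/
theorem ree [IsPretransitive G Ω] [Nonempty Ω] (x y z : G) (hxyz : x * y * z = 1)
    (hgen : Subgroup.closure {x, y} = (⊤ : Subgroup G)) :
    orbCount (Ω := Ω) x + orbCount (Ω := Ω) y + orbCount (Ω := Ω) z ≤ Fintype.card Ω + 2 := by
  have := scott (Ω := Ω) x y z hxyz hgen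
  have hx := orbCount_le_invDim (Ω := Ω) x
  have hy := orbCount_le_invDim (Ω := Ω) y
  have hz := orbCount_le_invDim (Ω := Ω) z
  omega

/-- Burnside count for an element of prime order -/
theorem orbCount_mul_prime (g : G) (p : ℕ) (hp : p.Prime) (hg : orderOf g = p) :
    orbCount (Ω := Ω) g * p
      = Fintype.card Ω + (p - 1) * Fintype.card (fixedBy Ω g) := by
  classical
  haveI : Fintype (Quotient (orbitRel (Subgroup.zpowers g) Ω)) := Fintype.ofFinite _
  haveI : Finite (Subgroup.zpowers g) := by
    apply Nat.finite_of_card_ne_zero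
    rw [Nat.card_zpowers, hg]
    exact hp.ne_zero
  haveI : Fintype (Subgroup.zpowers g) := Fintype.ofFinite _
  have hB := sum_card_fixedBy_eq_card_orbits_mul_card_group (Subgroup.zpowers g) Ω
  have hcardH : Fintype.card (Subgroup.zpowers g) = p := by
    rw [← Nat.card_eq_fintype_card, Nat.card_zpowers, hg]
  have hone : Fintype.card (fixedBy Ω (1 : Subgroup.zpowers g)) = Fintype.card Ω := by
    apply Fintype.card_of_subtype Finset.univ
    intro a
    simp [mem_fixedBy]
  have hother : ∀ h : Subgroup.zpowers g, h ≠ 1 →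
      Fintype.card (fixedBy Ω h) = Fintype.card (fixedBy Ω g) := by
    intro h hh
    have hset : fixedBy Ω h = fixedBy Ω g := by
      obtain ⟨k, hk⟩ := Subgroup.mem_zpowers_iff.mp h.2
      have hfix : fixedBy Ω h = fixedBy Ω (h : G) := by
        ext a; rfl
      rw [hfix]
      apply Set.Subset.antisymm
      · -- `g` is a power of `h`
        have hord : orderOf (h : G) = p := by
          have hdvd : orderOf (h : G) ∣ p := by
            rw [← hg, ← hk]
            exact orderOf_dvd_of_pow_eq_one (by
              rw [← zpow_natCast, ← zpow_mul, mul_comm, zpow_mul, zpow_natCast,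
                pow_orderOf_eq_one, one_zpow])
          rcases (Nat.dvd_prime hp).mp hdvd with h1 | h1
          · exfalso
            apply hh
            apply Subtype.ext
            exact orderOf_eq_one_iff.mp h1
          · exact h1
        have hle : Subgroup.zpowers (h : G) ≤ Subgroup.zpowers g :=
          Subgroup.zpowers_le.mpr h.2
        have heq : Subgroup.zpowers (h : G) = Subgroup.zpowers g := by
          apply Subgroup.eq_of_le_of_card_ge hle
          rw [Nat.card_zpowers, Nat.card_zpowers, hord, hg]
        have hgm : g ∈ Subgroup.zpowers (h : G) := by rw [heq]; exact Subgroup.mem_zpowers g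
        obtain ⟨m, hm⟩ := Subgroup.mem_zpowers_iff.mp hgm
        have key := fixedBy_subset_fixedBy_zpow Ω (h : G) m
        rw [hm] at key
        exact key
      · have key := fixedBy_subset_fixedBy_zpow Ω g k
        rw [hk] at key
        exact key
    simp only [hset]
  have hsum : (∑ h : Subgroup.zpowers g, Fintype.card (fixedBy Ω h))
      = Fintype.card Ω + (p - 1) * Fintype.card (fixedBy Ω g) := by
    rw [← Finset.add_sum_erase Finset.univ _ (Finset.mem_univ (1 : Subgroup.zpowers g)), hone]
    congr 1
    rw [Finset.sum_congr rfl (fun h hh => hother h (Finset.ne_of_mem_erase hh)),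
      Finset.sum_const, Finset.card_erase_of_mem (Finset.mem_univ _), Finset.card_univ, hcardH,
      smul_eq_mul]
  unfold orbCount
  rw [Nat.card_eq_fintype_card, ← hcardH, ← hB, hsum, hcardH]

end Cfsg.Agent.Lib.Helper28.Ree
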