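import Mathlib
import Cfsg.Agent.Lib.Helper23.SU3UCoord

/-!
# S2283 farm-out piece FO-5: the design for `q = 5`

`F = F_25 = F_5(ω)`, `ω² + ω + 1 = 0`.  All identities are `linear_combination` certificates
modulo `ω² + ω + 1` and `5` (generated by a script).
-/

set_option autoImplicit false

namespace Cfsg.Agent.Lib.Helper28.S2283

open Matrix Cfsg.Agent.Lib.Helper6 Cfsg.Agent.S0779 Cfsg.Agent.S0781
open Cfsg.Agent.Lib.Helper6.SUG Cfsg.Agent.Lib.Helper13 Cfsg.Agent.Lib.Helper9.SUGen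
open Cfsg.Agent.Lib.Helper23.SU3U

variable {F : Type*} [Field F] [Fintype F]

/-- a finite field whose multiplicative group has order divisible by `3` contains a primitive
cube root of unity -/
theorem exists_omega (n : ℕ) (hn : Fintype.card F = 3 * n + 1) (hn0 : 0 < n) :
    ∃ ω : F, ω ^ 2 + ω + 1 = 0 := by
  classical
  obtain ⟨g, hg⟩ := IsCyclic.exists_generator (α := Fˣ)
  have hord : orderOf g = 3 * n := by
    rw [orderOf_eq_card_of_forall_mem_zpowers hg, Nat.card_eq_fintype_card, Fintype.card_units, hn]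
    rfl
  have h3 : ((g ^ n : Fˣ) : F) ^ 3 = 1 := by
    rw [← Units.val_pow_eq_pow_val, ← pow_mul, mul_comm, ← hord, pow_orderOf_eq_one, Units.val_one]
  have h1 : ((g ^ n : Fˣ) : F) ≠ 1 := by
    intro h
    have h' : g ^ n = 1 := Units.ext (by rw [h, Units.val_one])
    have := orderOf_dvd_of_pow_eq_one h'
    rw [hord] at this
    have := Nat.le_of_dvd hn0 this
    omega
  refine ⟨((g ^ n : Fˣ) : F), ?_⟩
  have hne : ((g ^ n : Fˣ) : F) - 1 ≠ 0 := sub_ne_zero.mpr h1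
  apply mul_left_cancel₀ hne
  linear_combination h3

theorem five_eq_zero (hF : Fintype.card F = 5 ^ 2) : (5 : F) = 0 := by
  have h := Nat.cast_card_eq_zero F
  rw [hF] at h
  have h2 : (5 : F) * 5 = 0 := by
    have : ((5 ^ 2 : ℕ) : F) = 5 * 5 := by norm_num
    rw [← this]
    exact h
  exact mul_self_eq_zero.mp h2

theorem kappa_five {κ r : ℕ} (hr : 2 ≤ r) (hκ : κ ^ r = 5 ^ 2) : κ = 5 := by
  have hdvd : κ ∣ 5 ^ 2 := by
    rw [← hκ]
    exact dvd_pow_self κ (by omega)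
  obtain ⟨j, hj, rfl⟩ := (Nat.dvd_prime_pow Nat.prime_five).mp hdvd
  rw [← pow_mul] at hκ
  have hjr : j * r = 2 := Nat.pow_right_injective (by norm_num : 2 ≤ 5) hκ
  interval_cases j
  · omega
  · norm_num
  · omega

/-- **FO-5** -/
theorem good_five (C : Hyp F 5) (hF : Fintype.card F = 5 ^ 2)
    (hsub : ∀ ν : F, (∀ κ r : ℕ, 2 ≤ r → κ ^ r = 5 ^ 2 → ν ^ κ ≠ ν) → Irr ν) : Good C hF := by
  have h5 : (5 : F) = 0 := five_eq_zero hF
  obtain ⟨ω, hω'⟩ := exists_omega (F := F) 8 (by rw [hF]; norm_num) (by norm_num)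
  have hω : ω ^ 2 + ω + 1 = 0 := hω'
  have hl5 : (3 + 4 * ω) ^ 5 = 4 + ω := by
    linear_combination (-416 + 1920 * ω + 2816 * ω ^ 2 + 1024 * ω ^ 3) * hω + (131 + 23 * ω) * h5
  have hcd : HP 5 (2 : F) (4 + 4 * ω) := by
    unfold HP
    linear_combination (1024 + 5120 * ω + 4096 * ω ^ 2 + 1024 * ω ^ 3) * hω + (-12 - 204 * ω) * h5
  have hab : HP 5 (4 + 3 * ω) (2 + ω) := by
    unfold HP
    linear_combination (-5062 - 15819 * ω - 13599 * ω ^ 2 - 5102 * ω ^ 3 - 729 * ω ^ 4) * hω + (200 + 506 * ω) * h5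
  have ha0 : (4 + 3 * ω) ≠ (0 : F) := by
    intro h
    have : (1 : F) = 0 := by
      linear_combination (2 - 6 * ω) * h + (18) * hω + (-5) * h5
    exact one_ne_zero this
  have hc0 : (2 : F) ≠ 0 := by
    intro h
    have : (1 : F) = 0 := by
      linear_combination (8) * h + (0) * hω + (-3) * h5
    exact one_ne_zero this
  have hlam0 : (3 + ω) ≠ (0 : F) := by
    intro h
    have : (1 : F) = 0 := by
      linear_combination (6 - 3 * ω) * h + (3) * hω + (-4) * h5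
    exact one_ne_zero this
  have hrel : (4 + 3 * ω) * (3 + ω) = -(((3 + ω) ^ 5) ^ 2) * (2 : F) := by
    linear_combination (154815 + 246298 * ω + 189380 * ω ^ 2 + 89202 * ω ^ 3 + 27598 * ω ^ 4 + 5672 * ω ^ 5 + 750 * ω ^ 6 + 58 * ω ^ 7 + 2 * ω ^ 8) * hω + (-7341 - 1488 * ω) * h5
  have se1 : av (yF C hF 2 (4 + 4 * ω)) (vec C 1 0 0) = vec C 1 (1 + ω) 2 := by
    rw [av_yF_vec C hF hcd]
    apply vec_congr
    · linear_combination (0) * hω + (0) * h5
    · linear_combination (0) * hω + (-1 - ω) * h5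
    · linear_combination (0) * hω + (0) * h5
  have se2 : av (xE C hF (4 + 3 * ω) (2 + ω)) (vec C 1 (1 + ω) 2) = vec C (3 + 4 * ω) (1 + ω) (3 + 4 * ω) := by
    rw [av_xE_vec C hF hab]
    apply vec_congr
    · linear_combination (-3367 - 5400 * ω - 2754 * ω ^ 2 - 486 * ω ^ 3) * hω + (263 + 216 * ω) * h5
    · linear_combination (0) * hω + (0) * h5
    · linear_combination (3) * hω + (0) * h5
  have se3 : av (yF C hF 2 (4 + 4 * ω)) (vec C (3 + 4 * ω) (1 + ω) (3 + 4 * ω)) = vec C (3 + 4 * ω) (4 + ω) (4 + 2 * ω) := by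
    rw [av_yF_vec C hF hcd]
    apply vec_congr
    · linear_combination (0) * hω + (0) * h5
    · linear_combination (-16) * hω + (-19 - 28 * ω) * h5
    · linear_combination (0) * hω + (1 + 2 * ω) * h5
  have se4 : av (yF C hF 2 (4 + 4 * ω)) (vec C (3 + 4 * ω) (4 + ω) (4 + 2 * ω)) = vec C (3 + 4 * ω) 0 0 := by
    rw [av_yF_vec C hF hcd]
    apply vec_congr
    · linear_combination (0) * hω + (0) * h5
    · linear_combination (-16) * hω + (-24 - 15 * ω) * h5
    · linear_combination (0) * hω + (2 + 2 * ω) * h5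
  have sw1 : av (yF C hF 2 (4 + 4 * ω)) (vec C 0 0 1) = vec C 0 3 1 := by
    rw [av_yF_vec C hF hcd]
    apply vec_congr
    · linear_combination (0) * hω + (0) * h5
    · linear_combination (0) * hω + (-7) * h5
    · linear_combination (0) * hω + (0) * h5
  have sw2 : av (xE C hF (4 + 3 * ω) (2 + ω)) (vec C 0 3 1) = vec C 3 3 (3 + 4 * ω) := by
    rw [av_xE_vec C hF hab]
    apply vec_congr
    · linear_combination (-1683 - 2700 * ω - 1377 * ω ^ 2 - 243 * ω ^ 3) * hω + (130 + 108 * ω) * h5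
    · linear_combination (0) * hω + (0) * h5
    · linear_combination (0) * hω + (2 + ω) * h5
  have sw3 : av (yF C hF 2 (4 + 4 * ω)) (vec C 3 3 (3 + 4 * ω)) = vec C 3 0 (4 + 4 * ω) := by
    rw [av_yF_vec C hF hcd]
    apply vec_congr
    · linear_combination (0) * hω + (0) * h5
    · linear_combination (0) * hω + (-21 - 28 * ω) * h5
    · linear_combination (0) * hω + (1) * h5
  have sw4 : av (yF C hF 2 (4 + 4 * ω)) (vec C 3 0 (4 + 4 * ω)) = vec C 3 0 (4 * ω) := by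
    rw [av_yF_vec C hF hcd]
    apply vec_congr
    · linear_combination (0) * hω + (0) * h5
    · linear_combination (0) * hω + (-28 - 28 * ω) * h5
    · linear_combination (0) * hω + (2) * h5
  have hWe : av (yF C hF 2 (4 + 4 * ω) * yF C hF 2 (4 + 4 * ω) * xE C hF (4 + 3 * ω) (2 + ω) * yF C hF 2 (4 + 4 * ω)) (e3 C) = (3 + 4 * ω) • e3 C := by
    conv_lhs => rw [vec_e C]
    rw [av_mul, av_mul, av_mul, se1, se2, se3, se4, vec_eq_smul_e]
  have hWw : av (yF C hF 2 (4 + 4 * ω) * yF C hF 2 (4 + 4 * ω) * xE C hF (4 + 3 * ω) (2 + ω) * yF C hF 2 (4 + 4 * ω)) (wv F 2) = (4 * ω) • wv F 2 + (3 : F) • e3 C := by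
    conv_lhs => rw [vec_w C]
    rw [av_mul, av_mul, av_mul, sw1, sw2, sw3, sw4, vec_eq_w_e]
  refine ⟨(4 + 3 * ω), (2 + ω), 2, (4 + 4 * ω), (3 + ω), (3 + 4 * ω), (4 * ω), 3, yF C hF 2 (4 + 4 * ω) * yF C hF 2 (4 + 4 * ω) * xE C hF (4 + 3 * ω) (2 + ω) * yF C hF 2 (4 + 4 * ω),
    hab, ha0, hcd, hc0, hlam0, hrel, ?_, hWe, hWw, ?_⟩
  · have hyL : yF C hF 2 (4 + 4 * ω) ∈ Subgroup.closure
        ({yF C hF 2 (4 + 4 * ω), xE C hF (4 + 3 * ω) (2 + ω)} : Set ↥(Cfsg.SU (2 + 1) F 5)) :=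
      Subgroup.subset_closure (by simp)
    have hxL : xE C hF (4 + 3 * ω) (2 + ω) ∈ Subgroup.closure
        ({yF C hF 2 (4 + 4 * ω), xE C hF (4 + 3 * ω) (2 + ω)} : Set ↥(Cfsg.SU (2 + 1) F 5)) :=
      Subgroup.subset_closure (by simp)
    exact Subgroup.mul_mem _ (Subgroup.mul_mem _ (Subgroup.mul_mem _ hyL hyL) hxL) hyL
  · apply hsub
    intro κ r hr hκ
    rw [kappa_five hr hκ, hl5]
    intro h
    have : (1 : F) = 0 := by
      linear_combination (6 - 3 * ω) * h + (-955404 - 4405260 * ω + 5360640 * ω ^ 2 - 955392 * ω ^ 3 - 4405248 * ω ^ 4 - 930816 * ω ^ 5 + 617472 * ω ^ 6 + 313344 * ω ^ 7 + 52224 * ω ^ 8 + 3072 * ω ^ 9) * hω + (191081 + 1072152 * ω) * h5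
    exact one_ne_zero this

end Cfsg.Agent.Lib.Helper28.S2283
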