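import Mathlib
import Cfsg.Prelude.Def_LocalStructure
import Cfsg.Agent.Lib.Helper17.PResidual

/-!
# Farm-out pieces FO-G and FO-Q for S2860 (helper27)
-/

open Cfsg
open scoped commutatorElement

namespace Cfsg.Agent.Lib.Helper28.S2860GQ

open Cfsg.Agent.Lib.Helper17

/-- FO-G: a finite group generated by `p`-subgroups `Qs i`; a normal subgroup `N` containing all
`[O^p(H), Qs i]` contains `O^p(H)`. -/
theorem pResidual_le_of_commutator_le {H : Type*} [Group H] [Finite H] {p : ℕ} [Fact p.Prime]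
    {ι : Type*} (Qs : ι → Subgroup H) (hQp : ∀ i, IsPGroup p (Qs i)) (hgen : (⨆ i, Qs i) = ⊤)
    (N : Subgroup H) [N.Normal] (hc : ∀ i, ⁅Cfsg.pResidual p H, Qs i⁆ ≤ N) :
    Cfsg.pResidual p H ≤ N := by
  classical
  set π := QuotientGroup.mk' N with hπ
  have hπs : Function.Surjective π := QuotientGroup.mk'_surjective N
  set R := Cfsg.pResidual p H with hR
  set Rb := R.map π with hRb
  have hRbn : Rb.Normal := Subgroup.Normal.map inferInstance π hπs
  -- images of the generating subgroups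
  have hgenb : (⨆ i, (Qs i).map π) = ⊤ := by
    rw [← Subgroup.map_iSup, hgen, ← MonoidHom.range_eq_map, MonoidHom.range_eq_top]
    exact hπs
  -- `Rb` is central
  have hcent : Rb ≤ Subgroup.center (H ⧸ N) := by
    have hC : (⨆ i, (Qs i).map π) ≤ Subgroup.centralizer (Rb : Set (H ⧸ N)) := by
      apply iSup_le
      intro i
      rintro _ ⟨q, hq, rfl⟩
      rw [Subgroup.mem_centralizer_iff]
      rintro _ ⟨r, hr, rfl⟩
      have hcomm : ⁅r, q⁆ ∈ N := hc i (Subgroup.commutator_mem_commutator hr hq)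
      have h1 : π ⁅r, q⁆ = 1 := (QuotientGroup.eq_one_iff _).mpr hcomm
      rw [map_commutatorElement, commutatorElement_eq_one_iff_mul_comm] at h1
      exact h1
    rw [hgenb] at hC
    intro z hz
    rw [Subgroup.mem_center_iff]
    intro g
    have hg : g ∈ Subgroup.centralizer (Rb : Set (H ⧸ N)) := hC (Subgroup.mem_top g)
    rw [Subgroup.mem_centralizer_iff] at hg
    exact (hg z hz).symm
  -- the quotient by `Rb` is a `p`-group
  have hpq : IsPGroup p ((H ⧸ N) ⧸ Rb) := by
    intro y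
    induction y using QuotientGroup.induction_on with
    | H yb =>
      obtain ⟨y, rfl⟩ := hπs yb
      obtain ⟨k, hk⟩ := exists_pow_mem_pResidual (p := p) y
      refine ⟨k, ?_⟩
      rw [← QuotientGroup.mk_pow]
      apply (QuotientGroup.eq_one_iff _).mpr
      rw [← map_pow]
      exact Subgroup.mem_map_of_mem π hk
  -- nilpotency
  have : Group.IsNilpotent ((H ⧸ N) ⧸ Rb) := hpq.isNilpotent
  have hnil : Group.IsNilpotent (H ⧸ N) := by
    apply Subgroup.isNilpotent_of_ker_le_center (QuotientGroup.mk' Rb)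
    rw [QuotientGroup.ker_mk']; exact hcent
  -- the Sylow `p`-subgroup contains all generators
  obtain ⟨P⟩ : Nonempty (Sylow p (H ⧸ N)) := inferInstance
  have hPn : (P : Subgroup (H ⧸ N)).Normal := inferInstance
  have hle : ∀ i, (Qs i).map π ≤ (P : Subgroup (H ⧸ N)) := by
    intro i
    have hQ : IsPGroup p ((Qs i).map π) := (hQp i).map π
    obtain ⟨P', hP'⟩ := hQ.exists_le_sylow
    haveI := Sylow.unique_of_normal P inferInstance
    have : P' = P := Subsingleton.elim _ _
    rw [← this]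
    exact hP'
  have htop : (P : Subgroup (H ⧸ N)) = ⊤ := by
    rw [eq_top_iff, ← hgenb]
    exact iSup_le hle
  have hPG : IsPGroup p (H ⧸ N) := by
    have := P.isPGroup'
    rw [htop] at this
    intro g
    obtain ⟨k, hk⟩ := this ⟨g, Subgroup.mem_top g⟩
    exact ⟨k, by simpa using congrArg Subtype.val hk⟩
  exact pResidual_le_of_quotient_isPGroup hPG

/-- FO-Q: quasisimple quotient criterion. -/
theorem isQuasisimple_quotient_of_commutator_le {H : Type*} [Group H] [Finite H]
    (N M : Subgroup H) [N.Normal] [M.Normal] (hNM : N ≤ M)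
    (hperf : ⁅(⊤ : Subgroup H), (⊤ : Subgroup H)⁆ = ⊤) (hqs : Cfsg.IsQuasisimple (H ⧸ M))
    (hc : ⁅M, (⊤ : Subgroup H)⁆ ≤ N) : Cfsg.IsQuasisimple (H ⧸ N) := by
  haveI : Group.IsPerfect H := ⟨by rw [commutator_def]; exact hperf⟩
  refine ⟨inferInstance, ?_⟩
  set πN := QuotientGroup.mk' N with hπN
  have hπNs : Function.Surjective πN := QuotientGroup.mk'_surjective N
  -- the natural map `H/N → H/M`
  let f : H ⧸ N →* H ⧸ M := QuotientGroup.map N M (MonoidHom.id H) hNM
  have hf : ∀ h : H, f (πN h) = QuotientGroup.mk' M h := fun h => rfl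
  have hfs : Function.Surjective f := by
    intro y
    obtain ⟨h, rfl⟩ := QuotientGroup.mk'_surjective M y
    exact ⟨πN h, hf h⟩
  let ψ : H ⧸ N →* (H ⧸ M) ⧸ Subgroup.center (H ⧸ M) :=
    (QuotientGroup.mk' (Subgroup.center (H ⧸ M))).comp f
  have hψs : Function.Surjective ψ :=
    (QuotientGroup.mk'_surjective _).comp hfs
  -- the kernel of `f` is central
  have hker_f : f.ker ≤ Subgroup.center (H ⧸ N) := by
    intro x hx
    obtain ⟨m, rfl⟩ := hπNs x
    rw [MonoidHom.mem_ker, hf, QuotientGroup.mk'_apply, QuotientGroup.eq_one_iff] at hx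
    rw [Subgroup.mem_center_iff]
    intro y
    obtain ⟨g, rfl⟩ := hπNs y
    have hcomm : ⁅m, g⁆ ∈ N := hc (Subgroup.commutator_mem_commutator hx (Subgroup.mem_top g))
    have h1 : πN ⁅m, g⁆ = 1 := (QuotientGroup.eq_one_iff _).mpr hcomm
    rw [map_commutatorElement, commutatorElement_eq_one_iff_mul_comm] at h1
    exact h1.symm
  -- the kernel of `ψ` is the centre
  have hkerψ : ψ.ker = Subgroup.center (H ⧸ N) := by
    apply le_antisymm
    · -- three subgroups lemma
      have hA : ⁅ψ.ker, (⊤ : Subgroup (H ⧸ N))⁆ ≤ Subgroup.center (H ⧸ N) := by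
        rw [Subgroup.commutator_le]
        intro a ha y _
        apply hker_f
        rw [MonoidHom.mem_ker, map_commutatorElement, commutatorElement_eq_one_iff_mul_comm]
        have hfa : f a ∈ Subgroup.center (H ⧸ M) := by
          have : ψ a = 1 := ha
          exact (QuotientGroup.eq_one_iff _).mp this
        exact ((Subgroup.mem_center_iff.mp hfa) (f y)).symm
      have hcen : Subgroup.centralizer ((⊤ : Subgroup (H ⧸ N)) : Set (H ⧸ N))
          = Subgroup.center (H ⧸ N) := by
        rw [Subgroup.coe_top, Subgroup.centralizer_univ]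
      have h1 : ⁅⁅ψ.ker, (⊤ : Subgroup (H ⧸ N))⁆, (⊤ : Subgroup (H ⧸ N))⁆ = ⊥ := by
        rw [Subgroup.commutator_eq_bot_iff_le_centralizer, hcen]
        exact hA
      have h2 : ⁅⁅(⊤ : Subgroup (H ⧸ N)), ψ.ker⁆, (⊤ : Subgroup (H ⧸ N))⁆ = ⊥ := by
        rw [Subgroup.commutator_comm (⊤ : Subgroup (H ⧸ N)) ψ.ker]
        exact h1
      have h3 := Subgroup.commutator_commutator_eq_bot_of_rotate h2 h1
      have hperfX : ⁅(⊤ : Subgroup (H ⧸ N)), (⊤ : Subgroup (H ⧸ N))⁆ = ⊤ := by
        rw [← commutator_def]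
        exact Group.IsPerfect.commutator_eq_top
      rw [hperfX, Subgroup.commutator_comm, Subgroup.commutator_eq_bot_iff_le_centralizer,
        hcen] at h3
      exact h3
    · intro z hz
      rw [MonoidHom.mem_ker]
      show QuotientGroup.mk' (Subgroup.center (H ⧸ M)) (f z) = 1
      rw [QuotientGroup.mk'_apply, QuotientGroup.eq_one_iff, Subgroup.mem_center_iff]
      intro y
      obtain ⟨y', rfl⟩ := hfs y
      rw [← map_mul, ← map_mul, (Subgroup.mem_center_iff.mp hz) y']
  have e1 : (H ⧸ N) ⧸ ψ.ker ≃* (H ⧸ M) ⧸ Subgroup.center (H ⧸ M) :=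
    QuotientGroup.quotientKerEquivOfSurjective ψ hψs
  have e2 : (H ⧸ N) ⧸ Subgroup.center (H ⧸ N) ≃* (H ⧸ N) ⧸ ψ.ker :=
    QuotientGroup.quotientMulEquivOfEq hkerψ.symm
  exact ((e2.trans e1).isSimpleGroup_congr).mpr hqs.2

end Cfsg.Agent.Lib.Helper28.S2860GQ
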