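import Mathlib

/-!
# S4130 farm-out piece FO-6c (Knoche)

A finite `p`-group all of whose centralizers have index `1` or `p` has derived subgroup of order
`1` or `p`.
-/

set_option autoImplicit false

namespace Cfsg.Agent.Lib.Helper28.S4130

open Subgroup
open scoped commutatorElement

variable {P : Type*} [Group P]

/-- a subgroup of index `1` or `p` of a finite `p`-group contains the derived subgroup -/
theorem commutator_le_of_index_dvd_prime [Finite P] (p : ℕ) [Fact p.Prime] (hP : IsPGroup p P)
    (H : Subgroup P) (hH : H.index ∣ p) : commutator P ≤ H := by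
  have hpp : p.Prime := Fact.out
  rcases (Nat.dvd_prime hpp).mp hH with h1 | hp
  · rw [Subgroup.index_eq_one] at h1
    rw [h1]
    exact le_top
  · obtain ⟨n, hn⟩ := IsPGroup.iff_card.mp hP
    have hn0 : n ≠ 0 := by
      rintro rfl
      have : H.index ∣ Nat.card P := Subgroup.index_dvd_card H
      rw [hn, pow_zero, hp] at this
      exact hpp.one_lt.ne' (Nat.dvd_one.mp this)
    have hmf : (Nat.card P).minFac = p := by
      rw [hn]
      exact Nat.Prime.pow_minFac hpp hn0
    haveI : H.Normal := Subgroup.normal_of_index_eq_minFac_card (by rw [hp, hmf])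
    have hq : Nat.card (P ⧸ H) = p := by
      rw [← Subgroup.index_eq_card]
      exact hp
    haveI : IsCyclic (P ⧸ H) := isCyclic_of_prime_card hq
    rw [_root_.commutator_def, Subgroup.commutator_le]
    intro a _ b _
    rw [← QuotientGroup.eq_one_iff]
    haveI : IsMulCommutative (P ⧸ H) := IsCyclic.isMulCommutative
    have hcomm : ∀ u v : P ⧸ H, u * v = v * u := fun u v => mul_comm' u v
    rw [commutatorElement_def]
    simp only [QuotientGroup.mk_mul, QuotientGroup.mk_inv]
    rw [hcomm (a : P ⧸ H) (b : P ⧸ H)]
    group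

/-- a subgroup of order dividing `p` containing `c ≠ 1` is `zpowers c` -/
theorem eq_zpowers_of_card_dvd_prime [Finite P] (p : ℕ) [Fact p.Prime] (K : Subgroup P)
    (hK : Nat.card K ∣ p) (c : P) (hc : c ∈ K) (hc1 : c ≠ 1) : K = zpowers c := by
  have hpp : p.Prime := Fact.out
  have hle : zpowers c ≤ K := (zpowers_le).mpr hc
  have h1 : Nat.card (zpowers c) ∣ Nat.card K := Subgroup.card_dvd_of_le hle
  have h2 : Nat.card (zpowers c) ≠ 1 := by
    rw [Nat.card_zpowers]
    intro h
    exact hc1 (orderOf_eq_one_iff.mp h)
  have h3 : Nat.card (zpowers c) = p := by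
    rcases (Nat.dvd_prime hpp).mp (h1.trans hK) with h | h
    · exact absurd h h2
    · exact h
  have h4 : Nat.card K = p := by
    rcases (Nat.dvd_prime hpp).mp hK with h | h
    · rw [h] at h1
      exact absurd (Nat.dvd_one.mp h1) h2
    · exact h
  exact (Subgroup.eq_of_le_of_card_ge hle (by rw [h3, h4])).symm

section central

variable (hc : ∀ a b z : P, ⁅a, b⁆ * z = z * ⁅a, b⁆)

/-- `g ↦ [y, g]` as a homomorphism, when commutators are central -/
def commHom (hc : ∀ a b z : P, ⁅a, b⁆ * z = z * ⁅a, b⁆) (y : P) : P →* P :=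
  MonoidHom.mk' (fun g => ⁅y, g⁆) (by
    intro g h
    have e : ⁅y, g * h⁆ = ⁅y, g⁆ * (g * ⁅y, h⁆ * g⁻¹) := by
      simp only [commutatorElement_def]
      group
    rw [e, ← hc y h g, mul_inv_cancel_right])

theorem commHom_apply (y g : P) : commHom hc y g = ⁅y, g⁆ := rfl

theorem commHom_ker (y : P) : (commHom hc y).ker = centralizer ({y} : Set P) := by
  ext g
  rw [MonoidHom.mem_ker, commHom_apply, commutatorElement_eq_one_iff_mul_comm,
    Subgroup.mem_centralizer_iff]
  constructor
  · intro h z hz
    rw [Set.mem_singleton_iff] at hz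
    subst hz
    exact h
  · intro h
    exact h y rfl

theorem card_commHom_range [Finite P] (y : P) :
    Nat.card (commHom hc y).range = (centralizer ({y} : Set P)).index := by
  rw [← Subgroup.index_ker, commHom_ker]

end central

/-- **FO-6c** (Knoche) -/
theorem knoche [Finite P] (p : ℕ) [Fact p.Prime] (hP : IsPGroup p P)
    (h : ∀ x : P, (centralizer ({x} : Set P)).index ∣ p) : Nat.card (commutator P) ∣ p := by
  classical
  have hpp : p.Prime := Fact.out
  -- commutators are central
  have hle : ∀ y : P, commutator P ≤ centralizer ({y} : Set P) := fun y =>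
    commutator_le_of_index_dvd_prime p hP _ (h y)
  have hc : ∀ a b z : P, ⁅a, b⁆ * z = z * ⁅a, b⁆ := by
    intro a b z
    have hm : ⁅a, b⁆ ∈ commutator P := by
      rw [_root_.commutator_def]
      exact Subgroup.commutator_mem_commutator (mem_top a) (mem_top b)
    have := hle z hm
    rw [Subgroup.mem_centralizer_iff] at this
    exact (this z rfl).symm
  set L : P → Subgroup P := fun y => (commHom hc y).range with hL
  have hLcard : ∀ y, Nat.card (L y) ∣ p := fun y => by
    rw [hL]
    simp only
    rw [card_commHom_range]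
    exact h y
  have hLmem : ∀ y g, ⁅y, g⁆ ∈ L y := fun y g => ⟨g, rfl⟩
  -- key: non-commuting data determine the same line
  have key1 : ∀ x y : P, centralizer ({x} : Set P) ≠ centralizer ({y} : Set P) →
      (centralizer ({x} : Set P)).index = p → (centralizer ({y} : Set P)).index = p → L x = L y := by
    intro x y hne hx hy
    have hcx : Nat.card (centralizer ({x} : Set P)) = Nat.card (centralizer ({y} : Set P)) := by
      have h1 := Subgroup.card_mul_index (centralizer ({x} : Set P))
      have h2 := Subgroup.card_mul_index (centralizer ({y} : Set P))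
      rw [hx] at h1
      rw [hy] at h2
      exact Nat.eq_of_mul_eq_mul_right hpp.pos (h1.trans h2.symm)
    have hnle1 : ¬ centralizer ({y} : Set P) ≤ centralizer ({x} : Set P) := by
      intro hle'
      exact hne (Subgroup.eq_of_le_of_card_ge hle' hcx.le).symm
    have hnle2 : ¬ centralizer ({x} : Set P) ≤ centralizer ({y} : Set P) := by
      intro hle'
      exact hne (Subgroup.eq_of_le_of_card_ge hle' hcx.ge)
    obtain ⟨g, hgy, hgx⟩ := SetLike.not_le_iff_exists.mp hnle1
    obtain ⟨k, hkx, hky⟩ := SetLike.not_le_iff_exists.mp hnle2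
    -- g commutes with y, not with x; k commutes with x, not with y
    have hgy' : g * y = y * g := by
      rw [Subgroup.mem_centralizer_iff] at hgy
      exact (hgy y rfl).symm
    have hkx' : k * x = x * k := by
      rw [Subgroup.mem_centralizer_iff] at hkx
      exact (hkx x rfl).symm
    have hgx' : ⁅x, g⁆ ≠ 1 := by
      intro h1
      apply hgx
      rw [Subgroup.mem_centralizer_iff]
      intro z hz
      rw [Set.mem_singleton_iff] at hz
      subst hz
      exact commutatorElement_eq_one_iff_mul_comm.mp h1
    have hky' : ⁅y, k⁆ ≠ 1 := by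
      intro h1
      apply hky
      rw [Subgroup.mem_centralizer_iff]
      intro z hz
      rw [Set.mem_singleton_iff] at hz
      subst hz
      exact commutatorElement_eq_one_iff_mul_comm.mp h1
    have e1 : ⁅x * y, g⁆ = ⁅x, g⁆ := by
      simp only [commutatorElement_def]
      have : y * g * y⁻¹ = g := by rw [← hgy', mul_inv_cancel_right]
      calc x * y * g * (x * y)⁻¹ * g⁻¹ = x * (y * g * y⁻¹) * x⁻¹ * g⁻¹ := by group
        _ = x * g * x⁻¹ * g⁻¹ := by rw [this]
    have e2 : ⁅x * y, k⁆ = ⁅y, k⁆ := by
      have e : ⁅x * y, k⁆ = x * ⁅y, k⁆ * x⁻¹ * ⁅x, k⁆ := by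
        simp only [commutatorElement_def]
        group
      have e' : ⁅x, k⁆ = 1 := commutatorElement_eq_one_iff_mul_comm.mpr hkx'.symm
      rw [e, e', mul_one, ← hc y k x, mul_inv_cancel_right]
    have m1 : ⁅x, g⁆ ∈ L (x * y) := by rw [← e1]; exact hLmem _ _
    have m2 : ⁅y, k⁆ ∈ L (x * y) := by rw [← e2]; exact hLmem _ _
    rw [eq_zpowers_of_card_dvd_prime p (L x) (hLcard x) _ (hLmem x g) hgx',
      ← eq_zpowers_of_card_dvd_prime p (L (x * y)) (hLcard _) _ m1 hgx',
      eq_zpowers_of_card_dvd_prime p (L (x * y)) (hLcard _) _ m2 hky',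
      ← eq_zpowers_of_card_dvd_prime p (L y) (hLcard y) _ (hLmem y k) hky']
  have hidx : ∀ x : P, centralizer ({x} : Set P) ≠ ⊤ → (centralizer ({x} : Set P)).index = p := by
    intro x hx
    rcases (Nat.dvd_prime hpp).mp (h x) with h1 | h1
    · exact absurd (Subgroup.index_eq_one.mp h1) hx
    · exact h1
  have key2 : ∀ x y : P, centralizer ({x} : Set P) ≠ ⊤ → centralizer ({y} : Set P) ≠ ⊤ →
      L x = L y := by
    intro x y hx hy
    by_cases hxy : centralizer ({x} : Set P) = centralizer ({y} : Set P)
    · -- take z outside C(x)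
      obtain ⟨z, -, hz⟩ := SetLike.not_le_iff_exists.mp (fun hh : (⊤ : Subgroup P) ≤ centralizer ({x} : Set P) =>
        hx (top_le_iff.mp hh))
      have hzz : z ∈ centralizer ({z} : Set P) := by
        rw [Subgroup.mem_centralizer_iff]
        intro w hw
        rw [Set.mem_singleton_iff] at hw
        subst hw
        rfl
      have hzx : centralizer ({z} : Set P) ≠ centralizer ({x} : Set P) := by
        intro he
        rw [he] at hzz
        exact hz hzz
      have hzt : centralizer ({z} : Set P) ≠ ⊤ := by
        intro he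
        apply hz
        -- x ∈ C(z) so z ∈ C(x)
        have hxz : x ∈ centralizer ({z} : Set P) := by rw [he]; exact mem_top x
        rw [Subgroup.mem_centralizer_iff] at hxz ⊢
        intro w hw
        rw [Set.mem_singleton_iff] at hw
        subst hw
        exact (hxz z rfl).symm
      rw [key1 x z hzx.symm (hidx x hx) (hidx z hzt), key1 z y (hxy ▸ hzx) (hidx z hzt) (hidx y hy)]
    · exact key1 x y hxy (hidx x hx) (hidx y hy)
  by_cases hall : ∀ x : P, centralizer ({x} : Set P) = ⊤
  · -- abelian
    have : commutator P = ⊥ := by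
      rw [eq_bot_iff, _root_.commutator_def, Subgroup.commutator_le]
      intro a _ b _
      rw [Subgroup.mem_bot, commutatorElement_eq_one_iff_mul_comm]
      have hb : b ∈ centralizer ({a} : Set P) := by rw [hall a]; exact mem_top b
      rw [Subgroup.mem_centralizer_iff] at hb
      exact hb a rfl
    rw [this]
    simp
  · push_neg at hall
    obtain ⟨x0, hx0⟩ := hall
    have hsub : commutator P ≤ L x0 := by
      rw [_root_.commutator_def, Subgroup.commutator_le]
      intro a _ b _
      by_cases ha : centralizer ({a} : Set P) = ⊤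
      · have hb : b ∈ centralizer ({a} : Set P) := by rw [ha]; exact mem_top b
        rw [Subgroup.mem_centralizer_iff] at hb
        have : ⁅a, b⁆ = 1 := commutatorElement_eq_one_iff_mul_comm.mpr (hb a rfl)
        rw [this]
        exact one_mem _
      · rw [← key2 a x0 ha hx0]
        exact hLmem a b
    exact (Subgroup.card_dvd_of_le hsub).trans (hLcard x0)

end Cfsg.Agent.Lib.Helper28.S4130
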