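import Mathlib

/-!
# S4130 farm-out piece FO-8

A finite nilpotent group whose derived subgroup has squarefree order has class at most `2`.
-/

set_option autoImplicit false

namespace Cfsg.Agent.Lib.Helper28.S4130

open Subgroup
open scoped commutatorElement

/-- a nontrivial normal subgroup of a nilpotent group meets the centre nontrivially -/
theorem inf_center_ne_bot_of_normal {F : Type*} [Group F] [Group.IsNilpotent F] (N : Subgroup F)
    [N.Normal] (hN : N ≠ ⊥) : N ⊓ center F ≠ ⊥ := by
  classical
  obtain ⟨n, hn⟩ := Group.IsNilpotent.nilpotent F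
  have hex : ∃ i, N ⊓ Subgroup.upperCentralSeries F i ≠ ⊥ := ⟨n, by rw [hn, inf_top_eq]; exact hN⟩
  set i := Nat.find hex with hi
  have hspec : N ⊓ Subgroup.upperCentralSeries F i ≠ ⊥ := Nat.find_spec hex
  have hi0 : i ≠ 0 := by
    intro h0
    rw [h0, Subgroup.upperCentralSeries_zero, inf_bot_eq] at hspec
    exact hspec rfl
  obtain ⟨j, hj⟩ : ∃ j, i = j + 1 := ⟨i - 1, by omega⟩
  have hmin : N ⊓ Subgroup.upperCentralSeries F j = ⊥ := by
    by_contra hne
    have := Nat.find_min' hex hne
    omega
  rw [hj] at hspec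
  obtain ⟨⟨c, hcN⟩, hc1⟩ := (Subgroup.ne_bot_iff_exists_ne_one).mp hspec
  have hcN' : c ∈ N := hcN.1
  have hcZ : c ∈ Subgroup.upperCentralSeries F (j + 1) := hcN.2
  have hcen : c ∈ center F := by
    rw [Subgroup.mem_center_iff]
    intro x
    have h1 : ⁅c, x⁆ ∈ Subgroup.upperCentralSeries F j := Subgroup.mem_upperCentralSeries_succ_iff.mp hcZ x
    have h2 : ⁅c, x⁆ ∈ N := by
      rw [commutatorElement_def]
      have : x * c⁻¹ * x⁻¹ ∈ N := ‹N.Normal›.conj_mem _ (N.inv_mem hcN') x
      have := N.mul_mem hcN' this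
      convert this using 1
      group
    have h3 : ⁅c, x⁆ ∈ N ⊓ Subgroup.upperCentralSeries F j := ⟨h2, h1⟩
    rw [hmin, Subgroup.mem_bot] at h3
    exact (commutatorElement_eq_one_iff_mul_comm.mp h3).symm
  intro hbot
  have : c ∈ N ⊓ center F := ⟨hcN', hcen⟩
  rw [hbot, Subgroup.mem_bot] at this
  apply hc1
  exact Subtype.ext this

/-- **FO-8** -/
theorem class_two {F : Type*} [Group F] [Finite F] [Group.IsNilpotent F]
    (h : Squarefree (Nat.card (commutator F))) : Subgroup.upperCentralSeries F 2 = ⊤ := by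
  classical
  set Z : Subgroup F := commutator F ⊓ center F with hZ
  -- every prime divisor of `|F'|` divides `|Z|`
  have hprime : ∀ r : ℕ, r.Prime → r ∣ Nat.card (commutator F) → r ∣ Nat.card Z := by
    intro r hr hdvd
    haveI : Fact r.Prime := ⟨hr⟩
    obtain ⟨c, hc⟩ := exists_prime_orderOf_dvd_card' r hdvd
    have hc' : orderOf (c : F) = r := by rw [Subgroup.orderOf_coe]; exact hc
    have hpg : IsPGroup r (zpowers (c : F)) := by
      apply IsPGroup.of_card (n := 1)
      rw [Nat.card_zpowers, hc', pow_one]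
    obtain ⟨Q, hQ⟩ := hpg.exists_le_sylow
    set N : Subgroup F := commutator F ⊓ (Q : Subgroup F) with hNdef
    have hNn : N.Normal := Subgroup.normal_inf_normal _ _
    have hcN : (c : F) ∈ N := ⟨c.2, hQ (mem_zpowers _)⟩
    have hc1 : (c : F) ≠ 1 := by
      intro h1
      rw [h1, orderOf_one] at hc'
      exact hr.one_lt.ne hc'
    have hNbot : N ≠ ⊥ := by
      intro hb
      rw [hb, Subgroup.mem_bot] at hcN
      exact hc1 hcN
    have hne := inf_center_ne_bot_of_normal N hNbot
    have hle : N ⊓ center F ≤ Z := by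
      intro x hx
      exact ⟨hx.1.1, hx.2⟩
    have hpg2 : IsPGroup r ↥(N ⊓ center F) :=
      Q.2.to_le (fun x hx => hx.1.2)
    obtain ⟨k, hk⟩ := IsPGroup.iff_card.mp hpg2
    have hk0 : k ≠ 0 := by
      rintro rfl
      rw [pow_zero] at hk
      exact hne (Subgroup.card_eq_one.mp hk)
    have : r ∣ Nat.card ↥(N ⊓ center F) := by
      rw [hk]
      exact dvd_pow_self r hk0
    exact this.trans (Subgroup.card_dvd_of_le hle)
  have hdvd : Nat.card (commutator F) ∣ Nat.card Z := by
    rw [← Nat.prod_primeFactors_of_squarefree h]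
    apply Finset.prod_primes_dvd
    · intro p hp
      exact (Nat.prime_of_mem_primeFactors hp).prime
    · intro p hp
      exact hprime p (Nat.prime_of_mem_primeFactors hp) (Nat.dvd_of_mem_primeFactors hp)
  have hZle : Z ≤ commutator F := inf_le_left
  have hZeq : Z = commutator F :=
    Subgroup.eq_of_le_of_card_ge hZle (Nat.le_of_dvd Nat.card_pos hdvd)
  have hcen : commutator F ≤ center F := by
    rw [← hZeq]
    exact inf_le_right
  rw [eq_top_iff]
  intro x _
  rw [show (2 : ℕ) = 1 + 1 from rfl, Subgroup.mem_upperCentralSeries_succ_iff]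
  intro y
  rw [Subgroup.upperCentralSeries_one]
  apply hcen
  rw [_root_.commutator_def]
  exact Subgroup.commutator_mem_commutator (mem_top x) (mem_top y)

end Cfsg.Agent.Lib.Helper28.S4130
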