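import Mathlib
import Cfsg.Agent.Lib.Helper28.USpDefs

/-!
# S5665 FO-KLIN (helper28)
-/

set_option autoImplicit false
set_option linter.unusedSectionVars false
set_option linter.unusedVariables false

namespace Cfsg.Agent.Lib.Helper28.S5665FOKLIN

open Matrix Module QuadraticMap Cfsg.Agent.Lib.Helper6 Cfsg.Agent.Lib.Helper13
open Cfsg.Agent.Lib.Helper28.SpSubf Cfsg.Agent.Lib.Helper28.USp

universe u
variable {F : Type u} [Field F] {m : ℕ}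
variable {θ : Matrix (Fin m ⊕ Fin m) (Fin m ⊕ Fin m) F} {d : F}

local notation "ff" => Cfsg.sympForm m F
local notation "ι" => (Fin m ⊕ Fin m)

/-- `K`-lines are `θ`-invariant -/
theorem theta_mem_Kl (hU : UStrSp θ d) {x v : ι → F} (hx : x ∈ Kl θ v) : θ *ᵥ x ∈ Kl θ v := by
  obtain ⟨a, b, rfl⟩ := mem_Kl.mp hx
  rw [mem_Kl]
  refine ⟨b * d, a, ?_⟩
  rw [mulVec_add, mulVec_smul, mulVec_smul, hU.tt]
  module

theorem not_mem_span_of_not_mem_Kl (hU : UStrSp θ d) (u₁ u₂ : ι → F) (h2 : u₂ ≠ 0)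
    (h1 : u₁ ∉ Kl θ u₂) :
    u₁ ∉ Submodule.span F ({θ *ᵥ u₁, θ *ᵥ u₂, u₁ - u₂} : Set (ι → F)) := by
  intro hmem
  obtain ⟨α, β, γ, h⟩ := Submodule.mem_span_triple.mp hmem
  -- `(1-γ) u₁ - α θ u₁ = w := -γ u₂ + β θ u₂`
  obtain ⟨w, hw⟩ : ∃ w, w = (-γ) • u₂ + β • (θ *ᵥ u₂) := ⟨_, rfl⟩
  have hwK : w ∈ Kl θ u₂ := mem_Kl.mpr ⟨-γ, β, hw⟩
  have e : (1 - γ) • u₁ + (-α) • (θ *ᵥ u₁) = w := by
    rw [hw]
    have : u₁ = α • θ *ᵥ u₁ + β • θ *ᵥ u₂ + γ • (u₁ - u₂) := h.symm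
    calc (1 - γ) • u₁ + (-α) • (θ *ᵥ u₁)
        = u₁ - γ • u₁ - α • (θ *ᵥ u₁) := by module
      _ = (α • θ *ᵥ u₁ + β • θ *ᵥ u₂ + γ • (u₁ - u₂)) - γ • u₁ - α • (θ *ᵥ u₁) := by
          rw [← this]
      _ = (-γ) • u₂ + β • (θ *ᵥ u₂) := by module
  by_cases hcase : 1 - γ = 0 ∧ α = 0
  · obtain ⟨hA, hα⟩ := hcase
    rw [hA, hα, neg_zero, zero_smul, zero_smul, add_zero] at e
    rw [hw] at e
    have := (hU.free h2 e.symm).1
    have hγ : γ = 0 := neg_eq_zero.mp this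
    rw [hγ, sub_zero] at hA
    exact one_ne_zero hA
  · have hab : (1 - γ) ≠ 0 ∨ -α ≠ 0 := by
      by_contra h3
      push Not at h3
      exact hcase ⟨h3.1, neg_eq_zero.mp h3.2⟩
    have hN := hU.norm_ne hab
    apply h1
    -- multiply by the conjugate
    have h4 : (1 - γ) • w - (-α) • (θ *ᵥ w) =
        ((1 - γ) * (1 - γ) - d * (-α * -α)) • u₁ := by
      rw [← e, mulVec_add, mulVec_smul, mulVec_smul, hU.tt]
      module
    have h5 : (1 - γ) • w - (-α) • (θ *ᵥ w) ∈ Kl θ u₂ :=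
      (Kl θ u₂).sub_mem ((Kl θ u₂).smul_mem _ hwK) ((Kl θ u₂).smul_mem _ (theta_mem_Kl hU hwK))
    rw [h4] at h5
    have h6 := (Kl θ u₂).smul_mem (((1 - γ) * (1 - γ) - d * (-α * -α))⁻¹) h5
    rwa [smul_smul, inv_mul_cancel₀ hN, one_smul] at h6

end Cfsg.Agent.Lib.Helper28.S5665FOKLIN
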