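import Mathlib
import Cfsg.Agent.Lib.Helper28.USpDefs
import Cfsg.Agent.Lib.Helper3.S5700FOIII

/-!
# S5665 FO-START (helper28; port of helper3's S5700 FO-III)
-/

set_option autoImplicit false
set_option linter.unusedSectionVars false
set_option linter.unusedVariables false

namespace Cfsg.Agent.Lib.Helper28.S5665FOSTART

open Matrix Module QuadraticMap Cfsg.Agent.Lib.Helper6 Cfsg.Agent.Lib.Helper13
open Cfsg.Agent.Lib.Helper13.OND Cfsg.Agent.Lib.Helper3.S5700FOIII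
open Cfsg.Agent.Lib.Helper28.SpSubf Cfsg.Agent.Lib.Helper28.USp

universe u
variable {F : Type u} [Field F] [Fintype F] {m : ℕ}
variable {θ : Matrix (Fin m ⊕ Fin m) (Fin m ⊕ Fin m) F} {d : F}

local notation "ff" => Cfsg.sympForm m F
local notation "ι" => (Fin m ⊕ Fin m)

/-- a matrix mapping every isotropic vector into its `K`-line lies in `K` -/
theorem eq_comb_of_forall (hU : UStrSp θ d) (hm : 7 ≤ m) (D : Matrix ι ι F)
    (hP : ∀ x : ι → F, Nq θ x = 0 → x ≠ 0 → ∃ a b : F, D *ᵥ x = a • x + b • (θ *ᵥ x)) :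
    ∃ a b : F, D = a • (1 : Matrix ι ι F) + b • θ := by
  classical
  have hUs := hU.ustr
  have hQ := hU.NQ_nondeg
  have hn : 14 ≤ Fintype.card ι := by rw [card_iota]; omega
  -- step 1
  have step1 : ∀ (x y : ι → F), NQ θ x = 0 → NQ θ y = 0 → x ≠ 0 → polar (⇑(NQ θ)) x y = 0 →
      y ∉ Kl θ x →
      ∀ a b c e : F, D *ᵥ x = a • x + b • (θ *ᵥ x) → D *ᵥ y = c • y + e • (θ *ᵥ y) →
      a = c ∧ b = e := by
    intro x y hx hy hx0 hxy hyK a b c e hPx hPy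
    have hs : NQ θ (x + y) = 0 := by rw [Q_add, hx, hy, hxy]; ring
    have hs0 : x + y ≠ 0 := by
      intro h0
      apply hyK
      have : y = (-1 : F) • x + (0 : F) • (θ *ᵥ x) := by
        rw [zero_smul, add_zero, neg_one_smul]
        exact (neg_eq_of_add_eq_zero_right h0).symm
      exact mem_Kl.mpr ⟨-1, 0, this⟩
    obtain ⟨e', f, hPs⟩ := hP (x + y) hs hs0
    rw [mulVec_add, hPx, hPy, mulVec_add] at hPs
    have h0 : (e' - a) • x + (f - b) • (θ *ᵥ x) + ((e' - c) • y + (f - e) • (θ *ᵥ y)) = 0 := by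
      have : (e' - a) • x + (f - b) • (θ *ᵥ x) + ((e' - c) • y + (f - e) • (θ *ᵥ y)) =
          (e' • (x + y) + f • (θ *ᵥ x + θ *ᵥ y)) -
            (a • x + b • (θ *ᵥ x) + (c • y + e • (θ *ᵥ y))) := by
        module
      rw [this, hPs, sub_self]
    obtain ⟨h1, h2, h3, h4⟩ := indep4 hUs hx0 hyK h0
    constructor
    · rw [← sub_eq_zero.mp h1, sub_eq_zero.mp h3]
    · rw [← sub_eq_zero.mp h2, sub_eq_zero.mp h4]
  -- step 2
  have step2 : ∀ (x y : ι → F), NQ θ x = 0 → NQ θ y = 0 → x ≠ 0 → y ≠ 0 →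
      ∀ a b c e : F, D *ᵥ x = a • x + b • (θ *ᵥ x) → D *ᵥ y = c • y + e • (θ *ᵥ y) →
      a = c ∧ b = e := by
    intro x y hx hy hx0 hy0 a b c e hPx hPy
    obtain ⟨T, hTdef⟩ : ∃ T : Submodule F (ι → F),
        T = Submodule.span F (({x, θ *ᵥ x, y, θ *ᵥ y} : Finset (ι → F)) : Set (ι → F)) := ⟨_, rfl⟩
    have hT4 : finrank F T ≤ 4 := by
      rw [hTdef]
      exact le_trans (finrank_span_finset_le_card _) Finset.card_le_four
    have hxT : Kl θ x ≤ T := by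
      rw [hTdef]
      unfold Kl
      apply Submodule.span_mono
      intro v hv
      simp only [Set.mem_insert_iff, Set.mem_singleton_iff] at hv
      simp only [Finset.coe_insert, Finset.coe_singleton, Set.mem_insert_iff,
        Set.mem_singleton_iff]
      tauto
    have hyT : Kl θ y ≤ T := by
      rw [hTdef]
      unfold Kl
      apply Submodule.span_mono
      intro v hv
      simp only [Set.mem_insert_iff, Set.mem_singleton_iff] at hv
      simp only [Finset.coe_insert, Finset.coe_singleton, Set.mem_insert_iff,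
        Set.mem_singleton_iff]
      tauto
    obtain ⟨z, hz0, hQz, hxz, hyz, hzT⟩ := exists_singular_avoid (Q := NQ θ) hn x y T hT4
    obtain ⟨e', f, hPz⟩ := hP z hQz hz0
    have h1 := step1 x z hx hQz hx0 hxz (fun h => hzT (hxT h)) a b e' f hPx hPz
    have h2 := step1 y z hy hQz hy0 hyz (fun h => hzT (hyT h)) c e e' f hPy hPz
    exact ⟨h1.1.trans h2.1.symm, h1.2.trans h2.2.symm⟩
  -- a base point
  have h3 : 3 ≤ finrank F (⊤ : Submodule F (ι → F)) := by rw [finrank_top_eq]; omega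
  obtain ⟨x₀, -, hx₀0, hx₀⟩ := exists_singular_sub (NQ θ) ⊤ h3
  obtain ⟨a, b, hab⟩ := hP x₀ hx₀ hx₀0
  refine ⟨a, b, ?_⟩
  apply matrix_ext_mulVec
  intro v
  rw [add_mulVec, smul_mulVec, smul_mulVec, one_mulVec]
  let Dsub : Submodule F (ι → F) :=
    { carrier := {v | D *ᵥ v = a • v + b • (θ *ᵥ v)}
      add_mem' := by
        intro u w hu hw
        simp only [Set.mem_ofPred_eq] at hu hw ⊢
        rw [mulVec_add, mulVec_add, hu, hw]
        module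
      zero_mem' := by
        simp only [Set.mem_ofPred_eq]
        rw [mulVec_zero, mulVec_zero]
        simp
      smul_mem' := by
        intro c u hu
        simp only [Set.mem_ofPred_eq] at hu ⊢
        rw [mulVec_smul, mulVec_smul, hu]
        module }
  have htop : (⊤ : Submodule F (ι → F)) ≤ Dsub := by
    by_contra hnot
    obtain ⟨z, -, hQz, hzD⟩ := exists_singular_not_mem (NQ θ) ⊤ Dsub (ndOn_top hQ) h3 hnot
    apply hzD
    by_cases hz0 : z = 0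
    · rw [hz0]; exact Dsub.zero_mem
    obtain ⟨c, e, hce⟩ := hP z hQz hz0
    obtain ⟨h1, h2⟩ := step2 x₀ z hx₀ hQz hx₀0 hz0 a b c e hab hce
    show D *ᵥ z = a • z + b • (θ *ᵥ z)
    rw [h1, h2]
    exact hce
  exact htop (Submodule.mem_top : v ∈ ⊤)

/-- FO-START -/
theorem exists_start (hU : UStrSp θ d) (hm : 7 ≤ m) (g : GL ι F)
    (hgK : ¬ ∃ a b : F, ((g⁻¹ : GL ι F) : Matrix ι ι F) * θ * (g : Matrix ι ι F) =
      a • (1 : Matrix ι ι F) + b • θ) :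
    ∃ y : ι → F, y ≠ 0 ∧ Nq θ y = 0 ∧
      (g : Matrix ι ι F) *ᵥ y ∉ Submodule.span F
        ({(g : Matrix ι ι F) *ᵥ (θ *ᵥ y), θ *ᵥ ((g : Matrix ι ι F) *ᵥ y),
          θ *ᵥ ((g : Matrix ι ι F) *ᵥ (θ *ᵥ y))} : Set (ι → F)) := by
  by_contra hcon
  push Not at hcon
  apply hgK
  apply eq_comb_of_forall hU hm
  intro x hx hx0
  have hd := hU.d_ne
  obtain ⟨a', ha'⟩ : ∃ a', a' = (g : Matrix ι ι F) *ᵥ x := ⟨_, rfl⟩
  obtain ⟨b', hb'⟩ : ∃ b', b' = (g : Matrix ι ι F) *ᵥ (θ *ᵥ x) := ⟨_, rfl⟩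
  have hmem := hcon x hx0 hx
  rw [← ha', ← hb'] at hmem
  obtain ⟨c₁, c₂, c₃, h⟩ := Submodule.mem_span_triple.mp hmem
  -- `(1 - c₂ θ) a' = (c₁ + c₃ θ) b'`
  have hN : (1 : F) * 1 - d * (c₂ * c₂) ≠ 0 := hU.norm_ne (Or.inl one_ne_zero)
  obtain ⟨N, hNdef⟩ : ∃ N : F, N = 1 * 1 - d * (c₂ * c₂) := ⟨_, rfl⟩
  rw [← hNdef] at hN
  have e1 : N • a' = (c₁ + c₂ * c₃ * d) • b' + (c₃ + c₁ * c₂) • (θ *ᵥ b') := by
    have h1 : a' - c₂ • (θ *ᵥ a') = c₁ • b' + c₃ • (θ *ᵥ b') := by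
      calc a' - c₂ • (θ *ᵥ a')
          = (c₁ • b' + c₂ • θ *ᵥ a' + c₃ • θ *ᵥ b') - c₂ • (θ *ᵥ a') := by rw [h]
        _ = c₁ • b' + c₃ • (θ *ᵥ b') := by module
    have h2 : (a' - c₂ • (θ *ᵥ a')) + c₂ • (θ *ᵥ (a' - c₂ • (θ *ᵥ a'))) = N • a' := by
      rw [mulVec_sub, mulVec_smul, hU.tt, hNdef]
      module
    rw [← h2, h1, mulVec_add, mulVec_smul, mulVec_smul, hU.tt]
    module
  obtain ⟨A, hA⟩ : ∃ A : F, A = (c₁ + c₂ * c₃ * d) / N := ⟨_, rfl⟩
  obtain ⟨B, hB⟩ : ∃ B : F, B = (c₃ + c₁ * c₂) / N := ⟨_, rfl⟩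
  have e2 : a' = A • b' + B • (θ *ᵥ b') := by
    have : a' = N⁻¹ • (N • a') := by rw [smul_smul, inv_mul_cancel₀ hN, one_smul]
    rw [this, e1, hA, hB]
    rw [smul_add, smul_smul, smul_smul]
    congr 1 <;> congr 1 <;> field_simp
  have hgx : ((g⁻¹ : GL ι F) : Matrix ι ι F) *ᵥ a' = x := by rw [ha', inv_mulVec_mulVec]
  have hgtx : ((g⁻¹ : GL ι F) : Matrix ι ι F) *ᵥ b' = θ *ᵥ x := by rw [hb', inv_mulVec_mulVec]
  have hB0 : B ≠ 0 := by
    intro hB0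
    rw [hB0, zero_smul, add_zero] at e2
    have h3 := congrArg (fun v => ((g⁻¹ : GL ι F) : Matrix ι ι F) *ᵥ v) e2
    simp only [mulVec_smul, hgx, hgtx] at h3
    have h4 : (1 : F) • x + (-A) • (θ *ᵥ x) = 0 := by
      rw [one_smul, neg_smul, ← h3, sub_eq_add_neg _ _ |>.symm, sub_self]
    exact one_ne_zero (hU.free hx0 h4).1
  -- `θ b' = B⁻¹ (a' - A b')`
  have e3 : θ *ᵥ b' = B⁻¹ • a' + (-(B⁻¹ * A)) • b' := by
    rw [e2, smul_add, smul_smul, smul_smul, inv_mul_cancel₀ hB0, one_smul]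
    module
  have e4 : θ *ᵥ a' = (A * B⁻¹) • a' + (B * d - A * (B⁻¹ * A)) • b' := by
    conv_lhs => rw [e2]
    rw [mulVec_add, mulVec_smul, mulVec_smul, hU.tt, e3]
    module
  refine ⟨A * B⁻¹, B * d - A * (B⁻¹ * A), ?_⟩
  rw [← mulVec_mulVec, ← mulVec_mulVec, ← ha', e4, mulVec_add, mulVec_smul, mulVec_smul, hgx, hgtx]

end Cfsg.Agent.Lib.Helper28.S5665FOSTART
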