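import Mathlib
import Cfsg.Agent.Lib.Helper28.USpDefs
import Cfsg.Agent.Lib.Helper27.S5650FOSYL

/-!
# S5665 FO-SYL (helper28): the Sylow trick for two double transvections

`α = T(a,1) T(b,λ)`, `β = T(z,1) T(w,μ)` in a finite `M ≤ Sp`, `b, w` orthogonal to `a, b, z, w`,
`f(z,a) ≠ 0`: there is `δ ∈ M` with `δ a = c z`, `c ≠ 0`, `δ b = b`.
-/

set_option autoImplicit false
set_option linter.unusedSectionVars false
set_option linter.unusedVariables false

namespace Cfsg.Agent.Lib.Helper28.S5665FOSYL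

open Matrix Cfsg.Agent.Lib.Helper6 Cfsg.Agent.Lib.Helper13 Cfsg.Agent.Lib.Helper28.SpSubf
open Cfsg.Agent.Lib.Helper28.USp Cfsg.Agent.Lib.Helper27.S5650FOSYL

universe u
variable {F : Type u} [Field F] {m : ℕ}

local notation "ff" => Cfsg.sympForm m F
local notation "ι" => (Fin m ⊕ Fin m)

theorem sympTransvGL_pow (v : ι → F) (c : F) (n : ℕ) :
    sympTransvGL v c ^ n = sympTransvGL v ((n : F) * c) := by
  induction n with
  | zero => rw [pow_zero, Nat.cast_zero, zero_mul, sympTransvGL_zero]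
  | succ n ih =>
    rw [pow_succ, ih, sympTransvGL_mul, Nat.cast_succ]
    congr 1
    ring

/-- an element of `Sp` fixing `b` commutes with `T(b,x)` -/
theorem comm_of_fix (h : GL ι F) (hS : h ∈ Cfsg.spGL m F) (b : ι → F) (x : F)
    (hb : (h : Matrix ι ι F) *ᵥ b = b) : h * sympTransvGL b x = sympTransvGL b x * h := by
  have := conj_sympTransvGL h hS b x
  rw [hb] at this
  calc h * sympTransvGL b x = (h * sympTransvGL b x * h⁻¹) * h := by group
    _ = sympTransvGL b x * h := by rw [this]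

/-- the shape of the elements of `⟨T(a,1) T(b,λ), T(z,1) T(w,μ)⟩` -/
def PP (a b z w : ι → F) (g : GL ι F) : Prop :=
  ∃ (g₁ : GL ι F) (x y : F), QQ a z g₁ ∧ g₁ ∈ Cfsg.spGL m F ∧
    g = g₁ * (sympTransvGL b x * sympTransvGL w y)

section pp
variable {a b z w : Fin m ⊕ Fin m → F}

theorem PP_one : PP a b z w (1 : GL ι F) :=
  ⟨1, 0, 0, QQ_one a z, (Cfsg.spGL m F).one_mem, by
    rw [sympTransvGL_zero, sympTransvGL_zero, one_mul, one_mul]⟩

theorem cen_comm (hba : ff b a = 0) (hbz : ff b z = 0) (hwa : ff w a = 0) (hwz : ff w z = 0)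
    {h₁ : GL ι F} (hQ : QQ a z h₁) (hS : h₁ ∈ Cfsg.spGL m F) (x y : F) :
    h₁ * (sympTransvGL b x * sympTransvGL w y) = (sympTransvGL b x * sympTransvGL w y) * h₁ := by
  have h1 := comm_of_fix h₁ hS b x (hQ.2 b hba hbz)
  have h2 := comm_of_fix h₁ hS w y (hQ.2 w hwa hwz)
  rw [← mul_assoc, h1, mul_assoc, h2, mul_assoc]

theorem PP_mul (hba : ff b a = 0) (hbz : ff b z = 0) (hwa : ff w a = 0) (hwz : ff w z = 0)
    (hwb : ff w b = 0) {g h : GL ι F} (hg : PP a b z w g) (hh : PP a b z w h) :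
    PP a b z w (g * h) := by
  obtain ⟨g₁, x, y, hQg, hSg, rfl⟩ := hg
  obtain ⟨h₁, x', y', hQh, hSh, rfl⟩ := hh
  refine ⟨g₁ * h₁, x + x', y + y', QQ_mul a z hQg hQh, (Cfsg.spGL m F).mul_mem hSg hSh, ?_⟩
  have hc := cen_comm hba hbz hwa hwz hQh hSh x y
  have e : sympTransvGL b x * sympTransvGL w y * (sympTransvGL b x' * sympTransvGL w y') =
      sympTransvGL b (x + x') * sympTransvGL w (y + y') := by
    rw [mul_assoc, ← mul_assoc (sympTransvGL w y), sympTransvGL_comm hwb, mul_assoc,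
      sympTransvGL_mul, ← mul_assoc, sympTransvGL_mul]
  calc g₁ * (sympTransvGL b x * sympTransvGL w y) * (h₁ * (sympTransvGL b x' * sympTransvGL w y'))
      = g₁ * ((sympTransvGL b x * sympTransvGL w y) * h₁) *
          (sympTransvGL b x' * sympTransvGL w y') := by group
    _ = g₁ * (h₁ * (sympTransvGL b x * sympTransvGL w y)) *
          (sympTransvGL b x' * sympTransvGL w y') := by rw [hc]
    _ = g₁ * h₁ * ((sympTransvGL b x * sympTransvGL w y) *
          (sympTransvGL b x' * sympTransvGL w y')) := by group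
    _ = g₁ * h₁ * (sympTransvGL b (x + x') * sympTransvGL w (y + y')) := by rw [e]

theorem PP_inv (hba : ff b a = 0) (hbz : ff b z = 0) (hwa : ff w a = 0) (hwz : ff w z = 0)
    (hwb : ff w b = 0) {g : GL ι F} (hg : PP a b z w g) : PP a b z w g⁻¹ := by
  obtain ⟨g₁, x, y, hQg, hSg, rfl⟩ := hg
  refine ⟨g₁⁻¹, -x, -y, QQ_inv a z hQg, (Cfsg.spGL m F).inv_mem hSg, ?_⟩
  have hc := cen_comm hba hbz hwa hwz (QQ_inv a z hQg) ((Cfsg.spGL m F).inv_mem hSg) (-x) (-y)
  rw [hc, _root_.mul_inv_rev]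
  congr 1
  rw [_root_.mul_inv_rev, sympTransvGL_inv, sympTransvGL_inv, sympTransvGL_comm hwb]

theorem PP_of_mem_closure (hba : ff b a = 0) (hbz : ff b z = 0) (hwa : ff w a = 0)
    (hwz : ff w z = 0) (hwb : ff w b = 0) (lam mu : F) {g : GL ι F}
    (hg : g ∈ Subgroup.closure ({sympTransvGL a 1 * sympTransvGL b lam,
      sympTransvGL z 1 * sympTransvGL w mu} : Set (GL ι F))) : PP a b z w g := by
  induction hg using Subgroup.closure_induction with
  | mem x hx =>
    rcases hx with rfl | rfl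
    · exact ⟨sympTransvGL a 1, lam, 0, QQ_transv_left a z 1, sympTransvGL_mem _ _, by
        rw [sympTransvGL_zero, mul_one]⟩
    · exact ⟨sympTransvGL z 1, 0, mu, QQ_transv_right a z 1, sympTransvGL_mem _ _, by
        rw [sympTransvGL_zero, one_mul]⟩
  | one => exact PP_one
  | mul x y _ _ hx hy => exact PP_mul hba hbz hwa hwz hwb hx hy
  | inv x _ hx => exact PP_inv hba hbz hwa hwz hwb hx

end pp

theorem exists_sylow_conj2 [Finite F] {M : Subgroup (GL (Fin m ⊕ Fin m) F)}
    (hMS : M ≤ Cfsg.spGL m F) (a b z w : ι → F) (lam mu : F)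
    (hab : ff a b = 0) (hzw : ff z w = 0) (hzb : ff z b = 0) (hwa : ff w a = 0)
    (hwb : ff w b = 0) (hza : ff z a ≠ 0)
    (hE : sympTransvGL a 1 * sympTransvGL b lam ∈ M)
    (hT : sympTransvGL z 1 * sympTransvGL w mu ∈ M) :
    ∃ δ ∈ M, ∃ c : F, c ≠ 0 ∧ (δ : Matrix ι ι F) *ᵥ a = c • z ∧ (δ : Matrix ι ι F) *ᵥ b = b := by
  classical
  haveI : Fintype F := Fintype.ofFinite F
  set p := ringChar F with hp
  haveI hcp : CharP F p := ringChar.charP F
  have hpp : p.Prime := CharP.char_is_prime F p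
  have : Fact p.Prime := ⟨hpp⟩
  have hba : ff b a = 0 := by rw [sympForm_swap, hab, neg_zero]
  have hbz : ff b z = 0 := by rw [sympForm_swap, hzb, neg_zero]
  have hwz : ff w z = 0 := by rw [sympForm_swap, hzw, neg_zero]
  have haw : ff a w = 0 := by rw [sympForm_swap, hwa, neg_zero]
  have hbw : ff b w = 0 := by rw [sympForm_swap, hwb, neg_zero]
  have ha0 : a ≠ 0 := by
    rintro rfl
    exact hza (sympForm_zero_right z)
  haveI : Nonempty ι := by
    by_contra hne
    rw [not_nonempty_iff] at hne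
    exact ha0 (Subsingleton.elim _ _)
  set α : GL ι F := sympTransvGL a 1 * sympTransvGL b lam with hα
  set β : GL ι F := sympTransvGL z 1 * sympTransvGL w mu with hβ
  set G₀ : Subgroup (GL ι F) := Subgroup.closure ({α, β} : Set (GL ι F)) with hG₀
  have hG₀M : G₀ ≤ M := by
    rw [hG₀, Subgroup.closure_le]
    rintro x (rfl | rfl)
    · exact hE
    · exact hT
  have hαG : α ∈ G₀ := Subgroup.subset_closure (by simp)
  have hβG : β ∈ G₀ := Subgroup.subset_closure (by simp)
  have hpowp : ∀ (v : ι → F) (c : F), sympTransvGL v c ^ p = 1 := by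
    intro v c
    rw [sympTransvGL_pow, CharP.cast_eq_zero, zero_mul, sympTransvGL_zero]
  have hαp : α ^ p = 1 := by
    rw [hα, (show Commute (sympTransvGL a 1) (sympTransvGL b lam) from
      sympTransvGL_comm hab 1 lam).mul_pow, hpowp, hpowp, one_mul]
  have hβp : β ^ p = 1 := by
    rw [hβ, (show Commute (sympTransvGL z 1) (sympTransvGL w mu) from
      sympTransvGL_comm hzw 1 mu).mul_pow, hpowp, hpowp, one_mul]
  set a' : G₀ := ⟨α, hαG⟩ with ha'
  set b' : G₀ := ⟨β, hβG⟩ with hb'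
  have hap : a' ^ p = 1 := Subtype.ext (by simpa using hαp)
  have hbp : b' ^ p = 1 := Subtype.ext (by simpa using hβp)
  have hPG : ∀ t : G₀, t ^ p = 1 → IsPGroup p (Subgroup.zpowers t) := by
    intro t ht
    rintro ⟨g, hg⟩
    obtain ⟨n, rfl⟩ := Subgroup.mem_zpowers_iff.mp hg
    refine ⟨1, Subtype.ext ?_⟩
    simp only [pow_one, Subgroup.coe_pow, Subgroup.coe_one]
    rw [← zpow_natCast, ← _root_.zpow_mul, mul_comm, _root_.zpow_mul, zpow_natCast, ht,
      _root_.one_zpow]
  obtain ⟨Pv, hPv⟩ := (hPG a' hap).exists_le_sylow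
  obtain ⟨Pw, hPw⟩ := (hPG b' hbp).exists_le_sylow
  obtain ⟨g, hg⟩ := MulAction.exists_smul_eq G₀ Pv Pw
  have haPv : a' ∈ (Pv : Subgroup G₀) := hPv (Subgroup.mem_zpowers a')
  have hbPw : b' ∈ (Pw : Subgroup G₀) := hPw (Subgroup.mem_zpowers b')
  have hgaPw : g * a' * g⁻¹ ∈ (Pw : Subgroup G₀) := by
    rw [← hg, Sylow.coe_subgroup_smul]
    have := Subgroup.smul_mem_pointwise_smul a' (MulAut.conj g) (Pv : Subgroup G₀) haPv
    simpa [MulAut.smul_def] using this
  have hcPw : b' * (g * a' * g⁻¹) ∈ (Pw : Subgroup G₀) := (Pw : Subgroup G₀).mul_mem hbPw hgaPw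
  obtain ⟨k, hk⟩ := Pw.isPGroup' ⟨_, hcPw⟩
  -- translate to matrices
  set δ : GL ι F := (g : GL ι F) with hδ
  have hδG₀ : δ ∈ G₀ := g.2
  have hδS : δ ∈ Cfsg.spGL m F := hMS (hG₀M hδG₀)
  have hk' : (β * (δ * α * δ⁻¹) : GL ι F) ^ (p ^ k) = 1 := by
    have := congrArg (fun t : (Pw : Subgroup G₀) => ((t : G₀) : GL ι F)) hk
    simp only [Subgroup.coe_pow, Subgroup.coe_mul, Subgroup.coe_one, Subgroup.coe_inv] at this
    exact this
  obtain ⟨g₁, x, y, hQ, hS₁, hδeq⟩ := PP_of_mem_closure hba hbz hwa hwz hwb lam mu hδG₀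
  -- the action of `δ` on `a` and `b`
  have hCa : ((sympTransvGL b x * sympTransvGL w y : GL ι F) : Matrix ι ι F) *ᵥ a = a := by
    rw [Units.val_mul, ← mulVec_mulVec, sympTransvGL_mulVec w, haw, mul_zero, zero_smul, add_zero,
      sympTransvGL_mulVec, hab, mul_zero, zero_smul, add_zero]
  have hCb : ((sympTransvGL b x * sympTransvGL w y : GL ι F) : Matrix ι ι F) *ᵥ b = b := by
    rw [Units.val_mul, ← mulVec_mulVec, sympTransvGL_mulVec w, hbw, mul_zero, zero_smul, add_zero,
      sympTransvGL_mulVec, sympForm_self, mul_zero, zero_smul, add_zero]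
  set u : ι → F := (δ : Matrix ι ι F) *ᵥ a with hu
  have hu1 : u = (g₁ : Matrix ι ι F) *ᵥ a := by
    rw [hu, hδeq, Units.val_mul, ← mulVec_mulVec, hCa]
  have hδb : (δ : Matrix ι ι F) *ᵥ b = b := by
    rw [hδeq, Units.val_mul, ← mulVec_mulVec, hCb]
    exact hQ.2 b hba hbz
  obtain ⟨x₁, x₂, hx12⟩ := hQ.1 a
  have hu' : u = (1 + x₁) • a + x₂ • z := by
    rw [hu1, hx12]
    module
  have hwu : ff w u = 0 := by
    rw [hu', sympForm_add_right, sympForm_smul_right, sympForm_smul_right, hwa, hwz]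
    ring
  have hbu : ff b u = 0 := by
    rw [hu', sympForm_add_right, sympForm_smul_right, sympForm_smul_right, hba, hbz]
    ring
  have hconj : δ * α * δ⁻¹ = sympTransvGL u 1 * sympTransvGL b lam := by
    rw [hα, hu]
    conv_rhs => rw [← hδb, ← conj_sympTransvGL δ hδS a 1, ← conj_sympTransvGL δ hδS b lam]
    group
  -- `β * δ α δ⁻¹ = X * Y`
  set X : GL ι F := sympTransvGL z 1 * sympTransvGL u 1 with hX
  set Y : GL ι F := sympTransvGL w mu * sympTransvGL b lam with hY
  have hXY : β * (δ * α * δ⁻¹) = X * Y := by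
    rw [hconj, hβ, hX, hY, mul_assoc, ← mul_assoc (sympTransvGL w mu), sympTransvGL_comm hwu,
      mul_assoc, mul_assoc]
  have hcomm : Commute X Y := by
    have c1 : Commute (sympTransvGL z 1) (sympTransvGL w mu) := sympTransvGL_comm hzw 1 mu
    have c2 : Commute (sympTransvGL z 1) (sympTransvGL b lam) := sympTransvGL_comm hzb 1 lam
    have c3 : Commute (sympTransvGL u 1) (sympTransvGL w mu) :=
      (sympTransvGL_comm hwu mu 1 : Commute _ _).symm
    have c4 : Commute (sympTransvGL u 1) (sympTransvGL b lam) :=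
      (sympTransvGL_comm hbu lam 1 : Commute _ _).symm
    exact (c1.mul_right c2).mul_left (c3.mul_right c4)
  have hYp : Y ^ p = 1 := by
    rw [hY, (show Commute (sympTransvGL w mu) (sympTransvGL b lam) from
      sympTransvGL_comm hwb mu lam).mul_pow, hpowp, hpowp, one_mul]
  have hXp : X ^ (p ^ (k + 1)) = 1 := by
    have h1 : (X * Y) ^ (p ^ (k + 1)) = 1 := by
      rw [← hXY, pow_succ, pow_mul, hk', one_pow]
    have h2 : Y ^ (p ^ (k + 1)) = 1 := by
      rw [pow_succ' p k, pow_mul Y, hYp, one_pow]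
    rw [hcomm.mul_pow, h2, mul_one] at h1
    exact h1
  -- `B(z, u) = 0`
  have hγ : ff z u = 0 := by
    by_contra hγ
    have hN : ((((sympTransvGL z 1 * sympTransvGL u 1 : GL ι F) : Matrix ι ι F) - 1) ^
        (p ^ (k + 1))) = 0 := by
      rw [sub_pow_char_pow_of_commute p (k + 1) (Commute.one_right _), one_pow,
        ← Units.val_pow_eq_pow_val, hXp, Units.val_one, sub_self]
    have := N_pow_ne u z hγ (p ^ (k + 1))
    rw [hN, zero_mulVec] at this
    rcases this with h | h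
    · exact h (sympForm_zero_left u)
    · exact h (sympForm_zero_left z)
  have hx1 : 1 + x₁ = 0 := by
    rw [hu', sympForm_add_right, sympForm_smul_right, sympForm_smul_right, sympForm_self,
      mul_zero, add_zero] at hγ
    rcases mul_eq_zero.mp hγ with h | h
    · exact h
    · exact absurd h hza
  refine ⟨δ, hG₀M hδG₀, x₂, ?_, ?_, hδb⟩
  · rintro rfl
    rw [hx1, zero_smul, zero_smul, add_zero] at hu'
    apply ha0
    have := inv_mulVec_mulVec δ a
    rw [← hu, hu', mulVec_zero] at this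
    exact this.symm
  · rw [← hu, hu', hx1, zero_smul, zero_add]

end Cfsg.Agent.Lib.Helper28.S5665FOSYL
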