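/-
S5670 FO-T2T3 final wiring (helper28): the assembly of notes/S5670T2T3Skel_helper8.lean.txt (written by helper8)
against the landed pieces T2-S/T2-C (helper8), T2-R (helper17), T2-L (helper21).
-/
import Mathlib
import Cfsg.Agent.Lib.Helper8.S5670T2Defs
import Cfsg.Agent.Lib.Helper8.S5670T2S
import Cfsg.Agent.Lib.Helper8.S5670T2P
import Cfsg.Agent.Lib.Helper8.S5670T2C
import Cfsg.Agent.Lib.Helper17.S5670T2R
import Cfsg.Agent.Lib.Helper21.S5670T2L

set_option autoImplicit false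
set_option linter.unusedSectionVars false
set_option linter.unusedVariables false

namespace Cfsg.Agent.Lib.Helper28.S5670T2T3w

open Matrix Module
open Cfsg.Agent.Lib.Helper16.Tens Cfsg.Agent.Lib.Helper10.TensFund Cfsg.Agent.Lib.Helper28.TensU
open Cfsg.Agent.Lib.Helper8.S5670T2
open Cfsg.Agent.Lib.Helper8.S5670T2S Cfsg.Agent.Lib.Helper8.S5670T2C
open Cfsg.Agent.Lib.Helper17.S5670T2R (decomp_rad)
open Cfsg.Agent.Lib.Helper21.S5670T2L (decomp_levi)
open scoped Kronecker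

variable {F : Type*} [Field F] [Fintype F] {a b : ℕ} {q : ℕ}
variable {M : Subgroup (GL (Fin a × Fin b) F)}

local notation "K" => Cfsg.Geo.kroneckerSubgroup a b F
local notation "V" => (Fin a × Fin b → F)

/-! ## assembly (helper8) -/

theorem act_one_w (v : V) : act (1 : GL (Fin a × Fin b) F) v = v := by
  rw [act_apply]; simp

/-- FO-T2T3 of notes/S5670Skel_helper28.lean.txt -/
theorem exists_center_of_stab (hF : Fintype.card F = q ^ 2) (ha : 2 ≤ a) (hab : a < b) (hb : 4 ≤ b)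
    (hM : OverU q M)
    (m : GL (Fin a × Fin b) F) (hm : m ∈ M) (hmK : m ∉ K) (k₀ : Fin b → F) (hk0 : k₀ ≠ 0) (hk : hs q k₀ k₀ = 0)
    (hstab : img m (pt (a := a) k₀) = pt k₀) :
    ∃ z ∈ M, z ∉ K ∧ ∀ v ∈ hyp (a := a) (cj q k₀), act z v = v := by
  by_contra hcon
  push Not at hcon
  have H : ∀ z ∈ M, (∀ v ∈ hyp (a := a) (cj q k₀), act z v = v) → z ∈ K := by
    intro z hz hfix
    by_contra hzK
    obtain ⟨v, hv, hne⟩ := hcon z hz hzK
    exact hne (hfix v hv)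
  have hsM : ∀ (y : Fin b → F) (c : F) (hy : hs q y k₀ = 0) (hy' : hs q k₀ y = 0),
      c + c ^ q + hs q y y = 0 → sieg q k₀ y c hk hy hy' ∈ M := by
    intro y c hy hy' hc
    exact hM.kron_mem _ (sieg_mem_kron k₀ y c hk hy hy') (sieg_mem_UG hF k₀ y c hk hy hy' hc)
      (sieg_mem_SL k₀ y c hk hy hy')
  have S1 : ∀ g ∈ M, InRad q k₀ g → g ∈ K := by
    intro g hg hgr
    have hnorm : ∀ (y : Fin b → F) (c : F) (hy : hs q y k₀ = 0) (hy' : hs q k₀ y = 0),
        c + c ^ q + hs q y y = 0 → g * sieg q k₀ y c hk hy hy' * g⁻¹ ∈ K := by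
      intro y c hy hy' hc
      have hrM := hsM y c hy hy' hc
      have hcomm : g * sieg q k₀ y c hk hy hy' * g⁻¹ * (sieg q k₀ y c hk hy hy')⁻¹ ∈ K :=
        H _ (M.mul_mem (M.mul_mem (M.mul_mem hg hrM) (M.inv_mem hg)) (M.inv_mem hrM))
          (comm_fix k₀ g _ hgr (inRad_sieg k₀ y c hk hy hy'))
      have h2 : g * sieg q k₀ y c hk hy hy' * g⁻¹ =
          (g * sieg q k₀ y c hk hy hy' * g⁻¹ * (sieg q k₀ y c hk hy hy')⁻¹) * sieg q k₀ y c hk hy hy' := by
        group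
      rw [h2]
      exact (K).mul_mem hcomm (sieg_mem_kron k₀ y c hk hy hy')
    obtain ⟨y, c, hy, hy', hc, heq⟩ := decomp_rad hF (by omega) k₀ hk0 hk g (hM.le_UG hg) hgr hnorm
    have hnM := hsM y c hy hy' hc
    have hz : (sieg q k₀ y c hk hy hy')⁻¹ * g ∈ K := by
      apply H _ (M.mul_mem (M.inv_mem hnM) hg)
      intro v hv
      rw [act_mul, heq v hv, ← act_mul, inv_mul_cancel, act_one_w]
    have h2 : g = sieg q k₀ y c hk hy hy' * ((sieg q k₀ y c hk hy hy')⁻¹ * g) := by group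
    rw [h2]
    exact (K).mul_mem (sieg_mem_kron k₀ y c hk hy hy') hz
  apply hmK
  have hnorm : ∀ (y : Fin b → F) (c : F) (hy : hs q y k₀ = 0) (hy' : hs q k₀ y = 0),
      c + c ^ q + hs q y y = 0 → m * sieg q k₀ y c hk hy hy' * m⁻¹ ∈ K := by
    intro y c hy hy' hc
    exact S1 _ (M.mul_mem (M.mul_mem hm (hsM y c hy hy' hc)) (M.inv_mem hm))
      (conj_inRad hF m (hM.le_UG hm) k₀ hstab _ (inRad_sieg k₀ y c hk hy hy'))
  obtain ⟨n, hnK, hnU, hnS, hrad⟩ :=
    decomp_levi hF (by omega) hb k₀ hk0 hk m (hM.le_UG hm) (hM.le_SL hm) hstab hnorm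
  have hnM : n ∈ M := hM.kron_mem n hnK hnU hnS
  have hz : n⁻¹ * m ∈ K := S1 _ (M.mul_mem (M.inv_mem hnM) hm) hrad
  have h2 : m = n * (n⁻¹ * m) := by group
  rw [h2]
  exact (K).mul_mem hnK hz

end Cfsg.Agent.Lib.Helper28.S5670T2T3w
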