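import Mathlib
import Cfsg.Agent.Lib.Helper15.S5670T4Defs
import Cfsg.Agent.Lib.Helper6.SUSimple
import Cfsg.Agent.Lib.Helper13.SubfSU
import Cfsg.Agent.Lib.Helper28.S5670T4TRANSA

/-!
# S5670 T4-CONV2: from a non-isotropic `u` to an isotropic one, `q = 2`, `a ≥ 3`

`F = F_4`, `ω² + ω + 1 = 0`; every nonzero norm is `1`.  By `exists_su_map_aniso` and `hK.left`
every `tp v k₀` with `v` of norm one lies in `X`.  For the standard basis vectors `g₀, g₁, g₂`,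
`e = g₀ + g₁` (isotropic) and `v_β = e + β g₂` (`β = 1, ω, ω²`, all of norm one) one has
`Σ_β h(y, v_β) v_β + h(y, g₂) g₂ = h(y, e) e`, so the transvection with centre `tp e k₀` is the
product of four commuting transvections with centres in `X`.
-/

set_option autoImplicit false

namespace Cfsg.Agent.Lib.Helper28.S5670T4CONV2

open Matrix Module
open Cfsg.Agent.Lib.Helper6 Cfsg.Agent.Lib.Helper6.SUG Cfsg.Agent.Lib.Helper13
open Cfsg.Agent.S0779 Cfsg.Agent.S0781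
open Cfsg.Agent.Lib.Helper15.S5670T4

variable {F : Type*} [Field F] [Fintype F] {a b n q : ℕ}
variable {tp : (Fin a → F) → (Fin b → F) → (Fin n → F)} {M : Subgroup (GL (Fin n) F)}

local notation "hU" => Cfsg.hermForm a F q
local notation "hW" => Cfsg.hermForm b F q
local notation "hV" => Cfsg.hermForm n F q

/-! ## the field with four elements -/

theorem two_eq_zero (hF : Fintype.card F = q ^ 2) (hq : q = 2) : (2 : F) = 0 := by
  have h4 : ((Fintype.card F : ℕ) : F) = 0 := FiniteField.cast_card_eq_zero F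
  rw [hF, hq] at h4
  have h5 : (2 : F) * 2 = 0 := by
    have : ((2 ^ 2 : ℕ) : F) = 2 * 2 := by norm_num
    rw [← this]
    exact h4
  exact mul_self_eq_zero.mp h5

theorem exists_omega (hF : Fintype.card F = q ^ 2) (hq : q = 2) :
    ∃ ω : F, ω ^ 2 + ω + 1 = 0 := by
  classical
  have hcard : Fintype.card F = 4 := by rw [hF, hq]; norm_num
  obtain ⟨ω, -, hω⟩ : ∃ ω, ω ∈ (Finset.univ : Finset F) ∧ ω ∉ ({0, 1} : Finset F) := by
    apply Finset.exists_mem_notMem_of_card_lt_card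
    rw [Finset.card_univ, hcard]
    exact lt_of_le_of_lt Finset.card_le_two (by norm_num)
  have h0 : ω ≠ 0 := fun h => hω (by rw [h]; simp)
  have h1 : ω ≠ 1 := fun h => hω (by rw [h]; simp)
  have h3 : ω ^ 3 = 1 := by
    have := FiniteField.pow_card_sub_one_eq_one ω h0
    rwa [hcard] at this
  refine ⟨ω, ?_⟩
  have : (ω - 1) * (ω ^ 2 + ω + 1) = 0 := by linear_combination h3
  rcases mul_eq_zero.mp this with h | h
  · exact absurd (sub_eq_zero.mp h) h1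
  · exact h

/-! ## geometry of `F^a` -/

theorem herm_single_single (hF : Fintype.card F = q ^ 2) (i j : Fin a) :
    hU (Pi.single i 1) (Pi.single j 1) = if i = j then 1 else 0 := by
  rw [herm_single_right hF, Pi.single_apply]
  simp only [eq_comm]

/-- the vectors `g₀ + g₁ + β g₂` -/
def vv (g₀ g₁ g₂ : Fin a → F) (β : F) : Fin a → F := g₀ + g₁ + β • g₂

theorem norm_vv (hF : Fintype.card F = q ^ 2) (h2 : (2 : F) = 0) (g₀ g₁ g₂ : Fin a → F)
    (h00 : hU g₀ g₀ = 1) (h11 : hU g₁ g₁ = 1) (h22 : hU g₂ g₂ = 1) (h01 : hU g₀ g₁ = 0)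
    (h02 : hU g₀ g₂ = 0) (h12 : hU g₁ g₂ = 0) (β : F) (hβ : β * β ^ q = 1) :
    hU (vv g₀ g₁ g₂ β) (vv g₀ g₁ g₂ β) = 1 := by
  have h10 := herm_swap_zero hF h01
  have h20 := herm_swap_zero hF h02
  have h21 := herm_swap_zero hF h12
  unfold vv
  simp only [herm_add_left, herm_add_right hF, herm_smul_left, herm_smul_right, h00, h11, h22,
    h01, h02, h12, h10, h20, h21]
  linear_combination hβ + h2

theorem norm_e (hF : Fintype.card F = q ^ 2) (h2 : (2 : F) = 0) (g₀ g₁ : Fin a → F)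
    (h00 : hU g₀ g₀ = 1) (h11 : hU g₁ g₁ = 1) (h01 : hU g₀ g₁ = 0) :
    hU (g₀ + g₁) (g₀ + g₁) = 0 := by
  have h10 := herm_swap_zero hF h01
  simp only [herm_add_left, herm_add_right hF, h00, h11, h01, h10]
  linear_combination h2

/-- the key identity on `F^a` -/
theorem key_identity (hF : Fintype.card F = q ^ 2) (hq : q = 2) (h2 : (2 : F) = 0)
    (g₀ g₁ g₂ : Fin a → F) (ω : F) (hω : ω ^ 2 + ω + 1 = 0) (y : Fin a → F) :
    hU y (vv g₀ g₁ g₂ 1) • vv g₀ g₁ g₂ 1 + hU y (vv g₀ g₁ g₂ ω) • vv g₀ g₁ g₂ ω +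
      hU y (vv g₀ g₁ g₂ (ω ^ 2)) • vv g₀ g₁ g₂ (ω ^ 2) + hU y g₂ • g₂ =
    hU y (g₀ + g₁) • (g₀ + g₁) := by
  have hv : ∀ β : F, hU y (vv g₀ g₁ g₂ β) = hU y (g₀ + g₁) + β ^ 2 * hU y g₂ := by
    intro β
    have hpow : β ^ q = β ^ 2 := by rw [hq]
    unfold vv
    rw [herm_add_right hF, herm_smul_right, hpow]
  rw [hv, hv, hv]
  obtain ⟨E, hE⟩ : ∃ E, E = hU y (g₀ + g₁) := ⟨_, rfl⟩
  obtain ⟨G, hG⟩ : ∃ G, G = hU y g₂ := ⟨_, rfl⟩
  rw [← hE, ← hG]
  unfold vv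
  funext i
  simp only [Pi.add_apply, Pi.smul_apply, smul_eq_mul]
  linear_combination ((g₀ i + g₁ i) * G * (ω ^ 2 - ω + 1) + g₂ i * E +
    g₂ i * G * (3 * (ω - 1) + (ω - 1) ^ 2 * (ω ^ 2 + ω + 1))) * hω +
    ((g₀ i + g₁ i) * E + 2 * g₂ i * G) * h2

/-! ## lifting to `F^n` -/

theorem lift_identity (hT : TP q tp) (k : Fin b → F) (v₁ v₂ v₃ v₄ e : Fin a → F)
    (hid : ∀ y₁ : Fin a → F,
      hU y₁ v₁ • v₁ + hU y₁ v₂ • v₂ + hU y₁ v₃ • v₃ + hU y₁ v₄ • v₄ = hU y₁ e • e)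
    (y : Fin n → F) :
    hV y (tp v₁ k) • tp v₁ k + hV y (tp v₂ k) • tp v₂ k + hV y (tp v₃ k) • tp v₃ k +
      hV y (tp v₄ k) • tp v₄ k = hV y (tp e k) • tp e k := by
  obtain ⟨w, rfl⟩ := hT.span y
  refine Finset.sum_induction (fun i => tp (Pi.single i 1) (w i))
    (fun y => hV y (tp v₁ k) • tp v₁ k + hV y (tp v₂ k) • tp v₂ k + hV y (tp v₃ k) • tp v₃ k +
      hV y (tp v₄ k) • tp v₄ k = hV y (tp e k) • tp e k) ?_ ?_ ?_
  · intro y y' hy hy'
    simp only [herm_add_left, add_smul]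
    rw [← hy, ← hy']
    abel
  · simp only [herm_zero_left, zero_smul, add_zero]
  · intro i _
    have hp : ∀ v, hV (tp (Pi.single i 1) (w i)) (tp v k) • tp v k =
        hW (w i) k • tp (hU (Pi.single i 1) v • v) k := by
      intro v
      rw [hT.herm, hT.smul_left, smul_smul, mul_comm]
    rw [hp, hp, hp, hp, hp, ← smul_add, ← smul_add, ← smul_add, ← hT.add_left, ← hT.add_left,
      ← hT.add_left, hid]

/-! ## the main statement -/

/-- **T4-CONV2** -/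
theorem conv_of_two (hF : Fintype.card F = q ^ 2) (hq : q = 2) (ha : 3 ≤ a) (hT : TP q tp)
    (hK : KronIn q M tp) (u : Fin a → F) (hu : hU u u ≠ 0) (k₀ : Fin b → F) (hk : hW k₀ k₀ = 0)
    (hX : SuX q M (tp u k₀)) : ∃ e : Fin a → F, e ≠ 0 ∧ hU e e = 0 ∧ SuX q M (tp e k₀) := by
  have h2 : (2 : F) = 0 := two_eq_zero hF hq
  obtain ⟨ω, hω⟩ := exists_omega hF hq
  have hω3 : ω ^ 3 = 1 := by linear_combination (ω - 1) * hω
  -- the norm of `u` is one
  have hu1 : hU u u = 1 := by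
    have h1 := herm_conj hF u u
    have hpow : ∀ t : F, t ^ q = t ^ 2 := fun t => by rw [hq]
    rw [hpow] at h1
    have h3 : hU u u * (hU u u - 1) = 0 := by linear_combination h1
    rcases mul_eq_zero.mp h3 with h | h
    · exact absurd h hu
    · exact sub_eq_zero.mp h
  -- every vector of norm one
  have hall : ∀ v : Fin a → F, hU v v = 1 → SuX q M (tp v k₀) := by
    intro v hv
    obtain ⟨A, hA⟩ := S5670T4TRANSA.exists_su_map_aniso hF (by omega) u v hu (by rw [hv, hu1])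
    obtain ⟨g, hgM, hg⟩ := hK.left A
    have := hX.map g hgM
    rwa [hg, hA] at this
  -- the standard vectors
  obtain ⟨g₀, hg₀⟩ : ∃ g₀ : Fin a → F, g₀ = Pi.single (⟨0, by omega⟩ : Fin a) 1 := ⟨_, rfl⟩
  obtain ⟨g₁, hg₁⟩ : ∃ g₁ : Fin a → F, g₁ = Pi.single (⟨1, by omega⟩ : Fin a) 1 := ⟨_, rfl⟩
  obtain ⟨g₂, hg₂⟩ : ∃ g₂ : Fin a → F, g₂ = Pi.single (⟨2, by omega⟩ : Fin a) 1 := ⟨_, rfl⟩
  have h00 : hU g₀ g₀ = 1 := by rw [hg₀, herm_single_single hF, if_pos rfl]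
  have h11 : hU g₁ g₁ = 1 := by rw [hg₁, herm_single_single hF, if_pos rfl]
  have h22 : hU g₂ g₂ = 1 := by rw [hg₂, herm_single_single hF, if_pos rfl]
  have h01 : hU g₀ g₁ = 0 := by
    rw [hg₀, hg₁, herm_single_single hF, if_neg (by simp [Fin.ext_iff])]
  have h02 : hU g₀ g₂ = 0 := by
    rw [hg₀, hg₂, herm_single_single hF, if_neg (by simp [Fin.ext_iff])]
  have h12 : hU g₁ g₂ = 0 := by
    rw [hg₁, hg₂, herm_single_single hF, if_neg (by simp [Fin.ext_iff])]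
  have hn1 : (1 : F) * 1 ^ q = 1 := by rw [one_pow, mul_one]
  have hpow : ∀ t : F, t ^ q = t ^ 2 := fun t => by rw [hq]
  have hnω : ω * ω ^ q = 1 := by rw [hpow]; linear_combination hω3
  have hnω2 : ω ^ 2 * (ω ^ 2) ^ q = 1 := by rw [hpow]; linear_combination (ω ^ 3 + 1) * hω3
  have hX1 := hall _ (norm_vv hF h2 g₀ g₁ g₂ h00 h11 h22 h01 h02 h12 1 hn1)
  have hX2 := hall _ (norm_vv hF h2 g₀ g₁ g₂ h00 h11 h22 h01 h02 h12 ω hnω)
  have hX3 := hall _ (norm_vv hF h2 g₀ g₁ g₂ h00 h11 h22 h01 h02 h12 (ω ^ 2) hnω2)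
  have hX4 := hall g₂ h22
  have hee : hU (g₀ + g₁) (g₀ + g₁) = 0 := norm_e hF h2 g₀ g₁ h00 h11 h01
  have he0 : g₀ + g₁ ≠ 0 := by
    intro h0
    have h1 : hU (g₀ + g₁) g₀ = 1 := by
      rw [herm_add_left, h00, herm_swap_zero hF h01, add_zero]
    rw [h0, herm_zero_left] at h1
    exact zero_ne_one h1
  refine ⟨g₀ + g₁, he0, hee, ?_⟩
  have horth : ∀ v v' : Fin a → F, hV (tp v k₀) (tp v' k₀) = 0 := by
    intro v v'
    rw [hT.herm, hk, mul_zero]
  apply SuX.of_tv hF (horth _ _)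
  intro c hc
  have hprod : SUG.tv hF (tp (g₀ + g₁) k₀) c (horth _ _) hc =
      SUG.tv hF (tp (vv g₀ g₁ g₂ 1) k₀) c (horth _ _) hc *
      SUG.tv hF (tp (vv g₀ g₁ g₂ ω) k₀) c (horth _ _) hc *
      SUG.tv hF (tp (vv g₀ g₁ g₂ (ω ^ 2)) k₀) c (horth _ _) hc *
      SUG.tv hF (tp g₂ k₀) c (horth _ _) hc := by
    apply ext_av
    intro y
    have hl := lift_identity hT k₀ _ _ _ _ _ (key_identity hF hq h2 g₀ g₁ g₂ ω hω) y
    rw [av_mul, av_mul, av_mul]
    simp only [av_tv, herm_add_left, herm_smul_left, horth, mul_zero, add_zero, mul_smul]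
    rw [← hl]
    simp only [smul_add]
    abel
  rw [hprod, map_mul, map_mul, map_mul]
  exact M.mul_mem (M.mul_mem (M.mul_mem (hX1.2 _ c rfl) (hX2.2 _ c rfl)) (hX3.2 _ c rfl))
    (hX4.2 _ c rfl)

end Cfsg.Agent.Lib.Helper28.S5670T4CONV2
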