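import Cfsg.Agent.Lib.Helper28.Golay

set_option autoImplicit false
set_option linter.unusedSectionVars false

/-!
Sextets of an abstract extended Golay code, and the intersection pattern of octads.
-/

namespace Cfsg.Agent.Lib.Helper28

open Finset

variable {α : Type*} [Fintype α] [DecidableEq α]
variable {C : Submodule (ZMod 2) (α → ZMod 2)}

theorem bind_symmDiff (A B : Finset α) : bind (symmDiff A B) = bind A + bind B := by
  apply bsupp_injective
  rw [bsupp_add, bsupp_bind, bsupp_bind, bsupp_bind]

theorem bind_union_of_disjoint {A B : Finset α} (h : Disjoint A B) :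
    bind (A ∪ B) = bind A + bind B := by
  rw [← bind_symmDiff, Disjoint.symmDiff_eq_sup h]
  rfl

theorem hammingNorm_bind (S : Finset α) : hammingNorm (bind S) = S.card := by
  rw [hammingNorm_eq_card_bsupp, bsupp_bind]

theorem bind_injective : Function.Injective (bind : Finset α → α → ZMod 2) :=
  bsuppEquiv.symm.injective

theorem bind_empty : bind (∅ : Finset α) = 0 := by
  funext i; simp [bind]

theorem bind_univ : bind (Finset.univ : Finset α) = 1 := by
  funext i; simp [bind]

/-- the tetrads of the sextet determined by the 4-set `T` -/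
noncomputable def sextetOf (C : Submodule (ZMod 2) (α → ZMod 2)) (T : Finset α) :
    Finset (Finset α) :=
  (lightCoset C (bind T)).image bsupp

theorem mem_sextetOf (T U : Finset α) :
    U ∈ sextetOf C T ↔ U.card ≤ 4 ∧ bind U + bind T ∈ C := by
  unfold sextetOf
  rw [Finset.mem_image]
  constructor
  · rintro ⟨u, hu, rfl⟩
    rw [mem_lightCoset] at hu
    rw [bind_bsupp, ← sub_eq_add_zmod2]
    exact hu
  · rintro ⟨h1, h2⟩
    refine ⟨bind U, ?_, bsupp_bind U⟩
    rw [mem_lightCoset, hammingNorm_bind, sub_eq_add_zmod2]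
    exact ⟨h1, h2⟩

theorem self_mem_sextetOf {T : Finset α} (hT : T.card = 4) : T ∈ sextetOf C T := by
  rw [mem_sextetOf]
  refine ⟨hT.le, ?_⟩
  have : bind T + bind T = 0 := by
    rw [← sub_eq_add_zmod2, sub_self]
  rw [this]; exact C.zero_mem

theorem IsGolayLike.sextetOf_structure (hC : IsGolayLike C) {T : Finset α} (hT : T.card = 4) :
    (sextetOf C T).card = 6 ∧ (∀ U ∈ sextetOf C T, U.card = 4) ∧
      ∀ U ∈ sextetOf C T, ∀ V ∈ sextetOf C T, U ≠ V → Disjoint U V := by
  have hw : bind T ∈ lightCoset C (bind T) := by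
    rw [mem_lightCoset, hammingNorm_bind, sub_self]
    exact ⟨hT.le, C.zero_mem⟩
  rcases hC.lightCoset_structure (bind T) with ⟨u0, h1, h2⟩ | ⟨h6, h4, hd⟩
  · exfalso
    rw [h1, Finset.mem_singleton] at hw
    rw [← hw, hammingNorm_bind] at h2
    omega
  · refine ⟨?_, ?_, ?_⟩
    · unfold sextetOf
      rw [Finset.card_image_of_injective _ bsupp_injective, h6]
    · intro U hU
      unfold sextetOf at hU
      rw [Finset.mem_image] at hU
      obtain ⟨u, hu, rfl⟩ := hU
      exact h4 u hu
    · intro U hU V hV hne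
      unfold sextetOf at hU hV
      rw [Finset.mem_image] at hU hV
      obtain ⟨u, hu, rfl⟩ := hU
      obtain ⟨v, hv, rfl⟩ := hV
      exact hd u hu v hv (fun h => hne (by rw [h]))

/-- the tetrads of a sextet cover the 24 points -/
theorem IsGolayLike.sextetOf_cover (hC : IsGolayLike C) {T : Finset α} (hT : T.card = 4) :
    (sextetOf C T).biUnion id = Finset.univ := by
  obtain ⟨h6, h4, hd⟩ := hC.sextetOf_structure hT
  apply Finset.eq_univ_of_card
  have h := Finset.card_biUnion (s := sextetOf C T) (t := id)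
    (fun U hU V hV hne => hd U hU V hV hne)
  rw [h]
  simp only [id]
  rw [Finset.sum_congr rfl (fun U hU => h4 U hU), Finset.sum_const, h6, hC.card24]
  rfl

/-- a set is counted through the tetrads of a sextet -/
theorem IsGolayLike.sum_card_inter_sextetOf (hC : IsGolayLike C) {T : Finset α} (hT : T.card = 4)
    (S : Finset α) : ∑ U ∈ sextetOf C T, (U ∩ S).card = S.card := by
  obtain ⟨h6, h4, hd⟩ := hC.sextetOf_structure hT
  have hcov := hC.sextetOf_cover hT
  have h1 : S = (sextetOf C T).biUnion fun U => U ∩ S := by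
    ext x
    simp only [Finset.mem_biUnion, Finset.mem_inter]
    constructor
    · intro hx
      have : x ∈ (sextetOf C T).biUnion id := by rw [hcov]; exact Finset.mem_univ x
      rw [Finset.mem_biUnion] at this
      obtain ⟨U, hU, hxU⟩ := this
      exact ⟨U, hU, hxU, hx⟩
    · rintro ⟨U, _, _, hx⟩; exact hx
  conv_rhs => rw [h1]
  rw [Finset.card_biUnion]
  intro U hU V hV hne
  exact (hd U hU V hV hne).mono Finset.inter_subset_left Finset.inter_subset_left

/-- the union of two tetrads of a sextet is (the support of) a code word of weight 8 -/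
theorem IsGolayLike.sextetOf_union (hC : IsGolayLike C) {T : Finset α} (hT : T.card = 4)
    {U V : Finset α} (hU : U ∈ sextetOf C T) (hV : V ∈ sextetOf C T) (hne : U ≠ V) :
    bind (U ∪ V) ∈ C ∧ (U ∪ V).card = 8 := by
  obtain ⟨h6, h4, hd⟩ := hC.sextetOf_structure hT
  have hdis := hd U hU V hV hne
  constructor
  · rw [bind_union_of_disjoint hdis]
    have hU' := ((mem_sextetOf T U).mp hU).2
    have hV' := ((mem_sextetOf T V).mp hV).2
    have : bind U + bind V = (bind U + bind T) - (bind V + bind T) := by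
      rw [← sub_eq_add_zmod2]; abel
    rw [this]
    exact C.sub_mem hU' hV'
  · rw [Finset.card_union_of_disjoint hdis, h4 U hU, h4 V hV]

/-- the all-ones word belongs to the code -/
theorem IsGolayLike.one_mem (hC : IsGolayLike C) : (1 : α → ZMod 2) ∈ C := by
  classical
  obtain ⟨T, hT⟩ : ∃ T : Finset α, T.card = 4 :=
    Finset.exists_subset_card_eq (s := (Finset.univ : Finset α)) (n := 4)
      (by rw [Finset.card_univ, hC.card24]; norm_num) |>.imp fun T h => h.2
  obtain ⟨h6, h4, hd⟩ := hC.sextetOf_structure hT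
  have hcov := hC.sextetOf_cover hT
  -- the sum of the indicator words of the tetrads
  have hsum : ∑ U ∈ sextetOf C T, bind U = (1 : α → ZMod 2) := by
    funext x
    rw [Finset.sum_apply]
    have hx : x ∈ (sextetOf C T).biUnion id := by rw [hcov]; exact Finset.mem_univ x
    rw [Finset.mem_biUnion] at hx
    obtain ⟨U0, hU0, hxU0⟩ := hx
    rw [Finset.sum_eq_single U0]
    · simp only [bind, id] at hxU0 ⊢
      rw [if_pos hxU0]; rfl
    · intro V hV hne
      have := hd V hV U0 hU0 hne
      simp only [bind]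
      rw [if_neg]
      exact fun hxV => (Finset.disjoint_left.mp this) hxV hxU0
    · intro h; exact absurd hU0 h
  have hmem : ∀ U ∈ sextetOf C T, bind U + bind T ∈ C := fun U hU => ((mem_sextetOf T U).mp hU).2
  have h2 : ∑ U ∈ sextetOf C T, (bind U + bind T) ∈ C := C.sum_mem hmem
  rw [Finset.sum_add_distrib, Finset.sum_const, h6, hsum] at h2
  have : (6 : ℕ) • bind T = (0 : α → ZMod 2) := by
    funext i
    simp only [Pi.smul_apply, Pi.zero_apply, nsmul_eq_mul]
    generalize bind T i = y
    revert y; decide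
  rw [this, add_zero] at h2
  exact h2

/-! ### Octads as sets -/

/-- `o` is the support of a code word of weight 8 -/
def IsOctadSet (C : Submodule (ZMod 2) (α → ZMod 2)) (o : Finset α) : Prop :=
  bind o ∈ C ∧ o.card = 8

theorem IsGolayLike.octad_inter_card (hC : IsGolayLike C) {o o' : Finset α}
    (ho : IsOctadSet C o) (ho' : IsOctadSet C o') (hne : o ≠ o') :
    (o ∩ o').card = 0 ∨ (o ∩ o').card = 2 ∨ (o ∩ o').card = 4 := by
  have hev := hC.even_inter (bind o) (bind o') ho.1 ho'.1
  rw [bsupp_bind, bsupp_bind] at hev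
  have hle : (o ∩ o').card ≤ 4 := by
    by_contra hgt
    push Not at hgt
    apply hne
    apply bind_injective
    refine hC.octad_unique (bind o) (bind o') ho.1 ho'.1 ?_ ?_ (o ∩ o') hgt ?_ ?_
    · rw [hammingNorm_bind]; exact ho.2
    · rw [hammingNorm_bind]; exact ho'.2
    · rw [bsupp_bind]; exact Finset.inter_subset_left
    · rw [bsupp_bind]; exact Finset.inter_subset_right
  obtain ⟨k, hk⟩ := hev
  omega

theorem sdiff_mem_sextetOf_inter {o o' : Finset α} (ho : IsOctadSet C o)
    (h4 : (o ∩ o').card = 4) : o \ o' ∈ sextetOf C (o ∩ o') := by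
  rw [mem_sextetOf]
  constructor
  · have := Finset.card_sdiff_add_card_inter o o'
    have := ho.2
    omega
  · have hdis : Disjoint (o \ o') (o ∩ o') := by
      rw [Finset.disjoint_left]
      intro x hx hx'
      exact (Finset.mem_sdiff.mp hx).2 (Finset.mem_inter.mp hx').2
    rw [← bind_union_of_disjoint hdis, Finset.sdiff_union_inter]
    exact ho.1

/-- two octads meeting in four points have a common disjoint octad -/
theorem IsGolayLike.exists_octad_disjoint_of_inter_four (hC : IsGolayLike C) {o o' : Finset α}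
    (ho : IsOctadSet C o) (ho' : IsOctadSet C o') (h4 : (o ∩ o').card = 4) :
    ∃ o'', IsOctadSet C o'' ∧ Disjoint o'' o ∧ Disjoint o'' o' := by
  set T := o ∩ o' with hT
  obtain ⟨h6, hc4, hd⟩ := hC.sextetOf_structure h4
  have hT1 : T ∈ sextetOf C T := self_mem_sextetOf h4
  have hT2 : o \ o' ∈ sextetOf C T := sdiff_mem_sextetOf_inter ho h4
  have hT3 : o' \ o ∈ sextetOf C T := by
    have h4' : (o' ∩ o).card = 4 := by rw [Finset.inter_comm]; exact h4
    have := sdiff_mem_sextetOf_inter ho' h4'
    rwa [Finset.inter_comm o' o] at this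
  have hcard : 1 < ((((sextetOf C T).erase T).erase (o \ o')).erase (o' \ o)).card := by
    have e1 := Finset.pred_card_le_card_erase (s := sextetOf C T) (a := T)
    have e2 := Finset.pred_card_le_card_erase (s := (sextetOf C T).erase T) (a := o \ o')
    have e3 := Finset.pred_card_le_card_erase (s := ((sextetOf C T).erase T).erase (o \ o'))
      (a := o' \ o)
    omega
  obtain ⟨U, hU, V, hV, hUV⟩ := Finset.one_lt_card.mp hcard
  simp only [Finset.mem_erase] at hU hV
  obtain ⟨hU3, hU2, hU1, hUS⟩ := hU
  obtain ⟨hV3, hV2, hV1, hVS⟩ := hV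
  have hoct := hC.sextetOf_union h4 hUS hVS hUV
  refine ⟨U ∪ V, hoct, ?_, ?_⟩
  · have hoeq : o = (o \ o') ∪ T := (Finset.sdiff_union_inter o o').symm
    rw [hoeq, Finset.disjoint_union_left, Finset.disjoint_union_right, Finset.disjoint_union_right]
    exact ⟨⟨hd U hUS _ hT2 hU2, hd U hUS _ hT1 hU1⟩, ⟨hd V hVS _ hT2 hV2, hd V hVS _ hT1 hV1⟩⟩
  · have hoeq : o' = (o' \ o) ∪ T := by
      rw [hT, Finset.inter_comm]; exact (Finset.sdiff_union_inter o' o).symm
    rw [hoeq, Finset.disjoint_union_left, Finset.disjoint_union_right, Finset.disjoint_union_right]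
    exact ⟨⟨hd U hUS _ hT3 hU3, hd U hUS _ hT1 hU1⟩, ⟨hd V hVS _ hT3 hV3, hd V hVS _ hT1 hV1⟩⟩

/-- the complement of the union of two disjoint octads is an octad -/
theorem IsGolayLike.compl_union_octad (hC : IsGolayLike C) {o o' : Finset α}
    (ho : IsOctadSet C o) (ho' : IsOctadSet C o') (hd : Disjoint o o') :
    IsOctadSet C (Finset.univ \ (o ∪ o')) := by
  constructor
  · have h1 : bind (Finset.univ \ (o ∪ o')) + bind (o ∪ o') = 1 := by
      rw [← bind_union_of_disjoint Finset.sdiff_disjoint, Finset.sdiff_union_of_subset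
        (Finset.subset_univ _), bind_univ]
    have h2 : bind (Finset.univ \ (o ∪ o')) = 1 - bind (o ∪ o') := eq_sub_of_add_eq h1
    rw [h2, bind_union_of_disjoint hd]
    exact C.sub_mem hC.one_mem (C.add_mem ho.1 ho'.1)
  · rw [Finset.card_sdiff_of_subset (Finset.subset_univ _), Finset.card_univ, hC.card24,
      Finset.card_union_of_disjoint hd, ho.2, ho'.2]

/-- two octads meeting in two points have no common disjoint octad -/
theorem IsGolayLike.no_octad_disjoint_of_inter_two (hC : IsGolayLike C) {o o' o'' : Finset α}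
    (ho : IsOctadSet C o) (ho' : IsOctadSet C o') (ho'' : IsOctadSet C o'')
    (h2 : (o ∩ o').card = 2) (hd : Disjoint o'' o) (hd' : Disjoint o'' o') : False := by
  have h3 := hC.compl_union_octad ho ho'' hd.symm
  -- `o'` meets the third octad in six points
  have hsplit : o' = (o' ∩ o) ∪ (o' ∩ o'') ∪ (o' ∩ (Finset.univ \ (o ∪ o''))) := by
    ext x
    simp only [Finset.mem_union, Finset.mem_inter, Finset.mem_sdiff, Finset.mem_univ, true_and]
    tauto
  have hcard : o'.card = (o' ∩ o).card + (o' ∩ o'').card +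
      (o' ∩ (Finset.univ \ (o ∪ o''))).card := by
    conv_lhs => rw [hsplit]
    rw [Finset.card_union_of_disjoint, Finset.card_union_of_disjoint]
    · rw [Finset.disjoint_left]
      intro x hx hx'
      exact (Finset.disjoint_left.mp hd) (Finset.mem_inter.mp hx').2 (Finset.mem_inter.mp hx).2
    · rw [Finset.disjoint_left]
      intro x hx hx'
      have hx2 := (Finset.mem_sdiff.mp (Finset.mem_inter.mp hx').2).2
      apply hx2
      rcases Finset.mem_union.mp hx with h | h
      · exact Finset.mem_union_left _ (Finset.mem_inter.mp h).2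
      · exact Finset.mem_union_right _ (Finset.mem_inter.mp h).2
  have hz : (o' ∩ o'').card = 0 := by
    rw [Finset.card_eq_zero, ← Finset.disjoint_iff_inter_eq_empty]; exact hd'.symm
  have h2' : (o' ∩ o).card = 2 := by rw [Finset.inter_comm]; exact h2
  have h6 : (o' ∩ (Finset.univ \ (o ∪ o''))).card = 6 := by
    have := ho'.2; omega
  have hne : o' ≠ Finset.univ \ (o ∪ o'') := by
    intro h
    rw [← h, Finset.inter_self] at h6
    have := ho'.2; omega
  rcases hC.octad_inter_card ho' h3 hne with h | h | h <;> omega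

/-- for two octads meeting in two points there is an octad disjoint from the first and meeting
the second in four points -/
theorem IsGolayLike.exists_octad_of_inter_two (hC : IsGolayLike C) {o o' : Finset α}
    (ho : IsOctadSet C o) (ho' : IsOctadSet C o') (h2 : (o ∩ o').card = 2) :
    ∃ a, IsOctadSet C a ∧ Disjoint a o ∧ (a ∩ o').card = 4 := by
  have h6 : (o' \ o).card = 6 := by
    have := Finset.card_sdiff_add_card_inter o' o
    rw [Finset.inter_comm] at this
    have := ho'.2; omega
  obtain ⟨T, hTsub, hT⟩ := Finset.exists_subset_card_eq (s := o' \ o) (n := 4) (by omega)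
  have hTo' : T ⊆ o' := fun x hx => (Finset.mem_sdiff.mp (hTsub hx)).1
  have hTo : Disjoint T o := by
    rw [Finset.disjoint_left]
    intro x hx; exact (Finset.mem_sdiff.mp (hTsub hx)).2
  obtain ⟨hS6, hc4, hd⟩ := hC.sextetOf_structure hT
  have hT1 : T ∈ sextetOf C T := self_mem_sextetOf hT
  have hT2 : o' \ T ∈ sextetOf C T := by
    rw [mem_sextetOf]
    constructor
    · rw [Finset.card_sdiff_of_subset hTo', ho'.2, hT]
    · rw [← bind_union_of_disjoint Finset.sdiff_disjoint, Finset.sdiff_union_of_subset hTo']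
      exact ho'.1
  have hne12 : T ≠ o' \ T := by
    intro h
    have : T ∩ (o' \ T) = ∅ := Finset.inter_sdiff_self T o'
    rw [← h, Finset.inter_self] at this
    rw [this] at hT; simp at hT
  -- parity of the intersections with `o`
  have heven : ∀ U ∈ sextetOf C T, U ≠ T → Even (U ∩ o).card := by
    intro U hU hUT
    have hoct := hC.sextetOf_union hT hT1 hU (Ne.symm hUT)
    have hev := hC.even_inter (bind (T ∪ U)) (bind o) hoct.1 ho.1
    rw [bsupp_bind, bsupp_bind] at hev
    have : (T ∪ U) ∩ o = U ∩ o := by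
      rw [Finset.union_inter_distrib_right, Finset.disjoint_iff_inter_eq_empty.mp hTo,
        Finset.empty_union]
    rwa [this] at hev
  have hsum := hC.sum_card_inter_sextetOf hT o
  rw [ho.2] at hsum
  have hTz : (T ∩ o).card = 0 := by
    rw [Finset.card_eq_zero, ← Finset.disjoint_iff_inter_eq_empty]; exact hTo
  have hT2c : ((o' \ T) ∩ o).card = 2 := by
    have : (o' \ T) ∩ o = o ∩ o' := by
      ext x
      simp only [Finset.mem_inter, Finset.mem_sdiff]
      constructor
      · rintro ⟨⟨h1, _⟩, h3⟩; exact ⟨h3, h1⟩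
      · rintro ⟨h1, h3⟩
        exact ⟨⟨h3, fun hxT => (Finset.disjoint_left.mp hTo) hxT h1⟩, h1⟩
    rw [this]; exact h2
  -- split the sum
  rw [← Finset.add_sum_erase _ _ hT1, hTz, zero_add] at hsum
  have hT2' : o' \ T ∈ (sextetOf C T).erase T := Finset.mem_erase.mpr ⟨Ne.symm hne12, hT2⟩
  rw [← Finset.add_sum_erase _ _ hT2', hT2c] at hsum
  set R := ((sextetOf C T).erase T).erase (o' \ T) with hR
  have hRcard : R.card = 4 := by
    rw [hR, Finset.card_erase_of_mem hT2', Finset.card_erase_of_mem hT1, hS6]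
  have hex : ∃ U ∈ R, (U ∩ o).card = 0 := by
    by_contra hcon
    push Not at hcon
    have hge : ∀ U ∈ R, 2 ≤ (U ∩ o).card := by
      intro U hU
      have hU' : U ∈ sextetOf C T ∧ U ≠ T := by
        simp only [hR, Finset.mem_erase] at hU
        exact ⟨hU.2.2, hU.2.1⟩
      obtain ⟨k, hk⟩ := heven U hU'.1 hU'.2
      have := hcon U hU
      omega
    have := Finset.sum_le_sum hge
    rw [Finset.sum_const, hRcard, smul_eq_mul] at this
    omega
  obtain ⟨U, hUR, hU0⟩ := hex
  have hU' : U ∈ sextetOf C T ∧ U ≠ T ∧ U ≠ o' \ T := by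
    simp only [hR, Finset.mem_erase] at hUR
    exact ⟨hUR.2.2, hUR.2.1, hUR.1⟩
  have hoct := hC.sextetOf_union hT hT1 hU'.1 (Ne.symm hU'.2.1)
  refine ⟨T ∪ U, hoct, ?_, ?_⟩
  · rw [Finset.disjoint_union_left]
    refine ⟨hTo, ?_⟩
    rw [Finset.disjoint_iff_inter_eq_empty, ← Finset.card_eq_zero]; exact hU0
  · have hUT : Disjoint U T := hd U hU'.1 T hT1 hU'.2.1
    have hUT' : Disjoint U (o' \ T) := hd U hU'.1 _ hT2 hU'.2.2
    have hUo' : U ∩ o' = ∅ := by
      rw [← Finset.disjoint_iff_inter_eq_empty, Finset.disjoint_left]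
      intro x hxU hxo'
      by_cases hxT : x ∈ T
      · exact (Finset.disjoint_left.mp hUT) hxU hxT
      · exact (Finset.disjoint_left.mp hUT') hxU (Finset.mem_sdiff.mpr ⟨hxo', hxT⟩)
    rw [Finset.union_inter_distrib_right, hUo', Finset.union_empty,
      Finset.inter_eq_left.mpr hTo', hT]

end Cfsg.Agent.Lib.Helper28
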