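import Cfsg.Agent.Lib.Helper28.DodecadClasses

set_option autoImplicit false

/-!
The number of members of a family meeting a given set: invariance and computation on codes.
-/

namespace Cfsg.Agent.Lib.Helper28

open Cfsg MulAction
open scoped Pointwise

/-- the number of members of `S` meeting `Y` -/
def meetCount (Y : Finset GolayPt) (S : Finset (Finset GolayPt)) : ℕ :=
  (S.filter fun t => (t ∩ Y).Nonempty).card

theorem meetCount_smul (g : Equiv.Perm GolayPt) (Y : Finset GolayPt)
    (S : Finset (Finset GolayPt)) : meetCount (g • Y) (g • S) = meetCount Y S := by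
  classical
  unfold meetCount
  have h1 : g • S = S.image (fun t => g • t) := rfl
  rw [h1, Finset.filter_image, Finset.card_image_of_injective _ (MulAction.injective g)]
  congr 1
  apply Finset.filter_congr
  intro t _
  rw [← Finset.smul_finset_inter, Finset.smul_finset_nonempty]

theorem nonempty_inter_ptSet {l l₀ : List ℕ} (hl : GoodSet l) (hl₀ : GoodSet l₀) :
    (ptSet l ∩ ptSet l₀).Nonempty ↔ l.any (fun a => decide (a ∈ l₀)) = true := by
  rw [← Finset.card_pos, card_inter_ptSet hl hl₀, List.length_pos_iff_exists_mem, List.any_eq_true]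
  constructor
  · rintro ⟨a, ha⟩
    exact ⟨a, (List.mem_filter.mp ha).1, (List.mem_filter.mp ha).2⟩
  · rintro ⟨a, ha1, ha2⟩
    exact ⟨a, List.mem_filter.mpr ⟨ha1, ha2⟩⟩

theorem meetCount_famSet {L : List (List ℕ)} (hL : GoodFam L) {l₀ : List ℕ} (hl₀ : GoodSet l₀) :
    meetCount (ptSet l₀) (famSet L) =
      (L.filter (fun l => l.any (fun a => decide (a ∈ l₀)))).length := by
  classical
  unfold meetCount famSet
  have h1 : ((L.map ptSet).toFinset.filter fun t => (t ∩ ptSet l₀).Nonempty) =
      ((L.map ptSet).filter (fun t => decide ((t ∩ ptSet l₀).Nonempty))).toFinset := by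
    rw [List.toFinset_filter]
    apply Finset.filter_congr
    intro t _
    simp
  rw [h1, List.toFinset_card_of_nodup (hL.2.filter _), List.filter_map, List.length_map]
  congr 1
  apply List.filter_congr
  intro l hl
  simp only [Function.comp]
  rw [Bool.eq_iff_iff, decide_eq_true_iff]
  exact nonempty_inter_ptSet (hL.1 l hl) hl₀

end Cfsg.Agent.Lib.Helper28
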