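import Cfsg.Agent.Lib.Helper28.Data1551
import Cfsg.Agent.Lib.Helper28.CentTwoB
import Cfsg.Agent.Lib.Helper28.NormSeven
import Cfsg.Agent.Lib.Helper28.OctadTrios

set_option autoImplicit false

/-!
The structure of a sextet stabilizer: all permutations of the tetrads are induced, the subgroup
fixing every tetrad has order 192, and its elements of square one form a normal subgroup of
order 64.
-/

namespace Cfsg.Agent.Lib.Helper28

open Cfsg MulAction
open scoped Pointwise

/-- the elements of `M24` fixing every member of a family -/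
def famKer (S : Finset (Finset GolayPt)) : Subgroup (Equiv.Perm GolayPt) where
  carrier := {g | g ∈ M24 ∧ ∀ t ∈ S, g • t = t}
  mul_mem' := by
    rintro a b ⟨ha, hat⟩ ⟨hb, hbt⟩
    exact ⟨M24.mul_mem ha hb, fun t ht => by rw [mul_smul, hbt t ht, hat t ht]⟩
  one_mem' := ⟨M24.one_mem, fun t _ => one_smul _ t⟩
  inv_mem' := by
    rintro a ⟨ha, hat⟩
    exact ⟨M24.inv_mem ha, fun t ht => inv_smul_of_smul (hat t ht)⟩

theorem smul_eq_of_fix_members {g : Equiv.Perm GolayPt} {S : Finset (Finset GolayPt)}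
    (h : ∀ t ∈ S, g • t = t) : g • S = S := by
  ext t
  rw [Finset.mem_smul_finset]
  constructor
  · rintro ⟨t', ht', rfl⟩
    rw [h t' ht']; exact ht'
  · intro ht
    exact ⟨t, ht, h t ht⟩

theorem famKer_le_stab (S : Finset (Finset GolayPt)) :
    famKer S ≤ M24 ⊓ stabilizer (Equiv.Perm GolayPt) S :=
  fun _ hg => Subgroup.mem_inf.mpr ⟨hg.1, mem_stabilizer_iff.mpr (smul_eq_of_fix_members hg.2)⟩

theorem smul_ptSet_flatten {g : Equiv.Perm GolayPt} : ∀ (L : List (List ℕ)),
    (∀ l ∈ L, g • ptSet l = ptSet l) → g • ptSet L.flatten = ptSet L.flatten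
  | [], _ => by simp [ptSet]
  | l :: L, h => by
    rw [List.flatten_cons, ptSet_append, Finset.smul_finset_union, h l List.mem_cons_self,
      smul_ptSet_flatten L (fun l' hl' => h l' (List.mem_cons_of_mem _ hl'))]

/-! ### the base sextet -/

theorem sk_fix_y0 : ∀ c ∈ famKer (famSet c2b_S0), c • famSet sk_y0 = famSet sk_y0 := by
  intro c hc
  apply smul_eq_of_fix_members
  intro s hs
  obtain ⟨l, hl, rfl⟩ := mem_famSet.mp hs
  obtain ⟨k, -, rfl⟩ := sk_y0_check.2.2 l hl
  apply smul_ptSet_flatten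
  intro l' hl'
  exact hc.2 _ (mem_famSet.mpr ⟨l', List.mem_of_mem_take hl', rfl⟩)

theorem sk_card_le : Nat.card (famKer (famSet c2b_S0)) ≤ 192 := by
  have hS0 : famSet c2b_S0 ∈ sextets := c2b_htabs_check.1.mem
  have hHcard : Nat.card ↥(M24 ⊓ stabilizer (Equiv.Perm GolayPt) (famSet c2b_S0)) = 138240 := by
    rw [← card_stabilizer_subgroup, card_stabilizer_sextet hS0]
  have hgens := gens_stab_fam c2b_htabs c2b_S0 c2b_htabs_check.1.goodFam c2b_htabs_check.2.1
  have hy0 : GoodFam sk_y0 := goodFam_of_codes sk_y0_check.1 sk_y0_check.2.1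
  have hs := sk_fmodel.nodes_sound _ c2b_htabs hgens sk_y0 hy0 sk_fcert
  have hnd : ((sk_fmodel.nodes c2b_htabs sk_y0 sk_fcert).map famSet).Nodup :=
    sk_fmodel.sem_nodup _ (fun x hx => (hs x hx).1) sk_fcheck.1
  have key := card_mul_le_of_orbit _ (famKer (famSet c2b_S0)) (famSet sk_y0) (famKer_le_stab _)
    sk_fix_y0 _ hnd (by
      intro z hz
      obtain ⟨x, hx, rfl⟩ := List.mem_map.mp hz
      exact (hs x hx).2)
  rw [List.length_map, sk_fcheck.2, hHcard] at key
  have h2 : (138240 : ℕ) = 192 * 720 := by norm_num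
  rw [h2] at key
  exact Nat.le_of_mul_le_mul_right key (by norm_num)

theorem sk_hgens : ∀ t ∈ sk_tabs, ∃ g ∈ famKer (famSet c2b_S0), ActsBy g t := by
  intro t ht
  obtain ⟨htab, hfix⟩ := sk_tabs_check t ht
  obtain ⟨g, hg, hact⟩ := htab.exists
  refine ⟨g, ⟨hg, ?_⟩, hact⟩
  intro s hs
  obtain ⟨l, hl, rfl⟩ := mem_famSet.mp hs
  have hgood : GoodSet l := (c2b_htabs_check.1.2.1 l hl).1
  rw [(smul_ptSet hact hgood).1]
  exact ptSet_eq_of_setEqB (hfix l hl)

theorem sk_enum : Nat.card (famKer (famSet c2b_S0)) = 192 ∧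
    ∀ g ∈ famKer (famSet c2b_S0),
      ∃ l ∈ sk_model.nodes sk_tabs idList sk_cert, GoodPerm l ∧ g = permOfList l :=
  elems_of_cert_le _ _ sk_tabs sk_hgens sk_cert 192 sk_card_le sk_check.1 sk_check.2

theorem sq_eq_one_iff_compL {l : List ℕ} (hl : GoodPerm l) :
    permOfList l * permOfList l = 1 ↔ compL l l = idList := by
  rw [permOfList_compL hl hl, ← permOfList_idList]
  constructor
  · intro h
    exact permOfList_injective (goodPerm_compL hl hl) goodPerm_idList h
  · intro h
    rw [h]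

theorem sk_closure {a b : Equiv.Perm GolayPt} (ha : a ∈ famKer (famSet c2b_S0))
    (hb : b ∈ famKer (famSet c2b_S0)) (ha2 : a * a = 1) (hb2 : b * b = 1) :
    (a * b) * (a * b) = 1 := by
  obtain ⟨la, hla, hga, rfl⟩ := sk_enum.2 a ha
  obtain ⟨lb, hlb, hgb, rfl⟩ := sk_enum.2 b hb
  have hab := goodPerm_compL hga hgb
  rw [permOfList_compL hga hgb, sq_eq_one_iff_compL hab]
  exact sk_closure_check la hla lb hlb ((sq_eq_one_iff_compL hga).mp ha2)
    ((sq_eq_one_iff_compL hgb).mp hb2)

theorem sk_count :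
    {g : Equiv.Perm GolayPt | g ∈ famKer (famSet c2b_S0) ∧ g * g = 1}.ncard = 64 := by
  have hs := sk_model.nodes_sound (famKer (famSet c2b_S0)) sk_tabs sk_hgens idList
    goodPerm_idList sk_cert
  have hgood : ∀ x ∈ sk_model.nodes sk_tabs idList sk_cert, GoodPerm x := fun x hx => (hs x hx).1
  have hnd : ((sk_model.nodes sk_tabs idList sk_cert).map permOfList).Nodup :=
    sk_model.sem_nodup _ hgood sk_check.1
  have hF : ∀ y, y ∈ (famKer (famSet c2b_S0) : Set (Equiv.Perm GolayPt)) ↔
      ∃ x ∈ sk_model.nodes sk_tabs idList sk_cert, permOfList x = y := by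
    intro y
    constructor
    · intro hy
      obtain ⟨l, hl, -, rfl⟩ := sk_enum.2 y hy
      exact ⟨l, hl, rfl⟩
    · rintro ⟨x, hx, rfl⟩
      obtain ⟨_, g, hg, hgx⟩ := hs x hx
      have h1 : g * permOfList idList = permOfList x := hgx
      rw [permOfList_idList, mul_one] at h1
      rw [← h1]; exact hg
  have := ncard_filter_enum permOfList (sk_model.nodes sk_tabs idList sk_cert) hnd
    (famKer (famSet c2b_S0) : Set (Equiv.Perm GolayPt)) hF (fun g => g * g = 1)
    (fun l => decide (compL l l = idList))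
    (fun x hx => by rw [decide_eq_true_iff]; exact (sq_eq_one_iff_compL (hgood x hx)).symm)
  rw [sk_count_check] at this
  exact this

/-! ### the action on the tetrads -/

/-- the action of the stabilizer of a family on its members -/
def famHom (S : Finset (Finset GolayPt)) : ↥(stabilizer M24 S) →* Equiv.Perm ↥S where
  toFun g :=
    { toFun := fun t => ⟨(g.1 : Equiv.Perm GolayPt) • t.1, by
        have h1 : (g.1 : Equiv.Perm GolayPt) • S = S := g.2
        have h2 := Finset.smul_mem_smul_finset (a := (g.1 : Equiv.Perm GolayPt)) t.2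
        rwa [h1] at h2⟩
      invFun := fun t => ⟨(g.1 : Equiv.Perm GolayPt)⁻¹ • t.1, by
        have h1 : (g.1 : Equiv.Perm GolayPt) • S = S := g.2
        have h2 := Finset.smul_mem_smul_finset (a := (g.1 : Equiv.Perm GolayPt)⁻¹) t.2
        rwa [inv_smul_of_smul h1] at h2⟩
      left_inv := fun t => Subtype.ext (inv_smul_smul _ _)
      right_inv := fun t => Subtype.ext (smul_inv_smul _ _) }
  map_one' := by
    apply Equiv.ext
    intro t
    apply Subtype.ext
    exact one_smul _ _
  map_mul' a b := by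
    apply Equiv.ext
    intro t
    apply Subtype.ext
    exact mul_smul _ _ _

theorem famHom_apply (S : Finset (Finset GolayPt)) (g : ↥(stabilizer M24 S)) (t : ↥S) :
    ((famHom S g) t : Finset GolayPt) = (g.1 : Equiv.Perm GolayPt) • t.1 := rfl

theorem mem_ker_famHom (S : Finset (Finset GolayPt)) (g : ↥(stabilizer M24 S)) :
    g ∈ (famHom S).ker ↔ ∀ t ∈ S, (g.1 : Equiv.Perm GolayPt) • t = t := by
  rw [MonoidHom.mem_ker]
  constructor
  · intro h t ht
    have := congrArg (fun e : Equiv.Perm ↥S => ((e ⟨t, ht⟩ : ↥S) : Finset GolayPt)) h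
    exact this
  · intro h
    apply Equiv.ext
    intro t
    apply Subtype.ext
    exact h t.1 t.2

/-! ### every sextet -/

theorem sextet_stab_structure (S : Finset (Finset GolayPt)) (hS : S ∈ sextets) :
    (∀ e : Equiv.Perm ↥S, ∃ g ∈ stabilizer M24 S, ∀ t : ↥S,
      (g : Equiv.Perm GolayPt) • (t : Finset GolayPt) = ((e t : ↥S) : Finset GolayPt)) ∧
    Nat.card {g : ↥(stabilizer M24 S) //
      ∀ t ∈ S, ((g : M24) : Equiv.Perm GolayPt) • t = t} = 192 ∧
    ∃ N : Subgroup ↥(stabilizer M24 S), N.Normal ∧ Nat.card N = 64 ∧ ∀ x ∈ N, x * x = 1 := by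
  classical
  have hS₀ : famSet c2b_S0 ∈ sextets := c2b_htabs_check.1.mem
  obtain ⟨h, hh, rfl⟩ := M24_sextet_transitive hS₀ hS
  have hhi := M24.inv_mem hh
  -- conjugation into the base group
  have hconj : ∀ g : Equiv.Perm GolayPt, g ∈ M24 →
      ((∀ t ∈ h • famSet c2b_S0, g • t = t) ↔ h⁻¹ * g * h ∈ famKer (famSet c2b_S0)) := by
    intro g hg
    constructor
    · intro hfix
      refine ⟨M24.mul_mem (M24.mul_mem hhi hg) hh, fun t₀ ht₀ => ?_⟩
      rw [mul_smul, mul_smul, hfix _ (Finset.smul_mem_smul_finset ht₀), inv_smul_smul]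
    · intro hk t ht
      obtain ⟨t₀, ht₀, rfl⟩ := Finset.mem_smul_finset.mp ht
      have e : g * h = h * (h⁻¹ * g * h) := by group
      rw [← mul_smul, e, mul_smul, hk.2 t₀ ht₀]
  have hconj' : ∀ k : Equiv.Perm GolayPt, k ∈ famKer (famSet c2b_S0) →
      h * k * h⁻¹ ∈ M24 ∧ ∀ t ∈ h • famSet c2b_S0, (h * k * h⁻¹) • t = t := by
    intro k hk
    have hm : h * k * h⁻¹ ∈ M24 := M24.mul_mem (M24.mul_mem hh hk.1) hhi
    refine ⟨hm, (hconj _ hm).mpr ?_⟩
    have : h⁻¹ * (h * k * h⁻¹) * h = k := by group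
    rw [this]; exact hk
  -- the kernel has order 192
  have h192 : Nat.card {g : ↥(stabilizer M24 (h • famSet c2b_S0)) //
      ∀ t ∈ h • famSet c2b_S0, ((g : M24) : Equiv.Perm GolayPt) • t = t} = 192 := by
    rw [← sk_enum.1]
    apply Nat.card_congr
    exact
      { toFun := fun x => ⟨h⁻¹ * (x.1.1 : Equiv.Perm GolayPt) * h, (hconj _ x.1.1.2).mp x.2⟩
        invFun := fun k => ⟨⟨⟨h * k.1 * h⁻¹, (hconj' k.1 k.2).1⟩,
          smul_eq_of_fix_members (hconj' k.1 k.2).2⟩, (hconj' k.1 k.2).2⟩
        left_inv := fun x => by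
          apply Subtype.ext
          apply Subtype.ext
          apply Subtype.ext
          show h * (h⁻¹ * (x.1.1 : Equiv.Perm GolayPt) * h) * h⁻¹ = (x.1.1 : Equiv.Perm GolayPt)
          group
        right_inv := fun k => by
          apply Subtype.ext
          show h⁻¹ * (h * k.1 * h⁻¹) * h = k.1
          group }
  refine ⟨?_, h192, ?_⟩
  · -- surjectivity on the tetrads
    have hker : Nat.card (famHom (h • famSet c2b_S0)).ker = 192 := by
      rw [← h192]
      apply Nat.card_congr
      exact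
        { toFun := fun x => ⟨x.1, (mem_ker_famHom _ x.1).mp x.2⟩
          invFun := fun y => ⟨y.1, (mem_ker_famHom _ y.1).mpr y.2⟩
          left_inv := fun _ => rfl
          right_inv := fun _ => rfl }
    have hcr := card_ker_mul_card_range (famHom (h • famSet c2b_S0))
    rw [hker, card_stabilizer_sextet hS] at hcr
    have hrange : Nat.card (famHom (h • famSet c2b_S0)).range = 720 := by omega
    have htop : (famHom (h • famSet c2b_S0)).range = ⊤ := by
      rw [← Subgroup.card_eq_iff_eq_top, hrange, Nat.card_eq_fintype_card, Fintype.card_perm,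
        Fintype.card_coe, hS.1]
      decide
    intro e
    have he : e ∈ (famHom (h • famSet c2b_S0)).range := by rw [htop]; trivial
    obtain ⟨g, rfl⟩ := he
    exact ⟨g.1, g.2, fun t => rfl⟩
  · -- the normal subgroup of order 64
    let N : Subgroup ↥(stabilizer M24 (h • famSet c2b_S0)) :=
      { carrier := {x | (∀ t ∈ h • famSet c2b_S0, (x.1.1 : Equiv.Perm GolayPt) • t = t) ∧
          x * x = 1}
        mul_mem' := by
          rintro a b ⟨ha, ha2⟩ ⟨hb, hb2⟩
          refine ⟨fun t ht => ?_, ?_⟩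
          · show ((a.1.1 : Equiv.Perm GolayPt) * (b.1.1 : Equiv.Perm GolayPt)) • t = t
            rw [mul_smul, hb t ht, ha t ht]
          · have ha0 := (hconj _ a.1.2).mp ha
            have hb0 := (hconj _ b.1.2).mp hb
            have ha2' : (a.1.1 : Equiv.Perm GolayPt) * a.1.1 = 1 :=
              congrArg (fun x : ↥(stabilizer M24 (h • famSet c2b_S0)) =>
                (x.1.1 : Equiv.Perm GolayPt)) ha2
            have hb2' : (b.1.1 : Equiv.Perm GolayPt) * b.1.1 = 1 :=
              congrArg (fun x : ↥(stabilizer M24 (h • famSet c2b_S0)) =>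
                (x.1.1 : Equiv.Perm GolayPt)) hb2
            have e1 : (h⁻¹ * (a.1.1 : Equiv.Perm GolayPt) * h) *
                (h⁻¹ * (a.1.1 : Equiv.Perm GolayPt) * h) = 1 := by
              calc (h⁻¹ * (a.1.1 : Equiv.Perm GolayPt) * h) *
                  (h⁻¹ * (a.1.1 : Equiv.Perm GolayPt) * h)
                  = h⁻¹ * ((a.1.1 : Equiv.Perm GolayPt) * a.1.1) * h := by group
                _ = 1 := by rw [ha2']; group
            have e2 : (h⁻¹ * (b.1.1 : Equiv.Perm GolayPt) * h) *
                (h⁻¹ * (b.1.1 : Equiv.Perm GolayPt) * h) = 1 := by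
              calc (h⁻¹ * (b.1.1 : Equiv.Perm GolayPt) * h) *
                  (h⁻¹ * (b.1.1 : Equiv.Perm GolayPt) * h)
                  = h⁻¹ * ((b.1.1 : Equiv.Perm GolayPt) * b.1.1) * h := by group
                _ = 1 := by rw [hb2']; group
            have e3 := sk_closure ha0 hb0 e1 e2
            apply Subtype.ext
            apply Subtype.ext
            show ((a.1.1 : Equiv.Perm GolayPt) * b.1.1) * ((a.1.1 : Equiv.Perm GolayPt) * b.1.1) = 1
            calc ((a.1.1 : Equiv.Perm GolayPt) * b.1.1) * ((a.1.1 : Equiv.Perm GolayPt) * b.1.1)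
                = h * ((h⁻¹ * (a.1.1 : Equiv.Perm GolayPt) * h) *
                  (h⁻¹ * (b.1.1 : Equiv.Perm GolayPt) * h) *
                  ((h⁻¹ * (a.1.1 : Equiv.Perm GolayPt) * h) *
                  (h⁻¹ * (b.1.1 : Equiv.Perm GolayPt) * h))) * h⁻¹ := by group
              _ = 1 := by rw [e3]; group
        one_mem' := ⟨fun t _ => one_smul _ t, one_mul 1⟩
        inv_mem' := by
          rintro a ⟨ha, ha2⟩
          refine ⟨fun t ht => ?_, ?_⟩
          · show ((a.1.1 : Equiv.Perm GolayPt))⁻¹ • t = t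
            exact inv_smul_of_smul (ha t ht)
          · rw [← mul_inv_rev, ha2, inv_one] }
    refine ⟨N, ?_, ?_, fun x hx => hx.2⟩
    · constructor
      rintro n ⟨hn, hn2⟩ g
      refine ⟨fun t ht => ?_, ?_⟩
      · show ((g.1.1 : Equiv.Perm GolayPt) * n.1.1 * (g.1.1 : Equiv.Perm GolayPt)⁻¹) • t = t
        have hgS : (g.1.1 : Equiv.Perm GolayPt) • (h • famSet c2b_S0) = h • famSet c2b_S0 := g.2
        have ht' : (g.1.1 : Equiv.Perm GolayPt)⁻¹ • t ∈ h • famSet c2b_S0 := by
          have h2 := Finset.smul_mem_smul_finset (a := (g.1.1 : Equiv.Perm GolayPt)⁻¹) ht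
          rwa [inv_smul_of_smul hgS] at h2
        rw [mul_smul, mul_smul, hn _ ht', smul_inv_smul]
      · calc g * n * g⁻¹ * (g * n * g⁻¹) = g * (n * n) * g⁻¹ := by group
          _ = 1 := by rw [hn2]; group
    · rw [← sk_count, ← Nat.card_coe_set_eq]
      apply Nat.card_congr
      exact
        { toFun := fun x => ⟨h⁻¹ * (x.1.1.1 : Equiv.Perm GolayPt) * h,
            (hconj _ x.1.1.2).mp x.2.1, by
              have hx2 : (x.1.1.1 : Equiv.Perm GolayPt) * x.1.1.1 = 1 :=
                congrArg (fun y : ↥(stabilizer M24 (h • famSet c2b_S0)) =>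
                  (y.1.1 : Equiv.Perm GolayPt)) x.2.2
              calc (h⁻¹ * (x.1.1.1 : Equiv.Perm GolayPt) * h) *
                  (h⁻¹ * (x.1.1.1 : Equiv.Perm GolayPt) * h)
                  = h⁻¹ * ((x.1.1.1 : Equiv.Perm GolayPt) * x.1.1.1) * h := by group
                _ = 1 := by rw [hx2]; group⟩
          invFun := fun k => ⟨⟨⟨h * k.1 * h⁻¹, (hconj' k.1 k.2.1).1⟩,
            smul_eq_of_fix_members (hconj' k.1 k.2.1).2⟩, (hconj' k.1 k.2.1).2, by
              apply Subtype.ext
              apply Subtype.ext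
              show (h * k.1 * h⁻¹) * (h * k.1 * h⁻¹) = 1
              calc (h * k.1 * h⁻¹) * (h * k.1 * h⁻¹) = h * (k.1 * k.1) * h⁻¹ := by group
                _ = 1 := by rw [k.2.2]; group⟩
          left_inv := fun x => by
            apply Subtype.ext
            apply Subtype.ext
            apply Subtype.ext
            show h * (h⁻¹ * (x.1.1.1 : Equiv.Perm GolayPt) * h) * h⁻¹ = (x.1.1.1 : Equiv.Perm GolayPt)
            group
          right_inv := fun k => by
            apply Subtype.ext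
            show h⁻¹ * (h * k.1 * h⁻¹) * h = k.1
            group }

end Cfsg.Agent.Lib.Helper28
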