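import Mathlib
import Cfsg.Agent.Lib.Helper28.SpSubfDefs
import Cfsg.Agent.Lib.Helper28.S5639FOALG
import Cfsg.Agent.Lib.Helper6.S5650FOS
import Cfsg.Agent.Lib.Helper6.S5650FOEPS
import Cfsg.Agent.Lib.Helper6.S5650FOAB
import Cfsg.Agent.Lib.Helper6.S5650FOFIELD
import Cfsg.Agent.Lib.Helper6.S5650FOIIIA
import Cfsg.Agent.Lib.Helper10.S5650FOIIIS
import Cfsg.Agent.Lib.Helper10.S5650FOIIIC
import Cfsg.Agent.Lib.Helper24.S5650FOP
import Cfsg.Agent.Lib.Helper27.S5650FOSYL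
import Cfsg.Agent.Lib.Helper29.S5650FOII
import Cfsg.Agent.Lib.Helper29.S5650FOIIIB
import Cfsg.Agent.Lib.Helper29.S5650FOIIID

/-!
# The subfield subgroups of `Sp_{2m}(F)` are maximal (S5650): assembly

`H1 K m ≤ M ≤ Sp_{2m}(F)`, `M ≰ H1`: an element of `M` outside `H1` gives a transvection of `M` whose
centre is not a multiple of a rational vector (`exists_impure`); by the Sylow trick it can be taken
of `K`-rank two (`rank2_of_not_le`); a Heisenberg-group computation gives a transvection with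
rational centre and parameter outside `K` (`good_of_rank2`); the root subgroup calculus then gives
all transvections (`sp_le_of_good`).  Pieces by helper6, helper10, helper22, helper24, helper27,
helper29; architecture helper28.
-/

set_option autoImplicit false

namespace Cfsg.Agent.Lib.Helper28.SpSubfMain

open Matrix Cfsg.Agent.Lib.Helper6 Cfsg.Agent.Lib.Helper13 Cfsg.Agent.Lib.Helper28.SpSubf
open Cfsg.Agent.Lib.Helper28.S5639
open Cfsg.Agent.Lib.Helper6.S5650FOS Cfsg.Agent.Lib.Helper6.S5650FOEPS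
open Cfsg.Agent.Lib.Helper6.S5650FOAB Cfsg.Agent.Lib.Helper6.S5650FOFIELD
open Cfsg.Agent.Lib.Helper6.S5650FOIIIA Cfsg.Agent.Lib.Helper10.S5650FOIIIS
open Cfsg.Agent.Lib.Helper10.S5650FOIIIC Cfsg.Agent.Lib.Helper24.S5650FOP
open Cfsg.Agent.Lib.Helper27.S5650FOSYL Cfsg.Agent.Lib.Helper29.S5650FOII
open Cfsg.Agent.Lib.Helper29.S5650FOIIIB Cfsg.Agent.Lib.Helper29.S5650FOIIID

variable {F : Type*} [Field F] {m : ℕ}

local notation "ff" => Cfsg.sympForm m F

/-- Part I assembled -/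
theorem rank2_of_not_le [Finite F] (hm : 1 ≤ m) (K : Subfield F) (r : ℕ) (hr : r.Prime)
    (hcard : Nat.card F = Nat.card K ^ r) (M : Subgroup (GL (Fin m ⊕ Fin m) F))
    (hHM : H1 K m ≤ M) (hMS : M ≤ Cfsg.spGL m F) (hne : ¬ M ≤ H1 K m) : Rank2 K M := by
  obtain ⟨g, hgM, hgH⟩ := SetLike.not_le_iff_exists.mp hne
  have hgS : g ∉ Cfsg.Geo.subfieldSubgroup K (1 : GL (Fin m ⊕ Fin m) F) :=
    fun h => hgH ⟨h, hMS hgM⟩
  obtain ⟨u, hu⟩ := exists_impure (by omega) K g hgS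
  have hw : sympTransvGL ((g : Matrix (Fin m ⊕ Fin m) (Fin m ⊕ Fin m) F) *ᵥ rv K u) 1 ∈ M := by
    rw [← conj_sympTransvGL g (hMS hgM)]
    exact M.mul_mem (M.mul_mem hgM (hHM (rat_transv_mem_one K u))) (M.inv_mem hgM)
  rcases rank_cases K r hcard _ hu with ⟨a, b, ω₁, ω₂, hab, hω, hwab⟩ | ⟨hr3, v₁, v₂, h12, hind⟩
  · exact ⟨a, b, ω₁, ω₂, hab, hω, by rw [← hwab]; exact hw⟩
  · have hβ₁ : ff (rv K v₁) ((g : Matrix (Fin m ⊕ Fin m) (Fin m ⊕ Fin m) F) *ᵥ rv K u) ≠ 0 := by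
      intro h0
      have := (hind 1 0 (by rw [h0]; simp)).1
      exact one_ne_zero this
    have hβ₂ : ff (rv K v₂) ((g : Matrix (Fin m ⊕ Fin m) (Fin m ⊕ Fin m) F) *ᵥ rv K u) ≠ 0 := by
      intro h0
      have := (hind 0 1 (by rw [h0]; simp)).2
      exact one_ne_zero this
    obtain ⟨δ₁, hδ₁, c₁, hc₁, h₁, hfix₁⟩ := exists_sylow_conj M hMS _ _
      (hHM (rat_transv_mem_one K v₁)) hw hβ₁
    obtain ⟨δ₂, hδ₂, c₂, hc₂, h₂, hfix₂⟩ := exists_sylow_conj M hMS _ _
      (hHM (rat_transv_mem_one K v₂)) hw hβ₂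
    exact rank2_of_deltas K r hr hr3 hcard M hHM hMS _ v₁ v₂ h12 hind δ₁ δ₂ hδ₁ hδ₂ c₁ c₂ hc₁ hc₂
      h₁ h₂ hfix₁ hfix₂


/-- Part III assembled -/
theorem sp_le_of_good [Finite F] (hm : 3 ≤ m) (K : Subfield F) (r : ℕ) (hr : r.Prime)
    (hcard : Nat.card F = Nat.card K ^ r) (M : Subgroup (GL (Fin m ⊕ Fin m) F))
    (hHM : H1 K m ≤ M) (hMS : M ≤ Cfsg.spGL m F) (h : Good K M) : Cfsg.spGL m F ≤ M := by
  obtain ⟨v₀, a₀, hv₀, ha₀K, ha₀⟩ := h
  have hL₀ : Long K M a₀ := param_all K M hHM hMS a₀ v₀ hv₀ ha₀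
  have hS₀ : Short K M a₀ := short_of_long K M a₀ hL₀
  have hSall : ∀ d : F, d ∈ {d : F | Short K M d} :=
    forall_mem_of_subring K r hr hcard {d : F | Short K M d} (fun k => short_rat K M hHM k)
      (fun a b ha hb => short_add K M a b ha hb)
      (fun a b ha hb => short_mul hm K M hHM hMS a b ha hb) a₀ hS₀ ha₀K
  have hsq : ∀ d : F, Long K M (d ^ 2) := by
    intro d
    obtain ⟨v, hv, hvd⟩ := sq_long_of_short (by omega) K M hHM hMS d (hSall d)
    exact param_all K M hHM hMS _ v hv hvd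
  have hLall : ∀ x : F, Long K M x := by
    intro x v
    obtain ⟨a, b, hab⟩ := exists_sq_sub_sq x
    have h1 := hsq a v
    have h2 := M.inv_mem (hsq b v)
    rw [sympTransvGL_inv] at h2
    have := M.mul_mem h1 h2
    rwa [sympTransvGL_mul, ← sub_eq_add_neg, ← hab] at this
  have hX : ∀ x, SpX M x := by
    apply forall_of_rat K (SpX M)
    · intro a l ha
      exact ha.smul l
    · intro a b l ha hb hab
      exact SpX.rule hMS ha hb hab l
    · intro v c
      exact hLall c v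
  exact spGL_le_of_transvections M (fun a c => hX a c)


/-- the subfield group with `P = 1` is maximal in `Sp_{2m}(F)` -/
theorem isMaximalIn_H1 [Finite F] (hm : 4 ≤ m) (K : Subfield F) (r : ℕ) (hr : r.Prime)
    (hcard : Nat.card F = Nat.card K ^ r) :
    Cfsg.Geo.IsMaximalIn (Cfsg.spGL m F) (H1 K m) := by
  have hne : ∃ a : F, a ∉ K := by
    by_contra hcon
    push Not at hcon
    have htop : K = ⊤ := by
      ext x
      simp [hcon x]
    have h1 : Nat.card K = Nat.card F := by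
      rw [htop]
      exact Nat.card_congr (Subfield.topEquiv (K := F)).toEquiv
    have h2 : 2 ≤ Nat.card K := by
      have : 1 < Nat.card K := Finite.one_lt_card
      exact this
    rw [h1] at hcard h2
    have h3 : Nat.card F ^ 1 < Nat.card F ^ r := Nat.pow_lt_pow_right (by omega) hr.one_lt
    rw [pow_one] at h3
    omega
  obtain ⟨a, ha⟩ := hne
  refine ⟨H1_lt (by omega) K a ha, ?_⟩
  intro M hHM hMS
  by_cases hMH : M ≤ H1 K m
  · left
    exact le_antisymm hMH hHM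
  · right
    apply le_antisymm hMS
    have h2 := rank2_of_not_le (by omega) K r hr hcard M hHM hMS hMH
    have h3 := good_of_rank2 hm K M hHM hMS h2
    exact sp_le_of_good (by omega) K r hr hcard M hHM hMS h3


/-- **The subfield subgroups of `Sp_{2m}(F)` are maximal** (`|F| = |F₀| ^ r`, `r` prime, `m ≥ 4`). -/
theorem main [Finite F] (hm : 4 ≤ m) (K : Subfield F) (r : ℕ) (hr : r.Prime)
    (hcard : Nat.card F = Nat.card K ^ r) (P : GL (Fin m ⊕ Fin m) F) (ζ : F) (hζ : ζ ≠ 0)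
    (hP : Cfsg.Geo.IsFormRationalStructure (Cfsg.sympForm m F) K ζ P) :
    Cfsg.Geo.IsMaximalIn (Cfsg.spGL m F) (Cfsg.Geo.subfieldSubgroup K P ⊓ Cfsg.spGL m F) :=
  isMaximalIn_of_one K P ζ hζ hP (isMaximalIn_H1 hm K r hr hcard)

end Cfsg.Agent.Lib.Helper28.SpSubfMain
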