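import Mathlib

set_option autoImplicit false

/-!
Subgroups of order three: generators, conjugates of cyclic subgroups.
-/

namespace Cfsg.Agent.Lib.Helper28

open scoped Pointwise

theorem exists_gen_of_card_three {G : Type*} [Group G] (X : Subgroup G) (h : Nat.card X = 3) :
    ∃ x ∈ X, orderOf x = 3 ∧ X = Subgroup.zpowers x := by
  have : Finite X := Nat.finite_of_card_ne_zero (by rw [h]; norm_num)
  have hnt : Nontrivial X := by
    rw [← Finite.one_lt_card_iff_nontrivial, h]; norm_num
  obtain ⟨x, hx⟩ := exists_ne (1 : X)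
  have hdvd : orderOf x ∣ 3 := by rw [← h]; exact orderOf_dvd_natCard x
  have hord : orderOf x = 3 := by
    rcases (Nat.dvd_prime Nat.prime_three).mp hdvd with h1 | h3
    · exact absurd (orderOf_eq_one_iff.mp h1) hx
    · exact h3
  refine ⟨x.1, x.2, ?_, ?_⟩
  · rw [← hord]; exact (Subgroup.orderOf_coe x)
  · symm
    apply Subgroup.eq_of_le_of_card_ge
    · rw [Subgroup.zpowers_le]; exact x.2
    · rw [h, Nat.card_zpowers, Subgroup.orderOf_coe, hord]

theorem conj_smul_zpowers {G : Type*} [Group G] (k x : G) :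
    MulAut.conj k • Subgroup.zpowers x = Subgroup.zpowers (k * x * k⁻¹) := by
  ext y
  rw [Subgroup.mem_pointwise_smul_iff_inv_smul_mem, Subgroup.mem_zpowers_iff, Subgroup.mem_zpowers_iff]
  constructor
  · rintro ⟨n, hn⟩
    refine ⟨n, ?_⟩
    have : y = MulAut.conj k ((MulAut.conj k)⁻¹ • y) := by
      show y = MulAut.conj k ((MulAut.conj k)⁻¹ y)
      rw [MulAut.conj_inv_apply, MulAut.conj_apply]
      group
    rw [this, ← hn, map_zpow, MulAut.conj_apply]
  · rintro ⟨n, hn⟩
    refine ⟨n, ?_⟩
    rw [← hn]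
    show x ^ n = (MulAut.conj k)⁻¹ ((k * x * k⁻¹) ^ n)
    rw [map_zpow, MulAut.conj_inv_apply]
    congr 1
    group

/-- the points fixed by all elements of a cyclic group are those fixed by the generator -/
theorem fixed_zpowers {α : Type*} (H : Subgroup (Equiv.Perm α)) (x : ↥H) (p : α) :
    (∀ y ∈ Subgroup.zpowers x, ((y : ↥H) : Equiv.Perm α) p = p) ↔ (x : Equiv.Perm α) p = p := by
  constructor
  · intro h
    exact h x (Subgroup.mem_zpowers x)
  · intro h y hy
    obtain ⟨n, rfl⟩ := Subgroup.mem_zpowers_iff.mp hy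
    have hfix : (x : Equiv.Perm α) ∈ MulAction.stabilizer (Equiv.Perm α) p := h
    have := Subgroup.zpow_mem _ hfix n
    rw [MulAction.mem_stabilizer_iff] at this
    rw [Subgroup.coe_zpow]
    exact this

end Cfsg.Agent.Lib.Helper28
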