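import Mathlib
import Cfsg.Prelude.Def_Transfer
import Cfsg.Agent.Lib.Helper9.PGroupCoatom

set_option autoImplicit false

/-!
The quotient of the unitriangular group of degree 5 over the field with two elements by its
centre, in coordinates: maximal subgroups have centres of order at most 8, and there is a unique
abelian subgroup of order 64, which is elementary abelian.
-/

namespace Cfsg.Agent.Lib.Helper28

/-- coordinates on the unitriangular group of degree 3 over `𝔽₂` -/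
@[ext] structure D3 where
  c23 : ZMod 2
  c24 : ZMod 2
  c34 : ZMod 2
deriving DecidableEq, Fintype

namespace D3

protected def mul (x y : D3) : D3 :=
  ⟨x.c23 + y.c23, x.c24 + y.c24 + x.c23 * y.c34, x.c34 + y.c34⟩

protected def one : D3 := ⟨0, 0, 0⟩

protected def inv (x : D3) : D3 := ⟨-x.c23, -x.c24 + x.c23 * x.c34, -x.c34⟩

theorem mul_assoc' (x y z : D3) : D3.mul (D3.mul x y) z = D3.mul x (D3.mul y z) := by
  apply D3.ext <;> simp only [D3.mul] <;> ring

theorem one_mul' (x : D3) : D3.mul D3.one x = x := by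
  apply D3.ext <;> simp [D3.mul, D3.one]

theorem mul_one' (x : D3) : D3.mul x D3.one = x := by
  apply D3.ext <;> simp [D3.mul, D3.one]

theorem inv_mul' (x : D3) : D3.mul (D3.inv x) x = D3.one := by
  apply D3.ext <;> simp only [D3.mul, D3.inv, D3.one] <;> ring

instance : Group D3 where
  mul := D3.mul
  one := D3.one
  inv := D3.inv
  mul_assoc := mul_assoc'
  one_mul := one_mul'
  mul_one := mul_one'
  inv_mul_cancel := inv_mul'

@[simp] theorem mul_c23 (x y : D3) : (x * y).c23 = x.c23 + y.c23 := rfl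
@[simp] theorem mul_c24 (x y : D3) : (x * y).c24 = x.c24 + y.c24 + x.c23 * y.c34 := rfl
@[simp] theorem mul_c34 (x y : D3) : (x * y).c34 = x.c34 + y.c34 := rfl
@[simp] theorem one_c23 : (1 : D3).c23 = 0 := rfl
@[simp] theorem one_c24 : (1 : D3).c24 = 0 := rfl
@[simp] theorem one_c34 : (1 : D3).c34 = 0 := rfl

end D3

theorem card_D3 : Nat.card D3 = 8 := by
  rw [Nat.card_eq_fintype_card]
  decide

set_option synthInstance.maxSize 4096 in
set_option synthInstance.maxHeartbeats 400000 in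
/-- coordinates on the quotient of the unitriangular group of degree 5 over `𝔽₂` by its centre -/
@[ext] structure T9 where
  a2 : ZMod 2
  a3 : ZMod 2
  a4 : ZMod 2
  b2 : ZMod 2
  b3 : ZMod 2
  b4 : ZMod 2
  c23 : ZMod 2
  c24 : ZMod 2
  c34 : ZMod 2
deriving DecidableEq, Fintype

namespace T9

protected def mul (x y : T9) : T9 :=
  ⟨x.a2 + y.a2, x.a3 + y.a3 + x.a2 * y.c23, x.a4 + y.a4 + x.a2 * y.c24 + x.a3 * y.c34,
    x.b2 + y.b2 + x.c23 * y.b3 + x.c24 * y.b4, x.b3 + y.b3 + x.c34 * y.b4, x.b4 + y.b4,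
    x.c23 + y.c23, x.c24 + y.c24 + x.c23 * y.c34, x.c34 + y.c34⟩

protected def one : T9 := ⟨0, 0, 0, 0, 0, 0, 0, 0, 0⟩

protected def inv (x : T9) : T9 :=
  ⟨-x.a2, -x.a3 + x.a2 * x.c23,
    -x.a4 + x.a2 * x.c24 + x.a3 * x.c34 - x.a2 * x.c23 * x.c34,
    -x.b2 + x.c23 * x.b3 + x.c24 * x.b4 - x.c23 * x.c34 * x.b4, -x.b3 + x.c34 * x.b4, -x.b4,
    -x.c23, -x.c24 + x.c23 * x.c34, -x.c34⟩

theorem mul_assoc' (x y z : T9) : T9.mul (T9.mul x y) z = T9.mul x (T9.mul y z) := by
  apply T9.ext <;> simp only [T9.mul] <;> ring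

theorem one_mul' (x : T9) : T9.mul T9.one x = x := by
  apply T9.ext <;> simp [T9.mul, T9.one]

theorem mul_one' (x : T9) : T9.mul x T9.one = x := by
  apply T9.ext <;> simp [T9.mul, T9.one]

theorem inv_mul' (x : T9) : T9.mul (T9.inv x) x = T9.one := by
  apply T9.ext <;> simp only [T9.mul, T9.inv, T9.one] <;> ring

instance : Group T9 where
  mul := T9.mul
  one := T9.one
  inv := T9.inv
  mul_assoc := mul_assoc'
  one_mul := one_mul'
  mul_one := mul_one'
  inv_mul_cancel := inv_mul'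

@[simp] theorem mul_a2 (x y : T9) : (x * y).a2 = x.a2 + y.a2 := rfl
@[simp] theorem mul_a3 (x y : T9) : (x * y).a3 = x.a3 + y.a3 + x.a2 * y.c23 := rfl
@[simp] theorem mul_a4 (x y : T9) :
    (x * y).a4 = x.a4 + y.a4 + x.a2 * y.c24 + x.a3 * y.c34 := rfl
@[simp] theorem mul_b2 (x y : T9) :
    (x * y).b2 = x.b2 + y.b2 + x.c23 * y.b3 + x.c24 * y.b4 := rfl
@[simp] theorem mul_b3 (x y : T9) : (x * y).b3 = x.b3 + y.b3 + x.c34 * y.b4 := rfl
@[simp] theorem mul_b4 (x y : T9) : (x * y).b4 = x.b4 + y.b4 := rfl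
@[simp] theorem mul_c23 (x y : T9) : (x * y).c23 = x.c23 + y.c23 := rfl
@[simp] theorem mul_c24 (x y : T9) : (x * y).c24 = x.c24 + y.c24 + x.c23 * y.c34 := rfl
@[simp] theorem mul_c34 (x y : T9) : (x * y).c34 = x.c34 + y.c34 := rfl
@[simp] theorem one_a2 : (1 : T9).a2 = 0 := rfl
@[simp] theorem one_a3 : (1 : T9).a3 = 0 := rfl
@[simp] theorem one_a4 : (1 : T9).a4 = 0 := rfl
@[simp] theorem one_b2 : (1 : T9).b2 = 0 := rfl
@[simp] theorem one_b3 : (1 : T9).b3 = 0 := rfl
@[simp] theorem one_b4 : (1 : T9).b4 = 0 := rfl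
@[simp] theorem one_c23 : (1 : T9).c23 = 0 := rfl
@[simp] theorem one_c24 : (1 : T9).c24 = 0 := rfl
@[simp] theorem one_c34 : (1 : T9).c34 = 0 := rfl

end T9

set_option maxRecDepth 100000 in
theorem card_T9 : Nat.card T9 = 512 := by
  rw [Nat.card_eq_fintype_card]
  decide

/-- the projection onto the unitriangular group of degree 3 -/
def piT : T9 →* D3 :=
  MonoidHom.mk' (fun x => ⟨x.c23, x.c24, x.c34⟩) (fun x y => by apply D3.ext <;> rfl)

@[simp] theorem piT_c23 (x : T9) : (piT x).c23 = x.c23 := rfl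
@[simp] theorem piT_c24 (x : T9) : (piT x).c24 = x.c24 := rfl
@[simp] theorem piT_c34 (x : T9) : (piT x).c34 = x.c34 := rfl

theorem piT_surjective : Function.Surjective piT := fun d =>
  ⟨⟨0, 0, 0, 0, 0, 0, d.c23, d.c24, d.c34⟩, by apply D3.ext <;> rfl⟩

theorem mem_ker_piT {x : T9} : x ∈ piT.ker ↔ x.c23 = 0 ∧ x.c24 = 0 ∧ x.c34 = 0 := by
  rw [MonoidHom.mem_ker, D3.ext_iff]
  simp

theorem index_ker_piT : piT.ker.index = 8 := by
  rw [Subgroup.index_ker, MonoidHom.range_eq_top.mpr piT_surjective, Subgroup.card_top, card_D3]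

theorem card_ker_piT : Nat.card piT.ker = 64 := by
  have h := Subgroup.card_mul_index piT.ker
  rw [index_ker_piT, card_T9] at h
  omega

/-- the condition for an element of the kernel to commute with an element over `d` -/
def commA (a : T9) (d : D3) : Prop :=
  a.a2 * d.c23 = 0 ∧ a.a2 * d.c24 + a.a3 * d.c34 = 0 ∧ d.c23 * a.b3 + d.c24 * a.b4 = 0 ∧
    d.c34 * a.b4 = 0

instance (a : T9) (d : D3) : Decidable (commA a d) := by
  unfold commA
  infer_instance

theorem comm_iff_commA {a x : T9} (ha : a ∈ piT.ker) : a * x = x * a ↔ commA a (piT x) := by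
  obtain ⟨H23, H24, H34⟩ := mem_ker_piT.mp ha
  rw [T9.ext_iff]
  simp only [T9.mul_a2, T9.mul_a3, T9.mul_a4, T9.mul_b2, T9.mul_b3, T9.mul_b4, T9.mul_c23,
    T9.mul_c24, T9.mul_c34, commA, piT_c23, piT_c24, piT_c34]
  constructor
  · rintro ⟨-, E3, E4, E5, E6, -, -, -, -⟩
    refine ⟨?_, ?_, ?_, ?_⟩
    · linear_combination E3 + x.a2 * H23
    · linear_combination E4 + x.a2 * H24 + x.a3 * H34
    · linear_combination -E5 + x.b3 * H23 + x.b4 * H24
    · linear_combination -E6 + x.b4 * H34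
  · rintro ⟨K1, K2, K3, K4⟩
    refine ⟨by ring, ?_, ?_, ?_, ?_, by ring, by ring, ?_, by ring⟩
    · linear_combination K1 - x.a2 * H23
    · linear_combination K2 - x.a2 * H24 - x.a3 * H34
    · linear_combination x.b3 * H23 + x.b4 * H24 - K3
    · linear_combination x.b4 * H34 - K4
    · linear_combination x.c34 * H23 - x.c23 * H34

set_option maxRecDepth 100000 in
theorem bound_one : ∀ d : D3, d ≠ 1 →
    (Finset.univ.filter (fun a : T9 => piT a = 1 ∧ commA a d)).card ≤ 16 := by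
  decide

set_option maxRecDepth 100000 in
theorem bound_two : ∀ d₁ d₂ : D3, d₁ ≠ 1 → d₂ ≠ 1 → d₁ ≠ d₂ →
    (Finset.univ.filter (fun a : T9 => piT a = 1 ∧ commA a d₁ ∧ commA a d₂)).card ≤ 8 := by
  decide

theorem card_le_of_comm_one (K : Subgroup T9) (hK : K ≤ piT.ker) (x : T9) (hx : piT x ≠ 1)
    (hc : ∀ k ∈ K, k * x = x * k) : Nat.card K ≤ 16 := by
  classical
  set S := Finset.univ.filter (fun a : T9 => piT a = 1 ∧ commA a (piT x)) with hS
  have hsub : ∀ k : K, (k : T9) ∈ S := fun k => by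
    rw [hS, Finset.mem_filter]
    exact ⟨Finset.mem_univ _, MonoidHom.mem_ker.mp (hK k.2), (comm_iff_commA (hK k.2)).mp (hc k k.2)⟩
  have hinj : Function.Injective (fun k : K => (⟨(k : T9), hsub k⟩ : S)) := by
    intro a b h
    simp only [Subtype.mk.injEq] at h
    exact Subtype.ext h
  have h := Nat.card_le_card_of_injective _ hinj
  rw [Nat.card_eq_fintype_card (α := S), Fintype.card_coe] at h
  exact h.trans (bound_one _ hx)

theorem card_le_of_comm_two (K : Subgroup T9) (hK : K ≤ piT.ker) (x y : T9) (hx : piT x ≠ 1)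
    (hy : piT y ≠ 1) (hxy : piT x ≠ piT y)
    (hcx : ∀ k ∈ K, k * x = x * k) (hcy : ∀ k ∈ K, k * y = y * k) : Nat.card K ≤ 8 := by
  classical
  set S := Finset.univ.filter
    (fun a : T9 => piT a = 1 ∧ commA a (piT x) ∧ commA a (piT y)) with hS
  have hsub : ∀ k : K, (k : T9) ∈ S := fun k => by
    rw [hS, Finset.mem_filter]
    exact ⟨Finset.mem_univ _, MonoidHom.mem_ker.mp (hK k.2),
      (comm_iff_commA (hK k.2)).mp (hcx k k.2), (comm_iff_commA (hK k.2)).mp (hcy k k.2)⟩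
  have hinj : Function.Injective (fun k : K => (⟨(k : T9), hsub k⟩ : S)) := by
    intro a b h
    simp only [Subtype.mk.injEq] at h
    exact Subtype.ext h
  have h := Nat.card_le_card_of_injective _ hinj
  rw [Nat.card_eq_fintype_card (α := S), Fintype.card_coe] at h
  exact h.trans (bound_two _ _ hx hy hxy)

/-- a subgroup with at least three elements has two distinct nontrivial elements -/
theorem exists_two_of_card {D : Type*} [Group D] [Finite D] (K : Subgroup D)
    (h : 3 ≤ Nat.card K) : ∃ d₁ ∈ K, ∃ d₂ ∈ K, d₁ ≠ 1 ∧ d₂ ≠ 1 ∧ d₁ ≠ d₂ := by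
  by_contra hcon
  push Not at hcon
  have hcard : Nat.card K = (K : Set D).ncard := Nat.card_coe_set_eq (K : Set D)
  by_cases hex : ∃ d ∈ K, d ≠ 1
  · obtain ⟨d, hd, hd1⟩ := hex
    have hsub : (K : Set D) ⊆ {1, d} := fun y hy => by
      by_cases hy1 : y = 1
      · exact Or.inl hy1
      · exact Or.inr (hcon y hy d hd hy1 hd1)
    have h1 := Set.ncard_le_ncard hsub (Set.toFinite _)
    have h2 : ({1, d} : Set D).ncard ≤ ({d} : Set D).ncard + 1 := Set.ncard_insert_le 1 {d}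
    rw [Set.ncard_singleton] at h2
    omega
  · push Not at hex
    have hsub : (K : Set D) ⊆ {1} := fun y hy => hex y hy
    have h1 := Set.ncard_le_ncard hsub (Set.toFinite _)
    rw [Set.ncard_singleton] at h1
    omega

/-- maximal subgroups have centres of order at most 8 -/
theorem t9_coatom (M : Subgroup T9) (hM : IsCoatom M) : Nat.card (Subgroup.center M) ≤ 8 := by
  have : Fact (Nat.Prime 2) := ⟨Nat.prime_two⟩
  have hp : IsPGroup 2 T9 := IsPGroup.of_card (n := 9) (by rw [card_T9]; norm_num)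
  have hidx : M.index = 2 := Cfsg.Agent.Lib.Helper9.index_of_isCoatom_of_isPGroup hp M hM
  have hcardZ : Nat.card ((Subgroup.center M).map M.subtype) = Nat.card (Subgroup.center M) :=
    Subgroup.card_map_of_injective M.subtype_injective
  have hZmem : ∀ z ∈ (Subgroup.center M).map M.subtype, ∀ m ∈ M, z * m = m * z := by
    rintro z ⟨w, hw, rfl⟩ m hm
    have := Subgroup.mem_center_iff.mp hw ⟨m, hm⟩
    exact (congrArg Subtype.val this).symm
  have h1 : (M ⊓ piT.ker).index ≤ 16 := by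
    calc (M ⊓ piT.ker).index ≤ M.index * piT.ker.index := Subgroup.index_inf_le
      _ = 16 := by rw [hidx, index_ker_piT]
  have h2 : 32 ≤ Nat.card (M ⊓ piT.ker : Subgroup T9) := by
    have h := Subgroup.card_mul_index (M ⊓ piT.ker)
    rw [card_T9] at h
    by_contra hlt
    push Not at hlt
    have : Nat.card ↥(M ⊓ piT.ker) * (M ⊓ piT.ker).index ≤ 31 * 16 :=
      Nat.mul_le_mul (by omega) h1
    omega
  have hZker : (Subgroup.center M).map M.subtype ≤ piT.ker := by
    intro z hz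
    by_contra hzk
    have hzk' : piT z ≠ 1 := fun h => hzk (MonoidHom.mem_ker.mpr h)
    have := card_le_of_comm_one (M ⊓ piT.ker) inf_le_right z hzk'
      (fun k hk => (hZmem z hz k hk.1).symm)
    omega
  have h3 : 3 ≤ Nat.card (M.map piT) := by
    have hd : (M.map piT).index ∣ M.index := Subgroup.index_map_dvd M piT_surjective
    rw [hidx] at hd
    have hle : (M.map piT).index ≤ 2 := Nat.le_of_dvd (by norm_num) hd
    have h := Subgroup.card_mul_index (M.map piT)
    rw [card_D3] at h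
    by_contra hlt
    push Not at hlt
    have : Nat.card ↥(M.map piT) * (M.map piT).index ≤ 2 * 2 := Nat.mul_le_mul (by omega) hle
    omega
  obtain ⟨d₁, hd₁, d₂, hd₂, h11, h21, h12⟩ := exists_two_of_card (M.map piT) h3
  obtain ⟨m₁, hm₁, rfl⟩ := hd₁
  obtain ⟨m₂, hm₂, rfl⟩ := hd₂
  rw [← hcardZ]
  exact card_le_of_comm_two _ hZker m₁ m₂ h11 h21 h12 (fun k hk => hZmem k hk m₁ hm₁)
    (fun k hk => hZmem k hk m₂ hm₂)

/-- the kernel of the projection is elementary abelian -/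
theorem ker_piT_elementary : Cfsg.IsElementaryAbelian 2 piT.ker := by
  refine ⟨⟨⟨fun a b => Subtype.ext ?_⟩⟩, fun a ha => ?_⟩
  · rw [Subgroup.coe_mul, Subgroup.coe_mul, comm_iff_commA a.2, MonoidHom.mem_ker.mp b.2]
    simp [commA]
  · obtain ⟨H23, H24, H34⟩ := mem_ker_piT.mp ha
    have h2 : ∀ u : ZMod 2, u + u = 0 := by decide
    rw [pow_two]
    apply T9.ext <;> simp [H23, H24, H34, h2]

/-- an abelian subgroup of order 64 is the kernel of the projection -/
theorem t9_unique (B : Subgroup T9) (hB : IsMulCommutative B) (hc : Nat.card B = 64) :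
    B = piT.ker := by
  by_contra hne
  have hnle : ¬ B ≤ piT.ker := fun hle =>
    hne (Subgroup.eq_of_le_of_card_ge hle (by rw [card_ker_piT, hc]))
  obtain ⟨x, hxB, hxk⟩ := SetLike.not_le_iff_exists.mp hnle
  have hxk' : piT x ≠ 1 := fun h => hxk (MonoidHom.mem_ker.mpr h)
  have hcomm : ∀ b₁ ∈ B, ∀ b₂ ∈ B, b₁ * b₂ = b₂ * b₁ := fun b₁ h₁ b₂ h₂ =>
    congrArg Subtype.val (hB.is_comm.comm ⟨b₁, h₁⟩ ⟨b₂, h₂⟩)
  have hprod : Nat.card (piT.ker ⊓ B : Subgroup T9) * Nat.card (B.map piT) = Nat.card B := by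
    have h := Subgroup.relIndex_mul_relIndex ⊥ (piT.ker ⊓ B) B bot_le inf_le_right
    rw [Subgroup.relIndex_bot_left, Subgroup.relIndex_bot_left, Subgroup.inf_relIndex_right,
      Subgroup.relIndex_ker] at h
    exact h
  have hRcomm : ∀ r₁ ∈ B.map piT, ∀ r₂ ∈ B.map piT, r₁ * r₂ = r₂ * r₁ := by
    rintro _ ⟨b₁, h₁, rfl⟩ _ ⟨b₂, h₂, rfl⟩
    rw [← map_mul, ← map_mul, hcomm b₁ h₁ b₂ h₂]
  have hRne : B.map piT ≠ ⊤ := fun htop => by
    have h := hRcomm ⟨1, 0, 0⟩ (htop ▸ Subgroup.mem_top _) ⟨0, 0, 1⟩ (htop ▸ Subgroup.mem_top _)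
    revert h
    decide
  have hR4 : Nat.card (B.map piT) ≤ 4 := by
    have hdvd : Nat.card (B.map piT) ∣ 8 := card_D3 ▸ Subgroup.card_subgroup_dvd_card _
    have hne8 : Nat.card (B.map piT) ≠ 8 := fun h =>
      hRne ((Subgroup.card_eq_iff_eq_top _).mp (h.trans card_D3.symm))
    obtain ⟨k, hk⟩ := hdvd
    rcases k with _ | _ | k
    · omega
    · omega
    · have : Nat.card ↥(B.map piT) * 2 ≤ Nat.card ↥(B.map piT) * (k + 1 + 1) :=
        Nat.mul_le_mul_left _ (by omega)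
      omega
  have hK16 : Nat.card (piT.ker ⊓ B : Subgroup T9) ≤ 16 :=
    card_le_of_comm_one _ inf_le_left x hxk' (fun k hk => hcomm k hk.2 x hxB)
  by_cases h3 : 3 ≤ Nat.card (B.map piT)
  · obtain ⟨d₁, hd₁, d₂, hd₂, h11, h21, h12⟩ := exists_two_of_card _ h3
    obtain ⟨y₁, hy₁, rfl⟩ := hd₁
    obtain ⟨y₂, hy₂, rfl⟩ := hd₂
    have hK8 := card_le_of_comm_two (piT.ker ⊓ B) inf_le_left y₁ y₂ h11 h21 h12
      (fun k hk => hcomm k hk.2 y₁ hy₁) (fun k hk => hcomm k hk.2 y₂ hy₂)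
    have : Nat.card ↥(piT.ker ⊓ B) * Nat.card ↥(B.map piT) ≤ 8 * 4 := Nat.mul_le_mul hK8 hR4
    omega
  · push Not at h3
    have : Nat.card ↥(piT.ker ⊓ B) * Nat.card ↥(B.map piT) ≤ 16 * 2 :=
      Nat.mul_le_mul hK16 (by omega)
    omega

/-- the three properties of the statement -/
def SylQuotProp (X : Type*) [Group X] : Prop :=
  (∀ M : Subgroup X, IsCoatom M → Nat.card ↥(Subgroup.center ↥M) ≤ 8) ∧
    (∃ A : Subgroup X, Cfsg.IsElementaryAbelian 2 A ∧ Nat.card ↥A = 64) ∧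
      ∀ A B : Subgroup X, IsMulCommutative ↥A → Nat.card ↥A = 64 → IsMulCommutative ↥B →
        Nat.card ↥B = 64 → A = B

theorem t9_prop : SylQuotProp T9 :=
  ⟨t9_coatom, ⟨piT.ker, ker_piT_elementary, card_ker_piT⟩, fun A B hA hA' hB hB' =>
    (t9_unique A hA hA').trans (t9_unique B hB hB').symm⟩

theorem isMulCommutative_map {X Y : Type*} [Group X] [Group Y] (f : X →* Y) (A : Subgroup X)
    (hA : IsMulCommutative A) : IsMulCommutative (A.map f) := by
  refine ⟨⟨fun a b => Subtype.ext ?_⟩⟩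
  obtain ⟨x, hx, hxa⟩ := a.2
  obtain ⟨y, hy, hyb⟩ := b.2
  have h := congrArg Subtype.val (hA.is_comm.comm ⟨x, hx⟩ ⟨y, hy⟩)
  rw [Subgroup.coe_mul, Subgroup.coe_mul, ← hxa, ← hyb, ← map_mul, ← map_mul]
  exact congrArg f h

theorem sylQuotProp_of_equiv {X Y : Type*} [Group X] [Group Y] (e : X ≃* Y)
    (h : SylQuotProp Y) : SylQuotProp X := by
  obtain ⟨h1, ⟨A, hA, hAc⟩, h3⟩ := h
  refine ⟨fun M hM => ?_, ⟨A.map e.symm.toMonoidHom, ⟨?_, ?_⟩, ?_⟩, fun A B hA hA' hB hB' => ?_⟩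
  · have hM' : IsCoatom (M.map e.toMonoidHom) :=
      (OrderIso.isCoatom_iff e.mapSubgroup M).mpr hM
    have := h1 _ hM'
    exact (Nat.card_congr (Subgroup.centerCongr (e.subgroupMap M)).toEquiv).le.trans this
  · exact isMulCommutative_map _ _ hA.1
  · rintro _ ⟨a, ha, rfl⟩
    rw [← map_pow, hA.2 a ha, map_one]
  · rw [Subgroup.card_map_of_injective e.symm.injective, hAc]
  · have hAB := h3 (A.map e.toMonoidHom) (B.map e.toMonoidHom)
      (isMulCommutative_map _ _ hA)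
      (by rw [Subgroup.card_map_of_injective e.injective, hA'])
      (isMulCommutative_map _ _ hB)
      (by rw [Subgroup.card_map_of_injective e.injective, hB'])
    exact Subgroup.map_injective e.injective hAB

end Cfsg.Agent.Lib.Helper28
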