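import Mathlib
import Cfsg.Agent.Lib.Helper28.UT5
import Cfsg.Agent.Lib.Helper28.CentTwoA
import Cfsg.Agent.Lib.Helper28.M24Order

set_option autoImplicit false

/-!
A Sylow 2-subgroup of `M24` is isomorphic to the unitriangular group of degree 5 over `𝔽₂`, and
its quotient by the centre is the group `T9`.
-/

namespace Cfsg.Agent.Lib.Helper28

open Cfsg

set_option synthInstance.maxSize 4096 in
set_option synthInstance.maxHeartbeats 400000 in
/-- coordinates on (a conjugate of) the unitriangular group of degree 5 over `𝔽₂` -/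
@[ext] structure T10 where
  a1 : ZMod 2
  a2 : ZMod 2
  a3 : ZMod 2
  a4 : ZMod 2
  b2 : ZMod 2
  b3 : ZMod 2
  b4 : ZMod 2
  c23 : ZMod 2
  c24 : ZMod 2
  c34 : ZMod 2
deriving DecidableEq, Fintype

namespace T10

protected def mul (x y : T10) : T10 :=
  ⟨x.a1 + y.a1 + x.a2 * y.b2 + x.a3 * y.b3 + x.a4 * y.b4,
    x.a2 + y.a2, x.a3 + y.a3 + x.a2 * y.c23, x.a4 + y.a4 + x.a2 * y.c24 + x.a3 * y.c34,
    x.b2 + y.b2 + x.c23 * y.b3 + x.c24 * y.b4, x.b3 + y.b3 + x.c34 * y.b4, x.b4 + y.b4,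
    x.c23 + y.c23, x.c24 + y.c24 + x.c23 * y.c34, x.c34 + y.c34⟩

protected def one : T10 := ⟨0, 0, 0, 0, 0, 0, 0, 0, 0, 0⟩

protected def inv (x : T10) : T10 :=
  ⟨-x.a1 + x.a2 * x.b2 + (x.a3 - x.a2 * x.c23) * x.b3 +
      (x.a4 - x.a2 * x.c24 - x.a3 * x.c34 + x.a2 * x.c23 * x.c34) * x.b4,
    -x.a2, -x.a3 + x.a2 * x.c23,
    -x.a4 + x.a2 * x.c24 + x.a3 * x.c34 - x.a2 * x.c23 * x.c34,
    -x.b2 + x.c23 * x.b3 + x.c24 * x.b4 - x.c23 * x.c34 * x.b4, -x.b3 + x.c34 * x.b4, -x.b4,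
    -x.c23, -x.c24 + x.c23 * x.c34, -x.c34⟩

theorem mul_assoc' (x y z : T10) : T10.mul (T10.mul x y) z = T10.mul x (T10.mul y z) := by
  apply T10.ext <;> simp only [T10.mul] <;> ring

theorem one_mul' (x : T10) : T10.mul T10.one x = x := by
  apply T10.ext <;> simp [T10.mul, T10.one]

theorem mul_one' (x : T10) : T10.mul x T10.one = x := by
  apply T10.ext <;> simp [T10.mul, T10.one]

theorem inv_mul' (x : T10) : T10.mul (T10.inv x) x = T10.one := by
  apply T10.ext <;> simp only [T10.mul, T10.inv, T10.one] <;> ring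

instance : Group T10 where
  mul := T10.mul
  one := T10.one
  inv := T10.inv
  mul_assoc := mul_assoc'
  one_mul := one_mul'
  mul_one := mul_one'
  inv_mul_cancel := inv_mul'

@[simp] theorem mul_a1 (x y : T10) :
    (x * y).a1 = x.a1 + y.a1 + x.a2 * y.b2 + x.a3 * y.b3 + x.a4 * y.b4 := rfl
@[simp] theorem mul_a2 (x y : T10) : (x * y).a2 = x.a2 + y.a2 := rfl
@[simp] theorem mul_a3 (x y : T10) : (x * y).a3 = x.a3 + y.a3 + x.a2 * y.c23 := rfl
@[simp] theorem mul_a4 (x y : T10) :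
    (x * y).a4 = x.a4 + y.a4 + x.a2 * y.c24 + x.a3 * y.c34 := rfl
@[simp] theorem mul_b2 (x y : T10) :
    (x * y).b2 = x.b2 + y.b2 + x.c23 * y.b3 + x.c24 * y.b4 := rfl
@[simp] theorem mul_b3 (x y : T10) : (x * y).b3 = x.b3 + y.b3 + x.c34 * y.b4 := rfl
@[simp] theorem mul_b4 (x y : T10) : (x * y).b4 = x.b4 + y.b4 := rfl
@[simp] theorem mul_c23 (x y : T10) : (x * y).c23 = x.c23 + y.c23 := rfl
@[simp] theorem mul_c24 (x y : T10) : (x * y).c24 = x.c24 + y.c24 + x.c23 * y.c34 := rfl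
@[simp] theorem mul_c34 (x y : T10) : (x * y).c34 = x.c34 + y.c34 := rfl
@[simp] theorem one_a1 : (1 : T10).a1 = 0 := rfl
@[simp] theorem one_a2 : (1 : T10).a2 = 0 := rfl
@[simp] theorem one_a3 : (1 : T10).a3 = 0 := rfl
@[simp] theorem one_a4 : (1 : T10).a4 = 0 := rfl
@[simp] theorem one_b2 : (1 : T10).b2 = 0 := rfl
@[simp] theorem one_b3 : (1 : T10).b3 = 0 := rfl
@[simp] theorem one_b4 : (1 : T10).b4 = 0 := rfl
@[simp] theorem one_c23 : (1 : T10).c23 = 0 := rfl
@[simp] theorem one_c24 : (1 : T10).c24 = 0 := rfl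
@[simp] theorem one_c34 : (1 : T10).c34 = 0 := rfl

end T10

set_option maxRecDepth 100000 in
theorem card_T10 : Nat.card T10 = 1024 := by
  rw [Nat.card_eq_fintype_card]
  decide

/-- the quotient map onto `T9` -/
def phiT : T10 →* T9 :=
  MonoidHom.mk' (fun x => ⟨x.a2, x.a3, x.a4, x.b2, x.b3, x.b4, x.c23, x.c24, x.c34⟩)
    (fun x y => by apply T9.ext <;> rfl)

theorem phiT_surjective : Function.Surjective phiT := fun y =>
  ⟨⟨0, y.a2, y.a3, y.a4, y.b2, y.b3, y.b4, y.c23, y.c24, y.c34⟩, by apply T9.ext <;> rfl⟩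

theorem mem_ker_phiT {x : T10} : x ∈ phiT.ker ↔ x.a2 = 0 ∧ x.a3 = 0 ∧ x.a4 = 0 ∧ x.b2 = 0 ∧
    x.b3 = 0 ∧ x.b4 = 0 ∧ x.c23 = 0 ∧ x.c24 = 0 ∧ x.c34 = 0 := by
  rw [MonoidHom.mem_ker, T9.ext_iff]
  rfl

set_option maxRecDepth 100000 in
theorem center_aux : ∀ z : T10,
    (∀ g ∈ ([⟨0, 1, 0, 0, 0, 0, 0, 0, 0, 0⟩, ⟨0, 0, 1, 0, 0, 0, 0, 0, 0, 0⟩,
      ⟨0, 0, 0, 1, 0, 0, 0, 0, 0, 0⟩, ⟨0, 0, 0, 0, 1, 0, 0, 0, 0, 0⟩,
      ⟨0, 0, 0, 0, 0, 1, 0, 0, 0, 0⟩, ⟨0, 0, 0, 0, 0, 0, 1, 0, 0, 0⟩] : List T10), g * z = z * g) →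
      phiT z = 1 := by
  decide

theorem center_T10 : Subgroup.center T10 = phiT.ker := by
  ext z
  rw [Subgroup.mem_center_iff]
  constructor
  · intro h
    exact MonoidHom.mem_ker.mpr (center_aux z (fun g _ => h g))
  · intro hz g
    obtain ⟨h2, h3, h4, h5, h6, h7, h8, h9, h10⟩ := mem_ker_phiT.mp hz
    apply T10.ext <;>
      simp only [T10.mul_a1, T10.mul_a2, T10.mul_a3, T10.mul_a4, T10.mul_b2, T10.mul_b3,
        T10.mul_b4, T10.mul_c23, T10.mul_c24, T10.mul_c34, h2, h3, h4, h5, h6, h7, h8, h9, h10,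
        mul_zero, zero_mul, add_zero, zero_add] <;> ring

/-- the matrix of an element -/
def matOf (x : T10) : Matrix (Fin 5) (Fin 5) (ZMod 2) :=
  !![1, x.a1, x.a2, x.a3, x.a4;
     0, 1, 0, 0, 0;
     0, x.b2, 1, x.c23, x.c24;
     0, x.b3, 0, 1, x.c34;
     0, x.b4, 0, 0, 1]

theorem matOf_mul (x y : T10) : matOf (x * y) = matOf x * matOf y := by
  ext i j
  fin_cases i <;> fin_cases j <;>
    simp [matOf, Matrix.mul_apply, Fin.sum_univ_five] <;> ring

theorem matOf_one : matOf 1 = 1 := by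
  ext i j
  fin_cases i <;> fin_cases j <;> simp [matOf]

theorem det_matOf (x : T10) : (matOf x).det = 1 := by
  have h : matOf x * matOf x⁻¹ = 1 := by rw [← matOf_mul, mul_inv_cancel, matOf_one]
  have hd : (matOf x).det * (matOf x⁻¹).det = 1 := by rw [← Matrix.det_mul, h, Matrix.det_one]
  have key : ∀ u v : ZMod 2, u * v = 1 → u = 1 := by decide
  exact key _ _ hd

/-- the embedding into the special linear group -/
def iotaT : T10 →* Matrix.SpecialLinearGroup (Fin 5) (ZMod 2) :=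
  MonoidHom.mk' (fun x => ⟨matOf x, det_matOf x⟩) (fun x y => Subtype.ext (matOf_mul x y))

theorem iotaT_injective : Function.Injective iotaT := by
  intro x y h
  have hm : matOf x = matOf y := congrArg Subtype.val h
  apply T10.ext
  · exact congrFun (congrFun hm 0) 1
  · exact congrFun (congrFun hm 0) 2
  · exact congrFun (congrFun hm 0) 3
  · exact congrFun (congrFun hm 0) 4
  · exact congrFun (congrFun hm 2) 1
  · exact congrFun (congrFun hm 3) 1
  · exact congrFun (congrFun hm 4) 1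
  · exact congrFun (congrFun hm 2) 3
  · exact congrFun (congrFun hm 2) 4
  · exact congrFun (congrFun hm 3) 4

/-- the central element -/
def e1T : T10 := ⟨1, 0, 0, 0, 0, 0, 0, 0, 0, 0⟩

theorem e1T_central (x : T10) : e1T * x = x * e1T := by
  apply T10.ext <;> simp [e1T] <;> ring

theorem matOf_e1T : matOf e1T = Matrix.transvection 0 1 1 := by
  ext i j
  fin_cases i <;> fin_cases j <;> simp [matOf, e1T, Matrix.transvection, Matrix.single]

/-- a Sylow 2-subgroup of `M24` is isomorphic to `T10` -/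
theorem sylow_M24_equiv_T10 (P : Sylow 2 ↥M24) : Nonempty (↥(P : Subgroup ↥M24) ≃* T10) := by
  haveI : Fact (Nat.Prime 2) := ⟨Nat.prime_two⟩
  obtain ⟨z, -, ⟨j⟩⟩ := cent_2A_iso (iotaT e1T) matOf_e1T
  have hcent : ∀ x : T10, iotaT x ∈
      Subgroup.centralizer ({iotaT e1T} : Set (Matrix.SpecialLinearGroup (Fin 5) (ZMod 2))) := by
    intro x
    rw [Subgroup.mem_centralizer_iff]
    intro g hg
    rw [Set.mem_singleton_iff] at hg
    subst hg
    rw [← map_mul, ← map_mul, e1T_central]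
  let ιc : T10 →* ↥(Subgroup.centralizer
      ({iotaT e1T} : Set (Matrix.SpecialLinearGroup (Fin 5) (ZMod 2)))) :=
    iotaT.codRestrict _ hcent
  let k : T10 →* ↥M24 :=
    (Subgroup.subtype _).comp (j.symm.toMonoidHom.comp ιc)
  have hk : Function.Injective k := by
    intro x y h
    have h1 : j.symm (ιc x) = j.symm (ιc y) := Subtype.ext h
    have h2 := j.symm.injective h1
    have h3 : iotaT x = iotaT y := congrArg Subtype.val h2
    exact iotaT_injective h3
  have hcard : Nat.card k.range = 1024 := by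
    rw [← Nat.card_congr (MonoidHom.ofInjective hk).toEquiv, card_T10]
  have hp : IsPGroup 2 k.range := IsPGroup.of_card (n := 10) (by rw [hcard]; norm_num)
  have hidx : k.range.index = 239085 := by
    have h := Subgroup.card_mul_index k.range
    rw [hcard, card_M24] at h
    omega
  let Q : Sylow 2 ↥M24 := hp.toSylow (by rw [hidx]; norm_num)
  have e1 : ↥(P : Subgroup ↥M24) ≃* ↥(Q : Subgroup ↥M24) := Sylow.equiv P Q
  have e2 : ↥(Q : Subgroup ↥M24) ≃* T10 := (MonoidHom.ofInjective hk).symm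
  exact ⟨e1.trans e2⟩

theorem map_center_equiv {X Y : Type*} [Group X] [Group Y] (e : X ≃* Y) :
    (Subgroup.center X).map (e : X →* Y) = Subgroup.center Y := by
  ext y
  rw [Subgroup.mem_map]
  constructor
  · rintro ⟨x, hx, rfl⟩
    rw [Subgroup.mem_center_iff] at hx ⊢
    intro g
    obtain ⟨g', rfl⟩ := e.surjective g
    show e g' * e x = e x * e g'
    rw [← map_mul, ← map_mul, hx g']
  · intro hy
    refine ⟨e.symm y, ?_, e.apply_symm_apply y⟩
    rw [Subgroup.mem_center_iff] at hy ⊢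
    intro g
    apply e.injective
    rw [map_mul, map_mul, e.apply_symm_apply]
    exact hy (e g)

/-- the quotient of a Sylow 2-subgroup of `M24` by its centre has the three properties -/
theorem sylow_M24_quot (P : Sylow 2 ↥M24) :
    SylQuotProp (↥(P : Subgroup ↥M24) ⧸ Subgroup.center ↥(P : Subgroup ↥M24)) := by
  obtain ⟨e⟩ := sylow_M24_equiv_T10 P
  have e1 : (↥(P : Subgroup ↥M24) ⧸ Subgroup.center ↥(P : Subgroup ↥M24)) ≃*
      (T10 ⧸ Subgroup.center T10) := QuotientGroup.congr _ _ e (map_center_equiv e)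
  have e2 : (T10 ⧸ Subgroup.center T10) ≃* (T10 ⧸ phiT.ker) :=
    QuotientGroup.quotientMulEquivOfEq center_T10
  have e3 : (T10 ⧸ phiT.ker) ≃* T9 := QuotientGroup.quotientKerEquivOfSurjective phiT phiT_surjective
  exact sylQuotProp_of_equiv ((e1.trans e2).trans e3) t9_prop

end Cfsg.Agent.Lib.Helper28
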