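import Cfsg.Agent.Lib.Helper28.Data2882
import Cfsg.Agent.Lib.Helper28.CentTwoB
import Cfsg.Agent.Lib.Helper28.StabCards
import Cfsg.Agent.Lib.Helper28.M12Trans
import Cfsg.Agent.Lib.Helper28.OctadTrios
import Cfsg.Agent.Lib.Helper28.M24Order
import Cfsg.Agent.Lib.Helper28.Sextets

set_option autoImplicit false

/-!
Sylow 2-subgroups of `M24` are self-normalizing: a Sylow 2-subgroup is the stabilizer of a sextet,
an octad and a partition of the octad into pairs; it fixes a unique octad and a unique sextet, and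
among the images of the partition under the stabilizer of the sextet and the octad only the
partition itself is invariant.
-/

namespace Cfsg.Agent.Lib.Helper28

open Cfsg MulAction
open scoped Pointwise

/-- the stabilizer of the base sextet -/
def syH : Subgroup (Equiv.Perm GolayPt) := M24 ⊓ stabilizer (Equiv.Perm GolayPt) (famSet c2b_S0)

/-- the stabilizer of the base sextet and octad -/
def syB : Subgroup (Equiv.Perm GolayPt) := syH ⊓ stabilizer (Equiv.Perm GolayPt) (ptSet sy_O0)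

/-- the Sylow subgroup -/
def syT : Subgroup (Equiv.Perm GolayPt) := syB ⊓ stabilizer (Equiv.Perm GolayPt) (famSet sy_F)

theorem mem_syH {g : Equiv.Perm GolayPt} :
    g ∈ syH ↔ g ∈ M24 ∧ g • famSet c2b_S0 = famSet c2b_S0 := by
  unfold syH
  rw [Subgroup.mem_inf]
  exact Iff.rfl

theorem mem_syB {g : Equiv.Perm GolayPt} :
    g ∈ syB ↔ g ∈ M24 ∧ g • famSet c2b_S0 = famSet c2b_S0 ∧ g • ptSet sy_O0 = ptSet sy_O0 := by
  unfold syB
  rw [Subgroup.mem_inf, mem_syH, and_assoc]
  exact Iff.rfl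

theorem mem_syT {g : Equiv.Perm GolayPt} :
    g ∈ syT ↔ g ∈ M24 ∧ g • famSet c2b_S0 = famSet c2b_S0 ∧ g • ptSet sy_O0 = ptSet sy_O0 ∧
      g • famSet sy_F = famSet sy_F := by
  unfold syT
  rw [Subgroup.mem_inf, mem_syB, and_assoc, and_assoc]
  exact Iff.rfl

theorem sy_S0_good : GoodFam c2b_S0 := c2b_htabs_check.1.goodFam

theorem sy_S0_mem : famSet c2b_S0 ∈ sextets := c2b_htabs_check.1.mem

theorem sy_O0_good : GoodSet sy_O0 := sy_base_check.1.1

theorem sy_F_good : GoodFam sy_F := goodFam_of_disjoint sy_base_check.2.1 sy_base_check.2.2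

theorem syH_card : Nat.card syH = 138240 := by
  unfold syH
  rw [← card_stabilizer_subgroup, card_stabilizer_sextet sy_S0_mem]

theorem sy_hgens : ∀ t ∈ c2b_htabs, ∃ g ∈ syH, ActsBy g t :=
  gens_stab_fam c2b_htabs c2b_S0 sy_S0_good c2b_htabs_check.2.1

theorem syB_card_le : Nat.card syB ≤ 9216 := by
  have hs := sy_omodel1.nodes_sound syH c2b_htabs sy_hgens sy_O0 sy_O0_good sy_ocert1
  have hnd : ((sy_omodel1.nodes c2b_htabs sy_O0 sy_ocert1).map ptSet).Nodup :=
    sy_omodel1.sem_nodup _ (fun x hx => (hs x hx).1) sy_ocheck1.1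
  have key := card_mul_le_of_orbit syH syB (ptSet sy_O0) inf_le_left
    (fun c hc => (mem_syB.mp hc).2.2) _ hnd (by
      intro z hz
      obtain ⟨x, hx, rfl⟩ := List.mem_map.mp hz
      exact (hs x hx).2)
  rw [List.length_map, sy_ocheck1.2, syH_card] at key
  have e : (138240 : ℕ) = 9216 * 15 := by norm_num
  rw [e] at key
  exact Nat.le_of_mul_le_mul_right key (by norm_num)

theorem sy_bgens : ∀ t ∈ sy_btabs, ∃ g ∈ syB, ActsBy g t := by
  intro t ht
  obtain ⟨htab, hS, hO⟩ := sy_btabs_check t ht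
  obtain ⟨g, hg, hact⟩ := htab.exists
  refine ⟨g, mem_syB.mpr ⟨hg, smul_famSet_eq_of_famSubB hact sy_S0_good hS, ?_⟩, hact⟩
  rw [(smul_ptSet hact sy_O0_good).1]
  exact ptSet_eq_of_setEqB hO

theorem sy_tgens : ∀ t ∈ sy_ttabs, ∃ g ∈ syT, ActsBy g t := by
  intro t ht
  obtain ⟨htab, hS, hO, hF⟩ := sy_ttabs_check t ht
  obtain ⟨g, hg, hact⟩ := htab.exists
  refine ⟨g, mem_syT.mpr ⟨hg, smul_famSet_eq_of_famSubB hact sy_S0_good hS, ?_,
    smul_famSet_eq_of_famSubB hact sy_F_good hF⟩, hact⟩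
  rw [(smul_ptSet hact sy_O0_good).1]
  exact ptSet_eq_of_setEqB hO

theorem sy_F_nodes : ∀ x ∈ sy_omodel2.nodes sy_btabs sy_F sy_ocert2,
    GoodFam x ∧ ∃ g ∈ syB, g • famSet sy_F = famSet x :=
  sy_omodel2.nodes_sound syB sy_btabs sy_bgens sy_F sy_F_good sy_ocert2

theorem sy_F_nodup : ((sy_omodel2.nodes sy_btabs sy_F sy_ocert2).map famSet).Nodup :=
  sy_omodel2.sem_nodup _ (fun x hx => (sy_F_nodes x hx).1) sy_ocheck2.1

theorem syT_mul_nine_le : Nat.card syT * 9 ≤ Nat.card syB := by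
  have key := card_mul_le_of_orbit syB syT (famSet sy_F) inf_le_left
    (fun c hc => (mem_syT.mp hc).2.2.2) _ sy_F_nodup (by
      intro z hz
      obtain ⟨x, hx, rfl⟩ := List.mem_map.mp hz
      exact (sy_F_nodes x hx).2)
  rw [List.length_map, sy_ocheck2.2] at key
  exact key

theorem syT_card_le : Nat.card syT ≤ 1024 := by
  have h1 := syT_mul_nine_le
  have h2 := syB_card_le
  omega

theorem sy_enum : Nat.card syT = 1024 ∧
    ∀ g ∈ syT, ∃ l ∈ sy_tmodel.nodes sy_ttabs idList sy_tcert, GoodPerm l ∧ g = permOfList l :=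
  elems_of_cert_le _ syT sy_ttabs sy_tgens sy_tcert 1024 syT_card_le sy_tcheck.1 sy_tcheck.2

theorem syB_card : Nat.card syB = 9216 := by
  have h1 := syT_mul_nine_le
  have h2 := syB_card_le
  rw [sy_enum.1] at h1
  omega

/-- the orbit of the partition under the stabilizer of the sextet and the octad -/
theorem sy_orbit_eq : orbit syB (famSet sy_F) =
    {y | ∃ x ∈ sy_omodel2.nodes sy_btabs sy_F sy_ocert2, famSet x = y} := by
  classical
  have h := card_eq_orbit_mul_card_inf_stabilizer' syB (famSet sy_F)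
  have h2 : Nat.card ↥(syB ⊓ stabilizer (Equiv.Perm GolayPt) (famSet sy_F)) = 1024 := sy_enum.1
  rw [syB_card, h2] at h
  have h9 : (orbit syB (famSet sy_F)).ncard = 9 := by omega
  have hset : {y | ∃ x ∈ sy_omodel2.nodes sy_btabs sy_F sy_ocert2, famSet x = y} =
      ((((sy_omodel2.nodes sy_btabs sy_F sy_ocert2).map famSet).toFinset :
        Finset (Finset (Finset GolayPt))) : Set (Finset (Finset GolayPt))) := by
    ext y
    simp
  symm
  rw [hset]
  apply Set.eq_of_subset_of_ncard_le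
  · intro y hy
    rw [Finset.mem_coe, List.mem_toFinset] at hy
    obtain ⟨x, hx, rfl⟩ := List.mem_map.mp hy
    obtain ⟨_, g, hg, hgx⟩ := sy_F_nodes x hx
    exact ⟨⟨g, hg⟩, hgx⟩
  · rw [h9, Set.ncard_coe_finset, List.toFinset_card_of_nodup sy_F_nodup, List.length_map,
      sy_ocheck2.2]
  · exact Set.toFinite _

/-! ### uniqueness of the fixed objects -/

theorem sy_octad_unique {o : Finset GolayPt} (ho : o ∈ octads) (h : ∀ t ∈ syT, t • o = o) :
    o = ptSet sy_O0 := by
  obtain ⟨x, hx, rfl⟩ := (alloct_enum.2.2 o).mp ho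
  have hgx := alloct_enum.1 x hx
  have hall : ∀ t ∈ sy_ttabs, setEqB (stepSet t x) x = true := by
    intro t ht
    obtain ⟨g, hg, hact⟩ := sy_tgens t ht
    obtain ⟨h1, h2⟩ := smul_ptSet hact hgx
    have h3 := h g hg
    rw [h1] at h3
    exact (setEqB_iff h2 hgx).mpr h3
  exact (setEqB_iff hgx sy_O0_good).mp (sy_oct_unique_check x hx hall)

theorem sy_sextet_unique {S : Finset (Finset GolayPt)} (hS : S ∈ sextets)
    (h : ∀ t ∈ syT, t • S = S) : S = famSet c2b_S0 := by
  obtain ⟨x, hx, rfl⟩ := (allsext_enum.2.2 S).mp hS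
  have hgx := allsext_enum.1 x hx
  have hall : ∀ t ∈ sy_ttabs, famEqB (stepFam t x) x = true := by
    intro t ht
    obtain ⟨g, hg, hact⟩ := sy_tgens t ht
    obtain ⟨h1, h2⟩ := smul_famSet hact hgx
    have h3 := h g hg
    rw [h1] at h3
    exact (famEqB_iff h2 hgx).mpr h3
  exact (famEqB_iff hgx sy_S0_good).mp (sy_sext_unique_check x hx hall)

theorem sy_F_unique {x : List (List ℕ)} (hx : x ∈ sy_omodel2.nodes sy_btabs sy_F sy_ocert2)
    (h : ∀ t ∈ syT, t • famSet x = famSet x) : famSet x = famSet sy_F := by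
  have hgx := (sy_F_nodes x hx).1
  have hall : ∀ t ∈ sy_ttabs, famEqB (stepFam t x) x = true := by
    intro t ht
    obtain ⟨g, hg, hact⟩ := sy_tgens t ht
    obtain ⟨h1, h2⟩ := smul_famSet hact hgx
    have h3 := h g hg
    rw [h1] at h3
    exact (famEqB_iff h2 hgx).mpr h3
  exact (famEqB_iff hgx sy_F_good).mp (sy_F_unique_check x hx hall)

/-! ### the normalizer -/

theorem smul_conj_fixed {Y : Type*} [MulAction (Equiv.Perm GolayPt) Y] (n t : Equiv.Perm GolayPt)
    (y : Y) (h : (n⁻¹ * t * n) • y = y) : t • n • y = n • y := by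
  calc t • n • y = n • ((n⁻¹ * t * n) • y) := by
        rw [← mul_smul, ← mul_smul]
        congr 1
        group
    _ = n • y := by rw [h]

theorem syT_normalizer {n : Equiv.Perm GolayPt} (hn : n ∈ M24)
    (hnorm : ∀ t, t ∈ syT ↔ n * t * n⁻¹ ∈ syT) : n ∈ syT := by
  have hinv : ∀ t ∈ syT, n⁻¹ * t * n ∈ syT := by
    intro t ht
    rw [hnorm]
    have e : n * (n⁻¹ * t * n) * n⁻¹ = t := by group
    rw [e]
    exact ht
  have hO : n • ptSet sy_O0 = ptSet sy_O0 := by
    apply sy_octad_unique (smul_mem_octads hn sy_base_check.1.mem)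
    intro t ht
    exact smul_conj_fixed n t _ (mem_syT.mp (hinv t ht)).2.2.1
  have hS : n • famSet c2b_S0 = famSet c2b_S0 := by
    apply sy_sextet_unique (smul_mem_sextets hn sy_S0_mem)
    intro t ht
    exact smul_conj_fixed n t _ (mem_syT.mp (hinv t ht)).2.1
  have hnB : n ∈ syB := mem_syB.mpr ⟨hn, hS, hO⟩
  have hmem : n • famSet sy_F ∈ orbit syB (famSet sy_F) := ⟨⟨n, hnB⟩, rfl⟩
  rw [sy_orbit_eq] at hmem
  obtain ⟨x, hx, hxe⟩ := hmem
  have hfix : ∀ t ∈ syT, t • famSet x = famSet x := by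
    intro t ht
    rw [hxe]
    exact smul_conj_fixed n t _ (mem_syT.mp (hinv t ht)).2.2.2
  have := sy_F_unique hx hfix
  exact mem_syT.mpr ⟨hn, hS, hO, by rw [← hxe, this]⟩

/-- the Sylow subgroup, inside `M24` -/
def syT0 : Subgroup ↥M24 := syT.subgroupOf M24

theorem syT_le : syT ≤ M24 := fun _ hg => (mem_syT.mp hg).1

theorem syT0_card : Nat.card syT0 = 1024 := by
  unfold syT0
  rw [Nat.card_congr (Subgroup.subgroupOfEquivOfLe syT_le).toEquiv]
  exact sy_enum.1

theorem syT0_normalizer : Subgroup.normalizer (syT0 : Set ↥M24) = syT0 := by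
  apply le_antisymm
  · intro n hn
    rw [Subgroup.mem_normalizer_iff] at hn
    show (n : Equiv.Perm GolayPt) ∈ syT
    apply syT_normalizer n.2
    intro t
    constructor
    · intro ht
      exact (hn ⟨t, syT_le ht⟩).mp ht
    · intro ht
      have htM : t ∈ M24 := by
        have h1 := syT_le ht
        have e : t = (n : Equiv.Perm GolayPt)⁻¹ * ((n : Equiv.Perm GolayPt) * t *
            (n : Equiv.Perm GolayPt)⁻¹) * (n : Equiv.Perm GolayPt) := by group
        rw [e]
        exact M24.mul_mem (M24.mul_mem (M24.inv_mem n.2) h1) n.2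
      exact (hn ⟨t, htM⟩).mpr ht
  · exact Subgroup.le_normalizer

/-- Sylow 2-subgroups of `M24` are self-normalizing -/
theorem sylow_two_self_normalizing (S : Sylow 2 ↥M24) :
    Subgroup.normalizer ((S : Subgroup ↥M24) : Set ↥M24) = (S : Subgroup ↥M24) := by
  haveI : Fact (Nat.Prime 2) := ⟨Nat.prime_two⟩
  have hp : IsPGroup 2 syT0 := IsPGroup.of_card (n := 10) (by rw [syT0_card]; norm_num)
  have hidx : syT0.index = 239085 := by
    have h := Subgroup.card_mul_index syT0
    rw [syT0_card, card_M24] at h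
    omega
  let P : Sylow 2 ↥M24 := hp.toSylow (by rw [hidx]; norm_num)
  have hP : (P : Subgroup ↥M24) = syT0 := rfl
  have h1 : (Subgroup.normalizer ((S : Subgroup ↥M24) : Set ↥M24)).index =
      (Subgroup.normalizer ((P : Subgroup ↥M24) : Set ↥M24)).index :=
    (Sylow.card_eq_index_normalizer S).symm.trans (Sylow.card_eq_index_normalizer P)
  rw [hP, syT0_normalizer, hidx] at h1
  have hS : Nat.card (S : Subgroup ↥M24) = 1024 := by
    rw [Sylow.card_eq_multiplicity, ← Sylow.card_eq_multiplicity P, hP, syT0_card]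
  have h2 := Subgroup.card_mul_index (Subgroup.normalizer ((S : Subgroup ↥M24) : Set ↥M24))
  rw [h1, card_M24] at h2
  have h3 : Nat.card (Subgroup.normalizer ((S : Subgroup ↥M24) : Set ↥M24)) = 1024 := by omega
  symm
  apply Subgroup.eq_of_le_of_card_ge Subgroup.le_normalizer
  rw [h3, hS]

end Cfsg.Agent.Lib.Helper28
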