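import Mathlib
import Cfsg.Agent.Lib.Helper28.TensUDefs
import Cfsg.Agent.Lib.Helper28.S5670FOHS
import Cfsg.Agent.Lib.Helper25.S5670FOROOT
import Cfsg.Agent.Lib.Helper25.S5670FOPERP
import Cfsg.Agent.Lib.Helper24.S5670FOISO
import Cfsg.Agent.Lib.Helper24.S5670FOSTRICT
import Cfsg.Agent.Lib.Helper23.S5670FOST
import Cfsg.Agent.Lib.Helper23.S5670FOCL
import Cfsg.Agent.Lib.Helper23.S5670FOLEFT
import Cfsg.Agent.Lib.Helper22.S5670FOORTHO
import Cfsg.Agent.Lib.Helper22.S5670FOBRIDGE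
import Cfsg.Agent.Lib.Helper10.S5670FORANK
import Cfsg.Agent.Lib.Helper20.S5670FOLX
import Cfsg.Agent.Lib.Helper20.S5670FOMX
import Cfsg.Agent.Lib.Helper19.S5670FOKER
import Cfsg.Agent.Lib.Helper19.S5670FOL
import Cfsg.Agent.Lib.Helper19.S5670FOE1M
import Cfsg.Agent.Lib.Helper19.S5670FOMIX
import Cfsg.Agent.Lib.Helper22.S5670FOTRANS
import Cfsg.Agent.Lib.Helper26.S5670FOT3c
import Cfsg.Agent.Lib.Helper28.S5670T2T3w
import Cfsg.Agent.Lib.Helper28.S5670T4Final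

/-!
S5670 (helper28, architect): the assembly.  `(GU_a ⊗ GU_b) ∩ SU_ab` is maximal in `SU_ab(q)`, `2 ≤ a < b`, `ab ≥ 13`,
not `a = q = 2`.  All pieces are restated with their exact skeleton signatures and closed by the landed libraries
(see notes/S5670Skel_helper28.lean.txt for the paper proof).
-/
set_option autoImplicit false
set_option linter.unusedSectionVars false
set_option linter.unusedVariables false

namespace Cfsg.Agent.Lib.Helper28.TensUMain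

open Matrix Module
open Cfsg.Agent.Lib.Helper16.Tens Cfsg.Agent.Lib.Helper10.TensFund Cfsg.Agent.Lib.Helper28.TensU
open scoped Kronecker

variable {F : Type*} [Field F] [Fintype F] {a b : ℕ} {q : ℕ}
variable {M : Subgroup (GL (Fin a × Fin b) F)}

local notation "K" => Cfsg.Geo.kroneckerSubgroup a b F
local notation "V" => (Fin a × Fin b → F)

/-! ## API pieces -/

/-- FO-HS (a) -/
theorem hs_add_left {κ : Type*} [Fintype κ] (x x' y : κ → F) : hs q (x + x') y = hs q x y + hs q x' y := by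
  exact Cfsg.Agent.Lib.Helper28.S5670HS.hs_add_left x x' y
/-- FO-HS (b) -/
theorem hs_smul_left {κ : Type*} [Fintype κ] (c : F) (x y : κ → F) : hs q (c • x) y = c * hs q x y := by
  exact Cfsg.Agent.Lib.Helper28.S5670HS.hs_smul_left c x y
/-- FO-HS (c) -/
theorem hs_add_right {κ : Type*} [Fintype κ] (hF : Fintype.card F = q ^ 2) (x y y' : κ → F) :
    hs q x (y + y') = hs q x y + hs q x y' := by
  exact Cfsg.Agent.Lib.Helper28.S5670HS.hs_add_right hF x y y'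
/-- FO-HS (d) -/
theorem hs_smul_right {κ : Type*} [Fintype κ] (c : F) (x y : κ → F) : hs q x (c • y) = c ^ q * hs q x y := by
  exact Cfsg.Agent.Lib.Helper28.S5670HS.hs_smul_right c x y
/-- FO-HS (e) -/
theorem hs_conj {κ : Type*} [Fintype κ] (hF : Fintype.card F = q ^ 2) (x y : κ → F) :
    hs q y x = (hs q x y) ^ q := by
  exact Cfsg.Agent.Lib.Helper28.S5670HS.hs_conj hF x y
/-- FO-HS (f) -/
theorem hs_pur (u u' : Fin a → F) (w w' : Fin b → F) :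
    hs q (pur u w) (pur u' w') = hs q u u' * hs q w w' := by
  exact Cfsg.Agent.Lib.Helper28.S5670HS.hs_pur u u' w w'
/-- FO-HS (g): `h(v, u ⊗ k) = h(ctr (cj k) v, u)` -/
theorem hs_pur_right (v : V) (u : Fin a → F) (k : Fin b → F) :
    hs q v (pur u k) = hs q (ctr (cj q k) v) u := by
  exact Cfsg.Agent.Lib.Helper28.S5670HS.hs_pur_right v u k
/-- FO-HS (h): `h(v, u ⊗ w) = h(ctrL (cj u) v, w)` -/
theorem hs_pur_right' (v : V) (u : Fin a → F) (w : Fin b → F) :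
    hs q v (pur u w) = hs q (ctrL (cj q u) v) w := by
  exact Cfsg.Agent.Lib.Helper28.S5670HS.hs_pur_right' v u w
/-- FO-HS (i) -/
theorem hs_nondeg {κ : Type*} [Fintype κ] [DecidableEq κ] (hF : Fintype.card F = q ^ 2) (x : κ → F)
    (h : ∀ y, hs q x y = 0) : x = 0 := by
  exact Cfsg.Agent.Lib.Helper28.S5670HS.hs_nondeg hF x h
/-- FO-HS (j) -/
theorem exists_trace_zero (hF : Fintype.card F = q ^ 2) : ∃ c : F, c ≠ 0 ∧ c + c ^ q = 0 := by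
  exact Cfsg.Agent.Lib.Helper28.S5670HS.exists_trace_zero hF
/-- FO-HS (k) -/
theorem pow_q_pow_q (hF : Fintype.card F = q ^ 2) (x : F) : (x ^ q) ^ q = x := by
  exact Cfsg.Agent.Lib.Helper28.S5670HS.pow_q_pow_q hF x

/-- FO-ROOT (a) -/
theorem rL_mem_UG (hF : Fintype.card F = q ^ 2) (k : Fin b → F) (c : F) (hk : hs q k k = 0)
    (hc : c + c ^ q = 0) : rL (a := a) q k c hk ∈ UG (Fin a × Fin b) F q := by
  exact Cfsg.Agent.Lib.Helper25.S5670ROOT.rL_mem_UG hF k c hk hc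
/-- FO-ROOT (b) -/
theorem rM_mem_UG (hF : Fintype.card F = q ^ 2) (u : Fin a → F) (c : F) (hu : hs q u u = 0)
    (hc : c + c ^ q = 0) : rM (b := b) q u c hu ∈ UG (Fin a × Fin b) F q := by
  exact Cfsg.Agent.Lib.Helper25.S5670ROOT.rM_mem_UG hF u c hu hc
/-- FO-ROOT (c) -/
theorem rL_pow_char (p : ℕ) [CharP F p] (k : Fin b → F) (c : F) (hk : hs q k k = 0) :
    (rL (a := a) q k c hk) ^ p = 1 := by
  exact Cfsg.Agent.Lib.Helper25.S5670ROOT.rL_pow_char p k c hk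
/-- FO-ROOT (d) -/
theorem rM_pow_char (p : ℕ) [CharP F p] (u : Fin a → F) (c : F) (hu : hs q u u = 0) :
    (rM (b := b) q u c hu) ^ p = 1 := by
  exact Cfsg.Agent.Lib.Helper25.S5670ROOT.rM_pow_char p u c hu
/-- FO-ROOT (e): the fixed space of `rL` is `U ⊗ k^⊥` and `rL - 1` maps into `U ⊗ k` -/
theorem act_rL_eq_self_iff (k : Fin b → F) (c : F) (hk : hs q k k = 0) (hk0 : k ≠ 0) (hc : c ≠ 0) (v : V) :
    act (rL q k c hk) v = v ↔ v ∈ hyp (cj q k) := by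
  exact Cfsg.Agent.Lib.Helper25.S5670ROOT.act_rL_eq_self_iff k c hk hk0 hc v
/-- FO-ROOT (f) -/
theorem act_rM_eq_self_iff (u : Fin a → F) (c : F) (hu : hs q u u = 0) (hu0 : u ≠ 0) (hc : c ≠ 0) (v : V) :
    act (rM q u c hu) v = v ↔ v ∈ hypL (cj q u) := by
  exact Cfsg.Agent.Lib.Helper25.S5670ROOT.act_rM_eq_self_iff u c hu hu0 hc v
/-- FO-ROOT (g) -/
theorem act_rL_sub_mem (k : Fin b → F) (c : F) (hk : hs q k k = 0) (v : V) :
    act (rL q k c hk) v - v ∈ pt (a := a) k := by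
  exact Cfsg.Agent.Lib.Helper25.S5670ROOT.act_rL_sub_mem k c hk v
/-- FO-ROOT (h) -/
theorem act_rM_sub_mem (u : Fin a → F) (c : F) (hu : hs q u u = 0) (v : V) :
    act (rM q u c hu) v - v ∈ ptL (b := b) u := by
  exact Cfsg.Agent.Lib.Helper25.S5670ROOT.act_rM_sub_mem u c hu v

/-- FO-PERP (a): `U ⊗ k^⊥` is the orthogonal of `U ⊗ k` -/
theorem mem_hyp_cj_iff (hF : Fintype.card F = q ^ 2) (k : Fin b → F) (v : V) :
    v ∈ hyp (cj q k) ↔ ∀ x ∈ pt (a := a) k, hs q v x = 0 := by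
  exact Cfsg.Agent.Lib.Helper25.S5670PERP.mem_hyp_cj_iff hF k v
/-- FO-PERP (b) -/
theorem mem_hypL_cj_iff (hF : Fintype.card F = q ^ 2) (u : Fin a → F) (v : V) :
    v ∈ hypL (cj q u) ↔ ∀ x ∈ ptL (b := b) u, hs q v x = 0 := by
  exact Cfsg.Agent.Lib.Helper25.S5670PERP.mem_hypL_cj_iff hF u v
/-- FO-PERP (c) -/
theorem mem_img_hyp_cj_iff (hF : Fintype.card F = q ^ 2) (g : GL (Fin a × Fin b) F)
    (hg : g ∈ UG (Fin a × Fin b) F q) (k : Fin b → F) (v : V) :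
    v ∈ img g (hyp (cj q k)) ↔ ∀ x ∈ img g (pt (a := a) k), hs q v x = 0 := by
  exact Cfsg.Agent.Lib.Helper25.S5670PERP.mem_img_hyp_cj_iff hF g hg k v
/-- FO-PERP (d) -/
theorem mem_img_hypL_cj_iff (hF : Fintype.card F = q ^ 2) (g : GL (Fin a × Fin b) F)
    (hg : g ∈ UG (Fin a × Fin b) F q) (u : Fin a → F) (v : V) :
    v ∈ img g (hypL (cj q u)) ↔ ∀ x ∈ img g (ptL (b := b) u), hs q v x = 0 := by
  exact Cfsg.Agent.Lib.Helper25.S5670PERP.mem_img_hypL_cj_iff hF g hg u v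
/-- FO-PERP (e) -/
theorem pt_le_hyp_cj (k k' : Fin b → F) (h : hs q k k' = 0) : pt (a := a) k ≤ hyp (cj q k') := by
  exact Cfsg.Agent.Lib.Helper25.S5670PERP.pt_le_hyp_cj k k' h
/-- FO-PERP (f) -/
theorem ptL_le_hypL_cj (u u' : Fin a → F) (h : hs q u u' = 0) : ptL (b := b) u ≤ hypL (cj q u') := by
  exact Cfsg.Agent.Lib.Helper25.S5670PERP.ptL_le_hypL_cj u u' h
/-- FO-PERP (g): `(U ⊗ k + U ⊗ k'') ∩ U ⊗ k^⊥ = U ⊗ k` when `h(k'',k) ≠ 0`, `h(k,k) = 0` -/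
theorem sup_inf_hyp_le (k k'' : Fin b → F) (hk : hs q k k = 0) (h : hs q k'' k ≠ 0) :
    (pt (a := a) k ⊔ pt k'') ⊓ hyp (cj q k) ≤ pt k := by
  exact Cfsg.Agent.Lib.Helper25.S5670PERP.sup_inf_hyp_le k k'' hk h
/-- FO-PERP (h) -/
theorem supL_inf_hypL_le (u u'' : Fin a → F) (hu : hs q u u = 0) (h : hs q u'' u ≠ 0) :
    (ptL (b := b) u ⊔ ptL u'') ⊓ hypL (cj q u) ≤ ptL u := by
  exact Cfsg.Agent.Lib.Helper25.S5670PERP.supL_inf_hypL_le u u'' hu h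

/-- FO-ISO (a) -/
theorem exists_iso {n : ℕ} (hF : Fintype.card F = q ^ 2) (hn : 2 ≤ n) :
    ∃ k : Fin n → F, k ≠ 0 ∧ hs q k k = 0 := by
  exact Cfsg.Agent.Lib.Helper24.S5670ISO.exists_iso hF hn
/-- FO-ISO (b) -/
theorem exists_iso_perp {n : ℕ} (hF : Fintype.card F = q ^ 2) (hn : 4 ≤ n) (k : Fin n → F) (hk0 : k ≠ 0)
    (hk : hs q k k = 0) :
    ∃ k₂ : Fin n → F, k₂ ≠ 0 ∧ hs q k₂ k₂ = 0 ∧ hs q k k₂ = 0 ∧ ∀ c : F, k₂ ≠ c • k := by
  exact Cfsg.Agent.Lib.Helper24.S5670ISO.exists_iso_perp hF hn k hk0 hk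
/-- FO-ISO (c) -/
theorem exists_iso_mem {n : ℕ} (hF : Fintype.card F = q ^ 2) (S : Submodule F (Fin n → F))
    (hS : 2 ≤ finrank F S) : ∃ k ∈ S, k ≠ 0 ∧ hs q k k = 0 := by
  exact Cfsg.Agent.Lib.Helper24.S5670ISO.exists_iso_mem hF S hS
/-- FO-ISO (d) -/
theorem exists_hs_eq_one {n : ℕ} (hF : Fintype.card F = q ^ 2) (u : Fin n → F) (hu : u ≠ 0) :
    ∃ u' : Fin n → F, hs q u' u = 1 := by
  exact Cfsg.Agent.Lib.Helper24.S5670ISO.exists_hs_eq_one hF u hu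

/-- FO-LEFT (a) -/
theorem img_ptL_of_mem_kron (g : GL (Fin a × Fin b) F) (hg : g ∈ K) (u : Fin a → F) :
    ∃ u' : Fin a → F, (u ≠ 0 → u' ≠ 0) ∧ img g (ptL (b := b) u) = ptL u' := by
  exact Cfsg.Agent.Lib.Helper23.S5670LEFT.img_ptL_of_mem_kron g hg u
/-- FO-LEFT (b) -/
theorem finrank_ptL (u : Fin a → F) (hu : u ≠ 0) : finrank F (ptL (F := F) (b := b) u) = b := by
  exact Cfsg.Agent.Lib.Helper23.S5670LEFT.finrank_ptL u hu
/-- FO-LEFT (c) -/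
theorem finrank_pt (k : Fin b → F) (hk : k ≠ 0) : finrank F (pt (F := F) (a := a) k) = a := by
  exact Cfsg.Agent.Lib.Helper23.S5670LEFT.finrank_pt k hk
/-- FO-LEFT (d) -/
theorem finrank_hypL (φ : Fin a → F) (hφ : φ ≠ 0) : finrank F (hypL (F := F) (b := b) φ) + b = a * b := by
  exact Cfsg.Agent.Lib.Helper23.S5670LEFT.finrank_hypL φ hφ
/-- FO-LEFT (e): two pure tensors with the same value -/
theorem pur_eq_pur (u u' : Fin a → F) (w w' : Fin b → F) (h : pur u w = pur u' w') (hu : u ≠ 0) (hw : w ≠ 0) :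
    ∃ c : F, c ≠ 0 ∧ u' = c • u ∧ w = c • w' := by
  exact Cfsg.Agent.Lib.Helper23.S5670LEFT.pur_eq_pur u u' w w' h hu hw
/-- FO-LEFT (f) -/
theorem pt_inf_pt (k k' : Fin b → F) (h : ∀ c : F, k' ≠ c • k) : pt (F := F) (a := a) k ⊓ pt k' = ⊥ := by
  exact Cfsg.Agent.Lib.Helper23.S5670LEFT.pt_inf_pt k k' h
/-- FO-LEFT (g) -/
theorem ptL_inf_ptL (u u' : Fin a → F) (h : ∀ c : F, u' ≠ c • u) : ptL (F := F) (b := b) u ⊓ ptL u' = ⊥ := by
  exact Cfsg.Agent.Lib.Helper23.S5670LEFT.ptL_inf_ptL u u' h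
/-- FO-LEFT (h) -/
theorem pt_smul (k : Fin b → F) (c : F) (hc : c ≠ 0) : pt (F := F) (a := a) (c • k) = pt k := by
  exact Cfsg.Agent.Lib.Helper23.S5670LEFT.pt_smul k c hc
/-- FO-LEFT (i) -/
theorem ptL_smul (u : Fin a → F) (c : F) (hc : c ≠ 0) : ptL (F := F) (b := b) (c • u) = ptL u := by
  exact Cfsg.Agent.Lib.Helper23.S5670LEFT.ptL_smul u c hc

/-! ## group theory -/

/-- FO-ST: the Sylow trick -/
theorem sylow_trick {G : Type*} [Group G] (p : ℕ) [Fact p.Prime] (H N : Subgroup G) [Finite H]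
    (x₁ x₂ g₂ : G) (hx₁ : x₁ ∈ H) (hx₂ : x₂ ∈ H) (hg₂ : g₂ ∈ H) (ho₁ : x₁ ^ p = 1) (ho₂ : x₂ ^ p = 1)
    (hx₁N : x₁ ∈ N) (hfix₁ : ∀ g ∈ H, g⁻¹ * x₁ * g ∈ N → g ∈ N)
    (hfix₂ : ∀ g ∈ H, g⁻¹ * x₂ * g ∈ N → g₂⁻¹ * g ∈ N) :
    ∃ δ ∈ Subgroup.closure ({x₁, x₂} : Set G), δ * g₂ ∈ N := by
  exact Cfsg.Agent.Lib.Helper23.S5670ST.sylow_trick p H N x₁ x₂ g₂ hx₁ hx₂ hg₂ ho₁ ho₂ hx₁N hfix₁ hfix₂

/-- FO-CL (a) -/
theorem closure_fix (x₁ x₂ δ : GL (Fin a × Fin b) F) (hδ : δ ∈ Subgroup.closure ({x₁, x₂} : Set (GL (Fin a × Fin b) F)))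
    (v : V) (h₁ : act x₁ v = v) (h₂ : act x₂ v = v) : act δ v = v := by
  exact Cfsg.Agent.Lib.Helper23.S5670CL.closure_fix x₁ x₂ δ hδ v h₁ h₂
/-- FO-CL (b) -/
theorem closure_sub_mem (x₁ x₂ δ : GL (Fin a × Fin b) F)
    (hδ : δ ∈ Subgroup.closure ({x₁, x₂} : Set (GL (Fin a × Fin b) F)))
    (S : Submodule F V) (h₁ : ∀ v, act x₁ v - v ∈ S) (h₂ : ∀ v, act x₂ v - v ∈ S) (v : V) :
    act δ v - v ∈ S := by
  exact Cfsg.Agent.Lib.Helper23.S5670CL.closure_sub_mem x₁ x₂ δ hδ S h₁ h₂ v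
/-- FO-CL (c): two "root elements" whose commutator spaces lie in each other's fixed spaces commute -/
theorem commute_of_sub_mem (x x' : GL (Fin a × Fin b) F) (L L' C C' : Submodule F V)
    (h₁ : ∀ v, act x v - v ∈ L) (h₁' : ∀ v, act x' v - v ∈ L') (h₂ : ∀ v ∈ C, act x v = v)
    (h₂' : ∀ v ∈ C', act x' v = v) (hL : L ≤ C') (hL' : L' ≤ C) : x * x' = x' * x := by
  exact Cfsg.Agent.Lib.Helper23.S5670CL.commute_of_sub_mem x x' L L' C C' h₁ h₁' h₂ h₂' hL hL'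

/-! ## rank lemmas -/

/-- FO-RANKA -/
theorem img_pt_of_conj_rL (hF : Fintype.card F = q ^ 2) (ha : 1 ≤ a) (hab : a < b) (g : GL (Fin a × Fin b) F)
    (hg : g ∈ UG (Fin a × Fin b) F q) (k : Fin b → F) (c : F) (hk : hs q k k = 0) (hk0 : k ≠ 0) (hc : c ≠ 0)
    (hn : g * rL q k c hk * g⁻¹ ∈ K) :
    ∃ k₁ : Fin b → F, k₁ ≠ 0 ∧ hs q k₁ k₁ = 0 ∧ img g (pt (a := a) k) = pt k₁ := by
  exact Cfsg.Agent.Lib.Helper10.S5670FORANK.img_pt_of_conj_rL hF ha hab g hg k c hk hk0 hc hn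

/-- FO-RANKB -/
theorem img_ptL_of_conj_rM (hF : Fintype.card F = q ^ 2) (ha : 3 ≤ a) (hab : a < b) (hdvd : ¬ a ∣ b)
    (g : GL (Fin a × Fin b) F) (hg : g ∈ UG (Fin a × Fin b) F q) (u : Fin a → F) (c : F) (hu : hs q u u = 0)
    (hu0 : u ≠ 0) (hc : c ≠ 0) (hn : g * rM q u c hu * g⁻¹ ∈ K) :
    ∃ u₁ : Fin a → F, u₁ ≠ 0 ∧ hs q u₁ u₁ = 0 ∧ img g (ptL (b := b) u) = ptL u₁ := by
  exact Cfsg.Agent.Lib.Helper10.S5670FORANK.img_ptL_of_conj_rM hF ha hab hdvd g hg u c hu hu0 hc hn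

/-- (assembly, helper28) E1 from (A) -/
theorem hypE1_of_hypA (hF : Fintype.card F = q ^ 2) (ha : 1 ≤ a) (hab : a < b) (hM : OverU q M)
    (hA : HypA q M) : HypE1 q M := by
  intro g hg k c hk hk0 hc hcc hn
  obtain ⟨k₁, hk₁0, hk₁, himg⟩ := img_pt_of_conj_rL hF ha hab g (hM.le_UG hg) k c hk hk0 hc hn
  exact hA g hg k k₁ hk0 hk hk₁0 hk₁ himg

/-! ## the L-theory (only `HypE1` is used) -/

/-- FO-F1 -/
theorem not_img_pt_le_hyp (hF : Fintype.card F = q ^ 2) (hM : OverU q M) (hE : HypE1 q M)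
    (g : GL (Fin a × Fin b) F) (hg : g ∈ M) (hgK : g ∉ K) (k k' : Fin b → F) (hk0 : k ≠ 0) (hk : hs q k k = 0)
    (hk'0 : k' ≠ 0) (hk' : hs q k' k' = 0) : ¬ img g (pt (a := a) k') ≤ hyp (cj q k) := by
  exact Cfsg.Agent.Lib.Helper20.S5670LX.not_img_pt_le_hyp hF hM hE g hg hgK k k' hk0 hk hk'0 hk'

/-- FO-X : LEMMA X -/
theorem img_pt_inf_hyp_le (hF : Fintype.card F = q ^ 2) (ha : 1 ≤ a) (hM : OverU q M) (hE : HypE1 q M)
    (g : GL (Fin a × Fin b) F) (hg : g ∈ M) (hgK : g ∉ K) (k k' : Fin b → F) (hk0 : k ≠ 0) (hk : hs q k k = 0)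
    (hk'0 : k' ≠ 0) (hk' : hs q k' k' = 0) : img g (pt (a := a) k') ⊓ hyp (cj q k) ≤ pt k := by
  exact Cfsg.Agent.Lib.Helper20.S5670LX.img_pt_inf_hyp_le hF ha hM hE g hg hgK k k' hk0 hk hk'0 hk'

/-- FO-D : DISJOINT -/
theorem img_pt_inf_hyp_eq_bot (hF : Fintype.card F = q ^ 2) (ha : 1 ≤ a) (hb : 4 ≤ b) (hM : OverU q M)
    (hE : HypE1 q M)
    (g : GL (Fin a × Fin b) F) (hg : g ∈ M) (hgK : g ∉ K) (k k' : Fin b → F) (hk0 : k ≠ 0) (hk : hs q k k = 0)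
    (hk'0 : k' ≠ 0) (hk' : hs q k' k' = 0) : img g (pt (a := a) k') ⊓ hyp (cj q k) = ⊥ := by
  exact Cfsg.Agent.Lib.Helper20.S5670LX.img_pt_inf_hyp_eq_bot hF ha hb hM hE g hg hgK k k' hk0 hk hk'0 hk'

/-- FO-KER -/
theorem exists_iso_ctr_eq_zero (hF : Fintype.card F = q ^ 2) (hab : a + 2 ≤ b) (l : V) :
    ∃ k : Fin b → F, k ≠ 0 ∧ hs q k k = 0 ∧ ctr (cj q k) l = 0 := by
  exact Cfsg.Agent.Lib.Helper19.S5670KER.exists_iso_ctr_eq_zero hF hab l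

/-- FO-L : the case `b ≥ a + 2` -/
theorem le_kron_of_add_two_le (hF : Fintype.card F = q ^ 2) (ha : 2 ≤ a) (hab : a + 2 ≤ b) (hM : OverU q M)
    (hE : HypE1 q M) : M ≤ K := by
  exact Cfsg.Agent.Lib.Helper19.S5670L.le_kron_of_add_two_le hF ha hab hM hE

/-! ## the M-theory -/

/-- FO-E1M -/
theorem hypE1M_of (hF : Fintype.card F = q ^ 2) (ha : 3 ≤ a) (hb : 4 ≤ b) (hab : a < b) (hdvd : ¬ a ∣ b)
    (hM : OverU q M) (hE : HypE1 q M) : HypE1M q M := by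
  exact Cfsg.Agent.Lib.Helper19.S5670E1M.hypE1M_of hF ha hb hab hdvd hM hE

/-- FO-F1M -/
theorem not_img_ptL_le_hypL (hF : Fintype.card F = q ^ 2) (hM : OverU q M) (hE : HypE1M q M)
    (g : GL (Fin a × Fin b) F) (hg : g ∈ M) (hgK : g ∉ K) (u u' : Fin a → F) (hu0 : u ≠ 0) (hu : hs q u u = 0)
    (hu'0 : u' ≠ 0) (hu' : hs q u' u' = 0) : ¬ img g (ptL (b := b) u') ≤ hypL (cj q u) := by
  exact Cfsg.Agent.Lib.Helper20.S5670MX.not_img_ptL_le_hypL hF hM hE g hg hgK u u' hu0 hu hu'0 hu'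

/-- FO-XM -/
theorem img_ptL_inf_hypL_le (hF : Fintype.card F = q ^ 2) (hb : 1 ≤ b) (hM : OverU q M) (hE : HypE1M q M)
    (g : GL (Fin a × Fin b) F) (hg : g ∈ M) (hgK : g ∉ K) (u u' : Fin a → F) (hu0 : u ≠ 0) (hu : hs q u u = 0)
    (hu'0 : u' ≠ 0) (hu' : hs q u' u' = 0) : img g (ptL (b := b) u') ⊓ hypL (cj q u) ≤ ptL u := by
  exact Cfsg.Agent.Lib.Helper20.S5670MX.img_ptL_inf_hypL_le hF hb hM hE g hg hgK u u' hu0 hu hu'0 hu'

/-- FO-DM -/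
theorem img_ptL_inf_hypL_eq_bot (hF : Fintype.card F = q ^ 2) (ha : 4 ≤ a) (hb : 1 ≤ b) (hM : OverU q M)
    (hE : HypE1M q M)
    (g : GL (Fin a × Fin b) F) (hg : g ∈ M) (hgK : g ∉ K) (u u' : Fin a → F) (hu0 : u ≠ 0) (hu : hs q u u = 0)
    (hu'0 : u' ≠ 0) (hu' : hs q u' u' = 0) : img g (ptL (b := b) u') ⊓ hypL (cj q u) = ⊥ := by
  exact Cfsg.Agent.Lib.Helper20.S5670MX.img_ptL_inf_hypL_eq_bot hF ha hb hM hE g hg hgK u u' hu0 hu hu'0 hu'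

/-- FO-MIX -/
theorem le_kron_of_lt (hF : Fintype.card F = q ^ 2) (ha : 4 ≤ a) (hab : a < b) (hM : OverU q M)
    (hE : HypE1 q M) (hEM : HypE1M q M) : M ≤ K := by
  exact Cfsg.Agent.Lib.Helper19.S5670MIX.le_kron_of_lt hF ha hab hM hE hEM

/-- (assembly, helper28) T1 -/
theorem le_kron_of_hypA (hF : Fintype.card F = q ^ 2) (ha : 2 ≤ a) (hab : a < b) (hn : 13 ≤ a * b)
    (hM : OverU q M) (hA : HypA q M) : M ≤ K := by
  have hE := hypE1_of_hypA hF (by omega) hab hM hA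
  by_cases h : a + 2 ≤ b
  · exact le_kron_of_add_two_le hF ha h hM hE
  · have hb : b = a + 1 := by omega
    have ha4 : 4 ≤ a := by
      by_contra hcon
      have : a ≤ 3 := by omega
      subst hb
      nlinarith
    have hdvd : ¬ a ∣ b := by
      subst hb
      intro hd
      have : a ∣ 1 := (Nat.dvd_add_right (dvd_refl a)).mp hd
      have := Nat.le_of_dvd (by omega) this
      omega
    exact le_kron_of_lt hF ha4 hab hM hE (hypE1M_of hF (by omega) (by omega) hab hdvd hM hE)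

/-! ## the exit: T2, T3, T4 -/

/-- FO-TRANS: `N0 ∩ SU` is transitive on the standard totally isotropic subspaces -/
theorem exists_kron_img_pt (hF : Fintype.card F = q ^ 2) (ha : 1 ≤ a) (hb : 3 ≤ b) (k k' : Fin b → F) (hk0 : k ≠ 0)
    (hk : hs q k k = 0) (hk'0 : k' ≠ 0) (hk' : hs q k' k' = 0) :
    ∃ n : GL (Fin a × Fin b) F, n ∈ K ∧ n ∈ UG (Fin a × Fin b) F q ∧
      n ∈ Cfsg.Geo.specialLinear (Fin a × Fin b) F ∧ img n (pt (a := a) k) = pt k' := by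
  exact Cfsg.Agent.Lib.Helper22.S5670TRANS.exists_kron_img_pt hF ha hb k k' hk0 hk hk'0 hk'

/-- FO-T2T3 (sub-assembly): a non-Kronecker element of `M` stabilising `U ⊗ k₀` yields a non-Kronecker element of `M`
fixing `U ⊗ k₀^⊥` pointwise (an element of the centre of the unipotent radical of the stabiliser) -/
theorem exists_center_of_stab (hF : Fintype.card F = q ^ 2) (ha : 2 ≤ a) (hab : a < b) (hb : 4 ≤ b)
    (hM : OverU q M)
    (m : GL (Fin a × Fin b) F) (hm : m ∈ M) (hmK : m ∉ K) (k₀ : Fin b → F) (hk0 : k₀ ≠ 0) (hk : hs q k₀ k₀ = 0)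
    (hstab : img m (pt (a := a) k₀) = pt k₀) :
    ∃ z ∈ M, z ∉ K ∧ ∀ v ∈ hyp (a := a) (cj q k₀), act z v = v := by
  exact Cfsg.Agent.Lib.Helper28.S5670T2T3w.exists_center_of_stab hF ha hab hb hM m hm hmK k₀ hk0 hk hstab

/-- FO-T3c (sub-assembly): from a non-Kronecker element of `M` fixing `U ⊗ k₀^⊥` pointwise to a unitary transvection
with pure centre `u ⊗ k₀` in `M` -/
theorem exists_transvection (hF : Fintype.card F = q ^ 2) (ha : 2 ≤ a) (hb : 3 ≤ b) (hex : ¬ (a = 2 ∧ q = 2))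
    (hM : OverU q M)
    (z : GL (Fin a × Fin b) F) (hz : z ∈ M) (hzK : z ∉ K) (k₀ : Fin b → F) (hk0 : k₀ ≠ 0) (hk : hs q k₀ k₀ = 0)
    (hfix : ∀ v ∈ hyp (a := a) (cj q k₀), act z v = v) :
    ∃ (u : Fin a → F) (c : F) (t : GL (Fin a × Fin b) F), u ≠ 0 ∧ c ≠ 0 ∧ c + c ^ q = 0 ∧ t ∈ M ∧
      ∀ v : V, act t v = v + (c * hs q v (pur u k₀)) • pur u k₀ := by
  exact Cfsg.Agent.Lib.Helper26.S5670T3c.exists_transvection hF ha hb hex hM z hz hzK k₀ hk0 hk hfix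

/-- FO-T4 (sub-assembly): one unitary transvection with pure isotropic centre `u ⊗ k₀` in `M` gives `SU ≤ M` -/
theorem ug_sl_le_of_transvection (hF : Fintype.card F = q ^ 2) (ha : 2 ≤ a) (hb : 5 ≤ b)
    (hex : ¬ (a = 2 ∧ q = 2)) (hM : OverU q M)
    (k₀ : Fin b → F) (hk0 : k₀ ≠ 0) (hk : hs q k₀ k₀ = 0) (u : Fin a → F) (c : F) (t : GL (Fin a × Fin b) F)
    (hu : u ≠ 0) (hc : c ≠ 0) (hcc : c + c ^ q = 0) (ht : t ∈ M)
    (htv : ∀ v : V, act t v = v + (c * hs q v (pur u k₀)) • pur u k₀) :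
    UG (Fin a × Fin b) F q ⊓ Cfsg.Geo.specialLinear (Fin a × Fin b) F ≤ M := by
  exact Cfsg.Agent.Lib.Helper28.S5670T4Final.ug_sl_le_of_transvection hF ha (by omega) hex hM k₀ hk0 hk u c t
    hu hc hcc ht htv

/-- FO-STRICT -/
theorem kron_inf_lt (hF : Fintype.card F = q ^ 2) (ha : 2 ≤ a) (hb : 2 ≤ b) :
    K ⊓ (UG (Fin a × Fin b) F q ⊓ Cfsg.Geo.specialLinear (Fin a × Fin b) F) <
      UG (Fin a × Fin b) F q ⊓ Cfsg.Geo.specialLinear (Fin a × Fin b) F := by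
  exact Cfsg.Agent.Lib.Helper24.S5670STRICT.kron_inf_lt hF ha hb

/-- (assembly, helper28) the abstract dichotomy -/
theorem main (hF : Fintype.card F = q ^ 2) (ha : 2 ≤ a) (hab : a < b) (hn : 13 ≤ a * b) (hex : ¬ (a = 2 ∧ q = 2))
    (hM : OverU q M) :
    M ≤ K ∨ UG (Fin a × Fin b) F q ⊓ Cfsg.Geo.specialLinear (Fin a × Fin b) F ≤ M := by
  have hb5 : 5 ≤ b := by
    by_contra hcon
    have : b ≤ 4 := by omega
    have : a ≤ 3 := by omega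
    nlinarith
  have hb4 : 4 ≤ b := by omega
  by_cases hA : HypA q M
  · exact Or.inl (le_kron_of_hypA hF ha hab hn hM hA)
  · right
    unfold HypA at hA
    push Not at hA
    obtain ⟨m, hm, k, k', hk0, hk, hk'0, hk', himg, hmK⟩ := hA
    obtain ⟨n, hnK, hnU, hnS, hnimg⟩ := exists_kron_img_pt (a := a) hF (by omega) (by omega) k' k hk'0 hk' hk0 hk
    have hnM : n ∈ M := hM.kron_mem n hnK hnU hnS
    have hm' : n * m ∈ M := M.mul_mem hnM hm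
    have hm'K : n * m ∉ K := by
      intro h
      apply hmK
      have : m = n⁻¹ * (n * m) := by group
      rw [this]
      exact (K).mul_mem ((K).inv_mem hnK) h
    have hstab : img (n * m) (pt (a := a) k) = pt k := by
      rw [img_mul, himg, hnimg]
    obtain ⟨z, hz, hzK, hfix⟩ := exists_center_of_stab hF ha hab hb4 hM (n * m) hm' hm'K k hk0 hk hstab
    obtain ⟨u, c, t, hu, hc, hcc, ht, htv⟩ := exists_transvection hF ha (by omega) hex hM z hz hzK k hk0 hk hfix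
    exact ug_sl_le_of_transvection hF ha hb5 hex hM k hk0 hk u c t hu hc hcc ht htv

/-- (assembly, helper28) -/
theorem kronU_maximal (hF : Fintype.card F = q ^ 2) (ha : 2 ≤ a) (hab : a < b) (hn : 13 ≤ a * b)
    (hex : ¬ (a = 2 ∧ q = 2)) :
    Cfsg.Geo.IsMaximalIn (UG (Fin a × Fin b) F q ⊓ Cfsg.Geo.specialLinear (Fin a × Fin b) F)
      (K ⊓ (UG (Fin a × Fin b) F q ⊓ Cfsg.Geo.specialLinear (Fin a × Fin b) F)) := by
  refine ⟨kron_inf_lt hF ha (by omega), ?_⟩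
  intro M hHM hMle
  have hM : OverU q M := ⟨fun g hg => (hMle hg).1, fun g hg => (hMle hg).2,
    fun g hg hg' hg'' => hHM ⟨hg, hg', hg''⟩⟩
  rcases main hF ha hab hn hex hM with h | h
  · left
    exact le_antisymm (le_inf h hMle) hHM
  · right
    exact le_antisymm hMle h

/-- FO-ORTHO: a non-degenerate hermitian form over `F_{q²}` has an orthonormal basis -/
theorem exists_orthonormal {n : ℕ} (hF : Fintype.card F = q ^ 2) (f : (Fin n → F) → (Fin n → F) → F)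
    (hf : Cfsg.Geo.IsUnitaryFormPow q f) :
    ∃ R : GL (Fin n) F, ∀ x y : Fin n → F,
      f ((R : Matrix (Fin n) (Fin n) F) *ᵥ x) ((R : Matrix (Fin n) (Fin n) F) *ᵥ y) = hs q x y := by
  exact Cfsg.Agent.Lib.Helper22.S5670ORTHO.exists_orthonormal hF f hf

/-- FO-BRIDGE: the frozen statement from the core theorem -/
theorem bridge (n q : ℕ) (hF : Fintype.card F = q ^ 2) (hn : 13 ≤ n) (n₁ n₂ : ℕ) (h1 : 2 ≤ n₁) (h12 : n₁ < n₂)
    (hex : ¬ (n₁ = 2 ∧ q = 2)) (e : Fin n ≃ Fin n₁ × Fin n₂) (P : Matrix.GeneralLinearGroup (Fin n) F)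
    (f₁ : (Fin n₁ → F) → (Fin n₁ → F) → F) (f₂ : (Fin n₂ → F) → (Fin n₂ → F) → F)
    (hf₁ : Cfsg.Geo.IsUnitaryFormPow q f₁) (hf₂ : Cfsg.Geo.IsUnitaryFormPow q f₂)
    (hT : Cfsg.Geo.IsTensorFormStructure (fun x : F => x ^ q) (Cfsg.hermForm n F q) f₁ f₂ e P)
    (hcore : Cfsg.Geo.IsMaximalIn
      (UG (Fin n₁ × Fin n₂) F q ⊓ Cfsg.Geo.specialLinear (Fin n₁ × Fin n₂) F)
      (Cfsg.Geo.kroneckerSubgroup n₁ n₂ F ⊓
        (UG (Fin n₁ × Fin n₂) F q ⊓ Cfsg.Geo.specialLinear (Fin n₁ × Fin n₂) F))) :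
    Cfsg.Geo.IsMaximalIn (Cfsg.GU n F q ⊓ Cfsg.Geo.specialLinear (Fin n) F)
      (Cfsg.Geo.tensorProductSubgroup n₁ n₂ e P ⊓ (Cfsg.GU n F q ⊓ Cfsg.Geo.specialLinear (Fin n) F)) := by
  exact Cfsg.Agent.Lib.Helper22.S5670BRIDGE.bridge n q hF hn n₁ n₂ h1 h12 hex e P f₁ f₂ hf₁ hf₂ hT hcore

/-- (assembly, helper28) the frozen statement -/
theorem final (n q : ℕ) (hF : Fintype.card F = q ^ 2) (hn : 13 ≤ n) (n₁ n₂ : ℕ) (h1 : 2 ≤ n₁) (h12 : n₁ < n₂)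
    (hex : ¬ (n₁ = 2 ∧ q = 2)) (e : Fin n ≃ Fin n₁ × Fin n₂) (P : Matrix.GeneralLinearGroup (Fin n) F)
    (f₁ : (Fin n₁ → F) → (Fin n₁ → F) → F) (f₂ : (Fin n₂ → F) → (Fin n₂ → F) → F)
    (hf₁ : Cfsg.Geo.IsUnitaryFormPow q f₁) (hf₂ : Cfsg.Geo.IsUnitaryFormPow q f₂)
    (hT : Cfsg.Geo.IsTensorFormStructure (fun x : F => x ^ q) (Cfsg.hermForm n F q) f₁ f₂ e P) :
    Cfsg.Geo.IsMaximalIn (Cfsg.GU n F q ⊓ Cfsg.Geo.specialLinear (Fin n) F)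
      (Cfsg.Geo.tensorProductSubgroup n₁ n₂ e P ⊓ (Cfsg.GU n F q ⊓ Cfsg.Geo.specialLinear (Fin n) F)) := by
  have hcard : n = n₁ * n₂ := by
    have := Fintype.card_congr e
    simpa using this
  exact bridge n q hF hn n₁ n₂ h1 h12 hex e P f₁ f₂ hf₁ hf₂ hT
    (kronU_maximal hF h1 h12 (by rw [← hcard]; exact hn) hex)

end Cfsg.Agent.Lib.Helper28.TensUMain
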