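import Mathlib
import Cfsg.Prelude.Def_GeometricClasses

set_option autoImplicit false

namespace Cfsg.Agent.Lib.Helper28

open Matrix

/-- A transvection `x ↦ x + φ(x) v` with `φ` vanishing on a subspace `P ∋ v` and `φ u = 1`:
it lies in the special linear group, stabilises every subspace of `P`, and sends `u` to `u + v`. -/
theorem exists_transvection {F : Type*} [Field F] (n : ℕ) (P : Submodule F (Fin n → F))
    (u v : Fin n → F) (hu : u ∉ P) (hv : v ∈ P) :
    ∃ g : Matrix.GeneralLinearGroup (Fin n) F, g ∈ Cfsg.Geo.specialLinear (Fin n) F ∧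
      (∀ W : Submodule F (Fin n → F), W ≤ P → g ∈ Cfsg.Geo.subspaceStabilizer W) ∧
      (g : Matrix (Fin n) (Fin n) F) *ᵥ u = u + v := by
  obtain ⟨f0, hf0u, hf0P⟩ := Submodule.exists_le_ker_of_notMem hu
  set f : (Fin n → F) →ₗ[F] F := (f0 u)⁻¹ • f0 with hf
  have hfu : f u = 1 := by
    simp [hf, inv_mul_cancel₀ hf0u]
  have hfP : ∀ x ∈ P, f x = 0 := by
    intro x hx
    have : f0 x = 0 := hf0P hx
    simp [hf, this]
  set φ : Fin n → F := fun i => f (Pi.single i 1) with hφ
  have hdot : ∀ x : Fin n → F, φ ⬝ᵥ x = f x := by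
    intro x
    have := LinearMap.pi_apply_eq_sum_univ f x
    rw [this]
    simp only [dotProduct, hφ, smul_eq_mul]
    apply Finset.sum_congr rfl
    intro i _
    have e : (fun j => if i = j then (1 : F) else 0) = Pi.single i 1 := by
      ext j
      by_cases h : i = j
      · subst h; simp
      · simp [h, Ne.symm h]
    rw [e, mul_comm]
  set M : Matrix (Fin n) (Fin n) F := 1 + vecMulVec v φ with hM
  have hMx : ∀ x : Fin n → F, M *ᵥ x = x + (f x) • v := by
    intro x
    rw [hM, Matrix.add_mulVec, Matrix.one_mulVec, Matrix.vecMulVec_mulVec, hdot]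
    simp
  have hdet : M.det = 1 := by
    rw [hM, Matrix.vecMulVec_eq Unit, Matrix.det_one_add_replicateCol_mul_replicateRow, hdot, hfP v hv, add_zero]
  have hunit : IsUnit M.det := by rw [hdet]; exact isUnit_one
  refine ⟨Matrix.GeneralLinearGroup.mk'' M hunit, ?_, ?_, ?_⟩
  · show Matrix.GeneralLinearGroup.det (Matrix.GeneralLinearGroup.mk'' M hunit) = 1
    apply Units.ext
    simp [hdet]
  · intro W hW x
    show x ∈ W ↔ M *ᵥ x ∈ W
    rw [hMx]
    constructor
    · intro hx
      rw [hfP x (hW hx)]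
      simpa using hx
    · intro hx
      have h1 : f (x + f x • v) = 0 := hfP _ (hW hx)
      rw [map_add, map_smul, hfP v hv, smul_zero, add_zero] at h1
      rw [h1, zero_smul, add_zero] at hx
      exact hx
  · show M *ᵥ u = u + v
    rw [hMx, hfu, one_smul]

end Cfsg.Agent.Lib.Helper28
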