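import Cfsg.Agent.Lib.Helper28.Data1558
import Cfsg.Agent.Lib.Helper28.AffineOctad
import Cfsg.Agent.Lib.Helper28.StabCards
import Cfsg.Agent.Lib.Helper28.Restrict

set_option autoImplicit false

/-!
The stabilizer of a trio in `M24`: it acts on each of the three octads of the trio as a group of
affine maps of a three-dimensional space over the field with two elements, with the same linear
part on the three octads; the kernel of the linear part and of the action on the three octads has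
order `64`.
-/

namespace Cfsg.Agent.Lib.Helper28

open Cfsg MulAction
open scoped Pointwise

/-- the vector of a three-bit code -/
def vec3 (n : ℕ) : Fin 3 → ZMod 2 := fun i => if n.testBit i.val = true then 1 else 0

/-- the number of a truth value -/
def bz (t : Bool) : ZMod 2 := if t = true then 1 else 0

/-- a plain dot product -/
def dot3 (u v : Fin 3 → ZMod 2) : ZMod 2 := u 0 * v 0 + u 1 * v 1 + u 2 * v 2

theorem vec3_check : (∀ lam, lam < 8 → ∀ m, m < 8 → bz (par3 (lam &&& m)) = dot3 (vec3 lam) (vec3 m)) ∧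
    (∀ m, m < 8 → ∀ k : Fin 3, par3 (2 ^ k.val &&& m) = m.testBit k.val) ∧
    (∀ m, m < 8 → ∀ m', m' < 8 → vec3 m = vec3 m' → m = m') := by
  decide +kernel

theorem bz_iff : ∀ a b c d : Bool, (a = b ↔ c = d) → bz a + bz b = bz c + bz d := by
  decide

theorem add_self_vec3 (A : Fin 3 → ZMod 2) : A + A = 0 := by
  funext i
  simp only [Pi.add_apply, Pi.zero_apply]
  generalize A i = a
  revert a
  decide

theorem dot3_add (u v w : Fin 3 → ZMod 2) : dot3 u (v + w) = dot3 u v + dot3 u w := by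
  simp only [dot3, Pi.add_apply]
  ring

/-- the coordinate vector of a point -/
def trV (x : GolayPt) : Fin 3 → ZMod 2 := vec3 (trc (ptInv x).val)

/-- the index of the octad of a point -/
def trO (x : GolayPt) : ℕ := tro (ptInv x).val

/-- the value of a functional at a point -/
def trB (lam : ℕ) (x : GolayPt) : Bool := trb lam (ptInv x).val

theorem trV_ptN {a : ℕ} (ha : a < 24) : trV (ptN a) = vec3 (trc a) := by
  unfold trV
  rw [ptInv_ptN ha]

theorem trO_ptN {a : ℕ} (ha : a < 24) : trO (ptN a) = tro a := by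
  unfold trO
  rw [ptInv_ptN ha]

theorem trB_ptN (lam : ℕ) {a : ℕ} (ha : a < 24) : trB lam (ptN a) = trb lam a := by
  unfold trB
  rw [ptInv_ptN ha]

theorem exists_ptN (x : GolayPt) : ∃ a, a < 24 ∧ ptN a = x :=
  ⟨(ptInv x).val, (ptInv x).2, ptN_ptInv x⟩

theorem tr_pt_ext {x y : GolayPt} (ho : trO x = trO y) (hv : trV x = trV y) : x = y := by
  obtain ⟨a, ha, rfl⟩ := exists_ptN x
  obtain ⟨b, hb, rfl⟩ := exists_ptN y
  rw [trO_ptN ha, trO_ptN hb] at ho
  rw [trV_ptN ha, trV_ptN hb] at hv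
  have h1 := tr_pt_check a ha b hb
  have h2 := tr_pt_check b hb a ha
  rw [h1.1 ho (vec3_check.2.2 _ h1.2.1 _ h2.2.1 hv)]

theorem bz_trB {lam : ℕ} (hl : lam < 8) (x : GolayPt) : bz (trB lam x) = dot3 (vec3 lam) (trV x) := by
  obtain ⟨a, ha, rfl⟩ := exists_ptN x
  rw [trB_ptN lam ha, trV_ptN ha]
  exact vec3_check.1 lam hl _ (tr_pt_check a ha a ha).2.1

theorem trV_apply (x : GolayPt) (k : Fin 3) : trV x k = bz (trB (2 ^ k.val) x) := by
  obtain ⟨a, ha, rfl⟩ := exists_ptN x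
  rw [trB_ptN _ ha, trV_ptN ha]
  unfold trb
  rw [vec3_check.2.1 _ (tr_pt_check a ha a ha).2.1 k]
  rfl

/-- the base trio -/
def trT : Finset (Finset GolayPt) := famSet tr_T0

theorem trT_good : GoodFam tr_T0 := tr_T0_check.goodFam

theorem trT_mem : trT ∈ trios := tr_T0_check.mem

/-- two points lie in a common member of a family -/
def SameBlock (F : Finset (Finset GolayPt)) (x y : GolayPt) : Prop := ∃ t ∈ F, x ∈ t ∧ y ∈ t

theorem sameBlock_smul (g : Equiv.Perm GolayPt) (F : Finset (Finset GolayPt)) (x y : GolayPt) :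
    SameBlock (g • F) (g x) (g y) ↔ SameBlock F x y := by
  constructor
  · rintro ⟨t, ht, hx, hy⟩
    obtain ⟨t0, ht0, rfl⟩ := Finset.mem_smul_finset.mp ht
    exact ⟨t0, ht0, (Finset.smul_mem_smul_finset_iff g).mp hx,
      (Finset.smul_mem_smul_finset_iff g).mp hy⟩
  · rintro ⟨t, ht, hx, hy⟩
    exact ⟨g • t, Finset.smul_mem_smul_finset ht, Finset.smul_mem_smul_finset hx,
      Finset.smul_mem_smul_finset hy⟩

theorem sameBlock_famSet {L : List (List ℕ)} (hL : ∀ l ∈ L, GoodSet l) {a b : ℕ} (ha : a < 24)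
    (hb : b < 24) : SameBlock (famSet L) (ptN a) (ptN b) ↔ ∃ t ∈ L, a ∈ t ∧ b ∈ t := by
  constructor
  · rintro ⟨t, ht, hx, hy⟩
    obtain ⟨l, hl, rfl⟩ := mem_famSet.mp ht
    exact ⟨l, hl, (ptN_mem_ptSet (hL l hl) ha).mp hx, (ptN_mem_ptSet (hL l hl) hb).mp hy⟩
  · rintro ⟨l, hl, h1, h2⟩
    exact ⟨ptSet l, mem_famSet.mpr ⟨l, hl, rfl⟩, (ptN_mem_ptSet (hL l hl) ha).mpr h1,
      (ptN_mem_ptSet (hL l hl) hb).mpr h2⟩

theorem sameBlock_trT (x y : GolayPt) : SameBlock trT x y ↔ trO x = trO y := by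
  obtain ⟨a, ha, rfl⟩ := exists_ptN x
  obtain ⟨b, hb, rfl⟩ := exists_ptN y
  unfold trT
  rw [sameBlock_famSet trT_good.1 ha hb, trO_ptN ha, trO_ptN hb]
  exact tr_oct_check a ha b hb

theorem tr_sext_good {lam : ℕ} (hl : lam ∈ tr_lams) : GoodFam (tr_sext lam) :=
  (tr_sext_check lam hl).1.goodFam

theorem sameBlock_sext {lam : ℕ} (hl : lam ∈ tr_lams) (x y : GolayPt) :
    SameBlock (famSet (tr_sext lam)) x y ↔ trO x = trO y ∧ trB lam x = trB lam y := by
  obtain ⟨a, ha, rfl⟩ := exists_ptN x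
  obtain ⟨b, hb, rfl⟩ := exists_ptN y
  rw [sameBlock_famSet (tr_sext_good hl).1 ha hb, trO_ptN ha, trO_ptN hb, trB_ptN _ ha,
    trB_ptN _ hb]
  exact tr_block_check lam hl a ha b hb

/-- the stabilizer of the base trio -/
def trH : Subgroup (Equiv.Perm GolayPt) := M24 ⊓ stabilizer (Equiv.Perm GolayPt) trT

theorem mem_trH {g : Equiv.Perm GolayPt} : g ∈ trH ↔ g ∈ M24 ∧ g • trT = trT := by
  unfold trH
  rw [Subgroup.mem_inf]
  exact Iff.rfl

theorem trO_smul {g : Equiv.Perm GolayPt} (hg : g ∈ trH) (x y : GolayPt) :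
    trO (g x) = trO (g y) ↔ trO x = trO y := by
  rw [← sameBlock_trT, ← sameBlock_trT]
  have h := sameBlock_smul g trT x y
  rw [(mem_trH.mp hg).2] at h
  exact h

/-! ### the sextets refining the trio -/

theorem sextet_refine {S : Finset (Finset GolayPt)} (hS : S ∈ sextets)
    (href : ∀ t ∈ S, ∃ o ∈ trT, t ⊆ o) : ∃ lam ∈ tr_lams, S = famSet (tr_sext lam) := by
  obtain ⟨x, hx, rfl⟩ := (allsext_enum.2.2 S).mp hS
  have hgx := allsext_enum.1 x hx
  have hb : (x.all fun t => tr_T0.any fun o => t.all fun a => o.contains a) = true := by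
    rw [List.all_eq_true]
    intro t ht
    obtain ⟨o, ho, hsub⟩ := href (ptSet t) (mem_famSet.mpr ⟨t, ht, rfl⟩)
    obtain ⟨o', ho', rfl⟩ := mem_famSet.mp ho
    rw [List.any_eq_true]
    refine ⟨o', ho', ?_⟩
    rw [List.all_eq_true]
    intro a ha
    have hgt := hgx.1 t ht
    have h1 : ptN a ∈ ptSet o' := hsub (mem_ptSet.mpr ⟨a, ha, rfl⟩)
    have h2 := (ptN_mem_ptSet (trT_good.1 o' ho') (hgt.2 a ha)).mp h1
    simpa using h2
  have h := tr_refine_check x hx hb
  rw [List.any_eq_true] at h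
  obtain ⟨lam, hlam, he⟩ := h
  exact ⟨lam, hlam, (famEqB_iff hgx (tr_sext_good hlam)).mp he⟩

theorem exists_sext_smul {g : Equiv.Perm GolayPt} (hg : g ∈ trH) {lam : ℕ} (hl : lam ∈ tr_lams) :
    ∃ mu ∈ tr_lams, g • famSet (tr_sext mu) = famSet (tr_sext lam) := by
  obtain ⟨hgM, hgT⟩ := mem_trH.mp hg
  have hinv : g⁻¹ • trT = trT := by
    rw [inv_smul_eq_iff, hgT]
  have hS : g⁻¹ • famSet (tr_sext lam) ∈ sextets :=
    smul_mem_sextets (M24.inv_mem hgM) (tr_sext_check lam hl).1.mem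
  have href : ∀ t ∈ g⁻¹ • famSet (tr_sext lam), ∃ o ∈ trT, t ⊆ o := by
    intro t ht
    obtain ⟨t0, ht0, rfl⟩ := Finset.mem_smul_finset.mp ht
    obtain ⟨l, hl', rfl⟩ := mem_famSet.mp ht0
    obtain ⟨o, ho, hsub⟩ := (tr_sext_check lam hl).2 l hl'
    refine ⟨g⁻¹ • ptSet o, ?_, ?_⟩
    · rw [← hinv]
      exact Finset.smul_mem_smul_finset (mem_famSet.mpr ⟨o, ho, rfl⟩)
    · exact Finset.smul_finset_subset_smul_finset (ptSet_subset_of_forall hsub)
  obtain ⟨mu, hmu, e⟩ := sextet_refine hS href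
  refine ⟨mu, hmu, ?_⟩
  rw [← e, smul_inv_smul]

theorem row_rel {g : Equiv.Perm GolayPt} (hg : g ∈ trH) {lam : ℕ} (hl : lam ∈ tr_lams) :
    ∃ mu ∈ tr_lams, ∀ x y, trO x = trO y →
      (trB lam (g x) = trB lam (g y) ↔ trB mu x = trB mu y) := by
  obtain ⟨mu, hmu, e⟩ := exists_sext_smul hg hl
  refine ⟨mu, hmu, ?_⟩
  intro x y hxy
  have h1 := sameBlock_smul g (famSet (tr_sext mu)) x y
  rw [e, sameBlock_sext hl, sameBlock_sext hmu] at h1
  have hxy' := (trO_smul hg x y).mpr hxy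
  constructor
  · intro h
    exact (h1.mp ⟨hxy', h⟩).2
  · intro h
    exact (h1.mpr ⟨hxy, h⟩).2

theorem tr_lams_lt {lam : ℕ} (hl : lam ∈ tr_lams) : lam < 8 := by
  revert lam
  decide

theorem two_pow_mem (k : Fin 3) : 2 ^ k.val ∈ tr_lams := by
  revert k
  decide

/-! ### the linear part -/

/-- the points of the first octad with the unit vectors as coordinates -/
def trP : Fin 3 → ℕ := ![14, 1, 17]

/-- the linear part of an element of the trio stabilizer -/
def linT (g : Equiv.Perm GolayPt) : Matrix (Fin 3) (Fin 3) (ZMod 2) :=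
  Matrix.of fun i j => trV (g (ptN (trP j))) i + trV (g (ptN 5)) i

theorem trP_check : ∀ j : Fin 3, vec3 (trc (trP j)) + vec3 (trc 5) = Pi.single j 1 ∧
    tro (trP j) = tro 5 ∧ trP j < 24 := by
  decide +kernel

theorem trP_facts (j : Fin 3) : trV (ptN (trP j)) + trV (ptN 5) = Pi.single j 1 ∧
    trO (ptN (trP j)) = trO (ptN 5) := by
  have h := trP_check j
  rw [trV_ptN h.2.2, trV_ptN (by norm_num), trO_ptN h.2.2, trO_ptN (by norm_num)]
  exact ⟨h.1, h.2.1⟩

/-- the affine property -/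
def IsLinOf (g : Equiv.Perm GolayPt) (B : Matrix (Fin 3) (Fin 3) (ZMod 2)) : Prop :=
  ∀ x y, trO x = trO y → trV (g x) + trV (g y) = B.mulVec (trV x + trV y)

theorem eq_linT {g : Equiv.Perm GolayPt} {B : Matrix (Fin 3) (Fin 3) (ZMod 2)} (hB : IsLinOf g B) :
    B = linT g := by
  ext i j
  have h := hB _ _ (trP_facts j).2
  rw [(trP_facts j).1, Matrix.mulVec_single_one] at h
  have h2 := congrFun h i
  unfold linT
  rw [Matrix.of_apply]
  exact h2.symm

theorem exists_isLinOf {g : Equiv.Perm GolayPt} (hg : g ∈ trH) : ∃ B, IsLinOf g B := by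
  have hrow : ∀ k : Fin 3, ∃ mu, mu < 8 ∧ ∀ x y, trO x = trO y →
      trV (g x) k + trV (g y) k = dot3 (vec3 mu) (trV x + trV y) := by
    intro k
    obtain ⟨mu, hmu, h⟩ := row_rel hg (two_pow_mem k)
    refine ⟨mu, tr_lams_lt hmu, ?_⟩
    intro x y hxy
    rw [trV_apply, trV_apply, dot3_add, ← bz_trB (tr_lams_lt hmu), ← bz_trB (tr_lams_lt hmu)]
    exact bz_iff _ _ _ _ (h x y hxy)
  choose mu hmu hrow' using hrow
  refine ⟨Matrix.of fun k j => vec3 (mu k) j, ?_⟩
  intro x y hxy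
  funext k
  rw [Pi.add_apply, hrow' k x y hxy]
  simp only [Matrix.mulVec, dotProduct, Matrix.of_apply, Fin.sum_univ_three, dot3]

theorem linT_spec {g : Equiv.Perm GolayPt} (hg : g ∈ trH) : IsLinOf g (linT g) := by
  obtain ⟨B, hB⟩ := exists_isLinOf hg
  rw [← eq_linT hB]
  exact hB

theorem linT_mul {g h : Equiv.Perm GolayPt} (hg : g ∈ trH) (hh : h ∈ trH) :
    linT (g * h) = linT g * linT h := by
  symm
  apply eq_linT
  intro x y hxy
  rw [Equiv.Perm.mul_apply, Equiv.Perm.mul_apply, linT_spec hg _ _ ((trO_smul hh x y).mpr hxy),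
    linT_spec hh x y hxy, Matrix.mulVec_mulVec]

theorem linT_one : linT 1 = 1 :=
  (eq_linT (g := 1) (B := 1) (fun x y _ => by rw [Matrix.one_mulVec]; rfl)).symm

/-! ### the kernel -/

theorem trV_of_lin_one {g : Equiv.Perm GolayPt} (hg : g ∈ trH) (h1 : linT g = 1) {x y : GolayPt}
    (hxy : trO x = trO y) : trV (g x) = trV x + (trV y + trV (g y)) := by
  have h := linT_spec hg x y hxy
  rw [h1, Matrix.one_mulVec] at h
  have e : trV (g x) = trV (g x) + trV (g y) + trV (g y) := by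
    rw [add_assoc, add_self_vec3, add_zero]
  rw [e, h, add_assoc]

theorem trK_sq {g : Equiv.Perm GolayPt} (hg : g ∈ trH) (h1 : linT g = 1)
    (ho : ∀ x, trO (g x) = trO x) : g * g = 1 := by
  apply Equiv.ext
  intro x
  rw [Equiv.Perm.mul_apply, Equiv.Perm.one_apply]
  apply tr_pt_ext
  · rw [ho, ho]
  · rw [trV_of_lin_one hg h1 (ho x), add_comm (trV x), ← add_assoc, add_self_vec3, zero_add]

theorem tr_oct_cases : (∀ a, a < 24 → (a ∈ ag_O0 ↔ tro a = 0)) ∧ tro 10 = 1 ∧ tro 19 = 2 := by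
  decide +kernel

theorem trK_inj {g g' : Equiv.Perm GolayPt} (hg : g ∈ trH) (hg' : g' ∈ trH) (h1 : linT g = 1)
    (h1' : linT g' = 1) (ho : ∀ x, trO (g x) = trO x) (ho' : ∀ x, trO (g' x) = trO x)
    (e1 : trV (g (ptN 10)) = trV (g' (ptN 10))) (e2 : trV (g (ptN 19)) = trV (g' (ptN 19))) :
    g = g' := by
  have hx : ∀ x ∉ agO, g x = g' x := by
    intro x hx
    apply tr_pt_ext
    · rw [ho, ho']
    · obtain ⟨a, ha, rfl⟩ := exists_ptN x
      have h0 : tro a ≠ 0 := fun h => hx (mem_ptSet.mpr ⟨a, (tr_oct_cases.1 a ha).mpr h, rfl⟩)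
      have h3 := (tr_pt_check a ha a ha).2.2
      have hcase : tro a = 1 ∨ tro a = 2 := by omega
      rcases hcase with hc | hc
      · have hxy : trO (ptN a) = trO (ptN 10) := by
          rw [trO_ptN ha, trO_ptN (by norm_num), hc, tr_oct_cases.2.1]
        rw [trV_of_lin_one hg h1 hxy, trV_of_lin_one hg' h1' hxy, e1]
      · have hxy : trO (ptN a) = trO (ptN 19) := by
          rw [trO_ptN ha, trO_ptN (by norm_num), hc, tr_oct_cases.2.2]
        rw [trV_of_lin_one hg h1 hxy, trV_of_lin_one hg' h1' hxy, e2]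
  have h2 : g'⁻¹ * g = 1 := by
    apply eq_one_of_fix_comp (M24.mul_mem (M24.inv_mem (mem_trH.mp hg').1) (mem_trH.mp hg).1)
    intro x hx'
    rw [Equiv.Perm.mul_apply, hx x hx', c2b_inv_apply]
  exact (inv_mul_eq_one.mp h2).symm

theorem card_GL_three_two : Nat.card (GL (Fin 3) (ZMod 2)) = 168 := by
  have h := Matrix.card_GL_field (𝔽 := ZMod 2) (n := 3)
  rw [h]
  simp [Fin.prod_univ_three, ZMod.card]

end Cfsg.Agent.Lib.Helper28
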