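import Cfsg.Agent.Lib.Helper28.TrioStab

set_option autoImplicit false

/-!
The structure of the stabilizer of a trio in `M24`: it induces the symmetric group on the three
octads and has an elementary abelian normal subgroup of order `64` with quotient
`GL(3, 2) × S₃`.
-/

namespace Cfsg.Agent.Lib.Helper28

open Cfsg MulAction
open scoped Pointwise

section General

variable {T : Finset (Finset GolayPt)} {g0 : Equiv.Perm GolayPt}

theorem smul_mem_of_stab (x : ↥(stabilizer M24 T)) {o : Finset GolayPt} (ho : o ∈ T) :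
    (x.1.1 : Equiv.Perm GolayPt) • o ∈ T := by
  have hx : (x.1.1 : Equiv.Perm GolayPt) • T = T := x.2
  have h := Finset.smul_mem_smul_finset (a := (x.1.1 : Equiv.Perm GolayPt)) ho
  rwa [hx] at h

theorem inv_smul_mem_of_stab (x : ↥(stabilizer M24 T)) {o : Finset GolayPt} (ho : o ∈ T) :
    (x.1.1 : Equiv.Perm GolayPt)⁻¹ • o ∈ T := by
  have hx : (x.1.1 : Equiv.Perm GolayPt) • T = T := x.2
  have hx' : (x.1.1 : Equiv.Perm GolayPt)⁻¹ • T = T := inv_smul_eq_iff.mpr hx.symm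
  have h := Finset.smul_mem_smul_finset (a := (x.1.1 : Equiv.Perm GolayPt)⁻¹) ho
  rwa [hx'] at h

/-- the action of the stabilizer on the octads of the trio -/
def trPerm (T : Finset (Finset GolayPt)) : ↥(stabilizer M24 T) →* Equiv.Perm ↥T where
  toFun x :=
    { toFun := fun o => ⟨(x.1.1 : Equiv.Perm GolayPt) • o.1, smul_mem_of_stab x o.2⟩
      invFun := fun o => ⟨(x.1.1 : Equiv.Perm GolayPt)⁻¹ • o.1, inv_smul_mem_of_stab x o.2⟩
      left_inv := fun o => Subtype.ext (inv_smul_smul _ _)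
      right_inv := fun o => Subtype.ext (smul_inv_smul _ _) }
  map_one' := by
    apply Equiv.ext
    intro o
    apply Subtype.ext
    show (1 : Equiv.Perm GolayPt) • o.1 = o.1
    exact one_smul _ _
  map_mul' x y := by
    apply Equiv.ext
    intro o
    apply Subtype.ext
    show ((x.1.1 : Equiv.Perm GolayPt) * (y.1.1 : Equiv.Perm GolayPt)) • o.1 =
      (x.1.1 : Equiv.Perm GolayPt) • ((y.1.1 : Equiv.Perm GolayPt) • o.1)
    exact mul_smul _ _ _

theorem trPerm_apply (x : ↥(stabilizer M24 T)) (o : ↥T) :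
    ((trPerm T x o : ↥T) : Finset GolayPt) = (x.1.1 : Equiv.Perm GolayPt) • o.1 := rfl

theorem conj_mem_trH (hg0 : g0 ∈ M24) (hT : g0 • T = trT) (x : ↥(stabilizer M24 T)) :
    g0 * (x.1.1 : Equiv.Perm GolayPt) * g0⁻¹ ∈ trH := by
  have hx : (x.1.1 : Equiv.Perm GolayPt) • T = T := x.2
  refine mem_trH.mpr ⟨M24.mul_mem (M24.mul_mem hg0 x.1.2) (M24.inv_mem hg0), ?_⟩
  rw [← hT, mul_smul, mul_smul, inv_smul_smul, hx]

/-- the linear part, as a homomorphism to matrices -/
def trLin (hg0 : g0 ∈ M24) (hT : g0 • T = trT) :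
    ↥(stabilizer M24 T) →* Matrix (Fin 3) (Fin 3) (ZMod 2) where
  toFun x := linT (g0 * (x.1.1 : Equiv.Perm GolayPt) * g0⁻¹)
  map_one' := by
    show linT (g0 * 1 * g0⁻¹) = 1
    rw [mul_one, mul_inv_cancel, linT_one]
  map_mul' x y := by
    show linT (g0 * ((x.1.1 : Equiv.Perm GolayPt) * (y.1.1 : Equiv.Perm GolayPt)) * g0⁻¹) = _
    have e : g0 * ((x.1.1 : Equiv.Perm GolayPt) * (y.1.1 : Equiv.Perm GolayPt)) * g0⁻¹ =
        (g0 * (x.1.1 : Equiv.Perm GolayPt) * g0⁻¹) * (g0 * (y.1.1 : Equiv.Perm GolayPt) * g0⁻¹) := by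
      group
    rw [e, linT_mul (conj_mem_trH hg0 hT x) (conj_mem_trH hg0 hT y)]

theorem trLin_apply (hg0 : g0 ∈ M24) (hT : g0 • T = trT) (x : ↥(stabilizer M24 T)) :
    trLin hg0 hT x = linT (g0 * (x.1.1 : Equiv.Perm GolayPt) * g0⁻¹) := rfl

/-- an element acting trivially on the octads of the trio -/
theorem trO_of_trPerm_one (hT : g0 • T = trT) {x : ↥(stabilizer M24 T)}
    (hx : trPerm T x = 1) (p : GolayPt) :
    trO ((g0 * (x.1.1 : Equiv.Perm GolayPt) * g0⁻¹) p) = trO p := by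
  obtain ⟨o', ho', hp, -⟩ := (sameBlock_trT p p).mpr rfl
  have ho : g0⁻¹ • o' ∈ T := by
    have h := Finset.smul_mem_smul_finset (a := g0⁻¹) ho'
    rwa [← hT, inv_smul_smul] at h
  have hfix : (x.1.1 : Equiv.Perm GolayPt) • (g0⁻¹ • o') = g0⁻¹ • o' := by
    have h := congrArg (fun e : Equiv.Perm ↥T => ((e ⟨g0⁻¹ • o', ho⟩ : ↥T) : Finset GolayPt)) hx
    exact h
  have hgo : (g0 * (x.1.1 : Equiv.Perm GolayPt) * g0⁻¹) • o' = o' := by
    rw [mul_smul, mul_smul, hfix, smul_inv_smul]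
  rw [← sameBlock_trT]
  refine ⟨o', ho', ?_, hp⟩
  have h := Finset.smul_mem_smul_finset (a := g0 * (x.1.1 : Equiv.Perm GolayPt) * g0⁻¹) hp
  rwa [hgo] at h

theorem conj_inj {x y : ↥(stabilizer M24 T)}
    (h : g0 * (x.1.1 : Equiv.Perm GolayPt) * g0⁻¹ = g0 * (y.1.1 : Equiv.Perm GolayPt) * g0⁻¹) :
    x = y := by
  apply Subtype.ext
  apply Subtype.ext
  exact mul_left_cancel (mul_right_cancel h)

theorem card_fun_three : Nat.card (Fin 3 → ZMod 2) = 8 := by
  rw [Nat.card_eq_fintype_card, Fintype.card_fun, ZMod.card, Fintype.card_fin]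
  norm_num

/-- the kernel has at most `64` elements -/
theorem card_ker_le (hg0 : g0 ∈ M24) (hT : g0 • T = trT) :
    Nat.card ((trLin hg0 hT).toHomUnits.prod (trPerm T)).ker ≤ 64 := by
  have hmem : ∀ x : ((trLin hg0 hT).toHomUnits.prod (trPerm T)).ker,
      linT (g0 * (x.1.1.1 : Equiv.Perm GolayPt) * g0⁻¹) = 1 ∧ trPerm T x.1 = 1 := by
    intro x
    have h := MonoidHom.mem_ker.mp x.2
    rw [MonoidHom.prod_apply, Prod.mk_eq_one] at h
    refine ⟨?_, h.2⟩
    have h1 := congrArg Units.val h.1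
    rw [MonoidHom.coe_toHomUnits, trLin_apply] at h1
    exact h1
  let φ : ((trLin hg0 hT).toHomUnits.prod (trPerm T)).ker → (Fin 3 → ZMod 2) × (Fin 3 → ZMod 2) :=
    fun x => (trV ((g0 * (x.1.1.1 : Equiv.Perm GolayPt) * g0⁻¹) (ptN 10)),
      trV ((g0 * (x.1.1.1 : Equiv.Perm GolayPt) * g0⁻¹) (ptN 19)))
  have hφ : Function.Injective φ := by
    intro x y hxy
    have h1 := (Prod.ext_iff.mp hxy).1
    have h2 := (Prod.ext_iff.mp hxy).2
    apply Subtype.ext
    apply conj_inj (g0 := g0)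
    exact trK_inj (conj_mem_trH hg0 hT x.1) (conj_mem_trH hg0 hT y.1) (hmem x).1 (hmem y).1
      (trO_of_trPerm_one hT (hmem x).2) (trO_of_trPerm_one hT (hmem y).2) h1 h2
  have hle := Nat.card_le_card_of_injective φ hφ
  rw [Nat.card_prod, card_fun_three] at hle
  exact hle

end General

/-- the structure of the stabilizer of a trio -/
theorem trio_stab_structure (T : Finset (Finset GolayPt)) (hT : T ∈ trios) :
    (∀ e : Equiv.Perm ↥T, ∃ g ∈ stabilizer M24 T, ∀ o : ↥T,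
      (g : Equiv.Perm GolayPt) • (o : Finset GolayPt) = ((e o : ↥T) : Finset GolayPt)) ∧
    ∃ (N : Subgroup ↥(stabilizer M24 T)) (_ : N.Normal), Nat.card N = 64 ∧
      (∀ x ∈ N, x * x = 1) ∧
      Nonempty (↥(stabilizer M24 T) ⧸ N ≃* GL (Fin 3) (ZMod 2) × Equiv.Perm (Fin 3)) := by
  classical
  obtain ⟨g0, hg0, hg0T⟩ := M24_trio_transitive hT trT_mem
  have hker := card_ker_le hg0 hg0T
  have hcr := card_ker_mul_card_range ((trLin hg0 hg0T).toHomUnits.prod (trPerm T))
  rw [card_stabilizer_trio hT] at hcr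
  have hT3 : Fintype.card ↥T = 3 := by rw [Fintype.card_coe]; exact hT.1
  have htarget : Nat.card (GL (Fin 3) (ZMod 2) × Equiv.Perm ↥T) = 1008 := by
    rw [Nat.card_prod, card_GL_three_two, Nat.card_eq_fintype_card, Fintype.card_perm, hT3]
    rfl
  have hrle : Nat.card ((trLin hg0 hg0T).toHomUnits.prod (trPerm T)).range ≤ 1008 := by
    rw [← htarget]
    exact Subgroup.card_le_card_group _
  have hk64 : Nat.card ((trLin hg0 hg0T).toHomUnits.prod (trPerm T)).ker = 64 := by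
    have h1 : Nat.card ((trLin hg0 hg0T).toHomUnits.prod (trPerm T)).ker *
        Nat.card ((trLin hg0 hg0T).toHomUnits.prod (trPerm T)).range ≤
        Nat.card ((trLin hg0 hg0T).toHomUnits.prod (trPerm T)).ker * 1008 :=
      Nat.mul_le_mul_left _ hrle
    omega
  have hr : Nat.card ((trLin hg0 hg0T).toHomUnits.prod (trPerm T)).range = 1008 := by
    rw [hk64] at hcr
    omega
  have htop : ((trLin hg0 hg0T).toHomUnits.prod (trPerm T)).range = ⊤ := by
    rw [← Subgroup.card_eq_iff_eq_top, hr, htarget]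
  have hsurj : Function.Surjective ((trLin hg0 hg0T).toHomUnits.prod (trPerm T)) :=
    MonoidHom.range_eq_top.mp htop
  refine ⟨?_, ?_⟩
  · intro e
    obtain ⟨x, hx⟩ := hsurj (1, e)
    have h2 : trPerm T x = e := congrArg Prod.snd hx
    refine ⟨x.1, x.2, fun o => ?_⟩
    rw [← h2]
    rfl
  · refine ⟨((trLin hg0 hg0T).toHomUnits.prod (trPerm T)).ker, inferInstance, hk64, ?_, ?_⟩
    · intro x hx
      have h := MonoidHom.mem_ker.mp hx
      rw [MonoidHom.prod_apply, Prod.mk_eq_one] at h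
      have h1 := congrArg Units.val h.1
      rw [MonoidHom.coe_toHomUnits, trLin_apply] at h1
      have hsq := trK_sq (conj_mem_trH hg0 hg0T x) h1 (trO_of_trPerm_one hg0T h.2)
      apply conj_inj (g0 := g0)
      show g0 * ((x.1.1 : Equiv.Perm GolayPt) * (x.1.1 : Equiv.Perm GolayPt)) * g0⁻¹ =
        g0 * 1 * g0⁻¹
      have e : g0 * ((x.1.1 : Equiv.Perm GolayPt) * (x.1.1 : Equiv.Perm GolayPt)) * g0⁻¹ =
          (g0 * (x.1.1 : Equiv.Perm GolayPt) * g0⁻¹) * (g0 * (x.1.1 : Equiv.Perm GolayPt) * g0⁻¹) := by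
        group
      rw [e, hsq]
      group
    · exact ⟨(QuotientGroup.quotientKerEquivOfSurjective _ hsurj).trans
        (MulEquiv.prodCongr (MulEquiv.refl _)
          (Equiv.permCongrHom (Fintype.equivFinOfCardEq hT3)))⟩

end Cfsg.Agent.Lib.Helper28
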