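import Mathlib
import Cfsg.Agent.Lib.Helper28.USpDefs
import Cfsg.Agent.Lib.Helper27.S5700FONORM
import Cfsg.Agent.Lib.Helper13.S5700FOIV
import Cfsg.Agent.Lib.Helper28.S5665FOKLIN
import Cfsg.Agent.Lib.Helper28.S5665FOSYL
import Cfsg.Agent.Lib.Helper6.S5665FOSTRICT
import Cfsg.Agent.H5.S5665FOEND
import Cfsg.Agent.Lib.Helper20.S5665FOGEOM
import Cfsg.Agent.Lib.Helper26.S5665FOCOMM
import Cfsg.Agent.Lib.Helper28.S5665FOSTART

/-!
# S5665 (helper28): `N_Sp(K)` of type `GU_m(q).2` is maximal in `Sp_2m(q)`, `q` odd, `m ≥ 7`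

Assembly of the farmed-out pieces (helper5, helper6, helper20, helper23, helper26, helper28).
`M ≤ Sp` contains all unitary transvections `tau y s` and some `g` with `g⁻¹ θ g ∉ K`.  A conjugate
`E(t) = T(a,t) T(b,-t/d)` of a unitary transvection and a unitary transvection `tau z` generate a
group in which the Sylow trick gives `δ` with `δ a = c z`, `δ b = b`; hence the split double
transvections `T(b,t) T(c θ z, -t)` lie in `M`, and one commutator with a unitary transvection gives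
a full transvection group; the unitary transvections spread it over the whole space.
-/

set_option autoImplicit false
set_option linter.unusedSectionVars false
set_option linter.unusedVariables false

namespace Cfsg.Agent.Lib.Helper28.USpMain

open Matrix Module QuadraticMap Cfsg.Agent.Lib.Helper6 Cfsg.Agent.Lib.Helper13
open Cfsg.Agent.Lib.Helper28.SpSubf Cfsg.Agent.Lib.Helper28.USp

universe u
variable {F : Type u} [Field F] [Fintype F] {m : ℕ}
variable {θ : Matrix (Fin m ⊕ Fin m) (Fin m ⊕ Fin m) F} {d : F}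
variable {M : Subgroup (GL (Fin m ⊕ Fin m) F)}

local notation "ff" => Cfsg.sympForm m F
local notation "ι" => (Fin m ⊕ Fin m)


theorem spX_all (hU : UStrSp θ d) (hm : 7 ≤ m) (hMS : M ≤ Cfsg.spGL m F)
    (hτ : ∀ y : ι → F, Nq θ y = 0 → ∀ s : F, tau θ d y s ∈ M)
    (r : ι → F) (hr0 : r ≠ 0) (hr : SpX M r) : ∀ v : ι → F, SpX M v :=
  Cfsg.H5.S5665END.spX_all_aux hU hMS
    (fun p₁ p₂ p₃ p₀ t₁ t₂ hp => Cfsg.Agent.Lib.Helper20.S5665GEOM.exists_iso hU hm p₁ p₂ p₃ p₀ t₁ t₂ hp) hτ r hr0 hr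


/-- core: an overgroup of the unitary transvections containing an element not normalising `K` -/
theorem core (hU : UStrSp θ d) (hm : 7 ≤ m) (hMS : M ≤ Cfsg.spGL m F)
    (hτ : ∀ y : ι → F, Nq θ y = 0 → ∀ s : F, tau θ d y s ∈ M)
    (g : GL ι F) (hgM : g ∈ M)
    (hgK : ¬ ∃ a b : F, ((g⁻¹ : GL ι F) : Matrix ι ι F) * θ * (g : Matrix ι ι F) =
      a • (1 : Matrix ι ι F) + b • θ) : Cfsg.spGL m F ≤ M := by
  have hd := hU.d_ne
  obtain ⟨y, hy0, hy, hya⟩ := Cfsg.Agent.Lib.Helper28.S5665FOSTART.exists_start hU hm g hgK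
  have hgS : g ∈ Cfsg.spGL m F := hMS hgM
  obtain ⟨a, ha⟩ : ∃ a, a = (g : Matrix ι ι F) *ᵥ y := ⟨_, rfl⟩
  obtain ⟨b, hb⟩ : ∃ b, b = (g : Matrix ι ι F) *ᵥ (θ *ᵥ y) := ⟨_, rfl⟩
  rw [← ha, ← hb] at hya
  have hab : ff a b = 0 := by
    rw [ha, hb]
    have := hgS y (θ *ᵥ y)
    exact this.trans hy
  have hb0 : b ≠ 0 := by
    intro h0
    have h1 : ((g⁻¹ : GL ι F) : Matrix ι ι F) *ᵥ b = θ *ᵥ y := by rw [hb, inv_mulVec_mulVec]
    rw [h0, mulVec_zero] at h1
    exact hU.theta_ne_zero hy0 h1.symm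
  -- the conjugates of the unitary transvections with centre `y`
  have hE : ∀ t : F, sympTransvGL a t * sympTransvGL b (-(t / d)) ∈ M := by
    intro t
    have h1 : g * tau θ d y t * g⁻¹ ∈ M := M.mul_mem (M.mul_mem hgM (hτ y hy t)) (M.inv_mem hgM)
    have h2 : g * tau θ d y t * g⁻¹ = sympTransvGL a t * sympTransvGL b (-(t / d)) := by
      unfold tau
      rw [ha, hb, ← conj_sympTransvGL g hgS y t, ← conj_sympTransvGL g hgS (θ *ᵥ y) _]
      group
    rwa [h2] at h1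
  -- first geometric step
  obtain ⟨z, hz, hzb, hzθa, hzθb, hza, hzT⟩ :=
    Cfsg.Agent.Lib.Helper20.S5665GEOM.exists_iso hU hm b (θ *ᵥ a) (θ *ᵥ b) a b (θ *ᵥ b) hya
  have hzw : ff z (θ *ᵥ z) = 0 := hz
  have hwa : ff (θ *ᵥ z) a = 0 := by rw [hU.adj, hzθa, neg_zero]
  have hwb : ff (θ *ᵥ z) b = 0 := by rw [hU.adj, hzθb, neg_zero]
  -- Sylow trick
  have hE1 : sympTransvGL a 1 * sympTransvGL b (-(1 / d)) ∈ M := hE 1
  have hT1 : sympTransvGL z 1 * sympTransvGL (θ *ᵥ z) (-(1 / d)) ∈ M := hτ z hz 1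
  obtain ⟨δ, hδM, c, hc, hδa, hδb⟩ :=
    Cfsg.Agent.Lib.Helper28.S5665FOSYL.exists_sylow_conj2 hMS a b z (θ *ᵥ z) _ _ hab hzw hzb hwa hwb hza hE1 hT1
  have hδS : δ ∈ Cfsg.spGL m F := hMS hδM
  have hbz : ff b z = 0 := by rw [sympForm_swap, hzb, neg_zero]
  -- the split double transvections
  obtain ⟨u₂, hu₂⟩ : ∃ u₂, u₂ = c • (θ *ᵥ z) := ⟨_, rfl⟩
  have hsplit : ∀ t : F, sympTransvGL b t * sympTransvGL u₂ (-t) ∈ M := by
    intro t
    have h1 : δ * (sympTransvGL a (-(d * t)) * sympTransvGL b (-(-(d * t) / d))) * δ⁻¹ ∈ M :=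
      M.mul_mem (M.mul_mem hδM (hE _)) (M.inv_mem hδM)
    have h2 : δ * (sympTransvGL a (-(d * t)) * sympTransvGL b (-(-(d * t) / d))) * δ⁻¹ =
        sympTransvGL z (c * c * (-(d * t))) * sympTransvGL b t := by
      have e1 : -(-(d * t) / d) = t := by field_simp
      rw [e1, ← sympTransvGL_smul, ← hδa, ← conj_sympTransvGL δ hδS a _]
      conv_rhs => rw [← hδb, ← conj_sympTransvGL δ hδS b t]
      group
    rw [h2] at h1
    have h3 : tau θ d z (-(c * c * (-(d * t)))) ∈ M := hτ z hz _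
    have h4 := M.mul_mem h1 h3
    have h5 : sympTransvGL z (c * c * (-(d * t))) * sympTransvGL b t *
        tau θ d z (-(c * c * (-(d * t)))) = sympTransvGL b t * sympTransvGL u₂ (-t) := by
      unfold tau
      rw [hu₂, sympTransvGL_smul, sympTransvGL_comm hzb, mul_assoc, ← mul_assoc (sympTransvGL z _),
        sympTransvGL_mul, add_neg_cancel, sympTransvGL_zero, one_mul]
      congr 2
      field_simp
    rwa [h5] at h4
  -- properties of `u₁ = b`, `u₂ = c θ z`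
  have h12 : ff b u₂ = 0 := by
    rw [hu₂, sympForm_smul_right, hU.ff_t_symm z b, hzθb, mul_zero]
  have hu₂0 : u₂ ≠ 0 := by
    rw [hu₂]
    exact smul_ne_zero hc (hU.theta_ne_zero (by
      rintro rfl
      exact hza (sympForm_zero_left a)))
  have hz0 : z ≠ 0 := by
    rintro rfl
    exact hza (sympForm_zero_left a)
  have hbK : b ∉ Kl θ u₂ := by
    intro hmem
    obtain ⟨α, β, hαβ⟩ := mem_Kl.mp hmem
    have hbz' : b ∈ Kl θ z := by
      rw [mem_Kl]
      refine ⟨β * c * d, α * c, ?_⟩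
      rw [hαβ, hu₂, mulVec_smul, hU.tt]
      module
    have := hU.ustr.Kl_symm hbz' hb0
    apply hzT
    rw [← Kl]
    exact this
  -- second geometric step
  have hp := Cfsg.Agent.Lib.Helper28.S5665FOKLIN.not_mem_span_of_not_mem_Kl hU b u₂ hu₂0 hbK
  obtain ⟨z', hz', hz'1, hz'2, hz'3, hz'0, -⟩ :=
    Cfsg.Agent.Lib.Helper20.S5665GEOM.exists_iso hU hm (θ *ᵥ b) (θ *ᵥ u₂) (b - u₂) b 0 0 hp
  have hX : SpX M (b - u₂) := by
    refine Cfsg.Agent.Lib.Helper26.S5665COMM.transv_of_split hU hMS b u₂ z' h12 hz' ?_ ?_ ?_ hz'0 hsplit (hτ z' hz')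
    · rw [hU.adj, hz'1, neg_zero]
    · rw [hU.adj, hz'2, neg_zero]
    · rw [sympForm_sub_right] at hz'3
      exact sub_eq_zero.mp hz'3
  have hr0 : b - u₂ ≠ 0 := by
    intro h0
    apply hbK
    rw [sub_eq_zero.mp h0]
    exact self_mem_Kl θ u₂
  have hall := spX_all hU hm hMS hτ (b - u₂) hr0 hX
  exact spGL_le_of_transvections M (fun v c => hall v c)

/-- the abstract theorem -/
theorem ustrsp_maximal (hU : UStrSp θ d) (hm : 7 ≤ m) (K : Subalgebra F (Matrix ι ι F))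
    (hKθ : ∀ k : Matrix ι ι F, k ∈ K ↔ ∃ a b : F, k = a • (1 : Matrix ι ι F) + b • θ) :
    Cfsg.Geo.IsMaximalIn (Cfsg.spGL m F) (Cfsg.Geo.subalgebraNormalizer K ⊓ Cfsg.spGL m F) := by
  refine ⟨lt_of_le_of_ne inf_le_right ?_, ?_⟩
  · intro heq
    obtain ⟨g, hgS, hgN⟩ := Cfsg.Agent.Lib.Helper6.S5665FOSTRICT.exists_not_normalizer hU hm K hKθ
    apply hgN
    have h1 : g ∈ Cfsg.Geo.subalgebraNormalizer K ⊓ Cfsg.spGL m F := by
      rw [heq]
      exact hgS
    exact h1.1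
  · intro M hHM hMS
    by_cases hMH : M ≤ Cfsg.Geo.subalgebraNormalizer K ⊓ Cfsg.spGL m F
    · exact Or.inl (le_antisymm hMH hHM)
    right
    refine le_antisymm hMS ?_
    obtain ⟨g, hgM, hgH⟩ := SetLike.not_le_iff_exists.mp hMH
    have hgS := hMS hgM
    have hgN : g ∉ Cfsg.Geo.subalgebraNormalizer K := fun hk => hgH ⟨hk, hgS⟩
    have hτ : ∀ y : ι → F, Nq θ y = 0 → ∀ s : F, tau θ d y s ∈ M := by
      intro y hy s
      apply hHM
      exact ⟨mem_normalizer_of_comm K hKθ _ (hU.tau_comm_theta hy s), tau_mem_sp θ d y s⟩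
    have hgK : ¬ ∃ a b : F, ((g⁻¹ : GL ι F) : Matrix ι ι F) * θ * (g : Matrix ι ι F) =
        a • (1 : Matrix ι ι F) + b • θ := by
      rintro ⟨a, b, hab⟩
      apply hgN
      have h1 : g⁻¹ ∈ Cfsg.Geo.subalgebraNormalizer K := by
        apply Cfsg.Agent.Lib.Helper27.S5700FONORM.mem_normalizer_of_conj hU.ustr K hKθ g⁻¹ a b
        rw [inv_inv]
        exact hab
      have := (Cfsg.Geo.subalgebraNormalizer K).inv_mem h1
      rwa [inv_inv] at this
    exact core hU hm hMS hτ g hgM hgK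

end Cfsg.Agent.Lib.Helper28.USpMain
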